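import Cfsg.Statements.S0165
import Cfsg.Agent.Blocks.DefectGroup
import Cfsg.Agent.Blocks.Glauberman
import Cfsg.Agent.CharBasics.Abstract

set_option autoImplicit false
open Cfsg CfsgLib.CharBasics CfsgLib.Blocks
open scoped ComplexConjugate

namespace Cfsg.Agent.S0165

/-- If p ^ n is the exact power of the prime p dividing the order of a finite group and p ^ n divides the degree of an irreducible complex representation, then its character vanishes at every element of order divisible by p. -/
theorem result {G : Type*} [Group G] [Finite G] {V : Type*} [AddCommGroup V] [Module ℂ V] [FiniteDimensional ℂ V] (ρ : Representation ℂ G V) [ρ.IsIrreducible] (p n : ℕ) (hp : p.Prime) (hn : p ^ n ∣ Nat.card G) (hn' : ¬ p ^ (n + 1) ∣ Nat.card G) (hdeg : p ^ n ∣ Module.finrank ℂ V) (x : G) (hx : p ∣ orderOf x) : ρ.character x = 0 := by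
  classical
  haveI := Fintype.ofFinite G
  haveI := Fintype.ofFinite (IrrCharacter G)
  obtain ⟨χ, hχ⟩ := exists_irr ρ
  obtain ⟨M, hM⟩ := exists_modular hp
  have hd : charDegree (χ : G → ℂ) = Module.finrank ℂ V := by rw [hχ, charDegree_rep]
  obtain ⟨m, hm⟩ := hn
  obtain ⟨c, hc⟩ := hdeg
  have hpm : ¬ p ∣ m := fun h => hn' (by rw [hm, pow_succ]; exact mul_dvd_mul_left _ h)
  have hm0 : (m : ℂ) ≠ 0 := Nat.cast_ne_zero.2 fun h => hpm (h ▸ dvd_zero p)
  have hcoeff : ∀ g, blockCoeff ({χ} : Set (IrrCharacter G)) g = (m : ℂ)⁻¹ * ((c : ℂ) * conj ((χ : G → ℂ) g)) := by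
    intro g
    rw [blockCoeff, finsum_mem_singleton, apply_one (isCharacter_of_irr χ.2), hd, hc, hm]
    push_cast
    have : (p : ℂ) ≠ 0 := Nat.cast_ne_zero.2 hp.ne_zero
    field_simp
  have hR : ∀ g, MemLocalRing M ((blockElt ({χ} : Set (IrrCharacter G))).coeff g) := fun g => by
    rw [coeff_blockElt, hcoeff]
    exact memLocalRing_mul hM (memLocalRing_natCast_inv hM hpm)
      (memLocalRing_mul hM (memLocalRing_natCast hM c) (memLocalRing_conj hM χ g))
  have h0 := classTrace_idempotent_eq_zero hM (isIdempotentElem_blockElt ({χ} : Set (IrrCharacter G))) hR hx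
  rw [classTrace_isClassElt (isClassElt_blockElt _), coeff_blockElt, hcoeff] at h0
  have hc0 : (c : ℂ) ≠ 0 := Nat.cast_ne_zero.2 fun h => (charDegree_pos χ.2).ne' (by rw [hd, hc, h, mul_zero])
  have hi0 : ((Subgroup.centralizer ({x} : Set G)).index : ℂ) ≠ 0 := Nat.cast_ne_zero.2 Subgroup.index_ne_zero_of_finite
  simp only [mul_eq_zero, hi0, inv_eq_zero, hm0, hc0, false_or, map_eq_zero] at h0
  rw [← hχ]; exact h0

end Cfsg.Agent.S0165
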