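import Cfsg.Statements.S0887
import Cfsg.Agent.Clifford.Basic
import Cfsg.Agent.Clifford.ProjDegree

set_option autoImplicit false
open Cfsg

namespace Cfsg.Agent.S0887

/-- Let N be a normal subgroup of the finite group G, χ an irreducible character of G and ϑ an irreducible character of N having nonzero inner product with the restriction of χ. If χ 1 = c and ϑ 1 = d as natural numbers, then d divides c and c / d divides the index of N. -/
theorem result {G : Type*} [Group G] [Fintype G] (N : Subgroup G) [N.Normal] [Fintype N] (χ : G → ℂ) (hχ : Cfsg.IsIrrCharacter G χ) (ϑ : N → ℂ) (hϑ : Cfsg.IsIrrCharacter N ϑ) (hcon : Cfsg.classInner (fun n : N => χ n) ϑ ≠ 0) (c d : ℕ) (hc : χ 1 = c) (hd : ϑ 1 = d) : d ∣ c ∧ c / d ∣ N.index := by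
  classical
  obtain ⟨ψ, hψ, hind, -, hψN⟩ := CfsgLib.Clifford.exists_inertia_correspondent hχ hϑ hcon
    (CfsgLib.Clifford.inertia ϑ) rfl
    (CfsgLib.Clifford.le_inertia (CfsgLib.CharBasics.isClassFunction (CfsgLib.CharBasics.isCharacter_of_irr hϑ)))
  set T := CfsgLib.Clifford.inertia (G := G) ϑ with hT
  have hNT : N ≤ T :=
    CfsgLib.Clifford.le_inertia (CfsgLib.CharBasics.isClassFunction (CfsgLib.CharBasics.isCharacter_of_irr hϑ))
  obtain ⟨e, he⟩ := CfsgLib.CharBasics.classInner_characters_nat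
    (CfsgLib.CharBasics.isCharacter_restrict (CfsgLib.CharBasics.isCharacter_of_irr hχ) N)
    (CfsgLib.CharBasics.isCharacter_of_irr hϑ)
  have h1 := CfsgLib.Clifford.restrict_one_eq hχ hϑ hcon
  rw [he, hc, hd, ← Nat.cast_mul, ← Nat.cast_mul, Nat.cast_inj] at h1
  refine ⟨⟨e * T.index, by rw [h1]; ring⟩, ?_⟩
  have hd0 : 0 < d := by
    rcases Nat.eq_zero_or_pos d with rfl | h
    · exact absurd (by rw [hd, Nat.cast_zero]) (CfsgLib.CharBasics.apply_one_ne_zero hϑ)
    · exact h
  rw [h1, Nat.mul_div_cancel _ hd0]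
  obtain ⟨m, ρ, hρ, hρψ⟩ := hψ
  obtain ⟨k, σ, hσ, hσϑ⟩ := hϑ
  let eq' : N.subgroupOf T ≃* N := Subgroup.subgroupOfEquivOfLe hNT
  have hdvd : e ∣ (N.subgroupOf T).index := by
    refine CfsgLib.Clifford.mult_dvd_index hρ
      (σ := σ.comp eq'.toMonoidHom) (CfsgLib.Clifford.isIrreducible_comp hσ eq'.surjective) ?_ e ?_
    · intro g n
      have h2 := congrFun (CfsgLib.Clifford.mem_inertia.mp g.2) (eq' n)
      change σ.character (eq' (MulAut.conjNormal g n)) = σ.character (eq' n)
      rw [hσϑ]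
      convert h2 using 1
      exact congrArg ϑ (Subtype.ext rfl)
    · intro n
      have h2 := congrFun hψN (eq' n)
      rw [he] at h2
      change ρ.character (n : T) = (e : ℂ) * σ.character (eq' n)
      rw [hρψ, hσϑ]
      exact h2
  rw [← Subgroup.relIndex_mul_index hNT]
  exact Nat.mul_dvd_mul_right hdvd T.index

end Cfsg.Agent.S0887
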