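import Cfsg.Statements.S4811
import Cfsg.Agent.CharBasics.Extra
import Cfsg.Agent.Clifford.Gallagher
import Cfsg.Agent.S0887

set_option autoImplicit false
open Cfsg CfsgLib.CharBasics
open scoped commutatorElement

namespace Cfsg.Agent.S4811

theorem apply_mul_of_degree_one {Q : Type*} [Group Q] {χ : Q → ℂ} (h : IsCharacter Q χ)
    (h1 : charDegree χ = 1) (a b : Q) : χ (a * b) = χ a * χ b := by
  have h1' := apply_one h
  obtain ⟨n, ρ, rfl⟩ := h
  rw [h1, Nat.cast_one, Representation.char_one, Module.finrank_fin_fun, Nat.cast_eq_one] at h1'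
  subst h1'
  simp only [Representation.character, map_mul, Module.End.mul_eq_comp,
    LinearMap.trace_eq_matrix_trace ℂ (Pi.basisFun ℂ (Fin 1)), LinearMap.toMatrix_comp _ (Pi.basisFun ℂ (Fin 1)),
    Matrix.trace_fin_one, Matrix.mul_apply, Fin.sum_univ_one]

theorem apply_commutator_eq {Q : Type*} [Group Q] [Finite Q] {χ : Q → ℂ} (h : IsCharacter Q χ)
    (h1 : charDegree χ = 1) (a b : Q) : χ ⁅a, b⁆ = χ 1 := by
  have hm := apply_mul_of_degree_one h h1
  have hone : χ 1 = 1 := by rw [apply_one h, h1, Nat.cast_one]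
  have hinv : ∀ x : Q, χ x * χ x⁻¹ = 1 := fun x => by rw [← hm, mul_inv_cancel, hone]
  rw [commutatorElement_def, hm, hm, hm, hone]
  linear_combination (χ b * χ b⁻¹) * hinv a + hinv b

theorem exists_nonlinear {Q : Type*} [Group Q] [Finite Q] (hQ : commutator Q ≠ ⊥) :
    ∃ χ : IrrCharacter Q, charDegree (χ : Q → ℂ) ≠ 1 := by
  classical
  haveI : Fintype Q := Fintype.ofFinite Q
  haveI : Fintype (IrrCharacter Q) := Fintype.ofFinite _
  by_contra hno
  push Not at hno
  refine hQ ((Subgroup.eq_bot_iff_forall _).2 fun c hc => ?_)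
  by_contra hc1
  have hall : ∀ (χ : IrrCharacter Q), (χ : Q → ℂ) c = 1 := fun χ => by
    have hker : commutator Q ≤ charKer _ (isCharacter_of_irr χ.2) := by
      rw [commutator_def, Subgroup.commutator_le]
      exact fun a _ b _ => apply_commutator_eq (isCharacter_of_irr χ.2) (hno χ) a b
    rw [show (χ : Q → ℂ) c = (χ : Q → ℂ) 1 from hker hc, apply_one (isCharacter_of_irr χ.2), hno χ, Nat.cast_one]
  have h0 := sum_mul_degree (G := Q) hc1
  rw [Finset.sum_congr rfl (fun χ _ => by rw [hall χ, hno χ, Nat.cast_one, mul_one] :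
    ∀ χ ∈ (Finset.univ : Finset (IrrCharacter Q)), _ = (1 : ℂ)), Finset.sum_const, nsmul_one, Finset.card_univ,
    Nat.cast_eq_zero] at h0
  exact (Fintype.card_eq_zero_iff.1 h0).false oneChar

/-- A minimal nonabelian solvable group: a prime `q` and a degree `f` divisible by all other primes of the order. -/
theorem exists_hub {Q : Type*} [Group Q] [Finite Q] [Group.IsSolvable Q] (hQ : commutator Q ≠ ⊥)
    (hmin : ∀ K : Subgroup Q, K.Normal → K ≠ ⊥ → commutator Q ≤ K) :
    ∃ (q : ℕ) (χ : IrrCharacter Q), charDegree (χ : Q → ℂ) ≠ 1 ∧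
      ∀ r : ℕ, r.Prime → r ∣ Nat.card Q → r ≠ q → r ∣ charDegree (χ : Q → ℂ) := by
  classical
  haveI : Fintype Q := Fintype.ofFinite Q
  set A := commutator Q with hA
  have hAA : ⁅A, A⁆ = ⊥ := by
    by_contra h
    exact (IsSolvable.commutator_lt_of_ne_bot hQ).not_ge (hmin _ inferInstance h)
  haveI hAc : IsMulCommutative A := ⟨⟨fun a b => Subtype.ext (commutatorElement_eq_one_iff_mul_comm.1
    (Subgroup.mem_bot.1 (hAA ▸ Subgroup.commutator_mem_commutator a.2 b.2)))⟩⟩
  obtain ⟨q, hq, hqA⟩ := Nat.exists_prime_and_dvd (n := Nat.card A)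
    (fun h => hQ ((Subgroup.card_eq_one (H := A)).1 h))
  haveI : Fact q.Prime := ⟨hq⟩
  obtain ⟨χ, hχ⟩ := exists_nonlinear hQ
  refine ⟨q, χ, hχ, fun r hr hrQ hrq => ?_⟩
  by_contra hrχ
  haveI : Fact r.Prime := ⟨hr⟩
  -- `A` is a `q`-group
  let T : Subgroup Q :=
    { carrier := {a | a ∈ A ∧ ∃ k : ℕ, a ^ q ^ k = 1}
      one_mem' := ⟨one_mem _, 0, one_pow _⟩
      mul_mem' := by
        rintro a b ⟨ha, k, hk⟩ ⟨hb, l, hl⟩
        have hab : Commute a b := congrArg Subtype.val (mul_comm' (⟨a, ha⟩ : A) ⟨b, hb⟩)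
        refine ⟨mul_mem ha hb, k + l, ?_⟩
        rw [hab.mul_pow, pow_add, pow_mul, hk, one_pow, one_mul, mul_comm (q ^ k), pow_mul, hl, one_pow]
      inv_mem' := by
        rintro a ⟨ha, k, hk⟩
        exact ⟨inv_mem ha, k, by rw [inv_pow, hk, inv_one]⟩ }
  have hTn : T.Normal := ⟨fun a ha g => ⟨(inferInstance : A.Normal).conj_mem a ha.1 g, by
    obtain ⟨k, hk⟩ := ha.2
    exact ⟨k, by rw [conj_pow, hk, mul_one, mul_inv_cancel]⟩⟩⟩
  have hTb : T ≠ ⊥ := by
    obtain ⟨a, ha⟩ := exists_prime_orderOf_dvd_card' q hqA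
    intro h
    have haT : (a : Q) ∈ T := ⟨a.2, 1, by rw [pow_one, ← Subgroup.coe_pow, ← ha, pow_orderOf_eq_one, Subgroup.coe_one]⟩
    rw [h, Subgroup.mem_bot] at haT
    exact hq.one_lt.ne (by rw [← ha, show a = 1 from Subtype.ext haT, orderOf_one])
  have hAq : ∀ a ∈ A, ∃ k : ℕ, a ^ q ^ k = 1 := fun a ha => (hmin T hTn hTb ha).2
  -- the character is faithful
  have hc := isCharacter_of_irr χ.2
  have hfaith : charKer _ hc = ⊥ := by
    by_contra h
    have hle := hmin _ (charKer_normal hc) h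
    obtain ⟨φ, hφ⟩ := exists_quotient_irr χ A (fun g hg => hle hg)
    haveI : IsMulCommutative (Q ⧸ A) := ⟨⟨fun a b => by
      induction a using QuotientGroup.induction_on with | _ x =>
      induction b using QuotientGroup.induction_on with | _ y =>
      rw [← QuotientGroup.mk_mul, ← QuotientGroup.mk_mul, QuotientGroup.eq]
      have : (x * y)⁻¹ * (y * x) = ⁅y⁻¹, x⁻¹⁆ := by rw [commutatorElement_def]; group
      rw [this, hA, commutator_def]
      exact Subgroup.commutator_mem_commutator (Subgroup.mem_top _) (Subgroup.mem_top _)⟩⟩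
    refine hχ ?_
    rw [← charDegree_comm φ.2]
    simp only [charDegree, ← hφ 1]; rfl
  obtain ⟨R⟩ := (inferInstance : Nonempty (Sylow r Q))
  set B : Subgroup Q := A ⊔ (R : Subgroup Q) with hB
  have hBn : B.Normal := ⟨fun b hb g => by
    have : g * b * g⁻¹ = ⁅g, b⁆ * b := by rw [commutatorElement_def]; group
    rw [this]
    refine mul_mem ((le_sup_left : A ≤ B) ?_) hb
    rw [hA, commutator_def]
    exact Subgroup.commutator_mem_commutator (Subgroup.mem_top _) (Subgroup.mem_top _)⟩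
  haveI : Fintype B := Fintype.ofFinite B
  haveI : Fintype (IrrCharacter B) := Fintype.ofFinite _
  set A' := A.subgroupOf B with hA'
  haveI : Fintype A' := Fintype.ofFinite A'
  haveI : A'.Normal := inferInstance
  haveI : IsMulCommutative A' := ⟨⟨fun a b => Subtype.ext (Subtype.ext (by
    have := congrArg Subtype.val (mul_comm' (⟨((a : B) : Q), Subgroup.mem_subgroupOf.1 a.2⟩ : A) ⟨((b : B) : Q), Subgroup.mem_subgroupOf.1 b.2⟩)
    simpa using this))⟩⟩
  have hidx : ∃ k, A'.index ∣ r ^ k := by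
    obtain ⟨k, hk⟩ := IsPGroup.iff_card.1 R.isPGroup'
    refine ⟨k, hk ▸ ?_⟩
    show A.relIndex B ∣ _
    rw [hB, Subgroup.relIndex_sup_left]
    exact Subgroup.relIndex_dvd_card _ _
  have hlin : ∀ θ : IrrCharacter B, classInner (fun b : B => (χ : Q → ℂ) b) (θ : B → ℂ) ≠ 0 →
      charDegree (θ : B → ℂ) = 1 := by
    intro θ hθ
    have h1 := (Cfsg.Agent.S0887.result B _ χ.2 _ θ.2 hθ (charDegree (χ : Q → ℂ)) (charDegree (θ : B → ℂ))
      (apply_one hc) (apply_one (isCharacter_of_irr θ.2))).1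
    obtain ⟨φ, hφ⟩ := exists_restrict_constituent A' θ
    have hφ' : classInner (fun n : A' => (θ : B → ℂ) n) (φ : A' → ℂ) ≠ 0 := by
      rw [classInner_comm]; simpa using hφ
    have h2 := (Cfsg.Agent.S0887.result A' _ θ.2 _ φ.2 hφ' (charDegree (θ : B → ℂ)) (charDegree (φ : A' → ℂ))
      (apply_one (isCharacter_of_irr θ.2)) (apply_one (isCharacter_of_irr φ.2))).2
    rw [charDegree_comm φ.2, Nat.div_one] at h2
    obtain ⟨k, hk⟩ := hidx
    obtain ⟨i, -, hi⟩ := (Nat.dvd_prime_pow hr).1 (h2.trans hk)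
    rcases i with _ | i
    · rw [hi, pow_zero]
    · exact absurd (((dvd_pow_self r (Nat.succ_ne_zero i)).trans hi.symm.dvd).trans h1) hrχ
  have hBc : ∀ a ∈ B, ∀ b ∈ B, Commute a b := by
    intro a ha b hb
    refine commutatorElement_eq_one_iff_mul_comm.1 (Subgroup.mem_bot.1 (hfaith ▸ ?_))
    rw [mem_charKer]
    have hexp := classFun_expand (isClassFunction (isCharacter_restrict hc B))
    have e1 := congrFun hexp ⁅(⟨a, ha⟩ : B), ⟨b, hb⟩⁆
    have e2 := congrFun hexp 1
    simp only [Finset.sum_apply, Pi.smul_apply, smul_eq_mul] at e1 e2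
    rw [show (χ : Q → ℂ) ⁅a, b⁆ = (fun x : B => (χ : Q → ℂ) x) ⁅(⟨a, ha⟩ : B), ⟨b, hb⟩⁆ from rfl,
      show (χ : Q → ℂ) 1 = (fun x : B => (χ : Q → ℂ) x) 1 from rfl]
    beta_reduce
    refine e1.trans (Eq.trans ?_ e2.symm)
    refine Finset.sum_congr rfl fun θ _ => ?_
    rcases eq_or_ne (classInner (fun x : B => (χ : Q → ℂ) x) (θ : B → ℂ)) 0 with h | h
    · rw [h, zero_mul, zero_mul]
    · rw [apply_commutator_eq (isCharacter_of_irr θ.2) (hlin θ h)]
  have hRn : (R : Subgroup Q).Normal := ⟨fun x hx g => by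
    set y := g * x * g⁻¹
    have hyB : y ∈ B := hBn.conj_mem x ((le_sup_right : (R : Subgroup Q) ≤ B) hx) g
    obtain ⟨k, hk⟩ := R.isPGroup' ⟨x, hx⟩
    have hy : IsPGroup r (Subgroup.zpowers y) := by
      obtain ⟨j, -, hj⟩ := (Nat.dvd_prime_pow hr).1 (orderOf_dvd_of_pow_eq_one
        (show y ^ r ^ k = 1 by rw [conj_pow, show x ^ r ^ k = 1 from congrArg Subtype.val hk, mul_one, mul_inv_cancel]))
      exact IsPGroup.of_card ((Nat.card_zpowers y).trans hj)
    have hnorm : Subgroup.zpowers y ≤ Subgroup.normalizer ((R : Subgroup Q) : Set Q) := by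
      rw [Subgroup.zpowers_le, Subgroup.mem_normalizer_iff]
      intro z
      constructor <;> intro hz
      · rwa [(hBc y hyB z ((le_sup_right : (R : Subgroup Q) ≤ B) hz)).eq, mul_inv_cancel_right]
      · have := hBc y hyB (y * z * y⁻¹) ((le_sup_right : (R : Subgroup Q) ≤ B) hz)
        have e : y * z * y⁻¹ = z := by
          have h' := this.eq
          simp only [← mul_assoc, inv_mul_cancel_right] at h'
          exact mul_left_cancel (a := y) (by simpa [mul_assoc] using h')
        rwa [e] at hz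
    have := R.is_maximal' (IsPGroup.to_sup_of_normal_right' hy R.isPGroup' hnorm) le_sup_right
    exact this ▸ (le_sup_left : Subgroup.zpowers y ≤ _) (Subgroup.mem_zpowers y)⟩
  have hRb : (R : Subgroup Q) ≠ ⊥ := by
    intro h
    have := R.dvd_card_of_dvd_card hrQ
    rw [h, Subgroup.card_bot] at this
    exact hr.not_dvd_one this
  obtain ⟨a, haA, ha1⟩ := (Subgroup.bot_or_exists_ne_one A).resolve_left hQ
  obtain ⟨k, hk⟩ := hAq a haA
  obtain ⟨l, hl⟩ := R.isPGroup' ⟨a, hmin _ hRn hRb haA⟩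
  refine ha1 (orderOf_eq_one_iff.1 (Nat.eq_one_of_dvd_coprimes ?_ (orderOf_dvd_of_pow_eq_one hk)
    (orderOf_dvd_of_pow_eq_one (congrArg Subtype.val hl : a ^ r ^ l = 1))))
  exact Nat.Coprime.pow _ _ ((Nat.coprime_primes hq hr).2 hrq.symm)

/-- For every finite solvable group G the character degree graph of G (vertices: the primes dividing some irreducible complex character degree; edges: distinct primes whose product divides some degree) has at most two connected components. -/
theorem result {G : Type*} [Group G] [Finite G] [Group.IsSolvable G] : Nat.card ((Cfsg.degreeGraph G).induce (Cfsg.degreePrimes G)).ConnectedComponent ≤ 2 := by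
  classical
  haveI : Fintype G := Fintype.ofFinite G
  by_cases hG : commutator G = ⊥
  · have hc : IsMulCommutative G := ⟨⟨fun a b => commutatorElement_eq_one_iff_mul_comm.1 (Subgroup.mem_bot.1 (hG ▸ by
      rw [commutator_def]; exact Subgroup.commutator_mem_commutator (Subgroup.mem_top a) (Subgroup.mem_top b)))⟩⟩
    haveI : IsEmpty (degreePrimes G) := ⟨fun ⟨p, hp, d, ⟨χ, hχ⟩, hd⟩ => hp.ne_one
      (Nat.dvd_one.1 (by rw [← charDegree_comm χ.2, hχ]; exact hd))⟩
    haveI : IsEmpty ((degreeGraph G).induce (degreePrimes G)).ConnectedComponent := ⟨fun c => by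
      induction c using SimpleGraph.ConnectedComponent.ind with | _ v => exact isEmptyElim v⟩
    simp
  obtain ⟨N, hN⟩ := Set.Finite.exists_maximal (Set.toFinite {N : Subgroup G | N.Normal ∧ ¬ commutator G ≤ N})
    ⟨⊥, inferInstance, fun h => hG (le_bot_iff.1 h)⟩
  haveI : N.Normal := hN.prop.1
  have hmap : commutator (G ⧸ N) = (commutator G).map (QuotientGroup.mk' N) := by
    rw [commutator_def, commutator_def, Subgroup.map_commutator,
      Subgroup.map_top_of_surjective _ (QuotientGroup.mk'_surjective N)]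
  have hQ : commutator (G ⧸ N) ≠ ⊥ := by
    rw [hmap, Ne, Subgroup.map_eq_bot_iff, QuotientGroup.ker_mk']
    exact hN.prop.2
  obtain ⟨q, φ, hf, hprimes⟩ := exists_hub hQ fun K hK hKb => by
    rw [hmap, Subgroup.map_le_iff_le_comap]
    by_contra h
    have hle : N ≤ K.comap (QuotientGroup.mk' N) := fun x hx => by
      rw [Subgroup.mem_comap, show QuotientGroup.mk' N x = 1 from (QuotientGroup.eq_one_iff x).2 hx]
      exact one_mem _
    refine hKb (le_bot_iff.1 fun z hz => ?_)
    obtain ⟨x, rfl⟩ := QuotientGroup.mk'_surjective N z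
    exact (QuotientGroup.eq_one_iff x).2 (hN.2 ⟨inferInstance, h⟩ hle hz)
  set f := charDegree (φ : G ⧸ N → ℂ) with hfdef
  have hφirr := irr_comp_of_surjective φ.2 (QuotientGroup.mk' N) (QuotientGroup.mk'_surjective N)
  have hfcd : f ∈ charDegrees G := ⟨⟨_, hφirr⟩, rfl⟩
  obtain ⟨p₀, hp₀, hp₀f⟩ := Nat.exists_prime_and_dvd (n := f) hf
  set X := degreePrimes G
  set Γ := (degreeGraph G).induce X
  have hv₀ : p₀ ∈ X := ⟨hp₀, f, hfcd, hp₀f⟩
  have hclique : ∀ (a b : X) (d : ℕ), d ∈ charDegrees G → (a : ℕ) ∣ d → (b : ℕ) ∣ d →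
      Γ.connectedComponentMk a = Γ.connectedComponentMk b := by
    intro a b d hd ha hb
    by_cases h : (a : ℕ) = b
    · rw [Subtype.ext h]
    refine SimpleGraph.ConnectedComponent.connectedComponentMk_eq_of_adj ?_
    exact ⟨h, a.2.1, b.2.1, d, hd, ((Nat.coprime_primes a.2.1 b.2.1).2 h).mul_dvd_of_dvd_of_dvd ha hb⟩
  have hkey : ∀ v : X, Γ.connectedComponentMk v = Γ.connectedComponentMk ⟨p₀, hv₀⟩ ∨
      ∃ hq : q ∈ X, Γ.connectedComponentMk v = Γ.connectedComponentMk ⟨q, hq⟩ := by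
    intro v
    obtain ⟨hvp, d, ⟨χ, rfl⟩, hvd⟩ := v.2
    by_cases hcop : Nat.Coprime (charDegree (χ : G → ℂ)) N.index
    · -- Gallagher
      haveI : Fintype N := Fintype.ofFinite N
      haveI : Fintype (IrrCharacter N) := Fintype.ofFinite _
      have hc := isCharacter_of_irr χ.2
      obtain ⟨θ, hθ⟩ := exists_restrict_constituent N χ
      have hθ' : classInner (fun n : N => (χ : G → ℂ) n) (θ : N → ℂ) ≠ 0 := by
        rw [classInner_comm]; simpa using hθ
      have h := Cfsg.Agent.S0887.result N _ χ.2 _ θ.2 hθ' (charDegree (χ : G → ℂ)) (charDegree (θ : N → ℂ))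
        (apply_one hc) (apply_one (isCharacter_of_irr θ.2))
      have hd1 : charDegree (χ : G → ℂ) = charDegree (θ : N → ℂ) := by
        have := Nat.eq_one_of_dvd_coprimes hcop (Nat.div_dvd_of_dvd h.1) h.2
        rw [← Nat.div_mul_cancel h.1, this, one_mul]
      obtain ⟨ψ, hψ, hsplit⟩ := split_constituent (isCharacter_restrict hc N) θ hθ'
      have hψ0 : ψ = 0 := by
        refine CfsgLib.Clifford.eq_zero_of_apply_one hψ ?_
        have h1 := congrFun hsplit 1
        simp only [Pi.add_apply] at h1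
        rw [show ((1 : N) : G) = 1 from rfl, apply_one hc, apply_one (isCharacter_of_irr θ.2), hd1] at h1
        exact left_eq_add.mp h1
      rw [hψ0, add_zero] at hsplit
      have hbij := CfsgLib.Clifford.gallagher_bijOn (G := G) (N := N) (φ := fun _ : N => (1 : ℂ))
        (θ := (θ : N → ℂ)) isIrrCharacter_one (fun g => rfl)
        (by rw [show ((fun _ : N => (1 : ℂ)) * (θ : N → ℂ)) = (θ : N → ℂ) from funext fun n => one_mul _]; exact θ.2)
        hc (fun n => congrFun hsplit n)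
      have hβ := hbij.mapsTo (show (fun g => (φ : G ⧸ N → ℂ) (QuotientGroup.mk' N g)) ∈ _ from
        ⟨hφirr, (CfsgLib.Clifford.mem_over_one_iff hφirr).2 fun n hn => by
          rw [show QuotientGroup.mk' N n = 1 from (QuotientGroup.eq_one_iff n).2 hn, map_one]⟩)
      have hmem : f * charDegree (χ : G → ℂ) ∈ charDegrees G := by
        refine ⟨⟨_, hβ.1⟩, ?_⟩
        have e : ((fun g => (φ : G ⧸ N → ℂ) (QuotientGroup.mk' N g)) * (χ : G → ℂ)) 1
            = ((f * charDegree (χ : G → ℂ) : ℕ) : ℂ) := by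
          rw [Pi.mul_apply, map_one, apply_one (isCharacter_of_irr φ.2), apply_one hc, Nat.cast_mul]
        show charDegree _ = _
        show ⌊(((fun g => (φ : G ⧸ N → ℂ) (QuotientGroup.mk' N g)) * (χ : G → ℂ)) 1).re⌋₊ = _
        rw [e, Complex.natCast_re, Nat.floor_natCast]
      exact Or.inl (hclique _ _ _ hmem (dvd_mul_of_dvd_right hvd _) (dvd_mul_of_dvd_left hp₀f _))
    · obtain ⟨s, hs, hsd, hsI⟩ := Nat.Prime.not_coprime_iff_dvd.1 hcop
      have hsX : s ∈ X := ⟨hs, _, ⟨χ, rfl⟩, hsd⟩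
      have h1 := hclique v ⟨s, hsX⟩ _ ⟨χ, rfl⟩ hvd hsd
      by_cases hsq : s = q
      · subst hsq; exact Or.inr ⟨hsX, h1⟩
      · exact Or.inl (h1.trans (hclique ⟨s, hsX⟩ ⟨p₀, hv₀⟩ f hfcd (hprimes s hs hsI hsq) hp₀f))
  let g : Bool → Γ.ConnectedComponent := fun b =>
    if b then Γ.connectedComponentMk ⟨p₀, hv₀⟩
    else if h : q ∈ X then Γ.connectedComponentMk ⟨q, h⟩ else Γ.connectedComponentMk ⟨p₀, hv₀⟩
  have hg : Function.Surjective g := by
    intro c
    induction c using SimpleGraph.ConnectedComponent.ind with | _ v =>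
    rcases hkey v with h | ⟨hqX, h⟩
    · exact ⟨true, by rw [h]; rfl⟩
    · exact ⟨false, by rw [h]; simp [g, hqX]⟩
  exact (Nat.card_le_card_of_surjective g hg).trans_eq (by simp)

end Cfsg.Agent.S4811
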