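import Cfsg.Statements.S0107
import Cfsg.Agent.Transfer.Focal

set_option autoImplicit false
open Cfsg
open scoped commutatorElement IsMulCommutative Pointwise

namespace Cfsg.Agent.S0107

/-- A finite group with no nontrivial 2-group quotient and dihedral Sylow 2-subgroups of order at least 8 has a single class of involutions. -/
theorem result {G : Type*} [Group G] [Finite G] (T : Sylow 2 G) (n : ℕ) (hn : 2 ≤ n) (hT : Nonempty ((T : Subgroup G) ≃* DihedralGroup (2 ^ n))) (hO : Cfsg.pResidual 2 G = ⊤) (x y : G) (hx : orderOf x = 2) (hy : orderOf y = 2) : ∃ g : G, g * x * g⁻¹ = y := by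
  obtain ⟨e⟩ := hT
  have : Fact (Nat.Prime 2) := ⟨Nat.prime_two⟩
  set M' : Subgroup (T : Subgroup G) := (Subgroup.zpowers (DihedralGroup.r (1 : ZMod (2 ^ n)))).comap e.toMonoidHom with hM'
  set M := M'.map (T : Subgroup G).subtype with hM
  have hMi : M.relIndex (T : Subgroup G) = 2 := by
    rw [Subgroup.relIndex, hM, Subgroup.subgroupOf,
      Subgroup.comap_map_eq_self_of_injective (T : Subgroup G).subtype_injective, hM',
      Subgroup.index_comap_of_surjective _ e.surjective]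
    have h := Subgroup.card_mul_index (Subgroup.zpowers (DihedralGroup.r (1 : ZMod (2 ^ n))))
    rw [Nat.card_zpowers, DihedralGroup.orderOf_r_one, DihedralGroup.nat_card, mul_comm 2] at h
    exact Nat.eq_of_mul_eq_mul_left (Nat.two_pow_pos n) h
  obtain ⟨z, hz⟩ : ∃ z : G, ∀ w ∈ M, orderOf w = 2 → w = z := by
    refine ⟨((e.symm (DihedralGroup.r (1 : ZMod (2 ^ n)) ^ 2 ^ (n - 1)) : (T : Subgroup G)) : G), ?_⟩
    rintro _ ⟨w, hw, rfl⟩ ho
    have ho' : orderOf (e w) = 2 := by
      rw [MulEquiv.orderOf_eq, ← Subgroup.orderOf_coe]; exact ho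
    obtain ⟨k, hk⟩ := (mem_powers_iff_mem_zpowers.2 (hw : e w ∈ Subgroup.zpowers (DihedralGroup.r (1 : ZMod (2 ^ n)))) :
      e w ∈ Submonoid.powers _)
    simp only at hk
    have hdvd : 2 ^ n ∣ k * 2 := by
      rw [← DihedralGroup.orderOf_r_one (n := 2 ^ n), orderOf_dvd_iff_pow_eq_one, pow_mul, hk]
      rw [← orderOf_dvd_iff_pow_eq_one]
      exact ho'.dvd
    have hn1 : 2 ^ n = 2 ^ (n - 1) * 2 := by rw [← pow_succ, Nat.sub_add_cancel (by omega)]
    rw [hn1, Nat.mul_dvd_mul_iff_right (by norm_num)] at hdvd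
    obtain ⟨j, rfl⟩ := hdvd
    show ((w : (T : Subgroup G)) : G) = _
    congr 1
    rw [eq_comm, MulEquiv.symm_apply_eq, ← hk]
    rcases Nat.even_or_odd j with ⟨i, rfl⟩ | ⟨i, rfl⟩
    · exfalso
      have : e w = 1 := by
        rw [← hk, ← orderOf_dvd_iff_pow_eq_one, DihedralGroup.orderOf_r_one, hn1]
        exact ⟨i, by ring⟩
      rw [this, orderOf_one] at ho'
      norm_num at ho'
    · rw [show 2 ^ (n - 1) * (2 * i + 1) = 2 ^ n * i + 2 ^ (n - 1) by rw [hn1]; ring, pow_add, pow_mul]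
      have := pow_orderOf_eq_one (DihedralGroup.r (1 : ZMod (2 ^ n)))
      rw [DihedralGroup.orderOf_r_one] at this
      rw [this, one_pow, one_mul]
  have key : ∀ u : G, orderOf u = 2 → ∃ g : G, g * u * g⁻¹ = z := by
    intro u hu
    by_contra hcon
    push Not at hcon
    have hu2 : u * u = 1 := by rw [← pow_two, ← hu, pow_orderOf_eq_one]
    obtain ⟨N, hN, hidx, -⟩ := CfsgLib.Transfer.thompson_transfer T (Subgroup.map_subtype_le _) hMi hu2 fun g hg =>
      hcon g (hz _ hg (by rw [show g * u * g⁻¹ = MulAut.conj g u from rfl, MulEquiv.orderOf_eq, hu]))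
    have h1 : Cfsg.pResidual 2 G ≤ N :=
      CfsgLib.Transfer.pResidual_le_of_isPGroup_quotient N (IsPGroup.of_card (n := 1) (by rw [← Subgroup.index_eq_card, hidx, pow_one]))
    rw [hO, top_le_iff] at h1
    rw [h1, Subgroup.index_top] at hidx
    norm_num at hidx
  obtain ⟨a, ha⟩ := key x hx
  obtain ⟨b, hb⟩ := key y hy
  refine ⟨b⁻¹ * a, ?_⟩
  rw [show b⁻¹ * a * x * (b⁻¹ * a)⁻¹ = b⁻¹ * (a * x * a⁻¹) * b by group, ha, ← hb]
  group

end Cfsg.Agent.S0107
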