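import Cfsg.Statements.S2820
import Cfsg.Agent.Subnormal.BaerSuzuki
import Cfsg.Agent.Transfer.Residual
import Mathlib

set_option autoImplicit false
open Cfsg

namespace Cfsg.Agent.S2820

open scoped commutatorElement in
private theorem mem_of_coprime {H : Type*} [Group H] [Finite H] {p : ℕ} [Fact p.Prime] {B : Subgroup H}
    (hB : B.IsSubnormal) : (∃ k, B.index ∣ p ^ k) → ∀ g : H, (orderOf g).Coprime p → g ∈ B := by
  induction hB with
  | top => exact fun _ g _ => Subgroup.mem_top g
  | step B C hBC hC hn ih =>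
    rintro ⟨k, hk⟩ g hg
    have h := Subgroup.relIndex_mul_index hBC
    have hgC : g ∈ C := ih ⟨k, (Dvd.intro_left _ h).trans hk⟩ g hg
    haveI := hn
    have h1 : (⟨g, hgC⟩ : C) ∈ B.subgroupOf C := by
      rw [← QuotientGroup.eq_one_iff]
      rw [← orderOf_eq_one_iff]
      refine Nat.eq_one_of_dvd_coprimes (hg.pow_right k) ?_ ?_
      · exact (orderOf_map_dvd (QuotientGroup.mk' (B.subgroupOf C)) ⟨g, hgC⟩).trans (by rw [Subgroup.orderOf_mk])
      · exact (orderOf_dvd_natCard _).trans ((Dvd.intro (C.index) h).trans hk)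
    exact h1

/-- Let A and B be subnormal subgroups of the finite group H with A a p-group and B = O^p(B) (B generated by its elements of order prime to p). Then A normalizes B and B = O^p(AB), the subgroup of ⟨A, B⟩ generated by its elements of order prime to p. -/
theorem result {H : Type*} [Group H] [Finite H] {p : ℕ} [Fact p.Prime] (A B : Subgroup H) (hA : A.IsSubnormal) (hB : B.IsSubnormal) (hAp : IsPGroup p ↥A) (hBres : (Cfsg.pResidual p ↥B).map B.subtype = B) : A ≤ Subgroup.normalizer (B : Set H) ∧ (Cfsg.pResidual p ↥(A ⊔ B)).map (A ⊔ B).subtype = B := by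
  classical
  set J := A ⊔ B with hJ
  have hle : B ≤ J := le_sup_right
  have hO : A.subgroupOf J ≤ Cfsg.pCore p J :=
    CfsgLib.Subnormal.le_pCore_of_isSubnormal hA.subgroupOf (hAp.comap_subtype)
  haveI hn := CfsgLib.Subnormal.normal_pCore (G := J) p
  have htop : Cfsg.pCore p J ⊔ B.subgroupOf J = ⊤ := by
    rw [eq_top_iff, ← Subgroup.subgroupOf_self, hJ, Subgroup.subgroupOf_sup le_sup_left le_sup_right]
    exact sup_le (hO.trans le_sup_left) le_sup_right
  have hidx : ∃ k, (B.subgroupOf J).index ∣ p ^ k := by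
    obtain ⟨k, hk⟩ := IsPGroup.iff_card.1 (CfsgLib.Subnormal.isPGroup_pCore (G := J) p)
    refine ⟨k, ?_⟩
    have e1 := (B.subgroupOf J).card_mul_index
    have e2 := (Cfsg.pCore p J).index_mul_card
    have e3 : (Cfsg.pCore p J).index = (Cfsg.pCore p J).relIndex (B.subgroupOf J) := by
      rw [← Subgroup.relIndex_top_right, ← htop, sup_comm, Subgroup.relIndex_sup_right]
    have e4 : (Cfsg.pCore p J).relIndex (B.subgroupOf J) ∣ Nat.card (B.subgroupOf J) := Subgroup.relIndex_dvd_card _ _
    refine Nat.dvd_of_mul_dvd_mul_left (Nat.card_pos (α := B.subgroupOf J)) ?_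
    rw [e1, ← e2, e3, hk]
    exact mul_dvd_mul_right e4 _
  have key : (Cfsg.pResidual p J).map J.subtype = B := by
    apply le_antisymm
    · rw [Cfsg.pResidual, MonoidHom.map_closure, Subgroup.closure_le]
      rintro _ ⟨x, hx, rfl⟩
      exact mem_of_coprime hB.subgroupOf hidx x hx
    · conv_lhs => rw [← hBres]
      rintro _ ⟨x, hx, rfl⟩
      exact ⟨Subgroup.inclusion hle x, CfsgLib.Transfer.map_pResidual_le (Subgroup.inclusion hle) ⟨x, hx, rfl⟩, rfl⟩
  refine ⟨?_, key⟩
  haveI := CfsgLib.Transfer.pResidual_normal (p := p) (G := J)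
  have h2 := (Cfsg.pResidual p J).le_normalizer_map J.subtype
  rw [Subgroup.normalizer_eq_top_iff.2 inferInstance, ← MonoidHom.range_eq_map, Subgroup.range_subtype, key] at h2
  exact le_sup_left.trans h2

end Cfsg.Agent.S2820
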