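import Cfsg.Statements.S1426
import Cfsg.Agent.Sigma.SigmaCoreAction

set_option autoImplicit false
open Cfsg

namespace Cfsg.Agent.S1426
open scoped commutatorElement

/-- Let G be a minimal simple group of odd order, M a maximal subgroup and E a complement to M_σ in M. Then M_σ ∩ C_G(E) ≤ (M_σ)', the commutator subgroup [M_σ, E] equals M_σ, and for every g outside M the intersection M_σ ∩ gMg⁻¹ is cyclic, has no prime divisor in β(M), and meets (M_σ)' trivially. -/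
theorem result {G : Type*} [Group G] [Finite G] (hG : Cfsg.IsMinSimpleOddOrder G)
    (M : Subgroup G) (hM : IsCoatom M) (E : Subgroup G) (hE : Cfsg.IsComplIn E (Cfsg.sigmaCore M) M) :
    Cfsg.sigmaCore M ⊓ Subgroup.centralizer (E : Set G) ≤ ⁅Cfsg.sigmaCore M, Cfsg.sigmaCore M⁆ ∧
      ⁅Cfsg.sigmaCore M, E⁆ = Cfsg.sigmaCore M ∧
      ∀ g : G, g ∉ M → IsCyclic ↥(Cfsg.sigmaCore M ⊓ M.map (MulAut.conj g).toMonoidHom) ∧
        (∀ p : ℕ, p.Prime → p ∣ Nat.card ↥(Cfsg.sigmaCore M ⊓ M.map (MulAut.conj g).toMonoidHom) → p ∉ Cfsg.beta M) ∧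
        Cfsg.sigmaCore M ⊓ M.map (MulAut.conj g).toMonoidHom ⊓ ⁅Cfsg.sigmaCore M, Cfsg.sigmaCore M⁆ = ⊥ := by
  refine ⟨CfsgLib.SigmaGroups.centralizer_complement_le_derived hG hM hE,
    CfsgLib.SigmaGroups.commutator_sigma_complement hG hM hE, fun g hg => ?_⟩
  have key : ∀ (H : Subgroup G), H ≤ Cfsg.sigmaCore M ⊓ M.map (MulAut.conj g).toMonoidHom →
      ∀ r : ℕ, r.Prime → r ∣ Nat.card H → (r ∈ Cfsg.beta M ∨ H ≤ ⁅Cfsg.sigmaCore M, Cfsg.sigmaCore M⁆) → False := by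
    intro H hH r hr hrd h
    haveI := Fact.mk hr
    obtain ⟨⟨w, hw⟩, hwo⟩ := exists_prime_orderOf_dvd_card' (G := ↥H) r hrd
    rw [Subgroup.orderOf_mk] at hwo
    exact CfsgLib.SigmaGroups.false_of_mem_inf_conj hG hM hg hwo (hH hw).1 (hH hw).2 (h.imp_right fun h1 => h1 hw)
  refine ⟨CfsgLib.SigmaGroups.isCyclic_inf_conj hG hM hg,
    fun r hr hrd hb => key _ le_rfl r hr hrd (Or.inl hb), ?_⟩
  by_contra hne
  obtain ⟨r, hr, hrd⟩ := Nat.exists_prime_and_dvd (fun e => hne (Subgroup.card_eq_one.1 e))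
  exact key _ inf_le_left r hr hrd (Or.inr inf_le_right)


end Cfsg.Agent.S1426
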