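import Cfsg.Statements.S1418
import Cfsg.Agent.Sigma.TauTwoInvariant

set_option autoImplicit false
open Cfsg

namespace Cfsg.Agent.S1418

/-- Let G be a minimal simple group of odd order, M a maximal subgroup, E a complement to M_σ in M, p ∈ τ₂(M), and A ≤ E elementary abelian of order p ^ 2. Then A is normal in E and contains every subgroup of E of order p; C_G(A) ≤ M ∩ N_G(A) = E and N_G(A) is not contained in M; and for every subgroup X ≤ A of order p centralizing a non-identity element of M_σ, C_G(X) ≤ M and M is the unique maximal subgroup containing C_G(X). -/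
theorem result {G : Type*} [Group G] [Finite G] (hG : Cfsg.IsMinSimpleOddOrder G)
    (M : Subgroup G) (hM : IsCoatom M) (E : Subgroup G) (hE : Cfsg.IsComplIn E (Cfsg.sigmaCore M) M) (p : ℕ) [Fact p.Prime] (hp : p ∈ Cfsg.tau2 M) (A : Subgroup G) (hA : (A ≤ E ∧ Cfsg.IsElementaryAbelian p A ∧ Nat.card A = p ^ 2)) :
    (E ≤ Subgroup.normalizer (A : Set G) ∧ ∀ X : Subgroup G, X ≤ E → Nat.card X = p → X ≤ A) ∧
      (Subgroup.centralizer (A : Set G) ≤ M ⊓ Subgroup.normalizer (A : Set G) ∧ M ⊓ Subgroup.normalizer (A : Set G) = E ∧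
        ¬ Subgroup.normalizer (A : Set G) ≤ M) ∧
      ∀ X : Subgroup G, X ≤ A → Nat.card X = p → Cfsg.sigmaCore M ⊓ Subgroup.centralizer (X : Set G) ≠ ⊥ → (Subgroup.centralizer (X : Set G) ≤ M ∧ ∀ L : Subgroup G, IsCoatom L → Subgroup.centralizer (X : Set G) ≤ L → L = M) := by
  obtain ⟨hAE, hAe, hAc⟩ := hA
  have hps := hp.2.1
  have hEM : E ≤ M := hE.1
  have hAM : A ≤ M := hAE.trans hEM
  haveI := hAe.1
  have hσM : Cfsg.sigmaCore M ≤ M := Subgroup.map_subtype_le _
  have hS : ∀ s ∈ Cfsg.sigmaCore M, s ∈ E → s = 1 := fun s hs hsE =>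
    Subgroup.mem_bot.1 (hE.2.2.1 ▸ Subgroup.mem_inf.2 ⟨hsE, hs⟩)
  have hEA : E ≤ Subgroup.normalizer (A : Set G) := fun e he => by
    refine CfsgLib.Uniq.mem_normalizer_of_map_le ?_
    rintro _ ⟨a, ha, rfl⟩
    have h1 : e * a * e⁻¹ ∈ Cfsg.sigmaCore M ⊔ A :=
      (Subgroup.mem_normalizer_iff.1 (CfsgLib.SigmaGroups.le_normalizer_sigmaCore_sup hG hM hps hAM hAe hAc (hEM he)) a).1
        (Subgroup.mem_sup_right ha)
    rw [← SetLike.mem_coe, Subgroup.coe_mul_of_right_le_normalizer_left _ _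
      (hAM.trans (CfsgLib.SigmaGroups.le_normalizer_sigmaCore M))] at h1
    obtain ⟨s, hs, b, hb, hsb⟩ := h1
    replace hsb : s * b = e * a * e⁻¹ := hsb
    have hs1 : s = 1 := hS s hs (by
      rw [eq_mul_inv_of_mul_eq hsb]
      exact E.mul_mem (E.mul_mem (E.mul_mem he (hAE ha)) (E.inv_mem he)) (E.inv_mem (hAE hb)))
    rw [hs1, one_mul] at hsb
    show e * a * e⁻¹ ∈ A
    exact hsb ▸ hb
  refine ⟨⟨hEA, fun X hXE hXc => ?_⟩, ⟨?_, ?_, ?_⟩, fun X hXA hXc hX => ?_⟩
  · have hXp : IsPGroup p X := IsPGroup.of_card (n := 1) (by rw [hXc, pow_one])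
    have hc := CfsgLib.SigmaGroups.commute_of_not_sigma hG hM hps (T := X ⊔ A)
      (hXp.to_sup_of_normal_right' (CfsgLib.Uniq.isPGroup_of_elementary hAe) (hXE.trans hEA))
      (sup_le (hXE.trans hEM) hAM)
    intro x hx
    refine CfsgLib.SigmaGroups.mem_of_centralizer_pow hG hM hps hAM hAe hAc
      (Subgroup.mem_centralizer_iff.2 fun a ha => hc a (Subgroup.mem_sup_right ha) x (Subgroup.mem_sup_left hx)) ?_
    have h := pow_card_eq_one' (x := (⟨x, hx⟩ : X))
    rw [hXc] at h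
    exact congrArg Subtype.val h
  · exact le_inf (CfsgLib.SigmaGroups.centralizer_le_maximal hG hM hAM hAe hAc) (Subgroup.centralizer_le_normalizer _)
  · refine le_antisymm (fun m hm => ?_) (le_inf hEM hEA)
    obtain ⟨e, he, s, hs, rfl⟩ := hE.2.2.2 m hm.1
    have hsA : s ∈ Subgroup.normalizer (A : Set G) := by
      simpa using mul_mem (inv_mem (hEA he)) hm.2
    have hs1 : s = 1 := by
      refine Subgroup.mem_bot.1 ((CfsgLib.SigmaGroups.sigmaCore_inf_centralizer_eq_bot hG hM hps hAM hAe hAc).le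
        ⟨hs, Subgroup.mem_centralizer_iff.2 fun a ha => ?_⟩)
      have h1 : a * (s * a⁻¹ * s⁻¹) ∈ A := A.mul_mem ha ((Subgroup.mem_normalizer_iff.1 hsA a⁻¹).1 (A.inv_mem ha))
      have h2 : a * (s * a⁻¹ * s⁻¹) ∈ Cfsg.sigmaCore M := by
        rw [show a * (s * a⁻¹ * s⁻¹) = (a * s * a⁻¹) * s⁻¹ by group]
        exact mul_mem ((Subgroup.mem_normalizer_iff.1 (CfsgLib.SigmaGroups.le_normalizer_sigmaCore M (hAM ha)) s).1 hs)
          (inv_mem hs)
      have h3 := hS _ h2 (hAE h1)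
      calc a * s = (a * (s * a⁻¹ * s⁻¹)) * (s * a) := by group
        _ = s * a := by rw [h3, one_mul]
    rw [hs1, mul_one]
    exact he
  · intro h
    obtain ⟨g, hg, hgM⟩ := CfsgLib.SigmaGroups.exists_normalizer_not_mem hG hM hps hAM hAe hAc
    exact hgM (h hg)
  · have hkey : ∀ L : Subgroup G, IsCoatom L → Subgroup.centralizer (X : Set G) ≤ L → L = M := by
      intro L hL hle
      by_contra hne
      refine hX (le_bot_iff.1 ((inf_le_inf_left _ hle).trans
        (CfsgLib.SigmaGroups.sigmaCore_inf_maximal_eq_bot hG hM hps hAM hAe hAc hL hne ?_).le))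
      exact ((CfsgLib.Uniq.elementary_le_centralizer hAe).trans (Subgroup.centralizer_le hXA)).trans hle
    refine ⟨?_, hkey⟩
    have hXp : IsPGroup p X := IsPGroup.of_card (n := 1) (by rw [hXc, pow_one])
    have hX1 : X ≠ ⊥ := fun h => by
      rw [h, Subgroup.card_bot] at hXc
      exact (Fact.out : p.Prime).one_lt.ne hXc
    obtain ⟨L, hL, hle⟩ := CfsgLib.Uniq.exists_coatom_ge (fun h : Subgroup.centralizer (X : Set G) = ⊤ =>
      CfsgLib.Uniq.normalizer_ne_top hG hX1 (CfsgLib.Uniq.pgroup_ne_top hG hXp)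
        (top_le_iff.1 (h ▸ Subgroup.centralizer_le_normalizer _)))
    exact hkey L hL hle ▸ hle


end Cfsg.Agent.S1418
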