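import Cfsg.Statements.S1420
import Cfsg.Agent.Sigma.TauTwoComplement

set_option autoImplicit false
open Cfsg

namespace Cfsg.Agent.S1420

/-- Let G be a minimal simple group of odd order, M a maximal subgroup and E a complement to M_σ in M. Then every nilpotent subgroup of M whose order involves no prime of σ(M) is abelian; E' is abelian; for p ∈ σ(M) and every noncyclic p-subgroup P of M, N_G(P) ≤ M; and if x ≠ 1 in M has every prime divisor of its order in τ₂(M) and centralizes a non-identity element of M_σ, then C_G(x) ≤ M and M is the unique maximal subgroup containing C_G(x). -/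
theorem result {G : Type*} [Group G] [Finite G] (hG : Cfsg.IsMinSimpleOddOrder G)
    (M : Subgroup G) (hM : IsCoatom M) (E : Subgroup G) (hE : Cfsg.IsComplIn E (Cfsg.sigmaCore M) M) :
    (∀ N : Subgroup G, N ≤ M → Group.IsNilpotent N → (∀ p : ℕ, p.Prime → p ∣ Nat.card N → p ∉ Cfsg.sigma M) → IsMulCommutative N) ∧
      IsMulCommutative ↥⁅E, E⁆ ∧
      (∀ (p : ℕ) (P : Subgroup G), p ∈ Cfsg.sigma M → IsPGroup p P → P ≤ M → ¬ IsCyclic P → Subgroup.normalizer (P : Set G) ≤ M) ∧
      ∀ x ∈ M, x ≠ 1 → (∀ p : ℕ, p.Prime → p ∣ orderOf x → p ∈ Cfsg.tau2 M) → x ∈ Cfsg.sigmaHat M →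
        Subgroup.centralizer ({x} : Set G) ≤ M ∧ ∀ L : Subgroup G, IsCoatom L → Subgroup.centralizer ({x} : Set G) ≤ L → L = M := by
  have hcomm : ∀ N : Subgroup G, N ≤ M → Group.IsNilpotent N →
      (∀ p : ℕ, p.Prime → p ∣ Nat.card N → p ∉ Cfsg.sigma M) → IsMulCommutative N := fun N h1 h2 h3 =>
    ⟨⟨fun a b => Subtype.ext ((Subgroup.mem_centralizer_iff.1
      (CfsgLib.SigmaGroups.le_centralizer_of_nilpotent hG hM h1 h2 h3 b.2) a a.2))⟩⟩
  refine ⟨hcomm, hcomm _ ((Subgroup.commutator_le_self E).trans hE.1)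
    (CfsgLib.SigmaGroups.derived_nilpotent_complement hG hM hE) (fun t ht hd hts =>
      CfsgLib.SigmaGroups.not_dvd_card_complement hG hM hE ht hts
        (hd.trans (Subgroup.card_dvd_of_le (Subgroup.commutator_le_self E)))), fun p P hp hP hPM hc => ?_,
    fun x hxM hx1 hτ hσ => ?_⟩
  · haveI := Fact.mk hp.1
    exact CfsgLib.SigmaGroups.normalizer_le_of_noncyclic hG hM hp hP hPM hc
  · have hX1 : Subgroup.zpowers x ≠ ⊥ := fun h => hx1 (Subgroup.zpowers_eq_bot.1 h)
    obtain ⟨E', hxE, hE'⟩ := CfsgLib.SigmaGroups.exists_complement_ge hG hM (Subgroup.zpowers_le.2 hxM)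
      fun t ht hd => (hτ t ht (by rwa [Nat.card_zpowers] at hd)).2.1
    obtain ⟨p, hpp, hpd⟩ := Nat.exists_prime_and_dvd (fun h => hx1 (orderOf_eq_one_iff.1 h))
    haveI := Fact.mk hpp
    have hp := hτ p hpp hpd
    obtain ⟨A, hAE, hA, hAc⟩ := CfsgLib.SigmaGroups.exists_elementary_in_complement hG hM hE' hp.2.1 hp.2.2.2
    have hxA : Subgroup.zpowers x ≤ Subgroup.centralizer (A : Set G) := by
      refine CfsgLib.SigmaGroups.le_of_prime_subgroups fun t ht T hT hTx => ?_
      haveI := Fact.mk ht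
      by_cases hT1 : T = ⊥
      · exact hT1 ▸ bot_le
      have hd : t ∣ orderOf x := Nat.card_zpowers x ▸
        (CfsgLib.Uniq.dvd_card_of_ne_bot hT hT1).trans (Subgroup.card_dvd_of_le hTx)
      exact CfsgLib.SigmaGroups.tau2_commute hG hM hE' hp.2.1 hAE hA hAc (hτ t ht hd) hT (hTx.trans hxE)
    have hkey : ∀ L : Subgroup G, IsCoatom L → Subgroup.centralizer ({x} : Set G) ≤ L → L = M := by
      intro L hL hle
      by_contra hne
      obtain ⟨-, y, hy, hy1, hxy⟩ := hσ
      have hAL : A ≤ L := fun a ha => hle (Subgroup.mem_centralizer_singleton_iff.2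
        (Subgroup.mem_centralizer_iff.1 (hxA (Subgroup.mem_zpowers x)) a ha))
      have hyL : y ∈ L := hle (Subgroup.mem_centralizer_singleton_iff.2 hxy.symm)
      have h := (CfsgLib.SigmaGroups.sigmaCore_inf_maximal_eq_bot hG hM hp.2.1 (hAE.trans hE'.1) hA hAc hL hne hAL).le
        (Subgroup.mem_inf.2 ⟨hy, hyL⟩)
      exact hy1 (Subgroup.mem_bot.1 h)
    refine ⟨?_, hkey⟩
    obtain ⟨L, hL, hle⟩ := CfsgLib.Uniq.exists_coatom_ge (CfsgLib.Uniq.centralizer_singleton_ne_top hG hx1)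
    exact hkey L hL hle ▸ hle


end Cfsg.Agent.S1420
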