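import Cfsg.Statements.S1369
import Cfsg.Agent.Sigma.KappaDecomp

set_option autoImplicit false
open Cfsg

namespace Cfsg.Agent.S1369

/-- Let G be a minimal simple group of odd order, M a maximal subgroup with standard factorisation M = K U M_σ, K ≠ 1, K* = M_σ ∩ C_G(K), and M* a maximal subgroup with K = M*_σ ∩ C_G(K*) and K* a Hall κ(M*)-subgroup of M*. Then either U ≠ 1 or every K*-invariant complement of K* M*_σ in M* is nontrivial; and every maximal subgroup H of G with κ(H) nonempty is conjugate to M or to M*. -/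
theorem result {G : Type*} [Group G] [Finite G] (hG : Cfsg.IsMinSimpleOddOrder G)
    (M : Subgroup G) (hM : IsCoatom M) (K U : Subgroup G) (hKU : Cfsg.IsSigmaDecomposition M K U) (hK1 : K ≠ ⊥) (Mstar : Subgroup G) (hMstar : IsCoatom Mstar)
    (hKst : K = Cfsg.sigmaCore Mstar ⊓ Subgroup.centralizer ((Cfsg.sigmaCore M ⊓ Subgroup.centralizer (K : Set G)) : Set G))
    (hKstH : Cfsg.IsPiHallOf (Cfsg.kappa Mstar) (Cfsg.sigmaCore M ⊓ Subgroup.centralizer (K : Set G)) Mstar) :
    (U ≠ ⊥ ∨ ∀ Ustar : Subgroup G, Cfsg.IsSigmaDecomposition Mstar (Cfsg.sigmaCore M ⊓ Subgroup.centralizer (K : Set G)) Ustar → Ustar ≠ ⊥) ∧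
      ∀ H : Subgroup G, IsCoatom H → (Cfsg.kappa H).Nonempty →
        ∃ g : G, H = M.map (MulAut.conj g).toMonoidHom ∨ H = Mstar.map (MulAut.conj g).toMonoidHom := by
  have P : CfsgLib.SigmaGroups.KappaPair M Mstar K := ⟨hKU.hall, hK1, hKst, hKstH⟩
  refine ⟨or_iff_not_imp_left.2 fun hU Us hUs hUs1 => ?_,
    fun H hH hk => CfsgLib.SigmaGroups.kappa_two_classes hG hM hMstar P hH hk⟩
  classical
  rw [ne_eq, not_not] at hU
  have hE := (CfsgLib.SigmaGroups.decomp_complement_card hG hM hKU).1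
  rw [hU, sup_bot_eq] at hE
  have hEs := (CfsgLib.SigmaGroups.decomp_complement_card hG hMstar hUs).1
  rw [hUs1, sup_bot_eq] at hEs
  set S := Cfsg.sigmaCore M ⊓ Subgroup.centralizer (K : Set G) with hS
  have hne : M ≠ Mstar := fun e => P.not_conj hG hM hMstar 1 (by rw [CfsgLib.SigmaGroups.map_conj_one, e])
  refine CfsgLib.SigmaGroups.false_of_p1_family hG (Z := K ⊔ S) {M, Mstar} (fun L => if L = M then K else S)
    (by rw [Finset.card_pair hne]) (fun L hL => ?_) fun w hw hwp => ?_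
  · rw [Finset.mem_insert, Finset.mem_singleton] at hL
    rcases hL with rfl | rfl
    · simp only [if_pos]
      exact ⟨hM, hKU.hall, hK1, hE, rfl⟩
    · simp only [if_neg hne.symm]
      refine ⟨hMstar, hKstH, CfsgLib.SigmaGroups.kappaStar_ne_bot hG hM hKU.hall hK1, hEs, ?_⟩
      rw [P.star_eq hG hM hMstar, sup_comm]
  · obtain ⟨u, hu, v, hv, he, -, -, hvz⟩ := CfsgLib.SigmaGroups.kappaZ_decomp hKU.hall hw
    by_cases hv1 : v = 1
    · refine ⟨Mstar, Finset.mem_insert_of_mem (Finset.mem_singleton_self _), ?_⟩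
      rw [hv1, mul_one] at he
      exact he ▸ (P.eq_star.le.trans inf_le_left) hu
    · refine ⟨M, Finset.mem_insert_self _ _, ?_⟩
      have : Subgroup.zpowers v = Subgroup.zpowers w := Subgroup.eq_of_le_of_card_ge (Subgroup.zpowers_le.2 hvz)
        (le_of_eq (by
          rw [Nat.card_zpowers, Nat.card_zpowers]
          exact ((hwp.eq_one_or_self_of_dvd _ (orderOf_dvd_of_mem_zpowers hvz)).resolve_left
            fun e => hv1 (orderOf_eq_one_iff.1 e)).symm))
      exact (Subgroup.zpowers_le.2 hv.1 : Subgroup.zpowers v ≤ _) (this ▸ Subgroup.mem_zpowers w)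


end Cfsg.Agent.S1369
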