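import Cfsg.Statements.S1368
import Cfsg.Agent.Sigma.KappaDecomp

set_option autoImplicit false
open Cfsg

namespace Cfsg.Agent.S1368

/-- Let G be a minimal simple group of odd order, M a maximal subgroup with standard factorisation M = K U M_σ, K ≠ 1, K* = M_σ ∩ C_G(K), and M* a maximal subgroup with K = M*_σ ∩ C_G(K*) and K* a Hall κ(M*)-subgroup of M*. Then M ∩ M* is the subgroup generated by K and K*, and it is cyclic. -/
theorem result {G : Type*} [Group G] [Finite G] (hG : Cfsg.IsMinSimpleOddOrder G)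
    (M : Subgroup G) (hM : IsCoatom M) (K U : Subgroup G) (hKU : Cfsg.IsSigmaDecomposition M K U) (hK1 : K ≠ ⊥) (Mstar : Subgroup G) (hMstar : IsCoatom Mstar)
    (hKst : K = Cfsg.sigmaCore Mstar ⊓ Subgroup.centralizer ((Cfsg.sigmaCore M ⊓ Subgroup.centralizer (K : Set G)) : Set G))
    (hKstH : Cfsg.IsPiHallOf (Cfsg.kappa Mstar) (Cfsg.sigmaCore M ⊓ Subgroup.centralizer (K : Set G)) Mstar) :
    M ⊓ Mstar = K ⊔ (Cfsg.sigmaCore M ⊓ Subgroup.centralizer (K : Set G)) ∧ IsCyclic ↥(K ⊔ (Cfsg.sigmaCore M ⊓ Subgroup.centralizer (K : Set G))) := by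
  have P : CfsgLib.SigmaGroups.KappaPair M Mstar K := ⟨hKU.hall, hK1, hKst, hKstH⟩
  set S := Cfsg.sigmaCore M ⊓ Subgroup.centralizer (K : Set G) with hS
  have hKs : K ≤ Cfsg.sigmaCore Mstar := P.eq_star.le.trans inf_le_left
  have hSM : Cfsg.sigmaCore M ≤ M := Subgroup.map_subtype_le _
  have hSsM : Cfsg.sigmaCore Mstar ≤ Mstar := Subgroup.map_subtype_le _
  have hinf : Cfsg.sigmaCore Mstar ⊓ M = K := le_antisymm
    ((le_inf inf_le_left ((CfsgLib.SigmaGroups.sigma_inf_commute hG hM hMstar (P.not_conj hG hM hMstar)).trans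
      (Subgroup.centralizer_le (le_inf inf_le_left hKstH.1 : S ≤ Cfsg.sigmaCore M ⊓ Mstar)))).trans
      (P.star_eq hG hM hMstar).le) (le_inf hKs hKU.hall.1)
  refine ⟨le_antisymm ?_ (sup_le (le_inf hKU.hall.1 (hKs.trans hSsM)) (le_inf (inf_le_left.trans hSM) hKstH.1)), ?_⟩
  · rintro g ⟨hgM, hgs⟩
    have hgK : g ∈ Subgroup.normalizer (K : Set G) := by
      rw [← hinf]
      exact Subgroup.inf_normalizer_le_normalizer_inf
        ⟨CfsgLib.SigmaGroups.le_normalizer_sigmaCore Mstar hgs, Subgroup.le_normalizer hgM⟩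
    rw [← CfsgLib.SigmaGroups.normalizer_kappa_eq hG hM hKU.hall hK1 le_rfl hK1 Subgroup.le_normalizer]
    exact ⟨hgM, hgK⟩
  haveI := hKU.cyclic
  haveI : IsCyclic S := CfsgLib.SigmaGroups.isCyclic_kappa_hall hG hMstar hKstH
  obtain ⟨a, ha⟩ := (Subgroup.isCyclic_iff_exists_zpowers_eq_top K).1 inferInstance
  obtain ⟨b, hb⟩ := (Subgroup.isCyclic_iff_exists_zpowers_eq_top S).1 inferInstance
  have haK : a ∈ K := ha ▸ Subgroup.mem_zpowers a
  have hbS : b ∈ S := hb ▸ Subgroup.mem_zpowers b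
  have hab : Commute a b :=
    (Subgroup.mem_centralizer_iff.1 (CfsgLib.SigmaGroups.kappaZ_commute (M := M) haK) b hbS).symm
  have hc := CfsgLib.SigmaGroups.orderOf_coprime_of_coprime (CfsgLib.SigmaGroups.kappaZ_coprime hKU.hall) haK hbS
  refine (Subgroup.isCyclic_iff_exists_zpowers_eq_top _).2 ⟨a * b, le_antisymm
    (Subgroup.zpowers_le.2 (Subgroup.mul_mem_sup haK hbS)) (sup_le ?_ ?_)⟩
  · rw [← ha, Subgroup.zpowers_le]
    exact CfsgLib.SigmaGroups.mem_zpowers_mul_of_coprime hab hc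
  · rw [← hb, Subgroup.zpowers_le, hab.eq]
    exact CfsgLib.SigmaGroups.mem_zpowers_mul_of_coprime hab.symm hc.symm


end Cfsg.Agent.S1368
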