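import Cfsg.Statements.S1432
import Cfsg.Agent.Sigma.KappaStar

set_option autoImplicit false
open Cfsg

namespace Cfsg.Agent.S1432

/-- Let G be a minimal simple group of odd order, M a maximal subgroup, x a non-identity element of M_σ and x' a non-identity element of C_M(x) no prime divisor of whose order lies in σ(M). Then either all prime divisors of the order of x' lie in κ(M) and C_G(x) ≤ M; or all of them lie in τ₂(M), they all lie in σ(L) for a single maximal subgroup L, and C_G(x') ≤ M with M the unique maximal subgroup containing C_G(x'). -/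
theorem result {G : Type*} [Group G] [Finite G] (hG : Cfsg.IsMinSimpleOddOrder G)
    (M : Subgroup G) (hM : IsCoatom M) (x : G) (hx : x ∈ Cfsg.sigmaCore M) (hx1 : x ≠ 1) (x' : G) (hx' : x' ∈ M ⊓ Subgroup.centralizer ({x} : Set G)) (hx'1 : x' ≠ 1)
    (hσ : ∀ p : ℕ, p.Prime → p ∣ orderOf x' → p ∉ Cfsg.sigma M) :
    ((∀ p : ℕ, p.Prime → p ∣ orderOf x' → p ∈ Cfsg.kappa M) ∧ Subgroup.centralizer ({x} : Set G) ≤ M) ∨
      ((∀ p : ℕ, p.Prime → p ∣ orderOf x' → p ∈ Cfsg.tau2 M) ∧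
        (∃ L : Subgroup G, IsCoatom L ∧ ∀ p : ℕ, p.Prime → p ∣ orderOf x' → p ∈ Cfsg.sigma L) ∧
        (Subgroup.centralizer ({x'} : Set G) ≤ M ∧ ∀ L : Subgroup G, IsCoatom L → Subgroup.centralizer ({x'} : Set G) ≤ L → L = M)) := by
  have hxS := hx
  have hx'M : x' ∈ M := hx'.1
  have hxx' : x ∈ Subgroup.centralizer (Subgroup.zpowers x' : Set G) := by
    rw [CfsgLib.SigmaGroups.centralizer_zpowers]
    exact Subgroup.mem_centralizer_singleton_iff.2 (Subgroup.mem_centralizer_singleton_iff.1 hx'.2).symm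
  have hline : ∀ p : ℕ, p.Prime → p ∣ orderOf x' → ∃ y ∈ Subgroup.zpowers x', orderOf y = p := fun p hp hd => by
    haveI := Fact.mk hp
    exact CfsgLib.SigmaGroups.exists_elem_prime (by rwa [Nat.card_zpowers])
  have hdiv : ∀ p : ℕ, p.Prime → p ∣ orderOf x' → p ∈ Cfsg.kappa M ∨ p ∈ Cfsg.tau2 M := fun p hp hd => by
    haveI := Fact.mk hp
    obtain ⟨y, hy, hyo⟩ := hline p hp hd
    have hyM : y ∈ M := Subgroup.zpowers_le.2 hx'M hy
    rcases CfsgLib.SigmaGroups.mem_tau13_or_tau2 hG hM (hd.trans (Subgroup.orderOf_dvd_natCard M hx'M))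
      (hσ p hp hd) with ⟨-, hrk⟩ | h2
    · refine Or.inl (by_contra fun hk => hx1 (Subgroup.mem_bot.1
        (CfsgLib.SigmaGroups.free_of_not_kappa hG (hσ p hp hd) hk hrk hyM hyo ▸ Subgroup.mem_inf.2 ⟨hxS, ?_⟩)))
      rw [← CfsgLib.SigmaGroups.centralizer_zpowers]
      exact Subgroup.centralizer_le (Subgroup.zpowers_le.2 hy) hxx'
    · exact Or.inr h2
  by_cases hex : ∃ p : ℕ, p.Prime ∧ p ∣ orderOf x' ∧ p ∈ Cfsg.kappa M
  · obtain ⟨p, hp, hd, hk⟩ := hex
    haveI := Fact.mk hp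
    obtain ⟨y, hy, hyo⟩ := hline p hp hd
    obtain ⟨hps, hrk, -, -⟩ := CfsgLib.SigmaGroups.kappa_basic hG hM hk
    have hPc : Nat.card (Subgroup.zpowers y) = p := by rw [Nat.card_zpowers, hyo]
    have hPM : Subgroup.zpowers y ≤ M := Subgroup.zpowers_le.2 (Subgroup.zpowers_le.2 hx'M hy)
    have hxP : x ∈ Subgroup.centralizer (Subgroup.zpowers y : Set G) :=
      Subgroup.centralizer_le (Subgroup.zpowers_le.2 hy) hxx'
    refine Or.inl ⟨fun q hq hqd => ?_, CfsgLib.SigmaGroups.centralizer_le_of_fixed hG hM hps hrk hPc hPM hxS hx1 hxP⟩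
    by_contra hqk
    haveI := Fact.mk hq
    obtain ⟨w, hw, hwo⟩ := hline q hq hqd
    refine CfsgLib.SigmaGroups.false_of_kappa_pair hG hM hps hrk hPc hPM (R := Subgroup.zpowers w)
      (by rw [Nat.card_zpowers, hwo]) (Subgroup.zpowers_le.2 (Subgroup.zpowers_le.2 hx'M hw)) (hσ q hq hqd) hqk ?_
      hxS hx1 hxP (Subgroup.centralizer_le (Subgroup.zpowers_le.2 hw) hxx')
    exact fun a ha => Subgroup.mem_centralizer_iff.2 fun b hb => setLike_mul_comm
      (Subgroup.zpowers_le.2 hy hb : b ∈ Subgroup.zpowers x') (Subgroup.zpowers_le.2 hw ha)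
  push Not at hex
  have h2 : ∀ p : ℕ, p.Prime → p ∣ orderOf x' → p ∈ Cfsg.tau2 M := fun p hp hd =>
    (hdiv p hp hd).resolve_left (hex p hp hd)
  obtain ⟨E, -, hE⟩ := CfsgLib.SigmaGroups.exists_complement_ge hG hM (bot_le : (⊥ : Subgroup G) ≤ M)
    fun s hs hd => absurd ((Subgroup.card_bot (G := G)) ▸ hd) hs.not_dvd_one
  refine Or.inr ⟨h2, ?_, (Cfsg.Agent.S1420.result hG M hM E hE).2.2.2 x' hx'M hx'1 h2
    ⟨hx'M, x, hxS, hx1, Subgroup.mem_centralizer_singleton_iff.1 hx'.2⟩⟩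
  obtain ⟨p, hp, hd⟩ := Nat.exists_prime_and_dvd fun h => hx'1 (orderOf_eq_one_iff.1 h)
  haveI := Fact.mk hp
  have hp2 := h2 p hp hd
  obtain ⟨A, hAE, hA, hAc⟩ := CfsgLib.SigmaGroups.exists_elementary_in_complement hG hM hE hp2.2.1 hp2.2.2.2
  have hA1 : A ≠ ⊥ := CfsgLib.SigmaGroups.ne_bot_of_card_sq hAc
  obtain ⟨L, hL, hNL⟩ := CfsgLib.Uniq.exists_coatom_ge
    (CfsgLib.Uniq.normalizer_ne_top hG hA1 (CfsgLib.Uniq.pgroup_ne_top hG (CfsgLib.Uniq.isPGroup_of_elementary hA)))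
  have hpL : p ∈ Cfsg.sigma L := CfsgLib.SigmaGroups.sigma_of_normalizer_elementary hG hA hAc hL hNL
  have hne : M ≠ L := fun h => hp2.2.1 (h ▸ hpL)
  refine ⟨L, hL, fun q hq hqd => by_contra fun hqL => ?_⟩
  haveI := Fact.mk hq
  have hq2 := h2 q hq hqd
  obtain ⟨B, hBE, hB, hBc⟩ := CfsgLib.SigmaGroups.exists_elementary_in_complement hG hM hE hq2.2.1 hq2.2.2.2
  have hBA : B ≤ Subgroup.centralizer (A : Set G) := CfsgLib.SigmaGroups.tau2_commute hG hM hE hp2.2.1 hAE hA hAc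
    hq2 (CfsgLib.Uniq.isPGroup_of_elementary hB) hBE
  have hBL : B ≤ L := hBA.trans ((Subgroup.centralizer_le_normalizer _).trans hNL)
  have hAL : A ≤ L := Subgroup.le_normalizer.trans hNL
  have h := CfsgLib.SigmaGroups.sigmaCore_inf_maximal_eq_bot hG hL hqL hBL hB hBc hM hne (hBE.trans hE.1)
  exact hA1 (le_bot_iff.1 (h ▸ le_inf (CfsgLib.SigmaGroups.le_sigmaCore hG hL hpL
    (CfsgLib.Uniq.isPGroup_of_elementary hA) hAL) (hAE.trans hE.1)))


end Cfsg.Agent.S1432
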