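import Cfsg.Statements.S1358
import Cfsg.Agent.Sigma.KappaDecomp

set_option autoImplicit false
open Cfsg

namespace Cfsg.Agent.S1358

/-- Let G be a minimal simple group of odd order and M a maximal subgroup with standard factorisation M = K U M_σ. Then for every prime p, every Sylow p-subgroup of U is abelian and has no elementary abelian subgroup of order p ^ 3. -/
theorem result {G : Type*} [Group G] [Finite G] (hG : Cfsg.IsMinSimpleOddOrder G)
    (M : Subgroup G) (hM : IsCoatom M) (K U : Subgroup G) (hKU : Cfsg.IsSigmaDecomposition M K U) :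
    ∀ (p : ℕ), p.Prime → ∀ P : Sylow p U, IsMulCommutative (P : Subgroup U) ∧ Cfsg.PRankLE p 2 (P : Subgroup U) := by
  intro p hp P
  haveI := Fact.mk hp
  obtain ⟨hE, hU⟩ := CfsgLib.SigmaGroups.decomp_complement_card hG hM hKU
  set W := (P : Subgroup U).map U.subtype with hW
  have hWp : IsPGroup p W := P.isPGroup'.map _
  have hWU : W ≤ U := Subgroup.map_subtype_le _
  have hWM : W ≤ M := hWU.trans hU.1
  have hσ : ∀ t : ℕ, t.Prime → t ∣ Nat.card W → t ∉ Cfsg.sigma M := fun t ht hd =>
    (hU.2.1 t ht (hd.trans (Subgroup.card_dvd_of_le hWU))).2.2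
  haveI := (Cfsg.Agent.S1420.result hG M hM _ hE).1 W hWM hWp.isNilpotent hσ
  have e := (P : Subgroup U).equivMapOfInjective U.subtype U.subtype_injective
  refine ⟨⟨⟨fun a b => e.injective (by rw [map_mul, map_mul, mul_comm' (e a) (e b)])⟩⟩, fun A hA hAp => ?_⟩
  by_cases hd : p ∣ Nat.card U
  swap
  · by_contra hne
    have h1 : Nat.card A ≠ 1 := fun h => hne (h ▸ Nat.one_le_pow _ _ hp.pos)
    obtain ⟨t, ht, htd⟩ := Nat.exists_prime_and_dvd h1
    have htP : t ∣ Nat.card W := by
      rw [hW, Subgroup.card_map_of_injective U.subtype_injective]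
      exact htd.trans (Subgroup.card_subgroup_dvd_card A)
    exact hd (CfsgLib.SigmaGroups.primes_of_pgroup hp hWp t ht htP ▸ htP.trans (Subgroup.card_dvd_of_le hWU))
  have hps := (hU.2.1 p hp hd).2.2
  have hr := CfsgLib.SigmaGroups.prankLE_two_of_not_sigma hG hM hps
  set f : ↥(P : Subgroup U) →* ↥M := (Subgroup.inclusion hU.1).comp (P : Subgroup U).subtype with hf
  have hfi : Function.Injective f := (Subgroup.inclusion_injective hU.1).comp (P : Subgroup U).subtype_injective
  have h := hr (A.map f) (by haveI := hA; infer_instance) (by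
    rintro _ ⟨a, ha, rfl⟩
    rw [← map_pow, hAp a ha, map_one])
  rwa [Subgroup.card_map_of_injective hfi] at h


end Cfsg.Agent.S1358
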