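import Cfsg.Statements.S1360
import Cfsg.Agent.Sigma.KappaFreeElement

set_option autoImplicit false
open Cfsg

namespace Cfsg.Agent.S1360

/-- Let G be a minimal simple group of odd order and M a maximal subgroup with standard factorisation M = K U M_σ. Then U contains a subgroup U₀ with the same exponent as U such that no non-identity element of U₀ centralizes a non-identity element of M_σ. -/
theorem result {G : Type*} [Group G] [Finite G] (hG : Cfsg.IsMinSimpleOddOrder G)
    (M : Subgroup G) (hM : IsCoatom M) (K U : Subgroup G) (hKU : Cfsg.IsSigmaDecomposition M K U) :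
    ∃ U₀ : Subgroup G, U₀ ≤ U ∧ Monoid.exponent U₀ = Monoid.exponent U ∧ ∀ u ∈ U₀, u ∈ Cfsg.sigmaHat M → u = 1 := by
  by_cases hK1 : K = ⊥
  · subst hK1
    obtain ⟨hE, -⟩ := CfsgLib.SigmaGroups.decomp_complement_card hG hM hKU
    rw [bot_sup_eq] at hE
    obtain ⟨-, E₀, h1, h2, h3⟩ := Cfsg.Agent.S1421.result hG M hM U hE
      (CfsgLib.SigmaGroups.free_of_kappa_empty hG hM hE (CfsgLib.SigmaGroups.kappa_empty_of_bot hKU.hall))
    refine ⟨E₀, h1, h2, fun u hu ⟨_, y, hy, hy1, huy⟩ => by_contra fun hu1 => hy1 ?_⟩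
    exact Subgroup.mem_bot.1 (h3 u hu hu1 ▸ Subgroup.mem_inf.2
      ⟨hy, Subgroup.mem_centralizer_singleton_iff.2 huy.symm⟩)
  exact CfsgLib.SigmaGroups.exists_free_exponent hG hM hKU
    (CfsgLib.SigmaGroups.decomp_kappa_structure hG hM hKU hK1).1


end Cfsg.Agent.S1360
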