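import Cfsg.Statements.S1439
import Cfsg.Agent.Sigma.TauTwoComplement

set_option autoImplicit false
set_option linter.style.haveILetI false
open Cfsg

namespace Cfsg.Agent.S1439
open CfsgLib CfsgLib.SigmaGroups CfsgLib.BenderUnique CfsgLib.Uniq

/-- Let G be a minimal simple group of odd order and M a maximal subgroup, and let Y be the largest normal subgroup of F(M) involving no prime of σ(M). Then Y is cyclic, every prime divisor of its order lies in τ₂(M), and F(M) is generated by F(M_σ) and Y (a direct product, the orders being coprime). -/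
theorem result {G : Type*} [Group G] [Finite G] (hG : Cfsg.IsMinSimpleOddOrder G)
    (M : Subgroup G) (hM : IsCoatom M) :
    IsCyclic ↥(Cfsg.piCoreOf {q | q.Prime ∧ q ∉ Cfsg.sigma M} (Cfsg.fittingOf M)) ∧
      (∀ p : ℕ, p.Prime → p ∣ Nat.card ↥(Cfsg.piCoreOf {q | q.Prime ∧ q ∉ Cfsg.sigma M} (Cfsg.fittingOf M)) → p ∈ Cfsg.tau2 M) ∧
      Cfsg.fittingOf M = Cfsg.fittingOf (Cfsg.sigmaCore M) ⊔ Cfsg.piCoreOf {q | q.Prime ∧ q ∉ Cfsg.sigma M} (Cfsg.fittingOf M) := by
  set π := {q : ℕ | q.Prime ∧ q ∉ Cfsg.sigma M} with hπ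
  set F := Cfsg.fittingOf M with hF
  set Y := Cfsg.piCoreOf π F with hY
  haveI hFn : Group.IsNilpotent ↥F := PrimeAction.fittingOf_nilpotent M
  have hFM : F ≤ M := fittingOf_le M
  have hMF : M ≤ Subgroup.normalizer (F : Set G) :=
    Subgroup.le_normalizer.trans (normalizer_le_normalizer_fittingOf M)
  have hYF : Y ≤ F := Subgroup.map_subtype_le _
  have hMY : M ≤ Subgroup.normalizer (Y : Set G) := by
    haveI := piCore_characteristic π ↥F
    exact hMF.trans (normalizer_le_normalizer_map F _)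
  haveI hYn : Group.IsNilpotent ↥Y :=
    Group.nilpotent_of_mulEquiv (Subgroup.subgroupOfEquivOfLe hYF)
  have hYπ : ∀ q : ℕ, q.Prime → q ∣ Nat.card Y → q ∉ Cfsg.sigma M := fun q hq hd =>
    ((Hall.isPiSubgroup_piCore : Cfsg.IsPiSubgroup π (Cfsg.piCore π ↥F)) q hq
      (by rwa [hY, Cfsg.piCoreOf, Subgroup.card_map_of_injective F.subtype_injective] at hd)).2
  -- a nontrivial normal `q`-subgroup of `M` inside `Y` is cyclic with `q ∈ τ₂(M)`
  have key : ∀ q : ℕ, q.Prime → ∀ T : Subgroup G, IsPGroup q T → T ≤ Y → M ≤ Subgroup.normalizer (T : Set G) →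
      T ≠ ⊥ → IsCyclic T ∧ q ∈ Cfsg.tau2 M := by
    intro q hq T hT hTY hMT hT1
    haveI := Fact.mk hq
    have hqs := hYπ q hq ((dvd_card_of_ne_bot hT hT1).trans (Subgroup.card_dvd_of_le hTY))
    have hTM : T ≤ M := hTY.trans (hYF.trans hFM)
    have hq2 : q ≠ 2 := ne_two hG ((dvd_card_of_ne_bot hT hT1).trans (Subgroup.card_subgroup_dvd_card T))
    have hTc : IsCyclic T := by
      by_contra hc
      obtain ⟨B, hBT, hB, hBc⟩ := exists_elem_sq hq2 hT hc
      obtain ⟨S, hS⟩ := exists_max_ge hT hTM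
      have hO := mem_iff_pow_eq_one hG hM hqs hB hBc S (hBT.trans hS)
      have hMB : M ≤ Subgroup.normalizer (B : Set G) := fun m hm => by
        refine mem_normalizer_of_map_le ?_
        rintro _ ⟨b, hb, rfl⟩
        exact (hO _ (hS ((Subgroup.mem_normalizer_iff.1 (hMT hm) b).1 (hBT hb)))).1
          (by rw [← MulAut.conj_apply, ← map_pow, hB.2 b hb, map_one])
      obtain ⟨E, hBE, hE⟩ := exists_complement_ge hG hM (hBT.trans hTM) fun t ht hd => by
        rw [hBc] at hd
        exact (Nat.prime_dvd_prime_iff_eq ht hq).1 (ht.dvd_of_dvd_pow hd) ▸ hqs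
      obtain ⟨-, ⟨-, -, hN⟩, -⟩ := S1418.result hG M hM E hE q
        (mem_tau2_of_elementary hG hM hqs (hBT.trans hTM) hB hBc) B ⟨hBE, hB, hBc⟩
      exact hN ((hM.le_iff.1 hMB).resolve_left (normalizer_ne_top hG
        (ne_bot_of_card_sq hBc) (pgroup_ne_top hG (isPGroup_of_elementary hB)))).le
    refine ⟨hTc, ?_⟩
    obtain ⟨z, hzT, hzo, -⟩ := exists_elem_pow hT hT1
    set Z := Subgroup.zpowers z with hZdef
    have hZT : Z ≤ T := Subgroup.zpowers_le.2 hzT
    have hZc : Nat.card Z = q := by rw [hZdef, Nat.card_zpowers, hzo]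
    have hZ1 : Z ≠ ⊥ := fun h => by
      rw [h, Subgroup.card_bot] at hZc
      exact hq.one_lt.ne hZc
    have hNZ : Subgroup.normalizer (Z : Set G) = M :=
      (hM.le_iff.1 (hMT.trans (normalizer_le_normalizer_of_cyclic hZT))).resolve_left
        (normalizer_ne_top hG hZ1 (pgroup_ne_top hG (hT.to_le hZT)))
    obtain ⟨⟨h2, h1⟩, -⟩ := normalizer_in_maximal hG hM hqs hZc hNZ.le
    exact ⟨hq, hqs, h2, h1⟩
  have hiff := (Group.isNilpotent_of_finite_tfae (G := ↥Y)).out 0 3
  have hMS : ∀ (q : ℕ) [Fact q.Prime] (S : Sylow q ↥Y),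
      M ≤ Subgroup.normalizer (((S : Subgroup ↥Y).map Y.subtype : Subgroup G) : Set G) := fun q _ S => by
    haveI := Sylow.characteristic_of_normal S (hiff.1 hYn q inferInstance S)
    exact hMY.trans (le_normalizer_map_subtype_of_char _)
  refine ⟨?_, fun q hq hd => ?_, ?_⟩
  · haveI : IsZGroup ↥Y := by
      refine ⟨fun q hq S => ?_⟩
      haveI := Fact.mk hq
      by_cases h1 : (S : Subgroup ↥Y) = ⊥
      · rw [h1]; infer_instance
      have hc := (key q hq _ (S.isPGroup'.map _) (Subgroup.map_subtype_le _) (hMS q S)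
        (by rwa [Ne, Subgroup.map_eq_bot_iff_of_injective _ Y.subtype_injective])).1
      exact ((S : Subgroup ↥Y).equivMapOfInjective Y.subtype Y.subtype_injective).isCyclic.2 hc
    infer_instance
  · haveI := Fact.mk hq
    obtain ⟨S⟩ : Nonempty (Sylow q ↥Y) := inferInstance
    exact (key q hq _ (S.isPGroup'.map _) (Subgroup.map_subtype_le _) (hMS q S)
      (by rw [Ne, Subgroup.map_eq_bot_iff_of_injective _ Y.subtype_injective]; exact S.ne_bot_of_dvd_card hd)).2
  · refine le_antisymm (le_of_prime_subgroups fun t ht T hT hTF => ?_)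
      (sup_le (fittingOf_mono (Subgroup.map_subtype_le _) (le_normalizer_sigmaCore M)) hYF)
    haveI := Fact.mk ht
    have hTU : T ≤ Cfsg.pCoreOf t M := by
      rw [← Subgroup.map_subgroupOf_eq_of_le (hTF.trans hFM)]
      refine Subgroup.map_mono (le_pCore_of_le_fitting
        (hT.of_equiv (Subgroup.subgroupOfEquivOfLe (hTF.trans hFM)).symm) ?_)
      intro x hx
      obtain ⟨y, hy, hyx⟩ := hTF hx
      rwa [← Subtype.ext hyx]
    refine hTU.trans ?_
    have hUM : Cfsg.pCoreOf t M ≤ M := pCoreOf_le t M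
    have hMU : M ≤ Subgroup.normalizer (Cfsg.pCoreOf t M : Set G) :=
      Subgroup.le_normalizer.trans (normalizer_le_normalizer_pCoreOf t M)
    have hUp := isPGroup_pCoreOf t M
    by_cases hts : t ∈ Cfsg.sigma M
    · exact le_sup_of_le_left (le_fittingOf (le_sigmaCore hG hM hts hUp hUM)
        ((Subgroup.map_subtype_le _ : Cfsg.sigmaCore M ≤ M).trans hMU) hUp.isNilpotent)
    · refine le_sup_of_le_right ?_
      have hUF : Cfsg.pCoreOf t M ≤ F := pCoreOf_le_fittingOf t M
      haveI := Subgroup.normal_subgroupOf_of_le_normalizer (hFM.trans hMU)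
      rw [← Subgroup.map_subgroupOf_eq_of_le hUF]
      refine Subgroup.map_mono (Hall.le_piCore fun s hs hd => ?_)
      rw [Nat.card_congr (Subgroup.subgroupOfEquivOfLe hUF).toEquiv] at hd
      obtain ⟨n, hn⟩ := hUp.exists_card_eq
      rw [hn] at hd
      exact ⟨hs, (Nat.prime_dvd_prime_iff_eq hs ht).1 (hs.dvd_of_dvd_pow hd) ▸ hts⟩


end Cfsg.Agent.S1439
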