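import Cfsg.Statements.S1372
import Cfsg.Agent.Sigma.KappaTypeTwoNormalizer
import Cfsg.Agent.S1439
import Cfsg.Agent.PrimeAction.Fitting

set_option autoImplicit false
open Cfsg

namespace Cfsg.Agent.S1372

/-- Let G be a minimal simple group of odd order and M a maximal subgroup with standard factorisation M = K U M_σ, K ≠ 1 and U ≠ 1. Then K has prime order, and the Fitting subgroup F(M) contains M_σ and is a TI-subset of G. -/
theorem result {G : Type*} [Group G] [Finite G] (hG : Cfsg.IsMinSimpleOddOrder G)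
    (M : Subgroup G) (hM : IsCoatom M) (K U : Subgroup G) (hKU : Cfsg.IsSigmaDecomposition M K U) (hK1 : K ≠ ⊥) (hU1 : U ≠ ⊥) :
    (Nat.card K).Prime ∧ Cfsg.IsTISubset (Cfsg.fittingOf M : Set G) ∧ Cfsg.sigmaCore M ≤ Cfsg.fittingOf M := by
  obtain ⟨hE, hU⟩ := CfsgLib.SigmaGroups.decomp_complement_card hG hM hKU
  obtain ⟨hn, -⟩ := CfsgLib.SigmaGroups.decomp_fixed hG hM hKU hU1
  obtain ⟨r, hr, hrU⟩ := Nat.exists_prime_and_dvd fun e => hU1 (Subgroup.card_eq_one.1 e)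
  haveI := Fact.mk hr
  have hSM : Cfsg.sigmaCore M ≤ M := Subgroup.map_subtype_le _
  refine ⟨CfsgLib.SigmaGroups.prime_card_of_dvd_non_kappa hG hM hKU.hall hK1
    (hrU.trans (Subgroup.card_dvd_of_le hU.1)) (hU.2.1 r hr hrU).2.2 (hU.2.1 r hr hrU).2.1, ?_,
    CfsgLib.BenderUnique.le_fittingOf hSM (CfsgLib.SigmaGroups.le_normalizer_sigmaCore M) hn⟩
  set F := Cfsg.fittingOf M with hF
  have hFM : F ≤ M := Subgroup.map_subtype_le _
  have hMF : M ≤ Subgroup.normalizer (F : Set G) := by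
    rw [← Subgroup.normal_subgroupOf_iff_le_normalizer hFM, hF, Cfsg.fittingOf, Subgroup.subgroupOf,
      Subgroup.comap_map_eq_self_of_injective M.subtype_injective]
    haveI := CfsgLib.Components.fittingSubgroup_characteristic (G := ↥M)
    infer_instance
  have hFn : Group.IsNilpotent F := CfsgLib.PrimeAction.fittingOf_nilpotent M
  intro g hg x hx hgx
  have hgM : g ∉ M := fun h => hg (hMF h)
  by_contra hx1
  obtain ⟨p, hp, hpd⟩ := Nat.exists_prime_and_dvd fun e => hx1 (orderOf_eq_one_iff.1 e)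
  haveI := Fact.mk hp
  set y := x ^ (orderOf x / p) with hy
  have hyo : orderOf y = p := orderOf_pow_orderOf_div (orderOf_pos x).ne' hpd
  have hyF : y ∈ F := pow_mem hx _
  have hgyF : g * y * g⁻¹ ∈ F := by rw [hy, ← conj_pow]; exact pow_mem hgx _
  have hy1 : y ≠ 1 := fun h => hp.one_lt.ne (by rw [← hyo, h, orderOf_one])
  have hgyo : orderOf (g * y * g⁻¹) = p := ((MulAut.conj g).orderOf_eq y).trans hyo
  by_cases hps : p ∈ Cfsg.sigma M
  · have hmem : ∀ a ∈ M, orderOf a = p → a ∈ Cfsg.sigmaCore M := fun a ha hao =>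
      CfsgLib.SigmaGroups.le_sigmaCore hG hM hps (IsPGroup.of_card (n := 1) (by rw [Nat.card_zpowers, hao, pow_one]))
        (Subgroup.zpowers_le.2 ha) (Subgroup.mem_zpowers a)
    have hyS := hmem y (hFM hyF) hyo
    have hym : y ∈ Cfsg.sigmaCore M ⊓ M.map (MulAut.conj g⁻¹).toMonoidHom :=
      Subgroup.mem_inf.2 ⟨hyS, g * y * g⁻¹, hFM hgyF, by show g⁻¹ * (g * y * g⁻¹) * g⁻¹⁻¹ = y; group⟩
    refine ((Cfsg.Agent.S1426.result hG M hM _ hE).2.2 g⁻¹ fun h => hgM (inv_mem_iff.1 h)).2.1 p hp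
      (hyo ▸ Subgroup.orderOf_dvd_natCard _ hym) ?_
    exact CfsgLib.SigmaGroups.decomp_sigma_beta hG hM hKU hK1 hU1 (hyo ▸ Subgroup.orderOf_dvd_natCard _ hyS)
  obtain ⟨T₀⟩ : Nonempty (Sylow p ↥F) := inferInstance
  set T := (T₀ : Subgroup ↥F).map F.subtype with hT
  have h4 : ∀ (s : ℕ) (_ : Fact s.Prime) (P : Sylow s ↥F), (P : Subgroup ↥F).Normal :=
    ((Group.isNilpotent_of_finite_tfae (G := ↥F)).out 0 3).1 hFn
  haveI := Sylow.unique_of_normal T₀ (h4 p inferInstance T₀)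
  have hmemT : ∀ a ∈ F, orderOf a = p → a ∈ T := fun a ha hao => by
    have hA : IsPGroup p (Subgroup.zpowers (⟨a, ha⟩ : ↥F)) :=
      IsPGroup.of_card (n := 1) (by rw [Nat.card_zpowers, Subgroup.orderOf_mk, hao, pow_one])
    obtain ⟨S', hS'⟩ := hA.exists_le_sylow
    rw [Subsingleton.elim S' T₀] at hS'
    exact ⟨⟨a, ha⟩, hS' (Subgroup.mem_zpowers _), rfl⟩
  haveI : IsCyclic ↥T := by
    haveI := (Cfsg.Agent.S1439.result hG M hM).1
    haveI : (T₀ : Subgroup ↥F).Normal := h4 p inferInstance T₀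
    refine Subgroup.isCyclic_of_le (H' := Cfsg.piCoreOf {q | q.Prime ∧ q ∉ Cfsg.sigma M} F) (Subgroup.map_mono ?_)
    refine CfsgLib.Hall.le_piCore fun s hs hd => ⟨hs, ?_⟩
    obtain ⟨n, hn'⟩ := T₀.isPGroup'.exists_card_eq
    rw [hn'] at hd
    rw [(Nat.prime_dvd_prime_iff_eq hs hp).1 (hs.dvd_of_dvd_pow hd)]
    exact hps
  have hzy : Subgroup.zpowers (g * y * g⁻¹) = Subgroup.zpowers y :=
    CfsgLib.Chev.Ree.GL0.eq_of_card_eq (A := T) (Subgroup.zpowers_le.2 (hmemT _ hgyF hgyo))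
      (Subgroup.zpowers_le.2 (hmemT y hyF hyo)) (by rw [Nat.card_zpowers, Nat.card_zpowers, hgyo, hyo])
  have hgN : g ∈ Subgroup.normalizer (Subgroup.zpowers y : Set G) := by
    rw [Subgroup.mem_normalizer_iff_map_conj_eq, MonoidHom.map_zpowers]
    exact hzy
  have hMN : M ≤ Subgroup.normalizer (Subgroup.zpowers y : Set G) :=
    (CfsgLib.SigmaGroups.le_normalizer_sylow_map hFn T₀ hMF).trans
      (CfsgLib.SigmaGroups.normalizer_le_normalizer_of_cyclic (Subgroup.zpowers_le.2 (hmemT y hyF hyo)))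
  rcases hM.le_iff.1 hMN with h | h
  · exact CfsgLib.SigmaGroups.normalizer_zpowers_ne_top hG hy1 h
  · exact hgM (h ▸ hgN)


end Cfsg.Agent.S1372
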