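import Cfsg.Statements.S1363
import Cfsg.Agent.Sigma.KappaTypeTwoNormalizer

set_option autoImplicit false
open Cfsg

namespace Cfsg.Agent.S1363

/-- Let G be a minimal simple group of odd order and M a maximal subgroup with standard factorisation M = K U M_σ and K ≠ 1. Then U is abelian and the normalizer of U in G is not contained in M. -/
theorem result {G : Type*} [Group G] [Finite G] (hG : Cfsg.IsMinSimpleOddOrder G)
    (M : Subgroup G) (hM : IsCoatom M) (K U : Subgroup G) (hKU : Cfsg.IsSigmaDecomposition M K U) (hK1 : K ≠ ⊥) :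
    IsMulCommutative U ∧ ¬ Subgroup.normalizer (U : Set G) ≤ M := by
  refine ⟨(CfsgLib.SigmaGroups.decomp_kappa_structure hG hM hKU hK1).1, fun hle => ?_⟩
  by_cases hU1 : U = ⊥
  · refine hM.1 (top_le_iff.1 (le_trans (fun x _ => ?_) hle))
    subst hU1
    exact Subgroup.mem_normalizer_iff.2 fun y => by simp
  obtain ⟨r, hr, hrU⟩ := Nat.exists_prime_and_dvd fun e => hU1 (Subgroup.card_eq_one.1 e)
  haveI := Fact.mk hr
  obtain ⟨R⟩ : Nonempty (Sylow r ↥U) := inferInstance
  obtain ⟨Ms, hMs, P⟩ := CfsgLib.SigmaGroups.exists_kappaPair hG hM hKU.hall hK1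
  have hne : Subgroup.normalizer (((R : Subgroup U).map U.subtype : Subgroup G) : Set G) ≠ ⊤ :=
    CfsgLib.CN.MinOdd.normalizer_ne_top hG (fun e => by
      rw [Subgroup.map_eq_bot_iff_of_injective _ U.subtype_injective] at e
      exact R.ne_bot_of_dvd_card hrU e) (CfsgLib.Uniq.pgroup_ne_top hG (R.isPGroup'.map _))
  obtain ⟨H, hH, hNR⟩ := CfsgLib.Uniq.exists_coatom_ge hne
  exact (CfsgLib.SigmaGroups.type_two_normalizer hG hM hMs hKU P hrU R hH hNR).2.2.2.1 (inf_le_right.trans hle)


end Cfsg.Agent.S1363
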