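import Cfsg.Statements.S1431
import Cfsg.Agent.Sigma.KappaStar

set_option autoImplicit false
open Cfsg

namespace Cfsg.Agent.S1431

/-- Let G be a minimal simple group of odd order, M a maximal subgroup, K ≠ 1 a Hall κ(M)-subgroup of M and K* = M_σ ∩ C_G(K). Then K* ∩ gMg⁻¹ = 1 for g ∉ M; K ∩ gKg⁻¹ = 1 for g ∈ M outside K K*; for every prime p dividing the order of K* and every Sylow p-subgroup S of M_σ, M is the unique maximal subgroup containing S, and S is not contained in K*; and every subgroup Y of G whose prime divisors lie in σ(M) and with Y ∩ K* ≠ 1 is contained in M_σ. -/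
theorem result {G : Type*} [Group G] [Finite G] (hG : Cfsg.IsMinSimpleOddOrder G)
    (M : Subgroup G) (hM : IsCoatom M) (K : Subgroup G) (hK : Cfsg.IsPiHallOf (Cfsg.kappa M) K M) (hK1 : K ≠ ⊥) :
    (∀ g : G, g ∉ M → (Cfsg.sigmaCore M ⊓ Subgroup.centralizer (K : Set G)) ⊓ M.map (MulAut.conj g).toMonoidHom = ⊥) ∧
      (∀ g ∈ M, g ∉ K ⊔ (Cfsg.sigmaCore M ⊓ Subgroup.centralizer (K : Set G)) → K ⊓ K.map (MulAut.conj g).toMonoidHom = ⊥) ∧
      (∀ (p : ℕ), p.Prime → p ∣ Nat.card ↥(Cfsg.sigmaCore M ⊓ Subgroup.centralizer (K : Set G)) → ∀ S : Sylow p ↥(Cfsg.sigmaCore M),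
        Cfsg.InUniqueMaximal ((S : Subgroup ↥(Cfsg.sigmaCore M)).map (Cfsg.sigmaCore M).subtype) ∧
        (S : Subgroup ↥(Cfsg.sigmaCore M)).map (Cfsg.sigmaCore M).subtype ≤ M ∧
        ¬ (S : Subgroup ↥(Cfsg.sigmaCore M)).map (Cfsg.sigmaCore M).subtype ≤ (Cfsg.sigmaCore M ⊓ Subgroup.centralizer (K : Set G))) ∧
      ∀ Y : Subgroup G, (∀ p : ℕ, p.Prime → p ∣ Nat.card Y → p ∈ Cfsg.sigma M) → Y ⊓ (Cfsg.sigmaCore M ⊓ Subgroup.centralizer (K : Set G)) ≠ ⊥ → Y ≤ Cfsg.sigmaCore M := by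
  open CfsgLib.SigmaGroups CfsgLib.Uniq CfsgLib.BenderUnique in
  obtain ⟨t, X, ht, hXK, hXc⟩ := exists_line_le hK1
  open CfsgLib.SigmaGroups in
  haveI := Fact.mk ht
  open CfsgLib.SigmaGroups in
  obtain ⟨hts, htrk, -, -⟩ := kappa_basic hG hM (hK.2.1 t ht (hXc ▸ Subgroup.card_dvd_of_le hXK))
  have hXM : X ≤ M := hXK.trans hK.1
  have hSM : Cfsg.sigmaCore M ≤ M := Subgroup.map_subtype_le _
  open CfsgLib.SigmaGroups in
  have hC : ∀ z ∈ Cfsg.sigmaCore M ⊓ Subgroup.centralizer (K : Set G), z ≠ 1 →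
      Subgroup.centralizer ({z} : Set G) ≤ M := fun z hz hz1 =>
    centralizer_le_of_fixed hG hM hts htrk hXc hXM hz.1 hz1 (Subgroup.centralizer_le hXK hz.2)
  refine ⟨fun g hg => ?_, fun g hgM hg => ?_, fun p hp hpd S => ?_, fun Y hY hYK => ?_⟩
  · by_contra hne
    obtain ⟨l, hl, hld⟩ := Nat.exists_prime_and_dvd fun e => hne (Subgroup.card_eq_one.1 e)
    haveI := Fact.mk hl
    open CfsgLib.SigmaGroups in
    obtain ⟨z, hz, hzo⟩ := exists_elem_prime (p := l) hld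
    have hlM : l ∈ Cfsg.sigma M :=
      CfsgLib.SigmaGroups.mem_sigma_of_dvd M hl (hzo ▸ Subgroup.orderOf_dvd_natCard _ hz.1.1)
    have hz1 : z ≠ 1 := fun h => hl.one_lt.ne (by rw [← hzo, h, orderOf_one])
    open CfsgLib.SigmaGroups in
    refine hg (mem_of_le_conj hG hM hlM (X := Subgroup.zpowers z) (isPGroup_line (by rw [Nat.card_zpowers, hzo]))
      (fun h => hz1 (Subgroup.zpowers_eq_bot.1 h)) (Subgroup.zpowers_le.2 (hSM hz.1.1)) ?_ (Subgroup.zpowers_le.2 hz.2))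
    rw [CfsgLib.SigmaGroups.centralizer_zpowers]
    exact hC z hz.1 hz1
  · by_contra hne
    obtain ⟨x, ⟨hx, y, hy, hyx⟩, hx1⟩ := (Subgroup.bot_or_exists_ne_one _).resolve_left hne
    open CfsgLib.SigmaGroups in
    refine hg (mem_of_conj_kappa hG hM hK hK1 hgM hy (fun h => hx1 ?_) ?_)
    · rw [← hyx, h, map_one]
    · rw [show g * y * g⁻¹ = x from hyx]
      exact hx
  · haveI := Fact.mk hp
    open CfsgLib.SigmaGroups in
    obtain ⟨z, hz, hzo⟩ := exists_elem_prime (p := p) hpd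
    have hpM : p ∈ Cfsg.sigma M :=
      CfsgLib.SigmaGroups.mem_sigma_of_dvd M hp (hzo ▸ Subgroup.orderOf_dvd_natCard _ hz.1)
    open CfsgLib.SigmaGroups in
    obtain ⟨P, hP, hPM, -⟩ := exists_sylow_of_sigmaCore hG hM hpM S
    rw [← hP]
    by_cases hb : p ∈ Cfsg.beta M
    · refine ⟨(CfsgLib.SigmaGroups.sigma_line_unique hG hM hpM hzo (hSM hz.1) (Or.inl hb)).2.2 P hPM, hPM,
        fun hle => ?_⟩
      open CfsgLib.SigmaGroups in
      obtain ⟨N, hN, hNX, -⟩ := exists_max_normalizer hG hM hts htrk hXc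
      open CfsgLib.SigmaGroups in
      obtain ⟨-, -, -, -, hrk, -⟩ := fixed_line_basic hG hM hts htrk hXc hXM hN hNX hz.1
        (Subgroup.centralizer_le hXK hz.2) hzo
      obtain ⟨A, -, hA, hAc⟩ := CfsgLib.Uniq.exists_elem_of_not_prank hb.1.2
      obtain ⟨A', hAA'⟩ := IsPGroup.exists_le_sylow (CfsgLib.Uniq.isPGroup_of_elementary hA)
      obtain ⟨g, hg⟩ := MulAction.exists_smul_eq G A' P
      have hAP : A.map (MulAut.conj g).toMonoidHom ≤ (P : Subgroup G) :=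
        (Subgroup.map_mono hAA').trans (by rw [← hg]; rfl)
      have hPN : (P : Subgroup G) ≤ N := fun a ha => hNX (Subgroup.centralizer_le_normalizer _
        (Subgroup.centralizer_le hXK (hle ha).2))
      haveI := CfsgLib.SigmaGroups.isCyclic_of_prank_one hG hrk hPN P.isPGroup'
      refine CfsgLib.Uniq.not_isCyclic_of_elementary (CfsgLib.SigmaGroups.elementary_map_conj hA g) (p := p) ?_
        (isCyclic_of_injective (Subgroup.inclusion hAP) (Subgroup.inclusion_injective _))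
      rw [CfsgLib.SigmaGroups.card_map_conj, hAc]
      exact lt_self_pow₀ hp.one_lt (by norm_num)
    open CfsgLib.SigmaGroups in
    have hna : ¬ IsMulCommutative (P : Subgroup G) := fun h => false_of_abelian_fixed hG hM hK hK1 hz hzo hb P h
    refine ⟨CfsgLib.SigmaGroups.nonabelian_unique hG P.isPGroup' hna, hPM, fun hle => hna ?_⟩
    open CfsgLib.SigmaGroups in
    obtain ⟨N, hN, hNX, -⟩ := exists_max_normalizer hG hM hts htrk hXc
    open CfsgLib.SigmaGroups in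
    obtain ⟨-, -, -, -, hrk, -⟩ := fixed_line_basic hG hM hts htrk hXc hXM hN hNX hz.1
      (Subgroup.centralizer_le hXK hz.2) hzo
    have hPN : (P : Subgroup G) ≤ N := fun a ha => hNX (Subgroup.centralizer_le_normalizer _
      (Subgroup.centralizer_le hXK (hle ha).2))
    haveI := CfsgLib.SigmaGroups.isCyclic_of_prank_one hG hrk hPN P.isPGroup'
    exact IsCyclic.isMulCommutative
  · obtain ⟨w, hw, hw1⟩ := (Subgroup.bot_or_exists_ne_one _).resolve_left hYK
    obtain ⟨l, hl, hld⟩ := Nat.exists_prime_and_dvd fun e => hw1 (orderOf_eq_one_iff.1 e)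
    haveI := Fact.mk hl
    open CfsgLib.SigmaGroups in
    obtain ⟨z, hz, hzo⟩ := exists_elem_prime (p := l) (H := Subgroup.zpowers w) (by rwa [Nat.card_zpowers])
    have hz' := Subgroup.zpowers_le.2 hw hz
    have hz1 : z ≠ 1 := fun h => hl.one_lt.ne (by rw [← hzo, h, orderOf_one])
    obtain ⟨g, hg⟩ := CfsgLib.SigmaGroups.sigma_conj_le hG hM (show Y ≠ ⊥ from fun h => hw1 (Subgroup.mem_bot.1 (h ▸ hw.1))) hY
    have hlM : l ∈ Cfsg.sigma M :=
      CfsgLib.SigmaGroups.mem_sigma_of_dvd M hl (hzo ▸ Subgroup.orderOf_dvd_natCard _ hz'.2.1)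
    open CfsgLib.SigmaGroups in
    have hgM : g ∈ M :=
      mem_of_conj_mem_of_elem hG hM hlM hzo (hSM hz'.2.1) (hC z hz'.2 hz1) (hSM (hg ⟨z, hz'.1, rfl⟩))
    intro y hy
    exact (Subgroup.mem_normalizer_iff.1 (CfsgLib.SigmaGroups.le_normalizer_sigmaCore M hgM) y).2 (hg ⟨y, hy, rfl⟩)


end Cfsg.Agent.S1431
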