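import Cfsg.Statements.S0895
import Cfsg.Agent.BrauerInd.FSInd

set_option autoImplicit false
open Cfsg CfsgLib.BrauerInd

namespace Cfsg.Agent.S0895

open scoped Matrix

/-- Let χ be a real-valued irreducible character of a finite group G whose degree is an odd natural number. Then the average over s in G of χ (s * s) equals 1. -/
theorem result {G : Type*} [Group G] [Fintype G] (χ : G → ℂ) (hχ : Cfsg.IsIrrCharacter G χ) (hreal : ∀ g : G, (χ g).im = 0) (d : ℕ) (hd : χ 1 = d) (hodd : Odd d) : (Nat.card G : ℂ)⁻¹ * ∑ s : G, χ (s * s) = 1 := by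
  classical
  show ind χ = 1
  have hirr := hχ
  obtain ⟨n, ρ, hρ, rfl⟩ := hχ
  rw [Representation.char_one, Module.finrank_fin_fun, Nat.cast_inj] at hd
  subst hd
  rcases ind_real hirr hreal with h | h
  · exact h
  exfalso
  have h1 := (finrank_invForms_irr ρ hirr).1 hreal
  obtain ⟨⟨M, hM⟩, hne, -⟩ := finrank_eq_one_iff'.1 h1
  have hM0 : M ≠ 0 := fun h0 => hne (Subtype.ext h0)
  have ht : Mᵀ = -M := by
    rw [(transpose_eq_ind (matHom ρ) h1 hM).1, trace_matHom, h, neg_one_smul]
  have hdet : M.det = 0 := by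
    have := congrArg Matrix.det ht
    rw [Matrix.det_transpose, Matrix.det_neg, Fintype.card_fin, hodd.neg_one_pow, neg_one_mul] at this
    exact CharZero.eq_neg_self_iff.1 this
  let W : Subrepresentation ρ := ⟨LinearMap.ker M.mulVecLin, fun g v hv => by
    rw [LinearMap.mem_ker, Matrix.mulVecLin_apply] at hv ⊢
    have h2 : M * matHom ρ g = (matHom ρ g⁻¹)ᵀ * M := by
      have h3 := (mem_invForms.1 hM) g
      calc M * matHom ρ g = ((matHom ρ g⁻¹)ᵀ * (matHom ρ g)ᵀ) * (M * matHom ρ g) := by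
            rw [← Matrix.transpose_mul, ← map_mul, mul_inv_cancel, map_one, Matrix.transpose_one, Matrix.one_mul]
        _ = (matHom ρ g⁻¹)ᵀ * ((matHom ρ g)ᵀ * M * matHom ρ g) := by simp only [Matrix.mul_assoc]
        _ = _ := by rw [h3]
    have h4 : ρ g v = (matHom ρ g).mulVec v := by
      rw [matHom_apply, ← Matrix.toLin'_apply, Matrix.toLin'_toMatrix']
    rw [h4, Matrix.mulVec_mulVec, h2, ← Matrix.mulVec_mulVec, hv, Matrix.mulVec_zero]⟩
  obtain ⟨v, hv0, hv⟩ := Matrix.exists_mulVec_eq_zero_iff.2 hdet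
  rcases hρ.eq_bot_or_eq_top W with h' | h'
  · refine hv0 ?_
    have h5 : W.toSubmodule = ⊥ := congrArg Subrepresentation.toSubmodule h'
    exact (Submodule.mem_bot ℂ).1 (h5 ▸ (show v ∈ W.toSubmodule from LinearMap.mem_ker.2 hv))
  · refine hM0 (Matrix.ext fun i j => ?_)
    have h5 : W.toSubmodule = ⊤ := congrArg Subrepresentation.toSubmodule h'
    have h6 : M.mulVec (Pi.single j 1) = 0 :=
      LinearMap.mem_ker.1 (show Pi.single j (1 : ℂ) ∈ W.toSubmodule from h5 ▸ Submodule.mem_top)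
    simpa using congrFun h6 i

end Cfsg.Agent.S0895
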