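import Cfsg.Statements.S0840
import Cfsg.Agent.CharBasics.Ortho
import Cfsg.Agent.CharBasics.Central

set_option autoImplicit false
open scoped ComplexConjugate
open Cfsg

namespace Cfsg.Agent.S0840

open CfsgLib

/-- Summing over all conjugations is summing over the class, with multiplicity. -/
theorem sum_conjugates {G : Type*} [Group G] [Fintype G] [DecidableEq G] (a : G)
    [DecidablePred (IsConj a)] (F : G → ℂ) :
    ∑ x : G, F (x * a * x⁻¹) = (Nat.card (Subgroup.centralizer ({a} : Set G)) : ℂ) *
      ∑ u ∈ Finset.univ.filter (IsConj a), F u := by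
  rw [← Finset.sum_fiberwise_of_maps_to (t := Finset.univ.filter (IsConj a)) (g := fun x => x * a * x⁻¹)
    (fun x _ => Finset.mem_filter.2 ⟨Finset.mem_univ _, isConj_iff.2 ⟨x, rfl⟩⟩), Finset.mul_sum]
  refine Finset.sum_congr rfl fun u hu => ?_
  obtain ⟨g, hg⟩ := isConj_iff.1 (Finset.mem_filter.1 hu).2
  rw [Finset.sum_congr rfl (g := fun _ => F u) (fun x hx => by rw [(Finset.mem_filter.1 hx).2]),
    Finset.sum_const, nsmul_eq_mul]
  congr 2
  rw [← Fintype.card_subtype, ← Nat.card_eq_fintype_card]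
  refine Nat.card_congr ((Equiv.mulLeft g).symm.subtypeEquiv fun x => ?_)
  show x * a * x⁻¹ = u ↔ g⁻¹ * x ∈ Subgroup.centralizer ({a} : Set G)
  rw [Subgroup.mem_centralizer_singleton_iff, ← hg]
  constructor
  · intro h
    calc g⁻¹ * x * a = g⁻¹ * (x * a * x⁻¹) * x := by group
      _ = g⁻¹ * (g * a * g⁻¹) * x := by rw [h]
      _ = _ := by group
  · intro h
    calc x * a * x⁻¹ = g * (g⁻¹ * x * a) * x⁻¹ := by group
      _ = g * (a * (g⁻¹ * x)) * x⁻¹ := by rw [h]
      _ = _ := by group

/-- Class multiplication coefficients from the character table: for elements a, b, c of a finite group G, the number of ordered pairs (x, y) with x conjugate to a, y conjugate to b and x * y = c equals the product of the sizes of the conjugacy classes of a and b, divided by the order of G, times the sum over the irreducible characters χ of χ a * χ b * conj (χ c) / χ 1. -/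
theorem result {G : Type*} [Group G] [Finite G] (a b c : G) : (Nat.card {p : G × G // IsConj a p.1 ∧ IsConj b p.2 ∧ p.1 * p.2 = c} : ℂ) = (Nat.card {x : G // IsConj a x} : ℂ) * (Nat.card {x : G // IsConj b x} : ℂ) / (Nat.card G : ℂ) * ∑ᶠ χ : Cfsg.IrrCharacter G, (χ : G → ℂ) a * (χ : G → ℂ) b * conj ((χ : G → ℂ) c) / (χ : G → ℂ) 1 := by
  classical
  haveI := Fintype.ofFinite G
  haveI := Fintype.ofFinite (Cfsg.IrrCharacter G)
  rw [finsum_eq_sum_of_fintype]
  set C := fun g : G => (Nat.card (Subgroup.centralizer ({g} : Set G)) : ℂ)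
  set k := fun g : G => (Nat.card {x : G // IsConj g x} : ℂ)
  have hCk : ∀ g, C g * k g = (Nat.card G : ℂ) := fun g => by
    simp only [C, k, CharBasics.card_conjClass, ← Nat.cast_mul, Subgroup.card_mul_index]
  set N := fun c' : G => (Finset.univ.filter fun p : G × G => IsConj a p.1 ∧ IsConj b p.2 ∧ p.1 * p.2 = c').card
  have hN : (Nat.card {p : G × G // IsConj a p.1 ∧ IsConj b p.2 ∧ p.1 * p.2 = c} : ℂ) = (N c : ℂ) := by
    rw [Nat.card_eq_fintype_card, Fintype.card_subtype]
  have hNc : ∀ c', IsConj c c' → N c' = N c := by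
    intro c' hc'
    obtain ⟨g, hg⟩ := isConj_iff.1 hc'
    subst hg
    refine (Finset.card_equiv ((MulAut.conj g).toEquiv.prodCongr (MulAut.conj g).toEquiv) fun p => ?_).symm
    simp only [Finset.mem_filter, Finset.mem_univ, true_and, Equiv.prodCongr_apply, Prod.map,
      MulEquiv.toEquiv_eq_coe, MulEquiv.coe_toEquiv, ← MulAut.conj_apply]
    refine Iff.trans ?_ (Iff.trans Finset.mem_filter (and_iff_right (Finset.mem_univ _))).symm
    show _ ↔ IsConj a (MulAut.conj g p.1) ∧ IsConj b (MulAut.conj g p.2) ∧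
      MulAut.conj g p.1 * MulAut.conj g p.2 = MulAut.conj g c
    refine and_congr ?_ (and_congr ?_ ?_)
    · exact ⟨fun h => h.trans (isConj_iff.2 ⟨g, rfl⟩), fun h => h.trans (isConj_iff.2 ⟨g, rfl⟩).symm⟩
    · exact ⟨fun h => h.trans (isConj_iff.2 ⟨g, rfl⟩), fun h => h.trans (isConj_iff.2 ⟨g, rfl⟩).symm⟩
    · exact ⟨fun h => ((map_mul (MulAut.conj g) p.1 p.2).symm.trans (congrArg _ h)),
        fun h => (MulAut.conj g).injective ((map_mul (MulAut.conj g) p.1 p.2).trans h)⟩
  -- both sides of the double sum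
  have h1 : ∑ χ : Cfsg.IrrCharacter G, (∑ y : G, ∑ x : G, χ.1 (x * a * x⁻¹ * (y * b * y⁻¹))) * conj (χ.1 c) =
      (Nat.card G : ℂ) ^ 2 * ∑ χ : Cfsg.IrrCharacter G, χ.1 a * χ.1 b * conj (χ.1 c) / χ.1 1 := by
    rw [Finset.mul_sum]
    refine Finset.sum_congr rfl fun χ _ => ?_
    have h := fun y : G => CharBasics.sum_conj_apply_mul χ.2 a (y * b * y⁻¹)
    simp only [CharBasics.isClassFunction (CharBasics.isCharacter_of_irr χ.2) b] at h
    have hne := CharBasics.apply_one_ne_zero χ.2
    have h' : ∀ y : G, ∑ x : G, χ.1 (x * a * x⁻¹ * (y * b * y⁻¹)) =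
        (Nat.card G : ℂ) * χ.1 a * χ.1 b / χ.1 1 := fun y => by
      rw [eq_div_iff hne, mul_comm]; exact h y
    rw [Finset.sum_congr rfl fun y _ => h' y, Finset.sum_const, Finset.card_univ, nsmul_eq_mul,
      ← Nat.card_eq_fintype_card]
    field_simp
  have h2 : ∑ χ : Cfsg.IrrCharacter G, (∑ y : G, ∑ x : G, χ.1 (x * a * x⁻¹ * (y * b * y⁻¹))) * conj (χ.1 c) =
      C a * C b * (C c * (k c * N c)) := by
    calc _ = ∑ y : G, ∑ x : G, (if IsConj (x * a * x⁻¹ * (y * b * y⁻¹)) c then C c else 0) := by
          simp only [Finset.sum_mul]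
          rw [Finset.sum_comm]
          refine Finset.sum_congr rfl fun y _ => ?_
          rw [Finset.sum_comm]
          refine Finset.sum_congr rfl fun x _ => ?_
          rw [CharBasics.sum_col]
          by_cases h : IsConj (x * a * x⁻¹ * (y * b * y⁻¹)) c
          · rw [if_pos h, if_pos h]
            have h3 := Subgroup.card_mul_index (Subgroup.centralizer ({x * a * x⁻¹ * (y * b * y⁻¹)} : Set G))
            have h4 := Subgroup.card_mul_index (Subgroup.centralizer ({c} : Set G))
            have h5 : (Subgroup.centralizer ({x * a * x⁻¹ * (y * b * y⁻¹)} : Set G)).index =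
                (Subgroup.centralizer ({c} : Set G)).index := by
              rw [← CharBasics.card_conjClass, ← CharBasics.card_conjClass]
              exact Nat.card_congr (Equiv.subtypeEquivRight fun z => ⟨fun hz => h.symm.trans hz, fun hz => h.trans hz⟩)
            rw [h5, ← h4] at h3
            simp only [C]
            rw [Nat.eq_of_mul_eq_mul_right (Nat.pos_of_ne_zero Subgroup.index_ne_zero_of_finite) h3]
          · rw [if_neg h, if_neg h]
      _ = C b * ∑ v ∈ Finset.univ.filter (IsConj b), C a * ∑ u ∈ Finset.univ.filter (IsConj a),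
            (if IsConj (u * v) c then C c else 0) := by
          rw [← sum_conjugates b (fun v => C a * ∑ u ∈ Finset.univ.filter (IsConj a),
            (if IsConj (u * v) c then C c else 0))]
          exact Finset.sum_congr rfl fun y _ => sum_conjugates a (fun u => if IsConj (u * (y * b * y⁻¹)) c then C c else 0)
      _ = _ := by
          rw [← Finset.mul_sum, ← mul_assoc, mul_comm (C b), Finset.sum_comm, ← Finset.sum_product']
          congr 1
          rw [← Finset.sum_filter, Finset.sum_const, nsmul_eq_mul,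
            Finset.card_eq_sum_card_fiberwise (f := fun p : G × G => p.1 * p.2)
              (t := Finset.univ.filter (IsConj c)) (fun p hp => Finset.mem_filter.2
                ⟨Finset.mem_univ _, (Finset.mem_filter.1 hp).2.symm⟩)]
          rw [Finset.sum_congr rfl (g := fun _ => N c) fun c' hc' => ?_, Finset.sum_const, smul_eq_mul,
            Nat.cast_mul]
          · simp only [k]
            rw [Nat.card_eq_fintype_card, Fintype.card_subtype]
            ring
          · rw [← hNc c' (Finset.mem_filter.1 hc').2]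
            refine congrArg Finset.card ?_
            ext p
            simp only [Finset.mem_filter, Finset.mem_product, Finset.mem_univ, true_and]
            constructor
            · rintro ⟨⟨⟨h1, h2⟩, -⟩, h3⟩; exact ⟨h1, h2, h3⟩
            · rintro ⟨h1, h2, h3⟩; exact ⟨⟨⟨h1, h2⟩, h3 ▸ (Finset.mem_filter.1 hc').2.symm⟩, h3⟩
  rw [h1] at h2
  have hG : (Nat.card G : ℂ) ≠ 0 := Nat.cast_ne_zero.mpr Nat.card_pos.ne'
  have hCa : C a ≠ 0 := Nat.cast_ne_zero.mpr Nat.card_pos.ne'
  have hCb : C b ≠ 0 := Nat.cast_ne_zero.mpr Nat.card_pos.ne'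
  rw [hN]
  show (N c : ℂ) = k a * k b / (Nat.card G : ℂ) * _
  have ea := hCk a
  have eb := hCk b
  have ec := hCk c
  rw [div_mul_eq_mul_div, eq_div_iff hG]
  refine mul_left_cancel₀ (mul_ne_zero hG (mul_ne_zero hCa hCb)) ?_
  linear_combination (-(Nat.card G : ℂ)) * h2 - C a * C b * (N c : ℂ) * (Nat.card G : ℂ) * ec
    - (Nat.card G : ℂ) * (∑ χ : Cfsg.IrrCharacter G, χ.1 a * χ.1 b * conj (χ.1 c) / χ.1 1) * (C b * k b) * ea
    - (Nat.card G : ℂ) * (∑ χ : Cfsg.IrrCharacter G, χ.1 a * χ.1 b * conj (χ.1 c) / χ.1 1) * (Nat.card G : ℂ) * eb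

end Cfsg.Agent.S0840
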