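import Cfsg.Statements.S0191
import Cfsg.Agent.CharBasics.Avg
import Cfsg.Agent.CharBasics.Ortho

set_option autoImplicit false
open Cfsg

namespace Cfsg.Agent.S0191

/-- An irreducible complex representation of a finite group of degree greater than 1 has a character that vanishes somewhere. -/
theorem result {G : Type*} [Group G] [Finite G] {V : Type*} [AddCommGroup V] [Module ℂ V] [FiniteDimensional ℂ V] (ρ : Representation ℂ G V) [ρ.IsIrreducible] (hdeg : 1 < Module.finrank ℂ V) : ∃ g : G, ρ.character g = 0 := by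
  classical
  have := Fintype.ofFinite G
  have : Invertible (Nat.card G : ℂ) := invertibleOfNonzero (Nat.cast_ne_zero.mpr Nat.card_pos.ne')
  by_contra hne
  push Not at hne
  have hc := CfsgLib.CharBasics.isCharacter_rep ρ
  have h := Representation.char_orthonormal ρ ρ
  rw [if_pos ⟨Representation.Equiv.refl ρ⟩, inv_mul_eq_iff_eq_mul₀ (Nat.cast_ne_zero.mpr Nat.card_pos.ne'),
    mul_one] at h
  simp only [CfsgLib.CharBasics.apply_inv hc, Complex.mul_conj', ← Complex.ofReal_pow, ← Complex.ofReal_sum] at h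
  have h' : ∑ g : G, ‖ρ.character g‖ ^ 2 = (Nat.card G : ℝ) := by exact_mod_cast h
  have hS : ∀ g ∈ (Finset.univ.erase (1 : G)), ∀ j : ℕ, j.Coprime (Nat.card G) →
      g ^ j ∈ (Finset.univ.erase (1 : G)) := by
    intro g hg j hj
    refine Finset.mem_erase.mpr ⟨fun h1 => (Finset.mem_erase.mp hg).1 ?_, Finset.mem_univ _⟩
    have h2 : g ^ Nat.gcd j (Nat.card G) = 1 := pow_gcd_eq_one.mpr ⟨h1, pow_card_eq_one'⟩
    rwa [hj.gcd_eq_one, pow_one] at h2
  have hge := CfsgLib.CharBasics.card_le_sum_normSq (N := Nat.card G) Nat.card_pos.ne' dvd_rfl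
    (CfsgLib.CharBasics.cycPoly_character hc) (Finset.univ.erase (1 : G)) hS (fun g _ => hne g)
  rw [← Finset.add_sum_erase _ _ (Finset.mem_univ (1 : G))] at h'
  rw [Finset.card_erase_of_mem (Finset.mem_univ _), Finset.card_univ, ← Nat.card_eq_fintype_card,
    Nat.cast_sub Nat.card_pos] at hge
  rw [Representation.char_one, Complex.norm_natCast] at h'
  have hd : (2 : ℝ) ≤ (Module.finrank ℂ V : ℝ) := by exact_mod_cast hdeg
  push_cast at hge
  nlinarith

end Cfsg.Agent.S0191
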