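import Cfsg.Statements.S0914
import Cfsg.Agent.Blocks.RegularRank


set_option autoImplicit false
open Cfsg

namespace Cfsg.Agent.S0914

open CfsgLib.Blocks CfsgLib.CharBasics

/-- Let χ be an irreducible character of the finite group G, p a prime and M a maximal ideal of the algebraic integers containing p. Then p does not divide the integer (Nat.card G) / χ(1) if and only if the block of χ relative to M consists of χ alone. -/
theorem result {G : Type*} [Group G] [Finite G] (p : ℕ) [Fact p.Prime] (M : Ideal Cfsg.AlgInt) (hM : Cfsg.IsPModular p M) (χ : Cfsg.IrrCharacter G) : ¬ p ∣ Nat.card G / Cfsg.charDegree (χ : G → ℂ) ↔ Cfsg.blockOf M (χ : G → ℂ) = {χ} := by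
  classical
  haveI := Fintype.ofFinite G
  have hp : p.Prime := Fact.out
  have hB := isPBlock_blockOf M χ
  have hχB := mem_blockOf_self hM χ
  have hd := degree_dvd χ
  have hq0 : Nat.card G / charDegree (χ : G → ℂ) ≠ 0 :=
    (Nat.div_pos (Nat.le_of_dvd Nat.card_pos hd) (charDegree_pos χ.2)).ne'
  have hfac : (Nat.card G).factorization p = degExp p χ + (Nat.card G / charDegree (χ : G → ℂ)).factorization p := by
    conv_lhs => rw [← Nat.mul_div_cancel' hd]
    rw [Nat.factorization_mul (charDegree_pos χ.2).ne' hq0]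
    rfl
  constructor
  · intro h
    rw [Nat.factorization_eq_zero_of_not_dvd h, add_zero] at hfac
    obtain ⟨c, c', hc, hdeg, hm, hc'⟩ := exists_degree_eq hp χ
    refine Set.eq_singleton_iff_unique_mem.2 ⟨hχB, fun ψ hψ => ?_⟩
    by_contra hne
    have hint : IsIntegralElt M (blockElt ({χ} : Set (IrrCharacter G))) := fun g => by
      rw [coeff_blockElt, blockCoeff_singleton]
      have e : (Nat.card G : ℂ)⁻¹ * ((χ : G → ℂ) 1 * starRingEnd ℂ ((χ : G → ℂ) g)) = (c' : ℂ)⁻¹ * starRingEnd ℂ ((χ : G → ℂ) g) := by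
        have hcard : (Nat.card G : ℂ) = (p : ℂ) ^ degExp p χ * ((c : ℂ) * c') := by
          rw [← Nat.cast_pow, ← Nat.cast_mul c, ← hm, ← hfac, ← Nat.cast_mul, Nat.ordProj_mul_ordCompl_eq_self]
        rw [hdeg, hcard]
        have h1 : (p : ℂ) ≠ 0 := Nat.cast_ne_zero.2 hp.ne_zero
        have h2 : (c : ℂ) ≠ 0 := Nat.cast_ne_zero.2 fun k => hc (k ▸ dvd_zero p)
        have h3 : (c' : ℂ) ≠ 0 := Nat.cast_ne_zero.2 fun k => hc' (k ▸ dvd_zero p)
        field_simp
      rw [e]
      exact memLocalRing_mul hM (memLocalRing_natCast_inv hM hc') (memLocalRing_conj hM χ g)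
    have h1 := omega_sub_mem_of_sameBlock hM (φ := χ) (ψ := ψ) hψ
      (isClassElt_blockElt ({χ} : Set (IrrCharacter G))) hint
    rw [omega_blockElt, omega_blockElt, if_pos (Set.mem_singleton _),
      if_neg (fun k => hne (Set.mem_singleton_iff.1 k)), sub_zero] at h1
    exact not_memLocalIdeal_one hM h1
  · intro h hdvd
    have hv : ∀ ψ ∈ blockOf M (χ : G → ℂ), ∀ g : G, p ∣ orderOf g → (ψ : G → ℂ) g = 0 := by
      intro ψ hψ g hg
      have h0 := blockCoeff_eq_zero hM hB hg
      rw [h] at h0 hψ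
      rw [Set.mem_singleton_iff.1 hψ]
      rw [blockCoeff_singleton] at h0
      have h1 := mul_eq_zero.1 ((mul_eq_zero.1 h0).resolve_left (inv_ne_zero (Nat.cast_ne_zero.2 Nat.card_pos.ne')))
      exact (map_eq_zero _).1 (h1.resolve_left (apply_one_ne_zero χ.2))
    have h0 := defect_zero_of_vanish hp ⟨χ, hχB⟩ hv
    rw [blockDefect, h, Set.image_singleton, csInf_singleton, Nat.sub_eq_zero_iff_le] at h0
    have h2 : 0 < (Nat.card G / charDegree (χ : G → ℂ)).factorization p := hp.factorization_pos_of_dvd hq0 hdvd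
    simp only [degExp] at hfac
    omega

end Cfsg.Agent.S0914
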