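import Cfsg.Statements.S0154
import Cfsg.Agent.CharBasics.Extra
import Cfsg.Agent.S4811

set_option autoImplicit false
open Cfsg CfsgLib.CharBasics
open scoped ComplexConjugate

namespace Cfsg.Agent.S0154

/-- A finite group has exactly as many irreducible complex characters of degree 1 as the index of its commutator subgroup. -/
theorem result {G : Type*} [Group G] [Finite G] : Nat.card {χ : Cfsg.IrrCharacter G // (χ : G → ℂ) 1 = 1} = (commutator G).index := by
  classical
  haveI := Fintype.ofFinite G
  haveI := Fintype.ofFinite (IrrCharacter G)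
  have hiff : ∀ χ : IrrCharacter G,
      (χ : G → ℂ) 1 = 1 ↔ ∀ m ∈ commutator G, (χ : G → ℂ) m = (χ : G → ℂ) 1 := by
    intro χ
    have hc := isCharacter_of_irr χ.2
    constructor
    · intro h1 m hm
      have hd : charDegree (χ : G → ℂ) = 1 := by
        rw [apply_one hc] at h1; exact_mod_cast h1
      have hker : commutator G ≤ charKer _ hc := by
        rw [commutator_def, Subgroup.commutator_le]
        exact fun a _ b _ => Cfsg.Agent.S4811.apply_commutator_eq hc hd a b
      exact hker hm
    · intro h
      obtain ⟨φ, hφ⟩ := exists_quotient_irr χ (commutator G) h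
      haveI : IsMulCommutative (G ⧸ commutator G) :=
        ⟨⟨fun a b => (inferInstance : CommGroup (Abelianization G)).mul_comm a b⟩⟩
      rw [← hφ 1, QuotientGroup.mk_one, (irr_comm_hom φ.2).1]
  have h1 : ∑ m : commutator G, ∑ χ : IrrCharacter G,
      (charDegree (χ : G → ℂ) : ℂ) * (χ : G → ℂ) (m : G) = (Nat.card G : ℂ) := by
    rw [Finset.sum_eq_single (1 : commutator G) (fun m _ hm => sum_mul_degree (fun h => hm (Subtype.ext h)))
      (fun h => absurd (Finset.mem_univ _) h), ← sum_sq_degree (G := G)]
    push_cast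
    refine Finset.sum_congr rfl fun χ _ => ?_
    rw [apply_one (isCharacter_of_irr χ.2), sq]
  have h2 : ∀ χ : IrrCharacter G, ∑ m : commutator G, (charDegree (χ : G → ℂ) : ℂ) * (χ : G → ℂ) (m : G) =
      if (χ : G → ℂ) 1 = 1 then (Nat.card (commutator G) : ℂ) else 0 := by
    intro χ
    rw [← Finset.mul_sum]
    rcases sum_normal_irr (commutator G) χ with ⟨ht, hs⟩ | ⟨ht, hs⟩
    · have e := (hiff χ).2 ht
      have := hs 1
      simp only [one_mul] at this
      rw [if_pos e, this, ← apply_one (isCharacter_of_irr χ.2), e, one_mul, mul_one]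
    · have := hs 1
      simp only [one_mul] at this
      rw [if_neg (fun h => ht ((hiff χ).1 h)), this, mul_zero]
  rw [Finset.sum_comm, Finset.sum_congr rfl (fun χ _ => h2 χ), ← Finset.sum_filter, Finset.sum_const,
    nsmul_eq_mul, ← Fintype.card_subtype, ← Nat.card_eq_fintype_card,
    ← Subgroup.index_mul_card (commutator G), Nat.cast_mul] at h1
  exact_mod_cast mul_right_cancel₀ (Nat.cast_ne_zero.mpr Nat.card_pos.ne') h1

end Cfsg.Agent.S0154
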