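import Cfsg.Statements.S0932
import Mathlib
import Cfsg.Agent.IndFun.Basic

set_option autoImplicit false
open Cfsg

namespace Cfsg.Agent.S0932

/-- Let H be a subgroup of the finite group G and ξ a character of H. For every g ∈ G, the sum of ξ h / ξ 1 over the elements h ∈ H that are conjugate in G to g equals the central character at g of the character of G induced from ξ (class size times value divided by degree). -/
theorem result {G : Type*} [Group G] [Fintype G] (H : Subgroup G) (ξ : H → ℂ) (hξ : Cfsg.IsCharacter H ξ) (g : G) : Cfsg.inducedCentralChar H ξ g = Cfsg.centralChar (Cfsg.indFun H ξ) g := by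
  classical
  have := hξ
  rw [Cfsg.inducedCentralChar, Cfsg.centralChar, CfsgLib.IndFun.indFun_one_apply,
    CfsgLib.IndFun.indFun_apply_eq]
  have hG : (((Subgroup.centralizer ({g} : Set G)).index : ℂ)) * (Nat.card (Subgroup.centralizer ({g} : Set G)) : ℂ)
      = (H.index : ℂ) * (Nat.card H : ℂ) := by
    rw [← Nat.cast_mul, ← Nat.cast_mul, Subgroup.index_mul_card, Subgroup.index_mul_card]
  rw [finsum_mem_eq_toFinset_sum _ _, finsum_mem_eq_toFinset_sum _ _, ← Finset.sum_div]
  by_cases h1 : ξ 1 = 0
  · simp [h1]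
  have hH : (Nat.card H : ℂ) ≠ 0 := Nat.cast_ne_zero.mpr Nat.card_pos.ne'
  have hi : (H.index : ℂ) ≠ 0 := Nat.cast_ne_zero.mpr Subgroup.index_ne_zero_of_finite
  field_simp
  linear_combination (-(∑ h ∈ {h : H | IsConj g (h : G)}.toFinset, ξ h)) * hG

end Cfsg.Agent.S0932
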