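import Cfsg.Statements.S0963
import Mathlib
import Cfsg.Agent.Clifford.Basic
import Cfsg.Agent.S0932

set_option autoImplicit false
open Cfsg

namespace Cfsg.Agent.S0963

/-- Let N be a normal subgroup of the finite group G, χ an irreducible character of G and θ an irreducible character of N. Then θ occurs in the restriction of χ to N if and only if, for every n ∈ N, the central character of χ at n (class size in G times χ n over χ 1) equals the sum of θ m / θ 1 over the elements m of N conjugate in G to n. -/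
theorem result {G : Type*} [Group G] [Fintype G] (N : Subgroup G) [N.Normal] [Fintype N] (χ : Cfsg.IrrCharacter G) (θ : Cfsg.IrrCharacter N) : Cfsg.classInner (fun n : N => (χ : G → ℂ) n) (θ : N → ℂ) ≠ 0 ↔ ∀ n : N, Cfsg.centralChar (χ : G → ℂ) (n : G) = Cfsg.inducedCentralChar N (θ : N → ℂ) (n : G) := by
  classical
  have hχ := χ.2
  have hθ := θ.2
  have hχc := CfsgLib.CharBasics.isCharacter_of_irr hχ
  have hθc := CfsgLib.CharBasics.isCharacter_of_irr hθ
  have hθ1 := CfsgLib.CharBasics.apply_one_ne_zero hθ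
  have hind : ∀ (φ : N → ℂ) (n : N), Cfsg.IsCharacter N φ →
      Cfsg.inducedCentralChar N φ (n : G) = Cfsg.centralChar (Cfsg.indFun N φ) (n : G) :=
    fun φ n hφ => Cfsg.Agent.S0932.result N φ hφ n
  have hkey : ∀ (φ : N → ℂ), Cfsg.IsIrrCharacter N φ →
      Cfsg.classInner (fun n : N => (χ : G → ℂ) n) φ ≠ 0 →
      ∀ n : N, Cfsg.centralChar (χ : G → ℂ) (n : G) = Cfsg.inducedCentralChar N φ (n : G) := by
    intro φ hφ hne n
    rw [hind φ n (CfsgLib.CharBasics.isCharacter_of_irr hφ), Cfsg.centralChar, Cfsg.centralChar,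
      CfsgLib.CharBasics.indFun_apply_one]
    have h1 := congrFun (CfsgLib.Clifford.restrict_eq_orbit_sum hχ hφ hne) n
    have h2 := CfsgLib.Clifford.restrict_one_eq hχ hφ hne
    have h3 := congrFun (CfsgLib.Clifford.indFun_restrict_normal (G := G) φ) n
    simp only [Pi.smul_apply, Finset.sum_apply, smul_eq_mul] at h1 h3
    have h4 : ∑ x : G, CfsgLib.Clifford.conjFun x⁻¹ φ n =
        (Nat.card (CfsgLib.Clifford.inertia (G := G) φ) : ℂ) *
          ∑ ψ ∈ Finset.univ.image (fun g : G => CfsgLib.Clifford.conjFun g φ), ψ n := by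
      rw [Fintype.sum_equiv (Equiv.inv G) (fun x => CfsgLib.Clifford.conjFun x⁻¹ φ n) (fun x => CfsgLib.Clifford.conjFun x φ n) (fun x => rfl),
        ← Finset.sum_fiberwise_of_maps_to (g := fun x : G => CfsgLib.Clifford.conjFun x φ)
          (fun x hx => Finset.mem_image_of_mem _ hx), Finset.mul_sum]
      refine Finset.sum_congr rfl fun ψ hψ => ?_
      rw [Finset.sum_congr rfl (g := fun _ => ψ n) (fun x hx => by rw [(Finset.mem_filter.mp hx).2]),
        Finset.sum_const, nsmul_eq_mul]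
      congr 2
      obtain ⟨c, -, rfl⟩ := Finset.mem_image.mp hψ
      rw [← Fintype.card_subtype, ← Nat.card_eq_fintype_card]
      refine Nat.card_congr ((Equiv.mulRight c⁻¹).subtypeEquiv fun x => ?_)
      simp only [Equiv.coe_mulRight, CfsgLib.Clifford.mem_inertia, ← CfsgLib.Clifford.conjFun_mul]
      constructor
      · intro h; rw [h, CfsgLib.Clifford.conjFun_inv_cancel]
      · intro h
        have := congrArg (CfsgLib.Clifford.conjFun c) h
        rwa [CfsgLib.Clifford.conjFun_mul c⁻¹ c, inv_mul_cancel, CfsgLib.Clifford.conjFun_one] at this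
    rw [h4] at h3
    have hI : (Nat.card (CfsgLib.Clifford.inertia (G := G) φ) : ℂ) * ((CfsgLib.Clifford.inertia (G := G) φ).index : ℂ)
        = (N.index : ℂ) * (Nat.card N : ℂ) := by
      rw [← Nat.cast_mul, ← Nat.cast_mul, Subgroup.card_mul_index, Subgroup.index_mul_card]
    have hφ1 := CfsgLib.CharBasics.apply_one_ne_zero hφ
    have hti : ((CfsgLib.Clifford.inertia (G := G) φ).index : ℂ) ≠ 0 :=
      Nat.cast_ne_zero.mpr Subgroup.index_ne_zero_of_finite
    have hi : (N.index : ℂ) ≠ 0 := Nat.cast_ne_zero.mpr Subgroup.index_ne_zero_of_finite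
    have hN0 : (Nat.card N : ℂ) ≠ 0 := Nat.cast_ne_zero.mpr Nat.card_pos.ne'
    rw [h1, h2, h3]
    generalize (∑ ψ ∈ Finset.univ.image (fun g : G => CfsgLib.Clifford.conjFun g φ), ψ n) = S
    field_simp
    linear_combination (-(((Subgroup.centralizer ({(n : G)} : Set G)).index : ℂ) * S)) * hI
  refine ⟨hkey _ hθ, fun h => ?_⟩
  have hres := CfsgLib.CharBasics.isCharacter_restrict hχc N
  obtain ⟨φ, m, hm, hφ⟩ := CfsgLib.CharBasics.exists_constituent hres
    (by rw [Subgroup.coe_one]; exact CfsgLib.CharBasics.apply_one_ne_zero hχ)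
  have hne : Cfsg.classInner (fun n : N => (χ : G → ℂ) n) (φ : N → ℂ) ≠ 0 := by
    rw [hφ]; exact_mod_cast hm.ne'
  have hφ1 := CfsgLib.CharBasics.apply_one_ne_zero φ.2
  have hi : (N.index : ℂ) ≠ 0 := Nat.cast_ne_zero.mpr Subgroup.index_ne_zero_of_finite
  have heq : (fun n : N => Cfsg.indFun N (θ : N → ℂ) n) =
      ((θ : N → ℂ) 1 / (φ : N → ℂ) 1) • fun n : N => Cfsg.indFun N (φ : N → ℂ) n := by
    funext n
    have h1 := (h n).symm.trans (hkey _ φ.2 hne n)
    rw [hind _ n hθc, hind _ n (CfsgLib.CharBasics.isCharacter_of_irr φ.2), Cfsg.centralChar, Cfsg.centralChar,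
      CfsgLib.CharBasics.indFun_apply_one, CfsgLib.CharBasics.indFun_apply_one] at h1
    have hc : ((Subgroup.centralizer ({(n : G)} : Set G)).index : ℂ) ≠ 0 :=
      Nat.cast_ne_zero.mpr Subgroup.index_ne_zero_of_finite
    simp only [Pi.smul_apply, smul_eq_mul]
    field_simp at h1 ⊢
    linear_combination h1
  have h2 : Cfsg.classInner (fun n : N => Cfsg.indFun N (θ : N → ℂ) n) (φ : N → ℂ) ≠ 0 := by
    rw [heq, CfsgLib.CharBasics.classInner_smul_left]
    refine mul_ne_zero (div_ne_zero hθ1 hφ1) ?_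
    rw [CfsgLib.Clifford.indFun_restrict_normal, CfsgLib.CharBasics.classInner_smul_left,
      CfsgLib.CharBasics.classInner_sum_left]
    refine mul_ne_zero (inv_ne_zero (Nat.cast_ne_zero.mpr Nat.card_pos.ne')) ?_
    have hb : ∀ x : G, Cfsg.classInner (CfsgLib.Clifford.conjFun x⁻¹ (φ : N → ℂ)) (φ : N → ℂ) =
        if CfsgLib.Clifford.conjFun x⁻¹ (φ : N → ℂ) = (φ : N → ℂ) then 1 else 0 := by
      intro x
      split_ifs with hx
      · rw [hx, CfsgLib.CharBasics.classInner_self φ.2]
      · exact CfsgLib.CharBasics.classInner_ne (CfsgLib.Clifford.isIrrCharacter_conjFun _ φ.2) φ.2 hx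
    rw [Finset.sum_congr rfl (fun x _ => hb x), Finset.sum_boole, Nat.cast_ne_zero]
    exact (Finset.card_pos.mpr ⟨1, Finset.mem_filter.mpr ⟨Finset.mem_univ _, by rw [inv_one, CfsgLib.Clifford.conjFun_one]⟩⟩).ne'
  rw [CfsgLib.Clifford.indFun_restrict_normal, CfsgLib.CharBasics.classInner_smul_left,
    CfsgLib.CharBasics.classInner_sum_left] at h2
  obtain ⟨x, -, hx⟩ := Finset.exists_ne_zero_of_sum_ne_zero (mul_ne_zero_iff.mp h2).2
  have hxe : CfsgLib.Clifford.conjFun x⁻¹ (θ : N → ℂ) = (φ : N → ℂ) := by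
    by_contra hd
    exact hx (CfsgLib.CharBasics.classInner_ne (CfsgLib.Clifford.isIrrCharacter_conjFun _ hθ) φ.2 hd)
  rw [← hxe, ← CfsgLib.Clifford.conjFun_restrict (CfsgLib.CharBasics.isClassFunction hχc) x⁻¹,
    CfsgLib.Clifford.classInner_conjFun] at hne
  exact hne

end Cfsg.Agent.S0963
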