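import Cfsg.Statements.S0917
import Cfsg.Agent.Blocks.DefectGroup
import Cfsg.Agent.ZStar.Second


set_option autoImplicit false
open Cfsg

namespace Cfsg.Agent.S0917

open CfsgLib.Blocks CfsgLib.CharBasics

/-- Let H be a subgroup of the finite group G, p a prime and M a maximal ideal of the algebraic integers containing p. If the block b of H induces the block B of G relative to M, then every defect group of b (a subgroup of H, viewed in G) is contained in some defect group of B. -/
theorem result {G : Type*} [Group G] [Finite G] (p : ℕ) [Fact p.Prime] (M : Ideal Cfsg.AlgInt) (hM : Cfsg.IsPModular p M) (H : Subgroup G) (b : Set (Cfsg.IrrCharacter H)) (hb : Cfsg.IsPBlock M b) (B : Set (Cfsg.IrrCharacter G)) (hB : Cfsg.IsPBlock M B) (hind : Cfsg.IsInducedBlock M H b B) (D : Subgroup H) (hD : Cfsg.IsDefectGroup p M b D) : ∃ E : Subgroup G, Cfsg.IsDefectGroup p M B E ∧ D.map H.subtype ≤ E := by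
  classical
  haveI := Fintype.ofFinite G
  haveI := Fintype.ofFinite H
  haveI : Fintype (ConjClasses H) := Fintype.ofFinite _
  obtain ⟨g, hg, P, rfl⟩ := hD
  obtain ⟨ξ, hξ⟩ := IsPBlock.nonempty hM hb
  obtain ⟨χ, hχ⟩ := IsPBlock.nonempty hM hB
  have h1 := CfsgLib.ZStar.omega_res_induced hM hind hξ hχ (isClassElt_blockElt B) (isIntegralElt_blockElt hM hB)
  rw [omega_blockElt, if_pos hχ,
    omega_eq_sum_classes ξ (CfsgLib.ZStar.isClassElt_res (isClassElt_blockElt B) H)] at h1
  obtain ⟨C, hC1, hC2⟩ : ∃ C : ConjClasses H, ¬ MemLocalIdeal M (blockCoeff B ((C.out : H) : G)) ∧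
      ¬ MemLocalIdeal M (centralChar (ξ : H → ℂ) C.out) := by
    by_contra hcon
    push Not at hcon
    refine not_memLocalIdeal_one hM ?_
    have h2 := memLocalIdeal_sub hM (memLocalIdeal_sum hM Finset.univ (f := fun C : ConjClasses H =>
      (CfsgLib.ZStar.res H (blockElt B)).coeff C.out * centralChar (ξ : H → ℂ) C.out) fun C _ => ?_) h1
    · rwa [sub_sub_cancel] at h2
    rw [CfsgLib.ZStar.coeff_res, coeff_blockElt]
    by_cases h : MemLocalIdeal M (blockCoeff B ((C.out : H) : G))
    · exact memLocalIdeal_mul_right hM h (memLocalRing_centralChar hM ξ _)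
    · exact memLocalIdeal_mul_left hM (memLocalRing_blockCoeff hM hB _) (hcon _ h)
  have hQy : ∀ q ∈ (P : Subgroup _).map (Subgroup.centralizer ({g} : Set H)).subtype, q * g = g * q :=
    fun q hq => Subgroup.mem_centralizer_singleton_iff.1 (Subgroup.map_subtype_le _ hq)
  obtain ⟨h', hh', hcent⟩ := exists_conj_centralizing hM hb hξ hg.2.1 hC2 (P.2.map _) hQy
  obtain ⟨c, hc⟩ := isConj_iff.1 hh'
  refine exists_defectGroup_ge hM hB (y := (h' : G)) ?_ ((P.2.map _).map _) ?_
  · rw [← hc, Subgroup.coe_mul, Subgroup.coe_mul, Subgroup.coe_inv, ← coeff_blockElt, coeff_conj (isClassElt_blockElt B),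
      coeff_blockElt]
    exact hC1
  · rintro _ ⟨q, hq, rfl⟩
    exact congrArg Subtype.val (hcent q hq)

end Cfsg.Agent.S0917
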