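import Cfsg.Statements.S0912
import Cfsg.Agent.Blocks.DefectGroup
import Cfsg.Agent.Blocks.NormalPSub
import Cfsg.Agent.PCore.Basic


set_option autoImplicit false
open Cfsg

namespace Cfsg.Agent.S0912

open CfsgLib.Blocks CfsgLib.CharBasics

/-- Let B be a block of the finite group G relative to a maximal ideal M of the algebraic integers containing the prime p. Every defect group of B contains the largest normal p-subgroup O_p(G). -/
theorem result {G : Type*} [Group G] [Finite G] (p : ℕ) [Fact p.Prime] (M : Ideal Cfsg.AlgInt) (hM : Cfsg.IsPModular p M) (B : Set (Cfsg.IrrCharacter G)) (hB : Cfsg.IsPBlock M B) (D : Subgroup G) (hD : Cfsg.IsDefectGroup p M B D) : Cfsg.pCore p G ≤ D := by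
  classical
  haveI := Fintype.ofFinite G
  obtain ⟨g, hg, P, rfl⟩ := hD
  obtain ⟨χ, hχ⟩ := IsPBlock.nonempty hM hB
  haveI : (pCore p G).Normal := Cfsg.pCore_normal p G
  haveI := Fintype.ofFinite (pCore p G)
  have hQ := CfsgLib.PCore.isPGroup_pCore p G
  have hgC : g ∈ Subgroup.centralizer (pCore p G : Set G) := by
    by_contra h
    exact hg.2.2 χ hχ (centralChar_mem_of_notMem_centralizer hM (pCore p G) hQ χ h)
  have hle : pCore p G ≤ Subgroup.centralizer ({g} : Set G) := fun q hq =>
    Subgroup.mem_centralizer_singleton_iff.2 (Subgroup.mem_centralizer_iff.1 hgC q hq)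
  have hn : ((pCore p G).subgroupOf (Subgroup.centralizer ({g} : Set G))).Normal := inferInstance
  have hsub : (pCore p G).subgroupOf (Subgroup.centralizer ({g} : Set G)) ≤
      (P : Subgroup (Subgroup.centralizer ({g} : Set G))) := by
    obtain ⟨Q, hQ'⟩ := (hQ.of_equiv (Subgroup.subgroupOfEquivOfLe hle).symm).exists_le_sylow
    obtain ⟨x, hx⟩ := MulAction.exists_smul_eq (Subgroup.centralizer ({g} : Set G)) Q P
    intro u hu
    rw [← hx, Sylow.coe_subgroup_smul, Subgroup.mem_pointwise_smul_iff_inv_smul_mem]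
    exact hQ' (by simpa [MulAut.smul_def] using hn.conj_mem u hu x⁻¹)
  exact fun q hq => ⟨⟨q, hle hq⟩, hsub hq, rfl⟩

end Cfsg.Agent.S0912
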