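import Cfsg.Statements.S0918
import Cfsg.Agent.Blocks.NormalPSub
import Cfsg.Agent.Blocks.Defect

set_option autoImplicit false
open Cfsg

namespace Cfsg.Agent.S0918

open CfsgLib.Blocks CfsgLib.CharBasics

/-- Let P be a p-subgroup of the finite group G and H a subgroup with P·C_G(P) ≤ H ≤ N_G(P); let b be a block of H and B a block of G relative to a maximal ideal M of the algebraic integers containing p. Then b induces B if and only if, for every g ∈ G, every ξ ∈ b and every χ ∈ B, the central character of χ at g is congruent modulo the local ideal at M to the sum of ξ h / ξ 1 over the elements h of H conjugate in G to g and centralizing P. -/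
theorem result {G : Type*} [Group G] [Finite G] (p : ℕ) [Fact p.Prime] (M : Ideal Cfsg.AlgInt) (hM : Cfsg.IsPModular p M) (P H : Subgroup G) (hP : IsPGroup p P) (hPH : P ≤ H) (hCH : Subgroup.centralizer (P : Set G) ≤ H) (hHN : H ≤ Subgroup.normalizer (P : Set G)) (b : Set (Cfsg.IrrCharacter H)) (hb : Cfsg.IsPBlock M b) (B : Set (Cfsg.IrrCharacter G)) (hB : Cfsg.IsPBlock M B) : Cfsg.IsInducedBlock M H b B ↔ ∀ ξ ∈ b, ∀ χ ∈ B, ∀ g : G, Cfsg.MemLocalIdeal M (Cfsg.brauerCentralChar P H (ξ : H → ℂ) g - Cfsg.centralChar (χ : G → ℂ) g) := by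
  classical
  haveI := Fintype.ofFinite G
  haveI := Fintype.ofFinite H
  haveI : Fintype (ConjClasses H) := Fintype.ofFinite _
  haveI : (P.subgroupOf H).Normal := (Subgroup.normal_subgroupOf_iff_le_normalizer hPH).2 hHN
  haveI := Fintype.ofFinite (P.subgroupOf H)
  have hQ : IsPGroup p (P.subgroupOf H) :=
    hP.of_equiv (Subgroup.subgroupOfEquivOfLe hPH).symm
  have hmem : ∀ h : H, h ∈ Subgroup.centralizer ((P.subgroupOf H : Subgroup H) : Set H) ↔
      (h : G) ∈ Subgroup.centralizer (P : Set G) := by
    intro h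
    simp only [Subgroup.mem_centralizer_iff, SetLike.mem_coe, Subgroup.mem_subgroupOf]
    exact ⟨fun k u hu => congrArg Subtype.val (k ⟨u, hPH hu⟩ hu), fun k u hu => Subtype.ext (k u hu)⟩
  have key : ∀ (ξ : IrrCharacter H) (g : G),
      MemLocalIdeal M (inducedCentralChar H (ξ : H → ℂ) g - brauerCentralChar P H (ξ : H → ℂ) g) := by
    intro ξ g
    let z : MonoidAlgebra ℂ H := ofFun fun h : H =>
      if IsConj g (h : G) ∧ h ∉ Subgroup.centralizer ((P.subgroupOf H : Subgroup H) : Set H) then 1 else 0
    have hzc : IsClassElt z := by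
      intro x h
      simp only [z, coeff_ofFun]
      refine if_congr ?_ rfl rfl
      have hconj : IsConj (x : G) ((h * x * h⁻¹ : H) : G) := isConj_iff.2 ⟨(h : G), by simp⟩
      have hn := (inferInstance : (Subgroup.centralizer ((P.subgroupOf H : Subgroup H) : Set H)).Normal)
      exact and_congr ⟨fun k => k.trans hconj.symm, fun k => k.trans hconj⟩ (not_congr ⟨fun k => by
        have := hn.conj_mem _ k h⁻¹
        simpa [mul_assoc] using this, fun k => hn.conj_mem _ k h⟩)
    have e : inducedCentralChar H (ξ : H → ℂ) g - brauerCentralChar P H (ξ : H → ℂ) g = omega (ξ : H → ℂ) z := by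
      rw [inducedCentralChar, brauerCentralChar, finsum_mem_eq_toFinset_sum, finsum_mem_eq_toFinset_sum, omega,
        Finset.sum_div]
      simp only [z, coeff_ofFun, Set.toFinset_setOf, Finset.sum_filter, ← Finset.sum_sub_distrib]
      refine Finset.sum_congr rfl fun h _ => ?_
      rw [hmem]
      by_cases h1 : IsConj g (h : G)
      · by_cases h2 : (h : G) ∈ Subgroup.centralizer (P : Set G)
        · rw [if_pos h1, if_pos ⟨h1, h2⟩, if_neg (fun k => k.2 h2), sub_self, zero_mul, zero_div]
        · rw [if_pos h1, if_neg (fun k => h2 k.2), if_pos ⟨h1, h2⟩, sub_zero, one_mul]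
      · rw [if_neg h1, if_neg (fun k => h1 k.1), if_neg (fun k => h1 k.1), sub_self, zero_mul, zero_div]
    rw [e, omega_eq_sum_classes ξ hzc]
    refine memLocalIdeal_sum hM _ fun C _ => ?_
    simp only [z, coeff_ofFun]
    split_ifs with hC
    · rw [one_mul]
      exact centralChar_mem_of_notMem_centralizer hM (P.subgroupOf H) hQ ξ hC.2
    · rw [zero_mul]; exact memLocalIdeal_zero hM
  constructor
  · intro h ξ hξ χ hχ g
    have := memLocalIdeal_sub hM (h.2.2 ξ hξ χ hχ g) (key ξ g)
    rwa [sub_sub_sub_cancel_left] at this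
  · intro h
    refine ⟨hb, hB, fun ξ hξ χ hχ g => ?_⟩
    have := memLocalIdeal_add hM (key ξ g) (h ξ hξ χ hχ g)
    rwa [sub_add_sub_cancel] at this

end Cfsg.Agent.S0918
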