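import Cfsg.Statements.S0190
import Cfsg.Agent.IndFun.Basic

set_option autoImplicit false
open Cfsg

namespace Cfsg.Agent.S0190

/-- For a transitive action of a finite group on X, the permutation character g ↦ (number of fixed points of g) is the function induced from the principal character of the stabilizer of any point. -/
theorem result {G : Type*} [Group G] [Fintype G] (X : Type*) [MulAction G X] [Finite X] [MulAction.IsPretransitive G X] (x : X) : (fun g : G => (Nat.card (MulAction.fixedBy X g) : ℂ)) = Cfsg.indFun (MulAction.stabilizer G x) (fun _ => 1) := by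
  classical
  funext g
  rw [CfsgLib.IndFun.indFun_const_one_eq_card_fixedBy]
  congr 1
  haveI : Nonempty X := ⟨x⟩
  let f : G ⧸ MulAction.stabilizer G x → X := MulAction.ofQuotientStabilizer G x
  have hf : Function.Bijective f := ⟨MulAction.injective_ofQuotientStabilizer G x, fun y => by
    obtain ⟨a, rfl⟩ := MulAction.exists_smul_eq G x y
    exact ⟨QuotientGroup.mk a, rfl⟩⟩
  refine (Nat.card_congr ((Equiv.ofBijective f hf).subtypeEquiv fun q => ?_)).symm
  induction q using QuotientGroup.induction_on with | _ a =>
  show ((g * a : G) : G ⧸ MulAction.stabilizer G x) = (a : G ⧸ _) ↔ g • a • x = a • x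
  rw [QuotientGroup.eq, MulAction.mem_stabilizer_iff, mul_smul, inv_smul_eq_iff, mul_smul, eq_comm]

end Cfsg.Agent.S0190
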