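import Cfsg.Statements.S4702
import Cfsg.Agent.CA.SharpThree
import Cfsg.Agent.CA.PSLTwo


set_option autoImplicit false
open Cfsg

namespace Cfsg.Agent.S4702

/-- Let G be a triply transitive permutation group on a finite set of odd size m ≥ 3 in which only the identity fixes three or more points. Then m = 2^a + 1 for some a ≥ 1 and G is isomorphic to SL(2, 2^a). -/
theorem result {α : Type*} [Fintype α] [DecidableEq α] (hm : 3 ≤ Fintype.card α) (hodd : Odd (Fintype.card α)) (G : Subgroup (Equiv.Perm α)) (h3 : MulAction.IsMultiplyPretransitive G α 3) (hfix : ∀ g : G, 3 ≤ Nat.card (MulAction.fixedBy α g) → g = 1) : ∃ a : ℕ, 1 ≤ a ∧ Fintype.card α = 2 ^ a + 1 ∧ ∃ (F : Type) (_ : Field F) (_ : Fintype F), Fintype.card F = 2 ^ a ∧ Nonempty (G ≃* Matrix.SpecialLinearGroup (Fin 2) F) := by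
  classical
  haveI := h3
  have hsharp : ∀ x : Fin 3 ↪ α, MulAction.stabilizer G x = ⊥ := by
    intro x
    refine eq_bot_iff.2 fun g hg => Subgroup.mem_bot.2 (hfix g ?_)
    rw [MulAction.mem_stabilizer_iff] at hg
    calc 3 = Nat.card (Fin 3) := by simp
      _ ≤ Nat.card (MulAction.fixedBy α g) := Nat.card_le_card_of_injective
          (fun i => (⟨x i, congrArg (fun y : Fin 3 ↪ α => y i) hg⟩ : MulAction.fixedBy α g))
          fun i j h => x.injective (congrArg Subtype.val h)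
  obtain ⟨a₀⟩ : Nonempty α := Fintype.card_pos_iff.1 (by omega)
  haveI : MulAction.IsPretransitive G α := MulAction.isPretransitive_of_is_two_pretransitive
    (h2 := MulAction.isMultiplyPretransitive_of_le (G := G) (α := α) (m := 2) (n := 3) (by norm_num)
      (by rw [Nat.card_eq_fintype_card]; omega))
  haveI : MulAction.IsMultiplyPretransitive (MulAction.stabilizer G a₀) (SubMulAction.ofStabilizer G a₀) 2 :=
    SubMulAction.ofStabilizer.isMultiplyPretransitive.1 inferInstance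
  have hΩ : Nat.card (SubMulAction.ofStabilizer G a₀) = Fintype.card α - 1 := by
    rw [SubMulAction.nat_card_ofStabilizer_eq, Nat.card_eq_fintype_card]
  have hsharp2 : ∀ x : Fin 2 ↪ SubMulAction.ofStabilizer G a₀, MulAction.stabilizer (MulAction.stabilizer G a₀) x = ⊥ := by
    intro x
    refine eq_bot_iff.2 fun g hg => ?_
    rw [MulAction.mem_stabilizer_iff] at hg
    refine Subgroup.mem_bot.2 (Subtype.ext (CfsgLib.CA.eq_one_of_fix_three hsharp (g := (g : G)) (a := a₀)
      (Ne.symm (x 0).2) (Ne.symm (x 1).2) (fun h => absurd (x.injective (Subtype.ext h)) (by decide)) g.2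
      (congrArg (fun y : Fin 2 ↪ SubMulAction.ofStabilizer G a₀ => ((y 0 : SubMulAction.ofStabilizer G a₀) : α)) hg)
      (congrArg (fun y : Fin 2 ↪ SubMulAction.ofStabilizer G a₀ => ((y 1 : SubMulAction.ofStabilizer G a₀) : α)) hg)))
  obtain ⟨p, j, N, hp, hj, hpq, -⟩ := CfsgLib.SharpTwo.exists_regular_normal hsharp2 (by rw [hΩ]; omega)
  rw [hΩ] at hpq
  have hp2 : p = 2 := by
    obtain ⟨k, hk⟩ := hodd
    have h2 : 2 ∣ p ^ j := ⟨k, by omega⟩
    exact ((Nat.prime_dvd_prime_iff_eq Nat.prime_two hp).1 (Nat.prime_two.dvd_of_dvd_pow h2)).symm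
  subst hp2
  have hα : Fintype.card α = 2 ^ j + 1 := by omega
  refine ⟨j, hj, hα, ?_⟩
  have hc : Nat.card α = 2 ^ j + 1 := by rw [Nat.card_eq_fintype_card, hα]
  by_cases hj2 : 2 ≤ j
  · obtain ⟨F, hF, hFf, hcard, ⟨φ⟩⟩ := CfsgLib.CA.iso_psl_of_sharp_three (G := G) hsharp hj2 hc
    haveI : Fact (Nat.Prime 2) := ⟨Nat.prime_two⟩
    haveI : CharP F 2 := charP_of_card_eq_prime_pow hcard
    let e2 : Matrix.SpecialLinearGroup (Fin 2) F ≃* Matrix.ProjectiveSpecialLinearGroup (Fin 2) F :=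
      QuotientGroup.quotientBot.symm.trans
        (QuotientGroup.quotientMulEquivOfEq CfsgLib.CA.sl_center_eq_bot.symm)
    exact ⟨F, hF, hFf, hcard, ⟨φ.trans e2.symm⟩⟩
  · obtain rfl : j = 1 := by omega
    haveI : Fact (Nat.Prime 2) := ⟨Nat.prime_two⟩
    have hG := CfsgLib.CA.card_sharp_three (G := G) hsharp (q := 2) hc le_rfl
    have htop : G = ⊤ := Subgroup.eq_top_of_card_eq G (by
      rw [hG, Nat.card_eq_fintype_card, Fintype.card_perm, hα]; rfl)
    obtain ⟨ψ⟩ := CfsgLib.SLn.sl_iso_perm_of_card_two (ZMod 2) (ZMod.card 2)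
    let e1 : G ≃* Equiv.Perm (Fin 3) := ((MulEquiv.subgroupCongr htop).trans Subgroup.topEquiv).trans
      (Equiv.permCongrHom (Fintype.equivFinOfCardEq hα))
    exact ⟨ZMod 2, inferInstance, inferInstance, ZMod.card 2, ⟨e1.trans ψ.symm⟩⟩

end Cfsg.Agent.S4702
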