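import Cfsg.Statements.S0307
import Mathlib
-- import your own Cfsg.Agent.* helpers here

set_option autoImplicit false
open Cfsg

namespace Cfsg.Agent.S0307

/-- PSL_n(q) is normal in PGL_n(q) with cyclic quotient of order gcd(n, q-1): the image of the natural map PSL_n → PGL_n is the kernel of a surjective homomorphism onto the cyclic group of that order. -/
theorem result {F : Type*} [Field F] [Fintype F] {q : ℕ} (hF : Fintype.card F = q) (n : ℕ) (hn : 1 ≤ n) : ∃ g : Matrix.ProjGenLinGroup (Fin n) F →* Multiplicative (ZMod (Nat.gcd n (q - 1))), Function.Surjective g ∧ g.ker = (Matrix.ProjectiveSpecialLinearGroup.toPGL : Matrix.ProjectiveSpecialLinearGroup (Fin n) F →* Matrix.ProjGenLinGroup (Fin n) F).range := by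
  classical
  set d := Nat.gcd n (q - 1)
  have hcard : Nat.card Fˣ = q - 1 := by rw [Nat.card_units, Nat.card_eq_fintype_card, hF]
  have hdiv : d ∣ Nat.card Fˣ := hcard ▸ Nat.gcd_dvd_right _ _
  let e := zmodCyclicMulEquiv (inferInstance : IsCyclic Fˣ)
  let ψ : Fˣ →* Multiplicative (ZMod d) :=
    (AddMonoidHom.toMultiplicative (ZMod.castHom hdiv (ZMod d)).toAddMonoidHom).comp e.symm.toMonoidHom
  have hψsurj : Function.Surjective ψ := fun x => by
    obtain ⟨y, hy⟩ := ZMod.castHom_surjective hdiv x.toAdd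
    exact ⟨e (Multiplicative.ofAdd y), by simp [ψ]; exact congrArg Multiplicative.ofAdd hy⟩
  have hψn : ∀ u : Fˣ, ψ (u ^ n) = 1 := fun u => by
    rw [map_pow]
    obtain ⟨c, hc⟩ : d ∣ n := Nat.gcd_dvd_left n _
    apply Multiplicative.toAdd.injective
    rw [toAdd_pow, toAdd_one, nsmul_eq_mul, hc, Nat.cast_mul, ZMod.natCast_self, zero_mul, zero_mul]
  have hψker : ∀ x, ψ x = 1 → ∃ u : Fˣ, u ^ n = x := by
    intro x hx
    have hne : Nat.card Fˣ ≠ 0 := Nat.card_pos.ne'
    haveI : NeZero (Nat.card Fˣ) := ⟨hne⟩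
    set k := (e.symm x).toAdd with hk
    have hx' : (ZMod.castHom hdiv (ZMod d)) k = 0 := congrArg Multiplicative.toAdd hx
    rw [ZMod.castHom_apply, ← ZMod.natCast_val, ZMod.natCast_eq_zero_iff] at hx'
    obtain ⟨c, hc⟩ := hx'
    refine ⟨e (Multiplicative.ofAdd ((Nat.gcdA n (q - 1) * c : ℤ) : ZMod (Nat.card Fˣ))), ?_⟩
    rw [← map_pow, ← ofAdd_nsmul, nsmul_eq_mul]
    conv_rhs => rw [← e.apply_symm_apply x]
    congr 1
    apply Multiplicative.toAdd.injective
    rw [toAdd_ofAdd, ← hk, ← ZMod.natCast_zmod_val k, hc]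
    have hb := congrArg (fun z : ℤ => (z : ZMod (Nat.card Fˣ))) (Nat.gcd_eq_gcd_ab n (q - 1))
    push_cast at hb ⊢
    rw [← hcard, ZMod.natCast_self, zero_mul, add_zero] at hb
    rw [show d = Nat.gcd n (Nat.card Fˣ) by rw [hcard], hb, hcard]
    ring
  let g := Matrix.ProjGenLinGroup.lift (ψ.comp Matrix.GeneralLinearGroup.det) (by
    ext u
    simp only [MonoidHom.comp_apply, MonoidHom.one_apply]
    rw [show Matrix.GeneralLinearGroup.det (Matrix.GeneralLinearGroup.scalar (Fin n) u) = u ^ n by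
      ext; simp, hψn])
  refine ⟨g, fun x => ?_, ?_⟩
  · obtain ⟨u, hu⟩ := hψsurj x
    have : Nonempty (Fin n) := ⟨⟨0, by omega⟩⟩
    obtain ⟨A, hA⟩ := Matrix.GeneralLinearGroup.det_surjective (n := Fin n) u
    exact ⟨Matrix.ProjGenLinGroup.mk A, by simp [g, hA, hu]⟩
  ext x
  induction x using Matrix.ProjGenLinGroup.induction_on with
  | mk A =>
    rw [MonoidHom.mem_ker, MonoidHom.mem_range]
    constructor
    · intro hA
      obtain ⟨u, hu⟩ := hψker _ (by simpa [g] using hA)
      set B := A * Matrix.GeneralLinearGroup.scalar (Fin n) u⁻¹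
      have hB : (B : Matrix (Fin n) (Fin n) F).det = 1 := by
        have h : Matrix.GeneralLinearGroup.det B = 1 := by
          rw [map_mul, show Matrix.GeneralLinearGroup.det (Matrix.GeneralLinearGroup.scalar (Fin n) u⁻¹) = u⁻¹ ^ n by
            ext; simp, ← hu, inv_pow, mul_inv_cancel]
        simpa using congrArg Units.val h
      let S : Matrix.SpecialLinearGroup (Fin n) F := ⟨(B : Matrix (Fin n) (Fin n) F), hB⟩
      refine ⟨QuotientGroup.mk S, ?_⟩
      rw [Matrix.ProjectiveSpecialLinearGroup.toPGL_mk, Matrix.ProjGenLinGroup.mk_eq_mk_iff]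
      refine ⟨u, ?_⟩
      rw [show Matrix.SpecialLinearGroup.toGL S = B from Units.ext rfl,
        mul_assoc, ← map_mul, inv_mul_cancel, map_one, mul_one]
    · rintro ⟨y, hy⟩
      rw [← hy]
      induction y using QuotientGroup.induction_on with
      | H X => simp [g]

end Cfsg.Agent.S0307
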