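import Cfsg.Statements.S0732
import Cfsg.Agent.DegPSucc.Semiaffine
import Cfsg.Agent.DegPSucc.OddCase
import Cfsg.Agent.DegPSucc.Shape
import Cfsg.Agent.DegPSucc.Recognise

set_option autoImplicit false
open Cfsg

namespace Cfsg.Agent.S0732

/-- A transitive permutation group on `p + 1` points (`p` prime) of order `(p+1) p d` with `d < p` is isomorphic to `PGL(2,p)` with `d = p - 1`, or to `PSL(2,p)` with `2d = p - 1`, or else `p + 1 = 2^q` for a prime `q`, `d = 1` or `d = q`, and the group is permutation-isomorphic to a group of semi-affine maps `x ↦ a φ(x) + b` of the field with `2^q` elements. -/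
theorem result {α : Type*} [Fintype α] [DecidableEq α] {p d : ℕ} (hp : p.Prime) (hα : Fintype.card α = p + 1) (G : Subgroup (Equiv.Perm α)) [MulAction.IsPretransitive G α] (hG : Nat.card G = (p + 1) * p * d) (hd : d < p) : (d = p - 1 ∧ Nonempty (G ≃* Matrix.ProjGenLinGroup (Fin 2) (ZMod p))) ∨ (2 * d = p - 1 ∧ Nonempty (G ≃* Matrix.ProjectiveSpecialLinearGroup (Fin 2) (ZMod p))) ∨ (∃ q : ℕ, q.Prime ∧ p + 1 = 2 ^ q ∧ (d = 1 ∨ d = q) ∧ ∃ e : α ≃ GaloisField 2 q, ∀ g : G, (e.symm.trans (((g : Equiv.Perm α)).trans e)) ∈ Cfsg.semiaffineGroup (GaloisField 2 q)) := by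
  classical
  haveI : Fact p.Prime := ⟨hp⟩
  obtain ⟨e, G', h, hmap, hd'⟩ := CfsgLib.DegPSucc.exists_coord hα G hG hd
  have hiso : Nonempty (G ≃* G') := by
    subst hmap
    exact ⟨Subgroup.equivMapOfInjective G _ e.permCongrHom.injective⟩
  obtain ⟨iso⟩ := hiso
  have hcard : Nat.card G' = (p + 1) * p * d := by rw [h.card_eq, hd']
  have hdvd : d ∣ p - 1 := hd' ▸ CfsgLib.DegPSucc.card_scalars_dvd G'
  have hd0 : 0 < d := hd' ▸ Nat.card_pos
  have hp2 := hp.two_le
  have hdle : d ≤ p - 1 := Nat.le_of_dvd (by omega) hdvd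
  have finish : ∀ hle : G' ≤ (CfsgLib.DegPSucc.pglPerm (p := p)).range, (d = p - 1 ∨ 2 * d = p - 1) →
      (d = p - 1 ∧ Nonempty (G ≃* Matrix.ProjGenLinGroup (Fin 2) (ZMod p))) ∨
      (2 * d = p - 1 ∧ Nonempty (G ≃* Matrix.ProjectiveSpecialLinearGroup (Fin 2) (ZMod p))) := by
    intro hle hcases
    rcases hcases with hc | hc
    · obtain ⟨i⟩ := CfsgLib.DegPSucc.iso_pgl hle (by rw [hcard, hc])
      exact Or.inl ⟨hc, ⟨iso.trans i⟩⟩
    · obtain ⟨i⟩ := CfsgLib.DegPSucc.iso_psl (by omega) hle (by rw [hcard, ← hc]; ring)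
      exact Or.inr ⟨hc, ⟨iso.trans i⟩⟩
  rcases Nat.lt_or_ge p 5 with hp5 | hp5
  · have htop : (CfsgLib.DegPSucc.pglPerm (p := p)).range = ⊤ := by
      refine Subgroup.eq_top_of_card_eq _ ?_
      rw [← Nat.card_congr (MonoidHom.ofInjective CfsgLib.DegPSucc.pglPerm_injective).toEquiv,
        CfsgLib.DegPSucc.card_pgl, Nat.card_perm, Finite.card_option, Nat.card_zmod]
      interval_cases p
      · rfl
      · rfl
      · exact absurd hp (by norm_num)
    have hle : G' ≤ (CfsgLib.DegPSucc.pglPerm (p := p)).range := htop ▸ le_top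
    refine (finish hle ?_).imp_right Or.inl
    interval_cases p
    · omega
    · omega
    · exact absurd hp (by norm_num)
  by_cases hR : CfsgLib.DegPSucc.HasRegular G'
  · obtain ⟨q, hq, hpq, hdq, e', he'⟩ := CfsgLib.DegPSucc.semiaffine h hR hp5
    rw [hd'] at hdq
    refine Or.inr (Or.inr ⟨q, hq, hpq, hdq, e.trans e', fun g => ?_⟩)
    have hg : e.permCongr (g : Equiv.Perm α) ∈ G' := by
      rw [hmap]
      exact Subgroup.mem_map_of_mem _ g.2
    have h2 := he' _ hg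
    have h3 : (e.trans e').symm.trans ((g : Equiv.Perm α).trans (e.trans e')) =
        e'.symm.trans ((e.permCongr (g : Equiv.Perm α)).trans e') := Equiv.ext fun x => by simp
    rw [h3]
    exact h2
  obtain ⟨w, hw, w0, w1, hww, hcases⟩ : ∃ w ∈ G', w none = some 0 ∧ w (some 0) = none ∧ w * w = 1 ∧
      (d = p - 1 ∨ (2 * d = p - 1 ∧ CfsgLib.DegPSucc.SwapInvol G')) := by
    rcases Nat.even_or_odd d with hev | hodd
    · obtain ⟨⟨w, hw, w0, w1, hww⟩, hlow, hhalf⟩ :=
        CfsgLib.DegPSucc.even_case h (by omega) (hd'.symm ▸ even_iff_two_dvd.mp hev)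
      rw [hd'] at hlow hhalf
      refine ⟨w, hw, w0, w1, hww, ?_⟩
      obtain ⟨m, hm⟩ := hdvd
      have hm2 : m ≤ 2 := Nat.le_of_mul_le_mul_left (show d * m ≤ d * 2 by omega) hd0
      interval_cases m
      · omega
      · exact Or.inl (by omega)
      · exact Or.inr ⟨by omega, hhalf (by omega)⟩
    · obtain hreg | ⟨hc, hS⟩ := CfsgLib.DegPSucc.odd_case hp5 d G' h hd' hodd
      · exact absurd hreg hR
      · obtain ⟨w, hw, w0, w1⟩ := h.exists_swap
        exact ⟨w, hw, w0, w1, hS w hw w0 w1, Or.inr ⟨hc, hS⟩⟩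
  have hform : ∀ x, x ≠ 0 → CfsgLib.DegPSucc.swapFun w x = CfsgLib.DegPSucc.swapFun w 1 * x⁻¹ := by
    rcases hcases with hc | ⟨hc, hS⟩
    · exact CfsgLib.DegPSucc.shape_full h hp5 (hd'.trans hc) hw w0 w1 hww
    · exact CfsgLib.DegPSucc.shape_half h hp5 (by rw [hd', hc]) hS hw w0 w1
  have hwmem : w ∈ (CfsgLib.DegPSucc.pglPerm (p := p)).range :=
    CfsgLib.DegPSucc.inversion_mem_range (CfsgLib.DegPSucc.swapFun_spec w0 w1 one_ne_zero).2 w0 w1
      fun x hx => by rw [(CfsgLib.DegPSucc.swapFun_spec w0 w1 hx).1, hform x hx]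
  exact (finish (CfsgLib.DegPSucc.le_range h hw w0 w1 hwmem) (hcases.imp_right And.left)).imp_right Or.inl

end Cfsg.Agent.S0732
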