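import Cfsg.Statements.S1528
import Cfsg.Agent.Clifford.Correspondence
import Cfsg.Agent.Clifford.BrauerPerm

set_option autoImplicit false
open Cfsg

namespace Cfsg.Agent.S1528

open CfsgLib.Clifford CfsgLib.CharBasics in
/-- In the situation of a Frobenius group only the principal character is invariant outside `N`. -/
theorem inertia_eq {G : Type*} [Group G] [Fintype G] (N : Subgroup G) [N.Normal]
    (hC : ∀ n ∈ N, n ≠ 1 → Subgroup.centralizer ({n} : Set G) ≤ N) {θ : N → ℂ}
    (hθ : Cfsg.IsIrrCharacter N θ) (hθ1 : θ ≠ fun _ => 1) : N = inertia θ := by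
  classical
  refine le_antisymm (le_inertia (isClassFunction (isCharacter_of_irr hθ))) (fun g hg => ?_)
  by_contra hgN
  let σ : Cfsg.IrrCharacter N ≃ Cfsg.IrrCharacter N :=
    { toFun := fun φ => ⟨CfsgLib.Clifford.conjFun g φ.1, isIrrCharacter_conjFun g φ.2⟩
      invFun := fun φ => ⟨CfsgLib.Clifford.conjFun g⁻¹ φ.1, isIrrCharacter_conjFun g⁻¹ φ.2⟩
      left_inv := fun φ => Subtype.ext (CfsgLib.Clifford.conjFun_inv_cancel g φ.1)
      right_inv := fun φ => Subtype.ext (by
        have := CfsgLib.Clifford.conjFun_inv_cancel g⁻¹ φ.1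
        rwa [inv_inv] at this) }
  let τ : ConjClasses N ≃ ConjClasses N :=
    { toFun := ConjClasses.map (MulAut.conjNormal g⁻¹ : MulAut N).toMonoidHom
      invFun := ConjClasses.map (MulAut.conjNormal g : MulAut N).toMonoidHom
      left_inv := fun C => by
        obtain ⟨x, rfl⟩ := ConjClasses.exists_rep C
        show ConjClasses.mk (MulAut.conjNormal g (MulAut.conjNormal g⁻¹ x)) = ConjClasses.mk x
        rw [← MulAut.mul_apply, ← map_mul, mul_inv_cancel, map_one]
        rfl
      right_inv := fun C => by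
        obtain ⟨x, rfl⟩ := ConjClasses.exists_rep C
        show ConjClasses.mk (MulAut.conjNormal g⁻¹ (MulAut.conjNormal g x)) = ConjClasses.mk x
        rw [← MulAut.mul_apply, ← map_mul, inv_mul_cancel, map_one]
        rfl }
  have hb := brauer_perm σ τ (fun φ x x' hxx => by
    have h1 : IsConj (MulAut.conjNormal g x') x := by
      have h2 : IsConj x' (MulAut.conjNormal g⁻¹ x) := ConjClasses.mk_eq_mk_iff_isConj.mp hxx
      have h3 := (MulAut.conjNormal g : MulAut N).toMonoidHom.map_isConj h2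
      rwa [MulEquiv.coe_toMonoidHom, ← MulAut.mul_apply, ← map_mul, mul_inv_cancel, map_one] at h3
    show CfsgLib.Clifford.conjFun g φ.1 x' = φ.1 x
    rw [CfsgLib.Clifford.conjFun_eq_comp]
    exact apply_isConj (isCharacter_of_irr φ.2) h1)
  have hone : Nat.card {C : ConjClasses N // τ C = C} = 1 := by
    rw [Nat.card_eq_one_iff_unique]
    refine ⟨⟨fun a b => Subtype.ext ?_⟩, ⟨⟨ConjClasses.mk 1, ?_⟩⟩⟩
    · suffices h : ∀ C : ConjClasses N, τ C = C → C = ConjClasses.mk 1 by rw [h a.1 a.2, h b.1 b.2]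
      intro C hC'
      obtain ⟨x, rfl⟩ := ConjClasses.exists_rep C
      by_contra hx1
      have hx : (x : G) ≠ 1 := fun e => hx1 (by rw [show x = 1 from Subtype.ext e])
      obtain ⟨m, hm⟩ := isConj_iff.mp (ConjClasses.mk_eq_mk_iff_isConj.mp hC' :
        IsConj (MulAut.conjNormal g⁻¹ x) x)
      apply hgN
      have hmem : g * (m : G)⁻¹ ∈ N := by
        refine hC x x.2 hx ?_
        rw [Subgroup.mem_centralizer_singleton_iff]
        have h' := congrArg Subtype.val hm
        simp only [Subgroup.coe_mul, Subgroup.coe_inv, MulAut.conjNormal_apply, inv_inv] at h'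
        calc g * (m : G)⁻¹ * x = g * (m : G)⁻¹ * ((m : G) * (g⁻¹ * x * g) * (m : G)⁻¹) := by rw [h']
          _ = x * (g * (m : G)⁻¹) := by group
      have := mul_mem hmem m.2
      rwa [inv_mul_cancel_right] at this
    · show ConjClasses.mk (MulAut.conjNormal g⁻¹ (1 : N)) = _
      rw [map_one]
  rw [hone, Nat.card_eq_one_iff_unique] at hb
  haveI := hb.1
  have h := congrArg (fun s : {χ : Cfsg.IrrCharacter N // σ χ = χ} => (s.1 : N → ℂ))
    (Subsingleton.elim (⟨⟨θ, hθ⟩, Subtype.ext hg⟩ : {χ : Cfsg.IrrCharacter N // σ χ = χ})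
      ⟨oneChar, Subtype.ext rfl⟩)
  exact hθ1 h

/-- Let N be a normal subgroup of the finite group G such that every element of G commuting with a non-identity element of N lies in N. If χ is an irreducible character of G with χ n ≠ χ 1 for some n ∈ N, then χ is the function induced from some irreducible character of N. -/
theorem result {G : Type*} [Group G] [Fintype G] (N : Subgroup G) [N.Normal] (hC : ∀ n ∈ N, n ≠ 1 → Subgroup.centralizer ({n} : Set G) ≤ N) (χ : G → ℂ) (hχ : Cfsg.IsIrrCharacter G χ) (hker : ∃ n ∈ N, χ n ≠ χ 1) : ∃ φ : N → ℂ, Cfsg.IsIrrCharacter N φ ∧ χ = Cfsg.indFun N φ := by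
  classical
  have hχc := CfsgLib.CharBasics.isCharacter_of_irr hχ
  obtain ⟨r, f, hf, hdec⟩ := CfsgLib.CharBasics.exists_decomp (CfsgLib.CharBasics.isCharacter_restrict hχc N)
  obtain ⟨i, hi⟩ : ∃ i, f i ≠ fun _ => 1 := by
    by_contra hne
    push Not at hne
    obtain ⟨n, hn, hn1⟩ := hker
    apply hn1
    have h1 := congrFun hdec ⟨n, hn⟩
    have h2 := congrFun hdec 1
    simp only [Finset.sum_apply, hne] at h1 h2
    exact h1.trans h2.symm
  have hθ : Cfsg.classInner (fun n : N => χ n) (f i) ≠ 0 := by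
    rw [hdec, CfsgLib.CharBasics.classInner_sum_left]
    rw [Finset.sum_congr rfl (fun j _ => show Cfsg.classInner (f j) (f i) = if f j = f i then (1 : ℂ) else 0 by
      split_ifs with e
      · rw [e]; exact CfsgLib.CharBasics.classInner_self (hf i)
      · exact CfsgLib.CharBasics.classInner_ne (hf j) (hf i) e), Finset.sum_boole, Nat.cast_ne_zero]
    exact Finset.card_ne_zero.mpr ⟨i, Finset.mem_filter.mpr ⟨Finset.mem_univ _, rfl⟩⟩
  obtain ⟨ψ, hψ, hind, -, -⟩ := CfsgLib.Clifford.exists_inertia_correspondent hχ (hf i) hθ N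
    (inertia_eq N hC (hf i) hi) le_rfl
  exact ⟨ψ, hψ, hind.symm⟩

end Cfsg.Agent.S1528
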