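import Cfsg.Statements.S0183
import Cfsg.Agent.CN.Quotient
import Cfsg.Agent.S1526
import Mathlib.Tactic

set_option autoImplicit false
open Cfsg
open scoped commutatorElement

namespace Cfsg.Agent.S0183

open CfsgLib.CN in
theorem not_minSimple {G : Type*} [Group G] [Finite G] (hG : Cfsg.IsMinSimpleOddOrder G) (hCN : Cfsg.IsCNGroup G) :
    False := by
  classical
  haveI := hG.2.1
  -- representatives of the classes of maximal nilpotent subgroups
  let r : Setoid {H : Subgroup G // MinOdd.MaxNil H} :=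
    { r := fun H K => ∃ g : G, (K : Subgroup G) = (H : Subgroup G).map (MulAut.conj g).toMonoidHom
      iseqv := ⟨fun H => ⟨1, by ext; simp⟩,
        fun {H K} ⟨g, hg⟩ => ⟨g⁻¹, by rw [hg, Subgroup.map_map]; ext; simp [mul_assoc]⟩,
        fun {H K L} ⟨g, hg⟩ ⟨u, hu⟩ => ⟨u * g, by rw [hu, hg, Subgroup.map_map]; ext; simp [mul_assoc]⟩⟩ }
  letI : Fintype (Quotient r) := Fintype.ofFinite _
  let Hs : Quotient r → Subgroup G := fun i => (i.out : Subgroup G)
  have hmn : ∀ i, MinOdd.MaxNil (Hs i) := fun i => i.out.2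
  have hcover : ∀ g : G, ∃ i, ∃ x : G, x * g * x⁻¹ ∈ Hs i := by
    intro g
    obtain ⟨L, hle, hL⟩ := MinOdd.exists_maxNil_le hG hCN (MinOdd.isNilpotent_zpowers g)
    refine ⟨Quotient.mk r ⟨L, hL⟩, ?_⟩
    obtain ⟨u, hu⟩ := Quotient.exact (Quotient.out_eq (Quotient.mk r ⟨L, hL⟩))
    change L = (Hs _).map (MulAut.conj u).toMonoidHom at hu
    obtain ⟨y, hy, hyg⟩ := hu.le (hle (Subgroup.mem_zpowers g))
    refine ⟨u⁻¹, ?_⟩
    rw [← hyg]
    simpa [mul_assoc] using hy
  have hcop : ∀ i j, i ≠ j → Nat.Coprime (Nat.card (Hs i)) (Nat.card (Hs j)) := by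
    intro i j hij
    by_contra hn
    obtain ⟨p, hp, hd, hd'⟩ := Nat.Prime.not_coprime_iff_dvd.1 hn
    obtain ⟨g, hg⟩ := MinOdd.exists_conj_of_dvd hG hCN hp (hmn i) (hmn j) hd hd'
    have h : i.out ≈ j.out := ⟨g, hg⟩
    exact hij (by rw [← Quotient.out_eq i, ← Quotient.out_eq j]; exact Quotient.sound h)
  have hne : ∀ i, Hs i ≠ ⊥ := fun i => MinOdd.maxNil_ne_bot hG hCN (hmn i)
  have hnt : ∀ i, Hs i ≠ ⊤ := by
    intro i e
    obtain ⟨M, hM, -, hHM⟩ := MinOdd.eq_fittingOf hG hCN (hmn i)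
    exact hM.1 (top_le_iff.1 (e ▸ hHM.le.trans (Subgroup.map_subtype_le _)))
  -- at least two classes
  have hι : 2 ≤ Fintype.card (Quotient r) := by
    by_contra hlt
    haveI : Subsingleton (Quotient r) := Fintype.card_le_one_iff_subsingleton.1 (by omega)
    obtain ⟨i, -⟩ := hcover 1
    refine hnt i (Subgroup.index_eq_one.1 ?_)
    by_contra hidx
    obtain ⟨p, hp, hpd⟩ := Nat.exists_prime_and_dvd hidx
    haveI := Fact.mk hp
    obtain ⟨y, hy⟩ := exists_prime_orderOf_dvd_card' (G := G) p (hpd.trans (Hs i).index_dvd_card)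
    obtain ⟨j, x, hx⟩ := hcover y
    rw [Subsingleton.elim j i] at hx
    refine hp.ne_one (Nat.eq_one_of_dvd_coprimes (MinOdd.coprime_index hG hCN (hmn i)) ?_ hpd)
    rw [← hy, show orderOf y = orderOf (x * y * x⁻¹) by rw [← MulAut.conj_apply, MulEquiv.orderOf_eq]]
    exact (Subgroup.orderOf_mk _ hx) ▸ orderOf_dvd_natCard (⟨_, hx⟩ : Hs i)
  refine Cfsg.Agent.S1526.result hG.1 hι (fun i => Subgroup.normalizer (Hs i : Set G)) Hs ?_ hne ?_ ?_ hcop
    (fun i => ⟨?_, rfl⟩) (fun g _ => hcover g)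
  · intro i
    refine lt_of_le_of_ne Subgroup.le_normalizer fun e => ?_
    obtain ⟨M, hM, hN, hHM⟩ := MinOdd.eq_fittingOf hG hCN (hmn i)
    obtain ⟨-, -, -, E, hc, hEne, -, -⟩ := MinOdd.frobenius_maximal hG hCN hM
    exact hEne (le_bot_iff.1 (hc.2.2.1 ▸ le_inf (hc.2.1.trans (by rw [← hHM, e, hN])) le_rfl))
  · intro i x hx h hh
    exact (Subgroup.mem_normalizer_iff.1 hx h).1 hh
  · intro i h hh h1
    obtain ⟨M, hM, hN, hHM⟩ := MinOdd.eq_fittingOf hG hCN (hmn i)
    obtain ⟨-, -, hFN, E, hc, -, -, hfix⟩ := MinOdd.frobenius_maximal hG hCN hM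
    rintro m ⟨hm, hmc⟩
    by_contra hmH
    rw [hHM] at hh hmH
    have h2 := MinOdd.fix_all hCN hc hFN.ge hfix m (hN.le hm) hmH
    exact h1 (Subgroup.mem_bot.1 (h2 ▸ ⟨hh, Subgroup.mem_centralizer_singleton_iff.2
      (Subgroup.mem_centralizer_singleton_iff.1 hmc).symm⟩))
  · intro g hg y hy hgy
    by_contra hy1
    refine hy1 ?_
    have hne' : (Hs i).map (MulAut.conj g).toMonoidHom ≠ Hs i := fun e =>
      hg (Subgroup.mem_normalizer_iff_map_conj_eq.2 e)
    have h2 : g * y * g⁻¹ ∈ Hs i ⊓ (Hs i).map (MulAut.conj g).toMonoidHom := ⟨hgy, y, hy, rfl⟩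
    rw [MinOdd.inf_conj_eq_bot hG hCN (hmn i) g hne', Subgroup.mem_bot] at h2
    exact conj_eq_one_iff.1 h2

universe u

theorem solvable_aux : ∀ (k : ℕ) {G : Type u} [Group G] [Finite G], Nat.card G = k → Odd (Nat.card G) →
    Cfsg.IsCNGroup G → Group.IsSolvable G := by
  intro k
  induction k using Nat.strong_induction_on with
  | _ k ih =>
    intro G _ _ hk hodd hCN
    by_contra hns
    haveI : Nontrivial G := by
      by_contra h
      haveI := not_nontrivial_iff_subsingleton.1 h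
      exact hns (Group.isSolvable_of_comm fun a b => Subsingleton.elim _ _)
    have hsub : ∀ H : Subgroup G, H ≠ ⊤ → Group.IsSolvable H := by
      intro H hH
      refine ih (Nat.card H) ?_ rfl (hodd.of_dvd_nat (Subgroup.card_subgroup_dvd_card H))
        (CfsgLib.CN.MinOdd.isCNGroup_subgroup hCN H)
      rw [← hk]
      exact lt_of_le_of_ne (Nat.le_of_dvd Nat.card_pos (Subgroup.card_subgroup_dvd_card H))
        fun e => hH (Subgroup.eq_top_of_card_eq _ e)
    have hsimple : IsSimpleGroup G := by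
      refine ⟨fun N hN => ?_⟩
      by_contra hc
      push Not at hc
      haveI := hsub N hc.2
      haveI : Group.IsSolvable (G ⧸ N) := by
        refine ih (Nat.card (G ⧸ N)) ?_ rfl (hodd.of_dvd_nat (Subgroup.card_quotient_dvd_card N))
          (CfsgLib.CN.isCNGroup_quotient_aux _ hCN N inferInstance rfl)
        rw [← hk, Subgroup.card_eq_card_quotient_mul_card_subgroup N]
        exact lt_mul_of_one_lt_right Nat.card_pos ((Subgroup.one_lt_card_iff_ne_bot N).2 hc.1)
      exact hns (Group.isSolvable_of_ker_le_range N.subtype (QuotientGroup.mk' N)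
        (by rw [QuotientGroup.ker_mk', Subgroup.range_subtype]))
    refine not_minSimple ⟨hodd, hsimple, fun h => hns ?_, hsub⟩ hCN
    exact Group.isSolvable_of_comm fun a b => h.is_comm.comm a b

/-- The CN-Theorem for odd order: a finite group of odd order in which every non-identity element has a nilpotent centralizer (a CN-group) is solvable. -/
theorem result {G : Type*} [Group G] [Finite G] (hodd : Odd (Nat.card G)) (hCN : Cfsg.IsCNGroup G) : Group.IsSolvable G := by
  exact solvable_aux _ rfl hodd hCN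

end Cfsg.Agent.S0183
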