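import Cfsg.Statements.S1474
import Cfsg.Agent.CN.Complement
import Cfsg.Agent.Components.Cores
import Cfsg.Agent.TypeP.Basic
import Mathlib.Tactic

set_option autoImplicit false
open Cfsg
open scoped commutatorElement

namespace Cfsg.Agent.S1474

/-- Let G be a finite group in which every non-identity element has nilpotent centralizer, not itself nilpotent, and having a nontrivial normal Sylow p-subgroup for some prime p. Let H be the largest normal nilpotent Hall subgroup of G. Then H is a nontrivial proper normal subgroup with a complement E that is a Frobenius complement in G (no non-identity element of E centralizes a non-identity element of H), and G/H is nilpotent. -/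
theorem result {G : Type*} [Group G] [Finite G] (hCN : Cfsg.IsCNGroup G) (hnn : ¬ Group.IsNilpotent G) (p : ℕ) [Fact p.Prime] (P : Sylow p G)
    (hP1 : (P : Subgroup G) ≠ ⊥) (hPn : (P : Subgroup G).Normal) :
    Cfsg.fittingHall G ≠ ⊥ ∧ Cfsg.fittingHall G ≠ ⊤ ∧
      (∃ E : Subgroup G, Subgroup.IsComplement' (Cfsg.fittingHall G) E ∧ Cfsg.IsFrobeniusComplement E ∧
        ∀ e ∈ E, e ≠ 1 → Cfsg.fittingHall G ⊓ Subgroup.centralizer ({e} : Set G) = ⊥) ∧
      Group.IsNilpotent (G ⧸ Cfsg.fittingHall G) := by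
  haveI := hPn
  set H := Cfsg.fittingHall G with hH
  haveI hHn : Group.IsNilpotent ↥H := by
    haveI := CfsgLib.Components.fittingSubgroup_isNilpotent (G := G)
    have hle : H ≤ Cfsg.fittingSubgroup G := sSup_le fun N hN => CfsgLib.Components.le_fittingSubgroup hN.1 hN.2.1
    exact Group.nilpotent_of_mulEquiv (Subgroup.subgroupOfEquivOfLe hle)
  have hsyl : ∀ (q : ℕ) [Fact q.Prime] (Q : Sylow q G), (Q : Subgroup G).Normal → (Q : Subgroup G) ≤ H := fun q _ Q hQ => by
    refine le_sSup ⟨hQ, Q.isPGroup'.isNilpotent, ?_⟩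
    obtain ⟨k, hk⟩ := Q.isPGroup'.exists_card_eq
    rw [hk]
    exact ((Nat.Prime.coprime_iff_not_dvd Fact.out).2 Q.not_dvd_index).pow_left k
  have hHb : H ≠ ⊥ := fun e => hP1 (le_bot_iff.1 (e ▸ hsyl p P hPn))
  have hHt : H ≠ ⊤ := fun e => hnn (by
    haveI : Group.IsNilpotent ↥(⊤ : Subgroup G) := e ▸ hHn
    exact Group.nilpotent_of_mulEquiv Subgroup.topEquiv)
  have hcop : (Nat.card H).Coprime H.index := CfsgLib.TypeP.fittingHall_coprime G
  obtain ⟨E, hE⟩ := Subgroup.exists_right_complement'_of_coprime hcop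
  have hHE : H ⊓ E = ⊥ := disjoint_iff.1 hE.disjoint
  have hEc : (Nat.card H).Coprime (Nat.card E) := by rwa [← hE.symm.index_eq_card]
  have hfix : ∀ e ∈ E, e ≠ 1 → H ⊓ Subgroup.centralizer ({e} : Set G) = ⊥ := by
    intro e₀ he₀ he₀1
    rw [eq_bot_iff]
    rintro h ⟨hh, hhe₀⟩
    refine Subgroup.mem_bot.2 (by_contra fun hh1 => ?_)
    obtain ⟨q, hq, hqd⟩ := Nat.exists_prime_and_dvd (show orderOf e₀ ≠ 1 from fun e => he₀1 (orderOf_eq_one_iff.1 e))
    haveI := Fact.mk hq
    set e := e₀ ^ (orderOf e₀ / q) with he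
    have heo : orderOf e = q := orderOf_pow_orderOf_div (orderOf_pos e₀).ne' hqd
    have he1 : e ≠ 1 := fun h => by
      rw [h, orderOf_one] at heo
      exact hq.ne_one heo.symm
    have hhe : Commute h e := (show Commute h e₀ from Subgroup.mem_centralizer_singleton_iff.1 hhe₀).pow_right _
    have hqH : ¬ q ∣ Nat.card H := fun h1 => hq.ne_one (Nat.eq_one_of_dvd_coprimes hEc h1
      (hqd.trans ((Subgroup.orderOf_mk e₀ he₀) ▸ orderOf_dvd_natCard (⟨e₀, he₀⟩ : E))))
    have hcopH : ∀ y ∈ H, (orderOf y).Coprime (orderOf e) := fun y hy => by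
      rw [heo]
      exact (((Nat.Prime.coprime_iff_not_dvd hq).2 hqH).symm).coprime_dvd_left
        ((Subgroup.orderOf_mk y hy) ▸ orderOf_dvd_natCard (⟨y, hy⟩ : H))
    haveI := H.nontrivial_iff_ne_bot.2 hHb
    obtain ⟨⟨z, hzc⟩, hz⟩ := Subgroup.ne_bot_iff_exists_ne_one.1 (Group.IsNilpotent.center_ne_bot (G := ↥H))
    have hz1 : (z : G) ≠ 1 := fun h => hz (Subtype.ext (Subtype.ext h))
    have hzH : ∀ y ∈ H, Commute (z : G) y := fun y hy =>
      (congrArg Subtype.val (Subgroup.mem_center_iff.1 hzc ⟨y, hy⟩) : (y : G) * z = z * y).symm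
    have hze : Commute (z : G) e := CfsgLib.CN.commute_of_mem (hCN h hh1)
      (Subgroup.mem_centralizer_singleton_iff.2 (hzH h hh).eq) (Subgroup.mem_centralizer_singleton_iff.2 hhe.symm.eq)
      (hcopH z z.2)
    have heC : ∀ y ∈ H, Commute y e := fun y hy => CfsgLib.CN.commute_of_mem (hCN z hz1)
      (Subgroup.mem_centralizer_singleton_iff.2 (hzH y hy).symm.eq) (Subgroup.mem_centralizer_singleton_iff.2 hze.symm.eq)
      (hcopH y hy)
    have hez : IsPGroup q (Subgroup.zpowers e) := IsPGroup.of_card (n := 1) (by rw [Nat.card_zpowers, heo, pow_one])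
    obtain ⟨Q, hQ⟩ := hez.exists_le_sylow
    haveI := (Q : Subgroup G).nontrivial_iff_ne_bot.2 fun h => he1 (Subgroup.mem_bot.1 (h ▸ hQ (Subgroup.mem_zpowers e)))
    haveI := Q.isPGroup'.center_nontrivial
    obtain ⟨⟨y, hyc⟩, hy⟩ := exists_ne (1 : Subgroup.center ↥(Q : Subgroup G))
    have hy1 : (y : G) ≠ 1 := fun h => hy (Subtype.ext (Subtype.ext h))
    have hyQ : ∀ x ∈ (Q : Subgroup G), Commute x y := fun x hx => congrArg Subtype.val (Subgroup.mem_center_iff.1 hyc ⟨x, hx⟩)
    have hqco : ∀ x ∈ (Q : Subgroup G), ∀ w ∈ H, (orderOf w).Coprime (orderOf x) := fun x hx w hw => by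
      obtain ⟨j, hj⟩ := IsPGroup.iff_orderOf.1 Q.isPGroup' ⟨x, hx⟩
      rw [← Subgroup.orderOf_coe] at hj
      rw [hj]
      refine Nat.Coprime.pow_right j ?_
      have := hcopH w hw
      rwa [heo] at this
    have hyC : ∀ w ∈ H, Commute w (y : G) := fun w hw => CfsgLib.CN.commute_of_mem (hCN e he1)
      (Subgroup.mem_centralizer_singleton_iff.2 (heC w hw).eq)
      (Subgroup.mem_centralizer_singleton_iff.2 (hyQ e (hQ (Subgroup.mem_zpowers e))).symm.eq) (hqco y y.2 w hw)
    set C := Subgroup.centralizer (H : Set G) with hC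
    have hQC : (Q : Subgroup G) ≤ C := fun x hx => Subgroup.mem_centralizer_iff.2 fun w hw =>
      (CfsgLib.CN.commute_of_mem (hCN y hy1) (Subgroup.mem_centralizer_singleton_iff.2 (hyC w hw).eq)
        (Subgroup.mem_centralizer_singleton_iff.2 (hyQ x hx).eq) (hqco x hx w hw)).eq
    haveI : C.Normal := Subgroup.normal_centralizer
    haveI : Group.IsNilpotent ↥C := by
      haveI := hCN z hz1
      have hle : C ≤ Subgroup.centralizer ({(z : G)} : Set G) := fun x hx =>
        Subgroup.mem_centralizer_singleton_iff.2 (Subgroup.mem_centralizer_iff.1 hx z z.2).symm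
      exact Group.nilpotent_of_mulEquiv (Subgroup.subgroupOfEquivOfLe hle)
    let Q' : Sylow q ↥C := Q.subtype hQC
    haveI : (Q' : Subgroup ↥C).Characteristic := Q'.characteristic_of_normal inferInstance
    have hQn : ((Q' : Subgroup ↥C).map C.subtype).Normal := inferInstance
    rw [show (Q' : Subgroup ↥C).map C.subtype = Q by
      rw [Sylow.coe_subtype, Subgroup.subgroupOf_map_subtype, inf_eq_left.2 hQC]] at hQn
    have heH : e ∈ H := hsyl q Q hQn (hQ (Subgroup.mem_zpowers e))
    exact he1 (Subgroup.mem_bot.1 (hHE ▸ ⟨heH, E.pow_mem he₀ _⟩))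
  have hEF : Cfsg.IsFrobeniusComplement E := by
    refine ⟨fun h => hHt ?_, fun h => hHb ?_, fun g hg => ?_⟩
    · have := hE.sup_eq_top; rwa [h, sup_bot_eq] at this
    · rwa [h, inf_top_eq] at hHE
    rw [eq_bot_iff]
    rintro x ⟨hxE, hxg⟩
    refine Subgroup.mem_bot.2 (by_contra fun hx1 => hg ?_)
    obtain ⟨h, hh, e, he, rfl⟩ := Subgroup.mem_sup_of_normal_left.1 (hE.sup_eq_top.ge (Subgroup.mem_top g))
    replace hxg := Subgroup.mem_pointwise_smul_iff_inv_smul_mem.1 hxg
    rw [← map_inv, MulAut.smul_def, MulAut.conj_apply, inv_inv] at hxg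
    set x' := h⁻¹ * x * h with hx'
    have hx'E : x' ∈ E := by
      have := E.mul_mem (E.mul_mem he hxg) (E.inv_mem he)
      simpa [hx', mul_assoc] using this
    have h1 : x' * x⁻¹ ∈ H ⊓ E := by
      refine ⟨?_, E.mul_mem hx'E (E.inv_mem hxE)⟩
      rw [hx', show h⁻¹ * x * h * x⁻¹ = h⁻¹ * (x * h * x⁻¹) by group]
      exact H.mul_mem (H.inv_mem hh) ((Cfsg.fittingHall_normal G).conj_mem h hh x)
    rw [hHE, Subgroup.mem_bot, mul_inv_eq_one, hx', mul_assoc, inv_mul_eq_iff_eq_mul] at h1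
    have h2 : h = 1 := Subgroup.mem_bot.1 (hfix x hxE hx1 ▸ ⟨hh, Subgroup.mem_centralizer_singleton_iff.2 h1.symm⟩)
    rw [h2, one_mul]
    exact he
  haveI : Group.IsNilpotent ↥E := CfsgLib.CN.isNilpotent_of_latFpf (CfsgLib.Frob.latFpf_of_complement hEF) fun b hb => by
    haveI := hCN (b : G) fun h => hb (Subtype.ext h)
    let f : ↥(Subgroup.centralizer ({b} : Set ↥E)) →* ↥(Subgroup.centralizer ({(b : G)} : Set G)) :=
      MonoidHom.codRestrict (E.subtype.comp (Subgroup.centralizer ({b} : Set ↥E)).subtype) _ fun x =>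
        Subgroup.mem_centralizer_singleton_iff.2 (congrArg Subtype.val (Subgroup.mem_centralizer_singleton_iff.1 x.2))
    have hf : Function.Injective f := fun x y h =>
      Subtype.ext (Subtype.ext (congrArg (fun w : ↥(Subgroup.centralizer ({(b : G)} : Set G)) => (w : G)) h))
    exact Group.nilpotent_of_mulEquiv (MonoidHom.ofInjective hf).symm
  exact ⟨hHb, hHt, ⟨E, hE, hEF, hfix⟩, Group.nilpotent_of_mulEquiv (Subgroup.IsComplement'.QuotientMulEquiv hE.symm).symm⟩

end Cfsg.Agent.S1474
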