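import Cfsg.Statements.S0126
import Cfsg.Agent.PGroup.Basic
import Cfsg.Agent.PGroup.DStar
import Cfsg.Agent.RankOneP.Basic
import Cfsg.Agent.PReduced.Hom
import Cfsg.Agent.CoprimeAction.Hyperplane

set_option autoImplicit false
open Cfsg

namespace Cfsg.Agent.S0126

/-- For odd p, every non-cyclic p-group contains a normal elementary abelian subgroup of order p^2. -/
theorem result {R : Type*} [Group R] [Finite R] {p : ℕ} [Fact p.Prime] (hp : p ≠ 2) (hR : IsPGroup p R) (hnc : ¬ IsCyclic R) : ∃ A : Subgroup R, A.Normal ∧ Cfsg.IsElementaryAbelian p A ∧ Nat.card A = p ^ 2 := by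
  classical
  have hp' : p.Prime := Fact.out
  have finish : ∀ z x : R, z ∈ Subgroup.center R → z ≠ 1 → z ^ p = 1 → x ^ p = 1 → x ∉ Subgroup.zpowers z →
      (∀ g : R, g * x * g⁻¹ * x⁻¹ ∈ Subgroup.zpowers z) →
      ∃ A : Subgroup R, A.Normal ∧ Cfsg.IsElementaryAbelian p A ∧ Nat.card A = p ^ 2 := by
    intro z x hzc hz1 hzp hxp hxz hconj
    let E : Subgroup R := Subgroup.closure {z, x}
    haveI hEc : IsMulCommutative E := Subgroup.isMulCommutative_closure (by
      rintro u (rfl | rfl) v (rfl | rfl)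
      all_goals first | rfl | exact Subgroup.mem_center_iff.1 hzc _ | exact (Subgroup.mem_center_iff.1 hzc _).symm)
    have hzE : z ∈ E := Subgroup.subset_closure (by simp)
    have hxE : x ∈ E := Subgroup.subset_closure (by simp)
    have hEeq : E = Subgroup.zpowers z ⊔ Subgroup.zpowers x := by
      refine le_antisymm ((Subgroup.closure_le _).2 ?_) (sup_le (Subgroup.zpowers_le.2 hzE) (Subgroup.zpowers_le.2 hxE))
      rintro u (rfl | rfl)
      · exact Subgroup.mem_sup_left (Subgroup.mem_zpowers _)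
      · exact Subgroup.mem_sup_right (Subgroup.mem_zpowers _)
    refine ⟨E, ⟨fun u hu g => ?_⟩, ⟨hEc, fun u hu => ?_⟩, ?_⟩
    · induction hu using Subgroup.closure_induction with
      | mem u hu =>
        rcases hu with rfl | rfl
        · rw [Subgroup.mem_center_iff.1 hzc g, mul_inv_cancel_right]; exact hzE
        · rw [show g * u * g⁻¹ = g * u * g⁻¹ * u⁻¹ * u by group]
          exact mul_mem ((Subgroup.zpowers_le.2 hzE) (hconj g)) hxE
      | one => simp
      | mul a b _ _ h1 h2 => rw [show g * (a * b) * g⁻¹ = g * a * g⁻¹ * (g * b * g⁻¹) by group]; exact mul_mem h1 h2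
      | inv a _ h1 => rw [show g * a⁻¹ * g⁻¹ = (g * a * g⁻¹)⁻¹ by group]; exact inv_mem h1
    · induction hu using Subgroup.closure_induction with
      | mem u hu => rcases hu with rfl | rfl <;> assumption
      | one => exact one_pow _
      | mul a b ha hb h1 h2 =>
        have hab : Commute a b := congrArg Subtype.val (mul_comm' (⟨a, ha⟩ : E) ⟨b, hb⟩)
        rw [hab.mul_pow, h1, h2, one_mul]
      | inv a _ h1 => rw [inv_pow, h1, inv_one]
    · have h := CfsgLib.CoprimeAction.relIndex_sup_zpowers (A := E) (Subgroup.zpowers_le.2 hzE) hxE hxp hxz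
      rw [← hEeq] at h
      have h2 := Subgroup.relIndex_mul_relIndex ⊥ (Subgroup.zpowers z) E bot_le (Subgroup.zpowers_le.2 hzE)
      rw [Subgroup.relIndex_bot_left, Subgroup.relIndex_bot_left, h, Nat.card_zpowers, orderOf_eq_prime hzp hz1] at h2
      rw [← h2, pow_two]
  obtain ⟨A, hAn, hAab, hAmax⟩ := CfsgLib.PGroup.exists_maximal_normal_abelian R
  haveI := hAn
  haveI := hAab
  have hCA := CfsgLib.PGroup.centralizer_maximal_normal_abelian hR hAab hAmax
  by_cases hcyc : IsCyclic A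
  swap
  · obtain ⟨q, u, v, hq, huA, hvA, huq, hvq, hu1, hvu⟩ := CfsgLib.CoprimeAction.exists_rank_two (A := A) hcyc
    have hqp : q = p := by
      obtain ⟨k, hk⟩ := IsPGroup.iff_orderOf.1 hR u
      haveI := Fact.mk hq
      rw [orderOf_eq_prime huq hu1] at hk
      exact (Nat.prime_dvd_prime_iff_eq hq hp').1 (hq.dvd_of_dvd_pow (dvd_of_eq hk))
    subst hqp
    let N : Subgroup R :=
      { carrier := {w | w ∈ A ∧ w ^ q = 1}
        one_mem' := ⟨A.one_mem, one_pow q⟩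
        mul_mem' := fun {a b} ha hb => ⟨A.mul_mem ha.1 hb.1, by
          have hc : Commute a b := congrArg Subtype.val (mul_comm' (⟨a, ha.1⟩ : A) ⟨b, hb.1⟩)
          rw [hc.mul_pow, ha.2, hb.2, one_mul]⟩
        inv_mem' := fun {a} ha => ⟨A.inv_mem ha.1, by rw [inv_pow, ha.2, inv_one]⟩ }
    haveI : N.Normal := ⟨fun w hw g => ⟨hAn.conj_mem w hw.1 g, by rw [conj_pow, hw.2, mul_one, mul_inv_cancel]⟩⟩
    have huN : u ∈ N := ⟨huA, huq⟩
    have hvN : v ∈ N := ⟨hvA, hvq⟩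
    obtain ⟨z, hzm, hz1⟩ : ∃ z ∈ N ⊓ Subgroup.center R, z ≠ 1 := by
      by_contra h
      push Not at h
      exact CfsgLib.PReduced.inf_center_ne_bot hR (fun e => hu1 (Subgroup.mem_bot.1 (e ▸ huN)))
        ((Subgroup.eq_bot_iff_forall (N ⊓ Subgroup.center R)).2 h)
    obtain ⟨hzN, hzc⟩ := Subgroup.mem_inf.1 hzm
    haveI : (Subgroup.zpowers z).Normal := ⟨fun w hw g => by
      rwa [Subgroup.mem_center_iff.1 (Subgroup.zpowers_le.2 hzc hw) g, mul_inv_cancel_right]⟩
    have hlt : Subgroup.zpowers z < N := by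
      refine lt_of_le_of_ne (Subgroup.zpowers_le.2 hzN) fun he => hvu ?_
      have hzu : Subgroup.zpowers u = Subgroup.zpowers z := by
        refine Subgroup.eq_of_le_of_card_ge (Subgroup.zpowers_le.2 (he.symm ▸ huN)) (le_of_eq ?_)
        rw [Nat.card_zpowers, Nat.card_zpowers, orderOf_eq_prime huq hu1, orderOf_eq_prime hzN.2 hz1]
      rw [hzu]
      exact he.symm ▸ hvN
    obtain ⟨w, hwN, hwz, hwg⟩ := CfsgLib.PGroup.exists_mem_central_mod hR hlt
    refine finish z w hzc hz1 hzN.2 hwN.2 hwz fun g => ?_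
    have h1 := inv_mem (hwg g)
    rw [commutatorElement_def] at h1
    simpa [mul_assoc] using h1
  -- cyclic `A`
  obtain ⟨⟨a, haA⟩, hgen⟩ := hcyc.exists_generator
  have hAz : ∀ w ∈ A, w ∈ Subgroup.zpowers a := by
    intro w hw
    obtain ⟨i, hi⟩ := Subgroup.mem_zpowers_iff.1 (hgen ⟨w, hw⟩)
    exact Subgroup.mem_zpowers_iff.2 ⟨i, congrArg Subtype.val hi⟩
  have hCa : ∀ w : R, w * a = a * w → w ∈ A := by
    intro w hw
    rw [← hCA, Subgroup.mem_centralizer_iff]
    intro y hy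
    obtain ⟨i, rfl⟩ := Subgroup.mem_zpowers_iff.1 (hAz y hy)
    exact ((show Commute w a from hw).zpow_right i).eq.symm
  obtain ⟨n, hn⟩ := IsPGroup.iff_orderOf.1 hR a
  -- an element of order `p` outside `A`
  obtain ⟨x, hxp, hxA⟩ : ∃ x : R, x ^ p = 1 ∧ x ∉ A := by
    by_contra h
    push Not at h
    apply hnc
    refine CfsgLib.RankOneP.isCyclic_of_odd hp hR fun u v hu hv hu1 => ?_
    haveI := hcyc
    have h1 : (⟨v, h v hv⟩ : A) ∈ Subgroup.zpowers (⟨u, h u hu⟩ : A) := by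
      by_cases hv1 : v = 1
      · subst hv1
        exact one_mem _
      · rw [CfsgLib.RankOneP.zpowers_eq_of_orderOf_eq (a := (⟨u, h u hu⟩ : A)) (b := ⟨v, h v hv⟩) (by
          rw [Subgroup.orderOf_mk, Subgroup.orderOf_mk, orderOf_eq_prime hu hu1, orderOf_eq_prime hv hv1])]
        exact Subgroup.mem_zpowers _
    obtain ⟨i, hi⟩ := Subgroup.mem_zpowers_iff.1 h1
    exact Subgroup.mem_zpowers_iff.2 ⟨i, congrArg Subtype.val hi⟩
  obtain ⟨r, hr⟩ : ∃ r : ℤ, x * a * x⁻¹ = a ^ r := by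
    obtain ⟨r, hr⟩ := Subgroup.mem_zpowers_iff.1 (hAz _ (hAn.conj_mem a haA x))
    exact ⟨r, hr.symm⟩
  have hrp : (p : ℤ) ^ n ∣ r ^ p - 1 := by
    have h1 := CfsgLib.RankOneP.conj_zpow_pow hr p 1
    rw [hxp, one_mul, inv_one, mul_one, mul_one] at h1
    have h2 : a ^ (r ^ p - 1) = 1 := by rw [zpow_sub, zpow_one, ← h1, zpow_one, mul_inv_cancel]
    rw [← orderOf_dvd_iff_zpow_eq_one, hn] at h2
    exact_mod_cast h2
  have hn2 : 2 ≤ n := by
    by_contra hlt
    apply hxA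
    refine hCa x (mul_inv_eq_iff_eq_mul.1 ?_)
    have h1 : (p : ℤ) ^ n ∣ r - 1 := by
      rcases (show n = 0 ∨ n = 1 by omega) with rfl | rfl
      · simp
      · rw [pow_one, ← ZMod.intCast_zmod_eq_zero_iff_dvd] at hrp ⊢
        push_cast at hrp ⊢
        rwa [ZMod.pow_card] at hrp
    have h2 : a ^ (r - 1) = 1 := by
      rw [← orderOf_dvd_iff_zpow_eq_one, hn]; exact_mod_cast h1
    rw [zpow_sub, zpow_one, mul_inv_eq_one] at h2
    rw [hr, h2]
  obtain ⟨w, hw⟩ := CfsgLib.RankOneP.odd_prime_key hp' hp hn2 hrp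
  obtain ⟨m, rfl⟩ : ∃ m, n = m + 1 := ⟨n - 1, by omega⟩
  set z := a ^ (p ^ m) with hz
  have hzord : orderOf z = p := by
    rw [hz, orderOf_pow' a (pow_ne_zero _ hp'.ne_zero), hn, Nat.gcd_eq_right (pow_dvd_pow p (Nat.le_succ m)),
      pow_succ, Nat.mul_div_cancel_left _ (pow_pos hp'.pos m)]
  have hz1 : z ≠ 1 := fun e => hp'.one_lt.ne (by rw [← hzord, e, orderOf_one])
  have hzp : z ^ p = 1 := by rw [← hzord]; exact pow_orderOf_eq_one z
  have hsmall : ∀ i : ℤ, (a ^ i) ^ p = 1 → a ^ i ∈ Subgroup.zpowers z := by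
    intro i hi
    rw [← zpow_natCast, ← zpow_mul, ← orderOf_dvd_iff_zpow_eq_one, hn] at hi
    push_cast at hi
    rw [pow_succ] at hi
    obtain ⟨c, hc⟩ := Int.dvd_of_mul_dvd_mul_right (by exact_mod_cast hp'.ne_zero) hi
    refine Subgroup.mem_zpowers_iff.2 ⟨c, ?_⟩
    rw [hz, ← zpow_natCast, ← zpow_mul, hc]
    push_cast
    rfl
  have hzA : z ∈ A := A.pow_mem haA _
  have hzR : ∀ g : R, g * z * g⁻¹ ∈ Subgroup.zpowers z := fun g => by
    obtain ⟨i, hi⟩ := Subgroup.mem_zpowers_iff.1 (hAz _ (hAn.conj_mem z hzA g))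
    rw [← hi]
    exact hsmall i (by rw [hi, conj_pow, hzp, mul_one, mul_inv_cancel])
  haveI hZn : (Subgroup.zpowers z).Normal := ⟨fun u hu g => by
    obtain ⟨i, rfl⟩ := Subgroup.mem_zpowers_iff.1 hu
    rw [← conj_zpow]
    exact zpow_mem (hzR g) i⟩
  have hzc : z ∈ Subgroup.center R := by
    have hne := CfsgLib.PReduced.inf_center_ne_bot hR (N := Subgroup.zpowers z) (by simpa using hz1)
    have hle : Subgroup.zpowers z ⊓ Subgroup.center R = Subgroup.zpowers z := by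
      refine Subgroup.eq_of_le_of_card_ge inf_le_left ?_
      have hd := Subgroup.card_dvd_of_le (inf_le_left : Subgroup.zpowers z ⊓ Subgroup.center R ≤ Subgroup.zpowers z)
      rw [Nat.card_zpowers, hzord, Nat.dvd_prime hp'] at hd
      rw [Nat.card_zpowers, hzord]
      rcases hd with h | h
      · exact absurd (Subgroup.card_eq_one.1 h) hne
      · rw [h]
    exact (inf_eq_left.1 hle) (Subgroup.mem_zpowers z)
  refine finish z x hzc hz1 hzp hxp (fun h => hxA ((Subgroup.zpowers_le.2 hzA) h)) fun g => ?_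
  -- the conjugate acts as the same power
  set y := g * x * g⁻¹ with hy
  have hya : y * a * y⁻¹ = a ^ r := by
    obtain ⟨j, hj⟩ := Subgroup.mem_zpowers_iff.1 (hAz _ (hAn.conj_mem a haA g⁻¹))
    rw [inv_inv] at hj
    have hj' : g * a ^ j * g⁻¹ = a := by rw [hj]; group
    calc y * a * y⁻¹ = g * (x * (g⁻¹ * a * g) * x⁻¹) * g⁻¹ := by rw [hy]; group
      _ = g * (x * a * x⁻¹) ^ j * g⁻¹ := by rw [← hj, conj_zpow]
      _ = g * (a ^ j) ^ r * g⁻¹ := by rw [hr, ← zpow_mul, ← zpow_mul, mul_comm r j]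
      _ = (g * a ^ j * g⁻¹) ^ r := by rw [conj_zpow]
      _ = a ^ r := by rw [hj']
  have hsame : ∀ u : R, u ∈ A → y * u * y⁻¹ = x * u * x⁻¹ := fun u hu => by
    obtain ⟨i, rfl⟩ := Subgroup.mem_zpowers_iff.1 (hAz u hu)
    rw [← conj_zpow, ← conj_zpow, hya, hr]
  have hmem : y * x⁻¹ ∈ A := hCa _ (by
    have hu : x⁻¹ * a * x ∈ A := by
      have := hAn.conj_mem a haA x⁻¹
      rwa [inv_inv] at this
    calc y * x⁻¹ * a = y * (x⁻¹ * a * x) * y⁻¹ * y * x⁻¹ := by group
      _ = x * (x⁻¹ * a * x) * x⁻¹ * y * x⁻¹ := by rw [hsame _ hu]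
      _ = a * (y * x⁻¹) := by group)
  obtain ⟨i, hi⟩ := Subgroup.mem_zpowers_iff.1 (hAz _ hmem)
  rw [← hi]
  refine hsmall i ?_
  have hxy : y = a ^ i * x := by rw [hi]; group
  have hyp : y ^ p = 1 := by rw [hy, conj_pow, hxp, mul_one, mul_inv_cancel]
  rw [hxy, CfsgLib.RankOneP.mul_pow_formula hr, hw, hxp, mul_one, mul_add, zpow_add] at hyp
  have h0 : a ^ (i * ((p : ℤ) ^ (m + 1) * w)) = 1 := by
    rw [← orderOf_dvd_iff_zpow_eq_one, hn]
    push_cast
    exact Dvd.dvd.mul_left (dvd_mul_right _ _) _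
  rw [h0, mul_one] at hyp
  rwa [← zpow_natCast, ← zpow_mul]

end Cfsg.Agent.S0126
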