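import Cfsg.Statements.S0519
import Cfsg.Agent.RankOneP.Basic
import Cfsg.Agent.QDWr.Recognition
import Cfsg.Agent.PLocalBasics.CyclicIndex
import Cfsg.Agent.S0126

set_option autoImplicit false
open Cfsg

namespace Cfsg.Agent.S0519

open Subgroup in
/-- Two commuting involutions generating a normal subgroup contradict cyclicity. -/
theorem four_false {P : Type*} [Group P] [Finite P] (hn : ∀ A : Subgroup P, A.Normal → IsMulCommutative A → IsCyclic A)
    {z w : P} (hz : z ^ 2 = 1) (hw : w ^ 2 = 1) (hz1 : z ≠ 1) (hw1 : w ≠ 1) (hzw : z ≠ w) (hc : z * w = w * z)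
    (hN : ∀ g : P, g * z * g⁻¹ ∈ Subgroup.closure {z, w} ∧ g * w * g⁻¹ ∈ Subgroup.closure {z, w}) : False := by
  classical
  haveI : Fact (Nat.Prime 2) := ⟨Nat.prime_two⟩
  set E := Subgroup.closure ({z, w} : Set P) with hE
  have hEn : E.Normal := by
    refine ⟨fun x hx g => ?_⟩
    have : E.map (MulAut.conj g).toMonoidHom ≤ E := by
      rw [hE, MonoidHom.map_closure, Subgroup.closure_le]
      rintro _ ⟨y, hy, rfl⟩
      rcases hy with rfl | rfl
      · exact (hN g).1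
      · exact (hN g).2
    exact this ⟨x, hx, rfl⟩
  have hEc : IsMulCommutative E := by
    apply Subgroup.isMulCommutative_closure
    rintro x (rfl | rfl) y (rfl | rfl)
    · rfl
    · exact hc
    · exact hc.symm
    · rfl
  haveI := hn E hEn hEc
  have hzE : z ∈ E := Subgroup.subset_closure (Or.inl rfl)
  have hwE : w ∈ E := Subgroup.subset_closure (Or.inr rfl)
  have h := CfsgLib.RankOneP.zpowers_eq_of_orderOf_eq (G := E) (a := ⟨z, hzE⟩) (b := ⟨w, hwE⟩) (by
    rw [Subgroup.orderOf_mk, Subgroup.orderOf_mk, orderOf_eq_prime hz hz1, orderOf_eq_prime hw hw1])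
  have hm : (⟨w, hwE⟩ : E) ∈ Subgroup.zpowers (⟨z, hzE⟩ : E) := h ▸ Subgroup.mem_zpowers _
  obtain ⟨k, hk⟩ := Subgroup.mem_zpowers_iff.1 hm
  have hk' : z ^ k = w := congrArg Subtype.val hk
  rcases Int.even_or_odd k with ⟨l, rfl⟩ | ⟨l, rfl⟩
  · rw [← two_mul, zpow_mul, zpow_two, ← pow_two, hz, one_zpow] at hk'
    exact hw1 hk'.symm
  · rw [zpow_add, zpow_mul, zpow_two, ← pow_two, hz, one_zpow, one_mul, zpow_one] at hk'
    exact hzw hk'

/-- No element outside a self-centralizing cyclic normal subgroup `⟨a⟩` maps `a` to a power `r ≡ 1 (mod 4)`. -/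
theorem no_one_mod_four {P : Type*} [Group P] [Finite P] (hP : IsPGroup 2 P)
    (hn : ∀ A : Subgroup P, A.Normal → IsMulCommutative A → IsCyclic A)
    {a : P} {m : ℕ} (ha : orderOf a = 2 ^ m) (hA : (Subgroup.zpowers a).Normal)
    (hC : Subgroup.centralizer (Subgroup.zpowers a : Set P) = Subgroup.zpowers a)
    {y : P} (hy : y ∉ Subgroup.zpowers a) {r : ℤ} (hr : y * a * y⁻¹ = a ^ r) (h4 : (4 : ℤ) ∣ r - 1) : False := by
  classical
  have hzero : ∀ z : ℤ, a ^ z = 1 ↔ (2 : ℤ) ^ m ∣ z := fun z => by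
    rw [← orderOf_dvd_iff_zpow_eq_one, ha]; norm_num
  have hnc : ∀ v, v ∉ Subgroup.zpowers a → v * a * v⁻¹ ≠ a := by
    intro v hv h
    apply hv
    rw [← hC, Subgroup.mem_centralizer_iff]
    rintro _ ⟨k, rfl⟩
    exact ((show Commute v a from mul_inv_eq_iff_eq_mul.1 h).zpow_right k).eq.symm
  -- reduce to `y ^ 2 ∈ ⟨a⟩`
  suffices H : ∀ v, v ∉ Subgroup.zpowers a → v ^ 2 ∈ Subgroup.zpowers a →
      ∀ s : ℤ, v * a * v⁻¹ = a ^ s → (4 : ℤ) ∣ s - 1 → False by
    obtain ⟨k, hk⟩ := hP y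
    induction k generalizing y r with
    | zero => rw [pow_zero, pow_one] at hk; exact hy (hk ▸ Subgroup.one_mem _)
    | succ k ih =>
      by_cases h : y ^ 2 ∈ Subgroup.zpowers a
      · exact H y hy h r hr h4
      · refine ih (y := y ^ 2) (r := r ^ 2) h ?_ ?_ (by rw [← pow_mul, ← pow_succ']; exact hk)
        · have := CfsgLib.RankOneP.conj_zpow_pow hr 2 1
          rwa [zpow_one, mul_one] at this
        · exact h4.trans ⟨r + 1, by ring⟩
  intro v hv hv2 s hs hs4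
  obtain ⟨j, hj⟩ := hv2
  have hj' : a ^ j = v ^ 2 := hj
  have hs2 : (2 : ℤ) ^ m ∣ (s - 1) * (s + 1) := by
    have h1 := CfsgLib.RankOneP.conj_zpow_pow hs 2 1
    rw [zpow_one, ← hj', mul_inv_eq_iff_eq_mul.2 ((Commute.refl a).zpow_left j).eq, mul_one] at h1
    rw [← hzero, show (s - 1) * (s + 1) = s ^ 2 - 1 from by ring, zpow_sub, ← h1, zpow_one, mul_inv_cancel]
  have hjs : (2 : ℤ) ^ m ∣ (s - 1) * j := by
    have hcomm : Commute v (a ^ j) := by rw [hj']; exact (Commute.refl v).pow_right 2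
    have h1 : a ^ (s * j) = a ^ j := by
      rw [zpow_mul, ← hs, conj_zpow, mul_inv_eq_iff_eq_mul]
      exact hcomm.eq
    rw [← hzero, sub_mul, one_mul, zpow_sub, h1, mul_inv_cancel]
  obtain ⟨u, hu⟩ := hs4
  have hs' : s = 4 * u + 1 := by omega
  subst hs'
  have h2 : Prime (2 : ℤ) := Int.prime_two
  have hns : ¬ (2 : ℤ) ^ m ∣ 4 * u := fun hd => hnc v hv (by
    rw [hs, zpow_add, (hzero _).2 hd, one_mul, zpow_one])
  obtain ⟨l, rfl⟩ : ∃ l, m = l + 3 := by
    refine ⟨m - 3, ?_⟩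
    by_contra hm
    exact hns (dvd_trans (pow_dvd_pow (2 : ℤ) (show m ≤ 2 by omega)) ⟨u, by norm_num⟩)
  -- `4u = 2^(l+2) t` with `t` odd
  have hu1 : (2 : ℤ) ^ l ∣ u := by
    have e : (4 * u + 1 - 1) * (4 * u + 1 + 1) = (2 : ℤ) ^ 3 * (u * (2 * u + 1)) := by ring
    rw [e, add_comm l 3, pow_add, mul_dvd_mul_iff_left (by norm_num)] at hs2
    exact h2.pow_dvd_of_dvd_mul_right l (fun h => by omega) hs2
  obtain ⟨t, rfl⟩ := hu1
  have ht : ¬ (2 : ℤ) ∣ t := by
    rintro ⟨t', rfl⟩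
    exact hns ⟨t', by ring⟩
  have hjeven : (2 : ℤ) ∣ j := by
    have e : (4 * (2 ^ l * t) + 1 - 1) * j = (2 : ℤ) ^ (l + 2) * (t * j) := by ring
    rw [e, pow_succ _ (l + 2), mul_dvd_mul_iff_left (by positivity)] at hjs
    exact (h2.dvd_or_dvd hjs).resolve_left ht
  obtain ⟨j0, rfl⟩ := hjeven
  set c : ℤ := 1 + 2 ^ (l + 1) * t with hc
  have hcodd : ¬ (2 : ℤ) ∣ c := fun hd => by
    have h3 : (2 : ℤ) ∣ 2 ^ (l + 1) * t := Dvd.dvd.mul_right (dvd_pow_self 2 (by omega)) t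
    have := dvd_sub hd h3
    rw [hc] at this
    norm_num at this
  have hsum : ∀ i : ℤ, (a ^ i * v) ^ 2 = a ^ (2 * (i * c + j0)) := by
    intro i
    rw [CfsgLib.RankOneP.mul_pow_formula hs, ← hj', ← zpow_add, Finset.sum_range_succ, Finset.sum_range_one]
    congr 1
    rw [hc]; ring
  have hsq : ∀ i : ℤ, (a ^ i * v) ^ 2 = 1 ↔ (2 : ℤ) ^ (l + 2) ∣ i * c + j0 := by
    intro i
    rw [hsum, hzero, pow_succ' _ (l + 2), mul_dvd_mul_iff_left (two_ne_zero)]
  obtain ⟨p', q', hpq⟩ : IsCoprime c ((2 : ℤ) ^ (l + 2)) :=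
    ((h2.coprime_iff_not_dvd.2 hcodd).symm).pow_right
  set i0 : ℤ := -j0 * p' with hi0
  set w := a ^ i0 * v with hw
  set z := a ^ ((2 : ℤ) ^ (l + 2)) with hz
  have hw2 : w ^ 2 = 1 := (hsq i0).2 ⟨j0 * q', by rw [hi0]; linear_combination (-j0) * hpq⟩
  have hz2 : z ^ 2 = 1 := by
    rw [hz, ← zpow_natCast, ← zpow_mul, hzero]
    exact ⟨1, by push_cast; ring⟩
  have hz1 : z ≠ 1 := fun h => by
    rw [hz, hzero, pow_dvd_pow_iff two_ne_zero (by decide)] at h
    omega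
  have hzA : z ∈ Subgroup.zpowers a := ⟨_, rfl⟩
  have hwA : w ∉ Subgroup.zpowers a := fun h => hv (by
    simpa [hw] using Subgroup.mul_mem _ (Subgroup.inv_mem _ (⟨i0, rfl⟩ : a ^ i0 ∈ Subgroup.zpowers a)) h)
  have hzk : ∀ k : ℤ, a ^ ((2 : ℤ) ^ (l + 2) * k) = z ^ k := fun k => by rw [zpow_mul]
  have hzw : z * w = w * z := by
    have h1 : v * z * v⁻¹ = z := by
      rw [hz, ← conj_zpow, hs, ← zpow_mul, ← mul_inv_eq_one, ← zpow_sub, hzero]
      exact ⟨2 ^ (l + 1) * t, by ring⟩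
    have hc1 : Commute v z := mul_inv_eq_iff_eq_mul.1 h1
    exact (Commute.mul_right ((Commute.refl a).zpow_zpow _ _) hc1.symm).eq
  have hzE : z ∈ Subgroup.closure ({z, w} : Set P) := Subgroup.subset_closure (Or.inl rfl)
  have hwE : w ∈ Subgroup.closure ({z, w} : Set P) := Subgroup.subset_closure (Or.inr rfl)
  refine four_false hn hz2 hw2 hz1 (fun h => hwA (by rw [h]; exact Subgroup.one_mem _))
    (fun h => hwA (h ▸ hzA)) hzw fun g => ⟨?_, ?_⟩
  · obtain ⟨rg, hrg⟩ := CfsgLib.RankOneP.exists_conj_zpow hA g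
    have : g * z * g⁻¹ = z ^ rg := by
      rw [hz, ← conj_zpow, hrg, ← zpow_mul, ← zpow_mul, mul_comm]
    rw [this]
    exact Subgroup.zpow_mem _ hzE rg
  · obtain ⟨rg, hrg⟩ := CfsgLib.RankOneP.exists_conj_zpow hA g
    obtain ⟨rg', hrg'⟩ := CfsgLib.RankOneP.exists_conj_zpow hA g⁻¹
    rw [inv_inv] at hrg'
    have hcommA : g * v * g⁻¹ * v⁻¹ ∈ Subgroup.centralizer (Subgroup.zpowers a : Set P) := by
      have hact : ∀ (x : P) (e : ℤ), x * a * x⁻¹ = a ^ e → ∀ k : ℤ, x * a ^ k * x⁻¹ = a ^ (e * k) :=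
        fun x e he k => by rw [zpow_mul, ← he, conj_zpow]
      have hvinv : ∀ k : ℤ, v⁻¹ * a ^ k * v = a ^ ((4 * (2 ^ l * t) + 1) * k) := by
        intro k
        have h1 := hact v _ hs ((4 * (2 ^ l * t) + 1) * k)
        have e : a ^ ((4 * (2 ^ l * t) + 1) * ((4 * (2 ^ l * t) + 1) * k)) = a ^ k := by
          rw [← mul_inv_eq_one, ← zpow_sub, hzero]
          exact ⟨t * (2 ^ (l + 1) * t + 1) * k, by ring⟩
        rw [e] at h1
        rw [← h1]; group
      rw [Subgroup.mem_centralizer_iff]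
      rintro _ ⟨k, rfl⟩
      have step : g * v * g⁻¹ * v⁻¹ * a ^ k * (g * v * g⁻¹ * v⁻¹)⁻¹ = a ^ k := by
        have h0 : g⁻¹ * a * g = a ^ rg' := hrg'
        have hg' : ∀ k : ℤ, g⁻¹ * a ^ k * g = a ^ (rg' * k) := fun k => by
          rw [zpow_mul, ← h0]
          simpa using (conj_zpow (a := g⁻¹) (b := a) (i := k)).symm
        have hgg : a ^ (rg * rg') = a := by
          rw [zpow_mul, ← hrg, conj_zpow, ← h0]; group
        calc g * v * g⁻¹ * v⁻¹ * a ^ k * (g * v * g⁻¹ * v⁻¹)⁻¹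
            = g * (v * (g⁻¹ * (v⁻¹ * a ^ k * v) * g) * v⁻¹) * g⁻¹ := by group
          _ = a ^ k := by
            rw [hvinv, hg', hact v _ hs, hact g _ hrg]
            have e : a ^ ((4 * (2 ^ l * t) + 1) * ((4 * (2 ^ l * t) + 1) * k)) = a ^ k := by
              rw [← mul_inv_eq_one, ← zpow_sub, hzero]
              exact ⟨t * (2 ^ (l + 1) * t + 1) * k, by ring⟩
            calc a ^ (rg * ((4 * (2 ^ l * t) + 1) * (rg' * ((4 * (2 ^ l * t) + 1) * k))))
                = a ^ ((rg * rg') * ((4 * (2 ^ l * t) + 1) * ((4 * (2 ^ l * t) + 1) * k))) := by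
                  congr 1; ring
              _ = a ^ k := by rw [zpow_mul, hgg, e]
      exact ((mul_inv_eq_iff_eq_mul.1 step)).symm
    rw [hC] at hcommA
    obtain ⟨d, hd⟩ := hcommA
    have hd' : a ^ d = g * v * g⁻¹ * v⁻¹ := hd
    have hconj : g * w * g⁻¹ = a ^ (rg * i0 + d) * v := by
      rw [zpow_add, hd', zpow_mul, ← hrg, conj_zpow, hw]; group
    have h1 : (a ^ (rg * i0 + d) * v) ^ 2 = 1 := by rw [← hconj, conj_pow, hw2, mul_one, mul_inv_cancel]
    have h2 := (hsq _).1 h1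
    have h0 := (hsq i0).1 hw2
    have h3 : (2 : ℤ) ^ (l + 2) ∣ (rg * i0 + d - i0) * c := by
      have := dvd_sub h2 h0
      have e : (rg * i0 + d) * c + j0 - (i0 * c + j0) = (rg * i0 + d - i0) * c := by ring
      rwa [e] at this
    obtain ⟨k, hk⟩ := Prime.pow_dvd_of_dvd_mul_right (Int.prime_two) (l + 2) hcodd h3
    have : g * w * g⁻¹ = z ^ k * w := by
      rw [hconj, ← hzk, ← hk, hw, ← mul_assoc (a ^ _), ← zpow_add]
      congr 2; ring
    rw [this]
    exact Subgroup.mul_mem _ (Subgroup.zpow_mem _ hzE k) hwE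

/-- Let P be a finite p-group in which every abelian normal subgroup is cyclic, but which has a non-cyclic abelian
subgroup. Then p = 2 and P is generalized quaternion, dihedral of order at least 16, or quasi-dihedral. -/
theorem result {P : Type*} [Group P] [Finite P] (p : ℕ) [Fact p.Prime]
    (hP : IsPGroup p P) (hn : ∀ A : Subgroup P, A.Normal → IsMulCommutative A → IsCyclic A)
    (hm : ∃ B : Subgroup P, IsMulCommutative B ∧ ¬ IsCyclic B) :
    p = 2 ∧ ((∃ n : ℕ, Nonempty (P ≃* QuaternionGroup n)) ∨ (∃ n : ℕ, 8 ≤ n ∧ Nonempty (P ≃* DihedralGroup n)) ∨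
      Cfsg.IsQuasiDihedral P) := by
  classical
  have hpp : p.Prime := Fact.out
  obtain ⟨B, hB, hBnc⟩ := hm
  have hPnc : ¬ IsCyclic P := fun h => hBnc (Subgroup.isCyclic B)
  have hp2 : p = 2 := by
    by_contra hne
    obtain ⟨A, hAn, hAe, hAc⟩ := Cfsg.Agent.S0126.result hne hP hPnc
    haveI := hn A hAn hAe.1
    haveI : Nontrivial A := Finite.one_lt_card_iff_nontrivial.1 (by rw [hAc]; exact Nat.one_lt_pow (by norm_num) hpp.one_lt)
    obtain ⟨g, hg⟩ := IsCyclic.exists_ofOrder_eq_natCard (α := A)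
    have h1 : g ^ p = 1 := Subtype.ext (by rw [SubgroupClass.coe_pow]; exact hAe.2 g g.2)
    have := Nat.le_of_dvd hpp.pos (orderOf_dvd_of_pow_eq_one h1)
    rw [hg, hAc] at this
    have h2 := hpp.two_le
    nlinarith [h2, this]
  subst hp2
  refine ⟨rfl, ?_⟩
  have hna : ∃ x y : P, x * y ≠ y * x := by
    by_contra hcon
    push Not at hcon
    have hall : IsMulCommutative (⊤ : Subgroup P) := ⟨⟨fun a b => Subtype.ext (hcon a b)⟩⟩
    haveI := hn ⊤ inferInstance hall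
    exact hPnc (Subgroup.topEquiv.isCyclic.1 inferInstance)
  obtain ⟨A, ⟨hAn, hAab⟩, hAmax⟩ := Set.Finite.exists_maximal
    (s := {A : Subgroup P | A.Normal ∧ IsMulCommutative A}) (Set.toFinite _) ⟨⊥, inferInstance, inferInstance⟩
  have hCA := CfsgLib.RankOneP.centralizer_eq_of_maximal hP hAn hAab
    (fun B h1 h2 h3 => le_antisymm (hAmax ⟨h1, h2⟩ h3) h3)
  haveI hAcyc := hn A hAn hAab
  obtain ⟨⟨a, haA⟩, hga⟩ := IsCyclic.exists_zpow_surjective (G := A)
  have hAz : A = Subgroup.zpowers a := by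
    refine le_antisymm (fun x hx => ?_) (Subgroup.zpowers_le.2 haA)
    obtain ⟨k, hk⟩ := hga ⟨x, hx⟩
    exact ⟨k, congrArg Subtype.val hk⟩
  subst hAz
  obtain ⟨m, hm'⟩ := IsPGroup.iff_orderOf.1 hP a
  have htop : Subgroup.zpowers a ≠ ⊤ := fun h => hPnc ⟨a, fun x => (h ▸ Subgroup.mem_top x : x ∈ Subgroup.zpowers a)⟩
  have hodd : ∀ y, ∀ r : ℤ, y * a * y⁻¹ = a ^ r → 1 ≤ m → ¬ (2 : ℤ) ∣ r := by
    intro y r hr hm1 hd
    obtain ⟨k, hk⟩ := hP y
    have h1 := CfsgLib.RankOneP.conj_zpow_pow hr (2 ^ k) 1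
    rw [hk, zpow_one, one_mul, inv_one, mul_one, mul_one] at h1
    have h2 : (2 : ℤ) ^ m ∣ r ^ (2 ^ k) - 1 := by
      have : a ^ (r ^ (2 ^ k) - 1) = 1 := by rw [zpow_sub, ← h1, zpow_one, mul_inv_cancel]
      rw [← orderOf_dvd_iff_zpow_eq_one, hm'] at this
      exact_mod_cast this
    have h3 : (2 : ℤ) ∣ r ^ (2 ^ k) - 1 := (dvd_pow_self 2 (by omega)).trans h2
    have h4 : (2 : ℤ) ∣ r ^ (2 ^ k) := hd.trans (dvd_pow_self r (by positivity))
    exact Int.prime_two.not_dvd_one (by simpa using dvd_sub h4 h3)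
  have hm1 : 1 ≤ m := by
    by_contra h0
    apply htop
    rw [← hCA]
    have : a = 1 := orderOf_eq_one_iff.1 (by rw [hm', show m = 0 by omega, pow_zero])
    subst this
    simp [Subgroup.eq_top_iff', Subgroup.mem_centralizer_iff, Subgroup.zpowers_one_eq_bot]
  obtain ⟨y0, hy0⟩ := not_forall.1 fun h => htop ((Subgroup.eq_top_iff' _).2 h)
  have hidx : (Subgroup.zpowers a).index = 2 := by
    rw [Subgroup.index_eq_two_iff]
    refine ⟨y0, fun b => ?_⟩
    by_cases hb : b ∈ Subgroup.zpowers a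
    · exact Or.inr ⟨hb, fun h => hy0 (by simpa using Subgroup.mul_mem _ (Subgroup.inv_mem _ hb) h)⟩
    · refine Or.inl ⟨?_, hb⟩
      by_contra hby
      obtain ⟨r, hr⟩ := CfsgLib.RankOneP.exists_conj_zpow hAn b
      obtain ⟨r0, hr0⟩ := CfsgLib.RankOneP.exists_conj_zpow hAn y0
      have h3 : (4 : ℤ) ∣ r + 1 := by
        have h1 := hodd b r hr hm1
        have h2 : ¬ (4 : ℤ) ∣ r - 1 := fun h => no_one_mod_four hP hn hm' hAn hCA hb hr h
        omega
      have h30 : (4 : ℤ) ∣ r0 + 1 := by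
        have h1 := hodd y0 r0 hr0 hm1
        have h2 : ¬ (4 : ℤ) ∣ r0 - 1 := fun h => no_one_mod_four hP hn hm' hAn hCA hy0 hr0 h
        omega
      refine no_one_mod_four hP hn hm' hAn hCA hby (r := r * r0) ?_ ?_
      · calc b * y0 * a * (b * y0)⁻¹ = b * (y0 * a * y0⁻¹) * b⁻¹ := by group
          _ = a ^ (r * r0) := by rw [hr0, ← conj_zpow, hr, ← zpow_mul]
      · have := dvd_sub (h3.mul_right r0) h30
        have e : (r + 1) * r0 - (r0 + 1) = r * r0 - 1 := by ring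
        rwa [e] at this
  obtain ⟨n, hcard⟩ := IsPGroup.iff_card.1 hP
  have hn3 : 3 ≤ n := by
    by_contra h
    obtain ⟨x, y, hxy⟩ := hna
    apply hxy
    rcases Nat.lt_or_ge n 2 with h2 | h2
    · haveI : IsCyclic P := by
        rcases Nat.eq_zero_or_pos n with rfl | h1
        · haveI := (Nat.card_eq_one_iff_unique.1 (by simpa using hcard)).1
          infer_instance
        · exact isCyclic_of_prime_card (p := 2) (by rw [hcard, show n = 1 by omega]; norm_num)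
      exact (IsCyclic.commutative (α := P)).is_comm.comm x y
    · exact (IsPGroup.isMulCommutative_of_card_eq_prime_sq (p := 2) (by rw [hcard, show n = 2 by omega])).is_comm.comm x y
  obtain ⟨a', b, hao, hb, hcases⟩ :=
    CfsgLib.PLocalBasics.two_case n hn3 hcard (Subgroup.zpowers a) inferInstance hidx hna
  have hb2c : (Subgroup.zpowers a').index = 2 := by
    have h := Subgroup.card_mul_index (Subgroup.zpowers a')
    rw [Nat.card_zpowers, hao, hcard] at h
    exact Nat.eq_of_mul_eq_mul_left (pow_pos two_pos (n - 1)) (h.trans (by rw [← pow_succ]; congr 1; omega))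
  have hAn' : (Subgroup.zpowers a').Normal := Subgroup.normal_of_index_eq_two hb2c
  have hdec : ∀ g : P, g ∈ Subgroup.zpowers a' ∨ g * b ∈ Subgroup.zpowers a' := fun g => by
    by_cases hg : g ∈ Subgroup.zpowers a'
    · exact Or.inl hg
    · exact Or.inr ((Subgroup.mul_mem_iff_of_index_two hb2c).2 (iff_of_false hg hb))
  have hgen : Subgroup.zpowers a' ⊔ Subgroup.zpowers b = ⊤ := by
    refine top_le_iff.1 fun g _ => ?_
    rcases hdec g with h | h
    · exact Subgroup.mem_sup_left h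
    · simpa using Subgroup.mul_mem _ (Subgroup.mem_sup_left h)
        (Subgroup.inv_mem _ (Subgroup.mem_sup_right (Subgroup.mem_zpowers b) :
          b ∈ Subgroup.zpowers a' ⊔ Subgroup.zpowers b))
  have hne : NeZero (2 ^ (n - 1)) := ⟨by positivity⟩
  rcases hcases with ⟨hb2, hba⟩ | ⟨hb2, hba⟩ | ⟨hn4, hb2, hba⟩ | ⟨hn4, hb2, hba⟩
  · -- dihedral
    refine Or.inr (Or.inl ⟨2 ^ (n - 1), ?_, CfsgLib.QDWr.nonempty_mulEquiv_dihedral hao hba hb2 hb hgen⟩)
    by_contra h8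
    have hn' : n = 3 := by
      by_contra hne3
      exact h8 (le_trans (by norm_num) (Nat.pow_le_pow_right two_pos (show 3 ≤ n - 1 by omega)))
    subst hn'
    have hao4 : orderOf a' = 4 := hao
    have hb1 : b ≠ 1 := fun h => hb (h ▸ Subgroup.one_mem _)
    have hz : (a' ^ 2) ^ 2 = 1 := by
      rw [← pow_mul, show 2 * 2 = orderOf a' by rw [hao4], pow_orderOf_eq_one]
    have hz1 : a' ^ 2 ≠ 1 := fun h => by
      have := Nat.le_of_dvd two_pos (orderOf_dvd_of_pow_eq_one h); omega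
    have hai : (a' ^ 2)⁻¹ = a' ^ 2 := inv_eq_of_mul_eq_one_right (by rw [← pow_two]; exact hz)
    have hbz : b * a' ^ 2 * b⁻¹ = a' ^ 2 := by rw [← conj_pow, hba, inv_pow, hai]
    refine four_false hn hz hb2 hz1 hb1 (fun h => hb (h ▸ Subgroup.pow_mem _ (Subgroup.mem_zpowers a') 2))
      (mul_inv_eq_iff_eq_mul.1 hbz).symm fun g => ?_
    have hbS : b ∈ Subgroup.closure ({a' ^ 2, b} : Set P) := Subgroup.subset_closure (Or.inr rfl)
    have hzS : a' ^ 2 ∈ Subgroup.closure ({a' ^ 2, b} : Set P) := Subgroup.subset_closure (Or.inl rfl)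
    have hA : ∀ i : ℤ, a' ^ i * a' ^ 2 * (a' ^ i)⁻¹ = a' ^ 2 ∧
        a' ^ i * b * (a' ^ i)⁻¹ = (a' ^ 2) ^ i * b := fun i => by
      refine ⟨by rw [((Commute.refl a').zpow_left i).pow_right 2 |>.eq, mul_inv_cancel_right], ?_⟩
      have h1 : b * (a' ^ i)⁻¹ = a' ^ i * b := by
        rw [← mul_inv_eq_iff_eq_mul, ← zpow_neg, ← conj_zpow, hba, inv_zpow, zpow_neg, inv_inv]
      rw [mul_assoc, h1, ← mul_assoc, ← zpow_add, ← zpow_natCast a' 2, ← zpow_mul]
      congr 2; push_cast; ring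
    rcases hdec g with ⟨i, hi⟩ | ⟨i, hi⟩
    · have hi' : a' ^ i = g := hi
      rw [← hi', (hA i).1, (hA i).2]
      exact ⟨hzS, Subgroup.mul_mem _ (Subgroup.zpow_mem _ hzS i) hbS⟩
    · have hi' : g = a' ^ i * b⁻¹ := eq_mul_inv_of_mul_eq (show g * b = a' ^ i from hi.symm)
      have e1 : g * a' ^ 2 * g⁻¹ = a' ^ 2 := by
        have hbi : b⁻¹ * a' ^ 2 * b = a' ^ 2 := by
          conv_lhs => rw [← hbz]
          group
        rw [hi', show a' ^ i * b⁻¹ * a' ^ 2 * (a' ^ i * b⁻¹)⁻¹ = a' ^ i * (b⁻¹ * a' ^ 2 * b) * (a' ^ i)⁻¹ by group,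
          hbi, (hA i).1]
      have e2 : g * b * g⁻¹ = (a' ^ 2) ^ i * b := by
        rw [hi', show a' ^ i * b⁻¹ * b * (a' ^ i * b⁻¹)⁻¹ = a' ^ i * b * (a' ^ i)⁻¹ by group, (hA i).2]
      rw [e1, e2]
      exact ⟨hzS, Subgroup.mul_mem _ (Subgroup.zpow_mem _ hzS i) hbS⟩
  · -- quaternion
    haveI : NeZero (2 ^ (n - 2)) := ⟨by positivity⟩
    exact Or.inl ⟨2 ^ (n - 2), CfsgLib.RankOneP.nonempty_mulEquiv_quaternion
      (by rw [hao, ← pow_succ']; congr 1; omega) hba hb2 hb hgen⟩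
  · -- modular: excluded
    exfalso
    have hCA' : Subgroup.centralizer (Subgroup.zpowers a' : Set P) = Subgroup.zpowers a' := by
      refine le_antisymm (fun g hg => ?_) (fun g hg => Subgroup.mem_centralizer_iff.2 fun x hx => ?_)
      · rcases hdec g with h | h
        · exact h
        · exfalso
          have h1 : a' * g = g * a' := Subgroup.mem_centralizer_iff.1 hg a' (Subgroup.mem_zpowers a')
          obtain ⟨i, hi⟩ := h
          have h2 : Commute a' b := by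
            have : b = g⁻¹ * a' ^ i := eq_inv_mul_of_mul_eq (show g * b = a' ^ i from hi.symm)
            rw [this]
            exact (Commute.inv_right h1).mul_right ((Commute.refl a').zpow_right i)
          rw [mul_inv_eq_iff_eq_mul.2 h2.symm.eq, pow_add, pow_one, eq_comm, mul_eq_left] at hba
          have := Nat.le_of_dvd (by positivity) (orderOf_dvd_of_pow_eq_one hba)
          rw [hao] at this
          exact absurd this (not_le.2 (Nat.pow_lt_pow_right one_lt_two (by omega)))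
      · obtain ⟨i, rfl⟩ := hx
        obtain ⟨k, rfl⟩ := hg
        exact ((Commute.refl a').zpow_zpow i k).eq
    refine no_one_mod_four hP hn hao hAn' hCA' hb (r := ((1 + 2 ^ (n - 2) : ℕ) : ℤ)) (by rw [zpow_natCast]; exact hba) ?_
    push_cast
    rw [add_sub_cancel_left]
    exact dvd_trans (by norm_num) (pow_dvd_pow (2 : ℤ) (show 2 ≤ n - 2 by omega))
  · -- semidihedral
    refine Or.inr (Or.inr ⟨n - 1, by omega, by rw [hcard]; congr 1; omega, a', b, hao,
      orderOf_eq_prime hb2 (fun h => hb (h ▸ Subgroup.one_mem _)), ?_⟩)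
    rw [hba, show n - 1 - 1 = n - 2 by omega]

end Cfsg.Agent.S0519
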