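import Mathlib.Algebra.MonoidAlgebra.Defs
import Mathlib.Algebra.MonoidAlgebra.Basic
import Mathlib.Algebra.CharP.Lemmas
import Mathlib.Algebra.CharP.Algebra
import Mathlib.Data.ZMod.Basic
import Mathlib.GroupTheory.GroupAction.Blocks
import Mathlib.GroupTheory.Perm.Basic
import Mathlib.RingTheory.Coprime.Lemmas
import Mathlib.Tactic

/-!
Permutation groups containing a regular cyclic subgroup of prime-power order.
-/

set_option autoImplicit false

namespace CfsgLib.CyclicBGroup

variable {G : Type*} [Group G] {N : ℕ} (ρ : G →* Equiv.Perm (ZMod N))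

/-- All translations occur. -/
def HasTransl : Prop := ∀ c : ZMod N, ∃ σ : G, ∀ u, ρ σ u = u + c

/-- Same suborbit. -/
def Rel (x y : ZMod N) : Prop := ∃ σ : G, ρ σ 0 = 0 ∧ ρ σ x = y

/-- Constant on suborbits. -/
def Inv {R : Type*} (f : ZMod N → R) : Prop := ∀ x y, Rel ρ x y → f x = f y

variable {ρ}

theorem Rel.refl (x : ZMod N) : Rel ρ x x := ⟨1, by simp, by simp⟩

theorem Rel.symm {x y : ZMod N} (h : Rel ρ x y) : Rel ρ y x := by
  obtain ⟨σ, h0, hx⟩ := h
  refine ⟨σ⁻¹, ?_, ?_⟩
  · rw [map_inv, Equiv.Perm.inv_def, Equiv.symm_apply_eq]; exact h0.symm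
  · rw [map_inv, Equiv.Perm.inv_def, Equiv.symm_apply_eq]; exact hx.symm

theorem Rel.trans {x y z : ZMod N} (h : Rel ρ x y) (h' : Rel ρ y z) : Rel ρ x z := by
  obtain ⟨σ, h0, hx⟩ := h
  obtain ⟨τ, k0, ky⟩ := h'
  exact ⟨τ * σ, by simp [h0, k0], by simp [hx, ky]⟩

theorem rel_zero {y : ZMod N} (h : Rel ρ 0 y) : y = 0 := by
  obtain ⟨σ, h0, hy⟩ := h
  rw [← hy, h0]

theorem move (ht : HasTransl ρ) (σ : G) (u v : ZMod N) : Rel ρ (v - u) (ρ σ v - ρ σ u) := by
  obtain ⟨a, ha⟩ := ht (-(ρ σ u))
  obtain ⟨b, hb⟩ := ht u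
  exact ⟨a * σ * b, by simp [ha, hb], by simp [ha, hb, sub_eq_add_neg]⟩

theorem Rel.neg (ht : HasTransl ρ) {x y : ZMod N} (h : Rel ρ x y) : Rel ρ (-x) (-y) := by
  obtain ⟨σ, h0, hx⟩ := h
  have := move ht σ x 0
  rwa [h0, hx, zero_sub, zero_sub] at this

theorem Inv.corr (ht : HasTransl ρ) [NeZero N] {R : Type*} [Semiring R] {f h : ZMod N → R}
    (hf : Inv ρ f) (hh : Inv ρ h) : Inv ρ (fun y => ∑ x, f x * h (x - y)) := by
  intro y y' hy
  obtain ⟨σ, h0, hs⟩ := hy
  refine Fintype.sum_equiv (ρ σ) _ _ fun x => ?_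
  have h1 : Rel ρ x (ρ σ x) := ⟨σ, h0, rfl⟩
  have h2 : Rel ρ (x - y) (ρ σ x - y') := hs ▸ move ht σ y x
  rw [hf _ _ h1, hh _ _ h2]

theorem Inv.conv (ht : HasTransl ρ) [NeZero N] {R : Type*} [Semiring R] {f h : ZMod N → R}
    (hf : Inv ρ f) (hh : Inv ρ h) : Inv ρ (fun y => ∑ x, f x * h (y - x)) := by
  have h1 : Inv ρ (fun w => h (-w)) := fun a b hab => hh _ _ (hab.neg ht)
  have h2 := Inv.corr ht hf h1
  intro a b hab
  simpa using h2 a b hab

theorem algebra_mul_apply [NeZero N] {R : Type*} [Semiring R] (F H : AddMonoidAlgebra R (ZMod N)) (y : ZMod N) :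
    (F * H).coeff y = ∑ x, F.coeff x * H.coeff (y - x) := by
  classical
  rw [AddMonoidAlgebra.coeff_mul_antidiag (s := Finset.univ.image fun x : ZMod N => (x, y - x))]
  · rw [Finset.sum_image (fun a _ b _ h => congrArg Prod.fst h)]
  · intro w
    simp only [Finset.mem_image, Finset.mem_univ, true_and]
    exact ⟨fun ⟨x, hx⟩ => by rw [← hx]; simp, fun h => ⟨w.1, by ext <;> simp [← h]⟩⟩

theorem count_inv (ht : HasTransl ρ) [NeZero N] {ℓ : ℕ} [Fact ℓ.Prime] (T : Finset (ZMod N))
    (hT : ∀ x y, Rel ρ x y → (x ∈ T ↔ y ∈ T)) :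
    Inv ρ (fun y => ((T.filter (fun x => (ℓ : ZMod N) * x = y)).card : ZMod ℓ)) := by
  classical
  set F : AddMonoidAlgebra (ZMod ℓ) (ZMod N) := ∑ x ∈ T, AddMonoidAlgebra.single x 1 with hF
  have hFy : ∀ y, F.coeff y = if y ∈ T then 1 else 0 := by
    intro y
    rw [hF, AddMonoidAlgebra.coeff_sum, Finset.sum_apply']
    simp [Finsupp.single_apply]
  have hinv : Inv ρ (fun y => F.coeff y) := fun x y h => by
    simp only [hFy]
    exact if_congr (hT x y h) rfl rfl
  have hpow : ∀ n : ℕ, Inv ρ (fun y => (F ^ n).coeff y) := by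
    intro n
    induction n with
    | zero =>
      intro x y h
      show (F ^ 0).coeff x = (F ^ 0).coeff y
      rw [pow_zero, AddMonoidAlgebra.one_def]
      by_cases hx : x = 0
      · subst hx; rw [rel_zero h]
      · have hy : y ≠ 0 := fun h0 => hx (by subst h0; exact rel_zero h.symm)
        simp [hx, hy]
    | succ n ih =>
      intro x y h
      show (F ^ (n + 1)).coeff x = (F ^ (n + 1)).coeff y
      rw [pow_succ, algebra_mul_apply, algebra_mul_apply]
      exact Inv.conv ht ih hinv x y h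
  haveI : CharP (AddMonoidAlgebra (ZMod ℓ) (ZMod N)) ℓ :=
    charP_of_injective_ringHom
      (f := (AddMonoidAlgebra.singleZeroRingHom : ZMod ℓ →+* AddMonoidAlgebra (ZMod ℓ) (ZMod N)))
      (fun a b h => Finsupp.single_injective (0 : ZMod N) (congrArg AddMonoidAlgebra.coeff h)) ℓ
  have hFl : ∀ y, (F ^ ℓ).coeff y = ((T.filter (fun x => (ℓ : ZMod N) * x = y)).card : ZMod ℓ) := by
    intro y
    rw [hF, sum_pow_char, AddMonoidAlgebra.coeff_sum, Finset.sum_apply', Finset.card_filter, Nat.cast_sum]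
    refine Finset.sum_congr rfl fun x _ => ?_
    rw [AddMonoidAlgebra.single_pow, one_pow, nsmul_eq_mul]
    simp [Finsupp.single_apply]
  intro x y h
  have h1 := hpow ℓ x y h
  simp only [hFl] at h1
  exact h1

theorem rel_mul_prime (ht : HasTransl ρ) [NeZero N] {ℓ : ℕ} (hl : ℓ.Prime) (hco : ℓ.Coprime N)
    {x y : ZMod N} (h : Rel ρ x y) : Rel ρ ((ℓ : ZMod N) * x) ((ℓ : ZMod N) * y) := by
  classical
  haveI : Fact ℓ.Prime := ⟨hl⟩
  have hinj : Function.Injective (fun z : ZMod N => (ℓ : ZMod N) * z) :=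
    ((ZMod.isUnit_iff_coprime ℓ N).2 hco).mul_right_injective
  have key : ∀ a b, Rel ρ ((ℓ : ZMod N) * a) ((ℓ : ZMod N) * b) → Rel ρ a b := by
    intro a b hab
    set T := Finset.univ.filter (fun z => Rel ρ a z) with hT
    have h1 := count_inv ht (ℓ := ℓ) T (fun u v huv => by
      simp only [hT, Finset.mem_filter, Finset.mem_univ, true_and]
      exact ⟨fun h => h.trans huv, fun h => h.trans huv.symm⟩) _ _ hab
    have h2 : T.filter (fun z => (ℓ : ZMod N) * z = (ℓ : ZMod N) * a) = {a} := by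
      ext z
      simp only [Finset.mem_filter, Finset.mem_singleton]
      exact ⟨fun hz => hinj hz.2, fun hz => by subst hz; exact ⟨by simp [hT, Rel.refl], rfl⟩⟩
    simp only [h2, Finset.card_singleton, Nat.cast_one] at h1
    have h3 : (T.filter (fun z => (ℓ : ZMod N) * z = (ℓ : ZMod N) * b)).Nonempty := by
      rw [Finset.nonempty_iff_ne_empty]
      intro h0
      rw [h0, Finset.card_empty, Nat.cast_zero] at h1
      exact one_ne_zero h1
    obtain ⟨z, hz⟩ := h3
    rw [Finset.mem_filter] at hz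
    have hzb : z = b := hinj hz.2
    subst hzb
    simpa [hT] using hz.1
  let R : Set (ZMod N × ZMod N) := {w | Rel ρ w.1 w.2}
  let φ : ZMod N × ZMod N → ZMod N × ZMod N := fun w => ((ℓ : ZMod N) * w.1, (ℓ : ZMod N) * w.2)
  have hφ : Function.Bijective φ := Finite.injective_iff_bijective.1 fun u v huv =>
    Prod.ext (hinj (congrArg Prod.fst huv)) (hinj (congrArg Prod.snd huv))
  have hsub : φ ⁻¹' R ⊆ R := fun w hw => key _ _ hw
  have heq : φ ⁻¹' R = R := Set.eq_of_subset_of_ncard_le hsub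
    (by rw [Set.ncard_preimage_of_injective_subset_range hφ.1 (by simp [hφ.2.range_eq])]) (Set.toFinite _)
  have hw : (x, y) ∈ φ ⁻¹' R := by rw [heq]; exact h
  exact hw

theorem rel_mul (ht : HasTransl ρ) [NeZero N] (n : ℕ) (hco : n.Coprime N) {x y : ZMod N}
    (h : Rel ρ x y) : Rel ρ ((n : ZMod N) * x) ((n : ZMod N) * y) := by
  induction n using induction_on_primes with
  | zero =>
    haveI : Subsingleton (ZMod N) := by
      rw [Nat.coprime_zero_left] at hco; subst hco; infer_instance
    rw [Subsingleton.elim ((0 : ℕ) * y : ZMod N) ((0 : ℕ) * x)]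
    exact Rel.refl _
  | one => simpa using h
  | prime_mul l a hl ih =>
    rw [Nat.coprime_mul_iff_left] at hco
    push_cast
    rw [mul_assoc, mul_assoc]
    exact rel_mul_prime ht hl hco.1 (ih hco.2)

/-- Schur: with a regular cyclic subgroup of composite order, not doubly transitive gives a block. -/
theorem exists_block (ht : HasTransl ρ) [NeZero N] {p : ℕ} (hp : p.Prime) (hdvd : p ∣ N) (hlt : p < N)
    (hnt : ∃ x y : ZMod N, x ≠ 0 ∧ y ≠ 0 ∧ ¬ Rel ρ x y) :
    ∃ H : AddSubgroup (ZMod N), H ≠ ⊥ ∧ H ≠ ⊤ ∧ ∀ x y, Rel ρ x y → x ∈ H → y ∈ H := by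
  classical
  by_contra hcon
  push Not at hcon
  haveI : Fact p.Prime := ⟨hp⟩
  have hprim : ∀ H : AddSubgroup (ZMod N), (∀ x y, Rel ρ x y → x ∈ H → y ∈ H) → H = ⊥ ∨ H = ⊤ := by
    intro H hH
    by_contra h
    push Not at h
    obtain ⟨x, y, hxy, hx, hy⟩ := hcon H h.1 h.2
    exact hy (hH x y hxy hx)
  set q := N / p with hq
  have hpq : p * q = N := Nat.mul_div_cancel' hdvd
  have hqpos : 0 < q := by
    rcases Nat.eq_zero_or_pos q with h | h
    · rw [h, mul_zero] at hpq; omega
    · exact h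
  set K : Finset (ZMod N) := Finset.univ.filter (fun k => (p : ZMod N) * k = 0) with hK
  have hKmem : ∀ k : ZMod N, (p : ZMod N) * k = 0 → ∃ j, j < p ∧ k = ((j * q : ℕ) : ZMod N) := by
    intro k hk
    have h1 : ((p * k.val : ℕ) : ZMod N) = 0 := by push_cast; rw [ZMod.natCast_zmod_val]; exact hk
    rw [ZMod.natCast_eq_zero_iff] at h1
    replace h1 : q ∣ k.val := (Nat.mul_dvd_mul_iff_left hp.pos).1 ((dvd_of_eq hpq).trans h1)
    refine ⟨k.val / q, ?_, ?_⟩
    · rw [Nat.div_lt_iff_lt_mul hqpos, hpq]; exact ZMod.val_lt k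
    · rw [Nat.div_mul_cancel h1, ZMod.natCast_zmod_val]
  have hKiff : ∀ k : ZMod N, k ∈ K ↔ (p : ZMod N) * k = 0 := fun k => by simp [hK]
  have hKle : K.card ≤ p := by
    refine le_trans (Finset.card_le_card (t := (Finset.range p).image (fun j => ((j * q : ℕ) : ZMod N))) ?_)
      (le_trans Finset.card_image_le (by simp))
    intro k hk
    obtain ⟨j, hj, hjk⟩ := hKmem k (by simpa [hK] using hk)
    exact Finset.mem_image.2 ⟨j, Finset.mem_range.2 hj, hjk.symm⟩
  have hq0 : ((q : ℕ) : ZMod N) ≠ 0 := by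
    rw [Ne, ZMod.natCast_eq_zero_iff, ← hpq]
    intro h
    have h1 := Nat.le_of_dvd hqpos h
    have h2 : q < p * q := lt_mul_left hqpos hp.one_lt
    omega
  have hone : (p : ZMod N) * 1 ≠ 0 := by
    rw [mul_one, Ne, ZMod.natCast_eq_zero_iff]
    intro h
    have h1 := Nat.le_of_dvd hp.pos h
    omega
  let orb : ZMod N → Finset (ZMod N) := fun x => Finset.univ.filter (fun z => Rel ρ x z)
  have horb : ∀ x z, z ∈ orb x ↔ Rel ρ x z := by intro x z; simp [orb]
  have horbinv : ∀ x u v, Rel ρ u v → (u ∈ orb x ↔ v ∈ orb x) := fun x u v huv => by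
    rw [horb, horb]; exact ⟨fun h => h.trans huv, fun h => h.trans huv.symm⟩
  -- outside `K`, suborbits are unions of cosets of `K`
  have hdiv : ∀ x y : ZMod N, y ≠ 0 → p ∣ ((orb x).filter (fun z => (p : ZMod N) * z = y)).card := by
    intro x y hy
    by_contra hnd
    have hY : ∀ y', Rel ρ y y' → ∃ z, y' = (p : ZMod N) * z := by
      intro y' hy'
      have h1 := count_inv ht (ℓ := p) (orb x) (horbinv x) y y' hy'
      have h2 : ((orb x).filter (fun z => (p : ZMod N) * z = y')).Nonempty := by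
        rw [Finset.nonempty_iff_ne_empty]
        intro h0
        simp only [h0, Finset.card_empty, Nat.cast_zero] at h1
        exact hnd ((ZMod.natCast_eq_zero_iff _ _).1 h1)
      obtain ⟨z, hz⟩ := h2
      exact ⟨z, (Finset.mem_filter.1 hz).2.symm⟩
    set H := AddSubgroup.closure {z | Rel ρ y z} with hH
    have hHinv : ∀ u, u ∈ H → ∀ v, Rel ρ u v → v ∈ H := by
      intro u hu
      induction hu using AddSubgroup.closure_induction with
      | mem a ha => exact fun v hv => AddSubgroup.subset_closure (Rel.trans ha hv)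
      | zero => intro v hv; rw [rel_zero hv]; exact zero_mem _
      | add a b _ _ iha ihb =>
        intro v hv
        obtain ⟨σ, h0, hs⟩ := hv
        have h1 : ρ σ a ∈ H := iha _ ⟨σ, h0, rfl⟩
        have h2 : Rel ρ b (v - ρ σ a) := by
          have := move ht σ a (a + b)
          rwa [add_sub_cancel_left, hs] at this
        have h3 := add_mem (ihb _ h2) h1
        rwa [sub_add_cancel] at h3
      | neg a _ iha =>
        intro v hv
        have := neg_mem (iha _ (by simpa using hv.neg ht))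
        simpa using this
    rcases hprim H (fun a b hab ha => hHinv a ha b hab) with h | h
    · have h1 : y ∈ H := AddSubgroup.subset_closure (Rel.refl y)
      rw [h] at h1
      exact hy h1
    · have h1 : H ≤ (AddMonoidHom.mulLeft (p : ZMod N)).range :=
        (AddSubgroup.closure_le _).2 fun z hz => by
          obtain ⟨w, rfl⟩ := hY z hz
          exact ⟨w, rfl⟩
      rw [h] at h1
      obtain ⟨w, hw⟩ := h1 (AddSubgroup.mem_top 1)
      have h3 : (p : ZMod N) * w = 1 := hw
      have h2 := congrArg (ZMod.castHom hdvd (ZMod p)) h3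
      rw [map_mul, map_natCast, ZMod.natCast_self, zero_mul, map_one] at h2
      exact zero_ne_one h2
  have hcoset : ∀ x z k : ZMod N, z ∈ orb x → (p : ZMod N) * z ≠ 0 → k ∈ K → z + k ∈ orb x := by
    intro x z k hz hpz hk
    set S := (orb x).filter (fun w => (p : ZMod N) * w = (p : ZMod N) * z) with hS
    have hsub : S ⊆ K.image (fun k' => z + k') := by
      intro w hw
      rw [hS, Finset.mem_filter] at hw
      refine Finset.mem_image.2 ⟨w - z, ?_, by ring⟩
      rw [hK, Finset.mem_filter]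
      exact ⟨Finset.mem_univ _, by rw [mul_sub, hw.2, sub_self]⟩
    have hpos : 0 < S.card := Finset.card_pos.2 ⟨z, by simp [hS, hz]⟩
    have hge : p ≤ S.card := Nat.le_of_dvd hpos (hdiv x _ hpz)
    have heq : S = K.image (fun k' => z + k') :=
      Finset.eq_of_subset_of_card_le hsub (le_trans Finset.card_image_le (hKle.trans hge))
    have hmem : z + k ∈ S := by rw [heq]; exact Finset.mem_image.2 ⟨k, hk, rfl⟩
    exact (Finset.mem_filter.1 hmem).1
  have hind : ∀ x, Inv ρ (fun w => if w ∈ orb x then (1 : ℕ) else 0) := fun x u v huv =>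
    if_congr (horbinv x u v huv) rfl rfl
  -- every suborbit meets `K`
  have hmeet : ∀ x : ZMod N, x ≠ 0 → ∃ k ∈ K, k ≠ 0 ∧ Rel ρ x k := by
    intro x hx
    by_contra hno
    push Not at hno
    have hout : ∀ z ∈ orb x, (p : ZMod N) * z ≠ 0 := by
      intro z hz h0
      by_cases hz0 : z = 0
      · subst hz0; exact hx (rel_zero ((horb x 0).1 hz).symm)
      · exact hno z (by simp [hK, h0]) hz0 ((horb x z).1 hz)
    let H : AddSubgroup (ZMod N) :=
      { carrier := {h | ∀ z ∈ orb x, z - h ∈ orb x}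
        zero_mem' := fun z hz => by simpa using hz
        add_mem' := fun {a b} ha hb z hz => by
          have := hb _ (ha z hz)
          rwa [sub_sub] at this
        neg_mem' := fun {a} ha z hz => by
          have hsurj : (orb x).image (fun w => w - a) = orb x := Finset.eq_of_subset_of_card_le
            (fun w hw => by obtain ⟨v, hv, rfl⟩ := Finset.mem_image.1 hw; exact ha v hv)
            (by rw [Finset.card_image_of_injective _ (sub_left_injective)])
          rw [← hsurj, Finset.mem_image] at hz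
          obtain ⟨v, hv, rfl⟩ := hz
          simpa using hv }
    have hc : ∀ h, (∑ w, (if w ∈ orb x then (1 : ℕ) else 0) * (if w - h ∈ orb x then 1 else 0)) =
        ((orb x).filter (fun w => w - h ∈ orb x)).card := by
      intro h
      rw [Finset.card_filter]
      simp only [ite_mul, one_mul, zero_mul, Finset.sum_ite_mem, Finset.univ_inter]
    have hHinv : ∀ a b, Rel ρ a b → a ∈ H → b ∈ H := by
      intro a b hab ha
      have h1 := Inv.corr ht (hind x) (hind x) a b hab
      simp only [hc] at h1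
      rw [Finset.filter_true_of_mem ha] at h1
      intro z hz
      have h2 := Finset.eq_of_subset_of_card_le (Finset.filter_subset _ _) h1.le
      have hz' : z ∈ (orb x).filter (fun w => w - b ∈ orb x) := by rw [h2]; exact hz
      exact (Finset.mem_filter.1 hz').2
    rcases hprim H hHinv with h | h
    · have hk : ((q : ℕ) : ZMod N) ∈ H := by
        intro z hz
        refine hcoset x z (-(q : ZMod N)) hz (hout z hz) ?_ |> fun h => by rwa [← sub_eq_add_neg] at h
        rw [hK, Finset.mem_filter]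
        exact ⟨Finset.mem_univ _, by rw [mul_neg, ← Nat.cast_mul, hpq, ZMod.natCast_self, neg_zero]⟩
      rw [h] at hk
      exact hq0 hk
    · have h1 : x ∈ H := by rw [h]; trivial
      have h2 := h1 x ((horb x x).2 (Rel.refl x))
      rw [sub_self] at h2
      exact hx (rel_zero ((horb x 0).1 h2).symm)
  -- units permute the suborbits transitively
  set a : ZMod N → ℕ := fun x => ((orb x).filter (fun z => z ∈ K)).card with hadef
  have horbeq : ∀ x y, Rel ρ x y → orb x = orb y := fun x y h => by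
    ext z; rw [horb, horb]; exact ⟨fun h' => h.symm.trans h', fun h' => h.trans h'⟩
  have hsize : ∀ k k' : ZMod N, k ∈ K → k ≠ 0 → k' ∈ K → k' ≠ 0 →
      (orb k).card ≤ (orb k').card ∧ a k ≤ a k' := by
    intro k k' hk hk0 hk' hk'0
    obtain ⟨j, hj, rfl⟩ := hKmem k (by simpa [hK] using hk)
    obtain ⟨j', hj', rfl⟩ := hKmem k' (by simpa [hK] using hk')
    have hj0 : j ≠ 0 := by rintro rfl; simp at hk0
    have hj'0 : j' ≠ 0 := by rintro rfl; simp at hk'0
    have hjp : (j : ZMod p) ≠ 0 := fun h =>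
      hj0 (Nat.eq_zero_of_dvd_of_lt ((ZMod.natCast_eq_zero_iff _ _).1 h) hj)
    have hj'p : (j' : ZMod p) ≠ 0 := fun h =>
      hj'0 (Nat.eq_zero_of_dvd_of_lt ((ZMod.natCast_eq_zero_iff _ _).1 h) hj')
    obtain ⟨w, hw⟩ := ZMod.unitsMap_surjective hdvd
      (Units.mk0 ((j' : ZMod p) * (j : ZMod p)⁻¹) (mul_ne_zero hj'p (inv_ne_zero hjp)))
    set l := (w : ZMod N).val with hl
    have hco : l.Coprime N := ZMod.val_coe_unit_coprime w
    have hlj : l * j ≡ j' [MOD p] := by
      rw [← ZMod.natCast_eq_natCast_iff]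
      have h1 := congrArg Units.val hw
      rw [ZMod.unitsMap_val, Units.val_mk0] at h1
      rw [Nat.cast_mul, hl, ZMod.natCast_val, h1, mul_assoc, inv_mul_cancel₀ hjp, mul_one]
    have hlk : (l : ZMod N) * ((j * q : ℕ) : ZMod N) = ((j' * q : ℕ) : ZMod N) := by
      rw [← Nat.cast_mul, ZMod.natCast_eq_natCast_iff, ← hpq, ← mul_assoc]
      exact hlj.mul_right' q
    have hinj : Function.Injective (fun z : ZMod N => (l : ZMod N) * z) :=
      ((ZMod.isUnit_iff_coprime l N).2 hco).mul_right_injective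
    constructor
    · rw [← Finset.card_image_of_injective _ hinj]
      refine Finset.card_le_card fun w hw => ?_
      obtain ⟨z, hz, rfl⟩ := Finset.mem_image.1 hw
      rw [horb, ← hlk]
      exact rel_mul ht l hco ((horb _ z).1 hz)
    · simp only [hadef]
      rw [← Finset.card_image_of_injective _ hinj]
      refine Finset.card_le_card fun w hw => ?_
      obtain ⟨z, hz, rfl⟩ := Finset.mem_image.1 hw
      rw [Finset.mem_filter] at hz ⊢
      refine ⟨?_, ?_⟩
      · rw [horb, ← hlk]
        exact rel_mul ht l hco ((horb _ z).1 hz.1)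
      · simp only [hK, Finset.mem_filter] at hz ⊢
        exact ⟨Finset.mem_univ _, by rw [mul_left_comm, hz.2.2, mul_zero]⟩
  obtain ⟨x, y, hx, hy, hxy⟩ := hnt
  obtain ⟨k₀, hk₀, hk₀0, hxk⟩ := hmeet x hx
  obtain ⟨k₁, hk₁, hk₁0, hyk⟩ := hmeet y hy
  have hne : ¬ Rel ρ k₀ k₁ := fun h => hxy ((hxk.trans h).trans hyk.symm)
  set T := orb k₀ with hTdef
  set T' := orb k₁ with hT'def
  set s := T.card with hs
  set a₀ := a k₀ with ha₀
  have hs_all : ∀ z : ZMod N, z ≠ 0 → (orb z).card = s ∧ a z = a₀ := by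
    intro z hz
    obtain ⟨k, hk, hk0, hzk⟩ := hmeet z hz
    have h1 := hsize k k₀ hk hk0 hk₀ hk₀0
    have h2 := hsize k₀ k hk₀ hk₀0 hk hk0
    refine ⟨?_, ?_⟩
    · rw [horbeq z k hzk]; exact le_antisymm h1.1 h2.1
    · show ((orb z).filter _).card = _
      rw [horbeq z k hzk]; exact le_antisymm h1.2 h2.2
  set c : ZMod N → ℕ := fun w => ∑ z, (if z ∈ T then (1 : ℕ) else 0) * (if z - w ∈ T' then 1 else 0) with hc
  have hcinv : Inv ρ c := Inv.corr ht (hind k₀) (hind k₁)
  have hc0 : c 0 = 0 := by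
    refine Finset.sum_eq_zero fun z _ => ?_
    by_cases h : z ∈ T
    · rw [if_pos h, sub_zero, if_neg, mul_zero]
      intro h'
      exact hne (((horb _ z).1 h).trans ((horb _ z).1 h').symm)
    · simp [h]
  have htot : ∑ w, c w = s * s := by
    simp only [hc]
    rw [Finset.sum_comm]
    simp only [← Finset.mul_sum]
    have h1 : ∀ z : ZMod N, ∑ w, (if z - w ∈ T' then (1 : ℕ) else 0) = s := by
      intro z
      rw [Fintype.sum_equiv (Equiv.subLeft z) (fun w => if z - w ∈ T' then (1 : ℕ) else 0)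
        (fun w => if w ∈ T' then (1 : ℕ) else 0) (fun w => by simp)]
      rw [Finset.sum_ite_mem, Finset.univ_inter, Finset.sum_const, smul_eq_mul, mul_one]
      exact (hs_all k₁ hk₁0).1
    simp only [h1]
    rw [← Finset.sum_mul, Finset.sum_ite_mem, Finset.univ_inter, Finset.sum_const, smul_eq_mul, mul_one]
  have hKtot : ∑ k ∈ K, c k = a₀ * a₀ := by
    simp only [hc]
    rw [Finset.sum_comm]
    simp only [← Finset.mul_sum]
    have h1 : ∀ z : ZMod N, (if z ∈ T then (1 : ℕ) else 0) * (∑ k ∈ K, if z - k ∈ T' then (1 : ℕ) else 0) =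
        if z ∈ T.filter (fun w => w ∈ K) then a₀ else 0 := by
      intro z
      by_cases hz : z ∈ T
      · by_cases hzK : z ∈ K
        · rw [if_pos hz, one_mul, if_pos (Finset.mem_filter.2 ⟨hz, hzK⟩), ← (hs_all k₁ hk₁0).2]
          have hpz : (p : ZMod N) * z = 0 := by simpa [hK] using hzK
          simp only [hadef]
          rw [← Finset.card_filter]
          refine Finset.card_bij' (fun k _ => z - k) (fun w _ => z - w) ?_ ?_ ?_ ?_
          · intro k hk
            obtain ⟨hk1, hk2⟩ := Finset.mem_filter.1 hk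
            refine Finset.mem_filter.2 ⟨hk2, ?_⟩
            rw [hKiff] at hk1 ⊢
            rw [mul_sub, hpz, hk1, sub_self]
          · intro w hw
            obtain ⟨hw1, hw2⟩ := Finset.mem_filter.1 hw
            refine Finset.mem_filter.2 ⟨?_, by rw [sub_sub_cancel]; exact hw1⟩
            rw [hKiff] at hw2 ⊢
            rw [mul_sub, hpz, hw2, sub_self]
          · intro k _; exact sub_sub_cancel z k
          · intro w _; exact sub_sub_cancel z w
        · rw [if_pos hz, one_mul, if_neg (fun h => hzK (Finset.mem_filter.1 h).2)]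
          refine Finset.sum_eq_zero fun k hk => if_neg fun h' => ?_
          have hpz : (p : ZMod N) * z ≠ 0 := fun h => hzK (by simp [hK, h])
          have h2 : z + -k ∈ orb k₀ := hcoset k₀ z (-k) hz hpz (by
            rw [hK, Finset.mem_filter] at hk ⊢
            exact ⟨Finset.mem_univ _, by rw [mul_neg, hk.2, neg_zero]⟩)
          rw [← sub_eq_add_neg] at h2
          exact hne (((horb _ _).1 h2).trans ((horb _ _).1 h').symm)
      · rw [if_neg hz, zero_mul, if_neg (fun h => hz (Finset.mem_filter.1 h).1)]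
    simp only [h1]
    rw [Finset.sum_ite_mem, Finset.univ_inter, Finset.sum_const, smul_eq_mul]
  -- count related pairs in two ways
  have hdouble : a₀ * ∑ w, c w = s * ∑ k ∈ K, c k := by
    have h1 : ∀ w, a₀ * c w = ∑ k ∈ K, if k ∈ orb w then c w else 0 := by
      intro w
      by_cases hw : w = 0
      · subst hw; simp [hc0]
      · rw [← Finset.sum_filter, Finset.sum_const, smul_eq_mul, ← (hs_all w hw).2]
        congr 1
        show ((orb w).filter (fun z => z ∈ K)).card = (K.filter (fun k => k ∈ orb w)).card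
        rw [Finset.filter_mem_eq_inter, Finset.filter_mem_eq_inter, Finset.inter_comm]
    rw [Finset.mul_sum, Finset.sum_congr rfl (fun w _ => h1 w), Finset.sum_comm, Finset.mul_sum]
    refine Finset.sum_congr rfl fun k _ => ?_
    by_cases hk : k = 0
    · subst hk
      rw [hc0, mul_zero]
      refine Finset.sum_eq_zero fun w _ => ?_
      split_ifs with h
      · rw [show w = 0 from rel_zero ((horb w 0).1 h).symm, hc0]
      · rfl
    · have h2 : ∀ w, (if k ∈ orb w then c w else 0) = if w ∈ orb k then c k else 0 := by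
        intro w
        by_cases h : k ∈ orb w
        · rw [if_pos h, if_pos ((horb k w).2 ((horb w k).1 h).symm), hcinv w k ((horb w k).1 h)]
        · rw [if_neg h, if_neg (fun h' => h ((horb w k).2 ((horb k w).1 h').symm))]
      simp only [h2]
      rw [Finset.sum_ite_mem, Finset.univ_inter, Finset.sum_const, smul_eq_mul, (hs_all k hk).1]
  rw [htot, hKtot] at hdouble
  have hapos : 0 < a₀ :=
    Finset.card_pos.2 ⟨k₀, Finset.mem_filter.2 ⟨(horb _ _).2 (Rel.refl _), hk₀⟩⟩
  have hspos : 0 < s := Finset.card_pos.2 ⟨k₀, (horb _ _).2 (Rel.refl _)⟩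
  have hsa : s = a₀ := by
    have h1 : (a₀ * s) * s = (a₀ * s) * a₀ := by rw [mul_assoc, hdouble]; ring
    exact Nat.eq_of_mul_eq_mul_left (Nat.mul_pos hapos hspos) h1
  have h1ne : (1 : ZMod N) ≠ 0 := fun h => hone (by rw [h, mul_zero])
  have h3 := hs_all 1 h1ne
  rw [hsa] at h3
  have h4 : (orb 1).filter (fun z => z ∈ K) = orb 1 :=
    Finset.eq_of_subset_of_card_le (Finset.filter_subset _ _) (by rw [h3.1]; exact h3.2.ge)
  have h5 : (1 : ZMod N) ∈ (orb 1).filter (fun z => z ∈ K) := by rw [h4]; exact (horb _ _).2 (Rel.refl _)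
  have h6 := (Finset.mem_filter.1 h5).2
  simp only [hK, Finset.mem_filter] at h6
  exact hone h6.2

end CfsgLib.CyclicBGroup
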