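import Cfsg.Statements.S3972
import Mathlib
import Cfsg.Agent.CyclicBGroup

set_option autoImplicit false
open Cfsg

namespace Cfsg.Agent.S3972

/-- Let `p` be a prime, `m ≥ 2`, and `G` a transitive but not doubly transitive permutation group on `p ^ m` points containing a permutation of order `p ^ m` (necessarily a full cycle). Then `G` is imprimitive, and the normal closure in `G` of the `p ^ (m - 1)`-th power of that permutation is an intransitive normal subgroup. -/
theorem result {Ω : Type*} [Fintype Ω] [DecidableEq Ω] (p m : ℕ) (hp : p.Prime) (hm : 2 ≤ m) (hΩ : Fintype.card Ω = p ^ m) (G : Subgroup (Equiv.Perm Ω)) (htr : MulAction.IsPretransitive G Ω) (h2 : ¬ MulAction.IsMultiplyPretransitive G Ω 2) (g : G) (hg : orderOf g = p ^ m) : ¬ MulAction.IsPreprimitive G Ω ∧ ¬ MulAction.IsPretransitive (Subgroup.normalClosure ({g ^ (p ^ (m - 1))} : Set G)) Ω := by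
  classical
  haveI : Fact p.Prime := ⟨hp⟩
  haveI : NeZero (p ^ m) := ⟨pow_ne_zero _ hp.ne_zero⟩
  set g' : Equiv.Perm Ω := (g : Equiv.Perm Ω) with hg'
  have hgo : orderOf g' = p ^ m := by rw [hg', Subgroup.orderOf_coe, hg]
  have hm1 : p ^ (m - 1) < p ^ m := Nat.pow_lt_pow_right hp.one_lt (by omega)
  obtain ⟨x₀, hx₀⟩ : ∃ x, (g' ^ p ^ (m - 1)) x ≠ x := by
    by_contra h
    push Not at h
    exact pow_ne_one_of_lt_orderOf (pow_ne_zero _ hp.ne_zero) (hgo ▸ hm1) (Equiv.Perm.ext h)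
  have hcyc : ∀ j : ℕ, (g' ^ j) x₀ = x₀ → p ^ m ∣ j := by
    intro j hj
    have hj' : (g' ^ Nat.gcd j (p ^ m)) x₀ = x₀ := by
      have hS : g' ^ j ∈ MulAction.stabilizer (Equiv.Perm Ω) x₀ := hj
      have hN : g' ^ p ^ m ∈ MulAction.stabilizer (Equiv.Perm Ω) x₀ := by
        rw [← hgo, pow_orderOf_eq_one]; exact one_mem _
      have := mul_mem (zpow_mem hS (Nat.gcdA j (p ^ m))) (zpow_mem hN (Nat.gcdB j (p ^ m)))
      rw [← zpow_natCast g' j, ← zpow_natCast g' (p ^ m), ← zpow_mul, ← zpow_mul, ← zpow_add,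
        ← Nat.gcd_eq_gcd_ab, zpow_natCast] at this
      exact this
    obtain ⟨i, hi, hieq⟩ := (Nat.dvd_prime_pow hp).1 (Nat.gcd_dvd_right j (p ^ m))
    rcases eq_or_lt_of_le hi with rfl | hlt
    · exact hieq ▸ Nat.gcd_dvd_left j _
    · exfalso
      apply hx₀
      rw [hieq] at hj'
      have hS : g' ^ p ^ i ∈ MulAction.stabilizer (Equiv.Perm Ω) x₀ := hj'
      have := pow_mem hS (p ^ (m - 1 - i))
      rw [← pow_mul, ← pow_add, show i + (m - 1 - i) = m - 1 by omega] at this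
      exact this
  let ψ : ZMod (p ^ m) → Ω := fun i => (g' ^ i.val) x₀
  have hψinj : Function.Injective ψ := by
    have key : ∀ i j : ZMod (p ^ m), i.val ≤ j.val → ψ i = ψ j → i = j := by
      intro i j hle h
      have h1 : (g' ^ (j.val - i.val)) x₀ = x₀ := by
        apply (g' ^ i.val).injective
        rw [← Equiv.Perm.mul_apply, ← pow_add, Nat.add_sub_cancel' hle]
        exact h.symm
      have h2 := hcyc _ h1
      have h3 : j.val - i.val = 0 :=
        Nat.eq_zero_of_dvd_of_lt h2 (lt_of_le_of_lt (Nat.sub_le _ _) (ZMod.val_lt j))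
      exact ZMod.val_injective _ (by omega)
    intro i j h
    rcases le_total i.val j.val with hle | hle
    · exact key i j hle h
    · exact (key j i hle h.symm).symm
  have hψbij : Function.Bijective ψ :=
    (Fintype.bijective_iff_injective_and_card ψ).2 ⟨hψinj, by rw [ZMod.card, hΩ]⟩
  let e : ZMod (p ^ m) ≃ Ω := Equiv.ofBijective ψ hψbij
  let ρ : G →* Equiv.Perm (ZMod (p ^ m)) := (e.symm.permCongrHom).toMonoidHom.comp G.subtype
  have hρ : ∀ (σ : G) u, e (ρ σ u) = σ • e u := fun σ u => by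
    show e (e.symm ((σ : Equiv.Perm Ω) (e.symm.symm u))) = _
    rw [Equiv.apply_symm_apply, Equiv.symm_symm]
    rfl
  have htrans : ∀ (j : ℕ) u, ρ (g ^ j) u = u + (j : ZMod (p ^ m)) := by
    intro j u
    apply e.injective
    rw [hρ]
    show (((g ^ j : G) : Equiv.Perm Ω)) ((g' ^ u.val) x₀) = (g' ^ (u + (j : ZMod (p ^ m))).val) x₀
    rw [Subgroup.coe_pow, ← hg', ← Equiv.Perm.mul_apply, ← pow_add]
    congr 1
    rw [pow_eq_pow_iff_modEq, hgo, ← ZMod.natCast_eq_natCast_iff]
    push_cast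
    rw [ZMod.natCast_zmod_val, ZMod.natCast_zmod_val, add_comm]
  have ht : CfsgLib.CyclicBGroup.HasTransl ρ := fun c => ⟨g ^ c.val, fun u => by
    rw [htrans, ZMod.natCast_zmod_val]⟩
  have hnt : ∃ x y : ZMod (p ^ m), x ≠ 0 ∧ y ≠ 0 ∧ ¬ CfsgLib.CyclicBGroup.Rel ρ x y := by
    by_contra h
    push Not at h
    apply h2
    rw [MulAction.is_two_pretransitive_iff]
    intro a b c d hab hcd
    obtain ⟨σa, hσa⟩ := ht (e.symm c)
    obtain ⟨σb, hσb⟩ := ht (-(e.symm a))
    obtain ⟨τ, h0, hτ⟩ := h (e.symm b - e.symm a) (e.symm d - e.symm c)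
      (sub_ne_zero.2 fun h1 => hab (e.symm.injective h1).symm)
      (sub_ne_zero.2 fun h1 => hcd (e.symm.injective h1).symm)
    refine ⟨σa * τ * σb, ?_, ?_⟩
    · rw [show a = e (e.symm a) from (e.apply_symm_apply a).symm, ← hρ]
      rw [map_mul, map_mul, Equiv.Perm.mul_apply, Equiv.Perm.mul_apply, hσb, add_neg_cancel, h0, hσa,
        zero_add, e.apply_symm_apply]
    · rw [show b = e (e.symm b) from (e.apply_symm_apply b).symm, ← hρ]
      rw [map_mul, map_mul, Equiv.Perm.mul_apply, Equiv.Perm.mul_apply, hσb, ← sub_eq_add_neg, hτ, hσa,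
        sub_add_cancel, e.apply_symm_apply]
  obtain ⟨H, hH0, hHT, hHinv⟩ := CfsgLib.CyclicBGroup.exists_block ht hp
    (dvd_pow_self p (show m ≠ 0 by omega))
    (by simpa using Nat.pow_lt_pow_right hp.one_lt (show 1 < m by omega)) hnt
  have hHmove : ∀ (σ : G) u v, v - u ∈ H → ρ σ v - ρ σ u ∈ H := fun σ u v h =>
    hHinv _ _ (CfsgLib.CyclicBGroup.move ht σ u v) h
  constructor
  · intro hprim
    let B : Set Ω := e '' (H : Set (ZMod (p ^ m)))
    have hB : MulAction.IsBlock G B := by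
      rw [MulAction.isBlock_iff_smul_eq_of_nonempty]
      intro σ hne
      obtain ⟨_, ⟨_, ⟨u, hu, rfl⟩, rfl⟩, ⟨v, hv, hveq⟩⟩ := hne
      have huv : ρ σ u = v := e.injective ((hρ σ u).trans hveq.symm)
      apply Set.eq_of_subset_of_ncard_le ?_ ?_ (Set.toFinite _)
      · rintro _ ⟨_, ⟨w, hw, rfl⟩, rfl⟩
        refine ⟨ρ σ w, ?_, hρ σ w⟩
        have h1 := hHmove σ u w (sub_mem hw hu)
        rw [huv] at h1
        have h2 := add_mem h1 hv
        rwa [sub_add_cancel] at h2
      · rw [Set.ncard_smul_set]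
    rcases MulAction.IsPreprimitive.isTrivialBlock_of_isBlock (G := G) hB with h | h
    · apply hH0
      rw [eq_bot_iff]
      intro u hu
      have h1 : e u = e 0 := h ⟨u, hu, rfl⟩ ⟨0, zero_mem H, rfl⟩
      exact (AddSubgroup.mem_bot).2 (e.injective h1)
    · apply hHT
      rw [eq_top_iff]
      intro u _
      have h1 : e u ∈ B := by rw [h]; trivial
      obtain ⟨w, hw, hwu⟩ := h1
      rwa [← e.injective hwu]
  · intro hT
    let E : Subgroup G :=
      { carrier := {σ | ∀ u, ρ σ u - u ∈ H}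
        one_mem' := fun u => by simp
        mul_mem' := fun {a b} ha hb u => by
          have h1 := add_mem (ha (ρ b u)) (hb u)
          rw [map_mul, Equiv.Perm.mul_apply]
          simpa using h1
        inv_mem' := fun {a} ha u => by
          have h1 := neg_mem (ha (ρ a⁻¹ u))
          rw [← Equiv.Perm.mul_apply, ← map_mul, mul_inv_cancel, map_one, Equiv.Perm.one_apply, neg_sub] at h1
          exact h1 }
    haveI : E.Normal := ⟨fun σ hσ τ u => by
      have h1 := hHmove τ (ρ τ⁻¹ u) (ρ σ (ρ τ⁻¹ u)) (hσ _)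
      rw [← Equiv.Perm.mul_apply, ← Equiv.Perm.mul_apply (ρ τ), ← map_mul, ← map_mul,
        ← Equiv.Perm.mul_apply, ← map_mul, mul_inv_cancel, map_one, Equiv.Perm.one_apply] at h1
      simpa [mul_assoc] using h1⟩
    have hqH : ((p ^ (m - 1) : ℕ) : ZMod (p ^ m)) ∈ H := by
      obtain ⟨h, hh, hh0⟩ := (AddSubgroup.bot_or_exists_ne_zero H).resolve_left hH0
      have hval : h.val ≠ 0 := fun h0 => hh0 ((ZMod.val_eq_zero h).1 h0)
      obtain ⟨i, j, hj, hij⟩ := Nat.exists_eq_pow_mul_and_not_dvd hval p hp.ne_one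
      have hi : i ≤ m - 1 := by
        by_contra hi
        have h1 : p ^ m ≤ h.val := by
          calc p ^ m ≤ p ^ i := Nat.pow_le_pow_right hp.pos (by omega)
            _ ≤ h.val := Nat.le_of_dvd (Nat.pos_of_ne_zero hval) ⟨j, hij⟩
        exact absurd (ZMod.val_lt h) (not_lt.2 h1)
      have hju : IsUnit (j : ZMod (p ^ m)) :=
        (ZMod.isUnit_iff_coprime j _).2 ((hp.coprime_iff_not_dvd.2 hj).symm.pow_right m)
      obtain ⟨w, hw⟩ := hju
      have h2 : ((p ^ (m - 1) : ℕ) : ZMod (p ^ m)) =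
          ((p ^ (m - 1 - i) * ((w⁻¹ : (ZMod (p ^ m))ˣ) : ZMod (p ^ m)).val : ℕ)) • h := by
        rw [nsmul_eq_mul]
        conv_rhs => rw [← ZMod.natCast_zmod_val h, hij]
        push_cast
        rw [ZMod.natCast_zmod_val, mul_mul_mul_comm, ← pow_add, show m - 1 - i + i = m - 1 by omega,
          ← hw, Units.inv_mul, mul_one]
      rw [h2]
      exact nsmul_mem hh _
    have hgE : g ^ p ^ (m - 1) ∈ E := fun u => by
      rw [htrans, add_sub_cancel_left]; exact hqH
    have hle : Subgroup.normalClosure ({g ^ p ^ (m - 1)} : Set G) ≤ E :=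
      Subgroup.normalClosure_le_normal (Set.singleton_subset_iff.2 hgE)
    apply hHT
    rw [eq_top_iff]
    intro u _
    obtain ⟨⟨σ, hσ⟩, hσu⟩ := hT.exists_smul_eq (e 0) (e u)
    have h1 : ρ σ 0 = u := e.injective ((hρ σ 0).trans hσu)
    have h3 := hle hσ 0
    rwa [h1, sub_zero] at h3

end Cfsg.Agent.S3972
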