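import Cfsg.Statements.S4142
import Cfsg.Agent.PCore.Basic
import Mathlib

set_option autoImplicit false
open Cfsg

namespace Cfsg.Agent.S4142

/-- Let G be a finite group and N a normal subgroup. Then the conjugacy class of every element g outside N is a union of cosets of N (gn is conjugate to g for all n ∈ N) if and only if for every g outside N the centralizer of g in G has the same order as the centralizer of gN in G/N. -/
theorem result {G : Type*} [Group G] [Finite G] (N : Subgroup G) [N.Normal] :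
    (∀ g : G, g ∉ N → ∀ n ∈ N, ∃ x : G, x * g * x⁻¹ = g * n) ↔
      ∀ g : G, g ∉ N → Nat.card (Subgroup.centralizer ({g} : Set G)) =
        Nat.card (Subgroup.centralizer ({(QuotientGroup.mk g : G ⧸ N)} : Set (G ⧸ N))) := by
  classical
  suffices key : ∀ g : G, (∀ n ∈ N, ∃ x : G, x * g * x⁻¹ = g * n) ↔
      Nat.card (Subgroup.centralizer ({g} : Set G)) =
        Nat.card (Subgroup.centralizer ({(QuotientGroup.mk g : G ⧸ N)} : Set (G ⧸ N))) by
    exact ⟨fun h g hg => (key g).1 (h g hg), fun h g hg => (key g).2 (h g hg)⟩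
  intro g
  set K : Subgroup G := (Subgroup.centralizer ({(QuotientGroup.mk g : G ⧸ N)} : Set (G ⧸ N))).comap
    (QuotientGroup.mk' N) with hK
  have hKmem : ∀ x : G, x ∈ K ↔ g⁻¹ * (x * g * x⁻¹) ∈ N := by
    intro x
    rw [hK, Subgroup.mem_comap, Subgroup.mem_centralizer_singleton_iff, QuotientGroup.mk'_apply,
      ← QuotientGroup.mk_mul, ← QuotientGroup.mk_mul, eq_comm, QuotientGroup.eq]
    have hn : N.Normal := inferInstance
    rw [show (g * x)⁻¹ * (x * g) = x⁻¹ * (g⁻¹ * (x * g * x⁻¹)) * x by group]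
    exact ⟨fun h => by simpa [mul_assoc] using hn.conj_mem _ h x, fun h => by simpa using hn.conj_mem _ h x⁻¹⟩
  have hKcard : Nat.card K =
      Nat.card (Subgroup.centralizer ({(QuotientGroup.mk g : G ⧸ N)} : Set (G ⧸ N))) * Nat.card N :=
    (CfsgLib.PCore.card_comap_mk' N _).trans (mul_comm _ _)
  have hCK : Subgroup.centralizer ({g} : Set G) ≤ K := fun x hx => by
    rw [hKmem, Subgroup.mem_centralizer_singleton_iff.1 hx, mul_inv_cancel_right, inv_mul_cancel]
    exact N.one_mem
  -- the conjugates of `g` inside its coset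
  let f : K ⧸ (Subgroup.centralizer ({g} : Set G)).subgroupOf K → N :=
    Quotient.lift (fun x => ⟨g⁻¹ * ((x : G) * g * (x : G)⁻¹), (hKmem x).1 x.2⟩) fun a b hab => by
      have h' : a⁻¹ * b ∈ (Subgroup.centralizer ({g} : Set G)).subgroupOf K := QuotientGroup.leftRel_apply.1 hab
      rw [Subgroup.mem_subgroupOf, Subgroup.mem_centralizer_singleton_iff, Subgroup.coe_mul, Subgroup.coe_inv] at h'
      refine Subtype.ext ?_
      change g⁻¹ * ((a : G) * g * (a : G)⁻¹) = g⁻¹ * ((b : G) * g * (b : G)⁻¹)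
      congr 1
      calc (a : G) * g * (a : G)⁻¹ = (a : G) * (g * ((a : G)⁻¹ * b)) * (b : G)⁻¹ := by group
        _ = (a : G) * (((a : G)⁻¹ * b) * g) * (b : G)⁻¹ := by rw [h']
        _ = _ := by group
  have hfi : Function.Injective f := by
    intro a b
    obtain ⟨a, rfl⟩ := QuotientGroup.mk_surjective a
    obtain ⟨b, rfl⟩ := QuotientGroup.mk_surjective b
    intro h
    have h' : (a : G) * g * (a : G)⁻¹ = (b : G) * g * (b : G)⁻¹ := mul_left_cancel (congrArg Subtype.val h)
    rw [QuotientGroup.eq, Subgroup.mem_subgroupOf, Subgroup.mem_centralizer_singleton_iff,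
      Subgroup.coe_mul, Subgroup.coe_inv]
    calc (a : G)⁻¹ * b * g = (a : G)⁻¹ * ((b : G) * g * (b : G)⁻¹) * b := by group
      _ = (a : G)⁻¹ * ((a : G) * g * (a : G)⁻¹) * b := by rw [h']
      _ = _ := by group
  have hsurj : (∀ n ∈ N, ∃ x : G, x * g * x⁻¹ = g * n) ↔ Function.Surjective f := by
    constructor
    · rintro h ⟨n, hn⟩
      obtain ⟨x, hx⟩ := h n hn
      refine ⟨QuotientGroup.mk ⟨x, (hKmem x).2 (by rwa [hx, inv_mul_cancel_left])⟩, Subtype.ext ?_⟩
      change g⁻¹ * (x * g * x⁻¹) = n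
      rw [hx, inv_mul_cancel_left]
    · intro h n hn
      obtain ⟨y, hy⟩ := h ⟨n, hn⟩
      obtain ⟨y, rfl⟩ := QuotientGroup.mk_surjective y
      exact ⟨y, inv_mul_eq_iff_eq_mul.1 (congrArg Subtype.val hy :)⟩
  have hC : Nat.card ((Subgroup.centralizer ({g} : Set G)).subgroupOf K) =
      Nat.card (Subgroup.centralizer ({g} : Set G)) :=
    Nat.card_congr (Subgroup.subgroupOfEquivOfLe hCK).toEquiv
  have hmul := ((Subgroup.centralizer ({g} : Set G)).subgroupOf K).card_mul_index
  rw [hC, Subgroup.index_eq_card, hKcard] at hmul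
  rw [hsurj]
  constructor
  · intro hs
    rw [Nat.card_eq_of_bijective f ⟨hfi, hs⟩] at hmul
    exact mul_right_cancel₀ Nat.card_pos.ne' hmul
  · intro h
    rw [h] at hmul
    exact ((Nat.bijective_iff_injective_and_card f).2 ⟨hfi, mul_left_cancel₀ Nat.card_pos.ne' hmul⟩).2

end Cfsg.Agent.S4142
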