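import Cfsg.Statements.S0992
import Mathlib

set_option autoImplicit false
open Cfsg

namespace Cfsg.Agent.S0992

/-- Let G be a non-abelian finite simple group of even order not divisible by 8, and T a Sylow 2-subgroup. Then T is a Klein four-group and the centralizer of T has index 3 in the normalizer of T. -/
theorem result {G : Type*} [Group G] [Finite G] [IsSimpleGroup G] (hG : ¬ IsMulCommutative G) (h2 : Even (Nat.card G)) (h8 : ¬ 8 ∣ Nat.card G) (T : Sylow 2 G) : IsKleinFour ↥(T : Subgroup G) ∧ (Subgroup.centralizer ((T : Subgroup G) : Set G)).relIndex (Subgroup.normalizer ((T : Subgroup G) : Set G)) = 3 := by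
  classical
  have : Fact (Nat.Prime 2) := ⟨Nat.prime_two⟩
  have hTp := T.isPGroup'
  obtain ⟨k, hk⟩ := hTp.exists_card_eq
  have hmin : (Nat.card G).minFac = 2 := by
    rw [Nat.minFac_eq_two_iff]; exact even_iff_two_dvd.mp h2
  have hk12 : k = 1 ∨ k = 2 := by
    have h1 : k ≤ 2 := by
      by_contra h
      exact h8 ((show 2 ^ 3 ∣ 2 ^ k from Nat.pow_dvd_pow 2 (by omega)).trans
        (hk ▸ Subgroup.card_subgroup_dvd_card _))
    have h0 : k ≠ 0 := fun h => by
      rw [h, pow_zero] at hk
      have := T.not_dvd_index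
      have hm := (T : Subgroup G).card_mul_index
      rw [hk, one_mul] at hm
      exact this (hm ▸ even_iff_two_dvd.mp h2)
    omega
  -- no normal complement
  have nocompl : ∀ K : Subgroup G, K.Normal → ¬ Subgroup.IsComplement' K (T : Subgroup G) := by
    intro K hK hc
    have hcm := hc.card_mul
    rcases hK.eq_bot_or_eq_top with h | h
    · rw [h, Subgroup.card_bot, one_mul] at hcm
      refine hG ?_
      have hT : (T : Subgroup G) = ⊤ := Subgroup.eq_top_of_card_eq _ hcm
      have hp2 : IsPGroup 2 G := IsPGroup.of_card (n := k) (by rw [← hcm, hk])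
      haveI : Nontrivial G := IsSimpleGroup.toNontrivial
      haveI := hp2.center_nontrivial
      have hcen : Subgroup.center G = ⊤ := (IsSimpleGroup.eq_bot_or_eq_top_of_normal (Subgroup.center G) inferInstance).resolve_left
        ((Subgroup.nontrivial_iff_ne_bot _).mp inferInstance)
      exact ⟨⟨fun a b => (Subgroup.mem_center_iff.mp (hcen ▸ Subgroup.mem_top b) a)⟩⟩
    · rw [h, Subgroup.card_top, hk] at hcm
      have hpos : 0 < Nat.card G := Nat.card_pos
      have h2k : 2 ≤ 2 ^ k := Nat.le_self_pow (by omega) 2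
      have := Nat.mul_le_mul_left (Nat.card G) h2k
      omega
  have hcyc : ¬ IsCyclic ↥(T : Subgroup G) := fun hc =>
    nocompl _ inferInstance (IsCyclic.isComplement' hmin hc)
  have hk2 : k = 2 := hk12.resolve_left fun h => hcyc (isCyclic_of_prime_card (p := 2) (by rw [hk, h]; norm_num))
  rw [hk2] at hk
  have hexp : Monoid.exponent ↥(T : Subgroup G) = 2 := by
    haveI : Nontrivial ↥(T : Subgroup G) := Finite.one_lt_card_iff_nontrivial.mp (by rw [hk]; norm_num)
    refine (Monoid.exponent_eq_prime_iff Nat.prime_two).mpr fun g hg => ?_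
    have hd : orderOf g ∣ 2 ^ 2 := hk ▸ orderOf_dvd_natCard g
    obtain ⟨j, hj, hjo⟩ := (Nat.dvd_prime_pow Nat.prime_two).mp hd
    interval_cases j
    · exact absurd (orderOf_eq_one_iff.mp (by rw [hjo, pow_zero])) hg
    · rw [hjo, pow_one]
    · exact absurd (isCyclic_of_orderOf_eq_card g (by rw [hjo, hk])) hcyc
  have hV : IsKleinFour ↥(T : Subgroup G) := ⟨by rw [hk]; norm_num, hexp⟩
  refine ⟨hV, ?_⟩
  set N := Subgroup.normalizer ((T : Subgroup G) : Set G) with hN
  set C := Subgroup.centralizer ((T : Subgroup G) : Set G) with hC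
  have hTC : (T : Subgroup G) ≤ C := by
    intro x hx
    refine Subgroup.mem_centralizer_iff.mpr fun y hy => ?_
    exact congrArg Subtype.val (mul_comm_of_exponent_two hexp (⟨y, hy⟩ : ↥(T : Subgroup G)) ⟨x, hx⟩)
  -- divisors of six
  have hdvd : C.relIndex N ∣ 6 := by
    let X := {x : ↥(T : Subgroup G) // x ≠ 1}
    let φ : N →* Equiv.Perm X := MonoidHom.mk' (fun g =>
      (((MulDistribMulAction.toMulAut N ↥(T : Subgroup G)) g).toEquiv.subtypeEquiv fun x =>
        not_congr (MulEquiv.map_eq_one_iff _).symm)) fun a b => by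
      ext x; simp [mul_smul]
    have hker : φ.ker = C.subgroupOf N := by
      ext g
      rw [MonoidHom.mem_ker, Subgroup.mem_subgroupOf, hC, Subgroup.mem_centralizer_iff]
      constructor
      · intro hg x hx
        by_cases hx1 : x = 1
        · rw [hx1, one_mul, mul_one]
        · have h := congrArg Subtype.val (congrArg Subtype.val
            (Equiv.congr_fun hg ⟨⟨x, hx⟩, fun h => hx1 (congrArg Subtype.val h)⟩))
          have h' : (g : G) * x * (g : G)⁻¹ = x := h
          exact (mul_inv_eq_iff_eq_mul.mp h').symm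
      · intro hg
        refine Equiv.ext fun x => Subtype.ext (Subtype.ext ?_)
        show (g : G) * ((x.1 : ↥(T : Subgroup G)) : G) * (g : G)⁻¹ = _
        rw [← hg _ x.1.2, mul_inv_cancel_right]
        rfl
    rw [Subgroup.relIndex, ← hker, Subgroup.index_ker]
    refine (Subgroup.card_subgroup_dvd_card _).trans (dvd_of_eq ?_)
    haveI := Fintype.ofFinite ↥(T : Subgroup G)
    rw [Nat.card_perm, Nat.card_eq_fintype_card, Fintype.card_subtype_compl, Fintype.card_subtype_eq,
      ← Nat.card_eq_fintype_card, hk]
    rfl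
  have hodd : ¬ 2 ∣ C.relIndex N := by
    intro h
    have h1 := Subgroup.relIndex_mul_relIndex _ _ _ hTC (show C ≤ N from ?_)
    · refine T.not_dvd_index ((h.trans (Dvd.intro_left _ h1)).trans ?_)
      exact Subgroup.relIndex_dvd_index_of_le Subgroup.le_normalizer
    · intro c hc
      refine Subgroup.mem_normalizer_iff.mpr fun x => ⟨fun hx => ?_, fun hx => ?_⟩
      · rw [← Subgroup.mem_centralizer_iff.mp hc x hx, mul_inv_cancel_right]
        exact hx
      · have h := Subgroup.mem_centralizer_iff.mp hc _ hx
        have h' : c * x * c⁻¹ = x := by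
          have h2 : c * x * c⁻¹ * c = c * x := inv_mul_cancel_right _ _
          rw [h] at h2
          exact mul_left_cancel h2
        rwa [h'] at hx
  have hne1 : C.relIndex N ≠ 1 := fun h =>
    nocompl _ inferInstance (MonoidHom.ker_transferSylow_isComplement' T (Subgroup.relIndex_eq_one.mp h))
  have := Nat.le_of_dvd (by norm_num) hdvd
  interval_cases hh : C.relIndex N <;> omega

end Cfsg.Agent.S0992
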