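import Cfsg.Statements.S0960
import Cfsg.Agent.DefectOne.Bridge

set_option autoImplicit false
open Cfsg CfsgLib.DefectOne CfsgLib.CharBasics

namespace Cfsg.Agent.S0960

/-- Let p be an odd prime and G a finite group whose Sylow p-subgroup P has order p; let e be the index of C_G(P) in N_G(P) (a divisor of p − 1) and fix a maximal ideal M of the algebraic integers containing p. Then the principal block of G consists of exactly e + (p - 1) / e irreducible characters, and the degree d of each of them satisfies d ≡ 1, d ≡ -1, d ≡ e or d ≡ -e modulo p. -/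
theorem result {G : Type*} [Group G] [Finite G] (p : ℕ) [Fact p.Prime] (M : Ideal Cfsg.AlgInt) (hM : Cfsg.IsPModular p M) (hodd : p ≠ 2) (P : Sylow p G) (hP : Nat.card P = p) (e : ℕ) (he : (Subgroup.centralizer ((P : Subgroup G) : Set G)).relIndex (Subgroup.normalizer ((P : Subgroup G) : Set G)) = e) : Nat.card (Cfsg.principalBlock M G) = e + (p - 1) / e ∧ ∀ χ ∈ Cfsg.principalBlock M G, ((Cfsg.charDegree (χ : G → ℂ) : ℤ) ≡ 1 [ZMOD p] ∨ (Cfsg.charDegree (χ : G → ℂ) : ℤ) ≡ -1 [ZMOD p] ∨ (Cfsg.charDegree (χ : G → ℂ) : ℤ) ≡ (e : ℤ) [ZMOD p] ∨ (Cfsg.charDegree (χ : G → ℂ) : ℤ) ≡ -(e : ℤ) [ZMOD p]) := by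
  classical
  haveI : Fintype G := Fintype.ofFinite G
  obtain ⟨D, hD⟩ := exists_data P hP
  rw [← hD] at he
  rw [D.relIndex_eq, ← D.card_U_one] at he
  subst he
  obtain ⟨F⟩ := D.exists_family hM D.one
  rw [D.principalBlock_eq hM]
  refine ⟨by rw [D.card_blk hM, D.index_eq], fun χ hχ => ?_⟩
  rw [D.blk_eq_union F] at hχ
  rcases hχ with hχ | ⟨q, rfl⟩
  · have h := D.deg_rest hM F hχ
    rw [D.odeg_one, Nat.cast_one, mul_one] at h
    rcases D.rest_d hM F hχ with h1 | h1 <;> rw [h1] at h
    · exact Or.inr (Or.inl h)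
    · exact Or.inl (by simpa using h)
  · have h := D.deg_theta hM F q
    rw [show charDegree (D.one : D.V → ℂ) = 1 from by
      have := D.odeg_one
      rwa [Data.odeg, D.orb_one, Finset.card_singleton, one_mul] at this, mul_one, ← D.card_U_one] at h
    rcases F.sign with h1 | h1 <;> rw [h1] at h
    · exact Or.inr (Or.inr (Or.inl (by simpa using h)))
    · exact Or.inr (Or.inr (Or.inr (by simpa using h)))

end Cfsg.Agent.S0960
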