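import Cfsg.Statements.S0496
import Cfsg.Agent.SmallOrders.Below1092
-- import your own Cfsg.Agent.* helpers here

set_option autoImplicit false
open Cfsg CfsgLib.SmallOrd

namespace Cfsg.Agent.S0496

/-- A non-abelian finite simple group of order at most 1092 has order 60, 168, 360, 504, 660 or 1092. -/
theorem result {G : Type*} [Group G] [Finite G] [IsSimpleGroup G]
    (hG : ¬ IsMulCommutative G) (h : Nat.card G ≤ 1092) :
    Nat.card G = 60 ∨ Nat.card G = 168 ∨ Nat.card G = 360 ∨ Nat.card G = 504 ∨ Nat.card G = 660 ∨
      Nat.card G = 1092 := by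
  have h' := OrdersA.mem_keeps hG Nat.card_pos h
  simp only [OrdersA.keeps, List.mem_cons, List.not_mem_nil, or_false] at h'
  rcases h' with e | e | e | e | e | e | e | e | e | e | e | e | e | e | e | e
  · omega
  · omega
  · omega
  · exact (blockOK_false (G := G) (p := 7) (m := 60) (b := 20) (by rw [e]; decide +kernel)).elim
  · exact (blockOK_false (G := G) (p := 5) (m := 96) (b := 21) (by rw [e]; decide +kernel)).elim
  · omega
  · omega
  · exact absurd e Below1092.ne720
  · exact (blockOK_false (G := G) (p := 7) (m := 108) (b := 27) (by rw [e]; decide +kernel)).elim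
  · exact (blockOK_false (G := G) (p := 7) (m := 120) (b := 28) (by rw [e]; decide +kernel)).elim
  · exact absurd e Below1092.ne900
  · exact absurd e Below1092.ne960
  · exact (blockOK_false (G := G) (p := 7) (m := 144) (b := 31) (by rw [e]; decide +kernel)).elim
  · exact (blockOK_false (G := G) (p := 13) (m := 80) (b := 32) (by rw [e]; decide +kernel)).elim
  · exact absurd e Below1092.ne1080
  · omega

end Cfsg.Agent.S0496
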