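import Cfsg.Statements.S0910
import Cfsg.Agent.CharBasics.Burnside
import Cfsg.Agent.Blocks.Idempotent
-- import your own Cfsg.Agent.* helpers here

set_option autoImplicit false
open Cfsg

namespace Cfsg.Agent.S0910

/-- Let G be a non-abelian finite simple group and p a prime. If an irreducible character χ lies in the principal block (relative to a maximal ideal of the algebraic integers containing p) and χ 1 is a power of p, then χ is the principal character. -/
theorem result {G : Type*} [Group G] [Finite G] (p : ℕ) [Fact p.Prime] (M : Ideal Cfsg.AlgInt) (hM : Cfsg.IsPModular p M) [IsSimpleGroup G] (hna : ∃ a b : G, a * b ≠ b * a) (χ : Cfsg.IrrCharacter G) (hχ : χ ∈ Cfsg.principalBlock M G) (k : ℕ) (hdeg : (χ : G → ℂ) 1 = (p : ℂ) ^ k) : (χ : G → ℂ) = fun _ => 1 := by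
  classical
  haveI : Fintype G := Fintype.ofFinite G
  have hc := CfsgLib.CharBasics.isCharacter_of_irr χ.2
  have hdeg' : Cfsg.charDegree (χ : G → ℂ) = p ^ k := by
    have h := (CfsgLib.CharBasics.apply_one hc).symm.trans hdeg
    exact_mod_cast h
  obtain ⟨z, hz1, hzp⟩ : ∃ z : G, z ≠ 1 ∧ ¬ p ∣ (Subgroup.centralizer ({z} : Set G)).index := by
    obtain ⟨a, b, hab⟩ := hna
    by_cases hpG : p ∣ Nat.card G
    · obtain ⟨P⟩ := (inferInstance : Nonempty (Sylow p G))
      haveI : Nontrivial (P : Subgroup G) := (Subgroup.nontrivial_iff_ne_bot _).2 (P.ne_bot_of_dvd_card hpG)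
      haveI := P.2.center_nontrivial
      obtain ⟨z, hz⟩ := exists_ne (1 : Subgroup.center (P : Subgroup G))
      refine ⟨((z : (P : Subgroup G)) : G), fun e => hz (Subtype.ext (Subtype.ext e)), fun h => P.not_dvd_index (h.trans ?_)⟩
      exact Subgroup.index_dvd_of_le fun y hy => Subgroup.mem_centralizer_singleton_iff.2
        (congrArg Subtype.val (Subgroup.mem_center_iff.1 z.2 ⟨y, hy⟩))
    · exact ⟨a, fun e => hab (by rw [e]; simp), fun h => hpG (h.trans (Subgroup.index_dvd_card _))⟩
  have hne : (χ : G → ℂ) z ≠ 0 := by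
    intro h0
    have h := (hχ : Cfsg.SameBlock M _ _) z
    rw [Cfsg.centralChar, Cfsg.centralChar, h0, mul_zero, zero_div, sub_zero, mul_one, div_one] at h
    exact hzp ((CfsgLib.Blocks.memLocalIdeal_natCast_iff hM _).1 h)
  have hnorm := CfsgLib.CharBasics.exists_norm_eq_degree χ z
    (by rw [hdeg']; exact (((Fact.out : p.Prime).coprime_iff_not_dvd.2 hzp).pow_left k).symm) hne
  rcases IsSimpleGroup.eq_bot_or_eq_top_of_normal _ (CfsgLib.CharBasics.charKer_normal hc) with hker | hker
  · exfalso
    have hzc : z ∈ Subgroup.center G := Subgroup.mem_center_iff.2 fun x => by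
      have h1 : x * z * x⁻¹ * z⁻¹ ∈ CfsgLib.CharBasics.charKer _ hc :=
        CfsgLib.CharBasics.commutator_mem_charKer χ.2 hnorm x
      rw [hker, Subgroup.mem_bot, mul_inv_eq_one, mul_inv_eq_iff_eq_mul] at h1
      exact h1
    rcases IsSimpleGroup.eq_bot_or_eq_top_of_normal (Subgroup.center G) inferInstance with h | h
    · rw [h, Subgroup.mem_bot] at hzc
      exact hz1 hzc
    · obtain ⟨a, b, hab⟩ := hna
      have ha : a ∈ Subgroup.center G := h ▸ Subgroup.mem_top a
      exact hab (Subgroup.mem_center_iff.1 ha b).symm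
  · have hall : ∀ x : G, (χ : G → ℂ) x = (χ : G → ℂ) 1 := fun x => by
      rw [← CfsgLib.CharBasics.mem_charKer hc, hker]; trivial
    by_contra hno
    have h0 := CfsgLib.CharBasics.sum_irr_eq_zero χ.2 hno
    rw [Finset.sum_congr rfl (fun x _ => hall x), Finset.sum_const, nsmul_eq_mul] at h0
    exact mul_ne_zero (Nat.cast_ne_zero.2 (Finset.card_pos.2 Finset.univ_nonempty).ne')
      (CfsgLib.CharBasics.apply_one_ne_zero χ.2) h0

end Cfsg.Agent.S0910
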