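import Cfsg.Statements.S0904
import Cfsg.Agent.Blocks.Heights
import Cfsg.Agent.Blocks.Section
import Cfsg.Agent.Blocks.Glauberman
import Cfsg.Agent.CharBasics.Central
import Cfsg.Agent.S0910
import Cfsg.Agent.S0914

set_option autoImplicit false
open Cfsg CfsgLib CfsgLib.CharBasics CfsgLib.Blocks
open scoped ComplexConjugate

namespace Cfsg.Agent.S0904

universe u

theorem vanish_of_full {G : Type u} [Group G] [Finite G] (p : ℕ) [Fact p.Prime] (χ : IrrCharacter G)
    (hd : p ^ (Nat.card G).factorization p ∣ charDegree (χ : G → ℂ)) (g : G) (hg : p ∣ orderOf g) :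
    (χ : G → ℂ) g = 0 := by
  classical
  haveI := Fintype.ofFinite G
  have hp : p.Prime := Fact.out
  obtain ⟨M, hM⟩ := exists_modular hp
  have hle : (Nat.card G).factorization p ≤ (charDegree (χ : G → ℂ)).factorization p :=
    (hp.pow_dvd_iff_le_factorization (charDegree_pos χ.2).ne').1 hd
  have hnd : ¬ p ∣ Nat.card G / charDegree (χ : G → ℂ) := by
    intro h
    have hq0 : Nat.card G / charDegree (χ : G → ℂ) ≠ 0 :=
      (Nat.div_pos (Nat.le_of_dvd Nat.card_pos (degree_dvd χ)) (charDegree_pos χ.2)).ne'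
    have h1 := hp.factorization_pos_of_dvd hq0 h
    rw [← Nat.mul_div_cancel' (degree_dvd χ),
      Nat.factorization_mul (charDegree_pos χ.2).ne' hq0, Finsupp.add_apply] at hle
    omega
  have hs := (Cfsg.Agent.S0914.result p M hM χ).1 hnd
  have h0 : blockDefect p (blockOf M (χ : G → ℂ)) = 0 := by
    rw [blockDefect, hs, Set.image_singleton, csInf_singleton, Nat.sub_eq_zero_iff_le]
    exact hle
  exact apply_eq_zero_of_defect_zero hM (isPBlock_blockOf M χ) h0 (mem_blockOf_self hM χ) hg

/-- No element of order divisible by `r * t`, `t` another prime. -/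
theorem no_mixed {G : Type u} [Group G] [Finite G] [IsSimpleGroup G] (hna : ∃ a b : G, a * b ≠ b * a)
    (p q r a b : ℕ) (hp : p.Prime) (hq : q.Prime) (hr : r.Prime) (hpr : p ≠ r) (hqr : q ≠ r)
    (hcard : Nat.card G = p ^ a * q ^ b * r) (g : G) (hgp : p ∣ orderOf g) (hgr : r ∣ orderOf g) : False := by
  classical
  haveI : Fintype G := Fintype.ofFinite G
  haveI : Fintype (IrrCharacter G) := @Fintype.ofFinite _ finite_irrCharacter
  haveI := Fact.mk hp
  haveI := Fact.mk hr
  obtain ⟨M, hM⟩ := exists_modular hp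
  obtain ⟨Q, hQ⟩ := exists_modular hq
  set B := principalBlock M G with hBdef
  have hB : IsPBlock M B := isPBlock_principal (G := G)
  have h1B : (oneChar : IrrCharacter G) ∈ B := oneChar_mem_principal hM
  have hsum : ∑ᶠ χ ∈ B, (χ : G → ℂ) g * conj ((χ : G → ℂ) 1) = 0 :=
    weak_block_orth' hM hB (x := 1) (y := g) (by simp [hp.ne_one]) hgp
  have hv : (Nat.card G).factorization r = 1 := by
    rw [hcard]
    have h2 : (p ^ a * q ^ b).factorization r = 0 := Nat.factorization_eq_zero_of_not_dvd fun h => by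
      rcases hr.dvd_mul.1 h with h | h
      · exact hpr ((Nat.prime_dvd_prime_iff_eq hr hp).1 (hr.dvd_of_dvd_pow h)).symm
      · exact hqr ((Nat.prime_dvd_prime_iff_eq hr hq).1 (hr.dvd_of_dvd_pow h)).symm
    rw [Nat.factorization_mul (mul_ne_zero (pow_ne_zero _ hp.ne_zero) (pow_ne_zero _ hq.ne_zero)) hr.ne_zero,
      Finsupp.add_apply, h2, hr.factorization_self]
  have hkey : ∀ χ ∈ B, χ ≠ oneChar → q ∣ charDegree (χ : G → ℂ) ∨ (χ : G → ℂ) g = 0 := by
    intro χ hχ hne
    by_cases hqd : q ∣ charDegree (χ : G → ℂ)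
    · exact Or.inl hqd
    · refine Or.inr ?_
      by_cases hrd : r ∣ charDegree (χ : G → ℂ)
      · exact vanish_of_full r χ (by rw [hv, pow_one]; exact hrd) g hgr
      · have hdvd := degree_dvd χ
        rw [hcard] at hdvd
        have h1 : (charDegree (χ : G → ℂ)).Coprime r := ((hr.coprime_iff_not_dvd.2 hrd).symm)
        have h2 : (charDegree (χ : G → ℂ)).Coprime (q ^ b) :=
          ((hq.coprime_iff_not_dvd.2 hqd).symm).pow_right b
        obtain ⟨k, -, hk⟩ := (Nat.dvd_prime_pow hp).1 (h2.dvd_of_dvd_mul_right (h1.dvd_of_dvd_mul_right hdvd))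
        refine absurd ?_ hne
        refine Subtype.ext (Cfsg.Agent.S0910.result p M hM hna χ hχ k ?_)
        rw [apply_one (isCharacter_of_irr χ.2), hk]
        push_cast
        rfl
  rw [finsum_mem_def, finsum_eq_sum_of_fintype,
    ← Finset.add_sum_erase _ _ (Finset.mem_univ (oneChar : IrrCharacter G)), Set.indicator_of_mem h1B] at hsum
  simp only [oneChar_apply, map_one, mul_one] at hsum
  refine not_memLocalIdeal_one hQ ?_
  rw [eq_neg_of_add_eq_zero_left hsum]
  refine memLocalIdeal_neg (memLocalIdeal_sum hQ _ fun χ hχ => ?_)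
  rw [Set.indicator_apply]
  split_ifs with hmem
  · rcases hkey χ hmem (Finset.mem_erase.1 hχ).1 with h | h
    · refine memLocalIdeal_mul_left hQ (memLocalRing_apply hQ χ g) ?_
      rw [← apply_inv (isCharacter_of_irr χ.2), inv_one, apply_one (isCharacter_of_irr χ.2),
        memLocalIdeal_natCast_iff hQ]
      exact h
    · rw [h, zero_mul]
      exact memLocalIdeal_zero hQ
  · exact memLocalIdeal_zero hQ

/-- Let G be a finite simple group of order p ^ a * q ^ b * r with p, q, r distinct primes. Then every Sylow r-subgroup S of G satisfies C_G(S) = S. -/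
theorem result {G : Type*} [Group G] [Finite G] [IsSimpleGroup G] (p q r a b : ℕ) (hp : p.Prime) (hq : q.Prime) [Fact r.Prime] (hpq : p ≠ q) (hpr : p ≠ r) (hqr : q ≠ r) (hcard : Nat.card G = p ^ a * q ^ b * r) (S : Sylow r G) : Subgroup.centralizer (S : Set G) = (S : Subgroup G) := by
  classical
  have hr : r.Prime := Fact.out
  by_cases hna : ∃ x y : G, x * y ≠ y * x
  · have hScard : Nat.card S = r := by
      rw [S.card_eq_multiplicity, hcard]
      have h2 : (p ^ a * q ^ b).factorization r = 0 := Nat.factorization_eq_zero_of_not_dvd fun h => by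
        rcases hr.dvd_mul.1 h with h | h
        · exact hpr ((Nat.prime_dvd_prime_iff_eq hr hp).1 (hr.dvd_of_dvd_pow h)).symm
        · exact hqr ((Nat.prime_dvd_prime_iff_eq hr hq).1 (hr.dvd_of_dvd_pow h)).symm
      rw [Nat.factorization_mul (mul_ne_zero (pow_ne_zero _ hp.ne_zero) (pow_ne_zero _ hq.ne_zero)) hr.ne_zero,
        Finsupp.add_apply, h2, hr.factorization_self, pow_one]
    obtain ⟨s, hs⟩ := exists_prime_orderOf_dvd_card' (G := S) r (dvd_of_eq hScard.symm)
    haveI : IsCyclic S := isCyclic_of_prime_card hScard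
    have hsub : (S : Subgroup G) ≤ Subgroup.centralizer (S : Set G) := by
      intro x hx w hw
      exact congrArg Subtype.val ((IsCyclic.commGroup (α := S)).mul_comm ⟨w, hw⟩ ⟨x, hx⟩)
    refine (Subgroup.eq_of_le_of_card_ge hsub ?_).symm
    rw [hScard]
    set C := Subgroup.centralizer (S : Set G) with hC
    have huniq : ∀ {t : ℕ}, t.Prime → t ∣ Nat.card C → t = r := by
      intro t ht htd
      by_contra htr
      haveI := Fact.mk ht
      obtain ⟨z, hz⟩ := exists_prime_orderOf_dvd_card' (G := C) t htd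
      have hcomm : Commute (s : G) (z : G) := Subgroup.mem_centralizer_iff.1 z.2 _ s.2
      have hord : orderOf ((s : G) * (z : G)) = r * t := by
        rw [hcomm.orderOf_mul_eq_mul_orderOf_of_coprime
          (by rw [Subgroup.orderOf_coe, Subgroup.orderOf_coe, hs, hz]; exact (Nat.coprime_primes hr ht).2 (Ne.symm htr)),
          Subgroup.orderOf_coe, Subgroup.orderOf_coe, hs, hz]
      have htG := (htd.trans (Subgroup.card_subgroup_dvd_card C))
      rw [hcard] at htG
      rcases ht.dvd_mul.1 htG with h | h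
      · rcases ht.dvd_mul.1 h with h | h
        · obtain rfl := (Nat.prime_dvd_prime_iff_eq ht hp).1 (ht.dvd_of_dvd_pow h)
          exact no_mixed hna t q r a b hp hq hr hpr hqr hcard _ (hord ▸ dvd_mul_left _ _) (hord ▸ dvd_mul_right _ _)
        · obtain rfl := (Nat.prime_dvd_prime_iff_eq ht hq).1 (ht.dvd_of_dvd_pow h)
          exact no_mixed hna t p r b a hq hp hr hqr hpr (by rw [hcard]; ring) _ (hord ▸ dvd_mul_left _ _)
            (hord ▸ dvd_mul_right _ _)
      · exact htr ((Nat.prime_dvd_prime_iff_eq ht hr).1 h)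
    have hk := Nat.eq_prime_pow_of_unique_prime_dvd (Nat.card_pos (α := C)).ne' huniq
    have hk1 : (Nat.card C).primeFactorsList.length ≤ 1 := by
      have h := Subgroup.card_subgroup_dvd_card C
      rw [hk, hr.pow_dvd_iff_le_factorization Nat.card_pos.ne', hcard] at h
      refine h.trans ?_
      have h2 : (p ^ a * q ^ b).factorization r = 0 := Nat.factorization_eq_zero_of_not_dvd fun h => by
        rcases hr.dvd_mul.1 h with h | h
        · exact hpr ((Nat.prime_dvd_prime_iff_eq hr hp).1 (hr.dvd_of_dvd_pow h)).symm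
        · exact hqr ((Nat.prime_dvd_prime_iff_eq hr hq).1 (hr.dvd_of_dvd_pow h)).symm
      rw [Nat.factorization_mul (mul_ne_zero (pow_ne_zero _ hp.ne_zero) (pow_ne_zero _ hq.ne_zero)) hr.ne_zero,
        Finsupp.add_apply, h2, hr.factorization_self]
    calc Nat.card C = r ^ (Nat.card C).primeFactorsList.length := hk
      _ ≤ r ^ 1 := Nat.pow_le_pow_right hr.pos hk1
      _ = r := pow_one r
  · push Not at hna
    have htop : (S : Subgroup G) = ⊤ := by
      letI : CommGroup G := { ‹Group G› with mul_comm := hna }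
      have hP : (Nat.card G).Prime := IsSimpleGroup.prime_card
      have hrG : r ∣ Nat.card G := hcard ▸ dvd_mul_left r _
      obtain h := (Nat.prime_dvd_prime_iff_eq hr hP).1 hrG
      refine Subgroup.eq_top_of_card_eq _ ?_
      rw [S.card_eq_multiplicity, ← h, hr.factorization_self, pow_one]
    rw [htop]
    exact Subgroup.centralizer_eq_top_iff_subset.2 fun x _ => Subgroup.mem_center_iff.2 fun y => hna y x

end Cfsg.Agent.S0904
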