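import Cfsg.Statements.S4261

set_option autoImplicit false
open Cfsg

namespace Cfsg.Agent.S4261

theorem exists_minimal_normal_pGroup {Q : Type*} [Group Q] [Finite Q] (hQ : Group.IsSolvable Q)
    [Nontrivial Q] : ∃ A : Subgroup Q, ∃ p : ℕ, p.Prime ∧ A.Normal ∧ A ≠ ⊥ ∧ IsPGroup p A ∧
      ∀ a ∈ A, ∀ b ∈ A, a * b = b * a := by
  obtain ⟨A, hA⟩ := exists_minimal_of_wellFoundedLT (α := Subgroup Q) (P := fun A => A.Normal ∧ A ≠ ⊥)
    ⟨⊤, inferInstance, bot_ne_top.symm⟩
  obtain ⟨hAn, hAb⟩ := hA.prop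
  have := hQ
  have hcomm : ⁅A, A⁆ = ⊥ := by
    by_contra h
    exact (IsSolvable.commutator_lt_of_ne_bot hAb).not_ge
      (hA.2 ⟨Subgroup.commutator_normal A A, h⟩ (Subgroup.commutator_le_right A A))
  have hab : ∀ a ∈ A, ∀ b ∈ A, a * b = b * a := fun a ha b hb => by
    have h := Subgroup.commutator_mem_commutator ha hb
    rw [hcomm, Subgroup.mem_bot, commutatorElement_eq_one_iff_mul_comm] at h
    exact h
  have hne : Nat.card A ≠ 1 := by rwa [ne_eq, Subgroup.card_eq_one]
  obtain ⟨p, hp, hpd⟩ := Nat.exists_prime_and_dvd hne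
  have := Fact.mk hp
  refine ⟨A, p, hp, hAn, hAb, ?_, hab⟩
  let B : Subgroup Q :=
    { carrier := {a | a ∈ A ∧ a ^ p = 1}
      one_mem' := ⟨A.one_mem, one_pow p⟩
      mul_mem' := fun {a b} ha hb => ⟨A.mul_mem ha.1 hb.1, by
        rw [(show Commute a b from hab a ha.1 b hb.1).mul_pow, ha.2, hb.2, one_mul]⟩
      inv_mem' := fun {a} ha => ⟨A.inv_mem ha.1, by rw [inv_pow, ha.2, inv_one]⟩ }
  have hBn : B.Normal := ⟨fun a ha g => ⟨hAn.conj_mem a ha.1 g, by
    rw [conj_pow, ha.2, mul_one, mul_inv_cancel]⟩⟩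
  have hBne : B ≠ ⊥ := by
    obtain ⟨a, ha⟩ := exists_prime_orderOf_dvd_card' p hpd
    intro h
    have hm : (a : Q) ∈ B := ⟨a.2, by
      rw [← SubmonoidClass.coe_pow, ← ha, pow_orderOf_eq_one, OneMemClass.coe_one]⟩
    rw [h, Subgroup.mem_bot, OneMemClass.coe_eq_one, ← orderOf_eq_one_iff] at hm
    exact hp.ne_one (ha.symm.trans hm)
  intro a
  exact ⟨1, by rw [pow_one]; exact Subtype.ext (hA.2 ⟨hBn, hBne⟩ (fun x hx => hx.1) a.2).2⟩

/-- Let M be a maximal subgroup of a finite solvable group G such that x^[G : M] lies in M for every x in G. Then M is normal in G. -/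
theorem result {G : Type*} [Group G] [Finite G] (hG : Group.IsSolvable G) (M : Subgroup G) (hM : IsCoatom M)
    (hexp : ∀ x : G, x ^ M.index ∈ M) : M.Normal := by
  set C := M.normalCore with hC
  set f := QuotientGroup.mk' C with hf
  have hfs : Function.Surjective f := QuotientGroup.mk'_surjective C
  have hcm : (M.map f).comap f = M := by
    rw [Subgroup.comap_map_eq, QuotientGroup.ker_mk', sup_eq_left]
    exact Subgroup.normalCore_le M
  set M' := M.map f with hM'
  have hidx : M'.index = M.index := by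
    rw [← Subgroup.index_comap_of_surjective M' hfs, hcm]
  have htop : M' ≠ ⊤ := fun h => hM.1 (by rw [← hcm, h, Subgroup.comap_top])
  have : Nontrivial (G ⧸ C) := by
    by_contra h
    rw [not_nontrivial_iff_subsingleton] at h
    exact htop (eq_top_iff.mpr fun q _ => Subsingleton.elim 1 q ▸ M'.one_mem)
  have hcore : ∀ A : Subgroup (G ⧸ C), A.Normal → A ≤ M' → A = ⊥ := by
    intro A hA hle
    have := hA
    have h1 : A.comap f ≤ C := Subgroup.normal_le_normalCore.mpr
      ((Subgroup.comap_mono hle).trans hcm.le)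
    rw [← Subgroup.map_comap_eq_self_of_surjective hfs A, eq_bot_iff]
    refine (Subgroup.map_mono h1).trans ?_
    rintro _ ⟨c, hc, rfl⟩
    exact (QuotientGroup.eq_one_iff c).mpr hc
  have := hG
  obtain ⟨A, p, hp, hAn, hAb, hAp, hAc⟩ :=
    exists_minimal_normal_pGroup (Q := G ⧸ C) inferInstance
  have := Fact.mk hp
  have hmax : ∀ H : Subgroup (G ⧸ C), M' < H → H = ⊤ := by
    intro H hH
    have : M < H.comap f := lt_of_le_of_ne (hcm.ge.trans (Subgroup.comap_mono hH.le)) fun h =>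
      hH.ne ((congrArg (Subgroup.map f) h).trans (Subgroup.map_comap_eq_self_of_surjective hfs H))
    rw [← Subgroup.map_comap_eq_self_of_surjective hfs H, hM.2 _ this,
      Subgroup.map_top_of_surjective f hfs]
  have hsup : M' ⊔ A = ⊤ := hmax _ (lt_of_le_of_ne le_sup_left fun h =>
    hAb (hcore A hAn (le_sup_right.trans h.ge)))
  have hinf : M' ⊓ A = ⊥ := by
    refine hcore _ ?_ inf_le_left
    rw [← Subgroup.normalizer_eq_top_iff, eq_top_iff, ← hsup, sup_le_iff]
    refine ⟨fun m hm => ?_, fun a ha => ?_⟩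
    · refine Subgroup.mem_normalizer_fintype fun n hn => ?_
      exact ⟨M'.mul_mem (M'.mul_mem hm hn.1) (M'.inv_mem hm), hAn.conj_mem n hn.2 m⟩
    · refine Subgroup.mem_normalizer_fintype fun n hn => ?_
      rw [hAc a ha n hn.2, mul_inv_cancel_right]
      exact hn
  have hcompl : M'.IsComplement' A := by
    refine Subgroup.isComplement'_of_disjoint_and_mul_eq_univ (disjoint_iff.mpr hinf) ?_
    rw [← Subgroup.mul_normal M' A, hsup, Subgroup.coe_top]
  obtain ⟨k, hk⟩ := IsPGroup.iff_card.mp hAp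
  have hMk : M.index = p ^ k := by rw [← hidx, hcompl.symm.index_eq_card, hk]
  have hexp' : ∀ q : G ⧸ C, q ^ (p ^ k) ∈ M' := by
    intro q
    obtain ⟨x, rfl⟩ := hfs q
    exact ⟨_, hexp x, by rw [map_pow, hMk]⟩
  have hQp : IsPGroup p (G ⧸ C) := by
    intro q
    obtain ⟨a, m, hm, ham⟩ := Nat.exists_eq_pow_mul_and_not_dvd (n := orderOf q)
      (orderOf_pos q).ne' p hp.ne_one
    refine ⟨a, ?_⟩
    have hN := M'.normalCore_normal
    have hmem : q ^ p ^ a ∈ M'.normalCore := by
      intro g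
      set y := g * q ^ p ^ a * g⁻¹ with hy
      have hcop : (p ^ k).Coprime (orderOf y) := by
        refine Nat.Coprime.pow_left k ((hp.coprime_iff_not_dvd).mpr fun h => hm (h.trans ?_))
        refine orderOf_dvd_of_pow_eq_one ?_
        rw [hy, conj_pow, ← pow_mul, ← ham, pow_orderOf_eq_one, mul_one, mul_inv_cancel]
      obtain ⟨j, hj⟩ := exists_pow_eq_self_of_coprime hcop
      rw [← hj]
      exact M'.pow_mem (hexp' y) j
    rwa [hcore _ hN (Subgroup.normalCore_le M'), Subgroup.mem_bot] at hmem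
  have hnil : Group.IsNilpotent (G ⧸ C) := hQp.isNilpotent
  have hMn : M'.Normal := Subgroup.NormalizerCondition.normal_of_coatom M'
    Group.normalizerCondition_of_isNilpotent ⟨htop, hmax⟩
  rw [← hcm]
  exact hMn.comap f

end Cfsg.Agent.S4261
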