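import Cfsg.Statements.S4445
import Cfsg.Agent.Blocks.Glauberman

set_option autoImplicit false
open Cfsg

namespace Cfsg.Agent.S4445

open CfsgLib.Blocks CfsgLib.CharBasics

universe u v

/-- Classes fixed by an action. -/
def FixedClass {G S : Type*} [Group G] [Group S] (φ : S →* MulAut G) (K : ConjClasses G) : Prop :=
  ∀ s g, ConjClasses.mk g = K → ConjClasses.mk (φ s g) = K

theorem exists_normal_pSubgroup (S : Type v) [Group S] [Finite S] [Nontrivial S] (hsolv : Group.IsSolvable S) :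
    ∃ (p : ℕ) (T : Subgroup S), p.Prime ∧ T.Normal ∧ IsPGroup p T ∧ T ≠ ⊥ := by
  classical
  obtain ⟨n, hn⟩ := hsolv.solvable
  have hex : ∃ k, derivedSeries S k = ⊥ := ⟨n, hn⟩
  set k := Nat.find hex with hk
  have hkS : derivedSeries S k = ⊥ := Nat.find_spec hex
  have hk0 : k ≠ 0 := fun h => by
    rw [h, derivedSeries_zero] at hkS
    exact top_ne_bot hkS
  obtain ⟨j, hj⟩ : ∃ j, k = j + 1 := ⟨k - 1, by omega⟩
  have hA : derivedSeries S j ≠ ⊥ := Nat.find_min _ (show j < Nat.find hex by omega)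
  set A := derivedSeries S j with hAdef
  have hcomm : ∀ a ∈ A, ∀ b ∈ A, a * b = b * a := by
    intro a ha b hb
    have h := Subgroup.commutator_mem_commutator ha hb
    rw [← derivedSeries_succ, ← hj, hkS, Subgroup.mem_bot] at h
    exact commutatorElement_eq_one_iff_mul_comm.1 h
  haveI : Nontrivial A := (Subgroup.nontrivial_iff_ne_bot A).2 hA
  have hne : Nat.card A ≠ 1 := Finite.one_lt_card.ne'
  set p := (Nat.card A).minFac
  have hp : p.Prime := Nat.minFac_prime hne
  haveI := Fact.mk hp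
  let T : Subgroup S :=
    { carrier := {a | a ∈ A ∧ a ^ p = 1}
      one_mem' := ⟨A.one_mem, one_pow _⟩
      mul_mem' := fun {a b} ha hb => ⟨A.mul_mem ha.1 hb.1, by
        have hab : Commute a b := hcomm a ha.1 b hb.1
        rw [hab.mul_pow, ha.2, hb.2, one_mul]⟩
      inv_mem' := fun {a} ha => ⟨A.inv_mem ha.1, by rw [inv_pow, ha.2, inv_one]⟩ }
  refine ⟨p, T, hp, ⟨fun a ha g => ⟨(derivedSeries_normal S j).conj_mem a ha.1 g, by
    rw [conj_pow, ha.2, mul_one, mul_inv_cancel]⟩⟩, fun a => ⟨1, Subtype.ext (by rw [pow_one]; exact a.2.2)⟩, ?_⟩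
  obtain ⟨⟨a, ha⟩, hao⟩ := exists_prime_orderOf_dvd_card' (G := A) p (Nat.minFac_dvd _)
  rw [Subgroup.orderOf_mk] at hao
  intro hT
  have : a ∈ T := ⟨ha, hao ▸ pow_orderOf_eq_one a⟩
  rw [hT, Subgroup.mem_bot] at this
  rw [this, orderOf_one] at hao
  exact hp.one_lt.ne hao

theorem count (n : ℕ) : ∀ (G : Type u) (S : Type v) [Group G] [Fintype G] [Group S] [Finite S] (φ : S →* MulAut G),
    Nat.card S = n → (Nat.card G).Coprime (Nat.card S) → Group.IsSolvable S →
      Nat.card {χ : Cfsg.IrrCharacter G // IsInvariant φ (χ : G → ℂ)} = Nat.card {K : ConjClasses G // FixedClass φ K} := by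
  induction n using Nat.strong_induction_on with
  | _ n ih =>
  intro G S _ _ _ _ φ hn hcop hsolv
  classical
  rcases subsingleton_or_nontrivial S with hS | hS
  · have h1 : ∀ s g, φ s g = g := fun s g => by rw [Subsingleton.elim s 1, map_one]; rfl
    have a1 : Nat.card {χ : Cfsg.IrrCharacter G // IsInvariant φ (χ : G → ℂ)} = Nat.card (Cfsg.IrrCharacter G) :=
      Nat.card_congr (Equiv.subtypeUnivEquiv fun χ s g => by rw [h1])
    have a2 : Nat.card {K : ConjClasses G // FixedClass φ K} = Nat.card (ConjClasses G) :=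
      Nat.card_congr (Equiv.subtypeUnivEquiv fun K s g h => by rw [h1]; exact h)
    rw [a1, a2, card_irr]
  obtain ⟨p, T, hp, hTn, hT, hT1⟩ := exists_normal_pSubgroup S hsolv
  haveI := hTn
  haveI := Fact.mk hp
  have hpS : p ∣ Nat.card S := by
    haveI : Nontrivial T := (Subgroup.nontrivial_iff_ne_bot T).2 hT1
    obtain ⟨k, hk⟩ := IsPGroup.iff_card.1 hT
    have hk0 : k ≠ 0 := fun h => by
      have h2 := Finite.one_lt_card (α := T)
      rw [hk, h, pow_zero] at h2
      omega
    exact (dvd_pow_self p hk0).trans (hk ▸ Subgroup.card_subgroup_dvd_card T)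
  have hpG : ¬ p ∣ Nat.card G := fun h => by
    have h2 := Nat.dvd_gcd h hpS
    rw [hcop.gcd_eq_one] at h2
    exact hp.one_lt.ne' (Nat.dvd_one.1 h2)
  obtain ⟨M, hM⟩ := exists_modular hp
  let φT : T →* MulAut G := φ.comp T.subtype
  let C := fixedSub φT
  haveI : Fintype C := Fintype.ofFinite _
  have hstab : ∀ (s : S) (c : G), c ∈ C → φ s c ∈ C := by
    intro s c hc t
    have h := hc ⟨s⁻¹ * t * s, by simpa [inv_inv] using hTn.conj_mem _ t.2 s⁻¹⟩
    show φ (t : S) (φ s c) = φ s c
    calc φ (t : S) (φ s c) = φ (s * (s⁻¹ * t * s)) c := by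
          rw [show s * (s⁻¹ * t * s) = (t : S) * s by group, map_mul]; rfl
      _ = φ s (φ (s⁻¹ * t * s) c) := by rw [map_mul]; rfl
      _ = φ s c := congrArg _ h
  let ψ : S →* MulAut C :=
    { toFun := fun s =>
        { toFun := fun c => ⟨φ s c, hstab s c c.2⟩
          invFun := fun c => ⟨φ s⁻¹ c, hstab s⁻¹ c c.2⟩
          left_inv := fun c => Subtype.ext (by show (φ s⁻¹ * φ s) (c : G) = c; rw [← map_mul, inv_mul_cancel, map_one]; rfl)
          right_inv := fun c => Subtype.ext (by show (φ s * φ s⁻¹) (c : G) = c; rw [← map_mul, mul_inv_cancel, map_one]; rfl)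
          map_mul' := fun a b => Subtype.ext (map_mul (φ s) _ _) }
      map_one' := MulEquiv.ext fun c => Subtype.ext (by show φ 1 (c : G) = c; rw [map_one]; rfl)
      map_mul' := fun s t => MulEquiv.ext fun c => Subtype.ext (by show φ (s * t) (c : G) = φ s (φ t c); rw [map_mul]; rfl) }
  let ψ' : S ⧸ T →* MulAut C := QuotientGroup.lift T ψ (fun t ht => MulEquiv.ext fun c => Subtype.ext (c.2 ⟨t, ht⟩))
  have hlt : Nat.card (S ⧸ T) < n := by
    rw [← hn, ← Subgroup.index_eq_card, ← T.card_mul_index]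
    haveI : Nontrivial T := (Subgroup.nontrivial_iff_ne_bot T).2 hT1
    exact lt_mul_of_one_lt_left (Nat.pos_of_ne_zero Subgroup.index_ne_zero_of_finite) Finite.one_lt_card
  have hrec := ih _ hlt C (S ⧸ T) ψ' rfl
    (Nat.Coprime.coprime_dvd_left (Subgroup.card_subgroup_dvd_card C)
      (Nat.Coprime.coprime_dvd_right (Subgroup.card_quotient_dvd_card T) hcop))
    (haveI := hsolv; inferInstance)
  have hTinv : ∀ χ : Cfsg.IrrCharacter G, IsInvariant φ (χ : G → ℂ) → IsInvariant φT (χ : G → ℂ) :=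
    fun χ h t g => h t g
  have hψ' : ∀ (s : S) (c : C), ((ψ' (s : S ⧸ T) c : C) : G) = φ s c := fun s c => rfl
  -- twisting respects the correspondence
  have htw : ∀ (s : S) (χ : Cfsg.IrrCharacter G) (β : Cfsg.IrrCharacter C), IsInvariant φT (χ : G → ℂ) →
      Corr φT M χ β → IsInvariant φT (twistChar (φ s) χ : G → ℂ) ∧
        Corr φT M (twistChar (φ s) χ) (twistChar (ψ s) β) := by
    intro s χ β hχ hc
    have hinv : IsInvariant φT (twistChar (φ s) χ : G → ℂ) := by
      intro t g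
      show (χ : G → ℂ) (φ s (φ (t : S) g)) = (χ : G → ℂ) (φ s g)
      have e : φ s (φ (t : S) g) = φ (s * t * s⁻¹) (φ s g) := by
        calc φ s (φ (t : S) g) = φ (s * t * s⁻¹ * s) g := by
              rw [show s * (t : S) * s⁻¹ * s = s * t by group, map_mul]; rfl
          _ = φ (s * t * s⁻¹) (φ s g) := by rw [map_mul]; rfl
      rw [e]
      exact hχ ⟨_, hTn.conj_mem _ t.2 s⟩ _
    obtain ⟨m, hm⟩ := classInner_character_nat (isCharacter_restrict (isCharacter_of_irr χ.2) C) β
    have hm' : Cfsg.classInner (fun c : C => (twistChar (φ s) χ : G → ℂ) (c : G)) (twistChar (ψ s) β : C → ℂ) = m := by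
      rw [← hm]
      simp only [Cfsg.classInner]
      congr 1
      conv_rhs => rw [← (ψ s).toEquiv.sum_comp]
      rfl
    refine ⟨hinv, ?_⟩
    by_contra hn
    exact (mult_dvd_iff φT hM hT hpG hχ β hm).1 ((mult_dvd_iff φT hM hT hpG hinv _ hm').2 hn) hc
  have hirr : Nat.card {χ : Cfsg.IrrCharacter G // IsInvariant φ (χ : G → ℂ)}
      = Nat.card {β : Cfsg.IrrCharacter C // IsInvariant ψ' (β : C → ℂ)} := by
    refine Nat.card_eq_of_bijective (fun χ => ⟨(corr_exists_right φT hM hT hpG (hTinv χ.1 χ.2)).choose, ?_⟩) ⟨?_, ?_⟩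
    · intro q c
      obtain ⟨s, rfl⟩ := QuotientGroup.mk_surjective q
      have hc := (corr_exists_right φT hM hT hpG (hTinv χ.1 χ.2)).choose_spec
      have h2 := (htw s χ.1 _ (hTinv χ.1 χ.2) hc).2
      have e : twistChar (φ s) χ.1 = χ.1 := Subtype.ext (funext fun g => χ.2 s g)
      rw [e] at h2
      have h3 := corr_unique φT hM hT hpG (hTinv χ.1 χ.2) h2 hc
      exact congrFun (congrArg Subtype.val h3) c
    · intro χ χ' he
      have e : (corr_exists_right φT hM hT hpG (hTinv χ.1 χ.2)).choose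
          = (corr_exists_right φT hM hT hpG (hTinv χ'.1 χ'.2)).choose := congrArg Subtype.val he
      have hc := (corr_exists_right φT hM hT hpG (hTinv χ.1 χ.2)).choose_spec
      rw [e] at hc
      exact Subtype.ext (corr_injective φT hM hT hpG (hTinv χ.1 χ.2) (hTinv χ'.1 χ'.2) hc
        (corr_exists_right φT hM hT hpG (hTinv χ'.1 χ'.2)).choose_spec)
    · rintro ⟨β, hβ⟩
      obtain ⟨χ, hχ, hc⟩ := corr_exists_left φT hM hT hpG β
      have hfix : IsInvariant φ (χ : G → ℂ) := by
        intro s g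
        obtain ⟨h1, h2⟩ := htw s χ β hχ hc
        have e : twistChar (ψ s) β = β := Subtype.ext (funext fun c => hβ (s : S ⧸ T) c)
        rw [e] at h2
        exact congrFun (congrArg Subtype.val (corr_injective φT hM hT hpG h1 hχ h2 hc)) g
      refine ⟨⟨χ, hfix⟩, Subtype.ext ?_⟩
      exact corr_unique φT hM hT hpG hχ (corr_exists_right φT hM hT hpG (hTinv χ hfix)).choose_spec hc
  have hcls : Nat.card {K : ConjClasses C // FixedClass ψ' K} = Nat.card {K : ConjClasses G // FixedClass φ K} := by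
    refine Nat.card_eq_of_bijective (fun K => ⟨ConjClasses.map C.subtype K.1, ?_⟩) ⟨?_, ?_⟩
    · obtain ⟨K, hK⟩ := K
      obtain ⟨c, rfl⟩ := ConjClasses.exists_rep K
      intro s g hg
      have h1 := hK (s : S ⧸ T) c rfl
      have h2 : ConjClasses.mk (φ s (c : G)) = ConjClasses.mk (c : G) := congrArg (ConjClasses.map C.subtype) h1
      refine Eq.trans ?_ h2
      exact ConjClasses.mk_eq_mk_iff_isConj.2 (MonoidHom.map_isConj (φ s).toMonoidHom (ConjClasses.mk_eq_mk_iff_isConj.1 hg))
    · rintro ⟨K, hK⟩ ⟨L, hL⟩ he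
      obtain ⟨c, rfl⟩ := ConjClasses.exists_rep K
      obtain ⟨d, rfl⟩ := ConjClasses.exists_rep L
      have he' : ConjClasses.mk (c : G) = ConjClasses.mk (d : G) := congrArg Subtype.val he
      exact Subtype.ext (ConjClasses.mk_eq_mk_iff_isConj.2
        (isConj_fixedSub hM φT hT hpG (ConjClasses.mk_eq_mk_iff_isConj.1 he')))
    · rintro ⟨K, hK⟩
      obtain ⟨g₀, rfl⟩ := ConjClasses.exists_rep K
      letI : MulAction T {x : G // IsConj g₀ x} :=
        { smul := fun t x => ⟨φ (t : S) x.1, (ConjClasses.mk_eq_mk_iff_isConj.1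
            ((hK t x.1 (ConjClasses.mk_eq_mk_iff_isConj.2 x.2.symm)))).symm⟩
          one_smul := fun x => Subtype.ext (by show φ (1 : S) x.1 = x.1; rw [map_one]; rfl)
          mul_smul := fun t u x => Subtype.ext (by
            show φ ((t * u : T) : S) x.1 = φ (t : S) (φ (u : S) x.1); rw [Subgroup.coe_mul, map_mul]; rfl) }
      have hnd : ¬ p ∣ Nat.card {x : G // IsConj g₀ x} := by
        rw [card_conjClass]; exact fun h => hpG (h.trans (Subgroup.index_dvd_card _))
      obtain ⟨x, hx⟩ := hT.nonempty_fixed_point_of_prime_not_dvd_card _ hnd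
      let c : C := ⟨x.1, fun t => congrArg Subtype.val (hx t)⟩
      have hc : ConjClasses.mk (c : G) = ConjClasses.mk g₀ := ConjClasses.mk_eq_mk_iff_isConj.2 x.2.symm
      refine ⟨⟨ConjClasses.mk c, fun q d hd => ?_⟩, Subtype.ext hc⟩
      obtain ⟨s, rfl⟩ := QuotientGroup.mk_surjective q
      refine ConjClasses.mk_eq_mk_iff_isConj.2 (isConj_fixedSub hM φT hT hpG ?_)
      have hd' : ConjClasses.mk (d : G) = ConjClasses.mk g₀ := (congrArg (ConjClasses.map C.subtype) hd).trans hc
      exact ConjClasses.mk_eq_mk_iff_isConj.1 ((hK s (d : G) hd').trans hc.symm)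
  rw [hirr, hrec, hcls]

/-- Inside a finite group Γ let the solvable subgroup S normalise G with the orders of G and S coprime. Then the number of S-invariant irreducible characters of G (χ(s g s⁻¹) = χ(g) for all s ∈ S, g ∈ G) equals the number of conjugacy classes of G mapped to themselves by conjugation by every element of S. -/
theorem result {Γ : Type*} [Group Γ] [Fintype Γ] (G S : Subgroup Γ) [Fintype G] (hnorm : ∀ s ∈ S, ∀ g ∈ G, s * g * s⁻¹ ∈ G) (hcop : (Nat.card G).Coprime (Nat.card S)) (hsolv : Group.IsSolvable S) : Nat.card {χ : Cfsg.IrrCharacter G // (∀ s ∈ S, ∀ g g' : G, (g' : Γ) = s * g * s⁻¹ → (χ : G → ℂ) g' = (χ : G → ℂ) g)} = Nat.card {K : ConjClasses G // ∀ s ∈ S, ∀ g g' : G, (g' : Γ) = s * g * s⁻¹ → ConjClasses.mk g = K → ConjClasses.mk g' = K} := by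
  classical
  let φ : S →* MulAut G :=
    { toFun := fun s =>
        { toFun := fun g => ⟨(s : Γ) * g * (s : Γ)⁻¹, hnorm s s.2 g g.2⟩
          invFun := fun g => ⟨(s : Γ)⁻¹ * g * s, by
            have := hnorm _ (S.inv_mem s.2) g g.2
            rwa [inv_inv] at this⟩
          left_inv := fun g => Subtype.ext (by simp [mul_assoc])
          right_inv := fun g => Subtype.ext (by simp [mul_assoc])
          map_mul' := fun a b => Subtype.ext (by simp [mul_assoc]) }
      map_one' := MulEquiv.ext fun g => Subtype.ext (by simp)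
      map_mul' := fun s t => MulEquiv.ext fun g => Subtype.ext (by simp [mul_assoc]) }
  have h := count (Nat.card S) G S φ rfl hcop hsolv
  have e1 : ∀ χ : Cfsg.IrrCharacter G,
      (∀ s ∈ S, ∀ g g' : G, (g' : Γ) = s * g * s⁻¹ → (χ : G → ℂ) g' = (χ : G → ℂ) g) ↔
        CfsgLib.Blocks.IsInvariant φ (χ : G → ℂ) := fun χ =>
    ⟨fun h s g => h s s.2 g _ rfl, fun h s hs g g' e => by
      rw [show g' = φ ⟨s, hs⟩ g from Subtype.ext e]; exact h _ g⟩
  have e2 : ∀ K : ConjClasses G,
      (∀ s ∈ S, ∀ g g' : G, (g' : Γ) = s * g * s⁻¹ → ConjClasses.mk g = K → ConjClasses.mk g' = K) ↔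
        FixedClass φ K := fun K =>
    ⟨fun h s g hg => h s s.2 g _ rfl hg, fun h s hs g g' e hg => by
      rw [show g' = φ ⟨s, hs⟩ g from Subtype.ext e]; exact h _ g hg⟩
  rw [Nat.card_congr (Equiv.subtypeEquivRight e1), Nat.card_congr (Equiv.subtypeEquivRight e2)]
  exact h

end Cfsg.Agent.S4445
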