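import Cfsg.Statements.S5144
import Cfsg.Agent.Fusion.Basic

set_option autoImplicit false
open Cfsg

namespace Cfsg.Agent.S5144

lemma central_sup {Ω : Type*} [Group Ω] {S : Subgroup Ω} {F : Cfsg.FusionSystem S} {A B : Subgroup Ω}
    (hA : F.IsCentral A) (hB : F.IsCentral B) : F.IsCentral (A ⊔ B) := by
  refine ⟨sup_le hA.1 hB.1, fun P φ hφ => ?_⟩
  obtain ⟨ψ, hψ, hag, hfix⟩ := hA.2 P φ hφ
  obtain ⟨χ, hχ, hag', hfix'⟩ := hB.2 _ ψ hψ
  have hle : P ⊔ (A ⊔ B) ≤ P ⊔ A ⊔ B := le_of_eq (sup_assoc P A B).symm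
  refine ⟨χ.comp (Subgroup.inclusion hle), CfsgLib.Fusion.restrict hχ hle,
    fun x => (hag' _).trans (hag x), ?_⟩
  intro x
  have h : A ⊔ B ≤ (MonoidHom.eqLocus χ (P ⊔ A ⊔ B).subtype).map (P ⊔ A ⊔ B).subtype := by
    refine sup_le (fun a ha => ?_) (fun b hb => ⟨⟨b, Subgroup.mem_sup_right hb⟩, hfix' ⟨b, hb⟩, rfl⟩)
    exact ⟨⟨a, Subgroup.mem_sup_left (Subgroup.mem_sup_right ha)⟩, (hag' _).trans (hfix ⟨a, ha⟩), rfl⟩
  obtain ⟨y, hy, hyx⟩ := h x.2
  calc χ _ = χ y := by congr 1; exact Subtype.ext hyx.symm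
    _ = (y : Ω) := hy
    _ = x := hyx

lemma central_bot {Ω : Type*} [Group Ω] {S : Subgroup Ω} {F : Cfsg.FusionSystem S} :
    F.IsCentral (⊥ : Subgroup Ω) := by
  refine ⟨bot_le, fun P φ hφ => ⟨φ.comp (Subgroup.inclusion (sup_bot_eq P).le),
    CfsgLib.Fusion.restrict hφ _, fun x => rfl, fun x => ?_⟩⟩
  have : x = 1 := Subsingleton.elim _ _
  subst this
  exact map_one _

/-- For a fusion system over a finite subgroup S, the centre of the system (the join of all subgroups central in it) is itself central in the system, hence its largest central subgroup. -/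
theorem result {Ω : Type*} [Group Ω] {S : Subgroup Ω} [Finite S] (F : Cfsg.FusionSystem S) : F.IsCentral F.center := by
  have hfin : {Q : Subgroup Ω | F.IsCentral Q}.Finite := by
    refine Set.Finite.of_finite_image (f := fun Q : Subgroup Ω => Q.subgroupOf S) (Set.toFinite _) ?_
    intro A hA B hB h
    rw [← Subgroup.map_subgroupOf_eq_of_le hA.1, ← Subgroup.map_subgroupOf_eq_of_le hB.1]
    exact congrArg (Subgroup.map S.subtype) h
  have key : ∀ T : Set (Subgroup Ω), T.Finite → (∀ Q ∈ T, F.IsCentral Q) → F.IsCentral (sSup T) := by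
    intro T hT
    induction T, hT using Set.Finite.induction_on with
    | empty => intro _; rw [sSup_empty]; exact central_bot
    | @insert Q T _ _ ih =>
      intro h
      rw [sSup_insert]
      exact central_sup (h Q (Set.mem_insert _ _)) (ih fun R hR => h R (Set.mem_insert_of_mem _ hR))
  exact key _ hfin fun _ h => h

end Cfsg.Agent.S5144
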