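import Cfsg.Statements.S5145
import Cfsg.Agent.Fusion.Basic

set_option autoImplicit false
open Cfsg

namespace Cfsg.Agent.S5145

lemma normal_sup {Ω : Type*} [Group Ω] {S : Subgroup Ω} {F : Cfsg.FusionSystem S} {A B : Subgroup Ω}
    (hA : F.IsNormal A) (hB : F.IsNormal B) : F.IsNormal (A ⊔ B) := by
  refine ⟨sup_le hA.1 hB.1, fun P φ hφ => ?_⟩
  obtain ⟨ψ, hψ, hag, hfix⟩ := hA.2 P φ hφ
  obtain ⟨χ, hχ, hag', hfix'⟩ := hB.2 _ ψ hψ
  have hle : P ⊔ (A ⊔ B) ≤ P ⊔ A ⊔ B := le_of_eq (sup_assoc P A B).symm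
  refine ⟨χ.comp (Subgroup.inclusion hle), CfsgLib.Fusion.restrict hχ hle,
    fun x => (hag' _).trans (hag x), ?_⟩
  have hA' : (A.subgroupOf (P ⊔ A ⊔ B)).map χ = A := by
    refine Eq.trans ?_ hfix
    ext y
    constructor
    · rintro ⟨x, hx, rfl⟩
      exact ⟨⟨x, Subgroup.mem_sup_right hx⟩, hx, (hag' _).symm.trans rfl⟩
    · rintro ⟨x, hx, rfl⟩
      exact ⟨⟨x, Subgroup.mem_sup_left x.2⟩, hx, hag' x⟩
  have e : ((A ⊔ B).subgroupOf (P ⊔ (A ⊔ B))).map (χ.comp (Subgroup.inclusion hle)) =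
      ((A ⊔ B).subgroupOf (P ⊔ A ⊔ B)).map χ := by
    ext y
    constructor
    · rintro ⟨x, hx, rfl⟩; exact ⟨Subgroup.inclusion hle x, hx, rfl⟩
    · rintro ⟨x, hx, rfl⟩; exact ⟨⟨x, Subgroup.mem_sup_right hx⟩, hx, rfl⟩
  rw [e, Subgroup.subgroupOf_sup ((le_sup_right : A ≤ P ⊔ A).trans le_sup_left) le_sup_right,
    Subgroup.map_sup, hA', hfix']

lemma normal_bot {Ω : Type*} [Group Ω] {S : Subgroup Ω} {F : Cfsg.FusionSystem S} :
    F.IsNormal (⊥ : Subgroup Ω) := by
  refine ⟨bot_le, fun P φ hφ => ⟨φ.comp (Subgroup.inclusion (sup_bot_eq P).le),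
    CfsgLib.Fusion.restrict hφ _, fun x => rfl, ?_⟩⟩
  rw [Subgroup.bot_subgroupOf, Subgroup.map_bot]

/-- For a fusion system over a finite subgroup S, the join of all subgroups normal in the system is itself normal in the system, hence its largest normal subgroup. -/
theorem result {Ω : Type*} [Group Ω] {S : Subgroup Ω} [Finite S] (F : Cfsg.FusionSystem S) : F.IsNormal F.core := by
  have hfin : {Q : Subgroup Ω | F.IsNormal Q}.Finite := by
    refine Set.Finite.of_finite_image (f := fun Q : Subgroup Ω => Q.subgroupOf S) (Set.toFinite _) ?_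
    intro A hA B hB h
    rw [← Subgroup.map_subgroupOf_eq_of_le hA.1, ← Subgroup.map_subgroupOf_eq_of_le hB.1]
    exact congrArg (Subgroup.map S.subtype) h
  have key : ∀ T : Set (Subgroup Ω), T.Finite → (∀ Q ∈ T, F.IsNormal Q) → F.IsNormal (sSup T) := by
    intro T hT
    induction T, hT using Set.Finite.induction_on with
    | empty => intro _; rw [sSup_empty]; exact normal_bot
    | @insert Q T _ _ ih =>
      intro h
      rw [sSup_insert]
      exact normal_sup (h Q (Set.mem_insert _ _)) (ih fun R hR => h R (Set.mem_insert_of_mem _ hR))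
  exact key _ hfin fun _ h => h

end Cfsg.Agent.S5145
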