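import Cfsg.Statements.S5290
import Cfsg.Agent.Fusion.SeriesNormal
import Cfsg.Agent.Fusion.Inner
-- import your own Cfsg.Agent.* helpers here

set_option autoImplicit false
open Cfsg

namespace Cfsg.Agent.S5290

open CfsgLib.Fusion


/-- Let F be a saturated fusion system over a finite p-group S and Q a subgroup of S. Then Q is normal in F (F = N_F(Q)) if and only if the inner fusion system of Q, consisting of the conjugations by elements of Q on subgroups of Q, is a weakly normal subsystem of F (both saturated, Q strongly closed, invariant under F-conjugation, with the Frattini property). -/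
theorem result {Ω : Type*} [Group Ω] {S : Subgroup Ω} [Finite S] (p : ℕ) [Fact p.Prime] (hS : IsPGroup p S)
    (F : Cfsg.FusionSystem S) (hF : F.IsSaturated p)
    (Q : Subgroup Ω) (hQ : Q ≤ S) :
    F.IsNormal Q ↔ (Cfsg.innerFusionSystem Q).IsWeaklyNormalIn F p := by
  constructor
  · intro hN
    haveI := finite_of_le hQ
    refine ⟨isSaturated_inner (hS.to_le hQ), hF, ?_, stronglyClosed_of_isNormal hN, ?_, ?_⟩
    · rintro P φ ⟨hP, g, hg, h⟩
      exact conj_of_eq (hP.trans hQ) (hQ hg) h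
    · intro P hPT φ hφ α _
      obtain ⟨-, g, hg, h⟩ := hφ
      refine ⟨Cfsg.conjHom _ ((α ⟨g, hg⟩ : Q) : Ω),
        (Cfsg.innerFusionSystem Q).conj_mem (Subgroup.map_le_iff_le_comap.2 fun x _ => (α x).2) (α ⟨g, hg⟩).2,
        fun x hφx hαx => ?_⟩
      have e : (⟨φ x, hφx⟩ : Q) = ⟨g, hg⟩ * ⟨x, hPT x.2⟩ * ⟨g, hg⟩⁻¹ := Subtype.ext (h x)
      rw [e, map_mul, map_mul, map_inv]
      rfl
    · intro P hPT φ hφ
      obtain ⟨α, hα, h⟩ := exists_aut_of_isNormal hN hPT hφ
      exact ⟨α, hα, P.subtype, subtype_mem hPT, fun x hx => h x⟩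
  · rintro ⟨-, -, -, hsc, -, hfr⟩
    refine isNormal_of_aut_extends hS hF hsc fun R hR φ hφ => ?_
    obtain ⟨α, -, φ₀, hφ₀, hcomp⟩ := hfr R hR φ hφ
    obtain ⟨-, g, hg, hg'⟩ := hφ₀
    have hmem : ∀ x : R, φ₀ x ∈ Q := fun x => by
      rw [hg']; exact Q.mul_mem (Q.mul_mem hg (hR x.2)) (Q.inv_mem hg)
    refine ⟨α * MulAut.conj ⟨g, hg⟩, fun x => (hcomp x (hmem x)).trans ?_⟩
    exact congrArg (fun q => ((α q : Q) : Ω)) (Subtype.ext (hg' x))

end Cfsg.Agent.S5290
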