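import Cfsg.Statements.S5124
import Cfsg.Agent.Fusion.AlperinCor
import Cfsg.Agent.Transfer.Residual
-- import your own Cfsg.Agent.* helpers here

set_option autoImplicit false
open Cfsg

namespace Cfsg.Agent.S5124

open CfsgLib.Fusion Cfsg.FusionSystem

/-- In a saturated fusion system over a finite p-group S the hyperfocal subgroup is strongly closed in the system. -/
theorem result {Ω : Type*} [Group Ω] {S : Subgroup Ω} [Finite S] (p : ℕ) [Fact p.Prime] (hS : IsPGroup p S) (F : Cfsg.FusionSystem S) (hF : F.IsSaturated p) : F.StronglyClosed (F.hyperfocalSubgroup p) := by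
    set H := F.hyperfocalSubgroup p
    have hHS : H ≤ S := (Subgroup.closure_le _).2 (by
      rintro _ ⟨P, α, x, hP, -, rfl⟩
      exact S.mul_mem (S.inv_mem (hP x.2)) (hP (Subtype.prop _)))
    have hconj : ∀ g ∈ S, ∀ x ∈ H, g * x * g⁻¹ ∈ H := by
      intro g hg x hx
      suffices h : H ≤ H.comap (MulAut.conj g).toMonoidHom from h hx
      refine (Subgroup.closure_le _).2 ?_
      rintro _ ⟨P, α, u, hP, hα, rfl⟩
      haveI := finite_mulAut (S := S) hP
      set Q := P.map (MulAut.conj g).toMonoidHom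
      have hr : (conjHom P g).range = Q := by
        ext y
        constructor
        · rintro ⟨z, rfl⟩; exact ⟨z, z.2, rfl⟩
        · rintro ⟨z, hz, rfl⟩; exact ⟨⟨z, hz⟩, rfl⟩
      have hφ := F.conj_mem hP hg
      set e := isoOfHom (F.injective_of_mem hφ) hr
      let f : ↥(F.autGroup P) →* ↥(F.autGroup Q) :=
        ((MulAut.congr e).toMonoidHom.comp (F.autGroup P).subtype).codRestrict _
          fun a => congr_mem_autGroup hφ hr a.2
      refine Subgroup.subset_closure ⟨Q, f α, e u, hr ▸ range_le hφ,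
        CfsgLib.Transfer.map_pResidual_le f ⟨α, hα, rfl⟩, ?_⟩
      show g * ((u : Ω)⁻¹ * ((α : MulAut P) u : P)) * g⁻¹ =
        ((e u : Q) : Ω)⁻¹ * ((e ((α : MulAut P) (e.symm (e u))) : Q) : Ω)
      rw [MulEquiv.symm_apply_apply, isoOfHom_apply, isoOfHom_apply]
      show _ = (g * u * g⁻¹)⁻¹ * (g * ((α : MulAut P) u : P) * g⁻¹)
      group
    have hiff : ∀ g ∈ S, ∀ x : Ω, x ∈ H ↔ g * x * g⁻¹ ∈ H := fun g hg x => ⟨hconj g hg x, fun h => by
      have := hconj g⁻¹ (S.inv_mem hg) _ h
      simpa [mul_assoc] using this⟩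
    let E : Cfsg.FusionSystem S :=
      { Hom := fun P => {φ | φ ∈ F.Hom P ∧ ∀ x : P, ((x : Ω) ∈ H ↔ φ x ∈ H)}
        le_of_mem := fun h => F.le_of_mem h.1
        injective_of_mem := fun h => F.injective_of_mem h.1
        conj_mem := fun hP hg => ⟨F.conj_mem hP hg, fun x => hiff _ hg x⟩
        comp_mem := fun h1 h2 h3 => ⟨F.comp_mem h1.1 h2.1 h3, fun x => (h1.2 x).trans (h2.2 ⟨_, h3 x⟩)⟩
        inv_mem := by
          rintro P φ ⟨hφ, h⟩
          obtain ⟨ψ, hψ, hψv⟩ := F.inv_mem hφ
          refine ⟨ψ, ⟨hψ, fun v => ?_⟩, hψv⟩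
          obtain ⟨_, u, rfl⟩ := v
          rw [hψv]
          exact (h u).symm }
    have hE : ∀ P φ, φ ∈ F.Hom P → φ ∈ E.Hom P := by
      refine fun P φ hφ => le_of_centricRadical hS hF E (fun R hR _ _ α hα => ?_) P hφ
      haveI := finite_mulAut (S := S) hR.1
      let A := F.autGroup R
      let Fix : Subgroup A :=
        { carrier := {a | ∀ r : R, (r : Ω) ∈ H ↔ (((a : MulAut R) r : R) : Ω) ∈ H}
          one_mem' := fun r => Iff.rfl
          mul_mem' := fun {a b} ha hb r => (hb r).trans (ha _)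
          inv_mem' := fun {a} ha r => by
            have := ha ((a : MulAut R)⁻¹ r)
            rw [MulAut.apply_inv_self] at this
            exact this.symm }
      have h1 : Cfsg.pResidual p A ≤ Fix := by
        refine (Subgroup.closure_le _).2 fun a ha r => ?_
        have hgen : (r : Ω)⁻¹ * (((a : MulAut R) r : R) : Ω) ∈ H :=
          Subgroup.subset_closure ⟨R, a, r, hR.1, Subgroup.subset_closure ha, rfl⟩
        constructor
        · intro hr
          have := H.mul_mem hr hgen
          rwa [mul_inv_cancel_left] at this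
        · intro hr
          have := H.mul_mem hr (H.inv_mem hgen)
          rwa [mul_inv_rev, inv_inv, mul_inv_cancel_left] at this
      obtain ⟨-, T, hT⟩ := fullyAutomized_of_fullyNormalized hS hF hR
      have h2 : (T : Subgroup A) ≤ Fix := by
        intro a ha r
        rw [hT, Subgroup.mem_subgroupOf, mem_autInducedBy] at ha
        obtain ⟨s, hs, hsr⟩ := ha
        rw [hsr]
        exact hiff s hs r
      refine (mem_autGroup hR.1).2 ⟨(mem_autGroup hR.1).1 hα,
        ((CfsgLib.Transfer.pResidual_sup_sylow T).ge.trans (sup_le h1 h2) (Subgroup.mem_top (⟨α, hα⟩ : A)) :)⟩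
    exact ⟨hHS, fun R hR φ hφ x => ((hE R φ hφ).2 x).1 (hR x.2)⟩

end Cfsg.Agent.S5124
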