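import Cfsg.Statements.S5098
import Cfsg.Agent.Fusion.KNormalizer

set_option autoImplicit false
open Cfsg

namespace Cfsg.Agent.S5098

open CfsgLib.Fusion Cfsg.FusionSystem in
lemma isKSystem_top {Ω : Type*} [Group Ω] {S : Subgroup Ω} (F : Cfsg.FusionSystem S) (Q : Subgroup Ω) (E : Cfsg.FusionSystem (Cfsg.FusionSystem.normalizerIn S Q)) (hE : F.IsNormalizerSystem Q E) : IsKSystem F (⊤ : Subgroup (MulAut Q)) E := by
  intro P φ
  rw [hE P]
  constructor
  · rintro ⟨-, hP, hN, ψ, hψ, hext, hQ⟩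
    refine ⟨hP, hN, ψ, hψ, hext, ?_⟩
    have hm : ∀ q : Q, ψ (Subgroup.inclusion le_sup_right q) ∈ Q :=
      fun q => hQ.le ⟨_, q.2, rfl⟩
    have hinj : Function.Injective (ψ.comp (Subgroup.inclusion (le_sup_right : Q ≤ P ⊔ Q))) :=
      (F.injective_of_mem hψ).comp (Subgroup.inclusion_injective _)
    have hr : (ψ.comp (Subgroup.inclusion (le_sup_right : Q ≤ P ⊔ Q))).range = Q := by
      refine le_antisymm ?_ fun y hy => ?_
      · rintro _ ⟨q, rfl⟩; exact hm q
      · obtain ⟨x, hx, rfl⟩ := hQ.ge hy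
        exact ⟨⟨x, hx⟩, rfl⟩
    exact ⟨isoOfHom hinj hr, trivial, fun q => rfl⟩
  · rintro ⟨hP, hN, ψ, hψ, hext, κ, -, hκ⟩
    refine ⟨restrict_of_eq hψ le_sup_left (fun x => (hext x).symm), hP, hN, ψ, hψ, hext,
      le_antisymm ?_ fun y hy => ?_⟩
    · rintro _ ⟨x, hx, rfl⟩
      rw [show x = Subgroup.inclusion le_sup_right ⟨(x : Ω), hx⟩ from Subtype.ext rfl, hκ]
      exact SetLike.coe_mem _
    · exact ⟨Subgroup.inclusion le_sup_right (κ.symm ⟨y, hy⟩), (κ.symm ⟨y, hy⟩).2, by rw [hκ, MulEquiv.apply_symm_apply]⟩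

/-- If F is a saturated fusion system over a finite p-group S and Q is fully normalized in F, then the normalizer system N_F(Q) is a saturated fusion system over N_S(Q). -/
theorem result {Ω : Type*} [Group Ω] {S : Subgroup Ω} [Finite S] (p : ℕ) [Fact p.Prime] (hS : IsPGroup p S) (F : Cfsg.FusionSystem S) (hF : F.IsSaturated p) (Q : Subgroup Ω) (hQ : F.IsFullyNormalized Q) (E : Cfsg.FusionSystem (Cfsg.FusionSystem.normalizerIn S Q)) (hE : F.IsNormalizerSystem Q E) : E.IsSaturated p := by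
  open CfsgLib.Fusion Cfsg.FusionSystem in
  have hK : FullK p F (⊤ : Subgroup (MulAut Q)) := by
    refine ⟨receptive_of_fullyNormalized hS hF hQ, ?_⟩
    obtain ⟨hQS, T, hT⟩ := fullyAutomized_of_fullyNormalized hS hF hQ
    rw [inf_top_eq, inf_top_eq]
    haveI := finite_mulAut hQS
    rw [← T.card_eq_multiplicity, hT]
    exact (Nat.card_congr (Subgroup.subgroupOfEquivOfLe (autInducedBy_le_autGroup hQS)).toEquiv).symm
  open CfsgLib.Fusion in
  refine isSaturated_of_isKSystem p hS hF hK ?_ E (isKSystem_top F Q E hE)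
  ext g
  constructor
  · intro hg
    exact CfsgLib.Fusion.mem_NK.2 ⟨hg.1, CfsgLib.Fusion.conjAut Q S ⟨g, hg⟩, trivial, fun x => rfl⟩
  · exact fun hg => CfsgLib.Fusion.NK_le_normalizerIn _ hg

end Cfsg.Agent.S5098
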