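import Cfsg.Statements.S3060
import Cfsg.Agent.PGroup.DStar
import Cfsg.Agent.PReduced.Basic

set_option autoImplicit false
open Cfsg

namespace Cfsg.Agent.S3060

open Subgroup in
theorem class_two_map {G : Type*} [Group G] {H : Subgroup G} (A : Subgroup H) (x : H) :
    ⁅⁅A.map H.subtype ⊔ zpowers (x : G), A.map H.subtype ⊔ zpowers (x : G)⁆, A.map H.subtype ⊔ zpowers (x : G)⁆ = ⊥ ↔
      ⁅⁅A ⊔ zpowers x, A ⊔ zpowers x⁆, A ⊔ zpowers x⁆ = ⊥ := by
  rw [← map_eq_bot_iff_of_injective _ H.subtype_injective, map_commutator, map_commutator, Subgroup.map_sup,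
    MonoidHom.map_zpowers]
  rfl

/-- The D*-Theorem. For a finite p-group S let D*(S) be the subgroup generated by the abelian subgroups A of S such that every x ∈ S with ⟨A, x⟩ of nilpotency class at most two centralizes A. Let p be an odd prime and H a finite p-stable group with Sylow p-subgroup S. Here H is p-stable in the following sense: the largest normal p-subgroup O_p(H) contains its centralizer in H, and for every normal p-subgroup P of H, every element acting quadratically on P has image in O_p(H/C_H(P)). Then D*(S) is a normal subgroup of H. -/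
theorem result {G : Type*} [Group G] [Finite G] {p : ℕ} [Fact p.Prime] (hp : p ≠ 2)
    (hc : Subgroup.centralizer (Cfsg.pCore p G : Set G) ≤ Cfsg.pCore p G)
    (hst : ∀ (P : Subgroup G) [P.Normal], IsPGroup p P → Cfsg.IsPStableOn p P) (S : Sylow p G) :
    (Cfsg.dStarOf (S : Subgroup G)).Normal := by
  open Subgroup in
  set P := Cfsg.pCore p G with hP
  have hPp : IsPGroup p P := CfsgLib.PReduced.isPGroup_pCore p G
  have hPS : P ≤ (S : Subgroup G) := CfsgLib.PReduced.pCore_le_sylow S
  haveI hPn : P.Normal := Cfsg.pCore_normal p G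
  set D := Cfsg.dStarOf (S : Subgroup G) with hD
  obtain ⟨hDab, hDprop⟩ := CfsgLib.PGroup.dStar_mem_family S.isPGroup'
  haveI := CfsgLib.PGroup.dStar_normal (p := p) (S := (S : Subgroup G)) S.isPGroup'
  haveI := hDab
  haveI hDc : IsMulCommutative D := Subgroup.map_isMulCommutative _ _
  have hDS : D ≤ (S : Subgroup G) := map_subtype_le _
  have hSD : (S : Subgroup G) ≤ normalizer (D : Set G) := CfsgLib.PReduced.le_normalizer_map_subtype _ _
  have hkey : ∀ x ∈ (S : Subgroup G), ⁅⁅D ⊔ zpowers x, D ⊔ zpowers x⁆, D ⊔ zpowers x⁆ = ⊥ →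
      ∀ d ∈ D, d * x = x * d := by
    intro x hx hcl d hd
    obtain ⟨d', hd', rfl⟩ := hd
    exact congrArg Subtype.val (hDprop ⟨x, hx⟩ ((class_two_map _ ⟨x, hx⟩).mp hcl) d' hd')
  have hDD : ∀ d ∈ D, ∀ d' ∈ D, d * d' = d' * d := fun d hd d' hd' =>
    congrArg Subtype.val (hDc.is_comm.comm ⟨d, hd⟩ ⟨d', hd'⟩)
  -- `D` lies in the core
  have hDP : D ≤ P := by
    intro d hd
    have h1 : ⁅P, zpowers d⁆ ≤ D := commutator_le.mpr fun a ha b hb => by
      have hb' : b ∈ D := zpowers_le.mpr hd hb
      rw [commutatorElement_def]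
      exact D.mul_mem ((mem_normalizer_iff.mp (hSD (hPS ha)) b).mp hb') (D.inv_mem hb')
    have h2 : ⁅⁅P, zpowers d⁆, zpowers d⁆ = ⊥ := le_bot_iff.mp (commutator_le.mpr fun a ha b hb => by
      rw [mem_bot, commutatorElement_eq_one_iff_mul_comm]
      exact hDD a (h1 ha) b (zpowers_le.mpr hd hb))
    have h3 := hst P hPp d h2
    set C := centralizer (P : Set G) with hC
    set L := (Cfsg.pCore p (G ⧸ C)).comap (QuotientGroup.mk' C) with hL
    have hLp : IsPGroup p L := by
      rintro ⟨l, hl⟩
      obtain ⟨j, hj⟩ := CfsgLib.PReduced.isPGroup_pCore p (G ⧸ C) ⟨_, hl⟩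
      have h4 : l ^ p ^ j ∈ C := by
        rw [← QuotientGroup.eq_one_iff]
        exact congrArg Subtype.val hj
      obtain ⟨i, hi⟩ := hPp ⟨_, hc h4⟩
      refine ⟨j + i, Subtype.ext ?_⟩
      have := congrArg Subtype.val hi
      simpa [pow_add, pow_mul] using this
    exact CfsgLib.PReduced.le_pCore (inferInstance : L.Normal) hLp h3
  -- the normal closure of `D` is abelian
  set E := Cfsg.dStarOf P with hE
  haveI := CfsgLib.PGroup.dStar_normal (p := p) (S := P) hPp
  obtain ⟨hEab, -⟩ := CfsgLib.PGroup.dStar_mem_family hPp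
  haveI := hEab
  haveI hEc : IsMulCommutative E := Subgroup.map_isMulCommutative _ _
  haveI hEn : E.Normal := by
    haveI : (Cfsg.dStar P).Characteristic := by
      refine characteristic_iff_le_comap.mpr fun φ => sSup_le fun A hA => ?_
      rw [← map_le_iff_le_comap]
      refine le_sSup ⟨?_, fun y hy => ?_⟩
      · haveI := hA.1; exact Subgroup.map_isMulCommutative _ _
      · rintro _ ⟨a, ha, rfl⟩
        have h1 : ⁅⁅A ⊔ zpowers (φ.symm y), A ⊔ zpowers (φ.symm y)⁆, A ⊔ zpowers (φ.symm y)⁆ = ⊥ := by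
          apply Subgroup.map_injective (f := φ.toMonoidHom) φ.injective
          rw [map_commutator, map_commutator, Subgroup.map_sup, MonoidHom.map_zpowers, Subgroup.map_bot,
            show φ.toMonoidHom (φ.symm y) = y from φ.apply_symm_apply y]
          exact hy
        have h2 := congrArg φ (hA.2 _ h1 a ha)
        rw [map_mul, map_mul, MulEquiv.apply_symm_apply] at h2
        exact h2
    rw [hE, Cfsg.dStarOf]
    infer_instance
  have hDE : D ≤ E := by
    have hfam : D.subgroupOf P ∈ Cfsg.dStarFamily P := by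
      refine ⟨⟨⟨fun a b => Subtype.ext (Subtype.ext (hDD _ a.2 _ b.2))⟩⟩, fun x hx d hd => Subtype.ext ?_⟩
      refine hkey x (hPS x.2) ?_ d hd
      have := (class_two_map _ x).mpr hx
      rwa [subgroupOf_map_subtype, inf_eq_left.mpr hDP] at this
    intro d hd
    exact ⟨⟨d, hDP hd⟩, le_sSup hfam hd, rfl⟩
  set W := normalClosure (D : Set G) with hW
  haveI : W.Normal := normalClosure_normal
  have hWE : W ≤ E := normalClosure_le_normal hDE
  have hDW : D ≤ W := le_normalClosure
  have hWS : W ≤ (S : Subgroup G) := (hWE.trans (map_subtype_le _)).trans hPS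
  -- it belongs to the family of `S`
  suffices hWD : W ≤ D by
    have : W = D := le_antisymm hWD hDW
    rw [← this]; infer_instance
  have hWfam : W.subgroupOf (S : Subgroup G) ∈ Cfsg.dStarFamily (S : Subgroup G) := by
    refine ⟨⟨⟨fun a b => Subtype.ext (Subtype.ext (by
      simpa using congrArg Subtype.val (hEc.is_comm.comm ⟨_, hWE a.2⟩ ⟨_, hWE b.2⟩)))⟩⟩, fun x hx w hw => Subtype.ext ?_⟩
    have hcl : ⁅⁅W ⊔ zpowers (x : G), W ⊔ zpowers (x : G)⁆, W ⊔ zpowers (x : G)⁆ = ⊥ := by
      have := (class_two_map _ x).mpr hx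
      rwa [subgroupOf_map_subtype, inf_eq_left.mpr hWS] at this
    have hquad : ⁅⁅W, zpowers (x : G)⁆, zpowers (x : G)⁆ = ⊥ := le_bot_iff.mp
      ((commutator_mono (commutator_mono le_sup_left le_sup_right) le_sup_right).trans hcl.le)
    have h3 := hst W ((hPp.to_le (hWE.trans (map_subtype_le _)))) (x : G) hquad
    set C := centralizer (W : Set G) with hC
    set L := (Cfsg.pCore p (G ⧸ C)).comap (QuotientGroup.mk' C) with hL
    haveI : L.Normal := inferInstance
    have hCL : C ≤ L := fun c hc' => by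
      rw [hL, mem_comap, show QuotientGroup.mk' C c = 1 from (QuotientGroup.eq_one_iff c).mpr hc']
      exact one_mem _
    have hLpow : CfsgLib.PReduced.PowMem p L C := fun l hl => by
      obtain ⟨j, hj⟩ := CfsgLib.PReduced.isPGroup_pCore p (G ⧸ C) ⟨_, hl⟩
      exact ⟨j, by rw [← QuotientGroup.eq_one_iff]; exact congrArg Subtype.val hj⟩
    obtain ⟨Q₀, hQ₀⟩ := CfsgLib.PReduced.exists_sylow_inf S L
    set Q := (S : Subgroup G) ⊓ L with hQ
    have hfrat : normalizer (Q : Set G) ⊔ L = ⊤ := by
      have h := Sylow.normalizer_sup_eq_top Q₀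
      rwa [hQ₀, subgroupOf_map_subtype, inf_eq_left.mpr (inf_le_right : (S : Subgroup G) ⊓ L ≤ L)] at h
    have hfac : ∀ g : G, ∃ c ∈ C, ∃ n ∈ normalizer (Q : Set G), g = n * c := fun g => by
      obtain ⟨n, hn, l, hl, rfl⟩ := mem_sup_of_normal_right.mp (hfrat ▸ mem_top g)
      obtain ⟨t, ht, c, hc', rfl⟩ := CfsgLib.PReduced.exists_mul_of_powMem S hCL hLpow hl
      exact ⟨c, hc', n * t, mul_mem hn (le_normalizer ht), by group⟩
    have hgen : normalClosure (D : Set G) ≤ centralizer ({(x : G)} : Set G) := by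
      rw [normalClosure, closure_le]
      intro y hy
      obtain ⟨d, hd, hdy⟩ := Group.mem_conjugatesOfSet_iff.mp hy
      obtain ⟨g, rfl⟩ := isConj_iff.mp hdy
      obtain ⟨c, hc', n, hn, rfl⟩ := hfac g
      have hcd : c * d * c⁻¹ = d := by
        rw [← mem_centralizer_iff.mp hc' d (hDW hd), mul_inv_cancel_right]
      have hx' : n⁻¹ * (x : G) * n ∈ (S : Subgroup G) := by
        have := (mem_normalizer_iff.mp (inv_mem hn) (x : G)).mp ⟨x.2, h3⟩
        have h6 := this.1
        simp only [inv_inv] at h6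
        exact h6
      have hcl' : ⁅⁅D ⊔ zpowers (n⁻¹ * (x : G) * n), D ⊔ zpowers (n⁻¹ * (x : G) * n)⁆,
          D ⊔ zpowers (n⁻¹ * (x : G) * n)⁆ = ⊥ := by
        apply Subgroup.map_injective (f := (MulAut.conj n).toMonoidHom) (MulAut.conj n).injective
        rw [map_commutator, map_commutator, Subgroup.map_sup, MonoidHom.map_zpowers, Subgroup.map_bot,
          show (MulAut.conj n).toMonoidHom (n⁻¹ * (x : G) * n) = (x : G) by simp [mul_assoc]]
        have hle : D.map (MulAut.conj n).toMonoidHom ≤ W := by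
          rintro _ ⟨e, he, rfl⟩
          exact ‹W.Normal›.conj_mem e (hDW he) n
        exact le_bot_iff.mp ((commutator_mono (commutator_mono (sup_le_sup_right hle _) (sup_le_sup_right hle _))
          (sup_le_sup_right hle _)).trans hcl.le)
      have h5 := hkey _ hx' hcl' d hd
      refine mem_centralizer_singleton_iff.mpr ?_
      calc n * c * d * (n * c)⁻¹ * (x : G) = n * (c * d * c⁻¹) * n⁻¹ * (x : G) := by group
        _ = n * (d * (n⁻¹ * (x : G) * n)) * n⁻¹ := by rw [hcd]; group
        _ = (x : G) * (n * (c * d * c⁻¹) * n⁻¹) := by rw [h5, hcd]; group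
        _ = (x : G) * (n * c * d * (n * c)⁻¹) := by group
    exact mem_centralizer_singleton_iff.mp (hgen hw)
  intro w hw
  exact ⟨⟨w, hWS hw⟩, le_sSup hWfam hw, rfl⟩

end Cfsg.Agent.S3060
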