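import Cfsg.Statements.S3836
import Mathlib

set_option autoImplicit false
open Cfsg

namespace Cfsg.Agent.S3836

private theorem pgroup_pCore {X : Type*} [Group X] [Finite X] (p : ℕ) [Fact p.Prime] :
    IsPGroup p (Cfsg.pCore p X) := by
  classical
  have key : ∀ s : Finset (Subgroup X), (∀ N ∈ s, N.Normal ∧ IsPGroup p N) →
      (s.sup id).Normal ∧ IsPGroup p ↥(s.sup id) := by
    intro s
    induction s using Finset.induction with
    | empty => intro _; exact ⟨Subgroup.normal_bot, IsPGroup.of_bot⟩
    | insert N s _ ih =>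
      intro h
      obtain ⟨h1, h2⟩ := ih fun M hM => h M (Finset.mem_insert_of_mem hM)
      obtain ⟨h3, h4⟩ := h N (Finset.mem_insert_self N s)
      rw [Finset.sup_insert, id]
      exact ⟨Subgroup.sup_normal _ _, IsPGroup.to_sup_of_normal_right h4 h2⟩
  have h := key (Set.toFinite {N : Subgroup X | N.Normal ∧ IsPGroup p N}).toFinset (fun N hN => by simpa using hN)
  unfold Cfsg.pCore
  rw [Finset.sup_id_eq_sSup, Set.Finite.coe_toFinset] at h
  exact h.2

/-- Let G be a finite group that is p-stable in the normalizer form: for every p-subgroup Q and every x ∈ N_G(Q) with [Q, x, x] = 1, the image of x in N_G(Q)/C_G(Q) lies in O_p(N_G(Q)/C_G(Q)). Then every subgroup of G is p-stable in the same sense. -/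
theorem result {G : Type*} [Group G] [Finite G] {p : ℕ} [Fact p.Prime] (hst : Cfsg.IsNormalizerPStable p G) (H : Subgroup G) : Cfsg.IsNormalizerPStable p ↥H := by
  classical
  intro P hP h hh hq
  set P' := P.map H.subtype with hP'
  have hmem : ∀ x : H, x ∈ Subgroup.normalizer (P : Set H) → (x : G) ∈ Subgroup.normalizer (P' : Set G) :=
    fun x hx => Subgroup.le_normalizer_map H.subtype ⟨x, hx, rfl⟩
  let f : ↥(Subgroup.normalizer (P : Set H)) →* ↥(Subgroup.normalizer (P' : Set G)) :=
    MonoidHom.mk' (fun x => ⟨((x : H) : G), hmem x x.2⟩) (fun x y => rfl)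
  have hcent : ∀ x : ↥(Subgroup.normalizer (P : Set H)),
      f x ∈ (Subgroup.centralizer (P' : Set G)).subgroupOf (Subgroup.normalizer (P' : Set G)) ↔
      x ∈ (Subgroup.centralizer (P : Set H)).subgroupOf (Subgroup.normalizer (P : Set H)) := by
    intro x
    simp only [Subgroup.mem_subgroupOf, Subgroup.mem_centralizer_iff, SetLike.mem_coe, hP', f, MonoidHom.mk'_apply]
    constructor
    · intro hx y hy
      exact Subtype.ext (hx y ⟨y, hy, rfl⟩)
    · rintro hx _ ⟨y, hy, rfl⟩
      exact congrArg Subtype.val (hx y hy)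
  let ι := QuotientGroup.map ((Subgroup.centralizer (P : Set H)).subgroupOf (Subgroup.normalizer (P : Set H)))
    ((Subgroup.centralizer (P' : Set G)).subgroupOf (Subgroup.normalizer (P' : Set G))) f (fun x hx => (hcent x).2 hx)
  have hι : Function.Injective ι := by
    rw [injective_iff_map_eq_one]
    intro q hq'
    obtain ⟨x, rfl⟩ := QuotientGroup.mk_surjective q
    have h1 : (QuotientGroup.mk (f x) : _ ⧸ (Subgroup.centralizer (P' : Set G)).subgroupOf (Subgroup.normalizer (P' : Set G))) = 1 := hq'
    rw [QuotientGroup.eq_one_iff, hcent] at h1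
    exact (QuotientGroup.eq_one_iff x).2 h1
  have hq' : ⁅⁅P', Subgroup.zpowers (h : G)⁆, Subgroup.zpowers (h : G)⁆ = ⊥ := by
    have e : (Subgroup.zpowers h).map H.subtype = Subgroup.zpowers (h : G) := MonoidHom.map_zpowers H.subtype h
    rw [hP', ← e, ← Subgroup.map_commutator, ← Subgroup.map_commutator, hq, Subgroup.map_bot]
  have hg := hst P' (hP.map _) (h : G) (hmem h hh) hq'
  let C := (Cfsg.pCore p (↥(Subgroup.normalizer (P' : Set G)) ⧸
          (Subgroup.centralizer (P' : Set G)).subgroupOf (Subgroup.normalizer (P' : Set G))))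
  have hCn : C.Normal := Subgroup.sSup_normal _ (fun _ h => h.1)
  have h1 : C.comap ι ≤ Cfsg.pCore p _ :=
    le_sSup (show C.comap ι ∈ {N : Subgroup _ | N.Normal ∧ IsPGroup p N} from ⟨hCn.comap ι, (pgroup_pCore p).comap_of_injective ι hι⟩)
  exact h1 hg

end Cfsg.Agent.S3836
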