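import Cfsg.Statements.S5301
import Cfsg.Agent.Fusion.NormalSub
-- import your own Cfsg.Agent.* helpers here

set_option autoImplicit false
universe u
open Cfsg

namespace Cfsg.Agent.S5301

open CfsgLib.Fusion Cfsg.FusionSystem in
/-- For a radical subgroup with normal Sylow subgroup of the automizer, `Aut_S(P) = Inn(P)`. -/
theorem eq_self {Ω : Type*} [Group Ω] {S : Subgroup Ω} [Finite S] {p : ℕ} [Fact p.Prime]
    (hS : IsPGroup p S) {F : Cfsg.FusionSystem S} (hF : F.IsSaturated p) {P : Subgroup Ω}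
    (hn : F.IsFullyNormalized P) (hc : F.IsCentric P) (hr : F.IsRadical p P)
    (hR : ∃ R : Sylow p ↥(F.autGroup P), (R : Subgroup ↥(F.autGroup P)).Normal) : P = S := by
  obtain ⟨R, hRn⟩ := hR
  haveI := finite_mulAut (S := S) hn.1
  obtain ⟨-, T, hT⟩ := fullyAutomized_of_fullyNormalized hS hF hn
  obtain ⟨c, hcT⟩ := MulAction.exists_smul_eq (F.autGroup P) R T
  rw [Sylow.smul_eq_of_normal] at hcT
  have hcore : Cfsg.pCore p (F.autGroup P) = (R : Subgroup (F.autGroup P)) :=
    le_antisymm (Cfsg.Agent.S5080.pCore_le_sylow R) (le_sSup ⟨hRn, R.isPGroup'⟩)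
  have hI := hr.2
  rw [hcore, hcT, hT, Subgroup.map_subgroupOf_eq_of_le (autInducedBy_le_autGroup hn.1)] at hI
  by_contra hne
  have hlt : P < S := lt_of_le_of_ne hn.1 hne
  obtain ⟨g, hgS, hgN, hgP⟩ := exists_normalizer_not_mem hS hlt
  have hg : conjAut P S ⟨g, hgS, hgN⟩ ∈ Cfsg.Inn P := hI ▸ range_conjAut (P := P) S ▸ ⟨_, rfl⟩
  obtain ⟨x, hx⟩ := hg
  have hC : (x : Ω)⁻¹ * g ∈ centralizerIn S P := by
    refine ⟨S.mul_mem (S.inv_mem (hn.1 x.2)) hgS, Subgroup.mem_centralizer_iff.2 fun y hy => ?_⟩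
    have h1 : (x : Ω) * y * (x : Ω)⁻¹ = g * y * g⁻¹ :=
      congrArg (fun a : MulAut P => ((a ⟨y, hy⟩ : P) : Ω)) hx
    calc y * ((x : Ω)⁻¹ * g) = (x : Ω)⁻¹ * ((x : Ω) * y * (x : Ω)⁻¹) * g := by group
      _ = (x : Ω)⁻¹ * g * y := by rw [h1]; group
  have := P.mul_mem x.2 (hc.2 P (CfsgLib.Fusion.IsConj.refl hn.1) hC)
  rw [mul_inv_cancel_left] at this
  exact hgP this


/-- Let F be a saturated fusion system over a finite p-group S. If for every subgroup P of S that is fully normalized, centric and radical in F the automorphism group that F induces on P has a normal Sylow p-subgroup, then S is normal in F. -/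
theorem result {Ω : Type u} [Group Ω] {S : Subgroup Ω} [Finite S] (p : ℕ) [Fact p.Prime] (hS : IsPGroup p S)
    (F : Cfsg.FusionSystem S) (hF : F.IsSaturated p)
    (hcl : ∀ P : Subgroup Ω, F.IsFullyNormalized P → F.IsCentric P → F.IsRadical p P →
      ∃ R : Sylow p ↥(F.autGroup P), (R : Subgroup ↥(F.autGroup P)).Normal) :
    F.IsNormal S := by
  refine CfsgLib.Fusion.isNormal_of_centricRadical hS hF le_rfl Subgroup.le_normalizer
    fun P hn hc hr => ?_
  obtain rfl := eq_self hS hF hn hc hr (hcl P hn hc hr)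
  exact ⟨le_rfl, fun α _ q _ => (α q).2⟩

end Cfsg.Agent.S5301
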