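import Mathlib
import Cfsg.Agent.Sylow2Ab.GLBlocks

/-!
The stabilizer in `GL_n` of a decomposition of the standard basis into classes, its order, and
the 2-part of the order of `GL_n(q)` for odd `q`.
-/

set_option autoImplicit false

namespace CfsgLib.GLBlockMono

open Matrix
open scoped Classical

variable {F : Type*} [Field F] [Fintype F] {n : ℕ} {C : Type*} [Fintype C] {cls : Fin n → C}

/-- The size of a class. -/
noncomputable def dim (cls : Fin n → C) (c : C) : ℕ := Nat.card {i // cls i = c}

/-- The matrices permuting the classes. -/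
def mono (F : Type*) [Field F] [Fintype F] (cls : Fin n → C) : Subgroup (GL (Fin n) F) :=
  let S : Submonoid (GL (Fin n) F) :=
    { carrier := {g | ∃ π : Equiv.Perm C, ∀ i j,
        (g : Matrix (Fin n) (Fin n) F) j i ≠ 0 → cls j = π (cls i)}
      one_mem' := ⟨1, fun i j h => by
        by_contra hne
        have : j ≠ i := fun hh => hne (by rw [hh]; rfl)
        exact h (by rw [Units.val_one, Matrix.one_apply_ne this])⟩
      mul_mem' := by
        rintro g h ⟨π, hπ⟩ ⟨τ, hτ⟩
        refine ⟨π * τ, fun i j hne => ?_⟩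
        rw [Units.val_mul, Matrix.mul_apply] at hne
        obtain ⟨l, -, hl⟩ := Finset.exists_ne_zero_of_sum_ne_zero hne
        rw [hπ l j (left_ne_zero_of_mul hl), hτ i l (right_ne_zero_of_mul hl)]
        rfl }
  { S with
    inv_mem' := fun {g} hg => by
      have h1 : g⁻¹ = g ^ (orderOf g - 1) := by
        rw [inv_eq_iff_mul_eq_one, ← pow_succ', Nat.sub_add_cancel (orderOf_pos g),
          pow_orderOf_eq_one]
      show g⁻¹ ∈ S
      rw [h1]; exact pow_mem hg _ }

theorem exists_ne_zero (g : GL (Fin n) F) (i : Fin n) :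
    ∃ j, (g : Matrix (Fin n) (Fin n) F) j i ≠ 0 := by
  by_contra h
  push Not at h
  have h1 := congrFun (congrFun g.inv_mul i) i
  rw [Matrix.mul_apply, Matrix.one_apply_eq] at h1
  simp [h] at h1

variable (hc : Function.Surjective cls)

/-- The action on the classes. -/
noncomputable def pmap : mono F cls →* Equiv.Perm C :=
  MonoidHom.mk' (fun g => Classical.choose g.2) fun g h => by
    refine Equiv.ext fun c => ?_
    obtain ⟨i, rfl⟩ := hc c
    obtain ⟨j, hj⟩ := exists_ne_zero ((g * h : mono F cls) : GL (Fin n) F) i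
    rw [← Classical.choose_spec (g * h).2 i j hj]
    rw [Subgroup.coe_mul, Units.val_mul, Matrix.mul_apply] at hj
    obtain ⟨l, -, hl⟩ := Finset.exists_ne_zero_of_sum_ne_zero hj
    rw [Classical.choose_spec g.2 l j (left_ne_zero_of_mul hl),
      Classical.choose_spec h.2 i l (right_ne_zero_of_mul hl)]
    rfl

theorem pmap_spec (g : mono F cls) (i j : Fin n)
    (h : ((g : GL (Fin n) F) : Matrix (Fin n) (Fin n) F) j i ≠ 0) :
    cls j = pmap hc g (cls i) := Classical.choose_spec g.2 i j h

theorem pmap_eq (g : mono F cls) (π : Equiv.Perm C)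
    (h : ∀ i j, ((g : GL (Fin n) F) : Matrix (Fin n) (Fin n) F) j i ≠ 0 → cls j = π (cls i)) :
    pmap hc g = π := by
  refine Equiv.ext fun c => ?_
  obtain ⟨i, rfl⟩ := hc c
  obtain ⟨j, hj⟩ := exists_ne_zero (g : GL (Fin n) F) i
  rw [← pmap_spec hc g i j hj, h i j hj]

theorem sum_dim : ∑ c, dim cls c = n := by
  unfold dim
  rw [← Nat.card_sigma, Nat.card_congr (Equiv.sigmaFiberEquiv cls), Nat.card_fin]

include hc in
theorem one_le_dim (c : C) : 1 ≤ dim cls c := by
  obtain ⟨i, hi⟩ := hc c
  haveI : Nonempty {i // cls i = c} := ⟨⟨i, hi⟩⟩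
  exact Nat.card_pos

theorem dim_pmap (g : mono F cls) (c : C) : dim cls (pmap hc g c) = dim cls c := by
  have key : ∀ (g : mono F cls) (c : C), dim cls c ≤ dim cls (pmap hc g c) := by
    intro g c
    let A : Matrix {j // cls j = pmap hc g c} {i // cls i = c} F :=
      fun j i => ((g : GL (Fin n) F) : Matrix (Fin n) (Fin n) F) j i
    have hA : Function.Injective A.mulVecLin := by
      rw [← LinearMap.ker_eq_bot, LinearMap.ker_eq_bot']
      intro v hv
      let w : Fin n → F := fun i => if h : cls i = c then v ⟨i, h⟩ else 0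
      have hw : ((g : GL (Fin n) F) : Matrix (Fin n) (Fin n) F) *ᵥ w = 0 := by
        funext j
        simp only [mulVec, dotProduct, Pi.zero_apply]
        rw [← Finset.sum_filter_of_ne (p := fun i => cls i = c) (fun i _ hi => by
          by_contra h
          exact hi (by simp [w, h])), Finset.sum_subtype (p := fun i => cls i = c) _ (by simp)]
        by_cases hj : cls j = pmap hc g c
        · have := congrFun hv ⟨j, hj⟩
          simp only [mulVecLin_apply, mulVec, dotProduct, Pi.zero_apply] at this
          rw [← this]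
          refine Finset.sum_congr rfl fun i _ => ?_
          simp [w, i.2, A]
        · refine Finset.sum_eq_zero fun i _ => mul_eq_zero_of_left ?_ _
          by_contra h
          exact hj (by rw [pmap_spec hc g _ _ h, i.2])
      have hw0 : w = 0 := by
        have h1 := congrArg (fun x => ((g⁻¹ : GL (Fin n) F) : Matrix (Fin n) (Fin n) F) *ᵥ x) hw
        simpa [mulVec_mulVec] using h1
      funext i
      simpa [w, i.2] using congrFun hw0 i
    have := LinearMap.finrank_le_finrank_of_injective hA
    simpa [dim, Module.finrank_fintype_fun_eq_card, Nat.card_eq_fintype_card] using this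
  refine le_antisymm ?_ (key g c)
  have h := key g⁻¹ (pmap hc g c)
  rwa [map_inv, Equiv.Perm.inv_def, Equiv.symm_apply_apply] at h

/-- The permutations of the classes preserving their sizes. -/
def stab (cls : Fin n → C) : Subgroup (Equiv.Perm C) where
  carrier := {π | ∀ c, dim cls (π c) = dim cls c}
  one_mem' _ := rfl
  mul_mem' {a b} ha hb c := (ha _).trans (hb c)
  inv_mem' {a} ha c := by
    have := ha (a⁻¹ c)
    rw [Equiv.Perm.inv_def, Equiv.apply_symm_apply, ← Equiv.Perm.inv_def] at this
    exact this.symm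

/-- Permutation matrices. -/
noncomputable def pm : Equiv.Perm (Fin n) →* GL (Fin n) F :=
  (MonoidHom.mk
    { toFun := fun σ => (σ⁻¹ : Equiv.Perm (Fin n)).permMatrix F
      map_one' := by simp }
    fun a b => by
      show ((a * b)⁻¹ : Equiv.Perm (Fin n)).permMatrix F =
        (a⁻¹ : Equiv.Perm (Fin n)).permMatrix F * (b⁻¹ : Equiv.Perm (Fin n)).permMatrix F
      rw [_root_.mul_inv_rev, Matrix.permMatrix_mul]).toHomUnits

theorem pm_apply (σ : Equiv.Perm (Fin n)) (j i : Fin n) :
    ((pm σ : GL (Fin n) F) : Matrix (Fin n) (Fin n) F) j i = if j = σ i then 1 else 0 := by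
  show (σ⁻¹ : Equiv.Perm (Fin n)).permMatrix F j i = _
  rw [Equiv.Perm.permMatrix, PEquiv.toMatrix_apply]
  simp [Equiv.eq_symm_apply, Equiv.symm_apply_eq]

include hc in
theorem exists_lift {π : Equiv.Perm C} (hπ : π ∈ stab cls) :
    ∃ σ : Equiv.Perm (Fin n), ∀ i, cls (σ i) = π (cls i) := by
  have h1 : ∀ c, Nonempty ({a // π (cls a) = c} ≃ {b // cls b = c}) := fun c => by
    refine ⟨Fintype.equivOfCardEq ?_⟩
    rw [← Nat.card_eq_fintype_card, ← Nat.card_eq_fintype_card]
    show _ = dim cls c
    have e : {a // π (cls a) = c} ≃ {a // cls a = π.symm c} :=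
      Equiv.subtypeEquivRight fun a => by rw [Equiv.eq_symm_apply]
    rw [Nat.card_congr e]
    show dim cls (π.symm c) = _
    have := hπ (π.symm c)
    rw [Equiv.apply_symm_apply] at this
    exact this.symm
  refine ⟨Equiv.ofFiberEquiv fun c => (h1 c).some, fun i => ?_⟩
  exact Equiv.ofFiberEquiv_map _ i

theorem pm_mem (σ : Equiv.Perm (Fin n)) (π : Equiv.Perm C) (h : ∀ i, cls (σ i) = π (cls i)) :
    pm σ ∈ mono F cls := ⟨π, fun i j hne => by
      rw [pm_apply] at hne
      split at hne
      · subst j; exact h i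
      · exact absurd rfl hne⟩

theorem range_pmap : (pmap (F := F) hc).range = stab cls := by
  refine le_antisymm ?_ fun π hπ => ?_
  · rintro _ ⟨g, rfl⟩; exact dim_pmap hc g
  · obtain ⟨σ, hσ⟩ := exists_lift hc hπ
    refine ⟨⟨pm σ, pm_mem σ π hσ⟩, pmap_eq hc _ _ fun i j h => ?_⟩
    rw [pm_apply] at h
    split at h
    · subst j; exact hσ i
    · exact absurd rfl h

/-- Block diagonal matrices along the classes. -/
noncomputable def blockHom (F : Type*) [Field F] (cls : Fin n → C) :
    ((c : C) → Matrix {i // cls i = c} {i // cls i = c} F) →* Matrix (Fin n) (Fin n) F :=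
  (Matrix.reindexRingEquiv F (Equiv.sigmaFiberEquiv cls)).toMonoidHom.comp
    (Matrix.blockDiagonal'RingHom _ F).toMonoidHom

theorem blockHom_injective : Function.Injective (blockHom F cls) :=
  (Matrix.reindexRingEquiv F (Equiv.sigmaFiberEquiv cls)).injective.comp blockDiagonal'_injective

theorem blockHom_apply (A : (c : C) → Matrix {i // cls i = c} {i // cls i = c} F) (j i : Fin n) :
    blockHom F cls A j i = blockDiagonal' A ⟨cls j, j, rfl⟩ ⟨cls i, i, rfl⟩ := rfl

theorem blockHom_eq_zero (A : (c : C) → Matrix {i // cls i = c} {i // cls i = c} F) (j i : Fin n)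
    (h : cls j ≠ cls i) : blockHom F cls A j i = 0 := by
  rw [blockHom_apply]; exact blockDiagonal'_apply_ne _ _ _ h

theorem exists_blocks (M : Matrix (Fin n) (Fin n) F) (h : ∀ i j, M j i ≠ 0 → cls j = cls i) :
    ∃ A, blockHom F cls A = M := by
  refine ⟨fun c => M.submatrix (Subtype.val) (Subtype.val), ?_⟩
  ext j i
  rw [blockHom_apply, blockDiagonal'_apply']
  split
  · next hji =>
    have : ∀ (c : C) (hh : cls i = c) (y : {k // cls k = c}), y = cast (by rw [hh]) (⟨i, rfl⟩ : {k // cls k = cls i}) →
        (y : Fin n) = i := by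
      intro c hh y hy; subst hh; subst hy; rfl
    exact congrArg (M j) (this _ hji.symm _ rfl)
  · next hji =>
    by_contra hne
    exact hji (h i j (Ne.symm hne))

/-- The kernel of the action on the classes. -/
noncomputable def kerEquiv :
    ((c : C) → GL {i // cls i = c} F) ≃ (pmap (F := F) hc).ker := by
  let β : ((c : C) → GL {i // cls i = c} F) →* GL (Fin n) F :=
    ((blockHom F cls).comp (Pi.monoidHom fun c => (Units.coeHom _).comp (Pi.evalMonoidHom _ c))).toHomUnits
  have hβv : ∀ A, ((β A : GL (Fin n) F) : Matrix (Fin n) (Fin n) F) = blockHom F cls fun c => (A c).val :=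
    fun A => rfl
  have hmem : ∀ A, β A ∈ mono F cls := fun A => ⟨1, fun i j h => by
    rw [hβv] at h
    by_contra hne
    exact h (blockHom_eq_zero _ _ _ hne)⟩
  have hker : ∀ A, (⟨β A, hmem A⟩ : mono F cls) ∈ (pmap hc).ker := fun A => by
    rw [MonoidHom.mem_ker]
    refine pmap_eq hc _ _ fun i j h => ?_
    rw [hβv] at h
    by_contra hne
    exact h (blockHom_eq_zero _ _ _ hne)
  refine Equiv.ofBijective (fun A => ⟨⟨β A, hmem A⟩, hker A⟩) ⟨fun A B h => ?_, ?_⟩
  · have h1 := congrArg (fun x : (pmap hc).ker => ((x : mono F cls) : GL (Fin n) F).val) h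
    simp only [hβv] at h1
    exact funext fun c => Units.ext (congrFun (blockHom_injective h1) c)
  · rintro ⟨g, hg⟩
    have hsupp : ∀ (g : mono F cls), g ∈ (pmap hc).ker → ∀ i j,
        ((g : GL (Fin n) F) : Matrix (Fin n) (Fin n) F) j i ≠ 0 → cls j = cls i := by
      intro g hg i j h
      have := pmap_spec hc g i j h
      rw [MonoidHom.mem_ker.1 hg] at this
      exact this
    obtain ⟨A, hA⟩ := exists_blocks _ (hsupp g hg)
    obtain ⟨B, hB⟩ := exists_blocks _ (hsupp g⁻¹ (inv_mem hg))
    have h1 : A * B = 1 := blockHom_injective (by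
      rw [map_mul, map_one, hA, hB, ← Units.val_mul, ← Subgroup.coe_mul, mul_inv_cancel]; rfl)
    have h2 : B * A = 1 := blockHom_injective (by
      rw [map_mul, map_one, hA, hB, ← Units.val_mul, ← Subgroup.coe_mul, inv_mul_cancel]; rfl)
    refine ⟨fun c => ⟨A c, B c, congrFun h1 c, congrFun h2 c⟩, ?_⟩
    exact Subtype.ext (Subtype.ext (Units.ext hA))

include hc in
theorem card_mono : Nat.card (mono F cls) =
    Nat.card (stab cls) * ∏ c, Nat.card (GL (Fin (dim cls c)) F) := by
  rw [← Subgroup.index_mul_card (pmap (F := F) hc).ker, Subgroup.index_ker, range_pmap,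
    ← Nat.card_congr (kerEquiv (F := F) hc), Nat.card_pi]
  congr 1
  refine Finset.prod_congr rfl fun c _ => Nat.card_congr ?_
  exact (Units.mapEquiv (Matrix.reindexRingEquiv F
    ((Fintype.equivFin _).trans (finCongr Nat.card_eq_fintype_card.symm))).toMulEquiv).toEquiv

include hc in
theorem card_stab_mul_dvd : Nat.card (stab cls) * ∏ c, (dim cls c).factorial ∣ n.factorial := by
  let H : Subgroup (Equiv.Perm (Fin n)) := (mono (ZMod 2) cls).comap pm
  let φ : H →* Equiv.Perm C := (pmap hc).comp (pm.subgroupComap (mono (ZMod 2) cls))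
  have hφ : ∀ (σ : H) i, cls ((σ : Equiv.Perm (Fin n)) i) = φ σ (cls i) := fun σ i =>
    pmap_spec hc ⟨pm (σ : Equiv.Perm (Fin n)), σ.2⟩ i _ (by rw [pm_apply, if_pos rfl]; exact one_ne_zero)
  have hr : φ.range = stab cls := by
    refine le_antisymm ?_ fun π hπ => ?_
    · rintro _ ⟨σ, rfl⟩; exact dim_pmap hc _
    · obtain ⟨σ, hσ⟩ := exists_lift hc hπ
      refine ⟨⟨σ, pm_mem σ π hσ⟩, Equiv.ext fun c => ?_⟩
      obtain ⟨i, rfl⟩ := hc c
      rw [← hφ, hσ]
  have hk : Nat.card φ.ker = ∏ c, (dim cls c).factorial := by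
    have e : φ.ker ≃ {g : Equiv.Perm (Fin n) // cls ∘ ⇑g = cls} :=
      { toFun := fun σ => ⟨(σ : H).1, funext fun i => by
          show cls (_ : Fin n) = _
          rw [hφ, MonoidHom.mem_ker.1 σ.2]; rfl⟩
        invFun := fun g => ⟨⟨g.1, pm_mem g.1 1 fun i => congrFun g.2 i⟩, MonoidHom.mem_ker.2 (Equiv.ext fun c => by
          obtain ⟨i, rfl⟩ := hc c
          rw [← hφ]; exact congrFun g.2 i)⟩
        left_inv := fun σ => rfl
        right_inv := fun g => rfl }
    rw [Nat.card_congr e, Nat.card_eq_fintype_card, DomMulAct.stabilizer_card]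
    simp [dim, Nat.card_eq_fintype_card]
  have h1 : Nat.card H = Nat.card (stab cls) * ∏ c, (dim cls c).factorial := by
    rw [← Subgroup.index_mul_card φ.ker, Subgroup.index_ker, hr, hk]
  rw [← h1]
  have h2 := Subgroup.card_subgroup_dvd_card H
  rwa [Nat.card_perm, Nat.card_fin] at h2

/-- The scalar signs on each class. -/
noncomputable def signs : (C → ℤˣ) →* GL (Fin n) F :=
  (((Matrix.diagonalRingHom (Fin n) F).toMonoidHom).comp
    (Pi.monoidHom fun i => ((Int.castRingHom F).toMonoidHom.comp (Units.coeHom ℤ)).comp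
      (Pi.evalMonoidHom _ (cls i)))).toHomUnits

theorem signs_val (s : C → ℤˣ) : ((signs (cls := cls) s : GL (Fin n) F) : Matrix (Fin n) (Fin n) F) =
    diagonal fun i => (((s (cls i) : ℤˣ) : ℤ) : F) := rfl

theorem signs_mem (s : C → ℤˣ) : signs (cls := cls) s ∈ mono F cls := ⟨1, fun i j h => by
  rw [signs_val] at h
  by_contra hne
  exact h (diagonal_apply_ne _ fun hji => hne (congrArg cls hji))⟩

theorem signs_conj (g : GL (Fin n) F) (hg : g ∈ mono F cls) (s : C → ℤˣ) :
    ∃ t : C → ℤˣ, g * signs (cls := cls) s * g⁻¹ = signs (cls := cls) t := by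
  obtain ⟨π, hπ⟩ := hg
  refine ⟨fun c => s (π.symm c), ?_⟩
  rw [mul_inv_eq_iff_eq_mul]
  refine Units.ext ?_
  rw [Units.val_mul, Units.val_mul, signs_val, signs_val]
  ext j i
  rw [mul_diagonal, diagonal_mul]
  by_cases h : (g : Matrix (Fin n) (Fin n) F) j i = 0
  · rw [h, zero_mul, mul_zero]
  · rw [hπ i j h, Equiv.symm_apply_apply, mul_comm]

include hc in
theorem signs_injective (h2 : (2 : F) ≠ 0) : Function.Injective (signs (F := F) (cls := cls)) := by
  intro s t h
  have h1 := congrArg Units.val h
  rw [signs_val, signs_val] at h1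
  funext c
  obtain ⟨i, rfl⟩ := hc c
  have h3 := congrFun (diagonal_injective h1) i
  rcases Int.units_eq_one_or (s (cls i)) with a | a <;>
    rcases Int.units_eq_one_or (t (cls i)) with b | b <;> rw [a, b] at h3 ⊢ <;> norm_num at h3
  all_goals exfalso; first | exact h2 (by linear_combination h3) | exact h2 (by linear_combination -h3)

/-! ### Valuations -/

omit [Fintype C] in
theorem factorization_GL (hF : Odd (Fintype.card F)) (m : ℕ) :
    (Nat.card (GL (Fin m) F)).factorization 2 + (2 * (Fintype.card F - 1).factorization 2 + 1) * (m / 2) =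
      m * (Fintype.card F - 1).factorization 2 +
        (Nat.card (GL (Fin 2) F)).factorization 2 * (m / 2) + m.factorial.factorization 2 := by
  haveI : Fact (Nat.Prime 2) := ⟨Nat.prime_two⟩
  set a := (Fintype.card F - 1).factorization 2 with ha
  obtain ⟨k, rfl | rfl⟩ := m.even_or_odd'
  · rw [Sylow2Ab.GLBlocks.factorization_GL_two_mul hF, Nat.mul_div_cancel_left _ (by norm_num),
      Nat.factorization_def (2 * k).factorial Nat.prime_two, padicValNat_factorial_mul,
      ← Nat.factorization_def _ Nat.prime_two]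
    ring
  · rw [Sylow2Ab.GLBlocks.factorization_GL_succ hF, Sylow2Ab.GLBlocks.factorization_GL_two_mul hF,
      Sylow2Ab.GLBlocks.factorization_odd_pow hF Fintype.one_lt_card, show (2 * k + 1) / 2 = k by omega,
      Nat.factorization_def (2 * k + 1).factorial Nat.prime_two,
      padicValNat_factorial_mul_add k (by norm_num : 1 < 2), padicValNat_factorial_mul,
      ← Nat.factorization_def _ Nat.prime_two, ← ha]
    ring

omit [Fintype C] in
theorem factorization_GL_two (hF : Odd (Fintype.card F)) :
    (Nat.card (GL (Fin 2) F)).factorization 2 =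
      2 * (Fintype.card F - 1).factorization 2 + (Fintype.card F + 1).factorization 2 := by
  rw [Sylow2Ab.GLBlocks.factorization_GL_succ hF, Sylow2Ab.GLBlocks.factorization_GL_succ hF,
    show (Nat.card (GL (Fin 0) F)).factorization 2 = 0 by simp, Nat.zero_add]
  have h1 := Fintype.one_lt_card (α := F)
  rw [show Fintype.card F ^ (1 + 1) - 1 = (Fintype.card F + 1) * (Fintype.card F - 1) by
    rw [← Nat.sq_sub_sq, one_pow], Nat.factorization_mul (by omega) (by omega), Finsupp.add_apply]
  simp only [Nat.zero_add, pow_one]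
  ring

include hc in
theorem factorization_mono : (Nat.card (mono F cls)).factorization 2 =
    (Nat.card (stab cls)).factorization 2 +
      ∑ c, (Nat.card (GL (Fin (dim cls c)) F)).factorization 2 := by
  rw [card_mono hc, Nat.factorization_mul Nat.card_pos.ne'
    (Finset.prod_ne_zero_iff.2 fun c _ => Nat.card_pos.ne'), Finsupp.add_apply,
    Nat.factorization_prod fun c _ => Nat.card_pos.ne', Finsupp.finsetSum_apply]

include hc in
/-- If the block group contains a Sylow 2-subgroup, then there are few classes of odd size. -/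
theorem card_classes_le (hF : Odd (Fintype.card F)) (h4 : Fintype.card F % 4 = 3)
    (hle : (Nat.card (GL (Fin n) F)).factorization 2 ≤ (Nat.card (mono F cls)).factorization 2) :
    Fintype.card C ≤ (n + 1) / 2 := by
  rw [factorization_mono hc] at hle
  set a := (Fintype.card F - 1).factorization 2
  set b := (Fintype.card F + 1).factorization 2
  set f : ℕ → ℕ := fun m => (Nat.card (GL (Fin m) F)).factorization 2
  have hb : 2 ≤ b := (Nat.Prime.pow_dvd_iff_le_factorization Nat.prime_two (by omega)).1 (by omega)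
  have hfac : (Nat.card (stab cls)).factorization 2 + ∑ c, (dim cls c).factorial.factorization 2 ≤
      n.factorial.factorization 2 := by
    have h := (Nat.factorization_le_iff_dvd (mul_ne_zero Nat.card_pos.ne'
      (Finset.prod_ne_zero_iff.2 fun c _ => (Nat.factorial_pos _).ne')) (Nat.factorial_pos n).ne').2
      (card_stab_mul_dvd hc) 2
    rwa [Nat.factorization_mul Nat.card_pos.ne' (Finset.prod_ne_zero_iff.2 fun c _ => (Nat.factorial_pos _).ne'),
      Finsupp.add_apply, Nat.factorization_prod fun c _ => (Nat.factorial_pos _).ne',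
      Finsupp.finsetSum_apply] at h
  have hn := factorization_GL (F := F) hF n
  have hd : ∑ c, f (dim cls c) + (2 * a + 1) * ∑ c, dim cls c / 2 =
      (∑ c, dim cls c) * a + (2 * a + b) * (∑ c, dim cls c / 2) +
        ∑ c, (dim cls c).factorial.factorization 2 := by
    rw [Finset.mul_sum, Finset.mul_sum, Finset.sum_mul, ← Finset.sum_add_distrib,
      ← Finset.sum_add_distrib, ← Finset.sum_add_distrib]
    refine Finset.sum_congr rfl fun c _ => ?_
    rw [factorization_GL hF, factorization_GL_two hF]
  rw [factorization_GL_two hF] at hn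
  rw [sum_dim] at hd
  have hsum : n / 2 ≤ ∑ c, dim cls c / 2 := by
    by_contra hlt
    push Not at hlt
    nlinarith [hn, hd, hle, hfac, hlt, hb]
  have h5 : Fintype.card C + ∑ c, dim cls c / 2 ≤ n := by
    refine le_of_le_of_eq ?_ (sum_dim (cls := cls))
    rw [Fintype.card_eq_sum_ones, ← Finset.sum_add_distrib]
    exact Finset.sum_le_sum fun c _ => by have := one_le_dim hc c; omega
  omega

end CfsgLib.GLBlockMono
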