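import Cfsg.Statements.S3116
import Mathlib.GroupTheory.SpecificGroups.Cyclic
import Mathlib.GroupTheory.SpecificGroups.Dihedral
import Mathlib.GroupTheory.Perm.Cycle.Type

set_option autoImplicit false
open Cfsg

namespace Cfsg.Agent.S3116

theorem isPGroup_mulAut {X : Type*} [Group X] [Finite X] (k : ℕ) (r : X) (hr : orderOf r = 2 ^ k)
    (hidx : (Subgroup.zpowers r).index = 2) (hout : ∀ x : X, x ∉ Subgroup.zpowers r → orderOf x ≠ 2 ^ k) :
    IsPGroup 2 (MulAut X) := by
  haveI : Fact (Nat.Prime 2) := ⟨Nat.prime_two⟩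
  rw [IsPGroup.iff_card]
  obtain ⟨e, he⟩ : ∃ e, Nat.card (MulAut X) = 2 ^ e := by
    refine ⟨_, Nat.eq_prime_pow_of_unique_prime_dvd (p := 2) Nat.card_pos.ne' ?_⟩
    intro p hp hd
    by_contra hp2
    haveI : Fact p.Prime := ⟨hp⟩
    obtain ⟨φ, hφ⟩ := exists_prime_orderOf_dvd_card' p hd
    have hcop : p.Coprime 2 := (Nat.coprime_primes hp Nat.prime_two).2 hp2
    set A := Subgroup.zpowers r with hA
    have hinv : ∀ a ∈ A, φ a ∈ A := fun a ha => by
      obtain ⟨j, rfl⟩ := Subgroup.mem_zpowers_iff.1 ha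
      rw [map_zpow]
      refine A.zpow_mem ?_ j
      by_contra hn
      exact hout _ hn (by rw [MulEquiv.orderOf_eq, hr])
    have hfix : ∀ a ∈ A, φ a = a := by
      obtain ⟨j, hj⟩ := Subgroup.mem_zpowers_iff.1 (hinv r (Subgroup.mem_zpowers r))
      have hpow : ∀ t : ℕ, (φ ^ t) r = r ^ (j ^ t : ℤ) := by
        intro t
        induction t with
        | zero => simp
        | succ t ih => rw [pow_succ', MulAut.mul_apply, ih, map_zpow, ← hj, ← zpow_mul, pow_succ']
      have hphi : φ r = r := by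
        have h1 := hpow p
        rw [← hφ, pow_orderOf_eq_one, MulAut.one_apply] at h1
        have h2 : ((2 ^ k : ℕ) : ℤ) ∣ j ^ orderOf φ - 1 := by
          rw [← hr, orderOf_dvd_iff_zpow_eq_one, zpow_sub, zpow_one, ← h1, mul_inv_cancel]
        rw [← hj]
        rcases k with _ | k
        · rw [pow_zero] at hr
          rw [orderOf_eq_one_iff.1 hr, one_zpow]
        set u : ZMod (2 ^ (k + 1)) := (j : ZMod (2 ^ (k + 1))) with hu
        have h3 : u ^ p = 1 := by
          have h4 := (ZMod.intCast_zmod_eq_zero_iff_dvd _ _).2 h2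
          rw [hφ] at h4
          push_cast at h4
          exact sub_eq_zero.1 h4
        have hunit : IsUnit u := IsUnit.of_pow_eq_one h3 hp.ne_zero
        obtain ⟨w, hw⟩ := hunit
        have h5 : w ^ p = 1 := Units.ext (by rw [Units.val_pow_eq_pow_val, hw, h3, Units.val_one])
        have h6 : orderOf w ∣ 2 ^ k := by
          have h := orderOf_dvd_natCard w
          rw [Nat.card_eq_fintype_card, ZMod.card_units_eq_totient, Nat.totient_prime_pow_succ Nat.prime_two] at h
          simpa using h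
        have h7 : w = 1 := orderOf_eq_one_iff.1 (Nat.eq_one_of_dvd_coprimes (hcop.pow_right k)
          (orderOf_dvd_of_pow_eq_one h5) h6)
        have h8 : ((2 ^ (k + 1) : ℕ) : ℤ) ∣ j - 1 := by
          rw [← ZMod.intCast_zmod_eq_zero_iff_dvd]
          push_cast
          rw [← hu, ← hw, h7, Units.val_one, sub_self]
        rw [← hr, orderOf_dvd_iff_zpow_eq_one, zpow_sub, zpow_one, mul_inv_eq_one] at h8
        exact h8
      intro a ha
      obtain ⟨i, rfl⟩ := Subgroup.mem_zpowers_iff.1 ha
      rw [map_zpow, hphi]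
    have h1 : φ = 1 := by
      refine MulEquiv.ext fun x => ?_
      rw [MulAut.one_apply]
      by_cases hx : x ∈ A
      · exact hfix x hx
      have hmem : φ x * x⁻¹ ∈ A := by
        rw [Subgroup.mul_mem_iff_of_index_two hidx, inv_mem_iff]
        refine iff_of_false (fun h => hx ?_) hx
        have h2 : φ (φ x) = φ x := hfix _ h
        rwa [φ.injective h2] at h
      set t := φ x * x⁻¹ with ht
      have hpow : ∀ i : ℕ, (φ ^ i) x = t ^ i * x := by
        intro i
        induction i with
        | zero => simp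
        | succ i ih =>
          rw [pow_succ', MulAut.mul_apply, ih, map_mul, map_pow, hfix t hmem, pow_succ, mul_assoc, ht,
            inv_mul_cancel_right]
      have h3 := hpow p
      rw [← hφ, pow_orderOf_eq_one, MulAut.one_apply, right_eq_mul, hφ] at h3
      have h4 : t = 1 := orderOf_eq_one_iff.1 (Nat.eq_one_of_dvd_coprimes (hcop.pow_right k)
        (orderOf_dvd_of_pow_eq_one h3) (by
          have h5 := orderOf_dvd_natCard (⟨t, hmem⟩ : A)
          rw [Subgroup.orderOf_mk, hA, Nat.card_zpowers, hr] at h5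
          exact h5))
      exact mul_inv_eq_one.1 h4
    rw [h1, orderOf_one] at hφ
    exact hp.one_lt.ne hφ
  exact ⟨e, he⟩


/-- The automorphism group of a dihedral 2-group of order at least 8, or of a quasi-dihedral (semidihedral) 2-group of order at least 16, is a 2-group. -/
theorem result {X : Type*} [Group X] [Finite X] (h2 : IsPGroup 2 X)
    (h : (∃ n : ℕ, 4 ≤ n ∧ Nonempty (X ≃* DihedralGroup n)) ∨ Cfsg.IsQuasiDihedral X) : IsPGroup 2 (MulAut X) := by
  haveI : Fact (Nat.Prime 2) := ⟨Nat.prime_two⟩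
  rcases h with ⟨n, hn, ⟨e⟩⟩ | ⟨n, hn, hX, x, y, hx, hy, hrel⟩
  · obtain ⟨j, hj⟩ := IsPGroup.iff_card.1 h2
    rw [Nat.card_congr e.toEquiv, DihedralGroup.nat_card] at hj
    obtain ⟨k, -, hk⟩ := (Nat.dvd_prime_pow Nat.prime_two).1 (Dvd.intro_left 2 hj)
    refine isPGroup_mulAut k (e.symm (DihedralGroup.r 1)) (by rw [MulEquiv.orderOf_eq, DihedralGroup.orderOf_r_one, hk]) ?_ ?_
    · have h1 := Subgroup.card_mul_index (Subgroup.zpowers (e.symm (DihedralGroup.r 1)))
      rw [Nat.card_zpowers, MulEquiv.orderOf_eq, DihedralGroup.orderOf_r_one, Nat.card_congr e.toEquiv,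
        DihedralGroup.nat_card, mul_comm 2 n] at h1
      exact Nat.eq_of_mul_eq_mul_left (by omega) h1
    · intro x hx ho
      obtain ⟨y, rfl⟩ := e.symm.surjective x
      haveI : NeZero n := ⟨by omega⟩
      cases y with
      | r i =>
        refine hx ⟨(i.val : ℤ), ?_⟩
        show e.symm (DihedralGroup.r 1) ^ ((i.val : ℕ) : ℤ) = _
        rw [zpow_natCast, ← map_pow, DihedralGroup.r_one_pow, ZMod.natCast_zmod_val]
      | sr i =>
        rw [MulEquiv.orderOf_eq, DihedralGroup.orderOf_sr, ← hk] at ho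
        omega
  · have hidx : (Subgroup.zpowers x).index = 2 := by
      have h1 := Subgroup.card_mul_index (Subgroup.zpowers x)
      rw [Nat.card_zpowers, hx, hX, pow_succ] at h1
      exact Nat.eq_of_mul_eq_mul_left (pow_pos two_pos n) h1
    refine isPGroup_mulAut n x hx hidx fun w hw ho => ?_
    have hyn : y ∉ Subgroup.zpowers x := fun h => by
      obtain ⟨j, hj⟩ := Subgroup.mem_zpowers_iff.1 h
      have h1 : y * x * y⁻¹ = x := by
        rw [← hj, mul_inv_eq_iff_eq_mul]
        exact ((Commute.refl x).zpow_left j).eq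
      rw [hrel] at h1
      have h4 : 4 ≤ 2 ^ (n - 1) := by
        calc 4 = 2 ^ 2 := by norm_num
          _ ≤ 2 ^ (n - 1) := Nat.pow_le_pow_right (by norm_num) (by omega)
      have h2 : x ^ (2 ^ (n - 1) - 2) = 1 := by
        refine mul_right_cancel (b := x) ?_
        rw [← pow_succ, show 2 ^ (n - 1) - 2 + 1 = 2 ^ (n - 1) - 1 by omega, h1, one_mul]
      have h3 := Nat.le_of_dvd (by omega) (orderOf_dvd_of_pow_eq_one h2)
      have : 2 ^ n = 2 * 2 ^ (n - 1) := by rw [← pow_succ']; congr 1; omega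
      omega
    have hy2 : y * y = 1 := by rw [← pow_two, ← hy, pow_orderOf_eq_one]
    have hwy : w * y ∈ Subgroup.zpowers x := (Subgroup.mul_mem_iff_of_index_two hidx).2 (iff_of_false hw hyn)
    obtain ⟨i, hi⟩ := mem_powers_iff_mem_zpowers.2 hwy
    have hw' : w = x ^ i * y := by rw [show x ^ i = w * y from hi, mul_assoc, hy2, mul_one]
    have hsq : w * w = x ^ (i + (2 ^ (n - 1) - 1) * i) := by
      rw [hw', pow_add, pow_mul x _ i, ← hrel, conj_pow, inv_eq_of_mul_eq_one_right hy2]
      simp only [mul_assoc]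
    have h4 : w ^ 4 = 1 := by
      rw [show 4 = 2 * 2 from rfl, pow_mul, pow_two w, hsq, ← pow_mul,
        show (i + (2 ^ (n - 1) - 1) * i) * 2 = 2 ^ n * i by
          have h5 : 2 ^ n = 2 * 2 ^ (n - 1) := by rw [← pow_succ']; congr 1; omega
          have h6 : 1 ≤ 2 ^ (n - 1) := Nat.one_le_two_pow
          rw [h5]
          zify [h6]
          ring,
        pow_mul, ← hx, pow_orderOf_eq_one, one_pow]
    have h7 := Nat.le_of_dvd (by norm_num) (orderOf_dvd_of_pow_eq_one h4)
    rw [ho] at h7
    have : 2 ^ 3 ≤ 2 ^ n := Nat.pow_le_pow_right (by norm_num) hn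
    omega

end Cfsg.Agent.S3116
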