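import Cfsg.Statements.S3304
import Cfsg.Agent.S3116
import Cfsg.Agent.S3742
import Cfsg.Agent.RankOneP.Basic
import Cfsg.Agent.SolvTwoCore.Basic
import Cfsg.Agent.PCore.Basic

set_option autoImplicit false
open Cfsg
open scoped Pointwise

namespace Cfsg.Agent.S3304

/-- model quaternion subgroup of `GL(2,3)` -/
def qmat : QuaternionGroup 2 → Matrix (Fin 2) (Fin 2) (ZMod 3)
  | .a i => (!![0, -1; 1, 0] : Matrix (Fin 2) (Fin 2) (ZMod 3)) ^ i.val
  | .xa i => !![1, 1; 1, -1] * (!![0, -1; 1, 0] : Matrix (Fin 2) (Fin 2) (ZMod 3)) ^ i.val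

theorem qmat_mul : ∀ u v : QuaternionGroup 2, qmat (u * v) = qmat u * qmat v := by decide +kernel

theorem qmat_det : ∀ u : QuaternionGroup 2, (qmat u).det = 1 := by decide +kernel

theorem qmat_one : qmat 1 = 1 := by decide +kernel

theorem umat_sq : (!![1, 0; 0, -1] : Matrix (Fin 2) (Fin 2) (ZMod 3)) * !![1, 0; 0, -1] = 1 := by decide +kernel

theorem udet : (!![1, 0; 0, -1] : Matrix (Fin 2) (Fin 2) (ZMod 3)).det ≠ 1 := by decide +kernel

theorem qmat_inj : Function.Injective qmat := fun u v h =>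
  (by decide +kernel : ∀ u v : QuaternionGroup 2, qmat u = qmat v → u = v) u v h

theorem qmat_normal : ∀ p q r s : ZMod 3, p * s - q * r ≠ 0 → ∀ u : QuaternionGroup 2,
    ∃ v : QuaternionGroup 2, (!![p, q; r, s] : Matrix (Fin 2) (Fin 2) (ZMod 3)) * qmat u = qmat v * !![p, q; r, s] := by
  decide +kernel

theorem qmat_cent : ∀ p q r s : ZMod 3, p * s - q * r ≠ 0 →
    (!![p, q; r, s] : Matrix (Fin 2) (Fin 2) (ZMod 3)) * qmat (.a 1) = qmat (.a 1) * !![p, q; r, s] →
    (!![p, q; r, s] : Matrix (Fin 2) (Fin 2) (ZMod 3)) * qmat (.xa 0) = qmat (.xa 0) * !![p, q; r, s] →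
    ∃ v : QuaternionGroup 2, qmat v = !![p, q; r, s] := by
  decide +kernel

theorem gl_data : ∃ e : QuaternionGroup 2 →* GL (Fin 2) (ZMod 3), Function.Injective e ∧ e.range.Normal ∧
    Subgroup.centralizer (e.range : Set (GL (Fin 2) (ZMod 3))) ≤ e.range ∧
    ∃ u : GL (Fin 2) (ZMod 3), u ^ 2 = 1 ∧ u ∉ e.range := by
  haveI : Fact (Nat.Prime 3) := ⟨Nat.prime_three⟩
  let f : QuaternionGroup 2 →* Matrix (Fin 2) (Fin 2) (ZMod 3) :=
    { toFun := qmat, map_one' := qmat_one, map_mul' := qmat_mul }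
  let e := f.toHomUnits
  have he : ∀ v, ((e v : GL (Fin 2) (ZMod 3)) : Matrix (Fin 2) (Fin 2) (ZMod 3)) = qmat v := fun v => rfl
  have key : ∀ g : GL (Fin 2) (ZMod 3), ∃ p q r s : ZMod 3, p * s - q * r ≠ 0 ∧
      (g : Matrix (Fin 2) (Fin 2) (ZMod 3)) = !![p, q; r, s] := fun g => by
    refine ⟨_, _, _, _, ?_, Matrix.eta_fin_two _⟩
    rw [← Matrix.det_fin_two]
    exact ((Matrix.isUnit_iff_isUnit_det _).1 g.isUnit).ne_zero
  refine ⟨e, fun u v h => qmat_inj (congrArg Units.val h), ⟨?_⟩, ?_, ?_⟩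
  · rintro _ ⟨v, rfl⟩ g
    obtain ⟨p, q, r, s, hd, hg⟩ := key g
    obtain ⟨w, hw⟩ := qmat_normal p q r s hd v
    refine ⟨w, eq_mul_inv_of_mul_eq (Units.ext ?_)⟩
    rw [Units.val_mul, Units.val_mul, he, he, hg]
    exact hw.symm
  · intro g hg
    obtain ⟨p, q, r, s, hd, hgm⟩ := key g
    have h1 := congrArg Units.val (Subgroup.mem_centralizer_iff.1 hg _ ⟨.a 1, rfl⟩)
    have h2 := congrArg Units.val (Subgroup.mem_centralizer_iff.1 hg _ ⟨.xa 0, rfl⟩)
    simp only [Units.val_mul, he, hgm] at h1 h2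
    obtain ⟨v, hv⟩ := qmat_cent p q r s hd h1.symm h2.symm
    exact ⟨v, Units.ext (by rw [he, hv, hgm])⟩
  · refine ⟨⟨!![1, 0; 0, -1], !![1, 0; 0, -1], umat_sq, umat_sq⟩,
      Units.ext (by rw [Units.val_pow_eq_pow_val, sq]; exact umat_sq), ?_⟩
    rintro ⟨v, hv⟩
    have h := congrArg Matrix.det (congrArg Units.val hv)
    rw [he, qmat_det] at h
    exact udet h.symm

theorem perm_fix : ∀ σ : Equiv.Perm (Fin 4), σ * σ * σ = 1 → σ ≠ 1 → ∃ i, σ i = i ∧ ∀ j, σ j = j → j = i := by
  decide +kernel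

/-- With a self-centralizing normal `Q₈` and an outer involution, a group of order 48 is determined. -/
theorem iso_canonical {G : Type*} [Group G] [Finite G] (hG : Nat.card G = 48) (e : QuaternionGroup 2 →* G)
    (he : Function.Injective e) (hn : e.range.Normal) (hc : Subgroup.centralizer (e.range : Set G) ≤ e.range)
    {u : G} (hu : u ^ 2 = 1) (huQ : u ∉ e.range) (E : MulAut (QuaternionGroup 2) ≃* Equiv.Perm (Fin 4)) :
    Nonempty (SemidirectProduct (QuaternionGroup 2)
      ↥((MulAction.stabilizer (Equiv.Perm (Fin 4)) (0 : Fin 4)).comap E.toMonoidHom)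
      ((MulAction.stabilizer (Equiv.Perm (Fin 4)) (0 : Fin 4)).comap E.toMonoidHom).subtype ≃* G) := by
  classical
  haveI := hn
  haveI : Fact (Nat.Prime 3) := ⟨Nat.prime_three⟩
  set Q := e.range with hQdef
  have hQ8 : Nat.card Q = 8 := by
    rw [Nat.card_congr (MonoidHom.ofInjective he).toEquiv.symm, Nat.card_eq_fintype_card (α := QuaternionGroup 2), QuaternionGroup.card]
  let eQ : QuaternionGroup 2 ≃* Q := MonoidHom.ofInjective he
  let φ : G →* MulAut (QuaternionGroup 2) := (MulAut.congr eQ.symm).toMonoidHom.comp MulAut.conjNormal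
  have hφ : ∀ g v, e (φ g v) = g * e v * g⁻¹ := fun g v => by
    show e (eQ.symm (MulAut.conjNormal g (eQ v))) = _
    have h1 : ∀ w : Q, e (eQ.symm w) = (w : G) := fun w => by
      have := eQ.apply_symm_apply w
      exact congrArg Subtype.val this
    rw [h1, MulAut.conjNormal_apply]
    rfl
  set ψ : G →* Equiv.Perm (Fin 4) := E.toMonoidHom.comp φ with hψdef
  have hkerC : ψ.ker ≤ Subgroup.centralizer (Q : Set G) := by
    intro g hg
    rw [MonoidHom.mem_ker] at hg
    have h1 : φ g = 1 := E.injective (by rw [map_one]; exact hg)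
    rw [Subgroup.mem_centralizer_iff]
    rintro _ ⟨v, rfl⟩
    have := hφ g v
    rw [h1, MulAut.one_apply] at this
    exact (eq_mul_inv_iff_mul_eq.1 this)
  have hker2 : Nat.card ψ.ker ≤ 2 := by
    have hcen : ∀ v : QuaternionGroup 2, (∀ w, v * w = w * v) → v = QuaternionGroup.a 0 ∨ v = QuaternionGroup.a 2 := by
      decide +kernel
    have hsub : ∀ g : ψ.ker, (g : G) = e (.a 0) ∨ (g : G) = e (.a 2) := by
      rintro ⟨g, hg⟩
      obtain ⟨v, rfl⟩ := hc (hkerC hg)
      have hv : ∀ w, v * w = w * v := fun w => he (by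
        rw [map_mul, map_mul]; exact (Subgroup.mem_centralizer_iff.1 (hkerC hg) (e w) ⟨w, rfl⟩).symm)
      rcases hcen v hv with h | h <;> simp [h]
    refine le_trans (Nat.card_le_card_of_surjective (fun b : Bool => if b then
      (if h : e (.a 0) ∈ ψ.ker then (⟨_, h⟩ : ψ.ker) else 1) else
      (if h : e (.a 2) ∈ ψ.ker then (⟨_, h⟩ : ψ.ker) else 1)) fun g => ?_) (by simp)
    rcases hsub g with h | h
    · refine ⟨true, Subtype.ext ?_⟩
      simp only [if_true]
      rw [dif_pos (h ▸ g.2)]; exact h.symm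
    · refine ⟨false, Subtype.ext ?_⟩
      simp only [Bool.false_eq_true, if_false]
      rw [dif_pos (h ▸ g.2)]; exact h.symm
  have h24 : Nat.card (Equiv.Perm (Fin 4)) = 24 := by
    rw [Nat.card_perm, Nat.card_fin]; rfl
  have hsurj : Function.Surjective ψ := by
    rw [← MonoidHom.range_eq_top]
    apply Subgroup.eq_top_of_le_card
    have h1 := Subgroup.card_mul_index ψ.ker
    rw [Subgroup.index_ker, hG] at h1
    rw [h24]
    nlinarith
  have hidxQ : Q.index = 6 := by
    have h1 := Subgroup.card_mul_index Q; rw [hQ8, hG] at h1; omega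
  have hquot : Nat.card (G ⧸ Q) = 6 := hidxQ
  -- the quotient by `Q` is not commutative
  have hnc : ¬ ∀ a b : G, (a * b) * (b * a)⁻¹ ∈ Q := by
    intro h
    obtain ⟨a, ha⟩ := hsurj (Equiv.swap 0 1)
    obtain ⟨b, hb⟩ := hsurj (Equiv.swap 1 2)
    obtain ⟨v, hv⟩ := h a b
    have h1 : (ψ (a * b * (b * a)⁻¹)) ^ 4 = 1 := by
      rw [← map_pow, ← hv, ← map_pow, show v ^ 4 = 1 from (by decide +kernel : ∀ v : QuaternionGroup 2, v ^ 4 = 1) v,
        map_one, map_one]
    rw [map_mul, map_inv, map_mul, map_mul, ha, hb] at h1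
    revert h1
    decide +kernel
  let mk := QuotientGroup.mk' Q
  have hmku : mk u ≠ 1 := fun h => huQ ((QuotientGroup.eq_one_iff u).1 h)
  have hmku2 : mk u ^ 2 = 1 := by rw [← map_pow, hu, map_one]
  have hou : orderOf (mk u) = 2 := orderOf_eq_prime hmku2 hmku
  have hne6 : ∀ z : G ⧸ Q, orderOf z ≠ 6 := fun z hz => hnc fun a b => by
    rw [← QuotientGroup.eq_one_iff]
    show mk (a * b * (b * a)⁻¹) = 1
    haveI : IsCyclic (G ⧸ Q) := isCyclic_of_orderOf_eq_card z (by rw [hz, hquot])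
    haveI : IsMulCommutative (G ⧸ Q) := IsCyclic.isMulCommutative
    rw [map_mul, map_inv, map_mul, map_mul, mul_comm' (mk a) (mk b), mul_inv_cancel]
  obtain ⟨g, hg⟩ : ∃ g : G, mk (g * u * g⁻¹) ≠ mk u := by
    by_contra hall
    push Not at hall
    obtain ⟨z, hz⟩ := exists_prime_orderOf_dvd_card' (G := G ⧸ Q) 3 (by rw [hquot]; norm_num)
    obtain ⟨g, rfl⟩ := QuotientGroup.mk'_surjective Q z
    refine hne6 (mk g * mk u) ?_
    have hcm : Commute (mk g) (mk u) := by
      have := hall g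
      rw [map_mul, map_mul, map_inv] at this
      exact mul_inv_eq_iff_eq_mul.1 this
    rw [hcm.orderOf_mul_eq_mul_orderOf_of_coprime (by rw [hz, hou]; decide), hz, hou]
  set u' := g * u * g⁻¹ with hu'
  have hu'2 : u' ^ 2 = 1 := by rw [hu', conj_pow, hu, mul_one, mul_inv_cancel]
  set w := u * u' with hw
  have huu : u * u = 1 := by rw [← sq]; exact hu
  have huw : u * w * u⁻¹ = w⁻¹ := by
    have hu'inv : u'⁻¹ = u' := inv_eq_of_mul_eq_one_right (by rw [← sq]; exact hu'2)
    rw [hw, mul_inv_rev, hu'inv, inv_eq_of_mul_eq_one_right huu, ← mul_assoc u u u', huu, one_mul]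
  have hwdvd : orderOf (mk w) ∣ 6 := hquot ▸ orderOf_dvd_natCard _
  have hw3 : 3 ∣ orderOf (mk w) := by
    by_contra h3
    have h2 : orderOf (mk w) ∣ 2 := ((Nat.prime_three.coprime_iff_not_dvd.2 h3).symm).dvd_of_dvd_mul_left (show orderOf (mk w) ∣ 3 * 2 from hwdvd)
    have hwsq : mk w * mk w = 1 := by rw [← sq]; exact orderOf_dvd_iff_pow_eq_one.1 h2
    -- two commuting involutions in a group of order 6
    have hu'q : mk u' ^ 2 = 1 := by rw [← map_pow, hu'2, map_one]
    have hcm : Commute (mk u) (mk u') := by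
      rw [hw, map_mul] at hwsq
      have a1 : (mk u)⁻¹ = mk u := inv_eq_of_mul_eq_one_right (by rw [← sq]; exact hmku2)
      have a2 : (mk u')⁻¹ = mk u' := inv_eq_of_mul_eq_one_right (by rw [← sq]; exact hu'q)
      show mk u * mk u' = mk u' * mk u
      calc mk u * mk u' = (mk u * mk u')⁻¹ := (inv_eq_of_mul_eq_one_right hwsq).symm
        _ = mk u' * mk u := by rw [mul_inv_rev, a1, a2]
    have hu'1 : mk u' ≠ 1 := fun h => hmku (by
      have := congrArg (fun t => (mk g)⁻¹ * t * mk g) h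
      simpa [hu', mul_assoc] using this)
    let V : Subgroup (G ⧸ Q) := Subgroup.zpowers (mk u) ⊔ Subgroup.zpowers (mk u')
    have hV : ∀ z ∈ V, z ^ 2 = 1 := by
      intro z hz
      rw [show V = Subgroup.zpowers (mk u) ⊔ Subgroup.zpowers (mk u') from rfl, Subgroup.sup_eq_closure] at hz
      have hcom : ∀ a ∈ (Subgroup.zpowers (mk u) : Set (G ⧸ Q)) ∪ Subgroup.zpowers (mk u'),
          ∀ b ∈ (Subgroup.zpowers (mk u) : Set (G ⧸ Q)) ∪ Subgroup.zpowers (mk u'), a * b = b * a := by
        rintro a (⟨i, rfl⟩ | ⟨i, rfl⟩) b (⟨j, rfl⟩ | ⟨j, rfl⟩)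
        · exact (Commute.refl _).zpow_zpow i j
        · exact hcm.zpow_zpow i j
        · exact hcm.symm.zpow_zpow i j
        · exact (Commute.refl _).zpow_zpow i j
      haveI := Subgroup.isMulCommutative_closure hcom
      induction hz using Subgroup.closure_induction with
      | mem a ha =>
        rcases ha with ⟨i, rfl⟩ | ⟨i, rfl⟩ <;> show (_ ^ i) ^ (2 : ℕ) = 1
        · rw [← zpow_natCast, ← zpow_mul, mul_comm, zpow_mul, zpow_natCast, hmku2, one_zpow]
        · rw [← zpow_natCast, ← zpow_mul, mul_comm, zpow_mul, zpow_natCast, hu'q, one_zpow]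
      | one => exact one_pow _
      | mul a b ha hb iha ihb =>
        have : Commute a b := congrArg Subtype.val
          (mul_comm' (⟨a, ha⟩ : Subgroup.closure _) ⟨b, hb⟩)
        rw [this.mul_pow, iha, ihb, one_mul]
      | inv a _ ih => rw [inv_pow, ih, inv_one]
    have h4 : 3 ≤ Nat.card V := by
      have hs : ({1, mk u, mk u'} : Finset (G ⧸ Q)).card ≤ Nat.card V := by
        rw [← Nat.card_eq_finsetCard]
        refine Nat.card_le_card_of_injective (fun z => ⟨z.1, ?_⟩) (fun a b h => Subtype.ext (congrArg Subtype.val h :))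
        obtain ⟨z, hz⟩ := z
        simp only [Finset.mem_insert, Finset.mem_singleton] at hz
        rcases hz with rfl | rfl | rfl
        · exact one_mem V
        · exact Subgroup.mem_sup_left (Subgroup.mem_zpowers _)
        · exact Subgroup.mem_sup_right (Subgroup.mem_zpowers _)
      rwa [Finset.card_insert_of_notMem, Finset.card_pair hg.symm] at hs
      simp only [Finset.mem_insert, Finset.mem_singleton, not_or]
      exact ⟨hmku.symm, hu'1.symm⟩
    haveI : Fact (Nat.Prime 2) := ⟨Nat.prime_two⟩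
    obtain ⟨i, hi⟩ := IsPGroup.iff_card.1 (show IsPGroup 2 V from fun z => ⟨1, Subtype.ext (hV z z.2)⟩)
    have h6 : 2 ^ i ∣ 6 := hi ▸ hquot ▸ Subgroup.card_subgroup_dvd_card V
    rw [hi] at h4
    rcases i with _ | _ | i
    · norm_num at h4
    · norm_num at h4
    · exact absurd ((pow_dvd_pow 2 (by omega : 2 ≤ i + 1 + 1)).trans h6) (by norm_num)
  have hw3' : 3 ∣ orderOf w := hw3.trans (orderOf_map_dvd mk w)
  set x := w ^ (orderOf w / 3) with hx
  have hx3 : orderOf x = 3 := orderOf_pow_orderOf_div (orderOf_pos w).ne' hw3'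
  have hux : u * x * u⁻¹ = x⁻¹ := by rw [hx, ← conj_pow, huw, inv_pow]
  set σ := ψ x with hσ
  have hσ3 : σ * σ * σ = 1 := by
    rw [hσ, ← map_mul, ← map_mul, ← pow_three', ← hx3, pow_orderOf_eq_one, map_one]
  have hσ1 : σ ≠ 1 := by
    intro h
    have h2 : orderOf (⟨x, h⟩ : ψ.ker) ∣ Nat.card ψ.ker := orderOf_dvd_natCard _
    rw [← Subgroup.orderOf_coe] at h2
    change orderOf x ∣ _ at h2
    rw [hx3] at h2
    have := Nat.le_of_dvd Nat.card_pos h2
    omega
  obtain ⟨i, hi, hiu⟩ := perm_fix σ hσ3 hσ1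
  set τ := ψ u with hτ
  have hτσ : τ * σ = σ⁻¹ * τ := by
    have h := congrArg ψ hux
    rw [map_mul, map_mul, map_inv, map_inv] at h
    exact mul_inv_eq_iff_eq_mul.1 h
  have hτi : τ i = i := hiu _ (by
    have h := congrArg (fun π : Equiv.Perm (Fin 4) => π i) hτσ
    simp only [Equiv.Perm.mul_apply, hi] at h
    rw [Equiv.Perm.eq_inv_iff_eq] at h
    exact h)
  have hστ : τ ≠ 1 := by
    intro h
    exact huQ (hc (hkerC h))
  set s := Equiv.swap i (0 : Fin 4) with hs
  set β : MulAut (QuaternionGroup 2) := E.symm s with hβ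
  set e' : QuaternionGroup 2 →* G := e.comp β.toMonoidHom with he'
  set φ' : G →* MulAut (QuaternionGroup 2) := (MulAut.conj β⁻¹).toMonoidHom.comp φ with hφ'
  have hφ'e : ∀ g v, e' (φ' g v) = g * e' v * g⁻¹ := fun g v => by
    show e (β ((β⁻¹ * φ g * β⁻¹⁻¹) v)) = g * e (β v) * g⁻¹
    rw [inv_inv, MulAut.mul_apply, MulAut.mul_apply, MulAut.apply_inv_self, hφ]
  set K := (MulAction.stabilizer (Equiv.Perm (Fin 4)) (0 : Fin 4)).comap E.toMonoidHom with hK
  set H := Subgroup.zpowers x ⊔ Subgroup.zpowers u with hH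
  have hxN : u ∈ Subgroup.normalizer (Subgroup.zpowers x : Set G) := by
    have hmap : (Subgroup.zpowers x).map (MulAut.conj u).toMonoidHom = Subgroup.zpowers x := by
      rw [MonoidHom.map_zpowers, MulEquiv.coe_toMonoidHom, MulAut.conj_apply, hux, Subgroup.zpowers_inv]
    refine Subgroup.mem_normalizer_iff.2 fun n => ⟨fun hn => ?_, fun hn => ?_⟩
    · rw [← hmap]; exact ⟨n, hn, rfl⟩
    · rw [← hmap] at hn
      obtain ⟨m, hm, hmn⟩ := hn
      rwa [← (MulAut.conj u).injective hmn]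
  have hH6 : Nat.card H ≤ 6 := by
    have hcoe : (H : Set G) = (Subgroup.zpowers x : Set G) * (Subgroup.zpowers u : Set G) :=
      Subgroup.coe_mul_of_right_le_normalizer_left _ _ (Subgroup.zpowers_le.2 hxN)
    refine le_trans (Nat.card_le_card_of_surjective (α := Subgroup.zpowers x × Subgroup.zpowers u)
      (fun ab => (⟨ab.1 * ab.2, mul_mem (Subgroup.mem_sup_left ab.1.2) (Subgroup.mem_sup_right ab.2.2)⟩ : H))
      fun h => ?_) (by
        rw [Nat.card_prod, Nat.card_zpowers, Nat.card_zpowers, hx3]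
        have : orderOf u ≤ 2 := Nat.le_of_dvd two_pos (orderOf_dvd_of_pow_eq_one hu)
        omega)
    obtain ⟨a, ha, b, hb, hab⟩ := (hcoe ▸ h.2 : (h : G) ∈ (Subgroup.zpowers x : Set G) * (Subgroup.zpowers u : Set G))
    exact ⟨(⟨a, ha⟩, ⟨b, hb⟩), Subtype.ext hab⟩
  have hHK : ∀ h ∈ H, φ' h ∈ K := by
    suffices H ≤ K.comap φ' from fun h hh => this hh
    refine sup_le (Subgroup.zpowers_le.2 ?_) (Subgroup.zpowers_le.2 ?_)
    all_goals
      show (E (β⁻¹ * φ _ * β⁻¹⁻¹)) (0 : Fin 4) = 0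
      rw [inv_inv, map_mul, map_mul, map_inv, show E β = s from E.apply_symm_apply s, Equiv.Perm.mul_apply,
        Equiv.Perm.mul_apply, show s (0 : Fin 4) = i from Equiv.swap_apply_right i 0]
    · rw [show E (φ x) i = i from hi, Equiv.Perm.inv_eq_iff_eq]; exact (Equiv.swap_apply_right i 0).symm
    · rw [show E (φ u) i = i from hτi, Equiv.Perm.inv_eq_iff_eq]; exact (Equiv.swap_apply_right i 0).symm
  let ρ : H →* K := (φ'.comp H.subtype).codRestrict K fun h => hHK h h.2
  have hk0 : Nat.card (MulAction.stabilizer (Equiv.Perm (Fin 4)) (0 : Fin 4)) = 6 := by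
    rw [Nat.card_eq_fintype_card]; decide +kernel
  have hK6 : Nat.card K = 6 := by
    rw [← hk0, ← Subgroup.map_comap_eq_self_of_surjective (f := E.toMonoidHom) E.surjective
      (MulAction.stabilizer (Equiv.Perm (Fin 4)) (0 : Fin 4)), Subgroup.card_map_of_injective E.injective]
  have h6le : 6 ≤ Nat.card ρ.range := by
    have o1 : orderOf σ = 3 := orderOf_eq_prime (by rw [pow_three']; exact hσ3) hσ1
    have o2 : orderOf τ = 2 := orderOf_eq_prime (by rw [hτ, ← map_pow, hu, map_one]) hστ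
    let χ : K →* Equiv.Perm (Fin 4) := (MulAut.conj s).toMonoidHom.comp (E.toMonoidHom.comp K.subtype)
    have hχ : ∀ h : H, χ (ρ h) = ψ h := fun h => by
      show s * E (β⁻¹ * φ h * β⁻¹⁻¹) * s⁻¹ = E (φ h)
      rw [inv_inv, map_mul, map_mul, map_inv, show E β = s from E.apply_symm_apply s]
      group
    have h3 : 3 ∣ Nat.card ρ.range := by
      have := (orderOf_map_dvd (χ.comp ρ.range.subtype) ⟨_, ⟨⟨x, Subgroup.mem_sup_left (Subgroup.mem_zpowers x)⟩, rfl⟩⟩).trans (orderOf_dvd_natCard _)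
      rwa [MonoidHom.comp_apply, Subgroup.subtype_apply, hχ, o1] at this
    have h2 : 2 ∣ Nat.card ρ.range := by
      have := (orderOf_map_dvd (χ.comp ρ.range.subtype) ⟨_, ⟨⟨u, Subgroup.mem_sup_right (Subgroup.mem_zpowers u)⟩, rfl⟩⟩).trans (orderOf_dvd_natCard _)
      rwa [MonoidHom.comp_apply, Subgroup.subtype_apply, hχ, o2] at this
    exact Nat.le_of_dvd Nat.card_pos ((show Nat.Coprime 2 3 by decide).mul_dvd_of_dvd_of_dvd h2 h3)
  have hρs : Function.Surjective ρ := MonoidHom.range_eq_top.1 (Subgroup.eq_top_of_le_card _ (by omega))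
  have hρb : Function.Bijective ρ := by
    refine (Nat.bijective_iff_surjective_and_card ρ).2 ⟨hρs, ?_⟩
    have := Nat.card_le_card_of_surjective ρ hρs
    omega
  set η := MulEquiv.ofBijective ρ hρb
  let f : SemidirectProduct (QuaternionGroup 2) K K.subtype →* G :=
    SemidirectProduct.lift e' (H.subtype.comp η.symm.toMonoidHom) (fun k => by
      refine MonoidHom.ext fun v => ?_
      show e' ((k : MulAut (QuaternionGroup 2)) v) = _ * e' v * _
      have hk : φ' (η.symm k : H) = (k : MulAut (QuaternionGroup 2)) :=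
        congrArg Subtype.val (η.apply_symm_apply k)
      rw [← hk, hφ'e]
      rfl)
  have hfs : Function.Surjective f := by
    rw [← MonoidHom.range_eq_top]
    have hQr : Q ≤ f.range := by
      rintro _ ⟨v, rfl⟩
      exact ⟨SemidirectProduct.inl (β⁻¹ v), by
        rw [SemidirectProduct.lift_inl]; show e (β (β⁻¹ v)) = e v; rw [MulAut.apply_inv_self]⟩
    have hHr : H ≤ f.range := fun h hh => ⟨SemidirectProduct.inr (η ⟨h, hh⟩), by
      rw [SemidirectProduct.lift_inr]; show ((η.symm (η ⟨h, hh⟩) : H) : G) = h; rw [η.symm_apply_apply]⟩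
    have d1 : 8 ∣ Nat.card f.range := hQ8 ▸ Subgroup.card_dvd_of_le hQr
    have d2 : 3 ∣ Nat.card f.range := hx3 ▸ Subgroup.orderOf_dvd_natCard _ (hHr (Subgroup.mem_sup_left (Subgroup.mem_zpowers x)))
    have d3 : 24 ∣ Nat.card f.range := (show Nat.Coprime 8 3 by decide).mul_dvd_of_dvd_of_dvd d1 d2
    refine Subgroup.eq_top_of_le_card _ ?_
    rw [hG]
    by_contra hlt
    have h24' : Nat.card f.range = 24 := by
      obtain ⟨c, hc'⟩ := d3
      have := Nat.card_pos (α := f.range)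
      omega
    have hidx : f.range.index = 2 := by
      have := Subgroup.card_mul_index f.range; rw [h24', hG] at this; omega
    haveI := Subgroup.normal_of_index_eq_two hidx
    -- `u` lies in the range, so the range covers `G ⧸ Q`
    have hsup : 6 ≤ Nat.card (f.range.map mk) := by
      have e3 : 3 ∣ Nat.card (f.range.map mk) := by
        have hxmem : mk w ^ (orderOf w / 3) ∈ f.range.map mk := by
          rw [← map_pow]; exact Subgroup.mem_map_of_mem _ (hHr (Subgroup.mem_sup_left (Subgroup.mem_zpowers x)))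
        have hne1 : mk x ≠ 1 := fun h => by
          have h8 := Subgroup.orderOf_dvd_natCard Q ((QuotientGroup.eq_one_iff x).1 h)
          rw [hQ8, hx3] at h8; norm_num at h8
        have : orderOf (mk x) = 3 := orderOf_eq_prime (by rw [← map_pow, ← hx3, pow_orderOf_eq_one, map_one]) hne1
        rw [← this]
        exact Subgroup.orderOf_dvd_natCard _ (by rw [hx, map_pow]; exact hxmem)
      have e2 : 2 ∣ Nat.card (f.range.map mk) := (dvd_of_eq hou.symm).trans (Subgroup.orderOf_dvd_natCard _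
        (Subgroup.mem_map_of_mem _ (hHr (Subgroup.mem_sup_right (Subgroup.mem_zpowers u)))))
      exact Nat.le_of_dvd Nat.card_pos ((show Nat.Coprime 2 3 by decide).mul_dvd_of_dvd_of_dvd e2 e3)
    have htop : f.range.map mk = ⊤ := Subgroup.eq_top_of_le_card _ (by rw [hquot]; exact hsup)
    have := congrArg (Subgroup.comap mk) htop
    rw [Subgroup.comap_map_eq, QuotientGroup.ker_mk', sup_eq_left.2 hQr, Subgroup.comap_top] at this
    rw [this, Subgroup.card_top, hG] at h24'
    omega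
  haveI : Finite (SemidirectProduct (QuaternionGroup 2) K K.subtype) :=
    Finite.of_equiv _ SemidirectProduct.equivProd.symm
  refine ⟨MulEquiv.ofBijective f ((Nat.bijective_iff_surjective_and_card f).2 ⟨hfs, ?_⟩)⟩
  rw [SemidirectProduct.card, Nat.card_eq_fintype_card (α := QuaternionGroup 2), QuaternionGroup.card, hK6, hG]

theorem eq_one_of_mem {G : Type*} [Group G] [Finite G] {K N : Subgroup G} (hK : IsPGroup 2 K)
    (hN : ¬ 2 ∣ Nat.card N) {x : G} (hx : x ∈ K) (hxN : x ∈ N) : x = 1 := by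
  obtain ⟨k, hk⟩ := hK ⟨x, hx⟩
  obtain ⟨i, -, hi⟩ := (Nat.dvd_prime_pow Nat.prime_two).1
    (orderOf_dvd_of_pow_eq_one (show x ^ 2 ^ k = 1 from congrArg Subtype.val hk))
  rcases i with _ | i
  · exact orderOf_eq_one_iff.1 hi
  · exact absurd (((dvd_pow_self 2 i.succ_ne_zero).trans (dvd_of_eq hi.symm)).trans
      (Subgroup.orderOf_dvd_natCard N hxN)) hN

/-- A Sylow 2-subgroup of `G ⧸ N`, `N` odd, lifts to one containing a given 2-subgroup over it. -/
theorem exists_lift {G : Type*} [Group G] [Finite G] (N : Subgroup G) [N.Normal] (hN : ¬ 2 ∣ Nat.card N)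
    (S' : Sylow 2 (G ⧸ N)) (K : Subgroup G) (hK : IsPGroup 2 K)
    (hKS : K.map (QuotientGroup.mk' N) ≤ (S' : Subgroup (G ⧸ N))) :
    ∃ S : Sylow 2 G, K ≤ (S : Subgroup G) ∧ (S : Subgroup G).map (QuotientGroup.mk' N) = (S' : Subgroup (G ⧸ N)) := by
  haveI : Fact (Nat.Prime 2) := ⟨Nat.prime_two⟩
  set T := (S' : Subgroup (G ⧸ N)).comap (QuotientGroup.mk' N) with hT
  have hKT : K ≤ T := fun x hx => hKS (Subgroup.mem_map_of_mem _ hx)
  obtain ⟨R, hR⟩ := (hK.of_equiv (Subgroup.subgroupOfEquivOfLe hKT).symm).exists_le_sylow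
  set W := (R : Subgroup T).map T.subtype with hW
  have hWp : IsPGroup 2 W := R.2.map _
  have hWle : W.map (QuotientGroup.mk' N) ≤ (S' : Subgroup (G ⧸ N)) := by
    rw [Subgroup.map_le_iff_le_comap]; exact Subgroup.map_subtype_le _
  have hcT : Nat.card T = Nat.card N * Nat.card S' := by
    have := CfsgLib.PCore.card_comap_mk' N (S' : Subgroup (G ⧸ N))
    exact this
  have hfN : (Nat.card N).factorization 2 = 0 := Nat.factorization_eq_zero_of_not_dvd hN
  have hfG : (Nat.card G).factorization 2 = (Nat.card (G ⧸ N)).factorization 2 := by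
    rw [Subgroup.card_eq_card_quotient_mul_card_subgroup N, Nat.factorization_mul Nat.card_pos.ne' Nat.card_pos.ne',
      Finsupp.coe_add, Pi.add_apply, hfN, add_zero]
  have hcW : Nat.card W = 2 ^ (Nat.card G).factorization 2 := by
    rw [hW, Subgroup.card_map_of_injective T.subtype_injective, R.card_eq_multiplicity, hcT,
      Nat.factorization_mul Nat.card_pos.ne' Nat.card_pos.ne', Finsupp.coe_add, Pi.add_apply, hfN, zero_add,
      S'.card_eq_multiplicity, Nat.Prime.factorization_pow Nat.prime_two, Finsupp.single_eq_same, hfG]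
  refine ⟨Sylow.ofCard W hcW, fun x hx => ⟨⟨x, hKT hx⟩, hR hx, rfl⟩, ?_⟩
  refine Subgroup.eq_of_le_of_card_ge hWle (le_of_eq ?_)
  rw [show Nat.card ((Sylow.ofCard W hcW : Subgroup G).map (QuotientGroup.mk' N)) = Nat.card W from ?_, hcW, hfG,
    S'.card_eq_multiplicity]
  refine Nat.card_congr (Equiv.ofBijective (fun x : W => (⟨QuotientGroup.mk' N x, Subgroup.mem_map_of_mem _ x.2⟩ :
    (W.map (QuotientGroup.mk' N) : Subgroup (G ⧸ N)))) ⟨fun a b h => ?_, fun y => ?_⟩).symm
  · have h1 : QuotientGroup.mk' N (a : G) = QuotientGroup.mk' N (b : G) := congrArg Subtype.val h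
    exact Subtype.ext (inv_mul_eq_one.1 (eq_one_of_mem hWp hN (mul_mem (inv_mem a.2) b.2) (QuotientGroup.eq.1 h1)))
  · obtain ⟨z, ⟨x, hx, rfl⟩⟩ := y
    exact ⟨⟨x, hx⟩, rfl⟩

theorem rank_quotient {G : Type*} [Group G] [Finite G] (N : Subgroup G) [N.Normal] (hN : ¬ 2 ∣ Nat.card N)
    (hI : ∀ S T : Sylow 2 G, S ≠ T → Cfsg.PRankLE 2 1 ↥((S : Subgroup G) ⊓ (T : Subgroup G)))
    (S' T' : Sylow 2 (G ⧸ N)) (hne : S' ≠ T') :
    Cfsg.PRankLE 2 1 ↥((S' : Subgroup (G ⧸ N)) ⊓ (T' : Subgroup (G ⧸ N))) := by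
  intro A hAc hA2
  set mk := QuotientGroup.mk' N
  set B := A.map ((S' : Subgroup (G ⧸ N)) ⊓ (T' : Subgroup (G ⧸ N))).subtype with hB
  obtain ⟨S, -, hS⟩ := exists_lift N hN S' ⊥ IsPGroup.of_bot (by simp)
  set K := (S : Subgroup G) ⊓ B.comap mk with hK
  have hKp : IsPGroup 2 K := S.2.to_le inf_le_left
  have hKB : K.map mk ≤ B := Subgroup.map_le_iff_le_comap.2 inf_le_right
  obtain ⟨T, hKT, hT⟩ := exists_lift N hN T' K hKp (hKB.trans ((Subgroup.map_subtype_le _).trans inf_le_right))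
  have hST : S ≠ T := fun h => hne (Sylow.ext (by rw [← hS, ← hT, h]))
  have hinj : ∀ x ∈ (S : Subgroup G), mk x = 1 → x = 1 := fun x hx h =>
    eq_one_of_mem S.2 hN hx ((QuotientGroup.eq_one_iff x).1 h)
  set KK := K.subgroupOf ((S : Subgroup G) ⊓ (T : Subgroup G)) with hKK
  have hKle : K ≤ (S : Subgroup G) ⊓ (T : Subgroup G) := le_inf inf_le_left hKT
  have hBc : ∀ a ∈ B, ∀ b ∈ B, a * b = b * a := by
    rintro _ ⟨a, ha, rfl⟩ _ ⟨b, hb, rfl⟩
    exact congrArg Subtype.val (congrArg Subtype.val (hAc.is_comm.comm (⟨a, ha⟩ : A) ⟨b, hb⟩))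
  have h1 : Nat.card KK ≤ 2 ^ 1 := by
    refine hI S T hST KK ⟨⟨fun a b => Subtype.ext (Subtype.ext ?_)⟩⟩ ?_
    · set x : G := (((a : KK) : ↥((S : Subgroup G) ⊓ (T : Subgroup G))) : G)
      set y : G := (((b : KK) : ↥((S : Subgroup G) ⊓ (T : Subgroup G))) : G)
      show x * y = y * x
      have hx : x ∈ K := a.2
      have hy : y ∈ K := b.2
      refine mul_inv_eq_one.1 (hinj _ (mul_mem (mul_mem hx.1 hy.1) (inv_mem (mul_mem hy.1 hx.1))) ?_)
      rw [map_mul, map_inv, map_mul, map_mul, hBc _ hx.2 _ hy.2, mul_inv_cancel]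
    · rintro ⟨x, hx'⟩ hx
      refine Subtype.ext ?_
      refine hinj _ (pow_mem hx'.1 2) ?_
      obtain ⟨a, ha, hax⟩ := (show x ∈ K from hx).2
      show mk (x ^ 2) = 1
      rw [map_pow, ← hax, ← map_pow, hA2 a ha, map_one]
  refine le_trans ?_ h1
  rw [show Nat.card A = Nat.card B from (Subgroup.card_map_of_injective (Subgroup.subtype_injective _)).symm]
  refine Nat.card_le_card_of_surjective (fun z : KK =>
    (⟨mk (((z : KK) : ↥((S : Subgroup G) ⊓ (T : Subgroup G))) : G), (show _ ∈ K from z.2).2⟩ : B)) fun b => ?_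
  have hb : (b : G ⧸ N) ∈ (S : Subgroup G).map mk := hS ▸ ((Subgroup.map_subtype_le _).trans inf_le_left) b.2
  obtain ⟨x, hx, hxb⟩ := hb
  have hxK : x ∈ K := ⟨hx, show mk x ∈ B from hxb.symm ▸ b.2⟩
  exact ⟨⟨⟨x, hKle hxK⟩, hxK⟩, Subtype.ext hxb⟩

theorem aut_cyclic {P : Type*} [Group P] [Finite P] [IsCyclic P] (h2 : IsPGroup 2 P) : IsPGroup 2 (MulAut P) := by
  haveI : Fact (Nat.Prime 2) := ⟨Nat.prime_two⟩
  obtain ⟨k, hk⟩ := IsPGroup.iff_card.1 h2
  rcases k with _ | k
  · exact IsPGroup.of_card (n := 0) (by rw [IsCyclic.card_mulAut, hk]; rfl)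
  · refine IsPGroup.of_card (n := k) ?_
    rw [IsCyclic.card_mulAut, hk, Nat.totient_prime_pow_succ Nat.prime_two]
    simp

theorem aut_quaternion {P : Type*} [Group P] [Finite P] {k : ℕ} (hk : 2 ≤ k)
    (e : P ≃* QuaternionGroup (2 ^ k)) : IsPGroup 2 (MulAut P) := by
  haveI : NeZero (2 ^ k) := ⟨by positivity⟩
  refine Cfsg.Agent.S3116.isPGroup_mulAut (k + 1) (e.symm (QuaternionGroup.a 1)) ?_ ?_ ?_
  · rw [MulEquiv.orderOf_eq, QuaternionGroup.orderOf_a_one, pow_succ, mul_comm]
  · have h1 := Subgroup.card_mul_index (Subgroup.zpowers (e.symm (QuaternionGroup.a 1)))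
    rw [Nat.card_zpowers, MulEquiv.orderOf_eq, QuaternionGroup.orderOf_a_one, Nat.card_congr e.toEquiv,
      Nat.card_eq_fintype_card (α := QuaternionGroup (2 ^ k)), QuaternionGroup.card] at h1
    have : 0 < 2 ^ k := by positivity
    nlinarith
  · intro x hx ho
    rw [← MulEquiv.orderOf_eq e x] at ho
    rcases hcase : e x with i | i
    · refine hx ⟨(i.val : ℤ), ?_⟩
      show e.symm (QuaternionGroup.a 1) ^ (i.val : ℤ) = x
      rw [zpow_natCast, ← map_pow, QuaternionGroup.a_one_pow, ZMod.natCast_zmod_val, ← hcase, e.symm_apply_apply]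
    · rw [hcase, QuaternionGroup.orderOf_xa, show (4 : ℕ) = 2 ^ 2 by norm_num] at ho
      have := Nat.pow_right_injective le_rfl ho
      omega

theorem core {X : Type*} [Group X] [Finite X] [Group.IsSolvable X]
    (hO : ∀ M : Subgroup X, M.Normal → (Nat.card M).Coprime 2 → M = ⊥)
    (hI : ∀ S T : Sylow 2 X, S ≠ T → Cfsg.PRankLE 2 1 ↥((S : Subgroup X) ⊓ (T : Subgroup X))) :
    (∃ P : Sylow 2 X, (P : Subgroup X).Normal) ∨ Nonempty (X ≃* GL (Fin 2) (ZMod 3)) ∨
    (Nat.card X = 48 ∧ Nat.card ↥(Subgroup.center X) = 2 ∧ Nonempty (X ⧸ Subgroup.center X ≃* Equiv.Perm (Fin 4)) ∧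
      ∀ P : Sylow 2 X, Nonempty (↥(P : Subgroup X) ≃* QuaternionGroup 4)) := by
  classical
  haveI : Fact (Nat.Prime 2) := ⟨Nat.prime_two⟩
  by_cases hnorm : ∃ P : Sylow 2 X, (P : Subgroup X).Normal
  · exact Or.inl hnorm
  right
  obtain ⟨S, T, hST⟩ : ∃ S T : Sylow 2 X, S ≠ T := by
    by_contra hall
    push Not at hall
    haveI : Subsingleton (Sylow 2 X) := ⟨hall⟩
    exact hnorm ⟨Classical.arbitrary _, Sylow.normal_of_subsingleton _⟩
  set P := Cfsg.pCore 2 X with hP
  haveI hPn : P.Normal := CfsgLib.SolvTwoCore.pCore_normal 2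
  have hPp : IsPGroup 2 P := CfsgLib.PCore.isPGroup_pCore 2 X
  have hCP := CfsgLib.SolvTwoCore.centralizer_pCore_le hO
  have hPle : P ≤ (S : Subgroup X) ⊓ (T : Subgroup X) :=
    le_inf (CfsgLib.PCore.pCore_le_sylow S) (CfsgLib.PCore.pCore_le_sylow T)
  have hu : CfsgLib.RankOneP.UniqueOrderP 2 P := CfsgLib.RankOneP.unique_of_rank_le_one hPp fun A hAc hA2 => by
    have hinj := Subgroup.inclusion_injective hPle
    refine le_trans ?_ (hI S T hST (A.map (Subgroup.inclusion hPle)) ?_ ?_)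
    · rw [Subgroup.card_map_of_injective hinj]
    · refine ⟨⟨?_⟩⟩
      rintro ⟨_, a, ha, rfl⟩ ⟨_, b, hb, rfl⟩
      refine Subtype.ext ?_
      have h : a * b = b * a := congrArg Subtype.val (hAc.is_comm.comm (⟨a, ha⟩ : A) ⟨b, hb⟩)
      exact ((map_mul (Subgroup.inclusion hPle) a b).symm.trans (congrArg _ h)).trans (map_mul _ b a)
    · rintro _ ⟨a, ha, rfl⟩
      rw [← map_pow, hA2 a ha, map_one]
  have hnot2 : ¬ IsPGroup 2 X := fun h2 => hnorm ⟨S, by
    have : (S : Subgroup X) = ⊤ := S.3 (h2.to_subgroup ⊤) le_top |>.symm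
    rw [this]; infer_instance⟩
  set φ : X →* MulAut P := MulAut.conjNormal with hφ
  have hkerP : φ.ker ≤ P := fun g hg => hCP (by
    rw [Subgroup.mem_centralizer_iff]
    intro v hv
    have h := congrArg Subtype.val (DFunLike.congr_fun (MonoidHom.mem_ker.1 hg) ⟨v, hv⟩)
    rw [hφ, MulAut.conjNormal_apply] at h
    exact (mul_inv_eq_iff_eq_mul.1 h).symm)
  have hAut : ¬ IsPGroup 2 (MulAut P) := fun h => hnot2 (fun g => by
    obtain ⟨a, ha⟩ := h (φ g)
    obtain ⟨b, hb⟩ := hPp ⟨g ^ 2 ^ a, hkerP (by rw [MonoidHom.mem_ker, map_pow, ha])⟩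
    exact ⟨a + b, by rw [pow_add, pow_mul]; exact congrArg Subtype.val hb⟩)
  obtain ⟨eP⟩ : Nonempty (P ≃* QuaternionGroup 2) := by
    rcases CfsgLib.RankOneP.isCyclic_or_quaternion hPp hu with hc | ⟨-, k, hk, ⟨e⟩⟩
    · haveI := hc
      exact absurd (aut_cyclic hPp) hAut
    · rcases Nat.lt_or_ge k 2 with h | h
      · obtain rfl : k = 1 := by omega
        exact ⟨e⟩
      · exact absurd (aut_quaternion h e) hAut
  set e : QuaternionGroup 2 →* X := P.subtype.comp eP.symm.toMonoidHom with he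
  have hei : Function.Injective e := P.subtype_injective.comp eP.symm.injective
  have her : e.range = P := by
    refine le_antisymm ?_ fun x hx => ⟨eP ⟨x, hx⟩, ?_⟩
    · rintro _ ⟨v, rfl⟩; exact (eP.symm v).2
    · show ((eP.symm (eP ⟨x, hx⟩) : P) : X) = x
      rw [eP.symm_apply_apply]
  have hc : Subgroup.centralizer (e.range : Set X) ≤ e.range := by rw [her]; exact hCP
  have hcardP : Nat.card P = 8 := by
    rw [Nat.card_congr eP.toEquiv, Nat.card_eq_fintype_card (α := QuaternionGroup 2), QuaternionGroup.card]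
  obtain ⟨E⟩ := Cfsg.Agent.S3742.result
  set ψ : X →* Equiv.Perm (Fin 4) := E.toMonoidHom.comp ((MulAut.congr eP).toMonoidHom.comp φ) with hψ
  have hψker : ψ.ker = φ.ker := by
    ext g
    simp [hψ, MonoidHom.mem_ker]
  have hker2 : Nat.card φ.ker = 2 := by
    let z : P := eP.symm (QuaternionGroup.a 2)
    have hz : ∀ v : P, z * v = v * z := fun v => eP.injective (by
      rw [map_mul, map_mul, eP.apply_symm_apply]
      exact (by decide +kernel : ∀ w : QuaternionGroup 2, QuaternionGroup.a 2 * w = w * QuaternionGroup.a 2) (eP v))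
    have heq : φ.ker = (Subgroup.zpowers z).map P.subtype := by
      refine le_antisymm (fun g hg => ?_) ?_
      · have hgP := hkerP hg
        have hcg : ∀ w, eP ⟨g, hgP⟩ * w = w * eP ⟨g, hgP⟩ := fun w => by
          apply eP.symm.injective
          rw [map_mul, map_mul, eP.symm_apply_apply]
          refine Subtype.ext ?_
          have h := congrArg Subtype.val (DFunLike.congr_fun (MonoidHom.mem_ker.1 hg) (eP.symm w))
          rw [hφ, MulAut.conjNormal_apply] at h
          exact mul_inv_eq_iff_eq_mul.1 h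
        rcases (by decide +kernel : ∀ v : QuaternionGroup 2, (∀ w, v * w = w * v) →
          v = 1 ∨ v = QuaternionGroup.a 2) _ hcg with h | h
        · rw [map_eq_one_iff _ eP.injective] at h
          have hg1 : g = 1 := congrArg Subtype.val h
          rw [hg1]; exact one_mem _
        · refine ⟨z, Subgroup.mem_zpowers z, ?_⟩
          show ((eP.symm (QuaternionGroup.a 2) : P) : X) = g
          rw [← h, eP.symm_apply_apply]
      · rw [Subgroup.map_le_iff_le_comap, Subgroup.zpowers_le, Subgroup.mem_comap, MonoidHom.mem_ker]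
        refine MulEquiv.ext fun v => Subtype.ext ?_
        rw [hφ, MulAut.conjNormal_apply, MulAut.one_apply]
        exact mul_inv_eq_iff_eq_mul.2 (congrArg Subtype.val (hz v))
    rw [heq, Subgroup.card_map_of_injective P.subtype_injective, Nat.card_zpowers, MulEquiv.orderOf_eq]
    exact orderOf_eq_prime (by decide +kernel) (by decide +kernel)
  have hcardX : Nat.card X = 2 * Nat.card ψ.range := by
    rw [← hker2, ← hψker, ← Subgroup.index_ker ψ]
    exact (Subgroup.card_mul_index ψ.ker).symm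
  have h24 : Nat.card (Equiv.Perm (Fin 4)) = 24 := by
    rw [Nat.card_perm, Nat.card_fin]; rfl
  have hdvd48 : Nat.card X ∣ 48 := by
    rw [hcardX, show (48 : ℕ) = 2 * 24 from rfl, ← h24]
    exact mul_dvd_mul_left 2 (Subgroup.card_subgroup_dvd_card _)
  have hmul := Subgroup.card_mul_index P
  rw [hcardP] at hmul
  have hm6 : P.index ∣ 6 := by
    rw [← hmul, show (48 : ℕ) = 8 * 6 from rfl] at hdvd48
    exact Nat.dvd_of_mul_dvd_mul_left (by norm_num) hdvd48
  have hidx : P.index = 6 := by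
    have h1 : P.index ≤ 6 := Nat.le_of_dvd (by norm_num) hm6
    have hodd : Odd P.index → False := fun ho => by
      have hfac : (Nat.card X).factorization 2 = 3 := by
        rw [← hmul, show (8 : ℕ) = 2 ^ 3 from rfl, Nat.factorization_mul (by norm_num) Subgroup.index_ne_zero_of_finite,
          Finsupp.coe_add, Pi.add_apply, Nat.Prime.factorization_pow Nat.prime_two, Finsupp.single_eq_same,
          Nat.factorization_eq_zero_of_not_dvd (n := P.index)
            (by rw [← even_iff_two_dvd, Nat.not_even_iff_odd]; exact ho)]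
      exact hnorm ⟨Sylow.ofCard P (by rw [hfac, hcardP]; rfl), hPn⟩
    have h2 : P.index ≠ 2 := fun h => hnot2 (IsPGroup.of_card (n := 4) (by rw [← hmul, h]; norm_num))
    interval_cases hh : P.index
    all_goals first | rfl | omega | exact (hodd ⟨0, rfl⟩).elim | exact (hodd ⟨1, rfl⟩).elim | exact absurd hm6 (by norm_num)
  have h48 : Nat.card X = 48 := by rw [← hmul, hidx]
  have hsurj : Function.Surjective ψ := by
    rw [← MonoidHom.range_eq_top]
    refine Subgroup.eq_top_of_le_card _ ?_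
    rw [h24]; omega
  by_cases hinv : ∃ u : X, u ^ 2 = 1 ∧ u ∉ P
  · left
    obtain ⟨u, hu2, huP⟩ := hinv
    obtain ⟨c1⟩ := iso_canonical h48 e hei (her ▸ hPn) hc hu2 (her ▸ huP) E
    obtain ⟨eG, hG1, hG2, hG3, u', hu', hu'P⟩ := gl_data
    haveI : Fact (Nat.Prime 3) := ⟨Nat.prime_three⟩
    obtain ⟨c2⟩ := iso_canonical (by rw [Matrix.card_GL_field, ZMod.card, Fin.prod_univ_two]; rfl)
      eG hG1 hG2 hG3 hu' hu'P E
    exact ⟨c1.symm.trans c2⟩
  right
  push Not at hinv
  have hcen : Subgroup.center X = φ.ker := by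
    refine le_antisymm (fun g hg => ?_) fun g hg => ?_
    · refine MonoidHom.mem_ker.2 (MulEquiv.ext fun v => Subtype.ext ?_)
      rw [hφ, MulAut.conjNormal_apply, MulAut.one_apply]
      exact mul_inv_eq_iff_eq_mul.2 (Subgroup.mem_center_iff.1 hg v).symm
    · rw [Subgroup.mem_center_iff]
      intro y
      have hmem : y * g * y⁻¹ ∈ φ.ker := (inferInstance : φ.ker.Normal).conj_mem g hg y
      by_cases hg1 : g = 1
      · simp [hg1]
      have hne1 : y * g * y⁻¹ ≠ 1 := fun h => hg1 (conj_eq_one_iff.1 h)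
      have h3 : ({⟨1, one_mem _⟩, ⟨g, hg⟩, ⟨y * g * y⁻¹, hmem⟩} : Finset φ.ker).card ≤ 2 := by
        rw [← hker2, ← Nat.card_eq_finsetCard]
        exact Nat.card_le_card_of_injective Subtype.val Subtype.val_injective
      by_contra hne
      have hne' : y * g * y⁻¹ ≠ g := fun h => hne (mul_inv_eq_iff_eq_mul.1 h)
      rw [Finset.card_insert_of_notMem, Finset.card_pair (fun h => hne' (congrArg Subtype.val h).symm)] at h3
      · omega
      · simp only [Finset.mem_insert, Finset.mem_singleton, not_or]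
        exact ⟨fun h => hg1 (congrArg Subtype.val h).symm, fun h => hne1 (congrArg Subtype.val h).symm⟩
  refine ⟨h48, hcen ▸ hker2, ⟨(QuotientGroup.quotientMulEquivOfEq (hcen.trans hψker.symm)).trans
    (QuotientGroup.quotientKerEquivOfSurjective ψ hsurj)⟩, fun S => ?_⟩
  have hPS : P ≤ (S : Subgroup X) := CfsgLib.PCore.pCore_le_sylow S
  have hS16 : Nat.card S = 16 := by
    rw [S.card_eq_multiplicity, h48, show (48 : ℕ) = 2 ^ 4 * 3 from rfl,
      Nat.factorization_mul (by norm_num) (by norm_num), Finsupp.coe_add, Pi.add_apply,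
      Nat.Prime.factorization_pow Nat.prime_two, Finsupp.single_eq_same,
      Nat.factorization_eq_zero_of_not_dvd (by norm_num)]
    rfl
  have huS : CfsgLib.RankOneP.UniqueOrderP 2 (S : Subgroup X) := fun a b ha hb ha1 => by
    have ha' := hinv a (congrArg Subtype.val ha)
    have hb' := hinv b (congrArg Subtype.val hb)
    obtain ⟨k, hk⟩ := hu ⟨a, ha'⟩ ⟨b, hb'⟩ (Subtype.ext (congrArg Subtype.val ha :))
      (Subtype.ext (congrArg Subtype.val hb :)) (fun h => ha1 (Subtype.ext (congrArg Subtype.val h :)))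
    have hk' := congrArg Subtype.val hk
    exact ⟨k, Subtype.ext hk'⟩
  rcases CfsgLib.RankOneP.isCyclic_or_quaternion S.2 huS with hcy | ⟨-, k, -, ⟨f⟩⟩
  · haveI := hcy
    haveI : IsMulCommutative S := IsCyclic.isMulCommutative
    have hcm : ∀ a b : P, a * b = b * a := fun a b => Subtype.ext
      (congrArg Subtype.val (mul_comm' (⟨a, hPS a.2⟩ : (S : Subgroup X)) ⟨b, hPS b.2⟩) :)
    have hbad := congrArg eP (hcm (eP.symm (QuaternionGroup.a 1)) (eP.symm (QuaternionGroup.xa 0)))
    rw [map_mul, map_mul, eP.apply_symm_apply, eP.apply_symm_apply] at hbad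
    exact absurd hbad (by decide +kernel)
  · haveI : NeZero (2 ^ k) := ⟨by positivity⟩
    have h16 := Nat.card_congr f.toEquiv
    rw [hS16, Nat.card_eq_fintype_card, QuaternionGroup.card] at h16
    have h4 : 2 ^ k = 2 ^ 2 := by omega
    obtain rfl : k = 2 := Nat.pow_right_injective le_rfl h4
    exact ⟨f⟩

/-- Let G be a finite solvable group in which the intersection of any two distinct Sylow 2-subgroups has 2-rank at most 1 (contains no Klein four-group). Write Q = G/O(G), O(G) the largest normal subgroup of odd order. Then Q has a normal Sylow 2-subgroup; or Q is isomorphic to GL(2,3); or Q has order 48, centre of order 2 with central quotient isomorphic to the symmetric group of degree 4, and generalized quaternion Sylow 2-subgroups of order 16 (the binary octahedral group). The last two are the two representation groups of the symmetric group of degree 4. -/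
theorem result {G : Type*} [Group G] [Finite G] (hs : Group.IsSolvable G)
    (hI : ∀ S T : Sylow 2 G, S ≠ T → Cfsg.PRankLE 2 1 ↥((S : Subgroup G) ⊓ (T : Subgroup G))) :
    (∃ P : Sylow 2 (G ⧸ Cfsg.oddCore G), (P : Subgroup (G ⧸ Cfsg.oddCore G)).Normal) ∨
    Nonempty ((G ⧸ Cfsg.oddCore G) ≃* GL (Fin 2) (ZMod 3)) ∨
    (Nat.card (G ⧸ Cfsg.oddCore G) = 48 ∧ Nat.card ↥(Subgroup.center (G ⧸ Cfsg.oddCore G)) = 2 ∧
      Nonempty ((G ⧸ Cfsg.oddCore G) ⧸ Subgroup.center (G ⧸ Cfsg.oddCore G) ≃* Equiv.Perm (Fin 4)) ∧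
      ∀ P : Sylow 2 (G ⧸ Cfsg.oddCore G), Nonempty (↥(P : Subgroup (G ⧸ Cfsg.oddCore G)) ≃* QuaternionGroup 4)) := by
  haveI : (Cfsg.oddCore G).Normal := (CfsgLib.PCore.pPrimeCore_mem 2 G).1
  haveI : Group.IsSolvable G := hs
  haveI : Group.IsSolvable (G ⧸ Cfsg.oddCore G) :=
    Group.isSolvable_of_surjective (QuotientGroup.mk'_surjective (Cfsg.oddCore G))
  haveI : Fact (Nat.Prime 2) := ⟨Nat.prime_two⟩
  exact core (fun M hMn hM => CfsgLib.SolvTwoCore.pPrimeCore_quotient_trivial 2 (Cfsg.oddCore G) rfl M hMn hM)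
    (rank_quotient _ (CfsgLib.PCore.not_dvd_card_pPrimeCore 2 G) hI)

end Cfsg.Agent.S3304
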