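import Cfsg.Statements.S5434
import Cfsg.Agent.LargeEx.Basic
import Cfsg.Agent.CoprimeAction.Frattini
import Cfsg.Agent.CoprimeAction.Basic

set_option autoImplicit false
open Cfsg
open scoped commutatorElement

namespace Cfsg.Agent.S5434


theorem isExtraspecial_of {G : Type*} [Group G] [Finite G] {Q R : Subgroup G} {z : G} (e : CfsgLib.LargeEx.ExtraData Q z)
    (hRQ : R ≤ Q) (hz : z ∈ R) (hcen : ∀ r ∈ R, (∀ x ∈ R, r * x = x * r) → r = 1 ∨ r = z)
    (hna : ∃ x ∈ R, ∃ y ∈ R, x * y ≠ y * x) : Cfsg.IsExtraspecial 2 ↥R := by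
  haveI : Fact (Nat.Prime 2) := ⟨Nat.prime_two⟩
  have hp : IsPGroup 2 R := e.isPGroup.to_le hRQ
  have hmem : ∀ r : R, r ∈ Subgroup.center ↥R ↔ (r : G) = 1 ∨ (r : G) = z := by
    intro r
    constructor
    · intro hr
      exact hcen r r.2 fun x hx => (congrArg Subtype.val (Subgroup.mem_center_iff.1 hr ⟨x, hx⟩)).symm
    · intro hr
      rw [Subgroup.mem_center_iff]
      intro x
      refine Subtype.ext ?_
      show (x : G) * r = r * x
      rcases hr with h | h <;> rw [h]
      · simp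
      · exact (e.comm x (hRQ x.2)).symm
  have hcard : Nat.card (Subgroup.center ↥R) = 2 := by
    refine (Nat.card_eq_two_iff' (1 : Subgroup.center ↥R)).2 ⟨⟨⟨z, hz⟩, (hmem _).2 (Or.inr rfl)⟩, ?_, fun y hy => ?_⟩
    · intro h
      exact e.ne_one (congrArg (fun c : Subgroup.center ↥R => ((c : R) : G)) h)
    · rcases (hmem y.1).1 y.2 with h | h
      · exact absurd (Subtype.ext (Subtype.ext h)) hy
      · exact Subtype.ext (Subtype.ext h)
  have hle : commutator ↥R ≤ Subgroup.center ↥R := by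
    rw [commutator_def, Subgroup.commutator_le]
    intro x _ y _
    rw [hmem]
    show (x : G) * y * (x : G)⁻¹ * (y : G)⁻¹ = 1 ∨ (x : G) * y * (x : G)⁻¹ * (y : G)⁻¹ = z
    rcases e.bracket x (hRQ x.2) y (hRQ y.2) with h | h
    · left; rw [h]; group
    · right
      rw [h, mul_assoc (y : G) x z, ← e.comm x (hRQ x.2), ← mul_assoc, ← e.comm y (hRQ y.2)]
      group
  have hcomm : commutator ↥R = Subgroup.center ↥R := by
    refine le_antisymm hle ?_
    by_contra h
    obtain ⟨x, hx, y, hy, hxy⟩ := hna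
    apply hxy
    have hbot : commutator ↥R = ⊥ := by
      rw [Subgroup.eq_bot_iff_forall]
      intro w hw
      by_contra hw1
      apply h
      intro c hc
      rcases (hmem c).1 hc with h1 | h1
      · rw [show c = 1 from Subtype.ext h1]; exact one_mem _
      · rcases (hmem w).1 (hle hw) with h2 | h2
        · exact absurd (Subtype.ext h2) hw1
        · rw [show c = w from Subtype.ext (h1.trans h2.symm)]; exact hw
    have hm : ⁅(⟨x, hx⟩ : R), (⟨y, hy⟩ : R)⁆ ∈ commutator ↥R :=
      Subgroup.commutator_mem_commutator (Subgroup.mem_top _) (Subgroup.mem_top _)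
    rw [hbot, Subgroup.mem_bot, commutatorElement_eq_one_iff_mul_comm] at hm
    exact congrArg Subtype.val hm
  refine ⟨⟨hp, le_antisymm ?_ ?_, hcomm⟩, hcard⟩
  · refine CfsgLib.CoprimeAction.frattini_le_of_elementary (p := 2) _ hle fun x => (hmem _).2 ?_
    rw [Subgroup.coe_pow, pow_two]
    exact e.sq_mem (hRQ x.2)
  · rw [← hcomm]
    exact CfsgLib.CoprimeAction.commutator_le_frattini' hp


/-- Let Q be a large extraspecial 2-subgroup of the finite group G (extraspecial; centralizer equal to its centre; normal in the centralizer of its centre; normalizing no non-trivial subgroup of odd order), and A a non-trivial subgroup of odd order of the normalizer of Q. Then Q is the central product of the centralizer of A in Q and the commutator subgroup [Q, A] (they generate Q and commute elementwise), [Q, A] is extraspecial, and the centralizer of A in Q is either the centre of Q or extraspecial. -/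
theorem result {G : Type*} [Group G] [Finite G] (Q : Subgroup G) (hQ : Cfsg.IsLargeExtraspecial Q) (A : Subgroup G) (hA : A ≤ Subgroup.normalizer (Q : Set G)) (hAodd : Odd (Nat.card ↥A)) (hA1 : A ≠ ⊥) : (Q ⊓ Subgroup.centralizer (A : Set G)) ⊔ ⁅Q, A⁆ = Q ∧ (∀ x ∈ Q ⊓ Subgroup.centralizer (A : Set G), ∀ y ∈ ⁅Q, A⁆, x * y = y * x) ∧ Cfsg.IsExtraspecial 2 ↥⁅Q, A⁆ ∧ (Q ⊓ Subgroup.centralizer (A : Set G) = ((Subgroup.center ↥Q).map Q.subtype) ∨ Cfsg.IsExtraspecial 2 ↥(Q ⊓ Subgroup.centralizer (A : Set G))) := by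
  haveI : Fact (Nat.Prime 2) := ⟨Nat.prime_two⟩
  obtain ⟨hex, hcent, -, -⟩ := hQ
  obtain ⟨z, e⟩ := CfsgLib.LargeEx.exists_extraData hex
  obtain ⟨n, hn⟩ := e.isPGroup.exists_card_eq
  have hcop : (Nat.card A).Coprime (Nat.card Q) := by
    rw [hn]; exact Nat.Coprime.pow_right n (Nat.coprime_two_right.2 hAodd)
  have hsolv : Group.IsSolvable A ∨ Group.IsSolvable Q :=
    Or.inr (haveI := e.isPGroup.isNilpotent; inferInstance)
  have hRQ := CfsgLib.CoprimeAction.commutator_le_of_normalizer hA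
  have hzA : ∀ c ∈ A, c * z = z * c := by
    intro c hc
    have h1 : c * z * c⁻¹ ∈ Q := CfsgLib.CoprimeAction.conj_mem hA hc e.mem
    rcases e.central _ h1 (fun x hx => by
      have hx' : c⁻¹ * x * c ∈ Q := by
        have := CfsgLib.CoprimeAction.conj_mem hA (A.inv_mem hc) hx
        simpa using this
      calc c * z * c⁻¹ * x = c * (z * (c⁻¹ * x * c)) * c⁻¹ := by group
        _ = c * ((c⁻¹ * x * c) * z) * c⁻¹ := by rw [e.comm _ hx']
        _ = x * (c * z * c⁻¹) := by group) with h | h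
    · exact absurd (conj_eq_one_iff.1 h) e.ne_one
    · exact mul_inv_eq_iff_eq_mul.1 h
  have hsup : (Q ⊓ Subgroup.centralizer (A : Set G)) ⊔ ⁅Q, A⁆ = Q := by
    rw [sup_comm]; exact CfsgLib.CoprimeAction.commutator_sup_centralizer hA hcop hsolv
  have hcommute : ∀ x ∈ Q ⊓ Subgroup.centralizer (A : Set G), ∀ y ∈ ⁅Q, A⁆, x * y = y * x := by
    intro x hx y hy
    obtain ⟨hxQ, hxA⟩ := Subgroup.mem_inf.1 hx
    suffices hle : ⁅Q, A⁆ ≤ Subgroup.centralizer ({x} : Set G) from
      (Subgroup.mem_centralizer_singleton_iff.1 (hle hy)).symm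
    rw [Subgroup.commutator_le]
    intro q hq c hc
    rw [Subgroup.mem_centralizer_singleton_iff, commutatorElement_def]
    have hxc : c * x = x * c := Subgroup.mem_centralizer_iff.1 hxA c hc
    have hxc' : c⁻¹ * x = x * c⁻¹ := (Commute.inv_left hxc).eq
    have key : q * c * q⁻¹ * x * (q * c * q⁻¹)⁻¹ = x := by
      rcases e.bracket q hq x hxQ with h | h
      · have h' : q⁻¹ * x = x * q⁻¹ := (Commute.inv_left h).eq
        calc q * c * q⁻¹ * x * (q * c * q⁻¹)⁻¹ = q * c * (q⁻¹ * x) * (q * c * q⁻¹)⁻¹ := by group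
          _ = q * (c * x * c⁻¹) * q⁻¹ := by rw [h']; group
          _ = x := by rw [hxc, mul_inv_cancel_right, h, mul_inv_cancel_right]
      · have h' : q⁻¹ * x = x * z * q⁻¹ := by
          calc q⁻¹ * x = q⁻¹ * (x * q * z) * (q * z)⁻¹ * q⁻¹ * q := by group
            _ = x * z⁻¹ * q⁻¹ := by rw [← h]; group
            _ = x * z * q⁻¹ := by rw [e.inv_eq]
        calc q * c * q⁻¹ * x * (q * c * q⁻¹)⁻¹ = q * c * (q⁻¹ * x) * (q * c * q⁻¹)⁻¹ := by group
          _ = q * (c * (x * z) * c⁻¹) * q⁻¹ := by rw [h']; group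
          _ = q * (x * z) * q⁻¹ := by
            rw [← mul_assoc c, hxc, mul_assoc x c z, hzA c hc]; group
          _ = (q * x) * (z * q⁻¹) := by group
          _ = (x * q * z) * (q⁻¹ * z) := by rw [h, e.comm q⁻¹ (Q.inv_mem hq)]
          _ = x * (q * (z * q⁻¹)) * z := by group
          _ = x := by rw [e.comm q⁻¹ (Q.inv_mem hq), mul_inv_cancel_left, mul_assoc, e.sq, mul_one]
    have hk : q * c * q⁻¹ * x = x * (q * c * q⁻¹) := mul_inv_eq_iff_eq_mul.1 key
    calc q * c * q⁻¹ * c⁻¹ * x = q * c * q⁻¹ * (c⁻¹ * x) := by group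
      _ = q * c * q⁻¹ * x * c⁻¹ := by rw [hxc']; group
      _ = x * (q * c * q⁻¹ * c⁻¹) := by rw [hk]; group
  have hcenR : ∀ r ∈ ⁅Q, A⁆, (∀ x ∈ ⁅Q, A⁆, r * x = x * r) → r = 1 ∨ r = z := by
    intro r hr hc
    refine e.central r (hRQ hr) fun x hx => ?_
    have hle : Q ≤ Subgroup.centralizer ({r} : Set G) := by
      rw [← hsup]
      refine sup_le (fun y hy => ?_) (fun y hy => ?_) <;> rw [Subgroup.mem_centralizer_singleton_iff]
      · exact hcommute y hy r hr
      · exact (hc y hy).symm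
    exact (Subgroup.mem_centralizer_singleton_iff.1 (hle hx)).symm
  have hRne : ∃ x ∈ ⁅Q, A⁆, ∃ y ∈ ⁅Q, A⁆, x * y ≠ y * x := by
    by_contra h
    push Not at h
    have hcz : A ≤ Subgroup.centralizer (Subgroup.zpowers z : Set G) := by
      intro c hc
      rw [Subgroup.mem_centralizer_iff]
      intro w hw
      obtain ⟨i, rfl⟩ := Subgroup.mem_zpowers_iff.1 hw
      exact ((show Commute c z from hzA c hc).zpow_right i).eq.symm
    have hcopz : (Nat.card A).Coprime (Nat.card (Subgroup.zpowers z)) :=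
      hcop.coprime_dvd_right (Subgroup.card_dvd_of_le (Subgroup.zpowers_le.2 e.mem))
    have hRz : ⁅Q, A⁆ ≤ Subgroup.zpowers z := fun r hr => by
      rcases hcenR r hr (fun x hx => h r hr x hx) with rfl | rfl
      · exact one_mem _
      · exact Subgroup.mem_zpowers _
    have hAQ : A ≤ Subgroup.centralizer (Q : Set G) :=
      CfsgLib.CoprimeAction.le_centralizer_of_chain hcopz hcz hRz
    apply hA1
    rw [Subgroup.eq_bot_iff_forall]
    intro c hc
    have hc' := hAQ hc
    rw [hcent] at hc'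
    rcases e.mem_center_iff.1 hc' with h1 | h1
    · exact h1
    · exact CfsgLib.LargeEx.eq_one_of_sq_eq_one hAodd hc (by rw [h1, e.sq])
  have hzR : z ∈ ⁅Q, A⁆ := by
    obtain ⟨x, hx, y, hy, hxy⟩ := hRne
    rcases e.bracket x (hRQ hx) y (hRQ hy) with h | h
    · exact absurd h hxy
    · rw [show z = (y * x)⁻¹ * (x * y) by rw [h]; group]
      exact mul_mem (inv_mem (mul_mem hy hx)) (mul_mem hx hy)
  refine ⟨hsup, hcommute, isExtraspecial_of e hRQ hzR hcenR hRne, ?_⟩
  have hzC : z ∈ Q ⊓ Subgroup.centralizer (A : Set G) :=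
    Subgroup.mem_inf.2 ⟨e.mem, Subgroup.mem_centralizer_iff.2 fun c hc => hzA c hc⟩
  have hcenC : ∀ r ∈ Q ⊓ Subgroup.centralizer (A : Set G),
      (∀ x ∈ Q ⊓ Subgroup.centralizer (A : Set G), r * x = x * r) → r = 1 ∨ r = z := by
    intro r hr hc
    refine e.central r (Subgroup.mem_inf.1 hr).1 fun x hx => ?_
    have hle : Q ≤ Subgroup.centralizer ({r} : Set G) := by
      rw [← hsup]
      refine sup_le (fun y hy => ?_) (fun y hy => ?_) <;> rw [Subgroup.mem_centralizer_singleton_iff]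
      · exact (hc y hy).symm
      · exact (hcommute r hr y hy).symm
    exact (Subgroup.mem_centralizer_singleton_iff.1 (hle hx)).symm
  by_cases hC : ∃ x ∈ Q ⊓ Subgroup.centralizer (A : Set G), ∃ y ∈ Q ⊓ Subgroup.centralizer (A : Set G), x * y ≠ y * x
  · exact Or.inr (isExtraspecial_of e inf_le_left hzC hcenC hC)
  · left
    push Not at hC
    refine le_antisymm (fun r hr => e.mem_center_iff.2 (hcenC r hr (fun x hx => hC r hr x hx))) fun r hr => ?_
    rcases e.mem_center_iff.1 hr with rfl | rfl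
    · exact one_mem _
    · exact hzC

end Cfsg.Agent.S5434
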