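import Cfsg.Statements.S5423
import Cfsg.Agent.Heisenberg.Transfer

set_option autoImplicit false
open Cfsg

namespace Cfsg.Agent.S5423

open Matrix CfsgLib.Heisenberg
open scoped Pointwise

section
variable {G : Type*} [Group G]

lemma exists_invol {m : ℕ} {v w : Fin m → ZMod 2} (hv0 : v ≠ 0) (hw : w ≠ 0) :
    ∃ T : Matrix (Fin m) (Fin m) (ZMod 2), T * T = 1 ∧ T *ᵥ v = w := by
  obtain ⟨φ, hφv, hφw⟩ : ∃ φ : Fin m → ZMod 2, φ ⬝ᵥ v = 1 ∧ φ ⬝ᵥ w = 1 := by
    by_cases hij : ∃ i, v i = 1 ∧ w i = 1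
    · obtain ⟨i, h1, h2⟩ := hij
      exact ⟨Pi.single i 1, by rw [single_dotProduct, one_mul, h1], by rw [single_dotProduct, one_mul, h2]⟩
    push Not at hij
    obtain ⟨i, hi⟩ : ∃ i, v i = 1 := by
      by_contra h
      push Not at h
      exact hv0 (funext fun i => (zmod2_cases (v i)).resolve_right (h i))
    obtain ⟨j, hj⟩ : ∃ j, w j = 1 := by
      by_contra h
      push Not at h
      exact hw (funext fun i => (zmod2_cases (w i)).resolve_right (h i))
    have hwi : w i = 0 := (zmod2_cases (w i)).resolve_right (hij i hi)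
    have hvj : v j = 0 := (zmod2_cases (v j)).resolve_right fun h => hij j h hj
    exact ⟨Pi.single i 1 + Pi.single j 1, by simp [add_dotProduct, single_dotProduct, hi, hvj],
      by simp [add_dotProduct, single_dotProduct, hj, hwi]⟩
  refine ⟨1 + vecMulVec (w + v) φ, ?_, ?_⟩
  · have hz : φ ⬝ᵥ (w + v) = 0 := by rw [dotProduct_add, hφv, hφw]; rfl
    simp only [mul_add, add_mul, one_mul, mul_one, vecMulVec_mul_vecMulVec, hz, zero_smul, vecMulVec_zero, add_zero]
    ext i j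
    simp only [Matrix.add_apply, add_assoc, ← two_mul, two_eq_zero₂, zero_mul, add_zero]
  · funext i
    simp only [add_mulVec, one_mulVec, Pi.add_apply, vecMulVec_mulVec, hφv, MulOpposite.op_one, one_smul]
    linear_combination (v i) * two_eq_zero₂

lemma exists_coord [Finite G] {n : ℕ} {U : Subgroup G} (hU : Cfsg.IsElementaryAbelian 2 U)
    (hcard : Nat.card ↥U = 2 ^ (n + 1)) {z : ↥U} (hz : z ≠ 1) :
    ∃ φ : ↥U → (Fin (n + 1) → ZMod 2), Function.Bijective φ ∧ (∀ a b, φ (a * b) = φ a + φ b) ∧ φ z = Pi.single 0 1 := by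
  haveI := hU.1
  letI : CommGroup ↥U := { (inferInstance : Group ↥U) with mul_comm := mul_comm' }
  letI : Module (ZMod 2) (Additive ↥U) := AddCommGroup.zmodModule fun v => by
    show v.toMul ^ 2 = 1
    exact Subtype.ext (hU.2 _ v.toMul.2)
  haveI : Module.Finite (ZMod 2) (Additive ↥U) := Module.Finite.of_finite
  have hc : Nat.card (Additive ↥U) = 2 ^ Module.finrank (ZMod 2) (Additive ↥U) := by
    rw [Module.natCard_eq_pow_finrank (K := ZMod 2), Nat.card_zmod]
  rw [Nat.card_congr Additive.toMul, hcard] at hc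
  have hr : Module.finrank (ZMod 2) (Additive ↥U) = n + 1 := (Nat.pow_right_injective le_rfl hc).symm
  let e : Additive ↥U ≃ₗ[ZMod 2] (Fin (n + 1) → ZMod 2) :=
    ((Module.finBasisOfFinrankEq (ZMod 2) (Additive ↥U) hr).equivFun)
  have hne : e (Additive.ofMul z) ≠ 0 := fun h => hz (by simpa using h)
  obtain ⟨T, hTT, hTz⟩ := exists_invol hne (w := Pi.single (0 : Fin (n + 1)) (1 : ZMod 2))
    (Pi.single_ne_zero_iff.2 one_ne_zero)
  refine ⟨fun u => T *ᵥ e (Additive.ofMul u), ⟨fun a b h => ?_, fun v => ?_⟩, fun a b => ?_, hTz⟩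
  · have := congrArg (fun x => T *ᵥ x) h
    simp only [mulVec_mulVec, hTT, one_mulVec] at this
    exact Additive.ofMul.injective (e.injective this)
  · obtain ⟨a, ha⟩ := e.surjective (T *ᵥ v)
    exact ⟨a.toMul, by simp [ha, mulVec_mulVec, hTT]⟩
  · simp [ofMul_mul, mulVec_add]

/-- An affine matrix. -/
def affMat {n : ℕ} (A : Matrix (Fin (n + 1)) (Fin (n + 1)) (ZMod 2)) (v : Fin (n + 1) → ZMod 2) :
    Matrix (Fin (n + 2)) (Fin (n + 2)) (ZMod 2) :=
  Fin.snoc (fun i => Fin.snoc (A i) (v i)) (Fin.snoc 0 1)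

lemma affMat_mul {n : ℕ} (A B : Matrix (Fin (n + 1)) (Fin (n + 1)) (ZMod 2)) (v w : Fin (n + 1) → ZMod 2) :
    affMat A v * affMat B w = affMat (A * B) (v + A *ᵥ w) := by
  ext r c
  rw [Matrix.mul_apply, Fin.sum_univ_castSucc]
  revert r
  refine Fin.lastCases ?_ fun i => ?_
  · simp [affMat]
  · revert c
    refine Fin.lastCases ?_ fun j => ?_
    · simp [affMat, Matrix.mulVec, dotProduct, add_comm]
    · simp [affMat, Matrix.mul_apply]

lemma affMat_one {n : ℕ} : affMat (1 : Matrix (Fin (n + 1)) (Fin (n + 1)) (ZMod 2)) 0 = 1 := by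
  ext r c
  revert c
  revert r
  refine Fin.lastCases ?_ fun i => ?_ <;> refine Fin.lastCases ?_ fun j => ?_ <;>
    simp [affMat, Matrix.one_apply, (Fin.castSucc_lt_last _).ne, (Fin.castSucc_lt_last _).ne']

lemma e0_castSucc {n : ℕ} (i : Fin (n + 1)) :
    (e0 : Fin (n + 2) → ZMod 2) i.castSucc = (Pi.single 0 1 : Fin (n + 1) → ZMod 2) i := by
  refine Fin.cases ?_ (fun a => ?_) i
  · simp [e0]
  · rw [Fin.castSucc_succ]; simp [e0]

lemma eL_castSucc {n : ℕ} (j : Fin (n + 1)) : (eL : Fin (n + 2) → ZMod 2) j.castSucc = 0 := by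
  refine Fin.cases ?_ (fun a => ?_) j
  · simp [eL]
  · rw [Fin.castSucc_succ]; simp [eL]

lemma eL_last {n : ℕ} : (eL : Fin (n + 2) → ZMod 2) (Fin.last (n + 1)) = 1 := by
  rw [← Fin.succ_last]; simp [eL]

lemma e0_last {n : ℕ} : (e0 : Fin (n + 2) → ZMod 2) (Fin.last (n + 1)) = 0 := by
  rw [← Fin.succ_last]; simp [e0]

lemma eq_bot_of_normalized [Finite G] {U K : Subgroup G} [U.Normal] (hU2 : IsPGroup 2 ↥U) (hK : Odd (Nat.card ↥K))
    (hUK : U ≤ Subgroup.normalizer (K : Set G)) (hCU : ∀ g : G, (∀ u ∈ U, g * u * g⁻¹ = u) → g ∈ U) : K = ⊥ := by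
  refine (Subgroup.eq_bot_iff_forall _).2 fun k hk => ?_
  have h1 : ∀ x, x ∈ U → x ∈ K → x = 1 := fun x hxU hxK =>
    CfsgLib.LargeEx.eq_one_of_isPGroup_two hK hU2 hxK hxU
  refine h1 k (hCU k fun u hu => ?_) hk
  have e := h1 (k * u * k⁻¹ * u⁻¹) (mul_mem (Subgroup.Normal.conj_mem inferInstance u hu k) (inv_mem hu))
    (by
      rw [show k * u * k⁻¹ * u⁻¹ = k * (u * k⁻¹ * u⁻¹) by group]
      exact mul_mem hk ((Subgroup.mem_normalizer_iff.1 (hUK hu) _).1 (inv_mem hk)))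
  rwa [mul_inv_eq_one] at e

end

/-- Let G be a finite group that is the split extension of an elementary abelian normal subgroup U of order 2^(n+1), n ≥ 1, by its full automorphism group: U has a complement M in G whose conjugation action on U is faithful and realizes every automorphism of U. Let Z be a subgroup of U of order 2 and Q the largest normal 2-subgroup of the centralizer C of Z. Then Q is extraspecial of order 2^(2n+1) with an elementary abelian subgroup of order 2^(n+1) (plus type), Q is a large extraspecial 2-subgroup of G, and C is the split extension of Q by the general linear group of degree n over the field with two elements. -/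
theorem result {G : Type*} [Group G] [Finite G] (n : ℕ) (hn : 1 ≤ n) (U M : Subgroup G) [U.Normal] (hU : Cfsg.IsElementaryAbelian 2 U) (hUcard : Nat.card ↥U = 2 ^ (n + 1)) (hUM : U ⊓ M = ⊥) (hUM' : U ⊔ M = ⊤) (hfaith : ∀ m ∈ M, (∀ u ∈ U, m * u * m⁻¹ = u) → m = 1) (hfull : ∀ φ : ↥U ≃* ↥U, ∃ m ∈ M, ∀ u : ↥U, ((φ u : ↥U) : G) = m * u * m⁻¹) (Z : Subgroup G) (hZU : Z ≤ U) (hZ : Nat.card ↥Z = 2) (Q : Subgroup G) (hQ : Q = (Cfsg.pCore 2 ↥(Subgroup.centralizer (Z : Set G))).map (Subgroup.centralizer (Z : Set G)).subtype) : Cfsg.IsExtraspecial 2 ↥Q ∧ Nat.card ↥Q = 2 ^ (2 * n + 1) ∧ (∃ E : Subgroup G, E ≤ Q ∧ Cfsg.IsElementaryAbelian 2 E ∧ Nat.card ↥E = 2 ^ (n + 1)) ∧ Cfsg.IsLargeExtraspecial Q ∧ ∃ K : Subgroup G, K ≤ Subgroup.centralizer (Z : Set G) ∧ Q ⊓ K = ⊥ ∧ Q ⊔ K = Subgroup.centralizer (Z : Set G) ∧ Nonempty (↥K ≃* Matrix.GeneralLinearGroup (Fin n) (ZMod 2)) := by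
  classical
  haveI : Fact (Nat.Prime 2) := ⟨Nat.prime_two⟩
  obtain ⟨⟨z, hzZ⟩, hz1, huniq⟩ := (Nat.card_eq_two_iff' (1 : ↥Z)).1 hZ
  have hZmem : ∀ x ∈ Z, x = 1 ∨ x = z := fun x hx => by
    by_cases h : (⟨x, hx⟩ : ↥Z) = 1
    · exact Or.inl (congrArg Subtype.val h)
    · exact Or.inr (congrArg Subtype.val (huniq ⟨x, hx⟩ h))
  have hCZ : Subgroup.centralizer (Z : Set G) = Subgroup.centralizer ({z} : Set G) := by
    refine le_antisymm (Subgroup.centralizer_le (by simpa using hzZ)) fun c hc => ?_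
    refine Subgroup.mem_centralizer_iff.2 fun x hx => ?_
    rcases hZmem x hx with rfl | rfl
    · simp
    · exact (Subgroup.mem_centralizer_singleton_iff.1 hc).symm
  have hzU : z ∈ U := hZU hzZ
  obtain ⟨φ, hφb, hφ, hφz⟩ := exists_coord hU hUcard (z := ⟨z, hzU⟩)
    (fun h => hz1 (Subtype.ext (show z = 1 from congrArg Subtype.val h)))
  let Φ : ↥U ≃ (Fin (n + 1) → ZMod 2) := Equiv.ofBijective φ hφb
  have hφ0 : φ 1 = 0 := by
    have := hφ 1 1
    rw [mul_one] at this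
    exact left_eq_add.1 this
  have hΦ : ∀ v w, Φ.symm (v + w) = Φ.symm v * Φ.symm w := fun v w => hφb.1 (by
    rw [hφ]
    show Φ (Φ.symm _) = Φ (Φ.symm v) + Φ (Φ.symm w)
    simp)
  let cj : G → ↥U → ↥U := fun g u => ⟨g * u * g⁻¹, Subgroup.Normal.conj_mem inferInstance _ u.2 g⟩
  have cjmul : ∀ g a b, cj g (a * b) = cj g a * cj g b := fun g a b => Subtype.ext (by simp [cj, mul_assoc])
  let L : G → (Fin (n + 1) → ZMod 2) →ₗ[ZMod 2] (Fin (n + 1) → ZMod 2) := fun g =>
    AddMonoidHom.toZModLinearMap 2 (AddMonoidHom.mk' (fun v => φ (cj g (Φ.symm v)))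
      (fun v w => by rw [hΦ, cjmul, hφ]))
  let A : G → Matrix (Fin (n + 1)) (Fin (n + 1)) (ZMod 2) := fun g => LinearMap.toMatrix' (L g)
  have hA : ∀ g u, A g *ᵥ φ u = φ (cj g u) := fun g u => by
    show LinearMap.toMatrix' (L g) *ᵥ _ = _
    rw [LinearMap.toMatrix'_mulVec]
    show φ (cj g (Φ.symm (Φ u))) = _
    rw [Equiv.symm_apply_apply]
  have hext : ∀ B B' : Matrix (Fin (n + 1)) (Fin (n + 1)) (ZMod 2), (∀ u, B *ᵥ φ u = B' *ᵥ φ u) → B = B' :=
    fun B B' h => Matrix.toLin'.injective (LinearMap.ext fun v => by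
      obtain ⟨u, rfl⟩ := hφb.2 v
      simpa using h u)
  have hA1 : ∀ g, (∀ u : ↥U, g * u * g⁻¹ = (u : G)) → A g = 1 := fun g hg => hext _ _ fun u => by
    rw [hA, one_mulVec, show cj g u = u from Subtype.ext (hg u)]
  have hAmul : ∀ g h, A (g * h) = A g * A h := fun g h => hext _ _ fun u => by
    rw [← mulVec_mulVec, hA, hA, hA]
    congr 1
    exact Subtype.ext (by simp [cj, mul_assoc])
  have hdec : ∀ g : G, ∃ u : ↥U, (u : G)⁻¹ * g ∈ M := fun g => by
    obtain ⟨u, hu, m, hm, rfl⟩ := Set.mem_mul.1 (show g ∈ (U : Set G) * (M : Set G) by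
      rw [← Subgroup.normal_mul, hUM']; trivial)
    exact ⟨⟨u, hu⟩, by simpa using hm⟩
  choose uc hmc using hdec
  have huniq' : ∀ (g : G) (u : ↥U), (u : G)⁻¹ * g ∈ M → uc g = u := fun g u hu => by
    refine Subtype.ext ?_
    have h1 : (uc g : G)⁻¹ * u ∈ U ⊓ M := ⟨U.mul_mem (U.inv_mem (uc g).2) u.2, by
      rw [show (uc g : G)⁻¹ * u = ((uc g : G)⁻¹ * g) * ((u : G)⁻¹ * g)⁻¹ by group]
      exact M.mul_mem (hmc g) (M.inv_mem hu)⟩
    rw [hUM, Subgroup.mem_bot, inv_mul_eq_one] at h1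
    exact h1
  haveI := hU.1
  have hUc : ∀ a b : ↥U, (a : G) * b = b * a := fun a b => congrArg Subtype.val (mul_comm' a b)
  have hucmul : ∀ g h, uc (g * h) = uc g * cj g (uc h) := fun g h => huniq' _ _ <| by
    have e : ((uc g * cj g (uc h) : ↥U) : G)⁻¹ * (g * h) = ((uc g : G)⁻¹ * g) * ((uc h : G)⁻¹ * h) := by
      rw [show uc g * cj g (uc h) = cj g (uc h) * uc g from mul_comm' _ _]
      simp [cj, mul_assoc]
    rw [e]
    exact mul_mem (hmc g) (hmc h)
  let F : G →* Matrix (Fin (n + 2)) (Fin (n + 2)) (ZMod 2) :=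
    { toFun := fun g => affMat (A g) (φ (uc g))
      map_one' := by
        rw [hA1 1 (fun u => by simp), huniq' 1 1 (by simp), hφ0, affMat_one]
      map_mul' := fun g h => by rw [affMat_mul, hA, ← hAmul, ← hφ, ← hucmul] }
  let f : G →* GL (Fin (n + 2)) (ZMod 2) := F.toHomUnits
  have hfval : ∀ g, ((f g : GL (Fin (n + 2)) (ZMod 2)) : Matrix (Fin (n + 2)) (Fin (n + 2)) (ZMod 2)) =
      affMat (A g) (φ (uc g)) := fun g => rfl
  have hf : Function.Injective f := by
    rw [← MonoidHom.ker_eq_bot_iff, Subgroup.eq_bot_iff_forall]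
    intro g hg
    have h1 : affMat (A g) (φ (uc g)) = 1 := by rw [← hfval, MonoidHom.mem_ker.1 hg, Units.val_one]
    have hu : uc g = 1 := by
      refine hφb.1 (funext fun i => ?_)
      have := congrFun (congrFun h1 i.castSucc) (Fin.last (n + 1))
      simpa [affMat, Matrix.one_apply, (Fin.castSucc_lt_last i).ne, hφ0] using this
    have hAg : A g = 1 := by
      ext i j
      have := congrFun (congrFun h1 i.castSucc) j.castSucc
      simpa [affMat, Matrix.one_apply] using this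
    have hgM : g ∈ M := by simpa [hu] using hmc g
    refine hfaith g hgM fun u hu' => ?_
    have := hA g ⟨u, hu'⟩
    rw [hAg, one_mulVec] at this
    exact (congrArg Subtype.val (hφb.1 this)).symm
  have hfz : f z = z0 n := by
    refine Units.ext ?_
    rw [hfval, z0_val, hA1 z (fun u => by rw [hUc ⟨z, hzU⟩ u, mul_inv_cancel_right]), huniq' z ⟨z, hzU⟩ (by simp), hφz]
    ext r c
    revert c
    revert r
    refine Fin.lastCases ?_ fun i => ?_ <;> refine Fin.lastCases ?_ fun j => ?_ <;>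
      simp [affMat, vecMulVec_apply, Matrix.one_apply, e0_castSucc, eL_castSucc, eL_last,
        (Fin.castSucc_lt_last _).ne, (Fin.castSucc_lt_last _).ne', e0_last]
  have hr : stab n ≤ f.range := by
    intro x hx
    have hrow : ∀ y ∈ stab n, ∀ j, (y : Matrix (Fin (n + 2)) (Fin (n + 2)) (ZMod 2)) (Fin.last (n + 1)) j =
        (eL : Fin (n + 2) → ZMod 2) j := fun y hy j => by
      rw [← Fin.succ_last]; exact (stab_entries hy).2 j
    let blk : GL (Fin (n + 2)) (ZMod 2) → Matrix (Fin (n + 1)) (Fin (n + 1)) (ZMod 2) := fun y i j =>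
      (y : Matrix (Fin (n + 2)) (Fin (n + 2)) (ZMod 2)) i.castSucc j.castSucc
    have hblk : ∀ y ∈ stab n, ∀ w ∈ stab n, blk (y * w) = blk y * blk w := fun y hy w hw => by
      ext i j
      show ((y * w : GL (Fin (n + 2)) (ZMod 2)) : Matrix (Fin (n + 2)) (Fin (n + 2)) (ZMod 2)) _ _ = _
      have hl : (eL : Fin (n + 2) → ZMod 2) j.castSucc = 0 := by
        refine Fin.cases ?_ (fun a => ?_) j
        · simp [eL]
        · rw [Fin.castSucc_succ]; simp [eL]
      rw [Units.val_mul, Matrix.mul_apply, Fin.sum_univ_castSucc, hrow w hw, hl, mul_zero, add_zero, Matrix.mul_apply]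
    have hblk1 : blk 1 = 1 := by ext i j; simp [blk, Matrix.one_apply]
    have hB1 : blk x * blk x⁻¹ = 1 := by rw [← hblk x hx _ (inv_mem hx), mul_inv_cancel, hblk1]
    have hB2 : blk x⁻¹ * blk x = 1 := by rw [← hblk _ (inv_mem hx) x hx, inv_mul_cancel, hblk1]
    let ψ : ↥U ≃* ↥U :=
      { toFun := fun u => Φ.symm (blk x *ᵥ φ u)
        invFun := fun u => Φ.symm (blk x⁻¹ *ᵥ φ u)
        left_inv := fun u => by
          show Φ.symm (blk x⁻¹ *ᵥ Φ (Φ.symm (blk x *ᵥ φ u))) = u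
          rw [Equiv.apply_symm_apply, mulVec_mulVec, hB2, one_mulVec]
          exact Φ.symm_apply_apply u
        right_inv := fun u => by
          show Φ.symm (blk x *ᵥ Φ (Φ.symm (blk x⁻¹ *ᵥ φ u))) = u
          rw [Equiv.apply_symm_apply, mulVec_mulVec, hB1, one_mulVec]
          exact Φ.symm_apply_apply u
        map_mul' := fun a b => by rw [hφ, mulVec_add, hΦ] }
    obtain ⟨m, hm, hψ⟩ := hfull ψ
    let v : Fin (n + 1) → ZMod 2 := fun i =>
      (x : Matrix (Fin (n + 2)) (Fin (n + 2)) (ZMod 2)) i.castSucc (Fin.last (n + 1))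
    refine ⟨(Φ.symm v : G) * m, Units.ext ?_⟩
    rw [hfval, huniq' _ (Φ.symm v) (by simpa using hm), hAmul, hA1 (Φ.symm v : G)
      (fun u => by rw [hUc, mul_inv_cancel_right]), one_mul]
    have hAm : A m = blk x := hext _ _ fun u => by
      rw [hA, show cj m u = ψ u from Subtype.ext (hψ u).symm]
      exact Φ.apply_symm_apply _
    rw [hAm, show φ (Φ.symm v) = v from Φ.apply_symm_apply v]
    ext r c
    revert r
    refine Fin.lastCases ?_ fun i => ?_
    · rw [hrow x hx]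
      revert c
      refine Fin.lastCases ?_ fun j => ?_
      · simp [affMat, eL]
      · simp [affMat, eL_castSucc]
    · revert c
      refine Fin.lastCases ?_ fun j => ?_ <;> simp [affMat, blk, v]
  obtain ⟨hQc, hEx, hcard, hEe, hCQ, hN, hcen, K, hKC, hQK, hQK', eK⟩ :=
    transfer hn f hf hr hfz Q (by rw [hQ, hCZ])
  have hU2 : IsPGroup 2 ↥U := fun u => ⟨1, Subtype.ext (by simpa using hU.2 u u.2)⟩
  have hUQ : U ≤ Q := by
    intro u hu
    have hle : U ≤ Subgroup.centralizer (Z : Set G) := fun w hw => Subgroup.mem_centralizer_iff.2 fun x hx =>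
      hUc ⟨x, hZU hx⟩ ⟨w, hw⟩
    rw [hQ]
    refine ⟨⟨u, hle hu⟩, Subgroup.mem_sSup_of_mem
      (S := {N : Subgroup ↥(Subgroup.centralizer (Z : Set G)) | N.Normal ∧ IsPGroup 2 N})
      (s := U.subgroupOf (Subgroup.centralizer (Z : Set G)))
      ⟨inferInstance, hU2.of_equiv (Subgroup.subgroupOfEquivOfLe hle).symm⟩ hu, rfl⟩
  have hCU : ∀ g : G, (∀ u ∈ U, g * u * g⁻¹ = u) → g ∈ U := fun g hg => by
    have hm : (uc g : G)⁻¹ * g = 1 := hfaith _ (hmc g) fun u hu => by
      calc (uc g : G)⁻¹ * g * u * ((uc g : G)⁻¹ * g)⁻¹ = (uc g : G)⁻¹ * (g * u * g⁻¹) * (uc g : G) := by group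
        _ = (uc g : G)⁻¹ * ((u : G) * (uc g : G)) := by rw [hg u hu, mul_assoc]
        _ = u := by rw [hUc ⟨u, hu⟩ (uc g)]; group
    rw [inv_mul_eq_one] at hm
    exact hm ▸ (uc g).2
  exact ⟨hEx, hcard, hEe, ⟨hEx, hCQ, hN, fun K' hK' hQK'' => eq_bot_of_normalized hU2 hK' (hUQ.trans hQK'') hCU⟩,
    K, hCZ ▸ hKC, hQK, hCZ ▸ hQK', eK⟩

end Cfsg.Agent.S5423
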