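import Cfsg.Statements.S3975


set_option autoImplicit false
open Cfsg

namespace Cfsg.Agent.S3975

section Wielandt

variable (G : Type*) [Group G] [Finite G]

/-- The subsets of `G` of size `n`. -/
abbrev SubsetsOf (n : ℕ) := {S : Finset G // S.card = n}

variable {G}

/-- Left translation of subsets. -/
instance instMulActionSubsetsOf (n : ℕ) : MulAction G (SubsetsOf G n) where
  smul g S := ⟨S.1.map (Equiv.mulLeft g).toEmbedding, (Finset.card_map _).trans S.2⟩
  one_smul S := Subtype.ext <| Finset.ext fun x => by
    change x ∈ S.1.map (Equiv.mulLeft (1 : G)).toEmbedding ↔ x ∈ S.1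
    rw [Finset.mem_map_equiv, Equiv.mulLeft_symm]
    simp
  mul_smul g k S := Subtype.ext <| Finset.ext fun x => by
    change x ∈ S.1.map (Equiv.mulLeft (g * k)).toEmbedding ↔
      x ∈ (S.1.map (Equiv.mulLeft k).toEmbedding).map (Equiv.mulLeft g).toEmbedding
    rw [Finset.mem_map_equiv, Finset.mem_map_equiv, Finset.mem_map_equiv, Equiv.mulLeft_symm,
      Equiv.mulLeft_symm, Equiv.mulLeft_symm]
    simp [mul_assoc]

theorem mem_smul_iff {n : ℕ} (g : G) (S : SubsetsOf G n) (x : G) :
    x ∈ (g • S).1 ↔ g⁻¹ * x ∈ S.1 := by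
  change x ∈ S.1.map (Equiv.mulLeft g).toEmbedding ↔ _
  simp [Finset.mem_map_equiv]

theorem count_modEq (p β : ℕ) (hp : p.Prime) (hdiv : p ^ β ∣ Nat.card G) :
    (Nat.card G).choose (p ^ β) ≡
      Nat.card {H : Subgroup G // Nat.card H = p ^ β} * (Nat.card G / p ^ β)
      [MOD p * (Nat.card G / p ^ β)] := by
  classical
  have : Fintype G := Fintype.ofFinite G
  set n := p ^ β with hn
  set M := Nat.card G / n with hM
  have hMn : M * n = Nat.card G := Nat.div_mul_cancel hdiv
  have hnpos : 0 < n := pow_pos hp.pos _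
  -- the stabiliser of a subset has order dividing `n`
  have hne : ∀ S : SubsetsOf G n, ∃ s, s ∈ S.1 := fun S => Finset.card_pos.1 (S.2.symm ▸ hnpos)
  have hfix : ∀ (S : SubsetsOf G n) (g : G), g ∈ MulAction.stabilizer G S →
      ∀ x ∈ S.1, g * x ∈ S.1 := fun S g hg x hx => by
    rw [← MulAction.mem_stabilizer_iff.1 hg, mem_smul_iff, inv_mul_cancel_left]
    exact hx
  have hstab : ∀ S : SubsetsOf G n, Nat.card (MulAction.stabilizer G S) ∣ n := fun S => by
    let inst : MulAction (MulAction.stabilizer G S) S.1 :=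
      { smul := fun g x => ⟨(g : G) * x, hfix S g g.2 x x.2⟩
        one_smul := fun x => Subtype.ext (one_mul (x : G))
        mul_smul := fun g k x => Subtype.ext (mul_assoc (g : G) k x) }
    have hfree : ∀ x : S.1, MulAction.stabilizer (MulAction.stabilizer G S) x = ⊥ := fun x => by
      rw [eq_bot_iff]
      intro g hg
      have h : (g : G) * x = x := congrArg Subtype.val (MulAction.mem_stabilizer_iff.1 hg)
      exact Subgroup.mem_bot.2 (Subtype.ext (mul_eq_right.1 h))
    have e := MulAction.selfEquivSigmaOrbitsQuotientStabilizer (MulAction.stabilizer G S) S.1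
    have hc := Nat.card_congr e
    rw [Nat.card_eq_fintype_card, Fintype.card_coe, S.2, Nat.card_sigma] at hc
    refine (Finset.dvd_sum fun ω _ => ?_).trans (dvd_of_eq hc.symm)
    rw [← Subgroup.index_eq_card, hfree, Subgroup.index_bot]
  let bad : Finset (SubsetsOf G n) :=
    Finset.univ.filter fun S => Nat.card (MulAction.stabilizer G S) ≠ n
  let good : Finset (SubsetsOf G n) :=
    Finset.univ.filter fun S => Nat.card (MulAction.stabilizer G S) = n
  have hbad : p * M ∣ bad.card := by
    rw [Finset.card_eq_sum_card_image (fun S => MulAction.orbit G S) bad]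
    refine Finset.dvd_sum fun O hO => ?_
    obtain ⟨S, hS, rfl⟩ := Finset.mem_image.1 hO
    have hS' := (Finset.mem_filter.1 hS).2
    have hfib : (bad.filter fun T => MulAction.orbit G T = MulAction.orbit G S).card =
        (MulAction.stabilizer G S).index := by
      rw [MulAction.index_stabilizer, Set.ncard_eq_toFinset_card']
      congr 1
      ext T
      simp only [Finset.mem_filter, Set.mem_toFinset, bad, Finset.mem_univ, true_and]
      refine ⟨fun h => h.2 ▸ MulAction.mem_orbit_self T, fun h => ⟨?_, MulAction.orbit_eq_iff.2 h⟩⟩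
      obtain ⟨g, rfl⟩ := h
      rwa [MulAction.stabilizer_smul_eq_stabilizer_map_conj,
        Subgroup.card_map_of_injective (MulEquiv.injective _)]
    rw [hfib]
    obtain ⟨i, hi, hi'⟩ := (Nat.dvd_prime_pow hp).1 (hstab S)
    have hiβ : i < β := lt_of_le_of_ne hi fun h => hS' (by rw [hi', h])
    have h := (MulAction.stabilizer G S).card_mul_index
    have hnp : n = p ^ i * p ^ (β - i) := by rw [← pow_add, Nat.add_sub_cancel' hi]
    have key : p ^ i * (MulAction.stabilizer G S).index = p ^ i * (M * p ^ (β - i)) :=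
      calc _ = Nat.card G := by rw [← hi']; exact h
        _ = M * n := hMn.symm
        _ = M * (p ^ i * p ^ (β - i)) := congrArg (fun t => M * t) hnp
        _ = _ := mul_left_comm _ _ _
    rw [mul_left_cancel₀ (pow_ne_zero i hp.ne_zero) key, mul_comm p M]
    exact mul_dvd_mul_left M (dvd_pow_self p (by omega))
  have hsum : good.card + bad.card = (Nat.card G).choose n := by
    rw [Finset.card_filter_add_card_filter_not, Finset.card_univ, Fintype.card_finset_len,
      Nat.card_eq_fintype_card]
  -- good subsets are left cosets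
  let f : ((H : {H : Subgroup G // Nat.card H = n}) × (G ⧸ H.1)) → SubsetsOf G n := fun z =>
    ⟨Finset.univ.filter fun x : G => (x : G ⧸ z.1.1) = z.2, by
      obtain ⟨⟨H, hH⟩, c⟩ := z
      obtain ⟨c, rfl⟩ := QuotientGroup.mk_surjective c
      refine Eq.trans ?_ hH
      rw [← Fintype.card_subtype, ← Nat.card_eq_fintype_card]
      refine (Nat.card_congr ((Equiv.subtypeEquivRight fun x => ?_).trans
        (Equiv.subtypeEquiv (Equiv.mulLeft c⁻¹) fun x => Iff.rfl)) : _ = Nat.card {x : G // x ∈ H})
      change (x : G ⧸ H) = c ↔ c⁻¹ * x ∈ H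
      rw [eq_comm, QuotientGroup.eq]⟩
  have hfmem : ∀ z (x : G), x ∈ (f z).1 ↔ (x : G ⧸ z.1.1) = z.2 := fun z x => by simp [f]
  have hfinj : Function.Injective f := by
    rintro ⟨⟨H, hH⟩, c⟩ ⟨⟨K, hK⟩, d⟩ h
    have hh : ∀ x : G, (x : G ⧸ H) = c ↔ (x : G ⧸ K) = d := fun x => by
      rw [← hfmem ⟨⟨H, hH⟩, c⟩ x, h, hfmem]
    obtain ⟨a, rfl⟩ := QuotientGroup.mk_surjective c
    have ha := (hh a).1 rfl
    subst ha
    obtain rfl : H = K := by
      ext y
      have := hh (a * y)
      rwa [eq_comm, QuotientGroup.eq, inv_mul_cancel_left, eq_comm, QuotientGroup.eq,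
        inv_mul_cancel_left] at this
    rfl
  have hgood : good.card = Nat.card {H : Subgroup G // Nat.card H = n} * M := by
    have himg : good = Finset.univ.image f := by
      ext S
      simp only [good, Finset.mem_filter, Finset.mem_univ, true_and, Finset.mem_image]
      constructor
      · intro hS
        obtain ⟨s, hs⟩ := hne S
        have hK : Nat.card ((MulAction.stabilizer G S).map (MulAut.conj s⁻¹).toMonoidHom) = n := by
          rw [Subgroup.card_map_of_injective (MulEquiv.injective _), hS]
        refine ⟨⟨⟨_, hK⟩, (s : G ⧸ _)⟩, Subtype.ext (Finset.eq_of_superset_of_card_ge ?_ ?_)⟩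
        · intro x hx
          rw [hfmem]
          symm
          rw [QuotientGroup.eq, Subgroup.mem_map]
          by_cases hg : x * s⁻¹ ∈ MulAction.stabilizer G S
          · exact ⟨x * s⁻¹, hg, by simp [mul_assoc]⟩
          · exfalso
            -- the translates of `s` by the stabiliser already fill `S`
            have hsub : (Finset.univ.filter fun y : G => y * s⁻¹ ∈ MulAction.stabilizer G S) ⊆ S.1 :=
              fun y hy => by
                have := hfix S _ (Finset.mem_filter.1 hy).2 s hs
                rwa [inv_mul_cancel_right] at this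
            have hcard : (Finset.univ.filter fun y : G => y * s⁻¹ ∈ MulAction.stabilizer G S).card = n := by
              refine Eq.trans ?_ hS
              rw [← Fintype.card_subtype, ← Nat.card_eq_fintype_card]
              exact Nat.card_congr (Equiv.subtypeEquiv (Equiv.mulRight s⁻¹) fun y => Iff.rfl)
            rw [← Finset.eq_of_subset_of_card_le hsub (by rw [hcard, S.2])] at hx
            exact hg (Finset.mem_filter.1 hx).2
        · rw [(f _).2, S.2]
      · rintro ⟨z, rfl⟩
        obtain ⟨⟨H, hH⟩, c⟩ := z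
        obtain ⟨c, rfl⟩ := QuotientGroup.mk_surjective c
        refine le_antisymm (Nat.le_of_dvd hnpos (hstab _)) ?_
        refine hH.ge.trans ?_
        rw [← Subgroup.card_map_of_injective (K := H) (f := (MulAut.conj c).toMonoidHom)
          (MulEquiv.injective _)]
        refine Subgroup.card_le_of_le ?_
        rintro _ ⟨h, hh, rfl⟩
        rw [MulAction.mem_stabilizer_iff]
        refine Subtype.ext (Finset.ext fun x => ?_)
        rw [mem_smul_iff, hfmem, hfmem, eq_comm, QuotientGroup.eq, eq_comm, QuotientGroup.eq]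
        change c⁻¹ * ((c * h * c⁻¹)⁻¹ * x) ∈ H ↔ c⁻¹ * x ∈ H
        rw [show c⁻¹ * ((c * h * c⁻¹)⁻¹ * x) = h⁻¹ * (c⁻¹ * x) by group]
        exact H.mul_mem_cancel_left (inv_mem hh)
    rw [himg, Finset.card_image_of_injective _ hfinj, Finset.card_univ, ← Nat.card_eq_fintype_card,
      Nat.card_sigma]
    rw [Finset.sum_congr rfl (g := fun _ => M) fun H _ => ?_, Finset.sum_const, smul_eq_mul,
      Finset.card_univ, ← Nat.card_eq_fintype_card]
    rw [← Subgroup.index_eq_card]
    have := H.1.card_mul_index
    rw [H.2, ← hMn, mul_comm M n] at this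
    exact mul_left_cancel₀ hnpos.ne' this
  rw [← hsum, hgood]
  obtain ⟨k, hk⟩ := hbad
  rw [hk]
  exact Nat.add_mul_mod_self_left _ _ k

end Wielandt


/-- Let `p` be a prime and `G` a finite group whose order is divisible by `p ^ β`. Then the number of subgroups of `G` of order `p ^ β` is congruent to `1` modulo `p`. (When `p ^ β` is the full power of `p` dividing the order, these are the Sylow `p`-subgroups and this is the usual Sylow count.) -/
theorem result {G : Type*} [Group G] [Finite G] (p β : ℕ) (hp : p.Prime) (hdiv : p ^ β ∣ Nat.card G) : Nat.card {H : Subgroup G // Nat.card H = p ^ β} ≡ 1 [MOD p] := by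
  have hN : NeZero (Nat.card G) := ⟨Nat.card_pos.ne'⟩
  let C := Multiplicative (ZMod (Nat.card G))
  have hC : Nat.card C = Nat.card G := by
    change Nat.card (ZMod (Nat.card G)) = _
    exact Nat.card_zmod _
  have h1 := count_modEq (G := G) p β hp hdiv
  have h2 := count_modEq (G := C) p β hp (hC.symm ▸ hdiv)
  have hone : Nat.card {H : Subgroup C // Nat.card H = p ^ β} = 1 := by
    classical
    have := Fact.mk hp
    have : Fintype C := Fintype.ofFinite C
    obtain ⟨K, hK⟩ := Sylow.exists_subgroup_card_pow_prime (G := C) p (hC.symm ▸ hdiv)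
    refine Nat.card_eq_one_iff_unique.2 ⟨⟨fun H₁ H₂ => Subtype.ext ?_⟩, ⟨⟨K, hK⟩⟩⟩
    have key : ∀ H : Subgroup C, Nat.card H = p ^ β →
        (H : Set C).toFinset = Finset.univ.filter (fun x : C => x ^ p ^ β = 1) := fun H hH => by
      refine Finset.eq_of_subset_of_card_le (fun x hx => ?_) ?_
      · rw [Set.mem_toFinset] at hx
        refine Finset.mem_filter.2 ⟨Finset.mem_univ x, ?_⟩
        rw [← hH]
        exact congrArg Subtype.val (pow_card_eq_one' (G := H) (x := ⟨x, hx⟩))
      · refine (IsCyclic.card_pow_eq_one_le (pow_pos hp.pos β)).trans (le_of_eq ?_)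
        rw [← hH, Set.toFinset_card]
        exact Nat.card_eq_fintype_card
    exact SetLike.coe_injective (Set.toFinset_inj.1 ((key _ H₁.2).trans (key _ H₂.2).symm))
  rw [hC, hone] at h2
  exact Nat.ModEq.mul_right_cancel' (Nat.div_pos (Nat.le_of_dvd Nat.card_pos hdiv) (pow_pos hp.pos β)).ne'
    (h1.symm.trans h2)

end Cfsg.Agent.S3975
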