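import Cfsg.Statements.S3976
import Cfsg.Agent.S3975
import Mathlib.GroupTheory.PGroup
import Mathlib.GroupTheory.GroupAction.ConjAct

set_option autoImplicit false
open Cfsg

namespace Cfsg.Agent.S3976

theorem map_normal_eq_self_aux {G : Type*} [Group G] (H : Subgroup G) [hH : H.Normal] (g : G) :
    H.map (MulAut.conj g).toMonoidHom = H := by
  refine le_antisymm ?_ fun x hx => ⟨g⁻¹ * x * g, by simpa using hH.conj_mem x hx g⁻¹, by simp [mul_assoc]⟩
  rintro _ ⟨x, hx, rfl⟩
  exact hH.conj_mem x hx g


/-- Let `p` be a prime and `G` a group of order `p ^ m`. For every `s ≤ m` the number of normal subgroups of `G` of order `p ^ s` is congruent to `1` modulo `p`. -/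
theorem result {G : Type*} [Group G] [Finite G] (p m s : ℕ) (hp : p.Prime) (hG : Nat.card G = p ^ m) (hs : s ≤ m) : Nat.card {H : Subgroup G // H.Normal ∧ Nat.card H = p ^ s} ≡ 1 [MOD p] := by
  haveI : Fact p.Prime := ⟨hp⟩
  have hdiv : p ^ s ∣ Nat.card G := hG ▸ pow_dvd_pow p hs
  have h1 := Cfsg.Agent.S3975.result (G := G) p s hp hdiv
  letI : MulAction G {H : Subgroup G // Nat.card H = p ^ s} :=
    { smul := fun g H => ⟨H.1.map (MulAut.conj g).toMonoidHom,
        (Subgroup.card_map_of_injective (MulEquiv.injective _)).trans H.2⟩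
      one_smul := fun H => Subtype.ext (show H.1.map (MulAut.conj (1 : G)).toMonoidHom = H.1 by
        rw [map_one]; exact Subgroup.map_id _)
      mul_smul := fun a b H => Subtype.ext (show H.1.map (MulAut.conj (a * b)).toMonoidHom =
          (H.1.map (MulAut.conj b).toMonoidHom).map (MulAut.conj a).toMonoidHom by
        rw [Subgroup.map_map]
        congr 1
        ext x
        simp [mul_assoc]) }
  have h2 := (IsPGroup.of_card hG).card_modEq_card_fixedPoints {H : Subgroup G // Nat.card H = p ^ s}
  have h3 : Nat.card (MulAction.fixedPoints G {H : Subgroup G // Nat.card H = p ^ s}) =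
      Nat.card {H : Subgroup G // H.Normal ∧ Nat.card H = p ^ s} :=
    Nat.card_congr
      { toFun := fun z => ⟨z.1.1, ⟨fun x hx g => by
          have hg : z.1.1.map (MulAut.conj g).toMonoidHom = z.1.1 := congrArg Subtype.val (z.2 g)
          rw [← hg]
          exact ⟨x, hx, by simp⟩⟩, z.1.2⟩
        invFun := fun H => ⟨⟨H.1, H.2.2⟩, fun g => Subtype.ext (by
          haveI := H.2.1
          exact map_normal_eq_self_aux H.1 g)⟩
        left_inv := fun z => rfl
        right_inv := fun H => rfl }
  rw [← h3]
  exact h2.symm.trans h1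

end Cfsg.Agent.S3976
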