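import Cfsg.Statements.S1226
import Cfsg.Agent.Invol.StronglyEmbedded
import Mathlib.GroupTheory.Sylow

set_option autoImplicit false
open Cfsg

namespace Cfsg.Agent.S1226

/-- Let G be a finite group with a Sylow 2-subgroup T that is neither cyclic nor normal, such that the centralizer of every involution is an elementary abelian 2-group. Then N_G(T) is a strongly embedded subgroup of G. -/
theorem result {G : Type*} [Group G] [Finite G] (T : Sylow 2 G) (hnc : ¬ IsCyclic (T : Subgroup G)) (hnn : ¬ (T : Subgroup G).Normal) (hC : ∀ t : G, orderOf t = 2 → IsMulCommutative (Subgroup.centralizer ({t} : Set G)) ∧ ∀ c ∈ Subgroup.centralizer ({t} : Set G), c ^ 2 = 1) : Cfsg.IsStronglyEmbedded (Subgroup.normalizer ((T : Subgroup G) : Set G)) := by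
  haveI : Fact (Nat.Prime 2) := ⟨Nat.prime_two⟩
  have hT : (T : Subgroup G) ≠ ⊥ := fun h => hnc (by rw [h]; infer_instance)
  haveI : Nontrivial (T : Subgroup G) := (Subgroup.nontrivial_iff_ne_bot _).2 hT
  obtain ⟨z, hz⟩ := exists_prime_orderOf_dvd_card' (G := Subgroup.center (T : Subgroup G)) 2 (by
    obtain ⟨k, hk⟩ := (T.isPGroup'.to_subgroup (Subgroup.center (T : Subgroup G))).exists_card_eq
    haveI := T.isPGroup'.center_nontrivial
    rcases k with _ | k
    · have := Finite.one_lt_card (α := Subgroup.center (T : Subgroup G))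
      rw [hk, pow_zero] at this
      exact absurd this (lt_irrefl 1)
    · exact hk ▸ dvd_pow_self 2 (Nat.succ_ne_zero k))
  rw [← Subgroup.orderOf_coe, ← Subgroup.orderOf_coe] at hz
  -- the Sylow subgroup is elementary abelian
  have hTab : ∀ a ∈ (T : Subgroup G), ∀ b ∈ (T : Subgroup G), a * b = b * a := by
    intro a ha b hb
    have hle : ∀ c ∈ (T : Subgroup G), c ∈ Subgroup.centralizer ({((z : (T : Subgroup G)) : G)} : Set G) := fun c hc =>
      Subgroup.mem_centralizer_singleton_iff.2 (congrArg Subtype.val (Subgroup.mem_center_iff.1 z.2 ⟨c, hc⟩))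
    haveI := (hC _ hz).1
    exact congrArg Subtype.val (mul_comm' (⟨a, hle a ha⟩ : Subgroup.centralizer ({((z : (T : Subgroup G)) : G)} : Set G)) ⟨b, hle b hb⟩)
  -- a centraliser of an involution of `T` is `T`
  have hCT : ∀ t ∈ (T : Subgroup G), orderOf t = 2 → Subgroup.centralizer ({t} : Set G) = T := by
    intro t ht ho
    refine T.is_maximal' (fun c => ⟨1, Subtype.ext ?_⟩) fun c hc => ?_
    · simpa using (hC t ho).2 c c.2
    · exact Subgroup.mem_centralizer_singleton_iff.2 (hTab c hc t ht)
  have hmemT : ∀ t ∈ Subgroup.normalizer (T : Set G), orderOf t = 2 → t ∈ (T : Subgroup G) := by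
    intro t ht ho
    have hp : IsPGroup 2 (Subgroup.zpowers t) := IsPGroup.of_card (n := 1) (by rw [Nat.card_zpowers, ho, pow_one])
    have h1 := T.is_maximal' (IsPGroup.to_sup_of_normal_right' hp T.isPGroup' (Subgroup.zpowers_le.2 ht)) le_sup_right
    exact h1 ▸ Subgroup.mem_sup_left (Subgroup.mem_zpowers _)
  refine CfsgLib.Invol.stronglyEmbedded_of_forall (fun h => hnn (Subgroup.normalizer_eq_top_iff.1 h))
    (even_iff_two_dvd.2 ((T.dvd_card_of_dvd_card (hz ▸ orderOf_dvd_natCard _)).trans (Subgroup.card_dvd_of_le Subgroup.le_normalizer)))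
    fun t ht ho g hg => ?_
  have htT := hmemT t ht ho
  have ho' : orderOf (g * t * g⁻¹) = 2 := by rw [CfsgLib.Invol.orderOf_conj, ho]
  have hT' := hmemT _ hg ho'
  have hiff : ∀ x : G, x ∈ (T : Subgroup G) ↔ g * x * g⁻¹ ∈ (T : Subgroup G) := by
    intro x
    conv_lhs => rw [← hCT t htT ho]
    conv_rhs => rw [← hCT _ hT' ho']
    rw [Subgroup.mem_centralizer_singleton_iff, Subgroup.mem_centralizer_singleton_iff]
    constructor
    · intro h
      calc g * x * g⁻¹ * (g * t * g⁻¹) = g * (x * t) * g⁻¹ := by group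
        _ = _ := by rw [h]; group
    · intro h
      have h' : g * (x * t) * g⁻¹ = g * (t * x) * g⁻¹ := by
        calc g * (x * t) * g⁻¹ = g * x * g⁻¹ * (g * t * g⁻¹) := by group
          _ = _ := by rw [h]; group
      exact mul_left_cancel (mul_right_cancel h')
  exact Subgroup.mem_normalizer_iff.2 hiff

end Cfsg.Agent.S1226
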