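import Cfsg.Statements.S3979
import Cfsg.Agent.Schur.Basic

set_option autoImplicit false
open Cfsg

namespace Cfsg.Agent.S3979

/-- A finite cyclic group has trivial Schur multiplier: every finite stem extension of it is an isomorphism, said through `HasCyclicSchurMultiplier G 1`. -/
theorem result {G : Type*} [Group G] [Finite G] [IsCyclic G] : Cfsg.HasCyclicSchurMultiplier G 1 := by
  refine CfsgLib.Schur.hasTrivial_of fun Γ _ _ σ hσ => ?_
  have : IsMulCommutative Γ := ⟨⟨commutative_of_cyclic_center_quotient σ hσ.2.1⟩⟩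
  rw [eq_bot_iff]
  intro x hx
  have := hσ.2.2 hx
  rwa [(commutator_eq_bot_iff Γ).2 ‹_›] at this

end Cfsg.Agent.S3979
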