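import Cfsg.Statements.S0192
import Cfsg.Agent.CharBasics.Ortho

set_option autoImplicit false
open Cfsg CfsgLib.CharBasics

namespace Cfsg.Agent.S0192

theorem fixed_dim {K V : Type*} [Group K] [Fintype K] [AddCommGroup V] [Module ℂ V] [FiniteDimensional ℂ V]
    (ρ : Representation ℂ K V) :
    (Cfsg.classInner ρ.character (fun _ => 1)).re = Module.finrank ℂ ρ.invariants := by
  haveI : Invertible (Fintype.card K : ℂ) := invertibleOfNonzero (Nat.cast_ne_zero.2 Fintype.card_ne_zero)
  have hp := Representation.isProj_averageMap ρ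
  have h := hp.trace
  have h2 : Cfsg.classInner ρ.character (fun _ => 1) = LinearMap.trace ℂ V ρ.averageMap := by
    rw [classInner_one]
    simp [Representation.averageMap, GroupAlgebra.average, map_sum, Representation.character, invOf_eq_inv,
      Finset.smul_sum, Finset.mul_sum, Nat.card_eq_fintype_card]
  rw [h2, h]; simp



/-- Brauer's generation criterion. Let G be a finite simple group, H₁ and H₂ subgroups, and χ a non-principal irreducible character. If the multiplicity of the principal character in χ restricted to H₁ ⊓ H₂ is less than the sum of the corresponding multiplicities for H₁ and H₂, then H₁ and H₂ do not generate G. -/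
theorem result {G : Type*} [Group G] [Fintype G] [IsSimpleGroup G] (H₁ H₂ : Subgroup G) [Fintype H₁] [Fintype H₂] [Fintype ↥(H₁ ⊓ H₂)] (χ : G → ℂ) (hχ : Cfsg.IsIrrCharacter G χ) (hχ1 : χ ≠ fun _ => 1) (hlt : (Cfsg.classInner (fun x : ↥(H₁ ⊓ H₂) => χ x) (fun _ => 1)).re < (Cfsg.classInner (fun x : H₁ => χ x) (fun _ => 1)).re + (Cfsg.classInner (fun x : H₂ => χ x) (fun _ => 1)).re) : H₁ ⊔ H₂ ≠ ⊤ := by
  intro htop
  obtain ⟨n, ρ, hirr, rfl⟩ := hχ
  let r : ∀ K : Subgroup G, Representation ℂ K (Fin n → ℂ) := fun K => ρ.comp K.subtype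
  have hc : ∀ (K : Subgroup G) [Fintype K], (fun x : K => ρ.character x) = (r K).character := fun K _ => rfl
  rw [hc, hc, hc, fixed_dim, fixed_dim, fixed_dim] at hlt
  have hlt' : Module.finrank ℂ (r (H₁ ⊓ H₂)).invariants <
      Module.finrank ℂ (r H₁).invariants + Module.finrank ℂ (r H₂).invariants := by exact_mod_cast hlt
  have hmono : ∀ {A B : Subgroup G}, A ≤ B → (r B).invariants ≤ (r A).invariants := fun hle v hv a =>
    hv ⟨a, hle a.2⟩
  have h3 := Submodule.finrank_sup_add_finrank_inf_eq (r H₁).invariants (r H₂).invariants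
  have h4 : Module.finrank ℂ ↥((r H₁).invariants ⊔ (r H₂).invariants) ≤
      Module.finrank ℂ (r (H₁ ⊓ H₂)).invariants :=
    Submodule.finrank_mono (sup_le (hmono inf_le_left) (hmono inf_le_right))
  have h5 : 0 < Module.finrank ℂ ↥((r H₁).invariants ⊓ (r H₂).invariants) := by omega
  let U : Submodule ℂ (Fin n → ℂ) := (r H₁).invariants ⊓ (r H₂).invariants
  have hfix : ∀ g : G, ∀ v ∈ U, ρ g v = v := by
    intro g v hv
    have hle : H₁ ⊔ H₂ ≤
        { carrier := {g | ρ g v = v}
          one_mem' := by simp
          mul_mem' := fun {a b} ha hb => by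
            show ρ (a * b) v = v
            rw [map_mul, Module.End.mul_apply, hb, ha]
          inv_mem' := fun {a} ha => by
            show ρ a⁻¹ v = v
            conv_lhs => rw [← (show ρ a v = v from ha)]
            rw [← Module.End.mul_apply, ← map_mul, inv_mul_cancel, map_one, Module.End.one_apply] } :=
      sup_le (fun a ha => hv.1 ⟨a, ha⟩) (fun a ha => hv.2 ⟨a, ha⟩)
    rw [htop] at hle
    exact hle (Subgroup.mem_top g)
  let S : Subrepresentation ρ := ⟨U, fun g v hv => by rw [hfix g v hv]; exact hv⟩
  have hU : U = ⊤ := by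
    rcases hirr.eq_bot_or_eq_top S with h | h
    · have hb : U = ⊥ := congrArg Subrepresentation.toSubmodule h
      exfalso
      rw [show (r H₁).invariants ⊓ (r H₂).invariants = ⊥ from hb, finrank_bot] at h5
      exact lt_irrefl 0 h5
    · exact congrArg Subrepresentation.toSubmodule h
  have hconst : ∀ g : G, ρ.character g = n := fun g => by
    have : ρ g = LinearMap.id := LinearMap.ext fun v => hfix g v (hU ▸ Submodule.mem_top)
    rw [Representation.character, this, LinearMap.trace_id, Module.finrank_fin_fun]
  have h1 := classInner_self (χ := ρ.character) ⟨n, ρ, hirr, rfl⟩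
  simp only [classInner_eq, hconst, Complex.conj_natCast, Finset.sum_const, Finset.card_univ, nsmul_eq_mul,
    ← Nat.card_eq_fintype_card] at h1
  rw [inv_mul_cancel_left₀ (Nat.cast_ne_zero.2 Nat.card_pos.ne')] at h1
  have hn : n = 1 := Nat.eq_one_of_mul_eq_one_right (m := n) (by exact_mod_cast h1)
  exact hχ1 (funext fun g => by rw [hconst, hn, Nat.cast_one])

end Cfsg.Agent.S0192
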