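import Cfsg.Statements.S4355
import Cfsg.Agent.FusionCamina.Group
-- import your own Cfsg.Agent.* helpers here

set_option autoImplicit false
open Cfsg

namespace Cfsg.Agent.S4355

/-- If every element of 2-power order of a finite group has a conjugacy class of odd size, then the Sylow 2-subgroups of the group are abelian. -/
theorem result {G : Type*} [Group G] [Finite G]
    (h : ∀ x : G, (∃ k : ℕ, orderOf x = 2 ^ k) → ¬ 2 ∣ (Subgroup.centralizer ({x} : Set G)).index) (P : Sylow 2 G) :
    IsMulCommutative P := by
  haveI : Fact (Nat.Prime 2) := ⟨Nat.prime_two⟩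
  refine ⟨⟨fun a b => Subtype.ext (CfsgLib.FusionCamina.group_main P (fun x hx => ?_) a a.2 b b.2)⟩⟩
  set C := Subgroup.centralizer ({x} : Set G) with hC
  obtain ⟨R⟩ : Nonempty (Sylow 2 C) := inferInstance
  refine ⟨Sylow.ofCard ((R : Subgroup C).map C.subtype) ?_, ?_⟩
  · rw [Subgroup.card_map_of_injective C.subtype_injective, R.card_eq_multiplicity,
      ← Subgroup.card_mul_index C, Nat.factorization_mul Nat.card_pos.ne' Subgroup.index_ne_zero_of_finite,
      Finsupp.add_apply, Nat.factorization_eq_zero_of_not_dvd (h x hx), add_zero]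
  · rw [Sylow.coe_ofCard]
    exact Subgroup.map_subtype_le _


end Cfsg.Agent.S4355
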