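import Cfsg.Statements.S3966
import Cfsg.Agent.Schur.Basic

set_option autoImplicit false
open Cfsg

namespace Cfsg.Agent.S3966

/-- The map forgetting the sign. -/
def toDihedralFun (n : ℕ) : QuaternionGroup n → DihedralGroup n
  | .a i => .r (ZMod.castHom (dvd_mul_left n 2) (ZMod n) i)
  | .xa i => .sr (ZMod.castHom (dvd_mul_left n 2) (ZMod n) i)

/-- The covering map of the dihedral group by the dicyclic group. -/
def toDihedral (n : ℕ) : QuaternionGroup n →* DihedralGroup n :=
  MonoidHom.mk' (toDihedralFun n) fun x y => by
    rcases x with i | i <;> rcases y with j | j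
    · simp [toDihedralFun, map_add]
    · simp [toDihedralFun, map_sub]
    · simp [toDihedralFun, map_add]
    · simp [toDihedralFun, map_sub, map_add, map_natCast]

theorem toDihedral_surjective (n : ℕ) : Function.Surjective (toDihedral n) := fun g => by
  rcases g with i | i <;> obtain ⟨j, rfl⟩ := ZMod.castHom_surjective (dvd_mul_left n 2) i
  · exact ⟨.a j, rfl⟩
  · exact ⟨.xa j, rfl⟩

theorem card_ker (n : ℕ) [NeZero n] : Nat.card (toDihedral n).ker = 2 := by
  have h := (toDihedral n).ker.card_mul_index
  rw [Subgroup.index_ker, MonoidHom.range_eq_top.2 (toDihedral_surjective n), Subgroup.card_top,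
    Nat.card_eq_fintype_card (α := QuaternionGroup n), QuaternionGroup.card, DihedralGroup.nat_card] at h
  have : 0 < n := Nat.pos_of_ne_zero (NeZero.ne n)
  exact Nat.eq_of_mul_eq_mul_right (show 0 < 2 * n by omega) (by omega)

theorem toDihedral_stem (n : ℕ) [NeZero n] (hn : Even n) : Cfsg.IsStemExtension (toDihedral n) := by
  obtain ⟨m, hm⟩ := hn
  have key : ∀ x ∈ (toDihedral n).ker, ∃ s : ZMod (2 * n), x = .a (2 * s) ∧ 2 * (2 * s) = 0 := by
    intro x hx
    rcases x with i | i
    · have hi : ZMod.castHom (dvd_mul_left n 2) (ZMod n) i = 0 :=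
        DihedralGroup.r.inj (MonoidHom.mem_ker.1 hx)
      rw [← ZMod.natCast_zmod_val i, map_natCast, ZMod.natCast_eq_zero_iff] at hi
      obtain ⟨t, ht⟩ := hi
      refine ⟨(m * t : ℕ), ?_, ?_⟩
      · congr 1
        rw [← ZMod.natCast_zmod_val i, ht, hm]
        push_cast
        ring
      · rw [show (2 : ZMod (2 * n)) * (2 * ((m * t : ℕ) : ZMod (2 * n))) = ((2 * n * t : ℕ) : ZMod (2 * n)) by
          rw [hm]; push_cast; ring]
        rw [ZMod.natCast_eq_zero_iff]
        exact Dvd.intro t rfl
    · exact absurd (MonoidHom.mem_ker.1 hx) (by simp [toDihedral, toDihedralFun, ← DihedralGroup.r_zero])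
  refine ⟨toDihedral_surjective n, fun x hx => ?_, fun x hx => ?_⟩
  · obtain ⟨s, rfl, hs⟩ := key x hx
    refine Subgroup.mem_center_iff.2 fun g => ?_
    rcases g with i | i
    · simp [add_comm]
    · simp only [QuaternionGroup.xa_mul_a, QuaternionGroup.a_mul_xa]
      congr 1
      linear_combination hs
  · obtain ⟨s, rfl, -⟩ := key x hx
    rw [commutator_def]
    have h := Subgroup.commutator_mem_commutator (H₁ := (⊤ : Subgroup (QuaternionGroup n))) (H₂ := ⊤)
      (Subgroup.mem_top (QuaternionGroup.xa 0)) (Subgroup.mem_top (QuaternionGroup.a (-s)))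
    convert h using 1
    rw [commutatorElement_def]
    change _ = QuaternionGroup.xa 0 * QuaternionGroup.a (-s) * QuaternionGroup.xa _ * QuaternionGroup.a _
    simp only [QuaternionGroup.xa_mul_a, QuaternionGroup.xa_mul_xa, QuaternionGroup.a_mul_a]
    congr 1
    have : ((2 * n : ℕ) : ZMod (2 * n)) = 0 := ZMod.natCast_self _
    push_cast at this
    linear_combination (-1 : ZMod (2 * n)) * this


/-- For even `n ≥ 2` the dicyclic group of order `4 n` is a stem extension of the dihedral group of order `2 n` with kernel of order `2`: there is a surjective homomorphism `QuaternionGroup n →* DihedralGroup n` whose kernel is central, lies in the commutator subgroup and has two elements. Together with the order of the multiplier this exhibits the dicyclic group as a Schur covering group of the dihedral group. -/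
theorem result (n : ℕ) [NeZero n] (hn : Even n) : ∃ σ : QuaternionGroup n →* DihedralGroup n, Cfsg.IsStemExtension σ ∧ Nat.card σ.ker = 2 := by
  exact ⟨toDihedral n, toDihedral_stem n hn, card_ker n⟩

end Cfsg.Agent.S3966
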