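import Cfsg.Statements.S4218
import Mathlib.Tactic
import Cfsg.Agent.Components.Cores
import Cfsg.Agent.PCore.PConstrained
import Cfsg.Agent.PCore.Descent
import Cfsg.Agent.CoprimeAction.Basic
import Cfsg.Agent.SolvStruct.FrattiniAux

set_option autoImplicit false
open Cfsg
open scoped commutatorElement

namespace Cfsg.Agent.S4218

section
variable {G : Type*} [Group G] [Finite G] {p : ℕ} [hp : Fact p.Prime]

theorem map_frattini {A B : Type*} [Group A] [Group B] (e : A ≃* B) :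
    (frattini A).map e.toMonoidHom = frattini B :=
  OrderIso.map_radical e.mapSubgroup

theorem frattini_kernel_le {Q : Type*} [Group Q] [Finite Q] {R : Subgroup Q} [hRn : R.Normal]
    (hR : IsPGroup p R) (hC : Subgroup.centralizer (R : Set Q) ≤ R)
    (hmax : ∀ D : Subgroup Q, D.Normal → IsPGroup p D → D ≤ R) {x : Q}
    (hx : ∀ r ∈ R, x * r * x⁻¹ * r⁻¹ ∈ (frattini R).map R.subtype) : x ∈ R := by
  have hΦn : ((frattini R).map R.subtype).Normal :=
    CfsgLib.Components.map_subtype_normal hRn (frattini R)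
  set Φ := (frattini R).map R.subtype with hΦ
  let D : Subgroup Q :=
    { carrier := {y | ∀ r ∈ R, y * r * y⁻¹ * r⁻¹ ∈ Φ}
      one_mem' := fun r _ => by simp
      mul_mem' := fun {a b} ha hb r hr => by
        have e : a * b * r * (a * b)⁻¹ * r⁻¹ =
            (a * (b * r * b⁻¹) * a⁻¹ * (b * r * b⁻¹)⁻¹) * (b * r * b⁻¹ * r⁻¹) := by group
        rw [e]
        exact Φ.mul_mem (ha _ (hRn.conj_mem r hr b)) (hb r hr)
      inv_mem' := fun {a} ha r hr => by
        have e : a⁻¹ * r * a⁻¹⁻¹ * r⁻¹ = ((a * (a⁻¹ * r * a) * a⁻¹) * (a⁻¹ * r * a)⁻¹)⁻¹ := by group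
        rw [e]
        exact Φ.inv_mem (ha _ (by simpa using hRn.conj_mem r hr a⁻¹)) }
  have hDn : D.Normal := ⟨fun a ha c r hr => by
    have e : c * a * c⁻¹ * r * (c * a * c⁻¹)⁻¹ * r⁻¹ =
        c * (a * (c⁻¹ * r * c) * a⁻¹ * (c⁻¹ * r * c)⁻¹) * c⁻¹ := by group
    rw [e]
    exact hΦn.conj_mem _ (ha _ (by simpa using hRn.conj_mem r hr c⁻¹)) c⟩
  refine hmax D hDn (CfsgLib.PCore.isPGroup_of_forall_coprime D fun y hy hyc => ?_) (show x ∈ D from hx)
  obtain ⟨n, hn⟩ := IsPGroup.iff_card.1 (hR.to_subgroup (frattini R))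
  have h := CfsgLib.CoprimeAction.le_centralizer_of_frattini (A := Subgroup.zpowers y) (K := R)
    (by rw [Nat.card_zpowers, hn]; exact hyc.pow_right n)
    (fun a ha k hk => (Subgroup.zpowers_le.2 hy ha) k hk)
  have hyR := hC (h (Subgroup.mem_zpowers y))
  obtain ⟨m, hm⟩ := IsPGroup.iff_card.1 hR
  rw [← orderOf_eq_one_iff]
  exact Nat.eq_one_of_dvd_coprimes (hyc.pow_right m) dvd_rfl (hm ▸ Subgroup.orderOf_dvd_natCard _ hyR)

end

/-- Let `G` be a finite `p`-solvable group, `N₀ = O_{p'}(G)`, `P₁ = O_{p',p}(G)`, and let `F ≤ P₁` be the preimage of the Frattini subgroup of `P₁/N₀`. Then an element `g` of `G` induces the identity on `P₁/F` by conjugation (that is, `g x g⁻¹ x⁻¹ ∈ F` for all `x ∈ P₁`) if and only if `g ∈ P₁`: the group `G/P₁` acts faithfully on `P₁/F`. -/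
theorem result {G : Type*} [Group G] [Finite G] {p : ℕ} [Fact p.Prime] (hG : Cfsg.IsPSolvable p G) (g : G) : (∀ x ∈ Cfsg.pPrimePCore p G, g * x * g⁻¹ * x⁻¹ ∈ ((frattini (↥(Cfsg.pPrimePCore p G) ⧸ (Cfsg.pPrimeCore p G).subgroupOf (Cfsg.pPrimePCore p G))).comap (QuotientGroup.mk' ((Cfsg.pPrimeCore p G).subgroupOf (Cfsg.pPrimePCore p G)))).map (Cfsg.pPrimePCore p G).subtype) ↔ g ∈ Cfsg.pPrimePCore p G := by
  set N₀ := Cfsg.pPrimeCore p G with hN₀
  have : (Cfsg.pPrimeCore p G).Normal := Subgroup.sSup_normal _ fun _ h => h.1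
  set P₁ := Cfsg.pPrimePCore p G with hP₁
  set R := Cfsg.pCore p (G ⧸ N₀) with hR
  have hRn : R.Normal := Subgroup.sSup_normal _ fun _ h => h.1
  let f₀ : ↥P₁ →* ↥R := ((QuotientGroup.mk' N₀).comp P₁.subtype).codRestrict R (fun y => y.2)
  have hf₀ : Function.Surjective f₀ := by
    rintro ⟨r, hr⟩
    obtain ⟨y, rfl⟩ := QuotientGroup.mk'_surjective N₀ r
    exact ⟨⟨y, hr⟩, rfl⟩
  have hk : f₀.ker = N₀.subgroupOf P₁ := by
    ext y
    rw [MonoidHom.mem_ker, Subgroup.mem_subgroupOf, Subtype.ext_iff]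
    exact QuotientGroup.eq_one_iff (y : G)
  let e : ↥P₁ ⧸ N₀.subgroupOf P₁ ≃* ↥R :=
    (QuotientGroup.quotientMulEquivOfEq hk.symm).trans (QuotientGroup.quotientKerEquivOfSurjective f₀ hf₀)
  set F := ((frattini (↥P₁ ⧸ N₀.subgroupOf P₁)).comap (QuotientGroup.mk' (N₀.subgroupOf P₁))).map P₁.subtype
  have he : ∀ z : ↥P₁, e (QuotientGroup.mk' _ z) = f₀ z := fun z => rfl
  have hF : ∀ z ∈ P₁, z ∈ F ↔ QuotientGroup.mk' N₀ z ∈ (frattini R).map R.subtype := by
    intro z hz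
    rw [← map_frattini e]
    constructor
    · rintro ⟨w, hw, rfl⟩
      exact ⟨f₀ w, ⟨_, hw, he w⟩, rfl⟩
    · rintro ⟨_, ⟨w, hw, rfl⟩, hwz⟩
      refine ⟨⟨z, hz⟩, ?_, rfl⟩
      show QuotientGroup.mk' (N₀.subgroupOf P₁) (⟨z, hz⟩ : ↥P₁) ∈ frattini (↥P₁ ⧸ N₀.subgroupOf P₁)
      have : e (QuotientGroup.mk' _ (⟨z, hz⟩ : ↥P₁)) = e w := Subtype.ext hwz.symm
      rw [e.injective this]
      exact hw
  have hPn := CfsgLib.PCore.pPrimePCore_normal p G
  constructor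
  · intro h
    refine frattini_kernel_le (x := QuotientGroup.mk' N₀ g) (CfsgLib.PCore.isPGroup_pCore p _) ?_
      (fun D hD hDp => CfsgLib.PCore.le_pCore hD hDp) ?_
    · exact CfsgLib.PCore.isPConstrained_iff.1 (CfsgLib.PCore.isPConstrained_of_isPSolvable hG)
    · intro r hr
      obtain ⟨y, rfl⟩ := QuotientGroup.mk'_surjective N₀ r
      rw [← map_inv, ← map_inv, ← map_mul, ← map_mul, ← map_mul]
      refine (hF _ ?_).1 (h y hr)
      exact P₁.mul_mem (hPn.conj_mem y hr g) (P₁.inv_mem hr)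
  · intro hg x hx
    refine (hF _ (P₁.mul_mem (hPn.conj_mem x hx g) (P₁.inv_mem hx))).2 ?_
    have hnil : Group.IsNilpotent R := (CfsgLib.PCore.isPGroup_pCore p (G ⧸ N₀)).isNilpotent
    exact ⟨⁅f₀ ⟨g, hg⟩, f₀ ⟨x, hx⟩⁆, CfsgLib.SolvStruct.commutator_le_frattini
      (Subgroup.commutator_mem_commutator trivial trivial), rfl⟩

end Cfsg.Agent.S4218
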