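import Cfsg.Statements.S5283
import Cfsg.Agent.Fusion.Supersoluble
-- import your own Cfsg.Agent.* helpers here

set_option autoImplicit false
open Cfsg

namespace Cfsg.Agent.S5283

open CfsgLib.Fusion Cfsg.FusionSystem

/-- Call a saturated fusion system F over a finite p-group S supersoluble when S has a chain of subgroups 1 = S_0 ≤ S_1 ≤ … ≤ S_m = S, each strongly closed in F, with each S_{i+1} generated by S_i together with one further element (cyclic steps). Then every saturated fusion system over S is supersoluble if and only if S is normal in every saturated fusion system over S (S is resistant) and every subgroup of Aut(S) of order prime to p is abelian of exponent dividing p − 1. -/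
theorem result {Ω : Type*} [Group Ω] {S : Subgroup Ω} [Finite S] (p : ℕ) [Fact p.Prime] (hS : IsPGroup p ↥S) : (∀ F : Cfsg.FusionSystem S, F.IsSaturated p → (∃ (m : ℕ) (c : Fin (m + 1) → Subgroup Ω), c 0 = ⊥ ∧ c (Fin.last m) = S ∧ (∀ i : Fin (m + 1), F.StronglyClosed (c i)) ∧ ∀ i : Fin m, c i.castSucc ≤ c i.succ ∧ ∃ x ∈ S, c i.succ = c i.castSucc ⊔ Subgroup.zpowers x)) ↔ (∀ F : Cfsg.FusionSystem S, F.IsSaturated p → F.IsNormal S) ∧ ∀ H : Subgroup (MulAut ↥S), (Nat.card ↥H).Coprime p → IsMulCommutative ↥H ∧ ∀ h ∈ H, h ^ (p - 1) = 1 := by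
    refine ⟨fun h => ⟨fun F hF => ?_, fun H hH => ?_⟩, fun h F hF => exists_cyclic_chain hS hF (h.1 F hF) h.2⟩
    · obtain ⟨m, c, h0, hm, hcl, hst⟩ := h F hF
      refine isNormal_of_cyclic_chain hS hF (m := m) (fun i => c ⟨min i m, by omega⟩)
        (monotone_nat_of_le_succ fun i => ?_) ?_ ?_ (fun i => hcl _) fun i hi => ?_
      · rcases Nat.lt_or_ge i m with hi | hi
        · have := (hst ⟨i, hi⟩).1
          convert this using 2 <;> simp [Fin.ext_iff] <;> omega
        · simp [Nat.min_eq_right hi, Nat.min_eq_right (hi.trans (Nat.le_succ i))]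
      · simpa using h0
      · simp only [min_self]
        exact hm.ge
      · obtain ⟨x, hx, e⟩ := (hst ⟨i, hi⟩).2
        refine ⟨x, hx, ?_⟩
        convert e using 3 <;> simp [Fin.ext_iff] <;> omega
    · haveI := finite_mulAut (S := S) le_rfl
      haveI : (Cfsg.Inn S).Normal := inn_normal
      have hi : ¬ p ∣ (Cfsg.Inn S).relIndex (Cfsg.Inn S ⊔ H) := by
        rw [Subgroup.relIndex_sup_left]
        intro hd
        exact (Fact.out : p.Prime).one_lt.ne' (Nat.eq_one_of_dvd_coprimes hH
          (hd.trans (Subgroup.relIndex_dvd_card _ _)) dvd_rfl)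
      set F := restrictionSystem (Cfsg.Inn S ⊔ H) le_sup_left
      have hF : F.IsSaturated p := isSaturated_restrictionSystem hS hi
      obtain ⟨m, c, h0, hm, hcl, hst⟩ := h F hF
      refine abelian_of_cyclic_chain hS (m := m) (fun i => c ⟨min i m, by omega⟩)
        (monotone_nat_of_le_succ fun i => ?_) ?_ ?_ (fun i _ => (hcl _).1)
        (fun i _ => le_normalizer_of_weaklyClosed_fusion (weaklyClosed_of_stronglyClosed (hcl _)))
        (fun i hi => ?_) H hH fun α hα i _ x hx => ?_
      · rcases Nat.lt_or_ge i m with hi | hi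
        · have := (hst ⟨i, hi⟩).1
          convert this using 2 <;> simp [Fin.ext_iff] <;> omega
        · simp [Nat.min_eq_right hi, Nat.min_eq_right (hi.trans (Nat.le_succ i))]
      · simpa using h0
      · simp only [min_self]
        exact hm.ge
      · obtain ⟨x, hx, e⟩ := (hst ⟨i, hi⟩).2
        refine ⟨x, hx, ?_⟩
        convert e using 3 <;> simp [Fin.ext_iff] <;> omega
      · exact mem_of_weaklyClosed_aut (weaklyClosed_of_stronglyClosed (hcl _)) (hcl _).1 le_rfl
          (show α ∈ F.autGroup S by rw [autGroup_restrictionSystem_self]; exact Subgroup.mem_sup_right hα) hx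

end Cfsg.Agent.S5283
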