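import Cfsg.Statements.S4207


set_option autoImplicit false
open Cfsg

namespace Cfsg.Agent.S4207

/-- A `p`-group whose Frattini quotient has order `p ^ r` is generated by `r` elements. -/
theorem exists_generators {P : Type*} [Group P] [Finite P] {p r : ℕ} [hp : Fact p.Prime]
    (hG : IsPGroup p P) (hr : (frattini P).index = p ^ r) :
    ∃ t : Fin r → P, Subgroup.closure (Set.range t) = ⊤ := by
  have key : ∀ i, i ≤ r → ∃ t : Fin i → P,
      frattini P ⊔ Subgroup.closure (Set.range t) = ⊤ ∨
        Nat.card (frattini P) * p ^ i ≤ Nat.card ↥(frattini P ⊔ Subgroup.closure (Set.range t)) := by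
    intro i
    induction i with
    | zero => exact fun _ => ⟨Fin.elim0, Or.inr (by simp)⟩
    | succ i ih =>
      intro hi
      obtain ⟨t, h | h⟩ := ih (Nat.le_of_succ_le hi)
      · refine ⟨Fin.cons 1 t, Or.inl (top_le_iff.mp (h.ge.trans (sup_le_sup_left ?_ _)))⟩
        exact Subgroup.closure_mono (by rw [Fin.range_cons]; exact Set.subset_insert _ _)
      · set K := frattini P ⊔ Subgroup.closure (Set.range t) with hK
        by_cases hKt : K = ⊤
        · refine ⟨Fin.cons 1 t, Or.inl (top_le_iff.mp (hKt.ge.trans (sup_le_sup_left ?_ _)))⟩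
          exact Subgroup.closure_mono (by rw [Fin.range_cons]; exact Set.subset_insert _ _)
        obtain ⟨x, hx⟩ : ∃ x, x ∉ K := by
          by_contra hc
          push Not at hc
          exact hKt ((Subgroup.eq_top_iff' K).mpr hc)
        refine ⟨Fin.cons x t, Or.inr ?_⟩
        set K' := frattini P ⊔ Subgroup.closure (Set.range (Fin.cons x t)) with hK'
        have hle : K ≤ K' :=
          sup_le_sup_left (Subgroup.closure_mono (by rw [Fin.range_cons]; exact Set.subset_insert _ _)) _
        have hxK' : x ∈ K' :=
          Subgroup.mem_sup_right (Subgroup.subset_closure ⟨0, Fin.cons_zero _ _⟩)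
        obtain ⟨a, ha⟩ := IsPGroup.iff_card.mp (hG.to_subgroup K)
        obtain ⟨b, hb⟩ := IsPGroup.iff_card.mp (hG.to_subgroup K')
        have hlt : Nat.card K < Nat.card K' := by
          by_contra hc
          exact hx (Subgroup.eq_of_le_of_card_ge hle (not_lt.mp hc) ▸ hxK')
        rw [ha, hb, Nat.pow_lt_pow_iff_right hp.out.one_lt] at hlt
        rw [pow_succ, ← mul_assoc, hb]
        refine (Nat.mul_le_mul_right p h).trans ?_
        rw [ha, ← pow_succ]
        exact Nat.pow_le_pow_right hp.out.pos hlt
  obtain ⟨t, h | h⟩ := key r le_rfl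
  · exact ⟨t, frattini_nongenerating (by rwa [sup_comm] at h)⟩
  · refine ⟨t, frattini_nongenerating ?_⟩
    rw [sup_comm]
    refine Subgroup.eq_top_of_le_card _ ?_
    rw [← hr, (frattini P).card_mul_index] at h
    exact h

/-- A group of automorphisms inducing the identity on the Frattini quotient acts freely on the
lifts of a generating tuple. -/
theorem card_dvd_pow_of_stability {P : Type*} [Group P] [Finite P] {r : ℕ} (t : Fin r → P)
    (ht : Subgroup.closure (Set.range t) = ⊤) (N : Subgroup P) (hN : N ≤ frattini P)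
    (A : Subgroup (MulAut P)) (hA : ∀ α ∈ A, ∀ x : P, α x * x⁻¹ ∈ N) :
    Nat.card A ∣ Nat.card N ^ r := by
  let Y := {y : Fin r → P // ∀ i, y i * (t i)⁻¹ ∈ N}
  letI : MulAction A Y :=
    { smul := fun α y => ⟨fun i => (α : MulAut P) (y.1 i), fun i => by
        have h1 := hA α α.2 (y.1 i)
        have e : (α : MulAut P) (y.1 i) * (t i)⁻¹ =
            ((α : MulAut P) (y.1 i) * (y.1 i)⁻¹) * (y.1 i * (t i)⁻¹) := by group
        rw [e]
        exact mul_mem h1 (y.2 i)⟩
      one_smul := fun y => Subtype.ext (funext fun i => rfl)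
      mul_smul := fun a b y => Subtype.ext (funext fun i => rfl) }
  have hfree : ∀ y : Y, MulAction.stabilizer A y = ⊥ := by
    intro y
    rw [Subgroup.eq_bot_iff_forall]
    intro α hα
    have h1 : ∀ i, (α : MulAut P) (y.1 i) = y.1 i := fun i =>
      congrFun (congrArg Subtype.val (MulAction.mem_stabilizer_iff.mp hα)) i
    have hy : Subgroup.closure (Set.range y.1) = ⊤ := by
      refine frattini_nongenerating (top_le_iff.mp ?_)
      rw [← ht, Subgroup.closure_le]
      rintro _ ⟨i, rfl⟩
      have e : t i = y.1 i * ((y.1 i)⁻¹ * t i) := by group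
      have h2 : y.1 i * (t i)⁻¹ ∈ frattini P := hN (y.2 i)
      have h3 : (y.1 i)⁻¹ * t i ∈ frattini P := by
        have := inv_mem h2
        have h4 := (inferInstance : (frattini P).Normal).conj_mem _ this (y.1 i)⁻¹
        convert h4 using 1
        group
      rw [SetLike.mem_coe, e]
      exact mul_mem (Subgroup.mem_sup_left (Subgroup.subset_closure ⟨i, rfl⟩)) (Subgroup.mem_sup_right h3)
    apply Subtype.ext
    refine MulEquiv.ext fun x => ?_
    have hx : x ∈ Subgroup.closure (Set.range y.1) := hy ▸ Subgroup.mem_top x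
    induction hx using Subgroup.closure_induction with
    | mem z hz => obtain ⟨i, rfl⟩ := hz; exact h1 i
    | one => simp
    | mul a b _ _ ha hb => rw [map_mul, map_mul, ha, hb]
    | inv a _ ha => rw [map_inv, map_inv, ha]
  have hcard : Nat.card Y = Nat.card N ^ r := by
    rw [Nat.card_congr (show Y ≃ (Fin r → N) from
      { toFun := fun y i => ⟨y.1 i * (t i)⁻¹, y.2 i⟩
        invFun := fun f => ⟨fun i => (f i : P) * t i, fun i => by rw [mul_inv_cancel_right]; exact (f i).2⟩
        left_inv := fun y => Subtype.ext (funext fun i => inv_mul_cancel_right _ _)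
        right_inv := fun f => funext fun i => Subtype.ext (mul_inv_cancel_right _ _) }),
      Nat.card_fun, Nat.card_fin]
  rw [← hcard, Nat.card_congr (MulAction.selfEquivOrbitsQuotientProd hfree), Nat.card_prod]
  exact dvd_mul_left _ _

/-- The order of the Frattini subgroup. -/
theorem card_frattini {P : Type*} [Group P] [Finite P] {p n r : ℕ} [hp : Fact p.Prime]
    (hP : Nat.card P = p ^ n) (hr : (frattini P).index = p ^ r) :
    Nat.card (frattini P) = p ^ (n - r) := by
  have h := (frattini P).card_mul_index
  rw [hP, hr] at h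
  have hle : r ≤ n := (Nat.pow_dvd_pow_iff_le_right hp.out.one_lt).mp ⟨_, h.symm.trans (mul_comm _ _)⟩
  refine Nat.eq_of_mul_eq_mul_right (pow_pos hp.out.pos r) (h.trans ?_)
  rw [← pow_add, Nat.sub_add_cancel hle]

/-- Let `P` be a group of order `p^n` whose Frattini subgroup has index `p^r`. Then any group of automorphisms of `P` each of which induces the identity on the Frattini quotient has order dividing `p^(r(n-r))`; in particular it is a `p`-group. -/
theorem result {P : Type*} [Group P] [Finite P] {p n r : ℕ} [Fact p.Prime] (hP : Nat.card P = p ^ n) (hr : (frattini P).index = p ^ r) (A : Subgroup (MulAut P)) (hA : ∀ α ∈ A, ∀ x : P, α x * x⁻¹ ∈ frattini P) : Nat.card A ∣ p ^ (r * (n - r)) := by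
  obtain ⟨t, ht⟩ := exists_generators (IsPGroup.of_card hP) hr
  have h := card_dvd_pow_of_stability t ht (frattini P) le_rfl A hA
  rwa [card_frattini hP hr, ← pow_mul, mul_comm] at h

end Cfsg.Agent.S4207
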