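import Cfsg.Statements.S4387
-- import your own Cfsg.Agent.* helpers here

set_option autoImplicit false
open Pointwise
open Cfsg

namespace Cfsg.Agent.S4387

open scoped Pointwise in
theorem exists_notMem_conj {G : Type*} [Group G] [Finite G] (M : Subgroup G) (hM : M ≠ ⊤) :
    ∃ g : G, ∀ a : G, g ∉ MulAut.conj a • M := by
  classical
  haveI := Fintype.ofFinite G
  by_contra hc
  push Not at hc
  have h1 := MulAction.sum_card_fixedBy_eq_card_orbits_mul_card_group G (G ⧸ M)
  haveI : Subsingleton (MulAction.orbitRel.Quotient G (G ⧸ M)) :=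
    ⟨fun a b => Quotient.inductionOn₂ a b fun x y => Quotient.sound (MulAction.exists_smul_eq G y x)⟩
  have h2 : Fintype.card (MulAction.orbitRel.Quotient G (G ⧸ M)) = 1 :=
    Fintype.card_eq_one_iff.2 ⟨Quotient.mk _ ((1 : G) : G ⧸ M), fun _ => Subsingleton.elim _ _⟩
  rw [h2, one_mul] at h1
  have h3 : ∑ g : G, (1 : ℕ) < ∑ g : G, Fintype.card (MulAction.fixedBy (G ⧸ M) g) := by
    refine Finset.sum_lt_sum (fun g _ => ?_) ⟨1, Finset.mem_univ _, ?_⟩
    · refine Fintype.card_pos_iff.2 ?_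
      obtain ⟨a, ha⟩ := hc g
      rw [Subgroup.mem_pointwise_smul_iff_inv_smul_mem] at ha
      refine ⟨⟨(a : G ⧸ M), ?_⟩⟩
      show g • (a : G ⧸ M) = a
      rw [MulAction.Quotient.smul_coe, QuotientGroup.eq]
      simp only [MulAut.smul_def, MulAut.conj_inv_apply] at ha
      simpa [mul_assoc] using M.inv_mem ha
    · haveI : Nontrivial (G ⧸ M) := QuotientGroup.nontrivial_iff.2 hM
      refine lt_of_lt_of_le (Fintype.one_lt_card (α := G ⧸ M)) (le_of_eq ?_)
      exact Fintype.card_congr (Equiv.subtypeUnivEquiv fun x => one_smul G x).symm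
  simp only [Finset.sum_const, Finset.card_univ, smul_eq_mul, mul_one] at h3
  convert h3.ne' using 0
  simpa using h1

/-- Let G be a non-trivial finite group in which any two maximal subgroups are conjugate. Then G is cyclic of prime-power order. -/
theorem result {G : Type*} [Group G] [Finite G] [Nontrivial G]
    (h : ∀ M N : Subgroup G, IsCoatom M → IsCoatom N → ∃ g : G, N = MulAut.conj g • M) :
    IsCyclic G ∧ IsPrimePow (Nat.card G) := by
  obtain ⟨M, hM, hMle⟩ : ∃ M : Subgroup G, IsCoatom M ∧ True := by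
    obtain h0 | ⟨M, hM, -⟩ := IsCoatomic.eq_top_or_exists_le_coatom (⊥ : Subgroup G)
    · exact absurd h0 bot_ne_top
    · exact ⟨M, hM, trivial⟩
  obtain ⟨g, hg⟩ := exists_notMem_conj M hM.1
  have hgen : Subgroup.zpowers g = ⊤ := by
    rcases IsCoatomic.eq_top_or_exists_le_coatom (Subgroup.zpowers g) with h0 | ⟨N, hN, hle⟩
    · exact h0
    · obtain ⟨a, ha⟩ := h M N hM hN
      refine absurd ?_ (hg a)
      rw [← ha]
      exact hle (Subgroup.mem_zpowers g)
  have hall : ∀ x : G, x ∈ Subgroup.zpowers g := fun x => hgen ▸ Subgroup.mem_top x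
  have hcyc : IsCyclic G := ⟨⟨g, fun x => hall x⟩⟩
  refine ⟨hcyc, ?_⟩
  have huniq : ∀ N : Subgroup G, IsCoatom N → N = M := by
    intro N hN
    obtain ⟨a, ha⟩ := h M N hM hN
    rw [ha]
    have : M.Normal := ⟨fun x hx y => by
      obtain ⟨i, rfl⟩ := Subgroup.mem_zpowers_iff.1 (hall x)
      obtain ⟨j, rfl⟩ := Subgroup.mem_zpowers_iff.1 (hall y)
      have : g ^ j * g ^ i * (g ^ j)⁻¹ = g ^ i := by group
      rw [this]; exact hx⟩
    ext y
    rw [Subgroup.mem_pointwise_smul_iff_inv_smul_mem, MulAut.smul_def, MulAut.conj_inv_apply]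
    refine ⟨fun hy => ?_, fun hy => ?_⟩
    · have := this.conj_mem _ hy a; simpa [mul_assoc] using this
    · have := this.conj_mem _ hy a⁻¹; simpa using this
  have key : ∀ q : ℕ, q.Prime → q ∣ Nat.card G → g ^ q ∈ M := by
    intro q hq hqd
    rcases IsCoatomic.eq_top_or_exists_le_coatom (Subgroup.zpowers (g ^ q)) with h0 | ⟨N, hN, hle⟩
    · exfalso
      have h1 : orderOf (g ^ q) = orderOf g := by
        rw [← Nat.card_zpowers, ← Nat.card_zpowers, h0, hgen]
      have h2 : orderOf g = Nat.card G := by rw [← Nat.card_zpowers, hgen, Subgroup.card_top]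
      rw [orderOf_pow_of_dvd hq.pos.ne' (h2.symm ▸ hqd)] at h1
      have := Nat.div_lt_self (orderOf_pos g) hq.one_lt
      omega
    · rw [← huniq N hN]
      exact hle (Subgroup.mem_zpowers _)
  rw [isPrimePow_iff_unique_prime_dvd]
  have hne : Nat.card G ≠ 1 := Finite.one_lt_card.ne'
  refine ⟨(Nat.card G).minFac, ⟨Nat.minFac_prime hne, Nat.minFac_dvd _⟩, ?_⟩
  rintro q ⟨hq, hqd⟩
  by_contra hne'
  have hp := Nat.minFac_prime hne
  have hco : Nat.Coprime q (Nat.card G).minFac := (Nat.coprime_primes hq hp).2 hne'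
  have e := Nat.gcd_eq_gcd_ab q (Nat.card G).minFac
  rw [hco.gcd_eq_one] at e
  have hgM : g ∈ M := by
    have : g = (g ^ q) ^ (Nat.gcdA q (Nat.card G).minFac) * (g ^ (Nat.card G).minFac) ^ (Nat.gcdB q (Nat.card G).minFac) := by
      rw [← zpow_natCast g q, ← zpow_natCast g (Nat.card G).minFac, ← zpow_mul, ← zpow_mul, ← zpow_add, ← e]
      simp
    rw [this]
    exact M.mul_mem (M.zpow_mem (key q hq hqd) _) (M.zpow_mem (key _ hp (Nat.minFac_dvd _)) _)
  exact hM.1 (eq_top_iff.2 (hgen ▸ Subgroup.zpowers_le.2 hgM))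

end Cfsg.Agent.S4387
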