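import Cfsg.Statements.S4035
import Cfsg.Agent.S4387
import Mathlib.GroupTheory.SchurZassenhaus
import Mathlib.GroupTheory.GroupAction.ConjAct
import Mathlib.GroupTheory.Sylow

set_option autoImplicit false
open Cfsg

namespace Cfsg.Agent.S4035

/-- Let G be a finite group and p a prime such that p divides the size of no conjugacy class of p-regular elements (elements of order prime to p). Then G is the internal direct product of a Sylow p-subgroup P and a normal subgroup H of order prime to p: P is normal, P ⊓ H = 1 and PH = G. -/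
theorem result {G : Type*} [Group G] [Finite G] {p : ℕ} [Fact p.Prime]
    (h : ∀ x : G, (orderOf x).Coprime p → ¬ p ∣ (ConjClasses.mk x).carrier.ncard) (P : Sylow p G) :
    (P : Subgroup G).Normal ∧ ∃ H : Subgroup G, H.Normal ∧ ¬ p ∣ Nat.card H ∧
      (P : Subgroup G) ⊓ H = ⊥ ∧ (P : Subgroup G) ⊔ H = ⊤ := by
  classical
  have hp : p.Prime := Fact.out
  -- each `p`-regular element centralises a Sylow subgroup
  have hidx : ∀ x : G, (orderOf x).Coprime p → ¬ p ∣ (Subgroup.centralizer ({x} : Set G)).index := by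
    intro x hx hd
    apply h x hx
    rw [← ConjAct.orbit_eq_carrier_conjClasses, ← MulAction.index_stabilizer, ConjAct.stabilizer_eq_centralizer]
    exact hd
  have hcen : ∀ x : G, (orderOf x).Coprime p → ∀ y : G, (∃ k, y ^ p ^ k = 1) → y * x = x * y →
      ∃ T : Sylow p G, y ∈ T ∧ ∀ t ∈ T, t * x = x * t := by
    intro x hx y hy hyx
    obtain ⟨k, hk⟩ := hy
    set C := Subgroup.centralizer ({x} : Set G) with hC
    have hyC : y ∈ C := Subgroup.mem_centralizer_singleton_iff.2 hyx
    obtain ⟨j, -, hj⟩ := (Nat.dvd_prime_pow hp).1 (orderOf_dvd_of_pow_eq_one hk)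
    have hyp : IsPGroup p (Subgroup.zpowers (⟨y, hyC⟩ : C)) :=
      IsPGroup.of_card (n := j) (by rw [Nat.card_zpowers, Subgroup.orderOf_mk, hj])
    obtain ⟨R, hR⟩ := hyp.exists_le_sylow
    obtain ⟨T, hT⟩ := (R.isPGroup'.map C.subtype).exists_le_sylow
    have hcard : Nat.card (T : Subgroup G) = Nat.card ((R : Subgroup C).map C.subtype) := by
      rw [Subgroup.card_map_of_injective Subtype.val_injective, Sylow.card_eq_multiplicity,
        Sylow.card_eq_multiplicity, ← C.card_mul_index, Nat.factorization_mul Nat.card_pos.ne' Subgroup.index_ne_zero_of_finite,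
        Finsupp.add_apply, Nat.factorization_eq_zero_of_not_dvd (hidx x hx), add_zero]
    have heq := Subgroup.eq_of_le_of_card_ge hT hcard.le
    refine ⟨T, ?_, fun t ht => ?_⟩
    · show y ∈ (T : Subgroup G)
      rw [← heq]
      exact ⟨⟨y, hyC⟩, hR (Subgroup.mem_zpowers _), rfl⟩
    rw [← SetLike.mem_coe, ← Sylow.coe_coe, ← heq] at ht
    obtain ⟨c, -, rfl⟩ := ht
    exact Subgroup.mem_centralizer_singleton_iff.1 c.2
  -- every element normalises a Sylow subgroup
  have hN : Subgroup.normalizer (P : Set G) = ⊤ := by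
    by_contra hne
    obtain ⟨g, hg⟩ := Cfsg.Agent.S4387.exists_notMem_conj _ hne
    set n := orderOf g
    set s := ordCompl[p] n with hs
    set q := ordProj[p] n with hq
    have hcop : q.Coprime s := (Nat.coprime_ordCompl hp (orderOf_pos g).ne').pow_left _
    obtain ⟨u, v, huv⟩ := Nat.isCoprime_iff_coprime.2 hcop
    set x := g ^ (u * (q : ℤ)) with hxdef
    set y := g ^ (v * (s : ℤ)) with hydef
    have hqs : q * s = n := Nat.ordProj_mul_ordCompl_eq_self n p
    have hone : ∀ w : ℤ, g ^ (w * ((q * s : ℕ) : ℤ)) = 1 := fun w => by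
      rw [hqs, mul_comm, zpow_mul, zpow_natCast, pow_orderOf_eq_one, one_zpow]
    have hx : (orderOf x).Coprime p := by
      have hd : orderOf x ∣ s := orderOf_dvd_of_pow_eq_one (by
        rw [hxdef, ← zpow_natCast, ← zpow_mul, mul_assoc, ← Nat.cast_mul]
        exact hone u)
      exact (Nat.coprime_ordCompl hp (orderOf_pos g).ne').symm.coprime_dvd_left hd
    have hy : ∃ k, y ^ p ^ k = 1 := ⟨n.factorization p, by
      rw [hydef, ← zpow_natCast, ← zpow_mul, mul_assoc, ← Nat.cast_mul, mul_comm s]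
      exact hone v⟩
    obtain ⟨T, hyT, hTx⟩ := hcen x hx y hy (by rw [hxdef, hydef, ← zpow_add, ← zpow_add, add_comm])
    have hgT : g ∈ Subgroup.normalizer (T : Set G) := by
      have hgxy : g = y * x := by rw [hxdef, hydef, ← zpow_add, add_comm, huv, zpow_one]
      have hxC : x ∈ Subgroup.normalizer (T : Set G) := by
        refine Subgroup.mem_normalizer_iff.2 ?_
        intro t
        constructor
        · intro ht
          have h1 : x * t * x⁻¹ = t := by rw [← hTx t ht, mul_inv_cancel_right]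
          rwa [h1]
        · intro ht
          have h1 := hTx _ ht
          have h2 : x * t * x⁻¹ = t := mul_left_cancel (a := x) (h1.symm.trans (by group))
          rwa [h2] at ht
      rw [hgxy]
      exact mul_mem (Subgroup.le_normalizer hyT) hxC
    obtain ⟨a, rfl⟩ := MulAction.exists_smul_eq G P T
    apply hg a
    rw [Subgroup.mem_pointwise_smul_iff_inv_smul_mem, MulAut.smul_def, MulAut.inv_apply, MulAut.conj_symm_apply]
    rw [← Sylow.smul_eq_iff_mem_normalizer] at hgT ⊢
    rw [mul_smul, mul_smul, hgT, inv_smul_smul]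
  have hPn : (P : Subgroup G).Normal := Subgroup.normalizer_eq_top_iff.1 hN
  refine ⟨hPn, ?_⟩
  haveI := hPn
  obtain ⟨m, hm⟩ := P.isPGroup'.exists_card_eq
  obtain ⟨H, hH⟩ := Subgroup.exists_right_complement'_of_coprime (N := (P : Subgroup G))
    (hm ▸ ((Nat.Prime.coprime_iff_not_dvd hp).2 P.not_dvd_index).pow_left m)
  have hHcard : ¬ p ∣ Nat.card H := by
    rw [← hH.symm.index_eq_card]
    exact P.not_dvd_index
  have hc : ∀ x ∈ H, ∀ t ∈ (P : Subgroup G), t * x = x * t := by
    intro x hx t ht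
    obtain ⟨T, -, hT⟩ := hcen x (((Nat.Prime.coprime_iff_not_dvd hp).2 fun hd =>
      hHcard (hd.trans (Subgroup.orderOf_dvd_natCard H hx))).symm) 1 ⟨0, one_pow _⟩ (by simp)
    obtain ⟨a, rfl⟩ := MulAction.exists_smul_eq G P T
    refine hT t ?_
    have ha : a • P = P := Sylow.smul_eq_iff_mem_normalizer.2 (hN ▸ Subgroup.mem_top a)
    rwa [ha]
  refine ⟨H, ⟨fun x hx g => ?_⟩, hHcard, hH.disjoint.eq_bot, hH.sup_eq_top⟩
  obtain ⟨⟨⟨t, ht⟩, ⟨k, hk⟩⟩, htk⟩ := hH.2 g
  have htk' : t * k = g := htk
  rw [← htk', show t * k * x * (t * k)⁻¹ = t * (k * x * k⁻¹) * t⁻¹ by group,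
    hc (k * x * k⁻¹) (mul_mem (mul_mem hk hx) (inv_mem hk)) t ht, mul_inv_cancel_right]
  exact mul_mem (mul_mem hk hx) (inv_mem hk)

end Cfsg.Agent.S4035
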