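import Cfsg.Statements.S2840
import Cfsg.Agent.PReduced.WeaklyClosed

set_option autoImplicit false
open Cfsg

namespace Cfsg.Agent.S2840

/-- Let Q be a nontrivial p-subgroup of the finite group H that is a weakly closed subgroup and K a subgroup containing Q; let K° be the weak closure of Q in K (generated by the H-conjugates of Q inside K). Then K° is generated by the K-conjugates of Q, and K° is the subnormal closure of Q in K. -/
theorem result {H : Type*} [Group H] [Finite H] {p : ℕ} [Fact p.Prime] (Q : Subgroup H) (hQp : IsPGroup p ↥Q) (hQ1 : Q ≠ ⊥) (hwc : Cfsg.IsWeaklyClosedSubgroup p Q) (K : Subgroup H) (hQK : Q ≤ K) (Kc : Subgroup H) (hKc : Kc = Cfsg.weakClosure Q K) : Kc = ⨆ k : ↥K, ((Q : Subgroup H).map (MulAut.conj ((k : H) : H)).toMonoidHom) ∧ Kc = (Cfsg.subnormalClosure (Q.subgroupOf K)).map K.subtype := by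
  open Subgroup CfsgLib.PReduced in
  subst hKc
  have h1 : Cfsg.weakClosure Q K = ⨆ k : ↥K, Q.map (MulAut.conj (k : H)).toMonoidHom := by
    refine le_antisymm (iSup_le fun g => ?_) (iSup_le fun k => ?_)
    · obtain ⟨k, hk, hke⟩ := CfsgLib.PReduced.exists_conj_eq_of_le hQp hwc hQK g.2
      rw [hke]
      exact le_iSup (fun k : ↥K => Q.map (MulAut.conj (k : H)).toMonoidHom) ⟨k, hk⟩
    · refine le_iSup_of_le ⟨(k : H), (Subgroup.map_mono hQK).trans ?_⟩ le_rfl
      exact (CfsgLib.Subnormal.conj_eq_self_iff.mpr (Subgroup.le_normalizer k.2)).le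
  refine ⟨h1, ?_⟩
  have hm : ∀ k : ↥K, ((Q.subgroupOf K).map (MulAut.conj k).toMonoidHom).map K.subtype =
      Q.map (MulAut.conj (k : H)).toMonoidHom := by
    intro k
    conv_rhs => rw [← Subgroup.map_subgroupOf_eq_of_le hQK]
    rw [Subgroup.map_map, Subgroup.map_map]
    rfl
  have hwcK : Cfsg.IsWeaklyClosedSubgroup p (Q.subgroupOf K) := by
    refine CfsgLib.PReduced.isWeaklyClosedSubgroup_of_normalizer (hQp.comap_of_injective K.subtype K.subtype_injective)
      fun R hR hQR => ?_
    intro x hx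
    have h2 := CfsgLib.PReduced.normalizer_le_of_weaklyClosed hwc (hR.map K.subtype)
      (fun q hq => ⟨⟨q, hQK hq⟩, hQR hq, rfl⟩) (Subgroup.le_normalizer_map K.subtype ⟨x, hx, rfl⟩)
    rw [Subgroup.mem_normalizer_iff]
    exact fun y => Subgroup.mem_normalizer_iff.mp h2 (y : H)
  set C := ⨆ k : ↥K, (Q.subgroupOf K).map (MulAut.conj k).toMonoidHom with hC
  have hCn : C.Normal := by
    refine ⟨fun c hc g => ?_⟩
    have hle : C.map (MulAut.conj g).toMonoidHom ≤ C := by
      rw [hC, Subgroup.map_iSup]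
      refine iSup_le fun k => le_iSup_of_le (g * k) ?_
      rw [CfsgLib.Subnormal.conj_conj]
    exact hle ⟨c, hc, rfl⟩
  have hcl : Cfsg.subnormalClosure (Q.subgroupOf K) = C := by
    refine le_antisymm (sInf_le ⟨?_, hCn.isSubnormal⟩) (le_sInf fun S hS => iSup_le fun k =>
      CfsgLib.PReduced.conj_le_of_isSubnormal (hQp.comap_of_injective K.subtype K.subtype_injective) hwcK hS.2 hS.1 k)
    exact le_iSup_of_le 1 (CfsgLib.Subnormal.conj_one _).ge
  rw [h1, hcl, hC, Subgroup.map_iSup]
  exact iSup_congr fun k => (hm k).symm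

end Cfsg.Agent.S2840
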