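import Cfsg.Statements.S2859
import Cfsg.Agent.S2840
import Cfsg.Agent.S2820
import Cfsg.Agent.PReduced.WeaklyClosed
import Cfsg.Agent.Transfer.Residual
import Cfsg.Agent.CoprimeAction.Basic
import Cfsg.Agent.Components.Cores
import Mathlib.GroupTheory.Nilpotent

set_option autoImplicit false
open Cfsg

namespace Cfsg.Agent.S2859

open Subgroup CfsgLib.PReduced
open scoped commutatorElement

/-- A `p'`-element of `A ⊔ P` lies in `A`, for a `p`-group `P` normalizing `A`. -/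
theorem mem_of_coprime {G : Type*} [Group G] {p : ℕ} {A P : Subgroup G} (hPA : P ≤ normalizer (A : Set G))
    (hP : IsPGroup p P) {x : G} (hx : x ∈ A ⊔ P) (hc : (orderOf x).Coprime p) : x ∈ A := by
  rw [sup_comm, ← SetLike.mem_coe, coe_mul_of_left_le_normalizer_right _ _ hPA] at hx
  obtain ⟨o, ho, a, ha, rfl⟩ := hx
  have hpow : ∀ n : ℕ, ∃ a' ∈ A, (o * a) ^ n = o ^ n * a' := by
    intro n
    induction n with
    | zero => exact ⟨1, one_mem A, by simp⟩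
    | succ n ih =>
      obtain ⟨a', ha', e⟩ := ih
      refine ⟨o⁻¹ * a' * o * a, A.mul_mem ?_ ha, by rw [pow_succ, e, pow_succ]; group⟩
      simpa using (mem_normalizer_iff.mp (hPA (inv_mem ho)) a').mp ha'
  obtain ⟨k, hk⟩ := hP ⟨o, ho⟩
  obtain ⟨a', ha', e⟩ := hpow (p ^ k)
  rw [show o ^ p ^ k = 1 by simpa using congrArg Subtype.val hk, one_mul] at e
  obtain ⟨m, hm⟩ := exists_pow_eq_self_of_coprime ((hc.pow_right k).symm)
  rw [← hm, e]
  exact pow_mem ha' m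

/-- Induction along the generators of a residual. -/
theorem residualOf_le {G : Type*} [Group G] {p : ℕ} {P A : Subgroup G}
    (h : ∀ x ∈ P, (orderOf x).Coprime p → x ∈ A) : (Cfsg.pResidual p ↥P).map P.subtype ≤ A := by
  rw [Subgroup.map_le_iff_le_comap, Cfsg.pResidual, closure_le]
  intro x hx
  exact h x x.2 (by rwa [Subgroup.orderOf_coe])

theorem mem_residualOf {G : Type*} [Group G] {p : ℕ} {P : Subgroup G} {x : G} (hx : x ∈ P)
    (hc : (orderOf x).Coprime p) : x ∈ (Cfsg.pResidual p ↥P).map P.subtype := by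
  refine ⟨⟨x, hx⟩, subset_closure ?_, rfl⟩
  show (orderOf (⟨x, hx⟩ : P)).Coprime p
  rwa [← Subgroup.orderOf_coe]

/-- A group generated by the conjugates of a `p`-subgroup `Q`. -/
theorem residual_commutator {W : Type*} [Group W] [Finite W] {p : ℕ} [Fact p.Prime] (Q : Subgroup W)
    (hQ : IsPGroup p Q) (hgen : normalClosure (Q : Set W) = ⊤) :
    Cfsg.pResidual p W ⊔ Q = ⊤ ∧ ⁅Cfsg.pResidual p W, Q⁆ = Cfsg.pResidual p W := by
  set K := Cfsg.pResidual p W with hK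
  haveI hKn : K.Normal := CfsgLib.Transfer.pResidual_normal
  have h1 : K ⊔ Q = ⊤ := by
    by_contra hne
    haveI : Group.IsNilpotent (W ⧸ K) := (CfsgLib.Transfer.isPGroup_quotient_pResidual (p := p) (G := W)).isNilpotent
    have hmap : Q.map (QuotientGroup.mk' K) ≠ ⊤ := fun e => hne (by
      rw [sup_comm]
      have := congrArg (comap (QuotientGroup.mk' K)) e
      rwa [comap_map_eq, QuotientGroup.ker_mk', comap_top] at this)
    obtain ⟨M, hM, hQM⟩ := (eq_top_or_exists_le_coatom _).resolve_left hmap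
    haveI : M.Normal := Subgroup.NormalizerCondition.normal_of_coatom M Group.normalizerCondition_of_isNilpotent hM
    have h2 : normalClosure (Q : Set W) ≤ M.comap (QuotientGroup.mk' K) :=
      normalClosure_le_normal (N := M.comap (QuotientGroup.mk' K)) (fun q hq => hQM (mem_map_of_mem _ hq))
    rw [hgen, top_le_iff] at h2
    exact hM.1 (comap_injective (QuotientGroup.mk'_surjective K) (h2.trans (comap_top _).symm))
  refine ⟨h1, le_antisymm (CfsgLib.CoprimeAction.commutator_le_of_normalizer le_normalizer_of_normal) ?_⟩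
  set R := ⁅K, Q⁆ with hR
  haveI hRn : R.Normal := normalizer_eq_top_iff.mp (top_le_iff.mp (h1 ▸ sup_le
    CfsgLib.CoprimeAction.self_le_normalizer_commutator
    (CfsgLib.CoprimeAction.le_normalizer_commutator le_normalizer_of_normal)))
  have hS : (R ⊔ Q).Normal := by
    refine normalizer_eq_top_iff.mp (top_le_iff.mp (h1 ▸ sup_le ?_ (le_sup_right.trans le_normalizer)))
    intro k hk
    refine Subgroup.mem_normalizer_fintype fun n hn => ?_
    rw [normal_mul] at hn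
    obtain ⟨r, hr, q, hq, rfl⟩ := hn
    rw [show k * (r * q) * k⁻¹ = k * r * k⁻¹ * (⁅k, q⁆ * q) by rw [commutatorElement_def]; group]
    exact mul_mem (mem_sup_left (hRn.conj_mem r hr k))
      (mul_mem (mem_sup_left (commutator_mem_commutator hk hq)) (mem_sup_right hq))
  have htop : R ⊔ Q = ⊤ := top_le_iff.mp (hgen ▸ normalClosure_le_normal (N := R ⊔ Q)
    (SetLike.coe_subset_coe.mpr le_sup_right))
  refine CfsgLib.Transfer.pResidual_le_of_isPGroup_quotient R ?_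
  intro x
  obtain ⟨w, rfl⟩ := QuotientGroup.mk'_surjective R x
  have hw : w ∈ R ⊔ Q := htop ▸ mem_top w
  rw [← SetLike.mem_coe, normal_mul] at hw
  obtain ⟨r, hr, q, hq, rfl⟩ := hw
  obtain ⟨k, hk⟩ := hQ ⟨q, hq⟩
  refine ⟨k, ?_⟩
  rw [map_mul, show QuotientGroup.mk' R r = 1 from (QuotientGroup.eq_one_iff r).mpr hr, one_mul, ← map_pow,
    show q ^ p ^ k = 1 by simpa using congrArg Subtype.val hk, map_one]

/-- Modulo `O`, if `[H₁,H₂]` is central then `H₂` centralizes `[H₁, W]`. -/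
theorem commutator_mod {W : Type*} [Group W] (H₁ H₂ O : Subgroup W) [H₁.Normal] [H₂.Normal] [O.Normal]
    (hsup : H₁ ⊔ H₂ = ⊤) (hX : ⁅⁅H₁, H₂⁆, (⊤ : Subgroup W)⁆ ≤ O) :
    ⁅⁅H₁, (⊤ : Subgroup W)⁆, H₂⁆ ≤ O := by
  set π := QuotientGroup.mk' O with hπ
  have hle : ∀ A B : Subgroup W, ⁅A, B⁆ ≤ O ↔ ⁅A.map π, B.map π⁆ = ⊥ := fun A B => by
    rw [← Subgroup.map_commutator, Subgroup.map_eq_bot_iff, hπ, QuotientGroup.ker_mk']
  rw [hle, Subgroup.map_commutator]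
  have hX' := (hle _ _).mp hX
  rw [Subgroup.map_commutator] at hX'
  set a := H₁.map π with ha
  set b := H₂.map π with hb
  haveI : a.Normal := (inferInstance : H₁.Normal).map π (QuotientGroup.mk'_surjective O)
  haveI : b.Normal := (inferInstance : H₂.Normal).map π (QuotientGroup.mk'_surjective O)
  have htop : (⊤ : Subgroup W).map π = a ⊔ b := by rw [ha, hb, ← Subgroup.map_sup, hsup]
  rw [htop] at hX' ⊢
  have hab : ⁅⁅a, b⁆, a⁆ = ⊥ ∧ ⁅⁅a, b⁆, b⁆ = ⊥ :=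
    ⟨le_bot_iff.mp ((commutator_mono le_rfl le_sup_left).trans hX'.le),
      le_bot_iff.mp ((commutator_mono le_rfl le_sup_right).trans hX'.le)⟩
  have haab : ⁅⁅a, a⁆, b⁆ = ⊥ :=
    commutator_commutator_eq_bot_of_rotate hab.1 (by rw [commutator_comm b a]; exact hab.1)
  rw [commutator_eq_bot_iff_le_centralizer]
  refine le_trans ?_ (sup_le (commutator_eq_bot_iff_le_centralizer.mp haab)
    (commutator_eq_bot_iff_le_centralizer.mp hab.2))
  rw [commutator_le]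
  intro x hx y hy
  rw [← SetLike.mem_coe, normal_mul] at hy
  obtain ⟨u, hu, v, hv, rfl⟩ := hy
  rw [show ⁅x, u * v⁆ = ⁅x, u⁆ * (u * ⁅x, v⁆ * u⁻¹) by simp only [commutatorElement_def]; group]
  exact mul_mem (mem_sup_left (commutator_mem_commutator hx hu))
    (mem_sup_right ((inferInstance : ⁅a, b⁆.Normal).conj_mem _ (commutator_mem_commutator hx hv) u))

theorem normalizer_le_weakClosure {G : Type*} [Group G] (Q K : Subgroup G) :
    normalizer (K : Set G) ≤ normalizer ((Cfsg.weakClosure Q K : Subgroup G) : Set G) := by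
  have key : ∀ g ∈ normalizer (K : Set G), (Cfsg.weakClosure Q K).map (MulAut.conj g).toMonoidHom ≤ Cfsg.weakClosure Q K := by
    intro g hg
    rw [Cfsg.weakClosure, Subgroup.map_iSup]
    refine iSup_le fun x => ?_
    rw [CfsgLib.Subnormal.conj_conj]
    refine le_iSup (fun x : {x : G // Q.map (MulAut.conj x).toMonoidHom ≤ K} => Q.map (MulAut.conj (x : G)).toMonoidHom)
      ⟨g * x, ?_⟩
    rw [← CfsgLib.Subnormal.conj_conj]
    exact (map_mono x.2).trans (CfsgLib.Subnormal.conj_eq_self_iff.mpr hg).le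
  intro g hg
  refine mem_normalizer_iff.mpr fun x => ⟨fun hx => key g hg ⟨x, hx, rfl⟩, fun hx => ?_⟩
  have := key g⁻¹ (inv_mem hg) ⟨_, hx, rfl⟩
  simpa [mul_assoc] using this

theorem normalizer_le_residualOf {G : Type*} [Group G] (p : ℕ) (P : Subgroup G) :
    normalizer (P : Set G) ≤ normalizer (((Cfsg.pResidual p ↥P).map P.subtype : Subgroup G) : Set G) := by
  haveI := CfsgLib.Transfer.pResidual_characteristic (p := p) (G := ↥P)
  intro g hg
  refine CfsgLib.Subnormal.conj_eq_self_iff.mp ?_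
  have h := (Subgroup.characteristic_iff_map_eq.mp this) (P.normalizerMonoidHom ⟨g, hg⟩)
  conv_rhs => rw [← h]
  rw [Subgroup.map_map, Subgroup.map_map]
  rfl

/-- The facts on one of the two factors. -/
theorem side {G : Type*} [Group G] [Finite G] {p : ℕ} [Fact p.Prime] (Q : Subgroup G) (hQp : IsPGroup p ↥Q)
    (hQ1 : Q ≠ ⊥) (hwc : Cfsg.IsWeaklyClosedSubgroup p Q) (Hc : Subgroup G) (hHc : Hc = Cfsg.weakClosure Q ⊤)
    (H₁ H₂ : Subgroup G) (hn₁ : H₁ ≤ Hc ∧ Hc ≤ normalizer ((H₁ : Subgroup G) : Set G))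
    (hn₂ : H₂ ≤ Hc ∧ Hc ≤ normalizer ((H₂ : Subgroup G) : Set G)) (hprod : H₁ ⊔ H₂ = Hc)
    (hcomm : ⁅H₁, H₂⁆ ≤ normalizer ((Q : Subgroup G) : Set G)) (K₁ : Subgroup G)
    (hK₁ : K₁ = ((Cfsg.pResidual p ↥(Cfsg.weakClosure Q (H₁ ⊔ Q))).map ((Cfsg.weakClosure Q (H₁ ⊔ Q))).subtype)) :
    (⁅K₁, Q⁆ = K₁ ∧ ⁅K₁, H₁⁆ = K₁ ∧ K₁ ≤ ⁅H₁, H₁⁆ ∧ Hc ≤ normalizer ((K₁ : Subgroup G) : Set G)) ∧
      ⁅K₁, H₂⁆ ≤ Cfsg.pCoreOf p Hc ∧ K₁ ≤ H₁ ∧ (∀ h ∈ H₁, Q.map (MulAut.conj h).toMonoidHom ≤ K₁ ⊔ Q) := by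
  have hQHc : Q ≤ Hc := by
    rw [hHc, Cfsg.weakClosure]
    refine le_iSup_of_le ⟨1, le_top⟩ ?_
    rw [CfsgLib.Subnormal.conj_one]
  set P := Cfsg.weakClosure Q (H₁ ⊔ Q) with hP
  have hP1 := (Cfsg.Agent.S2840.result Q hQp hQ1 hwc (H₁ ⊔ Q) le_sup_right P rfl).1
  have hPle : P ≤ H₁ ⊔ Q := iSup_le fun x => x.2
  have hQP : Q ≤ P := by
    rw [hP1]
    refine le_iSup_of_le (1 : ↥(H₁ ⊔ Q)) ?_
    rw [Subgroup.coe_one, CfsgLib.Subnormal.conj_one]
  have hgen : normalClosure ((Q.subgroupOf P : Subgroup ↥P) : Set ↥P) = ⊤ := by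
    refine top_le_iff.mp fun x _ => ?_
    have hx : (x : G) ∈ (normalClosure ((Q.subgroupOf P : Subgroup ↥P) : Set ↥P)).map P.subtype := by
      have hle : P ≤ (normalClosure ((Q.subgroupOf P : Subgroup ↥P) : Set ↥P)).map P.subtype := by
        conv_lhs => rw [hP1]
        refine iSup_le fun k => ?_
        have hk : Q.map (MulAut.conj (k : G)).toMonoidHom ≤ P := by
          rw [hP1]; exact le_iSup (fun k : ↥(H₁ ⊔ Q) => Q.map (MulAut.conj (k : G)).toMonoidHom) k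
        obtain ⟨w, hw, e⟩ := exists_conj_eq_of_le hQp hwc hQP hk
        rw [e]
        rintro _ ⟨q, hq, rfl⟩
        exact ⟨⟨w, hw⟩ * ⟨q, hQP hq⟩ * ⟨w, hw⟩⁻¹,
          normalClosure_normal.conj_mem _ (subset_normalClosure (show (⟨q, hQP hq⟩ : P) ∈ Q.subgroupOf P from hq)) _, rfl⟩
      exact hle x.2
    obtain ⟨y, hy, hyx⟩ := hx
    exact (Subtype.ext hyx : y = x) ▸ hy
  obtain ⟨hsupQ, hKQ⟩ := residual_commutator (Q.subgroupOf P) (hQp.of_equiv (subgroupOfEquivOfLe hQP).symm) hgen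
  have hKQ' : ⁅K₁, Q⁆ = K₁ := by
    have := congrArg (Subgroup.map P.subtype) hKQ
    rw [Subgroup.map_commutator, map_subgroupOf_eq_of_le hQP, ← hK₁] at this
    exact this
  have hPKQ : P = K₁ ⊔ Q := by
    have := congrArg (Subgroup.map P.subtype) hsupQ
    rw [Subgroup.map_sup, map_subgroupOf_eq_of_le hQP, ← hK₁, ← MonoidHom.range_eq_map, range_subtype] at this
    exact this.symm
  have hQn₁ : Q ≤ normalizer (H₁ : Set G) := hQHc.trans hn₁.2
  have hKH : K₁ ≤ H₁ := by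
    rw [hK₁]
    exact residualOf_le fun x hx hc => mem_of_coprime hQn₁ hQp (hPle hx) hc
  have hHP : H₁ ≤ normalizer (P : Set G) :=
    le_sup_left.trans (le_normalizer.trans (normalizer_le_weakClosure Q (H₁ ⊔ Q)))
  have hHK : H₁ ≤ normalizer (K₁ : Set G) := hK₁ ▸ hHP.trans (normalizer_le_residualOf p P)
  have hKHc : K₁ ≤ Hc := hKH.trans hn₁.1
  -- `[H₁,H₂]` is central modulo the core
  set X := ⁅H₁, H₂⁆ with hX
  set O := Cfsg.pCoreOf p Hc with hO
  have hOn : Hc ≤ normalizer (O : Set G) := le_normalizer_pCoreOf Hc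
  have hXHc : Hc ≤ normalizer (X : Set G) := by
    intro g hg
    refine CfsgLib.Subnormal.conj_eq_self_iff.mp ?_
    rw [hX, Subgroup.map_commutator, CfsgLib.Subnormal.conj_eq_self_iff.mpr (hn₁.2 hg),
      CfsgLib.Subnormal.conj_eq_self_iff.mpr (hn₂.2 hg)]
  have hXle : X ≤ Hc := (commutator_mono hn₁.1 hn₂.1).trans
    (CfsgLib.CoprimeAction.commutator_le_of_normalizer le_normalizer)
  have hXconj : ∀ g : G, X ≤ normalizer ((Q.map (MulAut.conj g).toMonoidHom : Subgroup G) : Set G) := by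
    intro g
    have hg : Q.map (MulAut.conj g).toMonoidHom ≤ Hc := by
      rw [hHc, Cfsg.weakClosure]
      exact le_iSup (fun x : {x : G // Q.map (MulAut.conj x).toMonoidHom ≤ (⊤ : Subgroup G)} =>
        Q.map (MulAut.conj (x : G)).toMonoidHom) ⟨g, le_top⟩
    obtain ⟨w, hw, e⟩ := exists_conj_eq_of_le hQp hwc hQHc hg
    rw [e, ← CfsgLib.Subnormal.conj_eq_self_iff.mpr (hXHc hw)]
    exact (map_mono hcomm).trans (le_normalizer_map _)
  let O' : Subgroup ↥Hc := O.subgroupOf Hc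
  haveI hO'n : O'.Normal := normal_subgroupOf_of_le_normalizer hOn
  haveI : (H₁.subgroupOf Hc).Normal := normal_subgroupOf_of_le_normalizer hn₁.2
  haveI : (H₂.subgroupOf Hc).Normal := normal_subgroupOf_of_le_normalizer hn₂.2
  have hsup' : H₁.subgroupOf Hc ⊔ H₂.subgroupOf Hc = ⊤ := by
    refine map_injective Hc.subtype_injective ?_
    rw [Subgroup.map_sup, map_subgroupOf_eq_of_le hn₁.1, map_subgroupOf_eq_of_le hn₂.1, hprod,
      ← MonoidHom.range_eq_map, range_subtype]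
  have hXc : ⁅⁅H₁.subgroupOf Hc, H₂.subgroupOf Hc⁆, (⊤ : Subgroup ↥Hc)⁆ ≤ O' := by
    set π := QuotientGroup.mk' O' with hπ
    have h1 : Hc ≤ ((centralizer (((X.subgroupOf Hc).map π : Subgroup (↥Hc ⧸ O')) : Set (↥Hc ⧸ O'))).comap π).map Hc.subtype := by
      conv_lhs => rw [hHc, Cfsg.weakClosure]
      refine iSup_le fun g => ?_
      intro q hq
      have hqH : q ∈ Hc := by
        rw [hHc, Cfsg.weakClosure]
        exact le_iSup (fun x : {x : G // Q.map (MulAut.conj x).toMonoidHom ≤ (⊤ : Subgroup G)} =>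
          Q.map (MulAut.conj (x : G)).toMonoidHom) g hq
      refine ⟨⟨q, hqH⟩, mem_centralizer_iff.mpr ?_, rfl⟩
      rintro _ ⟨x, hx, rfl⟩
      rw [← map_mul, ← map_mul, eq_comm, hπ]
      rw [QuotientGroup.mk'_eq_mk']
      refine ⟨(⟨q, hqH⟩ * x)⁻¹ * (x * ⟨q, hqH⟩), ?_, by group⟩
      show (q * (x : G))⁻¹ * ((x : G) * q) ∈ O
      set Qg := Q.map (MulAut.conj (g : G)).toMonoidHom with hQg
      have h2 : (q * (x : G))⁻¹ * ((x : G) * q) ∈ Qg ⊓ X := by
        refine ⟨?_, ?_⟩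
        · rw [show (q * (x : G))⁻¹ * ((x : G) * q) = ((x : G)⁻¹ * q⁻¹ * (x : G)⁻¹⁻¹) * q by group]
          exact Qg.mul_mem ((mem_normalizer_iff.mp (hXconj g (X.inv_mem hx)) _).mp (Qg.inv_mem hq)) hq
        · rw [show (q * (x : G))⁻¹ * ((x : G) * q) = (x : G)⁻¹ * (q⁻¹ * (x : G) * q⁻¹⁻¹) by group]
          exact X.mul_mem (X.inv_mem hx) ((mem_normalizer_iff.mp (hXHc (inv_mem hqH)) _).mp hx)
      have h3 : Qg ⊓ X ≤ Cfsg.pCoreOf p X := by
        refine le_pCoreOf inf_le_right ?_ ((hQp.map _).to_le inf_le_left)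
        intro y hy
        refine mem_normalizer_iff.mpr fun e => ?_
        simp only [Subgroup.mem_inf]
        exact and_congr (mem_normalizer_iff.mp (hXconj g hy) e) (mem_normalizer_iff.mp (le_normalizer hy) e)
      exact le_pCoreOf ((pCoreOf_le X).trans hXle) (hXHc.trans (normalizer_le_normalizer_pCoreOf X))
        (isPGroup_pCoreOf X) (h3 h2)
    have h4 : ⁅H₁.subgroupOf Hc, H₂.subgroupOf Hc⁆ ≤ X.subgroupOf Hc := by
      rw [← Subgroup.map_le_map_iff_of_injective Hc.subtype_injective, Subgroup.map_commutator,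
        map_subgroupOf_eq_of_le hn₁.1, map_subgroupOf_eq_of_le hn₂.1, map_subgroupOf_eq_of_le hXle]
    refine (commutator_mono h4 le_rfl).trans ?_
    rw [commutator_le]
    intro x hx y _
    obtain ⟨y', hy', e⟩ := h1 y.2
    rw [show y' = y from Subtype.ext e] at hy'
    rw [← QuotientGroup.eq_one_iff]
    show π ⁅x, y⁆ = 1
    rw [map_commutatorElement, commutatorElement_eq_one_iff_mul_comm]
    exact mem_centralizer_iff.mp hy' _ (mem_map_of_mem π hx)
  have hKH2 : ⁅K₁, H₂⁆ ≤ O := by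
    have h1 := commutator_mod _ _ O' hsup' hXc
    have h2 : K₁ ≤ (⁅H₁.subgroupOf Hc, (⊤ : Subgroup ↥Hc)⁆).map Hc.subtype := by
      rw [Subgroup.map_commutator, map_subgroupOf_eq_of_le hn₁.1, ← MonoidHom.range_eq_map, range_subtype]
      conv_lhs => rw [← hKQ']
      exact commutator_mono hKH hQHc
    refine (commutator_mono h2 (le_refl H₂)).trans ?_
    rw [← map_subgroupOf_eq_of_le hn₂.1, ← Subgroup.map_commutator]
    exact (map_mono h1).trans_eq (map_subgroupOf_eq_of_le (pCoreOf_le Hc))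
  have hOKn : O ≤ normalizer (K₁ : Set G) ∧ ∀ x ∈ K₁ ⊔ O, (orderOf x).Coprime p → x ∈ K₁ := by
    have hres : (Cfsg.pResidual p ↥(K₁.subgroupOf Hc)).map (K₁.subgroupOf Hc).subtype = K₁.subgroupOf Hc := by
      refine le_antisymm (map_subtype_le _) ?_
      rw [← Subgroup.map_le_map_iff_of_injective Hc.subtype_injective, map_subgroupOf_eq_of_le hKHc]
      conv_lhs => rw [hK₁]
      refine residualOf_le fun x hx hc => ?_
      have hxK : x ∈ K₁ := hK₁ ▸ mem_residualOf hx hc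
      refine ⟨⟨x, hKHc hxK⟩, mem_residualOf (show (⟨x, hKHc hxK⟩ : Hc) ∈ K₁.subgroupOf Hc from hxK) ?_, rfl⟩
      rwa [← Subgroup.orderOf_coe]
    have hsn : (K₁.subgroupOf Hc).IsSubnormal :=
      CfsgLib.Components.subnormal_of_normal_le (fun x hx => hKH hx)
        (show H₁.subgroupOf Hc ≤ _ from fun h hh => mem_normalizer_iff.mpr fun x =>
          mem_normalizer_iff.mp (hHK hh) (x : G))
        (inferInstance : (H₁.subgroupOf Hc).Normal).isSubnormal
    have h := Cfsg.Agent.S2820.result O' (K₁.subgroupOf Hc) hO'n.isSubnormal hsn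
      ((isPGroup_pCoreOf Hc).of_equiv (subgroupOfEquivOfLe (pCoreOf_le Hc)).symm) hres
    refine ⟨fun o ho => ?_, fun x hx hc => ?_⟩
    · have h1 := h.1 (show (⟨o, pCoreOf_le Hc ho⟩ : Hc) ∈ O' from ho)
      refine mem_normalizer_iff.mpr fun e => ⟨fun he => ?_, fun he => ?_⟩
      · exact (mem_normalizer_iff.mp h1 ⟨e, hKHc he⟩).mp he
      · have heH : e ∈ Hc := by
          have := mul_mem (mul_mem (inv_mem (pCoreOf_le Hc ho)) (hKHc he)) (pCoreOf_le Hc ho)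
          simpa [mul_assoc] using this
        exact (mem_normalizer_iff.mp h1 ⟨e, heH⟩).mpr he
    · have hxH : x ∈ Hc := (sup_le hKHc (pCoreOf_le Hc)) hx
      have hx' : (⟨x, hxH⟩ : Hc) ∈ O' ⊔ K₁.subgroupOf Hc := by
        rw [← subgroupOf_sup (pCoreOf_le Hc) hKHc, sup_comm]
        exact hx
      have h2 := h.2.le (mem_residualOf hx' (by rwa [← Subgroup.orderOf_coe]))
      exact h2
  have hH2K : H₂ ≤ normalizer (K₁ : Set G) := by
    refine (le_normalizer_iff).mpr fun h hh k hk => ?_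
    have hconj : K₁.map (MulAut.conj h).toMonoidHom ≤ K₁ := by
      conv_lhs => rw [hK₁]
      rw [Subgroup.map_le_iff_le_comap]
      refine residualOf_le fun x hx hc => ?_
      show h * x * h⁻¹ ∈ K₁
      have hxK : x ∈ K₁ := hK₁ ▸ mem_residualOf hx hc
      refine hOKn.2 _ ?_ (by rwa [show h * x * h⁻¹ = MulAut.conj h x from rfl, MulEquiv.orderOf_eq])
      rw [show h * x * h⁻¹ = ⁅x, h⁆⁻¹ * x by rw [commutatorElement_def]; group]
      exact mul_mem (inv_mem (mem_sup_right (hKH2 (commutator_mem_commutator hxK hh)))) (mem_sup_left hxK)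
    exact hconj ⟨k, hk, rfl⟩
  have hnorm : Hc ≤ normalizer (K₁ : Set G) := hprod ▸ sup_le hHK hH2K
  have hKH1 : ⁅K₁, H₁⁆ = K₁ := by
    refine le_antisymm (CfsgLib.CoprimeAction.commutator_le_of_normalizer hHK) ?_
    set R := ⁅K₁, H₁⁆ with hR
    have hRn : Hc ≤ normalizer (R : Set G) := by
      intro g hg
      refine CfsgLib.Subnormal.conj_eq_self_iff.mp ?_
      rw [hR, Subgroup.map_commutator, CfsgLib.Subnormal.conj_eq_self_iff.mpr (hnorm hg),
        CfsgLib.Subnormal.conj_eq_self_iff.mpr (hn₁.2 hg)]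
    have hle : K₁ ≤ R ⊔ O := by
      conv_lhs => rw [← hKQ']
      rw [commutator_le]
      intro k hk q hq
      have hq' : q ∈ H₁ ⊔ H₂ := hprod ▸ hQHc hq
      rw [← SetLike.mem_coe, coe_mul_of_left_le_normalizer_right _ _ (hn₁.1.trans hn₂.2)] at hq'
      obtain ⟨u, hu, v, hv, rfl⟩ := hq'
      rw [show ⁅k, u * v⁆ = ⁅k, u⁆ * (u * ⁅k, v⁆ * u⁻¹) by simp only [commutatorElement_def]; group]
      exact mul_mem (mem_sup_left (commutator_mem_commutator hk hu))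
        (mem_sup_right ((mem_normalizer_iff.mp (hOn (hn₁.1 hu)) _).mp (hKH2 (commutator_mem_commutator hk hv))))
    conv_lhs => rw [hK₁]
    exact residualOf_le fun x hx hc =>
      mem_of_coprime ((pCoreOf_le Hc).trans hRn) (isPGroup_pCoreOf Hc) (hle (hK₁ ▸ mem_residualOf hx hc)) hc
  refine ⟨⟨hKQ', hKH1, hKH1.ge.trans (commutator_mono hKH le_rfl), hnorm⟩, hKH2, hKH, fun h hh => ?_⟩
  rw [← hPKQ]
  exact (map_mono hQP).trans (CfsgLib.Subnormal.conj_eq_self_iff.mpr (hHP hh)).le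

/-- Let Q be a nontrivial p-subgroup of the finite group H that is a weakly closed subgroup, H° the weak closure of Q in H (generated by the conjugates of Q) and H_∘ = O^p(H°). Suppose H₁, H₂ are normal subgroups of H° with H° = H₁H₂ and [H₁, H₂] ≤ N_H(Q), and put Kᵢ = O^p of the weak closure of Q in HᵢQ. Then for i = 1, 2: Kᵢ = [Kᵢ, Q] = [Kᵢ, Hᵢ] ≤ Hᵢ′ and Kᵢ is normal in H°; H_∘ = K₁K₂; and [K₁, K₂] ≤ O_p(H°). -/
theorem result {G : Type*} [Group G] [Finite G] {p : ℕ} [Fact p.Prime] (Q : Subgroup G) (hQp : IsPGroup p ↥Q) (hQ1 : Q ≠ ⊥) (hwc : Cfsg.IsWeaklyClosedSubgroup p Q) (Hc : Subgroup G) (hHc : Hc = Cfsg.weakClosure Q ⊤) (H₁ H₂ : Subgroup G) (hn₁ : H₁ ≤ Hc ∧ Hc ≤ Subgroup.normalizer ((H₁ : Subgroup G) : Set G)) (hn₂ : H₂ ≤ Hc ∧ Hc ≤ Subgroup.normalizer ((H₂ : Subgroup G) : Set G)) (hprod : H₁ ⊔ H₂ = Hc) (hcomm : ⁅H₁, H₂⁆ ≤ Subgroup.normalizer ((Q : Subgroup G) : Set G)) (K₁ K₂ : Subgroup G) (hK₁ : K₁ =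 ((Cfsg.pResidual p ↥(Cfsg.weakClosure Q (H₁ ⊔ Q))).map ((Cfsg.weakClosure Q (H₁ ⊔ Q))).subtype)) (hK₂ : K₂ = ((Cfsg.pResidual p ↥(Cfsg.weakClosure Q (H₂ ⊔ Q))).map ((Cfsg.weakClosure Q (H₂ ⊔ Q))).subtype)) : (⁅K₁, Q⁆ = K₁ ∧ ⁅K₁, H₁⁆ = K₁ ∧ K₁ ≤ ⁅H₁, H₁⁆ ∧ Hc ≤ Subgroup.normalizer ((K₁ : Subgroup G) : Set G)) ∧ (⁅K₂, Q⁆ = K₂ ∧ ⁅K₂, H₂⁆ = K₂ ∧ K₂ ≤ ⁅H₂, H₂⁆ ∧ Hc ≤ Subgroup.normalizer ((K₂ : Subgroup G) : Set G)) ∧ K₁ ⊔ K₂ = ((Cfsg.pResidual p ↥Hc).map (Hc).subtype) ∧ ⁅K₁, K₂⁆ ≤ (Cfsg.pCoreOf p Hc) := by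
  have hcomm' : ⁅H₂, H₁⁆ ≤ Subgroup.normalizer ((Q : Subgroup G) : Set G) := by rwa [commutator_comm]
  obtain ⟨f1, hKH2, hK1le, hQ1'⟩ := side Q hQp hQ1 hwc Hc hHc H₁ H₂ hn₁ hn₂ hprod hcomm K₁ hK₁
  obtain ⟨f2, -, hK2le, hQ2'⟩ := side Q hQp hQ1 hwc Hc hHc H₂ H₁ hn₂ hn₁ (by rw [sup_comm, hprod]) hcomm' K₂ hK₂
  refine ⟨f1, f2, ?_, (commutator_mono le_rfl hK2le).trans hKH2⟩
  have hQHc : Q ≤ Hc := by
    rw [hHc, Cfsg.weakClosure]
    refine le_iSup_of_le ⟨1, le_top⟩ ?_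
    rw [CfsgLib.Subnormal.conj_one]
  have hT : Hc ≤ normalizer ((K₁ ⊔ K₂ : Subgroup G) : Set G) :=
    (le_inf f1.2.2.2 f2.2.2.2).trans (normalizer_inf_le_normalizer_sup K₁ K₂)
  refine le_antisymm (sup_le ?_ ?_) ?_
  · conv_lhs => rw [hK₁]
    exact residualOf_le fun x hx hc => mem_residualOf ((hK1le.trans hn₁.1) (hK₁ ▸ mem_residualOf hx hc)) hc
  · conv_lhs => rw [hK₂]
    exact residualOf_le fun x hx hc => mem_residualOf ((hK2le.trans hn₂.1) (hK₂ ▸ mem_residualOf hx hc)) hc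
  · have hQT : Q ≤ normalizer ((K₁ ⊔ K₂ : Subgroup G) : Set G) := hQHc.trans hT
    have hS : Hc ≤ normalizer (((K₁ ⊔ K₂) ⊔ Q : Subgroup G) : Set G) := by
      intro g hg
      have hg' : g ∈ H₁ ⊔ H₂ := hprod.symm ▸ hg
      refine SetLike.le_def.mp (sup_le ?_ ?_) hg'
      all_goals
        intro h hh
        refine (le_normalizer_iff).mpr ?_ hh
        intro h hh x hx
        rw [← SetLike.mem_coe, sup_comm, coe_mul_of_left_le_normalizer_right _ _ hQT] at hx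
        obtain ⟨q, hq, t, ht, rfl⟩ := hx
        rw [show h * (q * t) * h⁻¹ = h * q * h⁻¹ * (h * t * h⁻¹) by group]
        refine mul_mem ?_ (mem_sup_left ?_)
      · exact (sup_le_sup_right le_sup_left Q : K₁ ⊔ Q ≤ (K₁ ⊔ K₂) ⊔ Q) (hQ1' h hh ⟨q, hq, rfl⟩)
      · exact (mem_normalizer_iff.mp (hT (hn₁.1 hh)) t).mp ht
      · exact (sup_le_sup_right le_sup_right Q : K₂ ⊔ Q ≤ (K₁ ⊔ K₂) ⊔ Q) (hQ2' h hh ⟨q, hq, rfl⟩)
      · exact (mem_normalizer_iff.mp (hT (hn₂.1 hh)) t).mp ht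
    have hall : Hc ≤ (K₁ ⊔ K₂) ⊔ Q := by
      conv_lhs => rw [hHc, Cfsg.weakClosure]
      refine iSup_le fun g => ?_
      have hg : Q.map (MulAut.conj (g : G)).toMonoidHom ≤ Hc := by
        rw [hHc, Cfsg.weakClosure]
        exact le_iSup (fun x : {x : G // Q.map (MulAut.conj x).toMonoidHom ≤ (⊤ : Subgroup G)} =>
          Q.map (MulAut.conj (x : G)).toMonoidHom) g
      obtain ⟨w, hw, e⟩ := exists_conj_eq_of_le hQp hwc hQHc hg
      rw [e]
      exact (map_mono le_sup_right).trans (CfsgLib.Subnormal.conj_eq_self_iff.mpr (hS hw)).le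
    exact residualOf_le fun x hx hc => mem_of_coprime hQT hQp (hall hx) hc

end Cfsg.Agent.S2859
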