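import Cfsg.Statements.S2822
import Cfsg.Agent.PReduced.Basic

set_option autoImplicit false
open Cfsg

namespace Cfsg.Agent.S2822

/-- Let H be a finite group, p a prime, T a Sylow p-subgroup, and L, M subgroups of characteristic p containing T, with largest p-reduced normal subgroups Y_L, Y_M. If L·C_H(Y_M) = M·C_H(Y_M), then Y_M ≤ Y_L. -/
theorem result {H : Type*} [Group H] [Finite H] {p : ℕ} [Fact p.Prime] (T : Sylow p H) (L M : Subgroup H) (hTL : (T : Subgroup H) ≤ L) (hTM : (T : Subgroup H) ≤ M) (hL : Subgroup.centralizer (Cfsg.pCore p ↥L : Set ↥L) ≤ Cfsg.pCore p ↥L) (hM : Subgroup.centralizer (Cfsg.pCore p ↥M : Set ↥M) ≤ Cfsg.pCore p ↥M) : L ⊔ Subgroup.centralizer (((Cfsg.largestPReducedOf p M) : Subgroup H) : Set H) = M ⊔ Subgroup.centralizer (((Cfsg.largestPReducedOf p M) : Subgroup H) : Set H) → (Cfsg.largestPReducedOf p M) ≤ (Cfsg.largestPReducedOf p L) := by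
  intro heq
  open Subgroup CfsgLib.PReduced in
  set Y := Cfsg.largestPReducedOf p M with hY
  set C := centralizer (Y : Set H) with hC
  have hYN : C ≤ normalizer (Y : Set H) := Subgroup.centralizer_le_normalizer _
  have hMY : M ≤ normalizer (Y : Set H) := le_normalizer_largestPReducedOf M
  have hLY : L ≤ normalizer (Y : Set H) := le_sup_left.trans (heq.le.trans (sup_le hMY hYN))
  refine le_largestPReducedOf (((largestPReducedOf_le_pCoreOf M).trans (pCoreOf_le_sylow T hTM)).trans hTL) hLY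
    (isElementaryAbelian_largestPReducedOf M) fun D hDL hDn hpm => ?_
  have hNC : normalizer (Y : Set H) ≤ normalizer (C : Set H) := normalizer_le_normalizer_centralizer Y
  have hDC : D ≤ normalizer (C : Set H) := (hDL.trans hLY).trans hNC
  have hMD : M ≤ normalizer ((D ⊔ C : Subgroup H) : Set H) := by
    refine le_sup_left.trans (heq.ge.trans (sup_le ?_ (le_sup_right.trans Subgroup.le_normalizer)))
    exact fun g hg => normalizer_inf_le_normalizer_sup D C ⟨hDn hg, hNC (hLY hg)⟩
  have hMD' : M ≤ normalizer ((M ⊓ (D ⊔ C) : Subgroup H) : Set H) := fun g hg =>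
    Subgroup.inf_normalizer_le_normalizer_inf ⟨Subgroup.le_normalizer hg, hMD hg⟩
  have hkey : M ⊓ (D ⊔ C) ≤ C := le_centralizer_largestPReducedOf inf_le_left hMD'
    (powMem_mono (powMem_sup_left hDC hpm) inf_le_right le_rfl)
  intro d hd
  have hd' : d ∈ M ⊔ C := heq ▸ Subgroup.mem_sup_left (hDL hd)
  rw [← SetLike.mem_coe, Subgroup.coe_mul_of_left_le_normalizer_right _ _ (hMY.trans hNC)] at hd'
  obtain ⟨m, hm, c, hc, rfl⟩ := hd'
  have hmD : m ∈ D ⊔ C := by
    simpa using mul_mem (Subgroup.mem_sup_left (T := C) hd) (Subgroup.mem_sup_right (inv_mem hc))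
  exact mul_mem (hkey ⟨hm, hmD⟩) hc

end Cfsg.Agent.S2822
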