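import Cfsg.Statements.S2805
import Cfsg.Agent.PReduced.CharP
import Cfsg.Agent.PReduced.Average
import Mathlib

set_option autoImplicit false
open Cfsg

namespace Cfsg.Agent.S2805

open Subgroup CfsgLib.PReduced

variable {G : Type*} [Group G] {p : ℕ}

/-- `Ω₁` of the centre. -/
abbrev omegaZ (p : ℕ) (S : Subgroup G) : Subgroup G := Cfsg.omegaOne p (S ⊓ centralizer (S : Set G))

theorem mem_omegaZ {S : Subgroup G} {x : G} :
    x ∈ omegaZ p S ↔ x ∈ S ∧ x ∈ centralizer (S : Set G) ∧ x ^ p = 1 := by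
  constructor
  · intro hx
    induction hx using closure_induction with
    | mem y hy => exact ⟨hy.1.1, hy.1.2, hy.2⟩
    | one => exact ⟨one_mem _, one_mem _, one_pow p⟩
    | mul a b _ _ ha hb =>
        refine ⟨mul_mem ha.1 hb.1, mul_mem ha.2.1 hb.2.1, ?_⟩
        have hc : Commute a b := (mem_centralizer_iff.mp hb.2.1 a ha.1 :)
        rw [hc.mul_pow, ha.2.2, hb.2.2, one_mul]
    | inv a _ ha => exact ⟨inv_mem ha.1, inv_mem ha.2.1, by rw [inv_pow, ha.2.2, inv_one]⟩
  · exact fun h => subset_closure ⟨⟨h.1, h.2.1⟩, h.2.2⟩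

theorem omegaZ_le_centralizer (S : Subgroup G) : omegaZ p S ≤ centralizer (omegaZ p S : Set G) := by
  intro x hx
  rw [mem_centralizer_iff]
  exact fun y hy => mem_centralizer_iff.mp (mem_omegaZ.mp hx).2.1 y (mem_omegaZ.mp hy).1

theorem normalizer_le_normalizer_omegaZ (S : Subgroup G) :
    normalizer (S : Set G) ≤ normalizer (omegaZ p S : Set G) := by
  have key : ∀ g ∈ normalizer (S : Set G), ∀ x ∈ omegaZ p S, g * x * g⁻¹ ∈ omegaZ p S := fun g hg x hx => by
    obtain ⟨h1, h2, h3⟩ := mem_omegaZ.mp hx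
    refine mem_omegaZ.mpr ⟨(mem_normalizer_iff.mp hg x).mp h1, ?_, by rw [conj_pow, h3, mul_one, mul_inv_cancel]⟩
    exact (mem_normalizer_iff.mp (normalizer_le_normalizer_centralizer S hg) x).mp h2
  intro g hg
  refine mem_normalizer_iff.mpr fun x => ⟨key g hg x, fun h => ?_⟩
  simpa [mul_assoc] using key g⁻¹ (inv_mem hg) _ h

/-- `S` is a Sylow subgroup of `K`. -/
def IsSyl (p : ℕ) (S K : Subgroup G) : Prop := S ≤ K ∧ IsPGroup p S ∧ ¬ p ∣ S.relIndex K

theorem pCoreOf_le_of_isSyl [Finite G] [Fact p.Prime] {S K : Subgroup G} (hS : IsSyl p S K) :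
    Cfsg.pCoreOf p K ≤ S := by
  rintro _ ⟨y, hy, rfl⟩
  exact pCore_le_sylow (IsPGroup.toSylow (hS.2.1.of_equiv (subgroupOfEquivOfLe hS.1).symm) hS.2.2) hy

theorem mem_pCoreOf_of_centralizes [Finite G] [Fact p.Prime] {K : Subgroup G} (hK : CharPOf p K) {x : G}
    (hx : x ∈ K) (hc : x ∈ centralizer (Cfsg.pCoreOf p K : Set G)) : x ∈ Cfsg.pCoreOf p K :=
  ⟨⟨x, hx⟩, (charPOf_iff K).mp hK (mem_centralizer_iff.mpr fun q hq =>
    Subtype.ext (mem_centralizer_iff.mp hc _ ⟨q, hq, rfl⟩)), rfl⟩

theorem isSyl_inf [Finite G] [Fact p.Prime] {S K L : Subgroup G} (hS : IsSyl p S K) (hLK : L ≤ K)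
    (hn : K ≤ normalizer (L : Set G)) : IsSyl p (S ⊓ L) L := by
  refine ⟨inf_le_right, hS.2.1.to_le inf_le_left, ?_⟩
  haveI : (L.subgroupOf K).Normal := normal_subgroupOf_of_le_normalizer hn
  obtain ⟨P, hP⟩ := exists_sylow_inf (IsPGroup.toSylow (hS.2.1.of_equiv (subgroupOfEquivOfLe hS.1).symm) hS.2.2)
    (L.subgroupOf K)
  have h : ¬ p ∣ (P : Subgroup ↥(L.subgroupOf K)).index := P.not_dvd_index
  rw [hP] at h
  change ¬ p ∣ ((S.subgroupOf K) ⊓ L.subgroupOf K).relIndex (L.subgroupOf K) at h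
  rw [inf_relIndex_right, relIndex_subgroupOf hLK] at h
  rwa [inf_relIndex_right]

open scoped IsMulCommutative in
/-- One normal step of Kieler's lemma. -/
theorem step [Finite G] [Fact p.Prime] {S K L : Subgroup G} (hS : IsSyl p S K) (hK : CharPOf p K) (hLK : L ≤ K)
    (hn : K ≤ normalizer (L : Set G)) :
    L ⊓ centralizer (omegaZ p S : Set G) = L ⊓ centralizer (omegaZ p (S ⊓ L) : Set G) := by
  classical
  have hL : CharPOf p L := hK.of_normal hLK hn
  have hS0 := isSyl_inf hS hLK hn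
  set S0 := S ⊓ L with hS0def
  have hS0n : S ≤ normalizer (S0 : Set G) := fun s hs =>
    inf_normalizer_le_normalizer_inf ⟨le_normalizer hs, hn (hS.1 hs)⟩
  have hcop : ∀ R : Subgroup G, S0 ≤ R → R ≤ L → (S0.relIndex R).Coprime p := by
    intro R h1 h2
    refine ((Fact.out : p.Prime).coprime_iff_not_dvd.mpr fun hd => hS0.2.2 ?_).symm
    exact hd.trans (Dvd.intro _ (relIndex_mul_relIndex _ _ _ h1 h2))
  apply le_antisymm
  · -- elements of `L` centralizing the larger centre centralize the smaller one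
    set Y := L ⊓ centralizer (omegaZ p S : Set G) with hY
    refine le_inf inf_le_left ?_
    rw [le_centralizer_iff]
    intro v hv
    obtain ⟨hvS0, hvc, hvp⟩ := mem_omegaZ.mp hv
    have hS0Y : S0 ≤ Y := le_inf inf_le_right (fun s hs => mem_centralizer_iff.mpr fun z hz =>
      (mem_centralizer_iff.mp (mem_omegaZ.mp hz).2.1 s hs.1).symm)
    set A := omegaZ p (Cfsg.pCoreOf p L) with hA
    haveI : IsMulCommutative A := ⟨⟨fun a b => Subtype.ext
      (mem_centralizer_iff.mp (omegaZ_le_centralizer _ b.2) a a.2)⟩⟩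
    have hKA : K ≤ normalizer (A : Set G) :=
      hn.trans ((normalizer_le_normalizer_pCoreOf L).trans (normalizer_le_normalizer_omegaZ _))
    have hYA : Y ≤ normalizer (A : Set G) := inf_le_left.trans (hLK.trans hKA)
    have hAS0 : A ≤ S0 := fun a ha => pCoreOf_le_of_isSyl hS0 (mem_omegaZ.mp ha).1
    set C := A ⊓ centralizer (S0 : Set G) with hC
    have hcA : ∀ (r : Y) (a : C), (r : G) * a * (r : G)⁻¹ ∈ A := fun r a =>
      (mem_normalizer_iff.mp (hYA r.2) _).mp a.2.1
    letI : Fintype (↥Y ⧸ S0.subgroupOf Y) := Fintype.ofFinite _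
    let tr : C →* A :=
      { toFun := fun a => ∏ q : ↥Y ⧸ S0.subgroupOf Y, ⟨(q.out : G) * a * (q.out : G)⁻¹, hcA q.out a⟩
        map_one' := Finset.prod_eq_one fun q _ => Subtype.ext (by simp)
        map_mul' := fun a b => by
          rw [← Finset.prod_mul_distrib]
          exact Finset.prod_congr rfl fun q _ => Subtype.ext (by simp [mul_assoc]) }
    have hrep : ∀ (r : Y) (a : C), ((QuotientGroup.mk r : ↥Y ⧸ S0.subgroupOf Y).out : G) * a *
        ((QuotientGroup.mk r : ↥Y ⧸ S0.subgroupOf Y).out : G)⁻¹ = (r : G) * a * (r : G)⁻¹ := by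
      intro r a
      obtain ⟨h, hh⟩ := QuotientGroup.mk_out_eq_mul (S0.subgroupOf Y) r
      rw [hh]
      have h2 : ((h : Y) : G) * a = a * ((h : Y) : G) :=
        mem_centralizer_iff.mp a.2.2 _ (mem_subgroupOf.mp h.2)
      simp only [Subgroup.coe_mul, mul_inv_rev]
      calc (r : G) * ((h : Y) : G) * a * (((h : Y) : G)⁻¹ * (r : G)⁻¹)
          = (r : G) * (((h : Y) : G) * a) * (((h : Y) : G)⁻¹ * (r : G)⁻¹) := by group
        _ = (r : G) * a * (r : G)⁻¹ := by rw [h2]; group
    have hfix : ∀ a : C, (∀ r : Y, (r : G) * a * (r : G)⁻¹ = a) → (tr a : G) = (a : G) ^ S0.relIndex Y := by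
      intro a ha
      have : tr a = (⟨(a : G), a.2.1⟩ : A) ^ Fintype.card (↥Y ⧸ S0.subgroupOf Y) := by
        refine (Finset.prod_eq_pow_card fun q _ => Subtype.ext ?_).trans (by rw [Finset.card_univ])
        exact ha q.out
      rw [this, SubmonoidClass.coe_pow, ← Nat.card_eq_fintype_card]
      rfl
    have htrY : ∀ (a : C) (r : Y), (r : G) * (tr a : G) * (r : G)⁻¹ = tr a := by
      intro a r
      let φ : A →* A :=
        { toFun := fun x => ⟨(r : G) * x * (r : G)⁻¹, (mem_normalizer_iff.mp (hYA r.2) _).mp x.2⟩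
          map_one' := Subtype.ext (by simp)
          map_mul' := fun x y => Subtype.ext (by simp [mul_assoc]) }
      have h : φ (tr a) = tr a := by
        simp only [tr, MonoidHom.coe_mk, OneHom.coe_mk, map_prod]
        refine Fintype.prod_equiv (MulAction.toPerm r) _ _ fun q => ?_
        induction q using QuotientGroup.induction_on with
        | H x =>
          refine Subtype.ext ?_
          show (r : G) * (((QuotientGroup.mk x : ↥Y ⧸ S0.subgroupOf Y).out : G) * a *
              ((QuotientGroup.mk x : ↥Y ⧸ S0.subgroupOf Y).out : G)⁻¹) * (r : G)⁻¹ =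
            ((QuotientGroup.mk (r * x) : ↥Y ⧸ S0.subgroupOf Y).out : G) * a *
              ((QuotientGroup.mk (r * x) : ↥Y ⧸ S0.subgroupOf Y).out : G)⁻¹
          rw [hrep, hrep, Subgroup.coe_mul]
          group
      exact congrArg Subtype.val h
    have hCS : C ≤ S := inf_le_left.trans (hAS0.trans inf_le_left)
    have hSY : S ≤ normalizer (Y : Set G) := by
      intro s hs
      refine inf_normalizer_le_normalizer_inf ⟨hn (hS.1 hs), le_normalizer (mem_centralizer_iff.mpr fun z hz => ?_)⟩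
      exact (mem_centralizer_iff.mp (mem_omegaZ.mp hz).2.1 s hs).symm
    have hker : (tr.ker.map C.subtype) = ⊥ := by
      by_contra hne
      have hn' : S ≤ normalizer ((tr.ker.map C.subtype : Subgroup G) : Set G) := by
        have key : ∀ s ∈ S, ∀ x ∈ tr.ker.map C.subtype, s * x * s⁻¹ ∈ tr.ker.map C.subtype := by
          rintro s hs _ ⟨a, ha, rfl⟩
          have hsC : s * (a : G) * s⁻¹ ∈ C :=
            ⟨(mem_normalizer_iff.mp (hKA (hS.1 hs)) _).mp a.2.1,
              (mem_normalizer_iff.mp (normalizer_le_normalizer_centralizer S0 (hS0n hs)) _).mp a.2.2⟩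
          refine ⟨⟨_, hsC⟩, ?_, rfl⟩
          let φ : A →* A :=
            { toFun := fun x => ⟨s * x * s⁻¹, (mem_normalizer_iff.mp (hKA (hS.1 hs)) _).mp x.2⟩
              map_one' := Subtype.ext (by simp)
              map_mul' := fun x y => Subtype.ext (by simp [mul_assoc]) }
          let σ : Y → Y := fun r => ⟨s * r * s⁻¹, (mem_normalizer_iff.mp (hSY hs) _).mp r.2⟩
          let ψ : (↥Y ⧸ S0.subgroupOf Y) → (↥Y ⧸ S0.subgroupOf Y) := Quotient.map σ fun x y h => by
            refine QuotientGroup.leftRel_apply.mpr ?_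
            have h' : (x : G)⁻¹ * y ∈ S0 := by
              simpa [mem_subgroupOf] using QuotientGroup.leftRel_apply.mp h
            have h2 := (mem_normalizer_iff.mp (hS0n hs) _).mp h'
            show (s * (x : G) * s⁻¹)⁻¹ * (s * (y : G) * s⁻¹) ∈ S0
            simpa [mul_assoc] using h2
          have hψ : Function.Surjective ψ := by
            intro q
            induction q using QuotientGroup.induction_on with
            | H x =>
              refine ⟨QuotientGroup.mk (⟨s⁻¹ * x * s, by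
                simpa using (mem_normalizer_iff.mp (inv_mem (hSY hs)) _).mp x.2⟩ : Y), ?_⟩
              show QuotientGroup.mk (⟨s * (s⁻¹ * x * s) * s⁻¹, _⟩ : Y) = _
              congr 1
              exact Subtype.ext (by group)
          have h : φ (tr a) = tr (⟨_, hsC⟩ : C) := by
            simp only [tr, MonoidHom.coe_mk, OneHom.coe_mk, map_prod]
            refine Fintype.prod_bijective ψ ⟨Finite.injective_iff_surjective.mpr hψ, hψ⟩ _ _ fun q => ?_
            induction q using QuotientGroup.induction_on with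
            | H x =>
              refine Subtype.ext ?_
              show s * (((QuotientGroup.mk x : ↥Y ⧸ S0.subgroupOf Y).out : G) * a *
                  ((QuotientGroup.mk x : ↥Y ⧸ S0.subgroupOf Y).out : G)⁻¹) * s⁻¹ =
                ((QuotientGroup.mk (σ x) : ↥Y ⧸ S0.subgroupOf Y).out : G) * (s * (a : G) * s⁻¹) *
                  ((QuotientGroup.mk (σ x) : ↥Y ⧸ S0.subgroupOf Y).out : G)⁻¹
              rw [hrep, show ((QuotientGroup.mk (σ x) : ↥Y ⧸ S0.subgroupOf Y).out : G) * (s * (a : G) * s⁻¹) *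
                  ((QuotientGroup.mk (σ x) : ↥Y ⧸ S0.subgroupOf Y).out : G)⁻¹ =
                (σ x : G) * (s * (a : G) * s⁻¹) * (σ x : G)⁻¹ from hrep (σ x) ⟨_, hsC⟩]
              show s * ((x : G) * a * (x : G)⁻¹) * s⁻¹ = s * x * s⁻¹ * (s * a * s⁻¹) * (s * x * s⁻¹)⁻¹
              group
          rw [MonoidHom.mem_ker.mp ha, map_one] at h
          exact MonoidHom.mem_ker.mpr h.symm
        intro s hs
        refine mem_normalizer_iff.mpr fun x => ⟨key s hs x, fun h => ?_⟩
        simpa [mul_assoc] using key s⁻¹ (inv_mem hs) _ h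
      obtain ⟨z, hz, hzp, hzS⟩ := exists_central_of_normalized S hS.2.1
        ((map_subtype_le _).trans hCS) hn' hne
      obtain ⟨a, ha, rfl⟩ := hz
      have hzZ : (a : G) ∈ omegaZ p S :=
        mem_omegaZ.mpr ⟨hCS a.2, mem_centralizer_iff.mpr hzS, hzp ▸ pow_orderOf_eq_one _⟩
      have h := hfix a fun r => mul_inv_eq_iff_eq_mul.mpr (mem_centralizer_iff.mp r.2.2 _ hzZ).symm
      rw [MonoidHom.mem_ker.mp ha, OneMemClass.coe_one] at h
      have h1 : orderOf (a : G) ∣ S0.relIndex Y := orderOf_dvd_of_pow_eq_one h.symm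
      rw [show orderOf (a : G) = p from hzp] at h1
      exact (Fact.out : p.Prime).coprime_iff_not_dvd.mp (hcop Y hS0Y inf_le_left).symm h1
    have hvQ : v ∈ Cfsg.pCoreOf p L :=
      mem_pCoreOf_of_centralizes hL hvS0.2 (centralizer_le (pCoreOf_le_of_isSyl hS0) hvc)
    have hvA : v ∈ A := mem_omegaZ.mpr ⟨hvQ, centralizer_le (pCoreOf_le_of_isSyl hS0) hvc, hvp⟩
    let a : C := ⟨v, hvA, hvc⟩
    have huC : (tr a : G) ∈ C := ⟨(tr a).2, mem_centralizer_iff.mpr fun s hs => by
      have := htrY a ⟨s, hS0Y hs⟩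
      exact mul_inv_eq_iff_eq_mul.mp this⟩
    have hu := hfix ⟨_, huC⟩ (htrY a)
    have hw : a ^ S0.relIndex Y * (⟨_, huC⟩ : C)⁻¹ ∈ tr.ker := by
      rw [MonoidHom.mem_ker, map_mul, map_inv, map_pow, mul_inv_eq_one]
      exact Subtype.ext (by rw [hu, SubmonoidClass.coe_pow])
    have hw' : (a : G) ^ S0.relIndex Y * (tr a : G)⁻¹ = 1 := by
      have h := mem_map_of_mem C.subtype hw
      rw [hker, mem_bot] at h
      simpa using h
    have hvm : v ^ S0.relIndex Y ∈ centralizer (Y : Set G) := by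
      rw [show v ^ S0.relIndex Y = (tr a : G) from mul_inv_eq_one.mp hw', mem_centralizer_iff]
      exact fun r hr => mul_inv_eq_iff_eq_mul.mp (htrY a ⟨r, hr⟩)
    obtain ⟨n, hn'⟩ := exists_pow_eq_self_of_coprime (x := v) (n := S0.relIndex Y)
      ((hcop Y hS0Y inf_le_left).of_dvd_right (orderOf_dvd_of_pow_eq_one hvp))
    rw [← hn']
    exact pow_mem hvm n
  · -- elements of `L` centralizing the smaller centre centralize the larger one
    set X := L ⊓ centralizer (omegaZ p S0 : Set G) with hX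
    refine le_inf inf_le_left ?_
    rw [le_centralizer_iff]
    intro z hz
    obtain ⟨hzS, hzc, hzp⟩ := mem_omegaZ.mp hz
    have hS0X : S0 ≤ X := le_inf inf_le_right (fun s hs => mem_centralizer_iff.mpr fun w hw =>
      (mem_centralizer_iff.mp (mem_omegaZ.mp hw).2.1 s hs).symm)
    set A := omegaZ p (Cfsg.pCoreOf p K) with hA
    haveI : IsMulCommutative A := ⟨⟨fun a b => Subtype.ext
      (mem_centralizer_iff.mp (omegaZ_le_centralizer _ b.2) a a.2)⟩⟩
    have hXA : X ≤ normalizer (A : Set G) :=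
      inf_le_left.trans (hLK.trans ((le_normalizer_pCoreOf K).trans (normalizer_le_normalizer_omegaZ _)))
    have hzc' := centralizer_le (pCoreOf_le_of_isSyl hS) hzc
    have hzA : z ∈ A := mem_omegaZ.mpr ⟨mem_pCoreOf_of_centralizes hK (hS.1 hzS) hzc', hzc', hzp⟩
    obtain ⟨c, hcA, d, hd, hzcd, hcX, -⟩ := average_split A X S0 (p := p) (fun a ha => (mem_omegaZ.mp ha).2.2) hXA
      (hcop X hS0X inf_le_left) hzA (fun t ht => mul_inv_eq_iff_eq_mul.mpr (mem_centralizer_iff.mp hzc t ht.2.1))
    have hdA : d ∈ A := CfsgLib.PCore.commutator_le_of_le_normalizer hXA hd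
    have hdL : d ∈ L := by
      have h1 : ⁅A, X⁆ ≤ L := by
        rw [commutator_comm]
        refine (commutator_mono (inf_le_left : X ≤ L) le_rfl).trans (CfsgLib.PCore.commutator_le_of_le_normalizer ?_)
        exact fun a ha => hn (pCoreOf_le K (mem_omegaZ.mp ha).1)
      exact h1 hd
    have hdZ : d ∈ omegaZ p S0 := by
      refine mem_omegaZ.mpr ⟨⟨pCoreOf_le_of_isSyl hS (mem_omegaZ.mp hdA).1, hdL⟩, ?_, (mem_omegaZ.mp hdA).2.2⟩
      rw [show d = c⁻¹ * z by rw [hzcd, inv_mul_cancel_left]]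
      exact mul_mem (inv_mem (centralizer_le hS0X hcX)) (centralizer_le (inf_le_left : S0 ≤ S) hzc)
    have hdX : d ∈ centralizer (X : Set G) := mem_centralizer_iff.mpr fun x hx =>
      (mem_centralizer_iff.mp hx.2 d hdZ).symm
    rw [hzcd]
    exact mul_mem hcX hdX

/-- Kieler's Lemma: let H be a finite group of characteristic p (C_H(O_p(H)) ≤ O_p(H)), T a Sylow p-subgroup of H and L a subnormal subgroup of H. Then C_L(Ω₁(Z(T))) = C_L(Ω₁(Z(T ∩ L))), Ω₁(Z(·)) denoting the elements of order dividing p in the centre. -/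
theorem result {H : Type*} [Group H] [Finite H] {p : ℕ} [Fact p.Prime] (hH : Subgroup.centralizer (Cfsg.pCore p H : Set H) ≤ Cfsg.pCore p H) (T : Sylow p H) (L : Subgroup H) (hL : L.IsSubnormal) : L ⊓ Subgroup.centralizer ((Cfsg.omegaOne p ((T : Subgroup H) ⊓ Subgroup.centralizer ((T : Subgroup H) : Set H))) : Set H) = L ⊓ Subgroup.centralizer ((Cfsg.omegaOne p (((T : Subgroup H) ⊓ L) ⊓ Subgroup.centralizer ((((T : Subgroup H) ⊓ L) : Subgroup H) : Set H))) : Set H) := by
  have key : ∀ K : Subgroup H, K.IsSubnormal → IsSyl p ((T : Subgroup H) ⊓ K) K ∧ CharPOf p K ∧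
      K ⊓ centralizer (omegaZ p (T : Subgroup H) : Set H) =
        K ⊓ centralizer (omegaZ p ((T : Subgroup H) ⊓ K) : Set H) := by
    intro K hK
    induction hK with
    | top =>
      refine ⟨⟨inf_le_right, T.isPGroup'.to_le inf_le_left, ?_⟩, ?_, by simp⟩
      · rw [inf_relIndex_right, relIndex_top_right]
        exact T.not_dvd_index
      · intro x _ hco hc
        have h1 : x ∈ Cfsg.pCore p H := hH (mem_centralizer_iff.mpr fun q hq => mem_centralizer_iff.mp hc q
          (le_pCoreOf le_top (normalizer_eq_top_iff.mpr inferInstance).ge (isPGroup_pCore p H) hq))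
        obtain ⟨k, hk⟩ := IsPGroup.iff_orderOf.mp (isPGroup_pCore p H) ⟨x, h1⟩
        rw [orderOf_mk] at hk
        rw [hk] at hco
        rcases k with _ | k
        · exact orderOf_eq_one_iff.mp (by simpa using hk)
        · exact absurd ((Nat.coprime_pow_left_iff (Nat.succ_pos k) p p).mp hco)
            (fun e => (Fact.out : p.Prime).ne_one ((Nat.coprime_self p).mp e))
    | step M K hle hsub hN ih =>
      obtain ⟨hS, hC, heq⟩ := ih
      have hn : K ≤ normalizer (M : Set H) := (normal_subgroupOf_iff_le_normalizer hle).mp hN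
      have h1 := isSyl_inf hS hle hn
      have e : (T : Subgroup H) ⊓ K ⊓ M = (T : Subgroup H) ⊓ M := by rw [inf_assoc, inf_eq_right.mpr hle]
      have h2 := step hS hC hle hn
      rw [e] at h1 h2
      refine ⟨h1, hC.of_normal hle hn, ?_⟩
      calc M ⊓ centralizer (omegaZ p (T : Subgroup H) : Set H)
          = M ⊓ (K ⊓ centralizer (omegaZ p (T : Subgroup H) : Set H)) := by
            rw [← inf_assoc, inf_eq_left.mpr hle]
        _ = M ⊓ centralizer (omegaZ p ((T : Subgroup H) ⊓ K) : Set H) := by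
            rw [heq, ← inf_assoc, inf_eq_left.mpr hle]
        _ = _ := h2
  exact (key L hL).2.2

end Cfsg.Agent.S2805
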