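import Cfsg.Statements.S2821
import Cfsg.Agent.PReduced.Basic

set_option autoImplicit false
open Cfsg

namespace Cfsg.Agent.S2821

open Subgroup CfsgLib.PReduced in
/-- `Ω₁(Z(S))` for a Sylow subgroup `S` of `L`, seen in the ambient group, lies in `Y_L`. -/
theorem sylowCenter_le {H : Type*} [Group H] [Finite H] {p : ℕ} [Fact p.Prime] (L : Subgroup H)
    (hL : centralizer (Cfsg.pCore p ↥L : Set ↥L) ≤ Cfsg.pCore p ↥L) (S : Sylow p L) :
    Cfsg.omegaOne p ((S : Subgroup L).map L.subtype ⊓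
      centralizer (((S : Subgroup L).map L.subtype : Subgroup H) : Set H)) ≤ Cfsg.largestPReducedOf p L := by
  refine (Subgroup.closure_le _).mpr ?_
  rintro x ⟨⟨⟨s, hs, rfl⟩, hxc⟩, hxp⟩
  set Z : Subgroup ↥(S : Subgroup L) := Cfsg.omegaOne p (Subgroup.center ↥(S : Subgroup L)) with hZ
  have hZc : Z ≤ Subgroup.center ↥(S : Subgroup L) := (Subgroup.closure_le _).mpr fun y hy => hy.1
  have hcc : ∀ y : ↥(S : Subgroup L), y ∈ centralizer (Z : Set ↥(S : Subgroup L)) := fun y =>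
    Subgroup.mem_centralizer_iff.mpr fun z hz => ((Subgroup.mem_center_iff.mp (hZc hz)) y).symm
  have hZr : Cfsg.IsPReducedNormal p Z := by
    refine isPReducedNormal_iff.mpr ⟨?_, ?_, fun D _ _ d _ => hcc d⟩
    · exact ⟨fun z hz g => by
        rw [Subgroup.mem_center_iff.mp (hZc hz) g, mul_inv_cancel_right]
        exact hz⟩
    · exact isElementaryAbelian_of (fun z _ => hcc z) le_rfl Subgroup.subset_closure fun y hy => hy.2
  have hr := le_largestPReduced (isPReducedNormal_normalClosure hL S _ le_rfl Z hZr)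
  refine ⟨s, hr (Subgroup.subset_normalClosure ⟨⟨s, hs⟩, Subgroup.subset_closure ⟨?_, ?_⟩, rfl⟩), rfl⟩
  · show (⟨s, hs⟩ : ↥(S : Subgroup L)) ∈ Subgroup.center ↥(S : Subgroup L)
    rw [Subgroup.mem_center_iff]
    intro y
    exact Subtype.ext (Subtype.ext (Subgroup.mem_centralizer_iff.mp hxc _ ⟨y, y.2, rfl⟩))
  · exact Subtype.ext (Subtype.ext (by simpa using hxp))

/-- Let H be a finite group, p a prime, T a Sylow p-subgroup and L a subgroup of characteristic p containing T; let Y_L be the largest p-reduced normal subgroup of L (the join of the normal elementary abelian p-subgroups V of L with O_p(L/C_L(V)) = 1). Then T₀ := C_T(Y_L) is a Sylow p-subgroup of C_H(Y_L); moreover O_p(L) ≤ T₀ ≤ C_L(Y_L) and Ω₁(Z(T)) ≤ Z_L ≤ Y_L ≤ Ω₁(Z(O_p(L))), where Z_L is generated by the Ω₁(Z(S)) over the Sylow p-subgroups S of L. -/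
theorem result {H : Type*} [Group H] [Finite H] {p : ℕ} [Fact p.Prime] (T : Sylow p H) (L : Subgroup H) (hTL : (T : Subgroup H) ≤ L) (hL : Subgroup.centralizer (Cfsg.pCore p ↥L : Set ↥L) ≤ Cfsg.pCore p ↥L) (T₀ : Subgroup H) (hT₀ : T₀ = (T : Subgroup H) ⊓ Subgroup.centralizer (((Cfsg.largestPReducedOf p L) : Subgroup H) : Set H)) : (∃ P : Sylow p ↥(Subgroup.centralizer (((Cfsg.largestPReducedOf p L) : Subgroup H) : Set H)), (P : Subgroup ↥(Subgroup.centralizer (((Cfsg.largestPReducedOf p L) : Subgroup H) : Set H))) = T₀.subgroupOf (Subgroup.centralizer (((Cfsg.largestPReducedOf p L) : Subgroup H) : Set H))) ∧ (Cfsg.pCoreOf p L) ≤ T₀ ∧ T₀ ≤ L ⊓ Subgroup.centralizer (((Cfsg.largestPReducedOf p L) : Subgroup H) : Set H) ∧ (Cfsg.omegaOne p ((T : Subgroup H) ⊓ Subgroup.centralizer (((T : Subgroup H) : Subgroup H) : Set H))) ≤ Cfsg.sylowCenterClosure p L ∧ Cfsg.sylowCenterClosure p L ≤ (Cfsg.largestPReducedOf p L) ∧ (Cfsg.largestPReducedOf p L) ≤ (Cfsg.omegaOne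 p ((Cfsg.pCoreOf p L) ⊓ Subgroup.centralizer (((Cfsg.pCoreOf p L) : Subgroup H) : Set H))) := by
  subst hT₀
  open Subgroup CfsgLib.PReduced in
  refine ⟨?_, le_inf (pCoreOf_le_sylow T hTL) (pCoreOf_le_centralizer L), inf_le_inf hTL le_rfl, ?_, ?_, ?_⟩
  · exact exists_sylow_inf_of_le T (hTL.trans (le_normalizer_largestPReducedOf L))
      (Subgroup.centralizer_le_normalizer _) (normalizer_le_normalizer_centralizer _)
  · refine le_iSup_of_le (T.subtype hTL) ?_
    rw [Sylow.coe_subtype, Subgroup.map_subgroupOf_eq_of_le hTL]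
  · exact iSup_le fun S => sylowCenter_le L hL S
  · intro y hy
    refine Subgroup.subset_closure ⟨⟨largestPReducedOf_le_pCoreOf L hy, ?_⟩,
      (isElementaryAbelian_largestPReducedOf L).2 y hy⟩
    exact Subgroup.le_centralizer_iff.mp (pCoreOf_le_centralizer L) hy

end Cfsg.Agent.S2821
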