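import Cfsg.Statements.S2824
import Cfsg.Agent.S2821
import Cfsg.Agent.S2805
import Cfsg.Agent.CoprimeAction.Abelian
import Mathlib

set_option autoImplicit false
open Cfsg

namespace Cfsg.Agent.S2824

open Subgroup CfsgLib.PReduced
open scoped commutatorElement

variable {H : Type*} [Group H] [Finite H] {p : ℕ} [Fact p.Prime]

/-- Frattini argument for `A ⊓ C`, `C` normalized by `A`. -/
theorem frattini_arg (T : Sylow p H) (A C : Subgroup H) (hTA : (T : Subgroup H) ≤ A) (hn : A ≤ normalizer (C : Set H))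
    {a : H} (ha : a ∈ A) :
    ∃ n ∈ A ⊓ normalizer (((T : Subgroup H) ⊓ C : Subgroup H) : Set H), ∃ c ∈ A ⊓ C, a = n * c := by
  haveI : (C.subgroupOf A).Normal := by
    rw [← inf_subgroupOf_left]
    exact normal_subgroupOf_of_le_normalizer fun x hx => inf_normalizer_le_normalizer_inf ⟨le_normalizer hx, hn hx⟩
  obtain ⟨P, hP⟩ := exists_sylow_inf (T.subtype hTA) (C.subgroupOf A)
  have h : (⟨a, ha⟩ : A) ∈ normalizer (((P : Subgroup _).map (C.subgroupOf A).subtype : Subgroup A) : Set A) ⊔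
      C.subgroupOf A := by
    rw [Sylow.normalizer_sup_eq_top P]; trivial
  obtain ⟨n, hn', c, hc, he⟩ := mem_sup_of_normal_right.mp h
  rw [hP, map_subgroupOf_eq_of_le inf_le_right, Sylow.coe_subtype] at hn'
  refine ⟨n, ⟨n.2, ?_⟩, c, ⟨c.2, hc⟩, (congrArg Subtype.val he).symm⟩
  refine mem_normalizer_iff.mpr fun x => ⟨fun hx => ?_, fun hx => ?_⟩
  · exact (mem_normalizer_iff.mp hn' ⟨x, hTA hx.1⟩).mp hx
  · have hxA : x ∈ A := by simpa [mul_assoc] using A.mul_mem (A.mul_mem (A.inv_mem n.2) (hTA hx.1)) n.2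
    exact (mem_normalizer_iff.mp hn' ⟨x, hxA⟩).mpr hx

/-- Let H be a finite group, p a prime, T a Sylow p-subgroup, L and M subgroups of characteristic p containing T, Y_L the largest p-reduced normal subgroup of L and T₀ = C_T(Y_L). If M·C_H(Y_L) = L·C_H(Y_L), then L* := N_M(T₀) has Y_{L*} = Y_L and L·C_H(Y_L) = L*·C_H(Y_L). -/
theorem result {H : Type*} [Group H] [Finite H] {p : ℕ} [Fact p.Prime] (T : Sylow p H) (L M : Subgroup H) (hTL : (T : Subgroup H) ≤ L) (hTM : (T : Subgroup H) ≤ M) (hL : Subgroup.centralizer (Cfsg.pCore p ↥L : Set ↥L) ≤ Cfsg.pCore p ↥L) (hM : Subgroup.centralizer (Cfsg.pCore p ↥M : Set ↥M) ≤ Cfsg.pCore p ↥M) (T₀ : Subgroup H) (hT₀ : T₀ = (T : Subgroup H) ⊓ Subgroup.centralizer (((Cfsg.largestPReducedOf p L) : Subgroup H) : Set H)) (hfac : M ⊔ Subgroup.centralizer (((Cfsg.largestPReducedOf p L) : Subgroup H) : Set H) = L ⊔ Subgroup.centralizer (((Cfsg.largestPReducedOf p L) : Subgroup H) : Set H)) (Ls : Subgroup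 H) (hLs : Ls = M ⊓ Subgroup.normalizer ((T₀ : Subgroup H) : Set H)) : (Cfsg.largestPReducedOf p Ls) = (Cfsg.largestPReducedOf p L) ∧ L ⊔ Subgroup.centralizer (((Cfsg.largestPReducedOf p L) : Subgroup H) : Set H) = Ls ⊔ Subgroup.centralizer (((Cfsg.largestPReducedOf p L) : Subgroup H) : Set H) := by
  set Y := Cfsg.largestPReducedOf p L with hY
  set C := centralizer (Y : Set H) with hC
  obtain ⟨⟨P0, hP0⟩, hOT, hT0L, hZsc, hscY, -⟩ := Cfsg.Agent.S2821.result T L hTL hL T₀ hT₀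
  have hZY : S2805.omegaZ p (T : Subgroup H) ≤ Y := hZsc.trans hscY
  have hLY : L ≤ normalizer (Y : Set H) := le_normalizer_largestPReducedOf L
  have hLC : L ≤ normalizer (C : Set H) := hLY.trans (normalizer_le_normalizer_centralizer Y)
  have hLCY : L ⊔ C ≤ normalizer (Y : Set H) := sup_le hLY (centralizer_le_normalizer _)
  have hMY : M ≤ normalizer (Y : Set H) := (hfac ▸ le_sup_left : M ≤ L ⊔ C).trans hLCY
  have hMC : M ≤ normalizer (C : Set H) := hMY.trans (normalizer_le_normalizer_centralizer Y)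
  have hT0C : T₀ ≤ C := hT₀ ▸ inf_le_right
  have hT0T : T₀ ≤ (T : Subgroup H) := hT₀ ▸ inf_le_left
  have hTN : (T : Subgroup H) ≤ normalizer (T₀ : Set H) := fun t ht => hT₀ ▸
    inf_normalizer_le_normalizer_inf ⟨le_normalizer ht, hLC (hTL ht)⟩
  set N := normalizer (T₀ : Set H) with hN
  set J := C ⊓ N with hJ
  have hNJ : ∀ A : Subgroup H, A ≤ normalizer (C : Set H) → A ⊓ N ≤ normalizer (J : Set H) := fun A hA x hx =>
    inf_normalizer_le_normalizer_inf ⟨hA hx.1, le_normalizer hx.2⟩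
  -- elements of `L ⊔ C` normalizing `T₀`
  have hdec : ∀ A : Subgroup H, (T : Subgroup H) ≤ A → A ≤ normalizer (C : Set H) → ∀ x ∈ A ⊔ C, x ∈ N →
      ∃ a ∈ A ⊓ N, ∃ c ∈ J, x = a * c := by
    intro A hTA hA x hx hxN
    rw [← SetLike.mem_coe, Subgroup.coe_mul_of_left_le_normalizer_right _ _ hA] at hx
    obtain ⟨a, ha, c, hc, rfl⟩ := hx
    obtain ⟨n, hn, c', hc', rfl⟩ := frattini_arg T A C hTA hA ha
    rw [← hT₀] at hn
    refine ⟨n, hn, c' * c, ⟨C.mul_mem hc'.2 hc, ?_⟩, mul_assoc _ _ _⟩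
    have := N.mul_mem (N.inv_mem hn.2) hxN
    simpa [mul_assoc] using this
  have hJp : ¬ p ∣ T₀.relIndex J := fun hd => by
    have h1 : ¬ p ∣ (P0 : Subgroup C).index := P0.not_dvd_index
    rw [hP0] at h1
    exact h1 (hd.trans (Dvd.intro _ (relIndex_mul_relIndex _ _ _ (le_inf hT0C le_normalizer) inf_le_left)))
  -- `J` centralizes `Ω₁Z(T₀)`
  set Z0 := S2805.omegaZ p T₀ with hZ0
  have hJZ : J ≤ centralizer (Z0 : Set H) := by
    haveI : IsMulCommutative Z0 := ⟨⟨fun a b => Subtype.ext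
      (mem_centralizer_iff.mp (S2805.omegaZ_le_centralizer _ b.2) a a.2)⟩⟩
    haveI : (T₀.subgroupOf J).Normal := normal_subgroupOf_of_le_normalizer inf_le_right
    have hT0J : T₀ ≤ J := le_inf hT0C le_normalizer
    have hT0p : IsPGroup p T₀ := T.isPGroup'.to_le hT0T
    have hT0Z : T₀ ≤ centralizer (Z0 : Set H) := fun t ht => mem_centralizer_iff.mpr fun z hz =>
      (mem_centralizer_iff.mp (S2805.mem_omegaZ.mp hz).2.1 t ht).symm
    obtain ⟨k, hk⟩ := IsPGroup.iff_card.mp (hT0p.of_equiv (subgroupOfEquivOfLe hT0J).symm)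
    obtain ⟨B, hB⟩ := Subgroup.exists_right_complement'_of_coprime (N := T₀.subgroupOf J) (by
      rw [hk]; exact ((Fact.out : p.Prime).coprime_iff_not_dvd.mpr hJp).pow_left k)
    set B' := B.map J.subtype with hB'
    have hB'J : B' ≤ J := map_subtype_le _
    have hsup : J ≤ T₀ ⊔ B' := fun j hj => by
      have h := hB.sup_eq_top ▸ mem_top (⟨j, hj⟩ : J)
      have h2 := mem_map_of_mem J.subtype h
      rwa [Subgroup.map_sup, map_subgroupOf_eq_of_le hT0J] at h2
    have hZn : N ≤ normalizer (Z0 : Set H) := S2805.normalizer_le_normalizer_omegaZ _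
    have hBn : B' ≤ normalizer (Z0 : Set H) := hB'J.trans (inf_le_right.trans hZn)
    have hcop : (Nat.card B').Coprime (Nat.card Z0) := by
      have hZp : IsPGroup p Z0 := hT0p.to_le fun z hz => (S2805.mem_omegaZ.mp hz).1
      obtain ⟨i, hi⟩ := IsPGroup.iff_card.mp hZp
      rw [hi, hB', card_map_of_injective J.subtype_injective]
      have hc : Nat.card B = T₀.relIndex J := hB.symm.index_eq_card.symm
      rw [hc]
      exact (((Fact.out : p.Prime).coprime_iff_not_dvd.mpr hJp).pow_left i).symm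
    set D := ⁅Z0, J⁆ with hD
    have hDB : D ≤ ⁅Z0, B'⁆ := by
      rw [hD, commutator_le]
      intro z hz j hj
      have hj' := hsup hj
      have hBT : B' ≤ normalizer (T₀ : Set H) := hB'J.trans inf_le_right
      rw [← SetLike.mem_coe, sup_comm, Subgroup.coe_mul_of_left_le_normalizer_right _ _ hBT] at hj'
      obtain ⟨b, hb, t, ht, rfl⟩ := hj'
      have h2 : t * z⁻¹ * t⁻¹ = z⁻¹ :=
        mul_inv_eq_iff_eq_mul.mpr (mem_centralizer_iff.mp (hT0Z ht) _ (Z0.inv_mem hz)).symm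
      have h3 : ⁅z, b * t⁆ = ⁅z, b⁆ := by
        simp only [commutatorElement_def]
        calc z * (b * t) * z⁻¹ * (b * t)⁻¹ = z * b * (t * z⁻¹ * t⁻¹) * b⁻¹ := by group
          _ = z * b * z⁻¹ * b⁻¹ := by rw [h2]
      rw [h3]
      exact commutator_mem_commutator hz hb
    have hDZ : D ≤ Z0 := CfsgLib.PCore.commutator_le_of_le_normalizer (inf_le_right.trans hZn)
    have hDbot : D = ⊥ := by
      by_contra hne
      have hTJ : (T : Subgroup H) ≤ normalizer (J : Set H) :=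
        (le_inf le_rfl hTN).trans (hNJ _ (hTL.trans hLC))
      obtain ⟨z, hz, hzp, hzc⟩ := exists_central_of_normalized _ T.isPGroup'
        ((hDZ.trans fun z hz => (S2805.mem_omegaZ.mp hz).1).trans hT0T)
        (CfsgLib.PCore.le_normalizer_commutator (hTN.trans hZn) hTJ) hne
      have hzY : z ∈ Y := hZY (S2805.mem_omegaZ.mpr ⟨hT0T ((S2805.mem_omegaZ.mp (hDZ hz)).1),
        mem_centralizer_iff.mpr hzc, hzp ▸ pow_orderOf_eq_one z⟩)
      have hzB : z ∈ centralizer (B' : Set H) := mem_centralizer_iff.mpr fun b hb =>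
        (mem_centralizer_iff.mp (hB'J hb).1 z hzY).symm
      have h0 : z ∈ (Z0 ⊓ centralizer (B' : Set H)) ⊓ ⁅Z0, B'⁆ := ⟨⟨hDZ hz, hzB⟩, hDB hz⟩
      rw [CfsgLib.CoprimeAction.centralizer_inf_commutator_eq_bot hBn hcop, mem_bot] at h0
      exact (Fact.out : p.Prime).ne_one (by rw [← hzp, h0, orderOf_one])
    exact le_centralizer_iff.mp (commutator_eq_bot_iff_le_centralizer.mp hDbot)
  -- centralizers in `A` of `Y` centralize `Ω₁Z(T₀)`
  have hKie : ∀ A : Subgroup H, (T : Subgroup H) ≤ A → A ≤ normalizer (C : Set H) → CharPOf p A →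
      A ⊓ C ≤ centralizer (Z0 : Set H) := by
    intro A hTA hA hchar
    have hS : S2805.IsSyl p (T : Subgroup H) A := ⟨hTA, T.isPGroup', fun hd => T.not_dvd_index
      (hd.trans (relIndex_dvd_index_of_le hTA))⟩
    have h := S2805.step hS hchar (inf_le_left : A ⊓ C ≤ A)
      (fun a ha => inf_normalizer_le_normalizer_inf ⟨le_normalizer ha, hA ha⟩)
    have e : (T : Subgroup H) ⊓ (A ⊓ C) = T₀ := by rw [← inf_assoc, inf_eq_left.mpr hTA, hT₀]
    rw [e] at h
    exact (le_inf le_rfl (inf_le_right.trans (centralizer_le hZY))).trans (h.le.trans inf_le_right)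
  have hLchar : CharPOf p L := (charPOf_iff L).mpr hL
  have hsup2 : L ⊔ C = Ls ⊔ C := by
    refine le_antisymm ?_ (sup_le_sup_right (hLs ▸ inf_le_left) _ |>.trans hfac.le)
    rw [← hfac]
    refine sup_le (fun m hm => ?_) le_sup_right
    obtain ⟨n, hn, c, hc, rfl⟩ := frattini_arg T M C hTM hMC hm
    rw [← hT₀] at hn
    exact mul_mem ((le_sup_left : Ls ≤ Ls ⊔ C) (hLs ▸ hn)) ((le_sup_right : C ≤ Ls ⊔ C) hc.2)
  refine ⟨?_, hsup2⟩
  have hTLs : (T : Subgroup H) ≤ Ls := hLs ▸ le_inf hTM hTN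
  have hLsM : Ls ≤ M := hLs ▸ inf_le_left
  have hLsN : Ls ≤ N := hLs ▸ inf_le_right
  have hYT : Y ≤ T₀ := (largestPReducedOf_le_pCoreOf L).trans hOT
  set Ys := Cfsg.largestPReducedOf p Ls with hYs
  apply le_antisymm
  · -- `Y*` lies in `Y`
    have hYsC : Ys ≤ centralizer (T₀ : Set H) := le_centralizer_iff.mp
      ((le_pCoreOf (hT0T.trans hTLs) hLsN (T.isPGroup'.to_le hT0T)).trans (pCoreOf_le_centralizer Ls))
    have hYsT : Ys ≤ (T : Subgroup H) := (largestPReducedOf_le_pCoreOf Ls).trans (pCoreOf_le_sylow T hTLs)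
    have hYsZ : Ys ≤ Z0 := fun y hy => S2805.mem_omegaZ.mpr
      ⟨hT₀ ▸ ⟨hYsT hy, centralizer_le hYT (hYsC hy)⟩, hYsC hy, (isElementaryAbelian_largestPReducedOf Ls).2 y hy⟩
    have hJc : J ≤ centralizer (Ys : Set H) := hJZ.trans (centralizer_le hYsZ)
    have hCL : L ⊓ C ≤ centralizer (Ys : Set H) := (hKie L hTL hLC hLchar).trans (centralizer_le hYsZ)
    have hLn : L ≤ normalizer (Ys : Set H) := by
      intro l hl
      obtain ⟨n, hn, c, hc, rfl⟩ := frattini_arg T L C hTL hLC hl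
      rw [← hT₀] at hn
      refine mul_mem ?_ (centralizer_le_normalizer _ (hCL hc))
      obtain ⟨a, ha, d, hd, rfl⟩ := hdec M hTM hMC n (hfac ▸ (le_sup_left : L ≤ L ⊔ C) hn.1) hn.2
      exact mul_mem (le_normalizer_largestPReducedOf Ls (hLs ▸ ha)) (centralizer_le_normalizer _ (hJc hd))
    refine le_largestPReducedOf (hYsT.trans hTL) hLn (isElementaryAbelian_largestPReducedOf Ls) ?_
    intro D hDL hLD hpm
    set D2 := (D ⊔ L ⊓ C) ⊓ N with hD2
    have hD'L : D ⊔ L ⊓ C ≤ L := sup_le hDL inf_le_left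
    have hLD' : L ≤ normalizer ((D ⊔ L ⊓ C : Subgroup H) : Set H) := fun l hl => by
      rw [mem_normalizer_iff_map_conj_eq, Subgroup.map_sup, mem_normalizer_iff_map_conj_eq.mp (hLD hl),
        mem_normalizer_iff_map_conj_eq.mp
          ((inf_normalizer_le_normalizer_inf ⟨le_normalizer hl, hLC hl⟩ : l ∈ normalizer ((L ⊓ C : Subgroup H) : Set H)))]
    have hpm' : PowMem p (D ⊔ L ⊓ C) (centralizer (Ys : Set H)) := powMem_mono
      (powMem_sup_left (hDL.trans (hLn.trans (normalizer_le_normalizer_centralizer Ys))) hpm)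
      (sup_le_sup_left hCL D) le_rfl
    set E := Ls ⊓ (D2 ⊔ J) with hE
    have hD2J : D2 ≤ normalizer (J : Set H) := (inf_le_inf_right N hD'L).trans (hNJ L hLC)
    have hEn : Ls ≤ normalizer (E : Set H) := by
      intro a ha
      refine inf_normalizer_le_normalizer_inf ⟨le_normalizer ha, ?_⟩
      obtain ⟨l, hl, c, hc, rfl⟩ := hdec L hTL hLC a (hfac ▸ (le_sup_left : M ≤ M ⊔ C) (hLsM ha)) (hLsN ha)
      refine mul_mem ?_ (le_normalizer ((le_sup_right : J ≤ D2 ⊔ J) hc))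
      show l ∈ normalizer ((D2 ⊔ J : Subgroup H) : Set H)
      rw [mem_normalizer_iff_map_conj_eq, Subgroup.map_sup, mem_normalizer_iff_map_conj_eq.mp (hNJ L hLC hl),
        mem_normalizer_iff_map_conj_eq.mp
          ((inf_normalizer_le_normalizer_inf ⟨hLD' hl.1, le_normalizer hl.2⟩ : l ∈ normalizer (D2 : Set H)))]
    have hEc : E ≤ centralizer (Ys : Set H) := by
      refine le_centralizer_largestPReducedOf inf_le_left hEn ?_
      refine powMem_mono ?_ (le_refl _) le_rfl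
      refine powMem_mono (powMem_sup_left ?_ (powMem_mono hpm' (inf_le_left : D2 ≤ D ⊔ L ⊓ C) le_rfl))
        (inf_le_right.trans (sup_le_sup_left hJc D2)) le_rfl
      exact inf_le_left.trans (hD'L.trans (hLn.trans (normalizer_le_normalizer_centralizer Ys)))
    intro d hd
    obtain ⟨n, hn, c, hc, rfl⟩ := frattini_arg T L C hTL hLC (hDL hd)
    rw [← hT₀] at hn
    have hnD : n ∈ D2 := ⟨by
      simpa using mul_mem ((le_sup_left : D ≤ D ⊔ L ⊓ C) hd) (inv_mem ((le_sup_right : L ⊓ C ≤ D ⊔ L ⊓ C) hc)), hn.2⟩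
    refine mul_mem ?_ (hCL hc)
    obtain ⟨a, ha, e, he, rfl⟩ := hdec M hTM hMC n (hfac ▸ (le_sup_left : L ≤ L ⊔ C) hn.1) hn.2
    refine mul_mem (hEc ⟨hLs ▸ ha, ?_⟩) (hJc he)
    simpa using mul_mem ((le_sup_left : D2 ≤ D2 ⊔ J) hnD) (inv_mem ((le_sup_right : J ≤ D2 ⊔ J) he))
  · -- `Y` lies in `Y*`
    refine le_largestPReducedOf (hYT.trans (hT0T.trans hTLs)) (hLsM.trans hMY)
      (isElementaryAbelian_largestPReducedOf L) ?_
    intro D hDLs hLsD hpm d hd
    have hDn : D ≤ normalizer (C : Set H) := hDLs.trans (hLsM.trans hMC)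
    set E := L ⊓ (D ⊔ C) with hE
    have hEn : L ≤ normalizer (E : Set H) := by
      intro l hl
      refine inf_normalizer_le_normalizer_inf ⟨le_normalizer hl, ?_⟩
      have hl' : l ∈ Ls ⊔ C := hsup2 ▸ (le_sup_left : L ≤ L ⊔ C) hl
      refine (sup_le ?_ (le_sup_right.trans le_normalizer) : Ls ⊔ C ≤ normalizer ((D ⊔ C : Subgroup H) : Set H)) hl'
      intro a ha
      rw [mem_normalizer_iff_map_conj_eq, Subgroup.map_sup, mem_normalizer_iff_map_conj_eq.mp (hLsD ha),
        mem_normalizer_iff_map_conj_eq.mp (hMC (hLsM ha))]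
    have hEc : E ≤ C := le_centralizer_largestPReducedOf inf_le_left hEn
      (powMem_mono (powMem_sup_left hDn hpm) inf_le_right le_rfl)
    have hd' : d ∈ L ⊔ C := hsup2.symm ▸ (le_sup_left : Ls ≤ Ls ⊔ C) (hDLs hd)
    rw [← SetLike.mem_coe, Subgroup.coe_mul_of_left_le_normalizer_right _ _ hLC] at hd'
    obtain ⟨l, hl, c, hc, rfl⟩ := hd'
    refine C.mul_mem (hEc ⟨hl, ?_⟩) hc
    simpa using mul_mem ((le_sup_left : D ≤ D ⊔ C) hd) (inv_mem ((le_sup_right : C ≤ D ⊔ C) hc))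

end Cfsg.Agent.S2824
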