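import Cfsg.Statements.S5186
import Mathlib
import Cfsg.Agent.H29.CubeEssential.Main

set_option autoImplicit false
universe u
open Cfsg

namespace Cfsg.Agent.S5186

/-- Let F be a saturated fusion system over a finite p-group S and H an essential subgroup of order p³. Then H is elementary abelian, or p is odd and H is extraspecial of exponent p, or p = 2 and H is the quaternion group of order 8. -/
theorem result {Ω : Type u} [Group Ω] {S : Subgroup Ω} [Finite S] (p : ℕ) [Fact p.Prime] (hS : IsPGroup p S)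
    (F : Cfsg.FusionSystem S) (hF : F.IsSaturated p) (H : Subgroup Ω) (hH : F.IsEssential p H) (hcard : Nat.card H = p ^ 3) :
    Cfsg.IsElementaryAbelian p H ∨ (Odd p ∧ Cfsg.IsExtraspecial p ↥H ∧ ∀ x ∈ H, x ^ p = 1) ∨
      (p = 2 ∧ Nonempty (↥H ≃* QuaternionGroup 2)) := by
  haveI : Finite H := CfsgLib.Fusion.finite_of_le hH.1.1
  rcases CfsgLib.H29.CubeEssential.trichotomy (p := p) (H := H) hcard with ⟨he, hc⟩ | ⟨ho, hx, he⟩ | h | h
  · exact Or.inl ⟨⟨⟨hc⟩⟩, fun a ha => congrArg Subtype.val (he ⟨a, ha⟩)⟩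
  · exact Or.inr (Or.inl ⟨ho, hx, fun a ha => congrArg Subtype.val (he ⟨a, ha⟩)⟩)
  · exact Or.inr (Or.inr h)
  · exact absurd h (CfsgLib.H29.CubeEssential.no_chain H hH hcard)

end Cfsg.Agent.S5186
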