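import Cfsg.Statements.S2972
import Cfsg.Agent.ZpStarMin.Basic
import Cfsg.Agent.PCore.Descent
import Cfsg.Agent.S0542

set_option autoImplicit false
open Cfsg

namespace Cfsg.Agent.S2972

theorem exists_minimal_normal {G : Type*} [Group G] [Finite G] (T : Subgroup G) (hT : T.Normal) (hne : T ≠ ⊥) :
    ∃ N : Subgroup G, N.Normal ∧ N ≠ ⊥ ∧ N ≤ T ∧ ∀ M : Subgroup G, M.Normal → M ≠ ⊥ → M ≤ N → M = N := by
  obtain ⟨N, ⟨hN, hN1, hNT⟩, hmin⟩ :=
    Set.Finite.exists_minimal (s := {M : Subgroup G | M.Normal ∧ M ≠ ⊥ ∧ M ≤ T}) (Set.toFinite _) ⟨T, hT, hne, le_rfl⟩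
  exact ⟨N, hN, hN1, hNT, fun M hM hM1 hMN => le_antisymm hMN (hmin ⟨hM, hM1, hMN.trans hNT⟩ hMN)⟩

/-- Let G be a finite group, p a prime and x ∈ G an isolated element of order p (the only conjugate of x commuting with x is x) which is not central modulo the largest normal subgroup of order prime to p, while x is central modulo the largest normal subgroup of order prime to p in every proper subgroup containing x, and the image of x is so in every quotient of G by a nontrivial normal subgroup (a minimal counterexample to the Z*_p statement). Then the derived subgroup G' is a non-abelian simple group and G = G'⟨x⟩. -/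
theorem result {G : Type*} [Group G] [Finite G] {p : ℕ} [Fact p.Prime] (x : G) (hx : orderOf x = p) (hiso : Cfsg.IsIsolated x) (hnz : ¬ Cfsg.InZStar p x) (hmin : ∀ (H : Subgroup G) (hxH : x ∈ H), H ≠ ⊤ → Cfsg.InZStar p (⟨x, hxH⟩ : ↥H)) (hquot : ∀ (N : Subgroup G) [N.Normal], N ≠ ⊥ → Cfsg.InZStar p (QuotientGroup.mk x : G ⧸ N)) : IsSimpleGroup ↥(commutator G) ∧ ¬ IsMulCommutative ↥(commutator G) ∧ commutator G ⊔ Subgroup.zpowers x = ⊤ := by
  open Subgroup in
  open scoped commutatorElement in
  have hcore := CfsgLib.ZpStarMin.pPrimeCore_eq_bot hnz hquot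
  have hnc : ¬ ∀ g : G, g * x * g⁻¹ = x := fun h => hnz (CfsgLib.ZpStarMin.inZStar_of_central h)
  have hnp := CfsgLib.ZpStarMin.not_isPGroup hiso hnz
  have hxp : IsPGroup p (zpowers x) := IsPGroup.of_card (n := 1) (by rw [Nat.card_zpowers, hx, pow_one])
  haveI : Nontrivial G := ⟨⟨x, 1, fun h => hnc fun g => by rw [h, mul_one, mul_inv_cancel]⟩⟩
  obtain ⟨N, hN, hN1, -, hNmin⟩ := exists_minimal_normal (⊤ : Subgroup G) inferInstance top_ne_bot
  haveI := hN
  have hNcore : Cfsg.pPrimeCore p N = ⊥ := by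
    have h1 := CfsgLib.PCore.map_pPrimeCore_normal (p := p) N
    rwa [hcore, bot_inf_eq, Subgroup.map_eq_bot_iff_of_injective _ N.subtype_injective] at h1
  -- an abelian `N` is a `p`-group
  have hNab : N ≤ centralizer (N : Set G) → IsPGroup p N := fun hab => by
    refine CfsgLib.PCore.isPGroup_of_forall_coprime N fun y hy hyc => ?_
    have h1 : zpowers (⟨y, hy⟩ : N) ≤ Cfsg.pPrimeCore p N := by
      refine CfsgLib.PCore.le_pPrimeCore ⟨fun a ha b => ?_⟩ ?_
      · have : b * a = a * b := Subtype.ext (mem_centralizer_iff.mp (hab a.2) b b.2)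
        rwa [this, mul_inv_cancel_right]
      · rwa [Nat.card_zpowers, Subgroup.orderOf_mk]
    rw [hNcore, le_bot_iff, zpowers_eq_bot] at h1
    exact congrArg Subtype.val h1
  -- `G = N⟨x⟩`
  have hjoin : N ⊔ zpowers x = ⊤ := by
    by_contra hne
    set H := N ⊔ zpowers x with hH
    have hxH : x ∈ H := mem_sup_right (mem_zpowers x)
    have hz := hmin H hxH hne
    have hNx : ∀ n ∈ N, n * x * n⁻¹ * x⁻¹ = 1 := by
      intro n hn
      have h2 : n * x * n⁻¹ * x⁻¹ ∈ N := by
        have := N.mul_mem hn (hN.conj_mem _ (N.inv_mem hn) x)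
        simpa [mul_assoc] using this
      set K := (Cfsg.pPrimeCore p H).map H.subtype with hK
      have h3 : n * x * n⁻¹ * x⁻¹ ∈ K := ⟨_, hz ⟨n, mem_sup_left hn⟩, rfl⟩
      have h4 : (K.subgroupOf N) ≤ Cfsg.pPrimeCore p N := by
        refine CfsgLib.PCore.le_pPrimeCore ⟨fun a ha b => ?_⟩ ?_
        · obtain ⟨a', ha', hae⟩ := ha
          refine ⟨⟨(b : G), mem_sup_left b.2⟩ * a' * ⟨(b : G), mem_sup_left b.2⟩⁻¹,
            (inferInstance : (Cfsg.pPrimeCore p H).Normal).conj_mem a' ha' _, ?_⟩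
          simp only [coe_subtype, Subgroup.coe_mul, InvMemClass.coe_inv] at hae ⊢
          rw [hae]
        · refine (CfsgLib.PCore.pPrimeCore_coprime p H).coprime_dvd_left ?_
          refine (CfsgLib.PCore.card_subgroupOf_dvd K N).trans ?_
          rw [hK, card_map_of_injective H.subtype_injective]
      have h5 := h4 (show (⟨_, h2⟩ : N) ∈ K.subgroupOf N from h3)
      rw [hNcore, mem_bot] at h5
      exact congrArg Subtype.val h5
    have hxC : x ∈ centralizer (N : Set G) := mem_centralizer_iff.mpr fun n hn => by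
      have h1 := hNx n hn
      rw [mul_inv_eq_one] at h1
      calc n * x = n * x * n⁻¹ * n := by group
        _ = x * n := by rw [h1]
    haveI : (centralizer (N : Set G)).Normal := inferInstance
    set Kb := Cfsg.pPrimeCore p (G ⧸ N) with hKb
    set L₀ := Kb.comap (QuotientGroup.mk' N) ⊓ centralizer (N : Set G) with hL₀
    haveI : L₀.Normal := inferInstance
    have hmem : ∀ g : G, g * x * g⁻¹ * x⁻¹ ∈ L₀ := fun g => by
      refine ⟨?_, (centralizer (N : Set G)).mul_mem ((inferInstance : (centralizer (N : Set G)).Normal).conj_mem x hxC g) ((centralizer (N : Set G)).inv_mem hxC)⟩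
      show QuotientGroup.mk' N _ ∈ Kb
      simp only [QuotientGroup.mk'_apply, QuotientGroup.mk_mul, QuotientGroup.mk_inv]
      exact hquot N hN1 (QuotientGroup.mk g)
    have hL₀N : L₀ ≤ N := by
      have hcen : N ⊓ centralizer (N : Set G) ≠ ⊥ → N ≤ centralizer (N : Set G) := fun hne' =>
        inf_eq_left.mp (hNmin _ inferInstance hne' inf_le_left)
      have hZp : IsPGroup p ↥(N ⊓ centralizer (N : Set G) : Subgroup G) := by
        by_cases hb : N ⊓ centralizer (N : Set G) = ⊥
        · rw [hb]; exact IsPGroup.of_bot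
        · exact (hNab (hcen hb)).to_le inf_le_left
      set Z := N.subgroupOf L₀ with hZ
      have hZc : ∀ a ∈ Z, ∀ b : L₀, b * a = a * b := fun a ha b =>
        Subtype.ext (mem_centralizer_iff.mp b.2.2 a ha).symm
      obtain ⟨k, hk⟩ := IsPGroup.iff_card.mp hZp
      have hZd : Nat.card Z ∣ p ^ k := by
        rw [← hk, ← card_map_of_injective L₀.subtype_injective, hZ, subgroupOf_map_subtype]
        exact card_dvd_of_le (inf_le_inf_left _ inf_le_right)
      have hidx : Z.index.Coprime p := by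
        refine (CfsgLib.PCore.pPrimeCore_coprime p (G ⧸ N)).coprime_dvd_left ?_
        show N.relIndex L₀ ∣ _
        have hr := relIndex_ker (K := L₀) (QuotientGroup.mk' N)
        simp only [QuotientGroup.ker_mk'] at hr
        rw [hr]
        exact card_dvd_of_le (map_le_iff_le_comap.mpr inf_le_left)
      obtain ⟨M, hM⟩ := exists_right_complement'_of_coprime (N := Z)
        ((hidx.pow_right k).symm.coprime_dvd_left hZd)
      haveI hMn : M.Normal := by
        rw [← normalizer_eq_top_iff, eq_top_iff, ← hM.sup_eq_top]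
        refine sup_le (fun a ha => ?_) le_normalizer
        refine mem_normalizer_iff.mpr fun b => ?_
        rw [← hZc a ha b, mul_inv_cancel_right]
      have hMcard : (Nat.card M).Coprime p := by rw [← hM.symm.index_eq_card]; exact hidx
      have hM1 : M = ⊥ := by
        have h1 := CfsgLib.PCore.map_pPrimeCore_normal (p := p) L₀
        rw [hcore, bot_inf_eq, Subgroup.map_eq_bot_iff_of_injective _ L₀.subtype_injective] at h1
        exact le_bot_iff.mp ((CfsgLib.PCore.le_pPrimeCore hMn hMcard).trans h1.le)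
      have htop := hM.sup_eq_top
      rw [hM1, sup_bot_eq] at htop
      exact subgroupOf_eq_top.mp htop
    refine hnc fun g => ?_
    have h1 := mem_centralizer_iff.mp hxC _ (hL₀N (hmem g))
    refine hiso g ?_
    show x * (g * x * g⁻¹) = g * x * g⁻¹ * x
    calc x * (g * x * g⁻¹) = x * (g * x * g⁻¹ * x⁻¹) * x := by group
      _ = g * x * g⁻¹ * x⁻¹ * x * x := by rw [h1]
      _ = g * x * g⁻¹ * x := by group
  have hNnab : ¬ N ≤ centralizer (N : Set G) := fun hab => by
    refine hnp ?_
    have := (hNab hab).to_sup_of_normal_left hxp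
    rw [hjoin] at this
    exact this.of_equiv topEquiv
  -- `N` is simple
  have hsimple : ∀ T : Subgroup N, T.Normal → T = ⊥ ∨ T = ⊤ := by
    intro T hT
    by_cases hT1 : T = ⊥
    · exact Or.inl hT1
    right
    obtain ⟨T₀, hT₀, hT₀1, hT₀T, hT₀min⟩ := exists_minimal_normal T hT hT1
    refine top_le_iff.mp (le_trans ?_ hT₀T)
    haveI := hT₀
    set T₁ := T₀.map N.subtype with hT₁
    have hT₁sn : T₁.IsSubnormal := Subgroup.IsSubnormal.step T₁ N (map_subtype_le T₀) hN.isSubnormal
      (by rw [hT₁, subgroupOf, comap_map_eq_self_of_injective N.subtype_injective]; exact hT₀)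
    obtain ⟨S, hS⟩ := hxp.exists_le_sylow
    obtain ⟨Q, hQ⟩ := Cfsg.Agent.S0542.result p T₁ hT₁sn S
    have hdvd : p ∣ Nat.card T₁ := by
      by_contra hd
      rw [hT₁, card_map_of_injective N.subtype_injective] at hd
      exact hT₀1 (le_bot_iff.mp ((CfsgLib.PCore.le_pPrimeCore hT₀
        (CfsgLib.PCore.coprime_of_not_dvd hd)).trans hNcore.le))
    obtain ⟨t, ht, ht1⟩ : ∃ t ∈ (Q : Subgroup T₁), t ≠ 1 := by
      by_contra hcon
      push Not at hcon
      have hbot : (Q : Subgroup T₁) = ⊥ := (eq_bot_iff_forall _).mpr hcon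
      exact Q.ne_bot_of_dvd_card hdvd hbot
    rw [hQ] at ht
    have htx : x * (t : G) = (t : G) * x := (mem_centralizer_singleton_iff.mp
      (CfsgLib.Isolated.le_centralizer hiso S.isPGroup' (hS (mem_zpowers x)) ht)).symm
    set T₂ := (T₁.map (MulAut.conj x).toMonoidHom).subgroupOf N with hT₂
    have hT₂n : T₂.Normal := ⟨fun a ha b => by
      obtain ⟨a', ⟨a₀, ha₀, rfl⟩, hae⟩ := ha
      let b' : N := ⟨x⁻¹ * b * x, by simpa using hN.conj_mem _ b.2 x⁻¹⟩
      refine ⟨_, ⟨b' * a₀ * b'⁻¹, hT₀.conj_mem a₀ ha₀ b', rfl⟩, ?_⟩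
      simp only [MulEquiv.coe_toMonoidHom, MulAut.conj_apply, coe_subtype, Subgroup.coe_mul,
        InvMemClass.coe_inv] at hae ⊢
      rw [← hae]
      simp [b', mul_assoc]⟩
    have hle : T₀ ≤ T₂ := by
      have hne : T₀ ⊓ T₂ ≠ ⊥ := by
        intro hb
        obtain ⟨t₀, ht₀, hte⟩ := t.2
        have h2 : t₀ ∈ T₀ ⊓ T₂ := ⟨ht₀, ⟨t, t.2, by
          show x * (t : G) * x⁻¹ = N.subtype t₀
          rw [htx, mul_inv_cancel_right, hte]⟩⟩
        rw [hb, mem_bot] at h2
        exact ht1 (Subtype.ext (by rw [← hte, h2, map_one]; rfl))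
      exact inf_eq_left.mp (hT₀min _ inferInstance hne inf_le_left)
    have hxn : x ∈ normalizer (T₁ : Set G) := by
      rw [mem_normalizer_iff_map_conj_eq]
      refine (eq_of_le_of_card_ge ?_ (card_map_of_injective (MulAut.conj x).injective).le).symm
      rintro _ ⟨a, ha, rfl⟩
      exact hle ha
    have hT₁n : T₁.Normal := by
      rw [← normalizer_eq_top_iff, eq_top_iff, ← hjoin]
      refine sup_le ?_ (zpowers_le.mpr hxn)
      have h1 := Subgroup.le_normalizer_map (H := T₀) N.subtype
      rw [normalizer_eq_top_iff.mpr hT₀, ← MonoidHom.range_eq_map, range_subtype] at h1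
      exact h1
    have heq : T₁ = N := hNmin T₁ hT₁n
      (fun e => hT₀1 ((Subgroup.map_eq_bot_iff_of_injective _ N.subtype_injective).mp e)) (map_subtype_le _)
    intro y _
    have h1 : (y : G) ∈ T₁ := by rw [heq]; exact y.2
    obtain ⟨z, hz, hze⟩ := h1
    exact (N.subtype_injective hze) ▸ hz
  have hcomm : commutator G = N := by
    refine hNmin _ inferInstance ?_ ?_
    · intro hb
      refine hnc fun g => ?_
      have h1 : ⁅g, x⁆ ∈ commutator G := commutator_mem_commutator (mem_top _) (mem_top _)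
      rw [hb, mem_bot, commutatorElement_def, mul_inv_eq_one] at h1
      exact h1
    · rw [_root_.commutator_def, commutator_le]
      intro a _ b _
      rw [← QuotientGroup.eq_one_iff]
      have key : ∀ a : G, ∃ i : ℤ, (QuotientGroup.mk a : G ⧸ N) = (QuotientGroup.mk x) ^ i := fun a => by
        obtain ⟨n, hn, y, hy, rfl⟩ := mem_sup_of_normal_left.mp (hjoin ▸ mem_top a : a ∈ N ⊔ zpowers x)
        obtain ⟨i, rfl⟩ := mem_zpowers_iff.mp hy
        exact ⟨i, by rw [QuotientGroup.mk_mul, (QuotientGroup.eq_one_iff n).mpr hn, one_mul, QuotientGroup.mk_zpow]⟩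
      obtain ⟨i, hi⟩ := key a
      obtain ⟨j, hj⟩ := key b
      show QuotientGroup.mk' N ⁅a, b⁆ = 1
      rw [map_commutatorElement, QuotientGroup.mk'_apply, QuotientGroup.mk'_apply, hi, hj,
        commutatorElement_eq_one_iff_mul_comm, ← zpow_add, ← zpow_add, add_comm]
  rw [hcomm]
  refine ⟨?_, fun hc => hNnab fun a ha => mem_centralizer_iff.mpr fun b hb =>
    congrArg Subtype.val (hc.is_comm.comm (⟨b, hb⟩ : N) ⟨a, ha⟩), hjoin⟩
  haveI : Nontrivial N := (nontrivial_iff_ne_bot N).mpr hN1
  exact ⟨hsimple⟩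

end Cfsg.Agent.S2972
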