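import Cfsg.Statements.S4866
import Cfsg.Agent.CharBasics.Ortho
import Cfsg.Agent.Clifford.RepBasic
import Cfsg.Agent.Clifford.BrauerPerm
import Cfsg.Agent.BrauerInd.FSInd

set_option autoImplicit false
open Cfsg CfsgLib.CharBasics
open scoped ComplexConjugate

namespace Cfsg.Agent.S4866

/-- Orbits on fixed points of an involution commuting with an action whose elements have odd order. -/
theorem card_quot_fixed_mul {G S : Type*} [Group G] [Finite G] [Finite S] [MulAction G S] (σ : S → S)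
    (hσ : ∀ x, σ (σ x) = x) (hcomm : ∀ (g : G) x, σ (g • x) = g • σ x)
    (hodd : ∀ g : G, ∃ m : ℕ, Odd m ∧ ∀ x : S, g ^ m • x = x) :
    Nat.card (Quot fun x y : {x : S // σ x = x} => ∃ g : G, g • x.1 = y.1) * Nat.card G =
      Nat.card (Σ g : G, {x : S // σ (g • x) = x}) := by
  classical
  letI : Fintype G := Fintype.ofFinite G
  letI : Fintype S := Fintype.ofFinite S
  letI : MulAction G {x : S // σ x = x} :=
    { smul := fun g x => ⟨g • x.1, by rw [hcomm, x.2]⟩
      one_smul := fun x => Subtype.ext (one_smul G x.1)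
      mul_smul := fun a b x => Subtype.ext (mul_smul a b x.1) }
  have hfix : ∀ (g : G) (x : S), σ (g • x) = x ↔ g • x = x ∧ σ x = x := by
    intro g x
    refine ⟨fun h => ?_, fun h => by rw [h.1, h.2]⟩
    have h1 : σ x = g • x := by rw [← hσ (g • x), h]
    have h2 : (g * g) • x = x := by rw [mul_smul, ← h1, ← hcomm, h]
    obtain ⟨m, ⟨k, rfl⟩, hm⟩ := hodd g
    have h3 : g ^ (2 * k + 1) • x = g • x := by
      rw [pow_succ', pow_mul, sq, mul_smul]
      have : ∀ j : ℕ, (g * g) ^ j • x = x := fun j => by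
        induction j with
        | zero => rw [pow_zero, one_smul]
        | succ j ih => rw [pow_succ, mul_smul, h2, ih]
      rw [this k]
    have h4 : g • x = x := h3.symm.trans (hm x)
    exact ⟨h4, h1.trans h4⟩
  have hq : Nat.card (Quot fun x y : {x : S // σ x = x} => ∃ g : G, g • x.1 = y.1) =
      Nat.card (MulAction.orbitRel.Quotient G {x : S // σ x = x}) := by
    refine Nat.card_congr (Quot.congrRight fun x y => ?_)
    rw [MulAction.orbitRel_apply]
    constructor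
    · rintro ⟨g, hg⟩
      exact ⟨g⁻¹, Subtype.ext (show g⁻¹ • y.1 = x.1 by rw [← hg, inv_smul_smul])⟩
    · rintro ⟨g, hg⟩
      exact ⟨g⁻¹, by rw [← hg]; show g⁻¹ • (g • y.1) = y.1; rw [inv_smul_smul]⟩
  rw [hq, ← Nat.card_prod, ← Nat.card_congr (MulAction.sigmaFixedByEquivOrbitsProdGroup G {x : S // σ x = x})]
  refine Nat.card_congr (Equiv.sigmaCongrRight fun g =>
    { toFun := fun z => ⟨z.1.1, (hfix g _).2 ⟨congrArg Subtype.val z.2, z.1.2⟩⟩
      invFun := fun x => ⟨⟨x.1, ((hfix g _).1 x.2).2⟩, Subtype.ext ((hfix g _).1 x.2).1⟩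
      left_inv := fun z => rfl
      right_inv := fun x => rfl })

/-- Let K be a normal subgroup of odd index in the finite group G. Then G has as many orbits on the real-valued irreducible complex characters of K (acting by conjugation) as it has orbits on the conjugacy classes of K that are real in K; equivalently, the number of G-orbits of real-valued irreducible characters of K equals the number of G-conjugacy classes of elements of K that are conjugate in K to their inverses. -/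
theorem result {G : Type*} [Group G] [Finite G] (K : Subgroup G) [K.Normal] (hodd : Odd K.index) : Nat.card (Quot (fun θ η : {θ : Cfsg.IrrCharacter ↥K // (∀ k : ↥K, ((θ : ↥K → ℂ) k).im = 0)} => ∃ g : G, ∀ k k' : ↥K, (k' : G) = g * (k : G) * g⁻¹ → (η.1 : ↥K → ℂ) k' = (θ.1 : ↥K → ℂ) k)) = Nat.card (Quot (fun x y : {x : ↥K // IsConj x x⁻¹} => ∃ g : G, (y.1 : G) = g * x.1 * g⁻¹)) := by
  classical
  -- the two actions
  let c : G →* MulAut K := MulAut.conjNormal
  letI actC : MulAction G (ConjClasses K) :=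
    { smul := fun g C => ConjClasses.map (c g).toMonoidHom C
      one_smul := fun C => by
        obtain ⟨a, rfl⟩ := ConjClasses.exists_rep C
        show ConjClasses.mk ((c 1) a) = _
        rw [map_one]; rfl
      mul_smul := fun g g' C => by
        obtain ⟨a, rfl⟩ := ConjClasses.exists_rep C
        show ConjClasses.mk ((c (g * g')) a) = ConjClasses.mk (c g (c g' a))
        rw [map_mul]; rfl }
  letI actI : MulAction G (IrrCharacter K) :=
    { smul := fun g θ => ⟨fun k => (θ : K → ℂ) (c g⁻¹ k),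
        CfsgLib.Clifford.isIrrCharacter_comp θ.2 (c g⁻¹).toMonoidHom (c g⁻¹).surjective⟩
      one_smul := fun θ => Subtype.ext (funext fun k => by
        show (θ : K → ℂ) (c 1⁻¹ k) = _
        rw [inv_one, map_one]; rfl)
      mul_smul := fun g g' θ => Subtype.ext (funext fun k => by
        show (θ : K → ℂ) (c (g * g')⁻¹ k) = (θ : K → ℂ) (c g'⁻¹ (c g⁻¹ k))
        rw [mul_inv_rev, map_mul]; rfl) }
  haveI : Fintype K := Fintype.ofFinite K
  let σ : IrrCharacter K → IrrCharacter K := fun θ =>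
    ⟨fun k => conj ((θ : K → ℂ) k), CfsgLib.BrauerInd.isIrr_star θ.2⟩
  let τ : ConjClasses K → ConjClasses K := Quotient.lift (fun a : K => ConjClasses.mk a⁻¹) fun a b h => by
    obtain ⟨d, rfl⟩ := isConj_iff.1 (h : IsConj a b)
    exact ConjClasses.mk_eq_mk_iff_isConj.2 (isConj_iff.2 ⟨d, by group⟩)
  have hτmk : ∀ a : K, τ (ConjClasses.mk a) = ConjClasses.mk a⁻¹ := fun a => rfl
  have hσ2 : ∀ θ, σ (σ θ) = θ := fun θ => Subtype.ext (funext fun k => Complex.conj_conj _)
  have hτ2 : ∀ C, τ (τ C) = C := fun C => by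
    obtain ⟨a, rfl⟩ := ConjClasses.exists_rep C
    rw [hτmk, hτmk, inv_inv]
  have hσc : ∀ (g : G) θ, σ (g • θ) = g • σ θ := fun g θ => rfl
  have hτc : ∀ (g : G) C, τ (g • C) = g • τ C := fun g C => by
    obtain ⟨a, rfl⟩ := ConjClasses.exists_rep C
    show ConjClasses.mk (c g a)⁻¹ = ConjClasses.mk (c g a⁻¹)
    rw [map_inv]
  have hKC : ∀ k ∈ K, ∀ C : ConjClasses K, k • C = C := fun k hk C => by
    obtain ⟨a, rfl⟩ := ConjClasses.exists_rep C
    refine (ConjClasses.mk_eq_mk_iff_isConj.2 (isConj_iff.2 ⟨⟨k, hk⟩, Subtype.ext ?_⟩)).symm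
    simp [c]
  have hKI : ∀ k ∈ K, ∀ θ : IrrCharacter K, k • θ = θ := fun k hk θ => Subtype.ext (funext fun a => by
    show (θ : K → ℂ) (c k⁻¹ a) = _
    refine (apply_isConj (isCharacter_of_irr θ.2) (isConj_iff.2 ⟨⟨k, hk⟩⁻¹, Subtype.ext ?_⟩)).symm
    simp [c])
  have hoddK : ∀ g : G, ∃ m : ℕ, Odd m ∧ g ^ m ∈ K := fun g => ⟨K.index, hodd, by
    rw [← QuotientGroup.eq_one_iff, QuotientGroup.mk_pow, Subgroup.index_eq_card, pow_card_eq_one']⟩
  have h1 := card_quot_fixed_mul (G := G) σ hσ2 hσc (fun g => (hoddK g).imp fun m hm => ⟨hm.1, hKI _ hm.2⟩)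
  have h2 := card_quot_fixed_mul (G := G) τ hτ2 hτc (fun g => (hoddK g).imp fun m hm => ⟨hm.1, hKC _ hm.2⟩)
  have hfix : ∀ g : G, Nat.card {θ : IrrCharacter K // σ (g • θ) = θ} =
      Nat.card {C : ConjClasses K // τ (g • C) = C} := by
    intro g
    refine CfsgLib.Clifford.brauer_perm ((MulAction.toPerm g).trans ⟨σ, σ, hσ2, hσ2⟩)
      ((MulAction.toPerm g).trans ⟨τ, τ, hτ2, hτ2⟩) fun θ a a' ha => ?_
    have ha' : ConjClasses.mk a' = ConjClasses.mk (c g a)⁻¹ := ha
    have hc := isCharacter_of_irr θ.2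
    show conj ((θ : K → ℂ) (c g⁻¹ a')) = _
    rw [show (θ : K → ℂ) (c g⁻¹ a') = (θ : K → ℂ) (c g⁻¹ (c g a)⁻¹) from
      apply_isConj hc (MonoidHom.map_isConj (c g⁻¹).toMonoidHom (ConjClasses.mk_eq_mk_iff_isConj.1 ha'))]
    show conj ((θ : K → ℂ) (c g⁻¹ (c g a)⁻¹)) = _
    rw [map_inv, apply_inv hc, Complex.conj_conj, map_inv c g]
    simp
  have hmain : Nat.card (Quot fun x y : {θ : IrrCharacter K // σ θ = θ} => ∃ g : G, g • x.1 = y.1) =
      Nat.card (Quot fun x y : {C : ConjClasses K // τ C = C} => ∃ g : G, g • x.1 = y.1) := by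
    refine Nat.eq_of_mul_eq_mul_right (Nat.card_pos (α := G)) ?_
    haveI : Fintype G := Fintype.ofFinite G
    rw [h1, h2, Nat.card_sigma, Nat.card_sigma]
    exact Finset.sum_congr rfl fun g _ => hfix g
  -- translate
  refine Eq.trans (Nat.card_congr (Quot.congr (Equiv.subtypeEquivRight fun θ => ?_) fun x y => ?_))
    (hmain.trans ?_)
  · refine ⟨fun h => Subtype.ext (funext fun k => Complex.conj_eq_iff_im.2 (h k)), fun h k => ?_⟩
    exact Complex.conj_eq_iff_im.1 (congrFun (congrArg Subtype.val h) k)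
  · constructor
    · rintro ⟨g, hg⟩
      refine ⟨g, Subtype.ext (funext fun k => ?_)⟩
      show (x.1 : K → ℂ) (c g⁻¹ k) = (y.1 : K → ℂ) k
      exact (hg _ k (by simp [c, mul_assoc])).symm
    · rintro ⟨g, hg⟩
      refine ⟨g, fun k k' hk => ?_⟩
      have e := congrFun (congrArg Subtype.val hg) k'
      have : (x.1 : K → ℂ) (c g⁻¹ k') = (y.1 : K → ℂ) k' := e
      rw [← this]
      exact congrArg _ (Subtype.ext (by simp [c, hk, mul_assoc]))
  · have hreal : ∀ a : K, τ (ConjClasses.mk a) = ConjClasses.mk a ↔ IsConj a a⁻¹ := fun a => by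
      rw [hτmk, ConjClasses.mk_eq_mk_iff_isConj]; exact ⟨IsConj.symm, IsConj.symm⟩
    set rC := fun x y : {C : ConjClasses K // τ C = C} => ∃ g : G, g • x.1 = y.1
    set rX := fun x y : {x : ↥K // IsConj x x⁻¹} => ∃ g : G, (y.1 : G) = g * x.1 * g⁻¹
    have heqv : Equivalence rX := by
      refine ⟨fun x => ⟨1, by simp⟩, fun {x y} ⟨g, hg⟩ => ⟨g⁻¹, by rw [hg]; group⟩,
        fun {x y z} ⟨g, hg⟩ ⟨g', hg'⟩ => ⟨g' * g, by rw [hg', hg]; group⟩⟩
    let F : Quot rX → Quot rC := Quot.lift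
      (fun x => Quot.mk rC ⟨ConjClasses.mk x.1, (hreal x.1).2 x.2⟩) fun x y ⟨g, hg⟩ => Quot.sound ⟨g, by
        show ConjClasses.mk (c g x.1) = ConjClasses.mk y.1
        exact congrArg ConjClasses.mk (Subtype.ext (by simp [c, hg]))⟩
    refine (Nat.card_congr (Equiv.ofBijective F ⟨fun a b hab => ?_, fun q => ?_⟩)).symm
    · obtain ⟨x, rfl⟩ := Quot.exists_rep a
      obtain ⟨y, rfl⟩ := Quot.exists_rep b
      have hC : Equivalence rC := ⟨fun x => ⟨1, one_smul _ _⟩,
        fun {x y} ⟨g, hg⟩ => ⟨g⁻¹, by rw [← hg, inv_smul_smul]⟩,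
        fun {x y z} ⟨g, hg⟩ ⟨g', hg'⟩ => ⟨g' * g, by rw [mul_smul, hg, hg']⟩⟩
      obtain ⟨g, hg⟩ : rC ⟨_, (hreal x.1).2 x.2⟩ ⟨_, (hreal y.1).2 y.2⟩ :=
        hC.eqvGen_iff.1 (Quot.eqvGen_exact hab)
      obtain ⟨d, hd⟩ := isConj_iff.1 (ConjClasses.mk_eq_mk_iff_isConj.1 (show ConjClasses.mk (c g x.1) = ConjClasses.mk y.1 from hg))
      refine Quot.sound ⟨(d : G) * g, ?_⟩
      rw [← hd]
      simp [c, mul_assoc]
    · obtain ⟨⟨C, hC⟩, rfl⟩ := Quot.exists_rep q
      obtain ⟨a, rfl⟩ := ConjClasses.exists_rep C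
      exact ⟨Quot.mk rX ⟨a, (hreal a).1 hC⟩, rfl⟩

end Cfsg.Agent.S4866
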