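import Cfsg.Statements.S0497
import Cfsg.Agent.BSW.AltSix
import Cfsg.Agent.BSW.Recog
import Cfsg.Agent.RankOneP.Basic
import Cfsg.Agent.QDWr.Recognition
import Mathlib

set_option autoImplicit false
open Cfsg

namespace Cfsg.Agent.S0497

open CfsgLib.RankOneP

theorem not_embeds {G : Type*} [Group G] [Finite G] [IsSimpleGroup G] (h : Nat.card G = 360) (H : Subgroup G)
    (hH : H ≠ ⊤) : 6 ≤ H.index := by
  classical
  by_contra hlt
  rw [not_le] at hlt
  have hbot : H.normalCore = ⊥ := by
    rcases (inferInstance : H.normalCore.Normal).eq_bot_or_eq_top with h' | h'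
    · exact h'
    · exact absurd (eq_top_iff.mpr (h' ▸ H.normalCore_le)) hH
  have hinj : Function.Injective (MulAction.toPermHom G (G ⧸ H)) := by
    rw [← MonoidHom.ker_eq_bot_iff, ← Subgroup.normalCore_eq_ker]; exact hbot
  haveI : Fintype (G ⧸ H) := Fintype.ofFinite _
  have := Nat.card_le_card_of_injective _ hinj
  rw [h, Nat.card_perm, ← Subgroup.index_eq_card] at this
  have h5 : Nat.factorial H.index ≤ Nat.factorial 5 := Nat.factorial_le (by omega)
  simp [Nat.factorial] at h5
  omega

theorem no_complement {G : Type*} [Group G] [Finite G] [IsSimpleGroup G] {p : ℕ} [Fact p.Prime] (S : Sylow p G)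
    (hS1 : (S : Subgroup G) ≠ ⊥) (hS2 : (S : Subgroup G) ≠ ⊤)
    (hle : Subgroup.normalizer ((S : Subgroup G) : Set G) ≤ Subgroup.centralizer ((S : Subgroup G) : Set G)) :
    False := by
  have h := MonoidHom.ker_transferSylow_isComplement' S hle
  rcases (inferInstance : (MonoidHom.transferSylow S hle).ker.Normal).eq_bot_or_eq_top with h0 | h0
  · rw [h0] at h
    exact hS2 (Subgroup.isComplement'_bot_left.mp h)
  · rw [h0] at h
    exact hS1 (Subgroup.isComplement'_top_left.mp h)

theorem fixed_count {α : Type*} [Fintype α] [DecidableEq α] (hα : Fintype.card α = 10) (σ : Equiv.Perm α)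
    (h2 : orderOf σ = 2) (hs : Equiv.Perm.sign σ = 1) :
    Nat.card {x : α // σ x = x} = 2 ∨ Nat.card {x : α // σ x = x} = 6 := by
  obtain ⟨n, hn⟩ := Equiv.Perm.cycleType_prime_order (σ := σ) (by rw [h2]; exact Nat.prime_two)
  have hsum : σ.support.card = 2 * (n + 1) := by
    rw [← Equiv.Perm.sum_cycleType, hn, Multiset.sum_replicate, h2, smul_eq_mul, mul_comm]
  have heven : Even (n + 1) := by
    rw [Equiv.Perm.sign_of_cycleType, hn, Multiset.sum_replicate, Multiset.card_replicate, h2, smul_eq_mul,
      neg_one_pow_eq_one_iff_even (by decide)] at hs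
    obtain ⟨c, hc⟩ := hs
    exact ⟨c - (n + 1), by omega⟩
  have hfix : Nat.card {x : α // σ x = x} = 10 - σ.support.card := by
    rw [Nat.card_eq_fintype_card, Fintype.card_subtype, ← hα, ← Finset.card_compl]
    congr 1
    ext x
    simp
  have hle : σ.support.card ≤ 10 := hα ▸ Finset.card_le_univ _
  obtain ⟨c, hc⟩ := heven
  omega

set_option maxHeartbeats 1000000 in
theorem exists_dihedral_centralizer {G : Type*} [Group G] [Finite G] [IsSimpleGroup G] (h : Nat.card G = 360) :
    ∃ t : G, orderOf t = 2 ∧ Nonempty (↥(Subgroup.centralizer ({t} : Set G)) ≃* DihedralGroup 4) := by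
  classical
  haveI : Fact (Nat.Prime 2) := ⟨Nat.prime_two⟩
  haveI : Fact (Nat.Prime 3) := ⟨Nat.prime_three⟩
  obtain ⟨P⟩ : Nonempty (Sylow 3 G) := inferInstance
  have hf3 : (360 : ℕ).factorization 3 = 2 := by
    rw [show (360 : ℕ) = 3 ^ 2 * 40 from rfl, Nat.factorization_mul (by norm_num) (by norm_num),
      Finsupp.add_apply, Nat.prime_three.factorization_pow, Finsupp.single_eq_same,
      Nat.factorization_eq_zero_of_not_dvd (by norm_num)]
  have hf2 : (360 : ℕ).factorization 2 = 3 := by
    rw [show (360 : ℕ) = 2 ^ 3 * 45 from rfl, Nat.factorization_mul (by norm_num) (by norm_num),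
      Finsupp.add_apply, Nat.prime_two.factorization_pow, Finsupp.single_eq_same,
      Nat.factorization_eq_zero_of_not_dvd (by norm_num)]
  have hP9 : ∀ Q : Sylow 3 G, Nat.card (Q : Subgroup G) = 9 := fun Q => by
    rw [Q.card_eq_multiplicity, h, hf3]; rfl
  have hPab : ∀ Q : Sylow 3 G, IsMulCommutative ↥(Q : Subgroup G) := fun Q =>
    IsPGroup.isMulCommutative_of_card_eq_prime_sq (p := 3) (hP9 Q)
  set N := Subgroup.normalizer ((P : Subgroup G) : Set G) with hN
  have hPN : (P : Subgroup G) ≤ N := Subgroup.le_normalizer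
  have hPc : (P : Subgroup G) ≤ Subgroup.centralizer ((P : Subgroup G) : Set G) :=
    Subgroup.le_centralizer_iff_isMulCommutative.mpr (hPab P)
  have hPne : (P : Subgroup G) ≠ ⊥ ∧ (P : Subgroup G) ≠ ⊤ :=
    ⟨fun e => by have := hP9 P; rw [e, Subgroup.card_bot] at this; omega,
     fun e => by have := hP9 P; rw [e, Subgroup.card_top, h] at this; omega⟩
  have hNtop : N ≠ ⊤ := fun e => by
    rcases (Subgroup.normalizer_eq_top_iff.mp e).eq_bot_or_eq_top with h' | h'
    · exact hPne.1 h'
    · exact hPne.2 h'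
  have hidx : N.index = 10 := by
    have h1 : N.index ∣ 40 := by
      have h' := Subgroup.index_dvd_of_le hPN
      have hi := Subgroup.card_mul_index (P : Subgroup G)
      rw [hP9, h] at hi
      rwa [show (P : Subgroup G).index = 40 by omega] at h'
    have h2 : N.index ≡ 1 [MOD 3] := P.card_eq_index_normalizer ▸ card_sylow_modEq_one 3 G
    have h3 := not_embeds h N hNtop
    have h4 : N.index ≠ 40 := fun h40 => by
      have hc := Subgroup.card_mul_index N
      rw [h40, h] at hc
      have hNP : (P : Subgroup G) = N := Subgroup.eq_of_le_of_card_ge hPN (by rw [hP9]; omega)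
      exact no_complement P hPne.1 hPne.2 (by rw [← hN, ← hNP]; exact hPc)
    have h5 := Nat.le_of_dvd (by norm_num) h1
    obtain ⟨c, hc⟩ := h1
    unfold Nat.ModEq at h2
    generalize N.index = n at *
    interval_cases n <;> omega
  have hNc : Nat.card N = 36 := by
    have := Subgroup.card_mul_index N; rw [hidx, h] at this; omega
  -- the action on the cosets
  set φ := MulAction.toPermHom G (G ⧸ N) with hφdef
  haveI : Fintype (G ⧸ N) := Fintype.ofFinite _
  have hα : Fintype.card (G ⧸ N) = 10 := by
    rw [← Nat.card_eq_fintype_card, ← Subgroup.index_eq_card, hidx]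
  have hφ : Function.Injective φ := by
    rw [← MonoidHom.ker_eq_bot_iff, hφdef, ← Subgroup.normalCore_eq_ker]
    exact (inferInstance : N.normalCore.Normal).eq_bot_or_eq_top.resolve_right
      fun e => hNtop (eq_top_iff.mpr (e ▸ N.normalCore_le))
  have hsign : ∀ g : G, Equiv.Perm.sign (φ g) = 1 := fun g => by
    rcases (inferInstance : (Equiv.Perm.sign.comp φ).ker.Normal).eq_bot_or_eq_top with h' | h'
    · exfalso
      have := Nat.card_le_card_of_injective _ ((MonoidHom.ker_eq_bot_iff _).mp h')
      rw [h, Nat.card_eq_fintype_card, Fintype.card_units_int] at this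
      omega
    · exact MonoidHom.mem_ker.mp (h' ▸ Subgroup.mem_top g : g ∈ (Equiv.Perm.sign.comp φ).ker)
  let a : G ⧸ N := ((1 : G) : G ⧸ N)
  have hstab : ∀ g : G, g • a = a ↔ g ∈ N := fun g => by
    rw [MulAction.Quotient.smul_mk, smul_eq_mul, mul_one, QuotientGroup.eq, mul_one]
    exact inv_mem_iff
  -- Sylow 3-subgroups meet trivially
  have hTI : ∀ Q : Sylow 3 G, Q ≠ P → ∀ x ∈ (P : Subgroup G), x ∈ (Q : Subgroup G) → x = 1 := by
    intro Q hQ x hxP hxQ
    by_contra hx1
    set C := Subgroup.centralizer ({x} : Set G) with hC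
    have hle : ∀ R : Sylow 3 G, x ∈ (R : Subgroup G) → (R : Subgroup G) ≤ C := fun R hR y hy =>
      Subgroup.mem_centralizer_singleton_iff.mpr
        (congrArg Subtype.val ((hPab R).is_comm.comm ⟨y, hy⟩ ⟨x, hR⟩))
    have hCtop : C ≠ ⊤ := fun e => by
      have hcen : x ∈ Subgroup.center G := Subgroup.mem_center_iff.mpr fun g =>
        Subgroup.mem_centralizer_singleton_iff.mp (e ▸ Subgroup.mem_top g : g ∈ C)
      rcases (inferInstance : (Subgroup.center G).Normal).eq_bot_or_eq_top with h' | h'
      · rw [h', Subgroup.mem_bot] at hcen; exact hx1 hcen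
      · refine hNtop (eq_top_iff.mpr fun g _ => Subgroup.mem_normalizer_iff.mpr fun z => ?_)
        rw [Subgroup.mem_center_iff.mp (h' ▸ Subgroup.mem_top g : g ∈ Subgroup.center G) z |>.symm,
          mul_inv_cancel_right]
    let PC : Sylow 3 C := P.subtype (hle P hxP)
    let QC : Sylow 3 C := Q.subtype (hle Q hxQ)
    have hne : PC ≠ QC := fun e => hQ (Sylow.ext (by
      have := congrArg (fun R : Sylow 3 C => (R : Subgroup C).map C.subtype) e
      simp only [PC, QC, Sylow.coe_subtype, Subgroup.map_subgroupOf_eq_of_le (hle P hxP),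
        Subgroup.map_subgroupOf_eq_of_le (hle Q hxQ)] at this
      exact this.symm))
    have hn1 : Nat.card (Sylow 3 C) ≠ 1 := fun e => by
      haveI : Subsingleton (Sylow 3 C) := (Nat.card_eq_one_iff_unique.mp e).1
      exact hne (Subsingleton.elim _ _)
    have hPC9 : Nat.card (PC : Subgroup C) = 9 := by
      rw [Sylow.coe_subtype, Nat.card_congr (Subgroup.subgroupOfEquivOfLe (hle P hxP)).toEquiv, hP9]
    have hCd : Nat.card C ∣ 360 := h ▸ Subgroup.card_subgroup_dvd_card C
    have hCi := not_embeds h C hCtop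
    have hCm := Subgroup.card_mul_index C
    have hn : Nat.card (Sylow 3 C) ∣ (PC : Subgroup C).index := PC.card_dvd_index
    have hPi := Subgroup.card_mul_index (PC : Subgroup C)
    rw [hPC9] at hPi
    have hmod : Nat.card (Sylow 3 C) ≡ 1 [MOD 3] := card_sylow_modEq_one 3 C
    rw [h] at hCm
    -- the centraliser has order 36
    have hm : (PC : Subgroup C).index = 4 ∧ Nat.card (Sylow 3 C) = 4 := by
      set m := (PC : Subgroup C).index
      set n := Nat.card (Sylow 3 C)
      have hm6 : m * 6 ≤ 40 := by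
        have : Nat.card C * 6 ≤ Nat.card C * C.index := Nat.mul_le_mul_left _ hCi
        rw [hCm] at this
        omega
      have hm40 : m ∣ 40 := by
        have : 9 * m ∣ 9 * 40 := by rw [hPi]; exact hCd
        exact Nat.dvd_of_mul_dvd_mul_left (by norm_num) this
      have hnm : n ≤ m := Nat.le_of_dvd (by have := Nat.card_pos (α := C); omega) hn
      have hn0 : 0 < n := Nat.card_pos
      unfold Nat.ModEq at hmod
      have hn4 : n = 4 := by omega
      obtain ⟨c, hc⟩ : 4 ∣ m := hn4 ▸ hn
      have : m ≤ 6 := by omega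
      obtain ⟨c', hc'⟩ := hm40
      interval_cases m <;> omega
    have hNP : (PC : Subgroup C) = Subgroup.normalizer ((PC : Subgroup C) : Set C) := by
      refine Subgroup.eq_of_le_of_card_ge Subgroup.le_normalizer ?_
      have h1 := Subgroup.card_mul_index (Subgroup.normalizer ((PC : Subgroup C) : Set C))
      have h2 : (Subgroup.normalizer ((PC : Subgroup C) : Set C)).index = 4 :=
        (PC.card_eq_index_normalizer).symm.trans hm.2
      rw [h2] at h1
      rw [hm.1] at hPi
      omega
    haveI : IsMulCommutative ↥(PC : Subgroup C) := IsPGroup.isMulCommutative_of_card_eq_prime_sq (p := 3) hPC9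
    have hKc := MonoidHom.ker_transferSylow_isComplement' PC
      (le_of_eq_of_le hNP.symm (Subgroup.le_centralizer_iff_isMulCommutative.mpr inferInstance))
    set K := (MonoidHom.transferSylow PC _).ker
    set K' := K.map C.subtype
    have hK4 : Nat.card K' = 4 := by
      rw [Subgroup.card_map_of_injective C.subtype_injective]
      have := hKc.card_mul
      rw [hPC9] at this
      rw [hm.1] at hPi
      omega
    obtain ⟨S, hS⟩ := (IsPGroup.of_card (n := 2) hK4 : IsPGroup 2 K').exists_le_sylow
    have hS8 : Nat.card (S : Subgroup G) = 8 := by rw [S.card_eq_multiplicity, h, hf2]; rfl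
    set M := Subgroup.normalizer (K' : Set G)
    have hCM : C ≤ M := fun g hg => by
      refine Subgroup.mem_normalizer_iff.mpr fun z => ?_
      have hn : K.Normal := inferInstance
      have key : ∀ w : C, ∀ z, z ∈ K' → (w : G) * z * (w : G)⁻¹ ∈ K' := by
        rintro w _ ⟨z, hz, rfl⟩
        exact ⟨_, hn.conj_mem z hz w, rfl⟩
      refine ⟨key ⟨g, hg⟩ z, fun hz => ?_⟩
      have := key ⟨g, hg⟩⁻¹ _ hz
      simpa [mul_assoc] using this
    have hSM : (S : Subgroup G) ≤ M := fun g hg => by
      have hi : (K'.subgroupOf (S : Subgroup G)).index = 2 := by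
        have := Subgroup.card_mul_index (K'.subgroupOf (S : Subgroup G))
        rw [Nat.card_congr (Subgroup.subgroupOfEquivOfLe hS).toEquiv, hK4, hS8] at this
        omega
      haveI := Subgroup.normal_of_index_eq_two hi
      exact Subgroup.le_normalizer_of_normal_subgroupOf hS hg
    have h72 : 72 ∣ Nat.card M := by
      have h1 : 9 ∣ Nat.card M := hP9 P ▸ Subgroup.card_dvd_of_le ((hle P hxP).trans hCM)
      have h2 : 8 ∣ Nat.card M := hS8 ▸ Subgroup.card_dvd_of_le hSM
      exact (show Nat.Coprime 8 9 by norm_num).mul_dvd_of_dvd_of_dvd h2 h1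
    have hMtop : M = ⊤ := by
      by_contra hM
      have := not_embeds h M hM
      have hMm := Subgroup.card_mul_index M
      rw [h] at hMm
      obtain ⟨c, hc⟩ := h72
      rw [hc] at hMm
      rcases Nat.eq_zero_or_pos c with rfl | hc0
      · simp at hMm
      · have : 72 * 6 ≤ 72 * c * M.index := Nat.mul_le_mul (by omega) this
        omega
    rcases (Subgroup.normalizer_eq_top_iff.mp hMtop).eq_bot_or_eq_top with h' | h' <;> rw [h'] at hK4
    · simp at hK4
    · rw [Subgroup.card_top, h] at hK4; omega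
  -- hence the 3-subgroup is semiregular away from its fixed point
  have hreg : ∀ x ∈ (P : Subgroup G), x ≠ 1 → ∀ c : G ⧸ N, x • c = c → c = a := by
    intro x hx hx1 c hc
    obtain ⟨g, rfl⟩ := QuotientGroup.mk_surjective c
    have hxg : g⁻¹ * x * g ∈ N := by
      rw [MulAction.Quotient.smul_mk, QuotientGroup.eq] at hc
      have h1 := inv_mem hc
      simpa [mul_assoc] using h1
    -- the only Sylow 3-subgroup of `N` is `P`
    have hmem : g⁻¹ * x * g ∈ (P : Subgroup G) := by
      have hx3 : IsPGroup 3 (Subgroup.zpowers (g⁻¹ * x * g)) := by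
        have h1 : (Subgroup.zpowers x).map (MulAut.conj g⁻¹).toMonoidHom = Subgroup.zpowers (g⁻¹ * x * g) := by
          rw [MonoidHom.map_zpowers]; simp
        exact h1 ▸ (P.2.to_le (Subgroup.zpowers_le.mpr hx)).map _
      exact (le_of_eq (hx3.inf_normalizer_sylow P) ⟨Subgroup.mem_zpowers _, hxg⟩).2
    by_cases hQ : g • P = P
    · rw [Sylow.smul_eq_iff_mem_normalizer] at hQ
      exact QuotientGroup.eq.mpr (by rw [mul_one]; exact inv_mem hQ)
    · refine absurd (hTI (g • P) hQ x hx ?_) hx1
      rw [Sylow.coe_subgroup_smul, Subgroup.mem_pointwise_smul_iff_inv_smul_mem]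
      change (MulAut.conj g)⁻¹ x ∈ (P : Subgroup G)
      rwa [MulAut.conj_inv_apply]
  -- the complement
  obtain ⟨b, hb⟩ : ∃ b : G ⧸ N, b ≠ a := Fintype.exists_ne_of_one_lt_card (by omega) a
  have hPa : ∀ x ∈ (P : Subgroup G), x • a = a := fun x hx => (hstab x).mpr (hPN hx)
  have horb : ∀ b : G ⧸ N, b ≠ a → ∀ c : G ⧸ N, c ≠ a → ∃ p ∈ (P : Subgroup G), p • b = c := by
    intro b hb
    let f : ↥(P : Subgroup G) → {c : G ⧸ N // c ≠ a} := fun p => ⟨(p : G) • b, fun e => hb (by
      have e' := congrArg (fun z => (p : G)⁻¹ • z) e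
      simp only [inv_smul_smul] at e'
      rwa [hPa _ (inv_mem p.2)] at e')⟩
    have hf : Function.Injective f := fun p q hpq => by
      have e : (p : G) • b = (q : G) • b := congrArg Subtype.val hpq
      by_contra hne
      refine hb (hreg ((q : G)⁻¹ * p) (mul_mem (inv_mem q.2) p.2) (fun h1 => hne ?_) b ?_)
      · exact (Subtype.ext (inv_mul_eq_one.mp h1)).symm
      · rw [mul_smul, e, inv_smul_smul]
    have hsurj : Function.Surjective f := by
      refine ((Nat.bijective_iff_injective_and_card f).mpr ⟨hf, ?_⟩).2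
      rw [hP9, Nat.card_eq_fintype_card, Fintype.card_subtype_compl, Fintype.card_subtype_eq, hα]
    intro c hc
    obtain ⟨p, hp⟩ := hsurj ⟨c, hc⟩
    exact ⟨p, p.2, congrArg Subtype.val hp⟩
  set D := N ⊓ MulAction.stabilizer G b with hD
  have hDa : ∀ x ∈ D, x • a = a := fun x hx => (hstab x).mpr hx.1
  have hDb : ∀ x ∈ D, x • b = b := fun x hx => hx.2
  have hPD : ∀ x ∈ (P : Subgroup G), x ∈ D → x = 1 := fun x hx hxD => by
    by_contra hx1
    exact hb (hreg x hx hx1 b (hDb x hxD))
  have hDc : Nat.card D = 4 := by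
    have horb' : MulAction.orbit N b = {c : G ⧸ N | c ≠ a} := by
      ext c
      constructor
      · rintro ⟨g, rfl⟩ e
        have e' := congrArg (fun z => (g : G)⁻¹ • z) e
        change (g : G)⁻¹ • (g : G) • b = (g : G)⁻¹ • a at e'
        rw [inv_smul_smul, (hstab _).mpr (inv_mem g.2)] at e'
        exact hb e'
      · intro hc
        obtain ⟨p, hp, hpc⟩ := horb b hb c hc
        exact ⟨⟨p, hPN hp⟩, hpc⟩
    have h1 := Nat.card_congr (MulAction.orbitProdStabilizerEquivGroup N b)
    rw [Nat.card_prod, horb', hNc] at h1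
    have h2 : Nat.card ↥({c : G ⧸ N | c ≠ a} : Set _) = 9 := by
      rw [Nat.card_eq_fintype_card]
      simp only [Set.coe_setOf]
      rw [Fintype.card_subtype_compl, Fintype.card_subtype_eq, hα]
    rw [h2] at h1
    have h3 : Nat.card (MulAction.stabilizer N b) = Nat.card D := by
      refine Nat.card_congr ?_
      exact
        { toFun := fun g => ⟨((g : N) : G), (g : N).2, g.2⟩
          invFun := fun g => ⟨⟨(g : G), g.2.1⟩, g.2.2⟩
          left_inv := fun g => rfl
          right_inv := fun g => rfl }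
    omega
  -- involutions of `D` invert `P`
  have hinv : ∀ d ∈ D, orderOf d = 2 → ∀ x ∈ (P : Subgroup G), d * x * d⁻¹ = x⁻¹ := by
    intro d hd hd2 x hx
    have hdN : ∀ y, y ∈ (P : Subgroup G) → d * y * d⁻¹ ∈ (P : Subgroup G) := fun y hy =>
      (Subgroup.mem_normalizer_iff.mp hd.1 y).mp hy
    have hdd : d * d = 1 := by rw [← pow_two, ← hd2, pow_orderOf_eq_one]
    let ψ : ↥(P : Subgroup G) →* ↥(P : Subgroup G) :=
      MonoidHom.mk' (fun y => ⟨d * y * d⁻¹, hdN y y.2⟩) fun y z => Subtype.ext (by
        change d * ((y : G) * z) * d⁻¹ = d * y * d⁻¹ * (d * z * d⁻¹); group)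
    have hψ : MonoidHom.FixedPointFree ψ := by
      intro y hy
      have hy' : d * (y : G) * d⁻¹ = y := congrArg Subtype.val hy
      by_contra hy1
      -- the fixed points of `d`
      let C₀ : Subgroup G := (P : Subgroup G) ⊓ Subgroup.centralizer {d}
      have hfix : Nat.card {c : G ⧸ N // φ d c = c} = Nat.card C₀ + 1 := by
        have e : ∀ c : G ⧸ N, c ≠ a → (d • c = c ↔ ∃ p ∈ C₀, p • b = c) := by
          intro c hc
          constructor
          · intro hdc
            obtain ⟨p, hp, rfl⟩ := horb b hb c hc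
            refine ⟨p, ⟨hp, Subgroup.mem_centralizer_singleton_iff.mpr ?_⟩, rfl⟩
            have h1 : d * p * d⁻¹ = p := by
              by_contra hne
              refine hb (hreg (p⁻¹ * (d * p * d⁻¹)) (mul_mem (inv_mem hp) (hdN p hp))
                (fun h1 => hne (inv_mul_eq_one.mp h1).symm) b ?_)
              rw [mul_smul, mul_smul, mul_smul, inv_smul_eq_iff]
              rw [show d⁻¹ • b = b from hDb _ (inv_mem hd), hdc]
            exact (mul_inv_eq_iff_eq_mul.mp h1).symm
          · rintro ⟨p, hp, rfl⟩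
            rw [← mul_smul, ← Subgroup.mem_centralizer_singleton_iff.mp hp.2, mul_smul, hDb d hd]
        let f : Option C₀ → {c : G ⧸ N // φ d c = c} := fun o => match o with
          | none => ⟨a, hDa d hd⟩
          | some p => ⟨(p : G) • b, by
              have hne : (p : G) • b ≠ a := fun e' => hb (by
                have e2 := congrArg (fun z => (p : G)⁻¹ • z) e'
                simp only [inv_smul_smul] at e2
                rwa [hPa _ (inv_mem p.2.1)] at e2)
              exact (e _ hne).mpr ⟨p, p.2, rfl⟩⟩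
        have hf : Function.Bijective f := by
          have hne : ∀ p : C₀, (p : G) • b ≠ a := fun p e' => hb (by
            have e2 := congrArg (fun z => (p : G)⁻¹ • z) e'
            simp only [inv_smul_smul] at e2
            rwa [hPa _ (inv_mem p.2.1)] at e2)
          refine ⟨fun o o' he => ?_, fun c => ?_⟩
          · have he' := congrArg Subtype.val he
            rcases o with _ | p <;> rcases o' with _ | q
            · rfl
            · exact absurd he'.symm (hne q)
            · exact absurd he' (hne p)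
            · congr 1
              apply Subtype.ext
              by_contra hpq
              refine hb (hreg ((q : G)⁻¹ * p) (mul_mem (inv_mem q.2.1) p.2.1) (fun h1 => hpq ?_) b ?_)
              · exact (inv_mul_eq_one.mp h1).symm
              · rw [mul_smul, show (p : G) • b = (q : G) • b from he', inv_smul_smul]
          · by_cases hc : (c : G ⧸ N) = a
            · exact ⟨none, Subtype.ext hc.symm⟩
            · obtain ⟨p, hp, hpc⟩ := (e _ hc).mp c.2
              exact ⟨some ⟨p, hp⟩, Subtype.ext hpc⟩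
        rw [← Nat.card_congr (Equiv.ofBijective f hf), Finite.card_option]
      have hφd : orderOf (φ d) = 2 := by rw [orderOf_injective φ hφ, hd2]
      have hfc := fixed_count hα (φ d) hφd (hsign d)
      rw [hfix] at hfc
      have hC₀d : Nat.card C₀ ∣ 9 := hP9 P ▸ Subgroup.card_dvd_of_le inf_le_left
      have hC₀1 : Nat.card C₀ ≠ 1 := fun e => hy1 (by
        have hmem : (y : G) ∈ C₀ := ⟨y.2, Subgroup.mem_centralizer_singleton_iff.mpr
          (mul_inv_eq_iff_eq_mul.mp hy').symm⟩
        rw [Subgroup.card_eq_one.mp e, Subgroup.mem_bot] at hmem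
        exact Subtype.ext hmem)
      have : Nat.card C₀ = 5 := by omega
      rw [this] at hC₀d
      norm_num at hC₀d
    have hi : Function.Involutive ψ := fun y => Subtype.ext (by
      show d * (d * (y : G) * d⁻¹) * d⁻¹ = y
      calc d * (d * (y : G) * d⁻¹) * d⁻¹ = (d * d) * y * (d * d)⁻¹ := by group
        _ = y := by rw [hdd]; group)
    exact congrArg Subtype.val (congrFun (hψ.coe_eq_inv_of_involutive hi) ⟨x, hx⟩)
  have hfaith : ∀ g : G, (∀ c : G ⧸ N, g • c = c) → g = 1 := fun g hg => hφ (by
    rw [map_one]; exact Equiv.Perm.ext hg)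
  have hD2 : IsPGroup 2 D := IsPGroup.of_card (n := 2) hDc
  have huniq : ∀ d ∈ D, ∀ e ∈ D, orderOf d = 2 → orderOf e = 2 → d = e := by
    intro d hd e he hd2 he2
    have hde : d * e = 1 := by
      refine hfaith _ fun c => ?_
      by_cases hc : c = a
      · rw [hc, mul_smul, hDa e he, hDa d hd]
      · obtain ⟨p, hp, rfl⟩ := horb b hb c hc
        have h1 : d * e * p = p * (d * e) := by
          have h2 := hinv e he he2 p hp
          have h3 := hinv d hd hd2 _ (inv_mem hp)
          rw [inv_inv] at h3
          rw [← mul_inv_eq_iff_eq_mul]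
          calc d * e * p * (d * e)⁻¹ = d * (e * p * e⁻¹) * d⁻¹ := by group
            _ = p := by rw [h2, h3]
        rw [← mul_smul, h1, mul_smul, mul_smul d, hDb e he, hDb d hd]
    rw [eq_inv_of_mul_eq_one_left hde]
    exact inv_eq_of_mul_eq_one_left (by rw [← pow_two, ← he2, pow_orderOf_eq_one])
  have hDu : UniqueOrderP 2 ↥D := fun x y hx hy hx1 => by
    rcases eq_or_ne y 1 with rfl | hy1
    · exact one_mem _
    · rw [show y = x from Subtype.ext (huniq _ y.2 _ x.2
        (by rw [Subgroup.orderOf_coe]; exact orderOf_eq_prime hy hy1)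
        (by rw [Subgroup.orderOf_coe]; exact orderOf_eq_prime hx hx1))]
      exact Subgroup.mem_zpowers x
  haveI hDcyc : IsCyclic ↥D := by
    rcases isCyclic_or_quaternion hD2 hDu with hc | ⟨-, k, hk, ⟨ε⟩⟩
    · exact hc
    · haveI : NeZero (2 ^ k) := ⟨by positivity⟩
      have := Nat.card_congr ε.toEquiv
      rw [hDc, Nat.card_eq_fintype_card, QuaternionGroup.card] at this
      have : 2 ^ 1 ≤ 2 ^ k := Nat.pow_le_pow_right (by norm_num) hk
      omega
  obtain ⟨⟨d, hdD⟩, hdgen⟩ := IsCyclic.exists_generator (α := ↥D)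
  have hd4 : orderOf d = 4 := by
    have := orderOf_eq_card_of_forall_mem_zpowers hdgen
    rw [hDc, ← Subgroup.orderOf_coe] at this
    exact this
  have hDz : D = Subgroup.zpowers d := by
    refine le_antisymm (fun x hx => ?_) (Subgroup.zpowers_le.mpr hdD)
    obtain ⟨i, hi⟩ := hdgen ⟨x, hx⟩
    exact ⟨i, congrArg Subtype.val hi⟩
  set t := d ^ 2 with htd
  have ht2 : orderOf t = 2 := by rw [htd, orderOf_pow, hd4]; rfl
  have htD : t ∈ D := pow_mem hdD 2
  have htt : t * t = 1 := by rw [← pow_two, ← ht2, pow_orderOf_eq_one]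
  have ht1 : t ≠ 1 := fun e => by rw [e, orderOf_one] at ht2; omega
  have htfix : ∀ c : G ⧸ N, t • c = c → c = a ∨ c = b := by
    intro c hc
    by_cases hca : c = a
    · exact Or.inl hca
    · obtain ⟨p, hp, rfl⟩ := horb b hb c hca
      right
      have h2 : t * p * t⁻¹ = p⁻¹ := hinv t htD ht2 p hp
      by_cases hp1 : p = 1
      · rw [hp1, one_smul]
      exfalso
      have hpp : p * p ≠ 1 := fun e => by
        have h9 : orderOf p ∣ 9 := hP9 P ▸ (P : Subgroup G).orderOf_dvd_natCard hp
        have h22 : orderOf p ∣ 2 := orderOf_dvd_of_pow_eq_one (by rw [pow_two, e])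
        exact hp1 (orderOf_eq_one_iff.mp (Nat.dvd_one.mp ((Nat.dvd_gcd h9 h22).trans (by norm_num))))
      refine hb (hreg (p * p) (mul_mem hp hp) hpp b ?_)
      have h3 : t • p • b = p⁻¹ • b := by
        rw [← mul_smul, show t * p = p⁻¹ * t from mul_inv_eq_iff_eq_mul.mp h2, mul_smul, hDb t htD]
      rw [hc, eq_inv_smul_iff] at h3
      rwa [mul_smul]
  set C := Subgroup.centralizer ({t} : Set G) with hC
  have hCab : ∀ g ∈ C, (g • a = a ∧ g • b = b) ∨ (g • a = b ∧ g • b = a) := by
    intro g hg
    have hgt : g * t = t * g := Subgroup.mem_centralizer_singleton_iff.mp hg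
    have hmv : ∀ c : G ⧸ N, t • c = c → t • (g • c) = g • c := fun c hc => by
      rw [← mul_smul, ← hgt, mul_smul, hc]
    have hne : g • a ≠ g • b := fun e => hb (MulAction.injective g e).symm
    rcases htfix _ (hmv a (hDa t htD)) with h1 | h1 <;> rcases htfix _ (hmv b (hDb t htD)) with h2 | h2
    · exact absurd (h1.trans h2.symm) hne
    · exact Or.inl ⟨h1, h2⟩
    · exact Or.inr ⟨h1, h2⟩
    · exact absurd (h1.trans h2.symm) hne
  -- an element interchanging the two points
  obtain ⟨u, hua, hub⟩ : ∃ u : G, u • a = b ∧ u • b = a := by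
    obtain ⟨g, hg⟩ := MulAction.exists_smul_eq G a b
    have hgb : g • b ≠ b := fun e => hb (MulAction.injective g (e.trans hg.symm))
    obtain ⟨p, hp, hpc⟩ := horb (g⁻¹ • (g • b)) (by rwa [inv_smul_smul]) (g⁻¹ • a)
      (fun e => hb (by
        have := congrArg (fun z => g • z) e
        simp only [smul_inv_smul] at this
        rw [this, hg]))
    refine ⟨g * p, ?_, ?_⟩
    · rw [mul_smul, hPa p hp, hg]
    · rw [inv_smul_smul] at hpc
      rw [mul_smul, hpc, smul_inv_smul]
  have hmemD : ∀ g : G, g • a = a → g • b = b → g ∈ D := fun g h1 h2 => ⟨(hstab g).mp h1, h2⟩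
  have hconj : ∀ g ∈ D, u * g * u⁻¹ ∈ D := fun g hg => by
    have hu1 : u⁻¹ • a = b := by rw [inv_smul_eq_iff]; exact hub.symm
    have hu2 : u⁻¹ • b = a := by rw [inv_smul_eq_iff]; exact hua.symm
    exact hmemD _ (by rw [mul_smul, mul_smul, hu1, hDb g hg, hub])
      (by rw [mul_smul, mul_smul, hu2, hDa g hg, hua])
  have hut : u * t = t * u := mul_inv_eq_iff_eq_mul.mp (huniq _ (hconj t htD) t htD
    (by rw [← MulAut.conj_apply, MulEquiv.orderOf_eq, ht2]) ht2)
  have huC : u ∈ C := Subgroup.mem_centralizer_singleton_iff.mpr hut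
  have hDC : D ≤ C := fun g hg => by
    refine Subgroup.mem_centralizer_singleton_iff.mpr ?_
    obtain ⟨i, rfl⟩ := hDz ▸ hg
    exact ((Commute.refl d).zpow_left i).pow_right 2
  have hCdec : ∀ g ∈ C, g ∈ D ∨ u⁻¹ * g ∈ D := fun g hg => by
    rcases hCab g hg with ⟨h1, h2⟩ | ⟨h1, h2⟩
    · exact Or.inl (hmemD g h1 h2)
    · refine Or.inr (hmemD _ ?_ ?_)
      · rw [mul_smul, h1, inv_smul_eq_iff]; exact hua.symm
      · rw [mul_smul, h2, inv_smul_eq_iff]; exact hub.symm
  have huD : u ∉ D := fun e => hb ((hDa u e).symm.trans hua).symm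
  have hC8 : Nat.card C = 8 := by
    have hi : (D.subgroupOf C).index = 2 := by
      refine Subgroup.index_eq_two_iff.mpr ⟨⟨u, huC⟩, fun g => ?_⟩
      simp only [Subgroup.mem_subgroupOf, Subgroup.coe_mul, xor_iff_or_and_not_and]
      refine ⟨?_, fun hh => huD ?_⟩
      · rcases hCdec g g.2 with h1 | h1
        · exact Or.inr h1
        · refine Or.inl ?_
          have hu2 : u * u ∈ D := hmemD _ (by rw [mul_smul, hua, hub]) (by rw [mul_smul, hub, hua])
          have := mul_mem (hconj _ h1) hu2
          simpa [mul_assoc] using this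
      · have := mul_mem (inv_mem hh.2) hh.1
        simpa using this
    have := Subgroup.card_mul_index (D.subgroupOf C)
    rw [hi, Nat.card_congr (Subgroup.subgroupOfEquivOfLe hDC).toEquiv, hDc] at this
    omega
  obtain ⟨S, hS⟩ := (IsPGroup.of_card (n := 3) hC8 : IsPGroup 2 C).exists_le_sylow
  have hS8 : Nat.card (S : Subgroup G) = 8 := by rw [S.card_eq_multiplicity, h, hf2]; rfl
  have hCS : C = (S : Subgroup G) := Subgroup.eq_of_le_of_card_ge hS (by rw [hS8, hC8])
  have hu2 : u * u ∈ D := hmemD _ (by rw [mul_smul, hua, hub]) (by rw [mul_smul, hub, hua])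
  -- conjugation inverts the rotations
  have hud : u * d * u⁻¹ = d⁻¹ := by
    obtain ⟨i, hi⟩ : u * d * u⁻¹ ∈ Subgroup.zpowers d := hDz ▸ hconj d hdD
    change d ^ i = _ at hi
    have ho : orderOf (d ^ i) = 4 := by rw [hi, ← MulAut.conj_apply, MulEquiv.orderOf_eq, hd4]
    have hmod : i % 4 = 1 ∨ i % 4 = 3 := by
      have h0 : i % 2 ≠ 0 := fun h0 => by
        obtain ⟨j, rfl⟩ := Int.dvd_of_emod_eq_zero h0
        have : (d ^ (2 * j)) ^ 2 = 1 := by
          rw [← zpow_natCast, ← zpow_mul, show 2 * j * ((2 : ℕ) : ℤ) = ((4 : ℕ) : ℤ) * j by push_cast; ring,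
            zpow_mul, zpow_natCast, ← hd4, pow_orderOf_eq_one, one_zpow]
        have := orderOf_dvd_of_pow_eq_one this
        rw [ho] at this
        norm_num at this
      omega
    have hpw : d ^ i = d ^ (i % 4) := by
      rw [← zpow_mod_orderOf d i, hd4, Nat.cast_ofNat]
    rcases hmod with h1 | h1
    · exfalso
      rw [hpw, h1, zpow_one] at hi
      have hcomm : u * d = d * u := mul_inv_eq_iff_eq_mul.mp hi.symm
      -- squares in the centraliser lie in `D`
      have hab : IsMulCommutative ↥(S : Subgroup G) := by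
        refine ⟨⟨fun x y => Subtype.ext ?_⟩⟩
        have hle : (S : Subgroup G) ≤ Subgroup.closure {d, u} := by
          rw [← hCS]
          intro g hg
          have hDle : D ≤ Subgroup.closure {d, u} :=
            hDz ▸ Subgroup.zpowers_le.mpr (Subgroup.subset_closure (by simp))
          rcases hCdec g hg with h1 | h1
          · exact hDle h1
          · rw [← mul_inv_cancel_left u g]
            exact mul_mem (Subgroup.subset_closure (by simp)) (hDle h1)
        haveI := Subgroup.isMulCommutative_closure (k := {d, u}) (by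
          rintro _ (rfl | rfl) _ (rfl | rfl) <;> first | rfl | exact hcomm | exact hcomm.symm)
        exact congrArg (fun z : ↥(Subgroup.closure ({d, u} : Set G)) => (z : G))
          (mul_comm' (⟨x, hle x.2⟩ : ↥(Subgroup.closure ({d, u} : Set G))) ⟨y, hle y.2⟩)
      have hS1 : (S : Subgroup G) ≠ ⊥ := fun e => by rw [e, Subgroup.card_bot] at hS8; omega
      have hS2 : (S : Subgroup G) ≠ ⊤ := fun e => by rw [e, Subgroup.card_top, h] at hS8; omega
      refine no_complement S hS1 hS2 fun g hg => ?_
      have hsqD : ∀ s ∈ C, s * s ∈ D := fun s hs => by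
        rcases hCab s hs with ⟨h1, h2⟩ | ⟨h1, h2⟩ <;>
          exact hmemD _ (by rw [mul_smul]; simp [h1, h2]) (by rw [mul_smul]; simp [h1, h2])
      have hgd : g * d * g⁻¹ ∈ C := hCS ▸ (Subgroup.mem_normalizer_iff.mp hg d).mp (hCS ▸ hDC hdD)
      have hgt : g * t * g⁻¹ = t := huniq _ (by
        have e : g * t * g⁻¹ = (g * d * g⁻¹) * (g * d * g⁻¹) := by rw [htd, pow_two]; group
        rw [e]; exact hsqD _ hgd) t htD (by rw [← MulAut.conj_apply, MulEquiv.orderOf_eq, ht2]) ht2
      have hgC : g ∈ (S : Subgroup G) := hCS ▸ Subgroup.mem_centralizer_singleton_iff.mpr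
        (mul_inv_eq_iff_eq_mul.mp hgt)
      exact Subgroup.le_centralizer_iff_isMulCommutative.mpr hab hgC
    · rw [hpw, h1] at hi
      rw [← hi, eq_comm, inv_eq_iff_mul_eq_one]
      calc d * d ^ (3 : ℤ) = d ^ (4 : ℕ) := by group
        _ = 1 := by rw [← hd4, pow_orderOf_eq_one]
  -- the interchanging element is an involution
  have huu : u * u = 1 := by
    obtain ⟨i, hi⟩ : u * u ∈ Subgroup.zpowers d := hDz ▸ hu2
    change d ^ i = _ at hi
    have h1 : u * d ^ i * u⁻¹ = (d ^ i)⁻¹ := by rw [← conj_zpow, hud, inv_zpow]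
    rw [hi] at h1
    have h4 : u * u * (u * u) = 1 := by
      rw [← inv_eq_iff_mul_eq_one.mp h1.symm]; group
    by_contra hne
    have hu2t : u * u = t := huniq _ hu2 t htD (orderOf_eq_prime (by rw [pow_two, h4]) hne) ht2
    -- every involution of the centraliser is `t`
    have honly : ∀ g ∈ C, g * g = 1 → g = 1 ∨ g = t := by
      intro g hg hgg
      rcases eq_or_ne g 1 with h1 | h1
      · exact Or.inl h1
      rcases hCdec g hg with h2 | h2
      · exact Or.inr (huniq g h2 t htD (orderOf_eq_prime (by rw [pow_two, hgg]) h1) ht2)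
      · exfalso
        obtain ⟨j, hj⟩ : u⁻¹ * g ∈ Subgroup.zpowers d := hDz ▸ h2
        change d ^ j = _ at hj
        have hge : g = u * d ^ j := by rw [hj, mul_inv_cancel_left]
        have hc : u * d ^ j * u⁻¹ = (d ^ j)⁻¹ := by rw [← conj_zpow, hud, inv_zpow]
        refine ht1 ?_
        rw [← hu2t, ← hgg, hge]
        calc u * u = (d ^ j)⁻¹ * (u * u) * d ^ j := by
              rw [hu2t]
              have : Commute t (d ^ j) := ((Commute.refl d).pow_left 2).zpow_right j
              rw [mul_assoc, this.eq, inv_mul_cancel_left]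
          _ = (u * d ^ j * u⁻¹) * (u * u) * d ^ j := by rw [hc]
          _ = _ := by group
    let A := {v : G // IsConj t v ∧ v ≠ t}
    have hclass : Nat.card {v : G // IsConj t v} = 45 := by
      let e : ConjAct.toConjAct '' (C : Set G) ≃ C := (Equiv.Set.image _ _ ConjAct.toConjAct.injective).symm
      have h1 := Nat.card_congr (MulAction.orbitProdStabilizerEquivGroup (ConjAct G) t)
      rw [Nat.card_prod] at h1
      have h2 : Nat.card (MulAction.stabilizer (ConjAct G) t) = 8 := by
        rw [← hC8]
        refine Nat.card_congr ((ConjAct.ofConjAct.toEquiv).subtypeEquiv fun g => ?_)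
        rw [MulAction.mem_stabilizer_iff, ConjAct.smul_def, Subgroup.mem_centralizer_singleton_iff]
        exact mul_inv_eq_iff_eq_mul
      have h3 : Nat.card (MulAction.orbit (ConjAct G) t) = Nat.card {v : G // IsConj t v} :=
        Nat.card_congr (Equiv.subtypeEquivRight fun v => by
          rw [ConjAct.mem_orbit_conjAct, isConj_comm])
      rw [h2, h3, Nat.card_congr ConjAct.toConjAct.symm.toEquiv, h] at h1
      omega
    have hA : Nat.card A = 44 := by
      have e : {v : G // IsConj t v} ≃ Option A :=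
        { toFun := fun v => if hv : (v : G) = t then none else some ⟨v, v.2, hv⟩
          invFun := fun o => o.elim ⟨t, IsConj.refl t⟩ fun v => ⟨v, v.2.1⟩
          left_inv := fun v => by
            by_cases hv : (v : G) = t
            · simp [hv]; exact Subtype.ext hv.symm
            · simp [hv]
          right_inv := fun o => by
            rcases o with _ | v
            · simp
            · simp [v.2.2] }
      have := Nat.card_congr e
      rw [hclass, Finite.card_option] at this
      omega
    let act : MulAction C A :=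
      { smul := fun s v => ⟨(s : G) * v * (s : G)⁻¹, v.2.1.trans (isConj_iff.mpr ⟨s, rfl⟩), fun e => v.2.2 (by
          have hs : (s : G) * t * (s : G)⁻¹ = t := mul_inv_eq_iff_eq_mul.mpr
            (Subgroup.mem_centralizer_singleton_iff.mp s.2)
          exact (MulAut.conj (s : G)).injective (e.trans hs.symm))⟩
        one_smul := fun v => Subtype.ext (by
          show ((1 : C) : G) * v * ((1 : C) : G)⁻¹ = v; simp)
        mul_smul := fun r s v => Subtype.ext (by
          show ((r * s : C) : G) * v * ((r * s : C) : G)⁻¹ = (r : G) * ((s : G) * v * (s : G)⁻¹) * (r : G)⁻¹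
          simp [mul_assoc]) }
    have hfree : ∀ v : A, MulAction.stabilizer C v = ⊥ := by
      intro v
      by_contra hne'
      obtain ⟨s, hs⟩ := exists_prime_orderOf_dvd_card' (G := ↥(MulAction.stabilizer C v)) 2 (by
        obtain ⟨k, hk⟩ := IsPGroup.iff_card.mp ((IsPGroup.of_card (n := 3) hC8 : IsPGroup 2 C).to_subgroup
          (MulAction.stabilizer C v))
        rw [hk]
        refine dvd_pow_self 2 fun hk0 => hne' (Subgroup.card_eq_one.mp (by rw [hk, hk0, pow_zero])))
      have hs' : orderOf ((s : C) : G) = 2 := by rw [Subgroup.orderOf_coe, Subgroup.orderOf_coe, hs]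
      have hst : ((s : C) : G) = t := by
        refine (honly _ (s : C).2 (by rw [← pow_two, ← hs', pow_orderOf_eq_one])).resolve_left fun e => ?_
        rw [e, orderOf_one] at hs'; omega
      have hsv : (s : C) • v = v := s.2
      have hv : t * (v : G) * t⁻¹ = v := by
        have h0 : ((s : C) : G) * v * ((s : C) : G)⁻¹ = v := congrArg (fun z : A => (z : G)) hsv
        simpa only [hst] using h0
      have hvC : (v : G) ∈ C := Subgroup.mem_centralizer_singleton_iff.mpr (mul_inv_eq_iff_eq_mul.mp hv).symm
      have hv2 : orderOf (v : G) = 2 := by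
        obtain ⟨c, hc⟩ := isConj_iff.mp v.2.1
        rw [← hc, ← MulAut.conj_apply, MulEquiv.orderOf_eq, ht2]
      rcases honly _ hvC (by rw [← pow_two, ← hv2, pow_orderOf_eq_one]) with e | e
      · rw [e, orderOf_one] at hv2; omega
      · exact v.2.2 e
    haveI : Finite A := inferInstanceAs (Finite {v : G // IsConj t v ∧ v ≠ t})
    haveI : Fintype (Quotient (MulAction.orbitRel C A)) := Fintype.ofFinite _
    have hcard := Nat.card_congr (MulAction.selfEquivSigmaOrbitsQuotientStabilizer C A)
    rw [hA, Nat.card_sigma] at hcard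
    simp only [hfree, ← Subgroup.index_eq_card, Subgroup.index_bot, hC8, Finset.sum_const, Finset.card_univ,
      smul_eq_mul] at hcard
    omega
  refine ⟨t, ht2, CfsgLib.QDWr.nonempty_mulEquiv_dihedral (a := (⟨d, hDC hdD⟩ : C)) (y := ⟨u, huC⟩)
    (by rw [← Subgroup.orderOf_coe]; exact hd4) (Subtype.ext hud) (Subtype.ext (by rw [Subgroup.coe_pow, pow_two]; exact huu))
    (fun hmem => huD (by
      obtain ⟨i, hi⟩ := hmem
      have : d ^ i = u := congrArg Subtype.val hi
      rw [← this]; exact zpow_mem hdD i)) ?_⟩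
  rw [eq_top_iff]
  intro g _
  rcases hCdec g g.2 with h1 | h1 <;> obtain ⟨i, hi⟩ := (hDz ▸ h1 : _ ∈ Subgroup.zpowers d)
  · exact Subgroup.mem_sup_left ⟨i, Subtype.ext hi⟩
  · have : g = ⟨u, huC⟩ * (⟨d, hDC hdD⟩ : C) ^ i := Subtype.ext (by
      change d ^ i = _ at hi
      simp [hi])
    rw [this]
    exact mul_mem (Subgroup.mem_sup_right (Subgroup.mem_zpowers _))
      (zpow_mem (Subgroup.mem_sup_left (Subgroup.mem_zpowers _)) i)

/-- A simple group of order 360 is isomorphic to the alternating group of degree 6. -/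
theorem result {G : Type*} [Group G] [Finite G] [IsSimpleGroup G]
    (h : Nat.card G = 360) : Nonempty (G ≃* alternatingGroup (Fin 6)) := by
  obtain ⟨t, ht, ⟨e⟩⟩ := exists_dihedral_centralizer h
  have hidx : ∀ H : Subgroup G, H.index ≠ 2 := fun H hH => by
    have hn : H.Normal := Subgroup.normal_of_index_eq_two hH
    rcases hn.eq_bot_or_eq_top with h' | h'
    · rw [h', Subgroup.index_bot, h] at hH; omega
    · rw [h', Subgroup.index_top] at hH; omega
  have hS := (CfsgLib.BSW.structured_of_dihedral_eight' ht e hidx).1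
  obtain ⟨hA, hAc⟩ := CfsgLib.BSW.structured_alternating_six
  haveI : Fact (Nat.Prime 3) := ⟨Nat.prime_three⟩
  haveI : Fintype (GaloisField 3 2) := Fintype.ofFinite _
  have hF : Fintype.card (GaloisField 3 2) = 9 := by
    rw [← Nat.card_eq_fintype_card, GaloisField.card 3 2 two_ne_zero]; rfl
  obtain ⟨e₁⟩ := hS.nonempty_iso (F := GaloisField 3 2) (by rw [h, hF])
  obtain ⟨e₂⟩ := hA.nonempty_iso (F := GaloisField 3 2) (by rw [hAc, hF])
  exact ⟨e₁.trans e₂.symm⟩

end Cfsg.Agent.S0497
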