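import Cfsg.Statements.S3805
import Cfsg.Agent.CharBasics.Extra
import Cfsg.Agent.CharBasics.Central
import Cfsg.Agent.Blocks.Central

set_option autoImplicit false
open Cfsg

namespace Cfsg.Agent.S3805

open CfsgLib.CharBasics
open scoped ComplexConjugate

universe u

/-- Factorisations of `y` as a conjugate of `a` times a conjugate of `b`. -/
theorem pairs_count {G : Type u} [Group G] [Fintype G] [Fintype (Cfsg.IrrCharacter G)] (a b y : G) :
    (Nat.card {v : G // IsConj v a ∧ IsConj (v⁻¹ * y) b} : ℂ) *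
        ((Nat.card (Subgroup.centralizer ({a} : Set G)) : ℂ) *
          (Nat.card (Subgroup.centralizer ({b} : Set G)) : ℂ)) =
      (Nat.card G : ℂ) * ∑ χ : Cfsg.IrrCharacter G,
        conj ((χ : G → ℂ) a) * conj ((χ : G → ℂ) b) * (χ : G → ℂ) y / (χ : G → ℂ) 1 := by
  classical
  set c : ℂ := (Nat.card (Subgroup.centralizer ({a} : Set G)) : ℂ) with hc
  set c' : ℂ := (Nat.card (Subgroup.centralizer ({b} : Set G)) : ℂ) with hc'
  have hcol : ∀ v : G, (if IsConj v a then c else 0) =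
      ∑ χ : Cfsg.IrrCharacter G, (χ : G → ℂ) v * conj ((χ : G → ℂ) a) := fun v => by
    rw [sum_col v a]
    split_ifs with h
    · rw [hc, CfsgLib.Blocks.card_centralizer_eq h]
    · rfl
  have hcol' : ∀ v : G, (if IsConj v b then c' else 0) =
      ∑ χ : Cfsg.IrrCharacter G, (χ : G → ℂ) v * conj ((χ : G → ℂ) b) := fun v => by
    rw [sum_col v b]
    split_ifs with h
    · rw [hc', CfsgLib.Blocks.card_centralizer_eq h]
    · rfl
  calc (Nat.card {v : G // IsConj v a ∧ IsConj (v⁻¹ * y) b} : ℂ) * (c * c')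
      = ∑ v : G, (if IsConj v a then c else 0) * (if IsConj (v⁻¹ * y) b then c' else 0) := by
        rw [Nat.card_eq_fintype_card, Fintype.card_subtype, ← Finset.sum_boole, Finset.sum_mul]
        refine Finset.sum_congr rfl fun v _ => ?_
        by_cases h1 : IsConj v a
        · by_cases h2 : IsConj (v⁻¹ * y) b
          · rw [if_pos ⟨h1, h2⟩, if_pos h1, if_pos h2, one_mul]
          · rw [if_neg (fun h => h2 h.2), if_neg h2, zero_mul, mul_zero]
        · rw [if_neg (fun h => h1 h.1), if_neg h1, zero_mul, zero_mul]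
    _ = ∑ χ : Cfsg.IrrCharacter G, ∑ ψ : Cfsg.IrrCharacter G,
          conj ((χ : G → ℂ) a) * conj ((ψ : G → ℂ) b) *
          ∑ v : G, (χ : G → ℂ) v * (ψ : G → ℂ) (v⁻¹ * y) := by
        simp only [hcol, hcol', Finset.mul_sum, Finset.sum_mul]
        rw [Finset.sum_comm]
        refine (Finset.sum_congr rfl fun ψ _ => Finset.sum_comm).trans ?_
        rw [Finset.sum_comm]
        refine Finset.sum_congr rfl fun χ _ => Finset.sum_congr rfl fun ψ _ => Finset.sum_congr rfl fun v _ => ?_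
        ring
    _ = _ := by
        rw [Finset.mul_sum]
        refine Finset.sum_congr rfl fun χ _ => ?_
        have key : ∀ ψ : Cfsg.IrrCharacter G, ∑ v : G, (χ : G → ℂ) v * (ψ : G → ℂ) (v⁻¹ * y) =
            (if χ = ψ then (Nat.card G : ℂ) * (ψ : G → ℂ) y else 0) / (ψ : G → ℂ) 1 := fun ψ => by
          rw [eq_div_iff (apply_one_ne_zero ψ.2), mul_comm, conv_irr]
        simp only [key]
        rw [Finset.sum_eq_single χ]
        · rw [if_pos rfl]; ring
        · intro ψ _ hψ
          rw [if_neg hψ.symm]; simp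
        · simp

/-- A character takes an integer value, congruent to its degree mod `3`, at a real element of order `3`. -/
theorem int_value {G : Type u} [Group G] [Finite G] {χ : G → ℂ} (h : Cfsg.IsCharacter G χ) {t : G}
    (ht : t ^ 3 = 1) (hr : IsConj t t⁻¹) :
    ∃ z : ℤ, χ t = (z : ℂ) ∧ (3 : ℤ) ∣ z - (Cfsg.charDegree χ : ℤ) := by
  classical
  obtain ⟨lam, hl, hv⟩ := exists_eigen h t
  have h2 : χ t = ∑ i, lam i := by simpa using hv 1
  have hreal : conj (χ t) = χ t := by rw [← apply_inv h, ← apply_isConj h hr]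
  have hl3 : ∀ i, lam i ^ 3 = 1 := fun i => by
    obtain ⟨k, hk⟩ := orderOf_dvd_of_pow_eq_one ht
    rw [hk, pow_mul, hl i, one_pow]
  have hpair : ∀ i, lam i + conj (lam i) = (((if lam i = 1 then 2 else -1) : ℤ) : ℂ) := fun i => by
    rw [← Complex.inv_eq_conj (Complex.norm_eq_one_of_pow_eq_one (hl3 i) (by norm_num))]
    have hinv : (lam i)⁻¹ = lam i ^ 2 :=
      inv_eq_of_mul_eq_one_right (by rw [← pow_succ']; exact hl3 i)
    rw [hinv]
    by_cases hi : lam i = 1
    · rw [if_pos hi, hi]; norm_num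
    · rw [if_neg hi]
      push_cast
      have h3 : (lam i - 1) * (lam i + lam i ^ 2 + 1) = 0 := by
        have := hl3 i
        linear_combination this
      rcases mul_eq_zero.1 h3 with h4 | h4
      · exact absurd (sub_eq_zero.1 h4) hi
      · linear_combination h4
  obtain ⟨m, hm⟩ : ∃ m : ℤ, m = ∑ i, (if lam i = 1 then (2 : ℤ) else -1) := ⟨_, rfl⟩
  have hmc : (m : ℂ) = 2 * χ t := by
    rw [hm, Int.cast_sum, ← Finset.sum_congr rfl (fun i _ => hpair i), Finset.sum_add_distrib,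
      ← map_sum, ← h2, hreal]
    ring
  have hmd : (3 : ℤ) ∣ m - 2 * (Cfsg.charDegree χ : ℤ) := by
    have : m - 2 * (Cfsg.charDegree χ : ℤ) = ∑ i, ((if lam i = 1 then (2 : ℤ) else -1) - 2) := by
      rw [hm, Finset.sum_sub_distrib]
      simp [mul_comm]
    rw [this]
    refine Finset.dvd_sum fun i _ => ?_
    split_ifs <;> norm_num
  have hint : IsIntegral ℤ (algebraMap ℚ ℂ ((m : ℚ) / 2)) := by
    have : algebraMap ℚ ℂ ((m : ℚ) / 2) = χ t := by
      rw [eq_ratCast]; push_cast; rw [hmc]; ring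
    rw [this]; exact isIntegral_apply h t
  rw [isIntegral_algebraMap_iff (algebraMap ℚ ℂ).injective] at hint
  obtain ⟨z, hz⟩ := IsIntegrallyClosed.isIntegral_iff.mp hint
  have hz2 : m = 2 * z := by
    have h5 : ((z : ℤ) : ℚ) = (m : ℚ) / 2 := by simpa using hz
    have h6 : (m : ℚ) = 2 * (z : ℚ) := by rw [h5]; ring
    exact_mod_cast h6
  refine ⟨z, ?_, by omega⟩
  have h7 : (2 : ℂ) * χ t = 2 * (z : ℂ) := by rw [← hmc, hz2]; push_cast; ring
  exact mul_left_cancel₀ two_ne_zero h7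

abbrev V : Type := ZMod 3 × ZMod 3

abbrev Sg : Type := Fin 2 × Fin 2

def sgn (e : Sg) (a : V) : V :=
  (if e.1 = 0 then a.1 else -a.1, if e.2 = 0 then a.2 else -a.2)

def R (a b : V) : Prop := ∃ e, sgn e a = b

instance instDecR (a b : V) : Decidable (R a b) := Fintype.decidableExistsFintype

variable {G : Type u} [Group G]

theorem conj_cube {u t : G} (h : IsConj u t) (ht : t ^ 3 = 1) : u ^ 3 = 1 := by
  obtain ⟨g, hg⟩ := isConj_iff.1 h
  rw [← hg, conj_pow] at ht
  have := congrArg (fun z => g⁻¹ * z * g) ht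
  simpa [mul_assoc] using this

theorem mem_sylow_of_normalizer [Finite G] (P : Sylow 3 G) {g : G}
    (hg : g ∈ Subgroup.normalizer ((P : Subgroup G) : Set G)) (hg3 : g ^ 3 = 1) : g ∈ (P : Subgroup G) := by
  have hp : IsPGroup 3 ↥(Subgroup.zpowers g) := by
    intro x
    obtain ⟨k, hk⟩ := Subgroup.mem_zpowers_iff.1 x.2
    exact ⟨1, Subtype.ext (by
      push_cast
      rw [← hk, ← zpow_natCast (g ^ k), ← zpow_mul, mul_comm, zpow_mul, zpow_natCast, hg3, one_zpow])⟩
  have hsup : IsPGroup 3 ↥((P : Subgroup G) ⊔ Subgroup.zpowers g) :=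
    P.isPGroup'.to_sup_of_normal_left' hp (Subgroup.zpowers_le.2 hg)
  rw [← P.is_maximal' hsup le_sup_left]
  exact Subgroup.mem_sup_right (Subgroup.mem_zpowers g)

theorem mem_smul_sylow_iff (g x : G) (P : Sylow 3 G) :
    x ∈ ((g • P : Sylow 3 G) : Subgroup G) ↔ g⁻¹ * x * g ∈ (P : Subgroup G) := by
  rw [Sylow.coe_subgroup_smul, Subgroup.mem_pointwise_smul_iff_inv_smul_mem, ← map_inv,
    MulAut.smul_def, MulAut.conj_apply, inv_inv]

section
variable [Finite G] (T : Sylow 3 G)
  (hab : ∀ a ∈ (T : Subgroup G), ∀ b ∈ (T : Subgroup G), a * b = b * a)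
  (hloc : ∀ t ∈ (T : Subgroup G), t ≠ 1 →
      Subgroup.centralizer ({t} : Set G) ≤ Subgroup.normalizer ((T : Subgroup G) : Set G))

include hab hloc in
theorem ti {g t : G} (ht : t ∈ (T : Subgroup G)) (h1 : t ≠ 1) (hgt : g * t * g⁻¹ ∈ (T : Subgroup G))
    (hexp : ∀ a ∈ (T : Subgroup G), a ^ 3 = 1) :
    g ∈ Subgroup.normalizer ((T : Subgroup G) : Set G) := by
  have hle : ((g • T : Sylow 3 G) : Subgroup G) ≤ (T : Subgroup G) := by
    intro z hz
    rw [mem_smul_sylow_iff] at hz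
    have hs1 : g * t * g⁻¹ ≠ 1 := fun h => h1 (conj_eq_one_iff.1 h)
    have hzc : z ∈ Subgroup.centralizer ({g * t * g⁻¹} : Set G) := by
      rw [Subgroup.mem_centralizer_singleton_iff]
      have := hab _ hz _ ht
      calc z * (g * t * g⁻¹) = g * ((g⁻¹ * z * g) * t) * g⁻¹ := by group
        _ = g * (t * (g⁻¹ * z * g)) * g⁻¹ := by rw [this]
        _ = g * t * g⁻¹ * z := by group
    have hz3 : z ^ 3 = 1 := conj_cube (isConj_iff.2 ⟨g⁻¹, by rw [inv_inv]⟩) (hexp _ hz)
    exact mem_sylow_of_normalizer T (hloc _ hgt hs1 hzc) hz3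
  refine Sylow.smul_eq_iff_mem_normalizer.1 ?_
  apply Sylow.ext
  exact ((g • T).is_maximal' T.isPGroup' hle).symm

include hloc in
theorem cent_le_normalizer (g : G) {t : G} (ht : t ∈ ((g • T : Sylow 3 G) : Subgroup G)) (h1 : t ≠ 1) :
    Subgroup.centralizer ({t} : Set G) ≤
      Subgroup.normalizer (((g • T : Sylow 3 G) : Subgroup G) : Set G) := by
  intro h hh
  rw [mem_smul_sylow_iff] at ht
  rw [Subgroup.mem_centralizer_singleton_iff] at hh
  have h2 : g⁻¹ * h * g ∈ Subgroup.centralizer ({g⁻¹ * t * g} : Set G) := by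
    rw [Subgroup.mem_centralizer_singleton_iff]
    calc g⁻¹ * h * g * (g⁻¹ * t * g) = g⁻¹ * (h * t) * g := by group
      _ = g⁻¹ * (t * h) * g := by rw [hh]
      _ = g⁻¹ * t * g * (g⁻¹ * h * g) := by group
  have ht1 : g⁻¹ * t * g ≠ 1 := fun hc => h1 (by
    have := congrArg (fun z => g * z * g⁻¹) hc
    simpa [mul_assoc] using this)
  have h3 := Sylow.smul_eq_iff_mem_normalizer.2 (hloc _ ht ht1 h2)
  refine Sylow.smul_eq_iff_mem_normalizer.1 ?_
  rw [smul_smul]
  calc (h * g) • T = g • ((g⁻¹ * h * g) • T) := by rw [smul_smul]; congr 1; group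
    _ = g • T := by rw [h3]

include hab hloc in
/-- Two elements of order three with product of order three: either they are conjugate or both lie in `T`. -/
theorem triangle (hexp : ∀ a ∈ (T : Subgroup G), a ^ 3 = 1) {u w : G} (hu : u ^ 3 = 1) (hu1 : u ≠ 1)
    (hw : w ∈ (T : Subgroup G)) (hw1 : w ≠ 1) (hv : (u⁻¹ * w) ^ 3 = 1) (hreal : IsConj u u⁻¹)
    (hne : ¬ IsConj u w) : u ∈ (T : Subgroup G) := by
  have hw3 : w ^ 3 = 1 := hexp w hw
  have hcomm : (u * w) * (w * u) = (w * u) * (u * w) := by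
    have hrel : u * w⁻¹ * u = w * u⁻¹ * w := by
      have h0 : (u * w⁻¹ * u)⁻¹ * (w * u⁻¹ * w) = (u⁻¹ * w) ^ 3 := by
        rw [pow_succ, pow_succ, pow_one]; group
      rw [hv, inv_mul_eq_one] at h0
      exact h0
    calc (u * w) * (w * u) = u * (w ^ 2) * u := by rw [pow_two]; group
      _ = u * w⁻¹ * u := by
          rw [← eq_inv_of_mul_eq_one_left (show w ^ 2 * w = 1 by rw [← pow_succ]; exact hw3)]
      _ = w * u⁻¹ * w := hrel
      _ = w * (u ^ 2) * w := by
          rw [← eq_inv_of_mul_eq_one_left (show u ^ 2 * u = 1 by rw [← pow_succ]; exact hu)]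
      _ = (w * u) * (u * w) := by rw [pow_two]; group
  let A : Subgroup G := Subgroup.closure {u * w, w * u}
  haveI hA : IsMulCommutative A := Subgroup.isMulCommutative_closure (by
    rintro a (rfl | rfl) b (rfl | rfl) <;> first | rfl | exact hcomm | exact hcomm.symm)
  have hAc : ∀ a ∈ A, ∀ b ∈ A, a * b = b * a := fun a ha b hb =>
    congrArg Subtype.val (mul_comm' (⟨a, ha⟩ : A) ⟨b, hb⟩)
  have huw : u * w ∈ A := Subgroup.subset_closure (by simp)
  have hwu : w * u ∈ A := Subgroup.subset_closure (by simp)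
  have hconjA : ∀ a ∈ A, u * a * u⁻¹ ∈ A := by
    intro a ha
    have hmap : A ≤ A.comap (MulAut.conj u).toMonoidHom := by
      refine (Subgroup.closure_le _).2 ?_
      rintro z (rfl | rfl)
      · show u * (u * w) * u⁻¹ ∈ A
        have : u * (u * w) * u⁻¹ = ((u * w) * (w * u))⁻¹ := by
          have e1 : u * u = u⁻¹ := eq_inv_of_mul_eq_one_left (by rw [← pow_two, ← pow_succ]; exact hu)
          have e2 : w * w = w⁻¹ := eq_inv_of_mul_eq_one_left (by rw [← pow_two, ← pow_succ]; exact hw3)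
          have l1 : u * (u * w) * u⁻¹ = (u * u) * w * u⁻¹ := by group
          have l2 : (u * w) * (w * u) = u * (w * w) * u := by group
          rw [l1, l2, e1, e2]; group
        rw [this]
        exact A.inv_mem (A.mul_mem huw hwu)
      · show u * (w * u) * u⁻¹ ∈ A
        have : u * (w * u) * u⁻¹ = u * w := by group
        rw [this]; exact huw
    exact hmap ha
  have hconjA' : ∀ a ∈ A, u⁻¹ * a * u ∈ A := by
    intro a ha
    have e1 : u⁻¹ = u * u := (eq_inv_of_mul_eq_one_left (by rw [← pow_two, ← pow_succ]; exact hu)).symm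
    have : u⁻¹ * a * u = u * (u * a * u⁻¹) * u⁻¹ := by
      calc u⁻¹ * a * u = (u * u) * a * (u⁻¹)⁻¹ := by rw [inv_inv, ← e1]
        _ = u * u * a * (u * u)⁻¹ := by rw [← e1]
        _ = u * (u * a * u⁻¹) * u⁻¹ := by group
    rw [this]; exact hconjA _ (hconjA _ ha)
  by_cases h3 : 3 ∣ orderOf (u * w)
  · -- an element of order three in the abelian group
    obtain ⟨t, htA, ht3, ht1⟩ : ∃ t ∈ A, t ^ 3 = 1 ∧ t ≠ 1 := by
      obtain ⟨k, hk⟩ := h3
      refine ⟨(u * w) ^ k, A.pow_mem huw k, ?_, ?_⟩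
      · rw [← pow_mul, mul_comm, ← hk, pow_orderOf_eq_one]
      · intro hc
        have hd := orderOf_dvd_of_pow_eq_one hc
        have hkp : 0 < orderOf (u * w) := orderOf_pos _
        rcases Nat.eq_zero_or_pos k with rfl | hkpos
        · omega
        · have := Nat.le_of_dvd hkpos hd
          omega
    let W : Subgroup G :=
      { carrier := {a | a ∈ A ∧ a ^ 3 = 1}
        one_mem' := ⟨A.one_mem, one_pow 3⟩
        mul_mem' := fun {a b} ha hb => ⟨A.mul_mem ha.1 hb.1, by
          rw [(show Commute a b from hAc a ha.1 b hb.1).mul_pow, ha.2, hb.2, one_mul]⟩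
        inv_mem' := fun {a} ha => ⟨A.inv_mem ha.1, by rw [inv_pow, ha.2, inv_one]⟩ }
    have hW : IsPGroup 3 W := fun a => ⟨1, Subtype.ext (by simpa using a.2.2)⟩
    have hU : IsPGroup 3 ↥(Subgroup.zpowers u) := by
      intro z
      obtain ⟨k, hk⟩ := Subgroup.mem_zpowers_iff.1 z.2
      exact ⟨1, Subtype.ext (by
        push_cast
        rw [← hk, ← zpow_natCast (u ^ k), ← zpow_mul, mul_comm, zpow_mul, zpow_natCast, hu, one_zpow])⟩
    have hnorm : Subgroup.zpowers u ≤ Subgroup.normalizer (W : Set G) := by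
      rw [Subgroup.zpowers_le, Subgroup.mem_normalizer_iff]
      intro a
      constructor
      · rintro ⟨ha, ha3⟩
        exact ⟨hconjA a ha, by rw [conj_pow, ha3]; group⟩
      · rintro ⟨ha, ha3⟩
        have : a = u⁻¹ * (u * a * u⁻¹) * u := by group
        refine ⟨this ▸ hconjA' _ ha, ?_⟩
        rw [conj_pow, conj_eq_one_iff] at ha3
        exact ha3
    obtain ⟨P, hP⟩ := (hW.to_sup_of_normal_left' hU hnorm).exists_le_sylow
    obtain ⟨g, rfl⟩ := MulAction.exists_smul_eq G T P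
    have htP : t ∈ ((g • T : Sylow 3 G) : Subgroup G) :=
      hP (Subgroup.mem_sup_left (show t ∈ W from ⟨htA, ht3⟩))
    have huP : u ∈ ((g • T : Sylow 3 G) : Subgroup G) :=
      hP (Subgroup.mem_sup_right (Subgroup.mem_zpowers u))
    have hut : u * t = t * u := by
      have h4 := hab _ ((mem_smul_sylow_iff g u T).1 huP) _ ((mem_smul_sylow_iff g t T).1 htP)
      have h5 := congrArg (fun z => g * z * g⁻¹) h4
      simpa [mul_assoc] using h5
    have hwt : w * t = t * w := by
      have h6 : Commute (u * w) t := hAc _ huw _ htA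
      have h7 : Commute (u⁻¹ * (u * w)) t := (show Commute u t from hut).inv_left.mul_left h6
      simpa using h7.eq
    have hwP : w ∈ ((g • T : Sylow 3 G) : Subgroup G) :=
      mem_sylow_of_normalizer _ (cent_le_normalizer T hloc g htP ht1
        (Subgroup.mem_centralizer_singleton_iff.2 hwt)) hw3
    have hgN : g⁻¹ ∈ Subgroup.normalizer ((T : Subgroup G) : Set G) :=
      ti T hab hloc hw hw1 (by rw [inv_inv]; exact (mem_smul_sylow_iff g w T).1 hwP) hexp
    have hgT : g • T = T := Sylow.smul_eq_iff_mem_normalizer.2 (by simpa using inv_mem hgN)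
    rw [hgT] at huP
    exact huP
  · -- otherwise `u⁻¹` and `w` are conjugate
    exfalso
    apply hne
    set a : G := u * w with ha_def
    set a1 : G := u⁻¹ * a * u with ha1
    set a2 : G := u⁻¹ * a1 * u with ha2
    have m1 : a1 ∈ A := hconjA' a huw
    have m2 : a2 ∈ A := hconjA' a1 m1
    have hN : a * a1 * a2 = 1 := by
      have e3 : (u * w * u⁻¹) ^ 3 = 1 := by rw [conj_pow, hw3]; group
      have : a * a1 * a2 = (u * w * u⁻¹) ^ 3 * u ^ 3 := by
        rw [ha2, ha1, ha_def]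
        simp only [pow_succ, pow_zero, one_mul]
        group
      rw [this, e3, hu, one_mul]
    have e2 : a2 = a⁻¹ * a1⁻¹ := by
      have : a2 = (a * a1)⁻¹ := eq_inv_of_mul_eq_one_right hN
      rw [this, _root_.mul_inv_rev]
      exact hAc _ (A.inv_mem m1) _ (A.inv_mem huw)
    obtain ⟨k, hk⟩ : ∃ k : ℕ, a ^ (3 * k) = a := by
      have hcop : Nat.Coprime 3 (orderOf a) := (Nat.Prime.coprime_iff_not_dvd Nat.prime_three).2 h3
      obtain ⟨k, hk⟩ := exists_pow_eq_self_of_coprime hcop (x := a)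
      exact ⟨k, by rw [pow_mul]; exact hk⟩
    set b : G := (a * a * a1) ^ k with hb
    have hb' : u⁻¹ * b * u = (a1 * a1 * a2) ^ k := by
      rw [hb, ← (show (u⁻¹ * (a * a * a1) * u) = a1 * a1 * a2 by rw [ha2, ha1]; group)]
      have := conj_pow (a := u⁻¹) (b := a * a * a1) (i := k)
      simp only [inv_inv] at this
      exact this.symm
    have hkey : b * (u⁻¹ * b * u)⁻¹ = a := by
      rw [hb', hb, ← inv_pow]
      rw [← (show Commute (a * a * a1) (a1 * a1 * a2)⁻¹ from
        hAc _ (A.mul_mem (A.mul_mem huw huw) m1) _ (A.inv_mem (A.mul_mem (A.mul_mem m1 m1) m2))).mul_pow]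
      have h8 : a * a * a1 * (a1 * a1 * a2)⁻¹ = a ^ 3 := by
        rw [e2]
        have c1 : a1 * a1 * (a⁻¹ * a1⁻¹) = a1 * a⁻¹ := by
          rw [hAc _ (A.inv_mem huw) _ (A.inv_mem m1)]; group
        rw [c1, hAc _ m1 _ (A.inv_mem huw), pow_succ, pow_succ, pow_one]; group
      rw [h8, ← pow_mul, hk]
    have hc : IsConj u⁻¹ w := by
      refine isConj_iff.2 ⟨u⁻¹ * b, ?_⟩
      have : w = u⁻¹ * a := by rw [ha_def]; group
      rw [this, ← hkey]; group
    exact hreal.trans hc

end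

/-- Coordinates on the normaliser. -/
theorem coords [Finite G] (T : Subgroup G) (hab : ∀ a ∈ T, ∀ b ∈ T, a * b = b * a)
    (hexp : ∀ a ∈ T, a ^ 3 = 1) (hcard : Nat.card T = 9)
    (hC : Subgroup.centralizer (T : Set G) = T)
    [hn : (T.subgroupOf (Subgroup.normalizer (T : Set G))).Normal]
    (hK : IsKleinFour (↥(Subgroup.normalizer (T : Set G)) ⧸ T.subgroupOf (Subgroup.normalizer (T : Set G)))) :
    ∃ (f : V → G) (k : Sg → G), Function.Injective f ∧ (∀ a, f a ∈ T) ∧ (∀ t ∈ T, ∃ a, f a = t) ∧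
      (∀ a b, f (a + b) = f a * f b) ∧ (∀ e, k e ∈ Subgroup.normalizer (T : Set G)) ∧
      Function.Injective (fun p : V × Sg => f p.1 * k p.2) ∧
      (∀ g ∈ Subgroup.normalizer (T : Set G), ∃ p : V × Sg, f p.1 * k p.2 = g) ∧
      (∀ e a, k e * f a * (k e)⁻¹ = f (sgn e a)) ∧
      Nat.card (Subgroup.normalizer (T : Set G)) = 36 := by
  classical
  set N := Subgroup.normalizer (T : Set G) with hNdef
  have hTN : T ≤ N := Subgroup.le_normalizer
  have hN36 : Nat.card N = 36 := by
    rw [Subgroup.card_eq_card_quotient_mul_card_subgroup (T.subgroupOf N), hK.card_four,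
      Nat.card_congr (Subgroup.subgroupOfEquivOfLe hTN).toEquiv, hcard]
  obtain ⟨K, hKN, hKcard, hKsq⟩ : ∃ K : Subgroup G, K ≤ N ∧ Nat.card K = 4 ∧ ∀ k ∈ K, k * k = 1 := by
    haveI : Fact (Nat.Prime 2) := ⟨Nat.prime_two⟩
    obtain ⟨K', hK'⟩ := Sylow.exists_subgroup_card_pow_prime 2 (G := ↥N) (n := 2) (by rw [hN36]; norm_num)
    refine ⟨K'.map N.subtype, Subgroup.map_subtype_le K', ?_, ?_⟩
    · rw [Subgroup.card_map_of_injective N.subtype_injective, hK']; norm_num
    · rintro _ ⟨k, hk, rfl⟩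
      have h4 : k ^ 4 = 1 := by
        have := pow_card_eq_one' (x := (⟨k, hk⟩ : K'))
        rw [hK'] at this
        exact congrArg Subtype.val this
      have hT : k * k ∈ T.subgroupOf N := by
        rw [← QuotientGroup.eq_one_iff, QuotientGroup.mk_mul]
        exact IsKleinFour.mul_self _
      rw [Subgroup.mem_subgroupOf] at hT
      have h3 := hexp _ hT
      show (k : G) * k = 1
      have h4' : ((k : G) * k) ^ 2 = 1 := by
        have := congrArg Subtype.val h4
        push_cast at this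
        rw [← pow_two, ← pow_mul]; exact this
      push_cast at h3
      have := pow_gcd_eq_one.2 ⟨h4', h3⟩
      simpa using this
  have hKi : ∀ k ∈ K, k⁻¹ = k := fun k hk => inv_eq_of_mul_eq_one_right (hKsq k hk)
  have hKc : ∀ a ∈ K, ∀ b ∈ K, a * b = b * a := fun a ha b hb => by
    have := hKi _ (K.mul_mem ha hb)
    rw [_root_.mul_inv_rev, hKi a ha, hKi b hb] at this
    exact this.symm
  have hnorm : ∀ k ∈ K, ∀ t ∈ T, k * t * k⁻¹ ∈ T := fun k hk t ht =>
    (Subgroup.mem_normalizer_iff.1 (hKN hk) t).1 ht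
  have hfaith : ∀ k ∈ K, (∀ t ∈ T, k * t * k⁻¹ = t) → k = 1 := by
    intro k hk h
    have hkT : k ∈ T := by
      rw [← hC, Subgroup.mem_centralizer_iff]
      intro t ht
      exact ((mul_inv_eq_iff_eq_mul).1 (h t ht)).symm
    have h3 := hexp k hkT
    have h2 := hKsq k hk
    have h4 : k ^ 3 = k * (k * k) := by rw [pow_succ, pow_two]; group
    rw [h3, h2, mul_one] at h4
    exact h4.symm
  obtain ⟨a, ha, b, hb, ha1, hb1, hab'⟩ : ∃ a ∈ K, ∃ b ∈ K, a ≠ 1 ∧ b ≠ 1 ∧ a ≠ b := by
    by_contra hcon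
    push Not at hcon
    by_cases hex : ∃ a ∈ K, a ≠ 1
    · obtain ⟨a, ha, ha1⟩ := hex
      have hsub : (K : Set G) ⊆ {1, a} := by
        intro z hz
        by_cases hz1 : z = 1
        · exact Or.inl hz1
        · exact Or.inr (hcon z hz a ha hz1 ha1)
      have := Set.ncard_le_ncard hsub (Set.toFinite _)
      rw [← Nat.card_coe_set_eq, SetLike.coe_sort_coe, hKcard, Set.ncard_pair (Ne.symm ha1)] at this
      omega
    · push Not at hex
      rw [(Subgroup.eq_bot_iff_forall K).2 hex, Subgroup.card_bot] at hKcard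
      omega
  -- an involution with a fixed point
  obtain ⟨s, hs, s', hs', hs1, hs'1, hss, t₀, ht₀, hts⟩ :
      ∃ s ∈ K, ∃ s' ∈ K, s ≠ 1 ∧ s' ≠ 1 ∧ s ≠ s' ∧ ∃ t ∈ T, s * t * s⁻¹ ≠ t⁻¹ := by
    by_cases hA : ∃ t ∈ T, a * t * a⁻¹ ≠ t⁻¹
    · exact ⟨a, ha, b, hb, ha1, hb1, hab', hA⟩
    · push Not at hA
      refine ⟨b, hb, a, ha, hb1, ha1, Ne.symm hab', ?_⟩
      by_contra hB
      push Not at hB
      apply hab'
      have : a * b = 1 := hfaith _ (K.mul_mem ha hb) fun t ht => by
        calc a * b * t * (a * b)⁻¹ = a * (b * t * b⁻¹) * a⁻¹ := by group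
          _ = a * t⁻¹ * a⁻¹ := by rw [hB t ht]
          _ = (a * t * a⁻¹)⁻¹ := by group
          _ = t := by rw [hA t ht, inv_inv]
      rw [eq_inv_of_mul_eq_one_left this, hKi b hb]
  have hinv : ∀ k ∈ K, ∀ t : G, k * (k * t * k⁻¹) * k⁻¹ = t := fun k hk t => by
    calc k * (k * t * k⁻¹) * k⁻¹ = (k * k) * t * (k * k)⁻¹ := by group
      _ = t := by rw [hKsq k hk, one_mul, inv_one, mul_one]
  set y : G := t₀ * (s * t₀ * s⁻¹) with hy
  have hyT : y ∈ T := T.mul_mem ht₀ (hnorm s hs t₀ ht₀)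
  have hy1 : y ≠ 1 := fun h => hts (eq_inv_of_mul_eq_one_right h)
  have hsy : s * y * s⁻¹ = y := by
    calc s * y * s⁻¹ = (s * t₀ * s⁻¹) * (s * (s * t₀ * s⁻¹) * s⁻¹) := by rw [hy]; group
      _ = (s * t₀ * s⁻¹) * t₀ := by rw [hinv s hs]
      _ = y := hab _ (hnorm s hs t₀ ht₀) _ ht₀
  obtain ⟨t₁, ht₁, ht₁s⟩ : ∃ t ∈ T, s * t * s⁻¹ ≠ t := by
    by_contra h
    push Not at h
    exact hs1 (hfaith s hs h)
  set x : G := t₁ * (s * t₁ * s⁻¹)⁻¹ with hx
  have hxT : x ∈ T := T.mul_mem ht₁ (T.inv_mem (hnorm s hs t₁ ht₁))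
  have hx1 : x ≠ 1 := fun h => ht₁s (mul_inv_eq_one.1 h).symm
  have hsx : s * x * s⁻¹ = x⁻¹ := by
    calc s * x * s⁻¹ = (s * t₁ * s⁻¹) * (s * (s * t₁ * s⁻¹) * s⁻¹)⁻¹ := by rw [hx]; group
      _ = (s * t₁ * s⁻¹) * t₁⁻¹ := by rw [hinv s hs]
      _ = x⁻¹ := by rw [hx]; group
  let f : V → G := fun c => x ^ c.1.val * y ^ c.2.val
  have hfT : ∀ c, f c ∈ T := fun c => T.mul_mem (T.pow_mem hxT _) (T.pow_mem hyT _)
  have hval : ∀ (z : G), z ∈ T → ∀ i j : ZMod 3, z ^ (i + j).val = z ^ i.val * z ^ j.val := by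
    intro z hz i j
    rw [← pow_add, ZMod.val_add, ← pow_eq_pow_mod _ (hexp z hz)]
  have hfadd : ∀ c d, f (c + d) = f c * f d := by
    intro c d
    show x ^ (c.1 + d.1).val * y ^ (c.2 + d.2).val = _
    rw [hval x hxT, hval y hyT]
    have := hab _ (T.pow_mem hxT d.1.val) _ (T.pow_mem hyT c.2.val)
    calc x ^ c.1.val * x ^ d.1.val * (y ^ c.2.val * y ^ d.2.val)
        = x ^ c.1.val * (x ^ d.1.val * y ^ c.2.val) * y ^ d.2.val := by group
      _ = x ^ c.1.val * (y ^ c.2.val * x ^ d.1.val) * y ^ d.2.val := by rw [this]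
      _ = f c * f d := by simp only [f]; group
  have hf0 : f 0 = 1 := by simp [f]
  have hfneg : ∀ c, f (-c) = (f c)⁻¹ := fun c =>
    eq_inv_of_mul_eq_one_left (by rw [← hfadd, neg_add_cancel, hf0])
  have hx3 := hexp x hxT
  have hy3 := hexp y hyT
  have hfi : ∀ i : ZMod 3, f (i, 0) = x ^ i.val := fun i => by simp [f]
  have hfj : ∀ j : ZMod 3, f (0, j) = y ^ j.val := fun j => by simp [f]
  have hsf : ∀ c : V, s * f c * s⁻¹ = f (-c.1, c.2) := by
    intro c
    have h1 : f (-c.1, c.2) = (x ^ c.1.val)⁻¹ * y ^ c.2.val := by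
      rw [show ((-c.1, c.2) : V) = -(c.1, 0) + (0, c.2) by simp, hfadd, hfneg, hfi, hfj]
    rw [h1]
    calc s * f c * s⁻¹ = (s * x ^ c.1.val * s⁻¹) * (s * y ^ c.2.val * s⁻¹) := by simp only [f]; group
      _ = _ := by rw [← conj_pow, ← conj_pow, hsx, hsy, inv_pow]
  have hx2 : ∀ i : ZMod 3, x ^ i.val = 1 → i = 0 := by
    intro i hi
    by_contra hi0
    apply hx1
    fin_cases i
    · exact absurd rfl hi0
    · simpa [ZMod.val] using hi
    · have h2 : x ^ 2 = 1 := hi
      calc x = x * x ^ 2 := by rw [h2, mul_one]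
        _ = x ^ 3 := by rw [pow_succ' x 2]
        _ = 1 := hx3
  have hy2 : ∀ j : ZMod 3, y ^ j.val = 1 → j = 0 := by
    intro j hj
    by_contra hj0
    apply hy1
    fin_cases j
    · exact absurd rfl hj0
    · simpa [ZMod.val] using hj
    · have h2 : y ^ 2 = 1 := hj
      calc y = y * y ^ 2 := by rw [h2, mul_one]
        _ = y ^ 3 := by rw [pow_succ' y 2]
        _ = 1 := hy3
  have hker : ∀ c, f c = 1 → c = 0 := by
    intro c hc
    have h1 : f (-c.1, c.2) = 1 := by rw [← hsf, hc]; group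
    have h2 : f ((-c.1, c.2) + -c) = 1 := by rw [hfadd, hfneg, h1, hc]; simp
    have h3 : ((-c.1, c.2) + -c : V) = (c.1, 0) := by
      have : ∀ d : V, ((-d.1, d.2) + -d : V) = (d.1, 0) := by decide
      exact this c
    rw [h3, hfi] at h2
    have hc1 := hx2 _ h2
    have hc2 : c.2 = 0 := hy2 _ (by
      rw [← hfj]; rw [show ((0 : ZMod 3), c.2) = c from Prod.ext hc1.symm rfl]; exact hc)
    exact Prod.ext hc1 hc2
  have hfinj : Function.Injective f := by
    intro c d h
    rw [← sub_eq_zero]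
    apply hker
    rw [sub_eq_add_neg, hfadd, hfneg, h, mul_inv_cancel]
  have hfsurj : ∀ t ∈ T, ∃ c, f c = t := by
    have h1 : Set.range f = (T : Set G) := by
      refine Set.eq_of_subset_of_ncard_le (by rintro _ ⟨c, rfl⟩; exact hfT c) ?_ (Set.toFinite _)
      rw [← Nat.card_coe_set_eq, SetLike.coe_sort_coe, hcard, Set.ncard_range_of_injective hfinj]
      simp [Nat.card_eq_fintype_card]
    intro t ht
    rw [← SetLike.mem_coe, ← h1] at ht
    exact ht
  -- the second involution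
  obtain ⟨⟨i0, j0⟩, hj0⟩ := hfsurj _ (hnorm s' hs' y hyT)
  obtain ⟨⟨i1, j1⟩, hi1⟩ := hfsurj _ (hnorm s' hs' x hxT)
  have hcomm' : ∀ z : G, s * (s' * z * s'⁻¹) * s⁻¹ = s' * (s * z * s⁻¹) * s'⁻¹ := fun z => by
    calc s * (s' * z * s'⁻¹) * s⁻¹ = (s * s') * z * (s * s')⁻¹ := by group
      _ = (s' * s) * z * (s' * s)⁻¹ := by rw [hKc s hs s' hs']
      _ = _ := by group
  have hi0 : i0 = 0 := by
    have h1 : f (-i0, j0) = f (i0, j0) := by rw [← hsf (i0, j0), hj0, hcomm', hsy]
    have h2 := (Prod.mk.inj (hfinj h1)).1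
    exact (show ∀ i : ZMod 3, -i = i → i = 0 by decide) _ h2
  have hj1 : j1 = 0 := by
    have h1 : f (-i1, j1) = f (-(i1, j1)) := by
      rw [← hsf (i1, j1), hi1, hcomm', hsx, hfneg, hi1]; group
    have h2 : j1 = -j1 := (Prod.mk.inj (hfinj h1)).2
    exact (show ∀ i : ZMod 3, i = -i → i = 0 by decide) _ h2
  subst hi0 hj1
  rw [hfj] at hj0
  rw [hfi] at hi1
  have hcent : ∀ k ∈ K, k * x * k⁻¹ = x → k * y * k⁻¹ = y → k = 1 := by
    intro k hk h1 h2
    refine hfaith k hk fun t ht => ?_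
    obtain ⟨c, rfl⟩ := hfsurj t ht
    calc k * f c * k⁻¹ = (k * x ^ c.1.val * k⁻¹) * (k * y ^ c.2.val * k⁻¹) := by simp only [f]; group
      _ = f c := by rw [← conj_pow, ← conj_pow, h1, h2]
  have hxsq : x ^ (2 : ZMod 3).val = x⁻¹ := eq_inv_of_mul_eq_one_left (by rw [← pow_succ]; exact hx3)
  have hysq : y ^ (2 : ZMod 3).val = y⁻¹ := eq_inv_of_mul_eq_one_left (by rw [← pow_succ]; exact hy3)
  obtain ⟨s2, hs2, hs2x, hs2y⟩ : ∃ s2 ∈ K, s2 * x * s2⁻¹ = x ∧ s2 * y * s2⁻¹ = y⁻¹ := by
    have hi1' : i1 = 1 ∨ i1 = 2 := by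
      have h0 : i1 ≠ 0 := by
        rintro rfl
        apply hx1
        simp at hi1
        exact conj_eq_one_iff.1 hi1.symm
      exact (show ∀ i : ZMod 3, i ≠ 0 → i = 1 ∨ i = 2 by decide) _ h0
    have hj0' : j0 = 1 ∨ j0 = 2 := by
      have h0 : j0 ≠ 0 := by
        rintro rfl
        apply hy1
        simp at hj0
        exact conj_eq_one_iff.1 hj0.symm
      exact (show ∀ i : ZMod 3, i ≠ 0 → i = 1 ∨ i = 2 by decide) _ h0
    have hcompx : ∀ z, (s * s') * z * (s * s')⁻¹ = s * (s' * z * s'⁻¹) * s⁻¹ := fun z => by group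
    rcases hi1' with rfl | rfl <;> rcases hj0' with rfl | rfl
    · exfalso
      exact hs'1 (hcent s' hs' (by rw [← hi1]; exact pow_one x) (by rw [← hj0]; exact pow_one y))
    · exact ⟨s', hs', by rw [← hi1]; exact pow_one x, by rw [← hj0, hysq]⟩
    · exfalso
      apply hss
      have h := hcent (s * s') (K.mul_mem hs hs')
        (by rw [hcompx, ← hi1, hxsq,
          show s * x⁻¹ * s⁻¹ = (s * x * s⁻¹)⁻¹ by group, hsx, inv_inv])
        (by rw [hcompx, ← hj0, show y ^ (1 : ZMod 3).val = y from pow_one y, hsy])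
      rw [eq_inv_of_mul_eq_one_left h, hKi s' hs']
    · refine ⟨s * s', K.mul_mem hs hs', ?_, ?_⟩
      · rw [hcompx, ← hi1, hxsq, show s * x⁻¹ * s⁻¹ = (s * x * s⁻¹)⁻¹ by group, hsx, inv_inv]
      · rw [hcompx, ← hj0, hysq, show s * y⁻¹ * s⁻¹ = (s * y * s⁻¹)⁻¹ by group, hsy]
  have hs2f : ∀ c : V, s2 * f c * s2⁻¹ = f (c.1, -c.2) := by
    intro c
    have h1 : f (c.1, -c.2) = x ^ c.1.val * (y ^ c.2.val)⁻¹ := by
      rw [show ((c.1, -c.2) : V) = (c.1, 0) + -(0, c.2) by simp, hfadd, hfneg, hfi, hfj]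
    rw [h1]
    calc s2 * f c * s2⁻¹ = (s2 * x ^ c.1.val * s2⁻¹) * (s2 * y ^ c.2.val * s2⁻¹) := by simp only [f]; group
      _ = _ := by rw [← conj_pow, ← conj_pow, hs2x, hs2y, inv_pow]
  let k : Sg → G := fun e => s ^ e.1.val * s2 ^ e.2.val
  have hkN : ∀ e, k e ∈ N := fun e => N.mul_mem (N.pow_mem (hKN hs) _) (N.pow_mem (hKN hs2) _)
  have hkconj : ∀ e c, k e * f c * (k e)⁻¹ = f (sgn e c) := by
    rintro ⟨e1, e2⟩ c
    have h2 : s2 ^ e2.val * f c * (s2 ^ e2.val)⁻¹ = f (c.1, if e2 = 0 then c.2 else -c.2) := by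
      fin_cases e2
      · simp
      · simpa using hs2f c
    have h1 : ∀ d : V, s ^ e1.val * f d * (s ^ e1.val)⁻¹ = f (if e1 = 0 then d.1 else -d.1, d.2) := by
      intro d
      fin_cases e1
      · simp
      · simpa using hsf d
    calc k (e1, e2) * f c * (k (e1, e2))⁻¹
        = s ^ e1.val * (s2 ^ e2.val * f c * (s2 ^ e2.val)⁻¹) * (s ^ e1.val)⁻¹ := by simp only [k]; group
      _ = _ := by rw [h2, h1]; rfl
  have hpinj : Function.Injective (fun p : V × Sg => f p.1 * k p.2) := by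
    rintro ⟨c, e⟩ ⟨d, e'⟩ h
    simp only at h
    have hg : ∀ (c : V) (e : Sg) (z : V), (f c * k e) * f z * (f c * k e)⁻¹ = f (sgn e z) := by
      intro c e z
      calc (f c * k e) * f z * (f c * k e)⁻¹ = f c * (k e * f z * (k e)⁻¹) * (f c)⁻¹ := by group
        _ = f (sgn e z) := by
            rw [hkconj, ← hfneg, ← hfadd, ← hfadd]
            congr 1
            abel
    have h1 : sgn e (1, 1) = sgn e' (1, 1) := hfinj (by rw [← hg c e, ← hg d e', h])
    have he : e = e' := (show ∀ e e' : Sg, sgn e (1, 1) = sgn e' (1, 1) → e = e' by decide) _ _ h1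
    subst he
    exact Prod.ext (hfinj (mul_right_cancel h)) rfl
  refine ⟨f, k, hfinj, hfT, hfsurj, hfadd, hkN, hpinj, ?_, hkconj, hN36⟩
  have h1 : Set.range (fun p : V × Sg => f p.1 * k p.2) = (N : Set G) := by
    refine Set.eq_of_subset_of_ncard_le ?_ ?_ (Set.toFinite _)
    · rintro _ ⟨p, rfl⟩; exact N.mul_mem (hTN (hfT p.1)) (hkN p.2)
    · rw [← Nat.card_coe_set_eq, SetLike.coe_sort_coe, hN36, Set.ncard_range_of_injective hpinj]
      simp [Nat.card_eq_fintype_card]
  intro g hg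
  rw [← SetLike.mem_coe, ← h1] at hg
  exact hg

theorem few_terms {ι : Type*} [Fintype ι] (p q : ι → ℤ) (hp : ∑ i, p i * p i = 3)
    (hq : ∑ i, q i * q i = 3) (hpq : ∑ i, p i * q i = 1) (d : ι → ℂ) (hd : ∀ i, d i ≠ 0)
    (hzero : ∑ i, ((p i * q i * (p i - q i) : ℤ) : ℂ) / d i = 0) :
    ∃ k, p k * q k = 1 ∧ ∀ i, i ≠ k → p i * q i = 0 := by
  classical
  have hb : ∀ (r : ι → ℤ), ∑ i, r i * r i = 3 → ∀ i, r i = -1 ∨ r i = 0 ∨ r i = 1 := by
    intro r hr i
    have := Finset.single_le_sum (f := fun j => r j * r j) (fun j _ => mul_self_nonneg _) (Finset.mem_univ i)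
    rw [hr] at this
    have h1 : -2 < r i := by nlinarith
    have h2 : r i < 2 := by nlinarith
    omega
  let Ng := Finset.univ.filter fun i => p i * q i = -1
  let Ps := Finset.univ.filter fun i => p i * q i = 1
  have hcnt : 1 + 2 * (Ng.card : ℤ) ≤ 3 := by
    have h1 : ∀ i, p i * q i + 2 * (if p i * q i = -1 then (1 : ℤ) else 0) ≤ p i * p i := fun i => by
      rcases hb p hp i with h | h | h <;> rcases hb q hq i with h' | h' | h' <;> rw [h, h'] <;> norm_num
    have h2 := Finset.sum_le_sum (s := Finset.univ) (fun i _ => h1 i)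
    rw [Finset.sum_add_distrib, hpq, hp, ← Finset.mul_sum, Finset.sum_boole] at h2
    exact h2
  have hval : ∀ i, p i * q i = (if p i * q i = 1 then (1 : ℤ) else 0) - (if p i * q i = -1 then (1 : ℤ) else 0) := fun i => by
    rcases hb p hp i with h | h | h <;> rcases hb q hq i with h' | h' | h' <;> rw [h, h'] <;> norm_num
  have hdiff : (Ps.card : ℤ) - Ng.card = 1 := by
    rw [← hpq, Finset.sum_congr rfl (fun i _ => hval i), Finset.sum_sub_distrib, Finset.sum_boole, Finset.sum_boole]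
  rcases Nat.eq_zero_or_pos Ng.card with hN | hN
  · obtain ⟨k, hk⟩ := Finset.card_eq_one.1 (show Ps.card = 1 by omega)
    refine ⟨k, (Finset.mem_filter.1 (show k ∈ Ps by rw [hk]; exact Finset.mem_singleton_self k)).2, fun i hi => ?_⟩
    rw [hval i, if_neg, if_neg, sub_zero]
    · intro h
      have : i ∈ Ng := Finset.mem_filter.2 ⟨Finset.mem_univ i, h⟩
      rw [Finset.card_eq_zero.1 hN] at this
      simp at this
    · intro h
      have : i ∈ Ps := Finset.mem_filter.2 ⟨Finset.mem_univ i, h⟩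
      rw [hk, Finset.mem_singleton] at this
      exact hi this
  · exfalso
    obtain ⟨k, hk⟩ := Finset.card_eq_one.1 (show Ng.card = 1 by omega)
    have hkv : p k * q k = -1 := (Finset.mem_filter.1 (show k ∈ Ng by rw [hk]; exact Finset.mem_singleton_self k)).2
    rw [Finset.sum_eq_single k] at hzero
    · rcases div_eq_zero_iff.1 hzero with h | h
      · rw [Int.cast_eq_zero] at h
        rcases hb p hp k with e | e | e <;> rcases hb q hq k with e' | e' | e' <;> rw [e, e'] at h hkv <;> omega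
      · exact hd k h
    · intro i _ hi
      have hni : p i * q i ≠ -1 := fun h => hi (by
        have : i ∈ Ng := Finset.mem_filter.2 ⟨Finset.mem_univ i, h⟩
        rwa [hk, Finset.mem_singleton] at this)
      rcases hb p hp i with e | e | e <;> rcases hb q hq i with e' | e' | e' <;> rw [e, e'] at hni ⊢ <;> first | (norm_num at hni; done) | norm_num
    · simp

/-- Let G be a finite group whose Sylow 3-subgroup T is elementary abelian of order 9 and self-centralizing, with N_G(T)/T a Klein four-group, and suppose that the centralizer of every nonidentity element of T lies in N_G(T). Then T is normal in G. -/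
theorem result {G : Type*} [Group G] [Finite G]
    (T : Sylow 3 G) (hT : Cfsg.IsElementaryAbelian 3 (T : Subgroup G)) (hcard : Nat.card T = 9)
    (hC : Subgroup.centralizer ((T : Subgroup G) : Set G) = T)
    [hn : ((T : Subgroup G).subgroupOf (Subgroup.normalizer ((T : Subgroup G) : Set G))).Normal]
    (hK : IsKleinFour (↥(Subgroup.normalizer ((T : Subgroup G) : Set G)) ⧸
      (T : Subgroup G).subgroupOf (Subgroup.normalizer ((T : Subgroup G) : Set G))))
    (hloc : ∀ t ∈ (T : Subgroup G), t ≠ 1 →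
      Subgroup.centralizer ({t} : Set G) ≤ Subgroup.normalizer ((T : Subgroup G) : Set G)) :
    Subgroup.normalizer ((T : Subgroup G) : Set G) = ⊤ := by
  classical
  haveI := Fintype.ofFinite G
  haveI := Fintype.ofFinite (Cfsg.IrrCharacter G)
  have hexp := hT.2
  have hab : ∀ a ∈ (T : Subgroup G), ∀ b ∈ (T : Subgroup G), a * b = b * a := fun a ha b hb => by
    haveI := hT.1
    exact congrArg Subtype.val (mul_comm' (⟨a, ha⟩ : (T : Subgroup G)) ⟨b, hb⟩)
  obtain ⟨f, k, hfinj, hfT, hfsurj, hfadd, hkN, hpinj, hpsurj, hkconj, hN36⟩ :=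
    coords (T : Subgroup G) hab hexp hcard hC hK
  by_contra hne
  set N := Subgroup.normalizer ((T : Subgroup G) : Set G) with hNdef
  have hf0 : f 0 = 1 := by
    have := hfadd 0 0
    rw [add_zero] at this
    exact left_eq_mul.1 this
  have hf1 : ∀ a, a ≠ 0 → f a ≠ 1 := fun a ha h => ha (hfinj (h.trans hf0.symm))
  have hfneg : ∀ c, f (-c) = (f c)⁻¹ := fun c =>
    eq_inv_of_mul_eq_one_left (by rw [← hfadd, neg_add_cancel, hf0])
  have hconjN : ∀ (p : V × Sg) a, (f p.1 * k p.2) * f a * (f p.1 * k p.2)⁻¹ = f (sgn p.2 a) := by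
    intro p a
    calc (f p.1 * k p.2) * f a * (f p.1 * k p.2)⁻¹
        = f p.1 * (k p.2 * f a * (k p.2)⁻¹) * (f p.1)⁻¹ := by group
      _ = f (sgn p.2 a) := by
          rw [hkconj, ← hfneg, ← hfadd, ← hfadd]
          congr 1
          abel
  have hR : ∀ a b, IsConj (f a) (f b) ↔ R a b := by
    intro a b
    constructor
    · intro h
      obtain ⟨g, hg⟩ := isConj_iff.1 h
      by_cases ha : a = 0
      · subst ha
        rw [hf0, mul_one, mul_inv_cancel, ← hf0] at hg
        rw [← hfinj hg]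
        exact ⟨(0, 0), rfl⟩
      · obtain ⟨p, hp⟩ := hpsurj g (ti T hab hloc (hfT a) (hf1 a ha) (by rw [hg]; exact hfT b) hexp)
        exact ⟨p.2, hfinj (by rw [← hconjN p a, hp, hg])⟩
    · rintro ⟨e, rfl⟩
      exact isConj_iff.2 ⟨k e, hkconj e a⟩
  have hcent : ∀ a, a ≠ 0 → Nat.card (Subgroup.centralizer ({f a} : Set G)) =
      Nat.card {p : V × Sg // sgn p.2 a = a} := by
    intro a ha
    refine (Nat.card_congr (Equiv.ofBijective
      (fun p => (⟨f p.1.1 * k p.1.2, ?_⟩ : Subgroup.centralizer ({f a} : Set G))) ⟨?_, ?_⟩)).symm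
    · rw [Subgroup.mem_centralizer_singleton_iff]
      have := hconjN p.1 a
      rw [p.2] at this
      exact mul_inv_eq_iff_eq_mul.1 this
    · intro p q h
      exact Subtype.ext (hpinj (congrArg Subtype.val h))
    · rintro ⟨g, hg⟩
      obtain ⟨p, hp⟩ := hpsurj g (hloc _ (hfT a) (hf1 a ha) hg)
      refine ⟨⟨p, hfinj ?_⟩, Subtype.ext hp⟩
      rw [← hconjN p a, hp]
      rw [Subgroup.mem_centralizer_singleton_iff] at hg
      rw [hg]; group
  have hcard_count : ∀ a b c, a ≠ 0 → c ≠ 0 → ¬ R a c →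
      Nat.card {v : G // IsConj v (f a) ∧ IsConj (v⁻¹ * f c) (f b)} =
        Nat.card {d : V // R d a ∧ R (c - d) b} := by
    intro a b c ha hc hac
    have hsub : ∀ d : V, (f d)⁻¹ * f c = f (c - d) := fun d => by
      rw [sub_eq_neg_add, hfadd, hfneg]
    refine (Nat.card_congr (Equiv.ofBijective
      (fun d => (⟨f d.1, (hR _ _).2 d.2.1, by rw [hsub]; exact (hR _ _).2 d.2.2⟩ :
        {v : G // IsConj v (f a) ∧ IsConj (v⁻¹ * f c) (f b)})) ⟨?_, ?_⟩)).symm
    · intro d d' h
      exact Subtype.ext (hfinj (congrArg Subtype.val h))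
    · rintro ⟨v, hv1, hv2⟩
      have hvT : v ∈ (T : Subgroup G) := by
        have hreal : IsConj (f a) (f a)⁻¹ := by
          rw [← hfneg, hR]
          exact ⟨(1, 1), rfl⟩
        refine triangle T hab hloc hexp (conj_cube hv1 (hexp _ (hfT a))) ?_ (hfT c) (hf1 c hc)
          (conj_cube hv2 (hexp _ (hfT b))) ?_ ?_
        · rintro rfl
          exact hf1 a ha (isConj_one_right.1 hv1)
        · refine (hv1.trans hreal).trans ?_
          obtain ⟨g, hg⟩ := isConj_iff.1 hv1.symm
          exact isConj_iff.2 ⟨g, by rw [← hg]; group⟩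
        · intro h
          exact hac ((hR a c).1 (hv1.symm.trans h))
      obtain ⟨d, rfl⟩ := hfsurj v hvT
      exact ⟨⟨d, (hR _ _).1 hv1, (hR _ _).1 (by rw [← hsub]; exact hv2)⟩, Subtype.ext rfl⟩
  have hvex : ∀ (χ : Cfsg.IrrCharacter G) (a : V), ∃ z : ℤ, (χ : G → ℂ) (f a) = (z : ℂ) ∧
      (3 : ℤ) ∣ z - (Cfsg.charDegree (χ : G → ℂ) : ℤ) := fun χ a =>
    int_value (isCharacter_of_irr χ.2) (hexp _ (hfT a)) (by rw [← hfneg, hR]; exact ⟨(1, 1), rfl⟩)
  choose v hv hv3 using hvex
  have hcol : ∀ a b, a ≠ 0 → ∑ χ, v χ a * v χ b =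
      if R a b then (Nat.card {p : V × Sg // sgn p.2 a = a} : ℤ) else 0 := by
    intro a b ha
    have h := sum_col (G := G) (f a) (f b)
    simp only [hv, map_intCast, hR, hcent a ha] at h
    exact_mod_cast h
  set x : V := (1, 0) with hxd
  set y : V := (0, 1) with hyd
  set z : V := (1, 1) with hzd
  let F : V → V → V → ℂ := fun a b c =>
    ∑ χ : Cfsg.IrrCharacter G, ((v χ a * v χ b * v χ c : ℤ) : ℂ) / (χ : G → ℂ) 1
  have hG0 : (Nat.card G : ℂ) ≠ 0 := Nat.cast_ne_zero.2 Nat.card_pos.ne'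
  have hF : ∀ (a b c : V) (n ca cb : ℕ), a ≠ 0 → b ≠ 0 → c ≠ 0 → ¬ R a c →
      Nat.card {d : V // R d a ∧ R (c - d) b} = n →
      Nat.card {p : V × Sg // sgn p.2 a = a} = ca →
      Nat.card {p : V × Sg // sgn p.2 b = b} = cb →
      (Nat.card G : ℂ) * F a b c = (n : ℂ) * ((ca : ℂ) * (cb : ℂ)) := by
    intro a b c n ca cb ha hb hc hac hn hca hcb
    have h := pairs_count (f a) (f b) (f c)
    rw [hcard_count a b c ha hc hac, hcent a ha, hcent b hb, hn, hca, hcb] at h
    rw [h]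
    simp only [F, hv, map_intCast, Int.cast_mul]
  have ev : ∀ (p : V → Prop) [DecidablePred p], Nat.card {d : V // p d} = (Finset.univ.filter p).card :=
    fun p _ => by rw [Nat.card_eq_fintype_card, Fintype.card_subtype]
  have ev' : ∀ (p : V × Sg → Prop) [DecidablePred p], Nat.card {d : V × Sg // p d} = (Finset.univ.filter p).card :=
    fun p _ => by rw [Nat.card_eq_fintype_card, Fintype.card_subtype]
  have cx : Nat.card {p : V × Sg // sgn p.2 x = x} = 18 := by rw [ev', hxd]; decide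
  have cy : Nat.card {p : V × Sg // sgn p.2 y = y} = 18 := by rw [ev', hyd]; decide
  have cz : Nat.card {p : V × Sg // sgn p.2 z = z} = 9 := by rw [ev', hzd]; decide
  have e1 := hF x x y 0 18 18 (by decide) (by decide) (by decide) (by decide) (by rw [ev, hxd, hyd]; decide) cx cx
  have e2 := hF x x z 0 18 18 (by decide) (by decide) (by decide) (by decide) (by rw [ev, hxd, hzd]; decide) cx cx
  have e3 := hF x y z 1 18 18 (by decide) (by decide) (by decide) (by decide) (by rw [ev, hxd, hyd, hzd]; decide) cx cy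
  have e4 := hF x z z 1 18 9 (by decide) (by decide) (by decide) (by decide) (by rw [ev, hxd, hzd]; decide) cx cz
  have e5 := hF x y y 0 18 18 (by decide) (by decide) (by decide) (by decide) (by rw [ev, hxd, hyd]; decide) cx cy
  have e6 := hF y y z 0 18 18 (by decide) (by decide) (by decide) (by decide) (by rw [ev, hyd, hzd]; decide) cy cy
  have e7 := hF y z z 1 18 9 (by decide) (by decide) (by decide) (by decide) (by rw [ev, hyd, hzd]; decide) cy cz
  have hdvd : ∀ χ a b, (3 : ℤ) ∣ v χ a - v χ b := fun χ a b => by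
    have := dvd_sub (hv3 χ a) (hv3 χ b)
    simpa using this
  choose p hp using fun χ => hdvd χ x z
  choose q hq using fun χ => hdvd χ y z
  have o1 := hcol x x (by decide)
  have o2 := hcol y y (by decide)
  have o3 := hcol z z (by decide)
  have o4 := hcol x y (by decide)
  have o5 := hcol x z (by decide)
  have o6 := hcol y z (by decide)
  rw [if_pos (by decide), cx] at o1
  rw [if_pos (by decide), cy] at o2
  rw [if_pos (by decide), cz] at o3
  rw [if_neg (by decide)] at o4 o5 o6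
  push_cast at o1 o2 o3
  have hp3 : ∑ χ, p χ * p χ = 3 := by
    have h : 9 * ∑ χ, p χ * p χ = (∑ χ, v χ x * v χ x) - 2 * (∑ χ, v χ x * v χ z) + ∑ χ, v χ z * v χ z := by
      rw [Finset.mul_sum, Finset.mul_sum, ← Finset.sum_sub_distrib, ← Finset.sum_add_distrib]
      refine Finset.sum_congr rfl fun χ _ => ?_
      have := hp χ
      rw [show v χ x = v χ z + 3 * p χ by omega]
      ring
    omega
  have hq3 : ∑ χ, q χ * q χ = 3 := by
    have h : 9 * ∑ χ, q χ * q χ = (∑ χ, v χ y * v χ y) - 2 * (∑ χ, v χ y * v χ z) + ∑ χ, v χ z * v χ z := by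
      rw [Finset.mul_sum, Finset.mul_sum, ← Finset.sum_sub_distrib, ← Finset.sum_add_distrib]
      refine Finset.sum_congr rfl fun χ _ => ?_
      have := hq χ
      rw [show v χ y = v χ z + 3 * q χ by omega]
      ring
    omega
  have hpq : ∑ χ, p χ * q χ = 1 := by
    have h : 9 * ∑ χ, p χ * q χ = (∑ χ, v χ x * v χ y) - (∑ χ, v χ x * v χ z) - (∑ χ, v χ y * v χ z)
        + ∑ χ, v χ z * v χ z := by
      rw [Finset.mul_sum, ← Finset.sum_sub_distrib, ← Finset.sum_sub_distrib, ← Finset.sum_add_distrib]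
      refine Finset.sum_congr rfl fun χ _ => ?_
      have := hp χ
      have := hq χ
      rw [show v χ x = v χ z + 3 * p χ by omega, show v χ y = v χ z + 3 * q χ by omega]
      ring
    omega
  let S : (Cfsg.IrrCharacter G → ℤ) → ℂ := fun w =>
    ∑ χ : Cfsg.IrrCharacter G, ((p χ * q χ * w χ : ℤ) : ℂ) / (χ : G → ℂ) 1
  have hSa : 9 * S (fun χ => v χ x) = F x x y - F x x z - F x y z + F x z z := by
    simp only [S, F, Finset.mul_sum, ← Finset.sum_sub_distrib, ← Finset.sum_add_distrib]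
    refine Finset.sum_congr rfl fun χ _ => ?_
    have := hp χ
    have := hq χ
    rw [show v χ x = v χ z + 3 * p χ by omega, show v χ y = v χ z + 3 * q χ by omega]
    push_cast
    ring
  have hSb : 9 * S (fun χ => v χ y) = F x y y - F x y z - F y y z + F y z z := by
    simp only [S, F, Finset.mul_sum, ← Finset.sum_sub_distrib, ← Finset.sum_add_distrib]
    refine Finset.sum_congr rfl fun χ _ => ?_
    have := hp χ
    have := hq χ
    rw [show v χ x = v χ z + 3 * p χ by omega, show v χ y = v χ z + 3 * q χ by omega]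
    push_cast
    ring
  have hga : (Nat.card G : ℂ) * (9 * S (fun χ => v χ x)) = -162 := by
    rw [hSa, mul_add, mul_sub, mul_sub, e1, e2, e3, e4]; norm_num
  have hgb : (Nat.card G : ℂ) * (9 * S (fun χ => v χ y)) = -162 := by
    rw [hSb, mul_add, mul_sub, mul_sub, e5, e6, e3, e7]; norm_num
  have hzero : ∑ χ : Cfsg.IrrCharacter G, ((p χ * q χ * (p χ - q χ) : ℤ) : ℂ) / (χ : G → ℂ) 1 = 0 := by
    have h : S (fun χ => v χ x) - S (fun χ => v χ y) =
        3 * ∑ χ : Cfsg.IrrCharacter G, ((p χ * q χ * (p χ - q χ) : ℤ) : ℂ) / (χ : G → ℂ) 1 := by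
      simp only [S, Finset.mul_sum, ← Finset.sum_sub_distrib]
      refine Finset.sum_congr rfl fun χ _ => ?_
      have := hp χ
      have := hq χ
      rw [show v χ x = v χ z + 3 * p χ by omega, show v χ y = v χ z + 3 * q χ by omega]
      push_cast
      ring
    have h9 : (9 : ℂ) * S (fun χ => v χ x) = 9 * S (fun χ => v χ y) :=
      mul_left_cancel₀ hG0 (hga.trans hgb.symm)
    rw [mul_left_cancel₀ (by norm_num : (9 : ℂ) ≠ 0) h9, sub_self] at h
    exact (mul_eq_zero.1 h.symm).resolve_left (by norm_num)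
  obtain ⟨j, hj, hother⟩ := few_terms p q hp3 hq3 hpq (fun χ => (χ : G → ℂ) 1)
    (fun χ => apply_one_ne_zero χ.2) hzero
  have hSj : S (fun χ => v χ x) = (v j x : ℂ) / (Cfsg.charDegree (j : G → ℂ) : ℂ) := by
    simp only [S]
    rw [Finset.sum_eq_single j]
    · rw [hj, one_mul, apply_one (isCharacter_of_irr j.2)]
    · intro χ _ hχ
      rw [hother χ hχ]; simp
    · simp
  have hdeg := charDegree_pos j.2
  have hZ : (Nat.card G : ℤ) * v j x = -18 * (Cfsg.charDegree (j : G → ℂ) : ℤ) := by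
    rw [hSj] at hga
    have h0 : (Cfsg.charDegree (j : G → ℂ) : ℂ) ≠ 0 := Nat.cast_ne_zero.2 hdeg.ne'
    field_simp at hga
    have : ((Nat.card G : ℤ) : ℂ) * (v j x : ℂ) = ((-18 * (Cfsg.charDegree (j : G → ℂ) : ℤ) : ℤ) : ℂ) := by
      push_cast
      linear_combination hga / 9
    exact_mod_cast this
  have hsq : Cfsg.charDegree (j : G → ℂ) ^ 2 ≤ Nat.card G := by
    rw [← sum_sq_degree (G := G)]
    exact Finset.single_le_sum (f := fun χ : Cfsg.IrrCharacter G => Cfsg.charDegree (χ : G → ℂ) ^ 2)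
      (fun _ _ => Nat.zero_le _) (Finset.mem_univ j)
  have hsmall : Nat.card G ≤ 324 := by
    have hneg : v j x ≤ -1 := by
      by_contra h
      push Not at h
      have : (0 : ℤ) ≤ (Nat.card G : ℤ) * v j x := mul_nonneg (Int.natCast_nonneg _) (by omega)
      omega
    have h1 : (Nat.card G : ℤ) ≤ 18 * (Cfsg.charDegree (j : G → ℂ) : ℤ) := by
      nlinarith [Int.natCast_nonneg (Nat.card G)]
    have h2 : Nat.card G ≤ 18 * Cfsg.charDegree (j : G → ℂ) := by exact_mod_cast h1
    nlinarith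
  have hbig : 360 ≤ Nat.card G := by
    obtain ⟨g, hg⟩ : ∃ g, g ∉ N := by
      by_contra h
      push Not at h
      exact hne (eq_top_iff.2 fun g _ => h g)
    have hinj : Function.Injective
        (fun o : Option (T : Subgroup G) => o.elim T (fun t => (t : G) • (g • T))) := by
      have hne1 : ∀ t : (T : Subgroup G), (t : G) • (g • T) ≠ T := by
        intro t h
        apply hg
        rw [smul_smul, Sylow.smul_eq_iff_mem_normalizer] at h
        exact (N.mul_mem_cancel_left (Subgroup.le_normalizer t.2)).1 h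
      rintro (_ | t) (_ | t') h
      · rfl
      · exact absurd h.symm (hne1 t')
      · exact absurd h (hne1 t)
      · simp only [Option.elim] at h
        congr 1
        by_contra htt
        set r : G := (t' : G)⁻¹ * t with hr
        have hrT : r ∈ (T : Subgroup G) := mul_mem (inv_mem t'.2) t.2
        have hr1 : r ≠ 1 := fun h0 => htt (Subtype.ext (inv_mul_eq_one.1 h0).symm)
        have hfix : r • (g • T) = g • T := by rw [hr, mul_smul, h, inv_smul_smul]
        rw [Sylow.smul_eq_iff_mem_normalizer] at hfix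
        have hrP := mem_sylow_of_normalizer _ hfix (hexp _ hrT)
        rw [mem_smul_sylow_iff] at hrP
        apply hg
        exact inv_mem_iff.1 (ti T hab hloc hrT hr1 (g := g⁻¹) (by rw [inv_inv]; exact hrP) hexp)
    have h10 := Nat.card_le_card_of_injective _ hinj
    rw [Finite.card_option, hcard, Sylow.card_eq_index_normalizer T] at h10
    have h11 : 9 + 1 ≤ N.index := h10
    rw [← N.card_mul_index, hN36]
    omega
  omega

end Cfsg.Agent.S3805
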