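import Cfsg.Statements.S3341
import Cfsg.Agent.S3805
import Cfsg.Agent.S0497

set_option autoImplicit false
open Cfsg

namespace Cfsg.Agent.S3341

open CfsgLib.CharBasics
open scoped ComplexConjugate

universe u

abbrev V : Type := ZMod 3 × ZMod 3

theorem exists_coords {G : Type u} [Group G] [Finite G] (S : Subgroup G) (hab : ∀ a ∈ S, ∀ b ∈ S, a * b = b * a)
    (hexp : ∀ a ∈ S, a ^ 3 = 1) (hcard : Nat.card S = 9) (x y : G) (hx : x ∈ S) (hy : y ∈ S) (hx1 : x ≠ 1)
    (hy1 : y ≠ 1) (hyx : y ≠ x) (hyx' : y ≠ x⁻¹) :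
    ∃ f : V → G, Function.Injective f ∧ (∀ a, f a ∈ S) ∧ (∀ t ∈ S, ∃ a, f a = t) ∧
      (∀ a b, f (a + b) = f a * f b) ∧ f (1, 0) = x ∧ f (0, 1) = y ∧
      (∀ a : V, f a = x ^ a.1.val * y ^ a.2.val) := by
  let f : V → G := fun c => x ^ c.1.val * y ^ c.2.val
  have hfT : ∀ c, f c ∈ S := fun c => S.mul_mem (S.pow_mem hx _) (S.pow_mem hy _)
  have hval : ∀ (z : G), z ∈ S → ∀ i j : ZMod 3, z ^ (i + j).val = z ^ i.val * z ^ j.val := by
    intro z hz i j
    rw [← pow_add, ZMod.val_add, ← pow_eq_pow_mod _ (hexp z hz)]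
  have hfadd : ∀ c d, f (c + d) = f c * f d := by
    intro c d
    show x ^ (c.1 + d.1).val * y ^ (c.2 + d.2).val = _
    rw [hval x hx, hval y hy]
    have := hab _ (S.pow_mem hx d.1.val) _ (S.pow_mem hy c.2.val)
    calc x ^ c.1.val * x ^ d.1.val * (y ^ c.2.val * y ^ d.2.val)
        = x ^ c.1.val * (x ^ d.1.val * y ^ c.2.val) * y ^ d.2.val := by group
      _ = x ^ c.1.val * (y ^ c.2.val * x ^ d.1.val) * y ^ d.2.val := by rw [this]
      _ = f c * f d := by simp only [f]; group
  have hf0 : f 0 = 1 := by simp [f]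
  have hfneg : ∀ c, f (-c) = (f c)⁻¹ := fun c =>
    eq_inv_of_mul_eq_one_left (by rw [← hfadd, neg_add_cancel, hf0])
  have hx3 := hexp x hx
  have hy3 := hexp y hy
  have cube : ∀ z : G, z ^ 3 = 1 → z ^ 2 = z⁻¹ := fun z hz =>
    eq_inv_of_mul_eq_one_left (by rw [← pow_succ]; exact hz)
  have hker : ∀ c : V, f c = 1 → c = 0 := by
    rintro ⟨i, j⟩ h
    have h' : x ^ i.val * y ^ j.val = 1 := h
    fin_cases i <;> fin_cases j
    · rfl
    · exact absurd (show y = 1 by simpa [ZMod.val] using h') hy1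
    · exfalso
      have e : (1 : G) * y ^ 2 = 1 := by simpa [ZMod.val] using h'
      rw [one_mul, cube y hy3, inv_eq_one] at e
      exact hy1 e
    · exact absurd (show x = 1 by simpa [ZMod.val] using h') hx1
    · exfalso
      have e : x * y = 1 := by simpa [ZMod.val] using h'
      exact hyx' (eq_inv_of_mul_eq_one_right e)
    · exfalso
      have e : x * y ^ 2 = 1 := by simpa [ZMod.val] using h'
      rw [cube y hy3, mul_inv_eq_one] at e
      exact hyx e.symm
    · exfalso
      have e : x ^ 2 * (1 : G) = 1 := by simpa [ZMod.val] using h'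
      rw [mul_one, cube x hx3, inv_eq_one] at e
      exact hx1 e
    · exfalso
      have e : x ^ 2 * y = 1 := by simpa [ZMod.val] using h'
      rw [cube x hx3, inv_mul_eq_one] at e
      exact hyx e.symm
    · exfalso
      have e : x ^ 2 * y ^ 2 = 1 := by simpa [ZMod.val] using h'
      rw [cube x hx3, cube y hy3, ← _root_.mul_inv_rev, inv_eq_one] at e
      exact hyx' (eq_inv_of_mul_eq_one_left e)
  have hfinj : Function.Injective f := by
    intro c d h
    rw [← sub_eq_zero]
    apply hker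
    rw [sub_eq_add_neg, hfadd, hfneg, h, mul_inv_cancel]
  refine ⟨f, hfinj, hfT, ?_, hfadd, (show x ^ (1 : ℕ) * y ^ (0 : ℕ) = x by simp), (show x ^ (0 : ℕ) * y ^ (1 : ℕ) = y by simp), fun _ => rfl⟩
  have h1 : Set.range f = (S : Set G) := by
    refine Set.eq_of_subset_of_ncard_le (by rintro _ ⟨c, rfl⟩; exact hfT c) ?_ (Set.toFinite _)
    rw [← Nat.card_coe_set_eq, SetLike.coe_sort_coe, hcard, Set.ncard_range_of_injective hfinj]
    simp [Nat.card_eq_fintype_card]
  intro t ht
  rw [← SetLike.mem_coe, ← h1] at ht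
  exact ht

theorem equations {G : Type u} [Group G] [Fintype G] [Fintype (Cfsg.IrrCharacter G)] (T : Sylow 3 G)
    (hab : ∀ a ∈ (T : Subgroup G), ∀ b ∈ (T : Subgroup G), a * b = b * a)
    (hexp : ∀ a ∈ (T : Subgroup G), a ^ 3 = 1) (hcard : Nat.card (T : Subgroup G) = 9)
    (hcent : ∀ s ∈ (T : Subgroup G), s ≠ 1 → Subgroup.centralizer ({s} : Set G) = (T : Subgroup G))
    {E : Type} [Fintype E] (f : V → G) (k : E → G) (act : E → V → V) (R : V → V → Prop) [DecidableRel R]
    (hRdef : ∀ a b, R a b ↔ ∃ e, act e a = b)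
    (hfinj : Function.Injective f) (hfT : ∀ a, f a ∈ (T : Subgroup G)) (hfsurj : ∀ t ∈ (T : Subgroup G), ∃ a, f a = t)
    (hfadd : ∀ a b, f (a + b) = f a * f b)
    (hpsurj : ∀ g ∈ Subgroup.normalizer ((T : Subgroup G) : Set G), ∃ p : V × E, f p.1 * k p.2 = g)
    (hkconj : ∀ e a, k e * f a * (k e)⁻¹ = f (act e a))
    (hact0 : ∃ e, act e 0 = 0) (hneg : ∀ a, R a (-a)) :
    ∃ v : Cfsg.IrrCharacter G → V → ℤ, (∀ (χ : Cfsg.IrrCharacter G) (a : V), (χ : G → ℂ) (f a) = (v χ a : ℂ)) ∧
      (∀ χ : Cfsg.IrrCharacter G, v χ 0 = (Cfsg.charDegree (χ : G → ℂ) : ℤ)) ∧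
      (∀ χ a b, (3 : ℤ) ∣ v χ a - v χ b) ∧ (∀ χ a b, R a b → v χ a = v χ b) ∧
      (∀ a b, a ≠ 0 → ∑ χ, v χ a * v χ b = if R a b then 9 else 0) ∧
      (∀ a b c (n : ℕ), a ≠ 0 → b ≠ 0 → c ≠ 0 → ¬ R a c →
        (Finset.univ.filter fun d : V => R d a ∧ R (c - d) b).card = n →
        (Nat.card G : ℚ) * ∑ χ : Cfsg.IrrCharacter G,
          ((v χ a * v χ b * v χ c : ℤ) : ℚ) / (Cfsg.charDegree (χ : G → ℂ) : ℚ) = 81 * (n : ℚ)) ∧
      (∀ χ, (9 : ℤ) ∣ ∑ a, v χ a) := by
  classical
  have hloc : ∀ t ∈ (T : Subgroup G), t ≠ 1 →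
      Subgroup.centralizer ({t} : Set G) ≤ Subgroup.normalizer ((T : Subgroup G) : Set G) :=
    fun t ht h1 => (hcent t ht h1).le.trans Subgroup.le_normalizer
  have hf0 : f 0 = 1 := by
    have := hfadd 0 0
    rw [add_zero] at this
    exact left_eq_mul.1 this
  have hf1 : ∀ a, a ≠ 0 → f a ≠ 1 := fun a ha h => ha (hfinj (h.trans hf0.symm))
  have hfneg : ∀ c, f (-c) = (f c)⁻¹ := fun c =>
    eq_inv_of_mul_eq_one_left (by rw [← hfadd, neg_add_cancel, hf0])
  have hconjN : ∀ (p : V × E) a, (f p.1 * k p.2) * f a * (f p.1 * k p.2)⁻¹ = f (act p.2 a) := by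
    intro p a
    calc (f p.1 * k p.2) * f a * (f p.1 * k p.2)⁻¹
        = f p.1 * (k p.2 * f a * (k p.2)⁻¹) * (f p.1)⁻¹ := by group
      _ = f (act p.2 a) := by
          rw [hkconj, ← hfneg, ← hfadd, ← hfadd]
          congr 1
          abel
  have hR : ∀ a b, IsConj (f a) (f b) ↔ R a b := by
    intro a b
    rw [hRdef]
    constructor
    · intro h
      obtain ⟨g, hg⟩ := isConj_iff.1 h
      by_cases ha : a = 0
      · subst ha
        rw [hf0, mul_one, mul_inv_cancel, ← hf0] at hg
        rw [← hfinj hg]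
        exact hact0
      · obtain ⟨p, hp⟩ := hpsurj g (S3805.ti T hab hloc (hfT a) (hf1 a ha) (by rw [hg]; exact hfT b) hexp)
        exact ⟨p.2, hfinj (by rw [← hconjN p a, hp, hg])⟩
    · rintro ⟨e, rfl⟩
      exact isConj_iff.2 ⟨k e, hkconj e a⟩
  have hc9 : ∀ a, a ≠ 0 → Nat.card (Subgroup.centralizer ({f a} : Set G)) = 9 := fun a ha => by
    rw [hcent _ (hfT a) (hf1 a ha)]; exact hcard
  have hvex : ∀ (χ : Cfsg.IrrCharacter G) (a : V), ∃ z : ℤ, (χ : G → ℂ) (f a) = (z : ℂ) ∧
      (3 : ℤ) ∣ z - (Cfsg.charDegree (χ : G → ℂ) : ℤ) := fun χ a =>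
    S3805.int_value (isCharacter_of_irr χ.2) (hexp _ (hfT a)) (by rw [← hfneg, hR]; exact hneg a)
  choose v hv hv3 using hvex
  refine ⟨v, hv, ?_, ?_, ?_, ?_, ?_, ?_⟩
  · intro χ
    have h := hv χ 0
    rw [hf0, apply_one (isCharacter_of_irr χ.2)] at h
    exact_mod_cast h.symm
  · intro χ a b
    have := dvd_sub (hv3 χ a) (hv3 χ b)
    simpa using this
  · intro χ a b h
    have h' := apply_isConj (isCharacter_of_irr χ.2) ((hR a b).2 h)
    rw [hv, hv] at h'
    exact_mod_cast h'
  · intro a b ha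
    have h := sum_col (G := G) (f a) (f b)
    simp only [hv, map_intCast, hR, hc9 a ha] at h
    exact_mod_cast h
  · intro a b c n ha hb hc hac hn
    have hsub : ∀ d : V, (f d)⁻¹ * f c = f (c - d) := fun d => by
      rw [sub_eq_neg_add, hfadd, hfneg]
    have hcount : Nat.card {u : G // IsConj u (f a) ∧ IsConj (u⁻¹ * f c) (f b)} = n := by
      rw [← hn, ← Fintype.card_subtype, ← Nat.card_eq_fintype_card]
      refine (Nat.card_congr (Equiv.ofBijective
        (fun d => (⟨f d.1, (hR _ _).2 d.2.1, by rw [hsub]; exact (hR _ _).2 d.2.2⟩ :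
          {u : G // IsConj u (f a) ∧ IsConj (u⁻¹ * f c) (f b)})) ⟨?_, ?_⟩)).symm
      · intro d d' h
        exact Subtype.ext (hfinj (congrArg Subtype.val h))
      · rintro ⟨u, hu1, hu2⟩
        have huT : u ∈ (T : Subgroup G) := by
          have hreal : IsConj (f a) (f a)⁻¹ := by
            rw [← hfneg, hR]
            exact hneg a
          refine S3805.triangle T hab hloc hexp (S3805.conj_cube hu1 (hexp _ (hfT a))) ?_ (hfT c) (hf1 c hc)
            (S3805.conj_cube hu2 (hexp _ (hfT b))) ?_ ?_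
          · rintro rfl
            exact hf1 a ha (isConj_one_right.1 hu1)
          · refine (hu1.trans hreal).trans ?_
            obtain ⟨g, hg⟩ := isConj_iff.1 hu1.symm
            exact isConj_iff.2 ⟨g, by rw [← hg]; group⟩
          · intro h
            exact hac ((hR a c).1 (hu1.symm.trans h))
        obtain ⟨d, rfl⟩ := hfsurj u huT
        exact ⟨⟨d, (hR _ _).1 hu1, (hR _ _).1 (by rw [← hsub]; exact hu2)⟩, Subtype.ext rfl⟩
    have h := S3805.pairs_count (f a) (f b) (f c)
    rw [hcount, hc9 a ha, hc9 b hb] at h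
    simp only [hv, map_intCast, apply_one (isCharacter_of_irr (Subtype.prop _))] at h
    have h2 : (((Nat.card G : ℚ) * ∑ χ : Cfsg.IrrCharacter G,
        ((v χ a * v χ b * v χ c : ℤ) : ℚ) / (Cfsg.charDegree (χ : G → ℂ) : ℚ) : ℚ) : ℂ) =
        ((81 * (n : ℚ) : ℚ) : ℂ) := by
      push_cast
      rw [← h]
      push_cast
      ring
    exact_mod_cast h2
  · intro χ
    obtain ⟨m, hm⟩ := classInner_character_nat (isCharacter_restrict (isCharacter_of_irr χ.2) (T : Subgroup G))
      (oneChar : Cfsg.IrrCharacter (T : Subgroup G))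
    refine ⟨(m : ℤ), ?_⟩
    have h9 : ∑ s : (T : Subgroup G), (χ : G → ℂ) (s : G) = ∑ a : V, (v χ a : ℂ) := by
      refine (Fintype.sum_bijective (fun a : V => (⟨f a, hfT a⟩ : (T : Subgroup G))) ⟨?_, ?_⟩ _ _ ?_).symm
      · intro a b h
        exact hfinj (congrArg Subtype.val h)
      · rintro ⟨t, ht⟩
        obtain ⟨a, rfl⟩ := hfsurj t ht
        exact ⟨a, rfl⟩
      · intro a; exact (hv χ a).symm
    rw [show ((oneChar : Cfsg.IrrCharacter (T : Subgroup G)) : ↥(T : Subgroup G) → ℂ) = (fun _ => 1) from rfl,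
      classInner_one, hcard, inv_mul_eq_iff_eq_mul₀ (by norm_num)] at hm
    rw [h9] at hm
    exact_mod_cast hm

theorem few_two {ι : Type*} [Fintype ι] (p q : ι → ℤ) (hp : ∑ i, p i * p i = 2)
    (hq : ∑ i, q i * q i = 2) (hpq : ∑ i, p i * q i = 1) :
    ∃ k, p k * q k = 1 ∧ ∀ i, i ≠ k → p i * q i = 0 := by
  classical
  have hb : ∀ (r : ι → ℤ), ∑ i, r i * r i = 2 → ∀ i, r i = -1 ∨ r i = 0 ∨ r i = 1 := by
    intro r hr i
    have := Finset.single_le_sum (f := fun j => r j * r j) (fun j _ => mul_self_nonneg _) (Finset.mem_univ i)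
    rw [hr] at this
    have h1 : -2 < r i := by nlinarith
    have h2 : r i < 2 := by nlinarith
    omega
  have h1 : ∀ i, p i * q i + 2 * (if p i * q i = -1 then (1 : ℤ) else 0) ≤ p i * p i := fun i => by
    rcases hb p hp i with h | h | h <;> rcases hb q hq i with h' | h' | h' <;> rw [h, h'] <;> norm_num
  have h2 := Finset.sum_le_sum (s := Finset.univ) (fun i _ => h1 i)
  rw [Finset.sum_add_distrib, hpq, hp, ← Finset.mul_sum, Finset.sum_boole] at h2
  push_cast at h2
  have hno : ∀ i, p i * q i ≠ -1 := by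
    intro i hi
    have : 0 < (Finset.univ.filter fun i => p i * q i = -1).card :=
      Finset.card_pos.2 ⟨i, Finset.mem_filter.2 ⟨Finset.mem_univ i, hi⟩⟩
    omega
  have hval : ∀ i, p i * q i = 0 ∨ p i * q i = 1 := fun i => by
    have := hno i
    rcases hb p hp i with h | h | h <;> rcases hb q hq i with h' | h' | h' <;> first
      | (left; rw [h, h']; norm_num; done)
      | (right; rw [h, h']; norm_num; done)
      | (exfalso; apply this; rw [h, h']; norm_num)
  have hsum : ∑ i, p i * q i = ((Finset.univ.filter fun i => p i * q i = 1).card : ℤ) := by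
    rw [← Finset.sum_boole]
    exact Finset.sum_congr rfl fun i _ => by rcases hval i with h | h <;> simp [h]
  rw [hpq] at hsum
  obtain ⟨k, hk⟩ := Finset.card_eq_one.1 (by exact_mod_cast hsum.symm :
    (Finset.univ.filter fun i => p i * q i = 1).card = 1)
  refine ⟨k, (Finset.mem_filter.1 (show k ∈ Finset.univ.filter fun i => p i * q i = 1 by
    rw [hk]; exact Finset.mem_singleton_self k)).2, fun i hi => ?_⟩
  rcases hval i with h | h
  · exact h
  · exfalso
    have : i ∈ Finset.univ.filter fun i => p i * q i = 1 := Finset.mem_filter.2 ⟨Finset.mem_univ i, h⟩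
    rw [hk, Finset.mem_singleton] at this
    exact hi this

theorem two_terms {ι : Type*} [Fintype ι] (i0 : ι) (p c : ι → ℤ) (hp : ∑ i, p i * p i = 2)
    (hpc : ∑ i, p i * c i = -3) (hcc : ∑ i, c i * c i = 9) (h0 : p i0 = 0) (hc0 : c i0 = 1) :
    ∃ j k, j ≠ k ∧ p j * p j = 1 ∧ p k * p k = 1 ∧ p j * c j = -1 ∧ p k * c k = -2 ∧
      ∀ i, i ≠ j → i ≠ k → p i = 0 := by
  classical
  have hb : ∀ i, p i = -1 ∨ p i = 0 ∨ p i = 1 := by
    intro i
    have := Finset.single_le_sum (f := fun j => p j * p j) (fun j _ => mul_self_nonneg _) (Finset.mem_univ i)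
    rw [hp] at this
    have h1 : -2 < p i := by nlinarith
    have h2 : p i < 2 := by nlinarith
    omega
  have hcard : ((Finset.univ.filter fun i => p i ≠ 0).card : ℤ) = 2 := by
    rw [← hp, ← Finset.sum_boole]
    exact Finset.sum_congr rfl fun i _ => by rcases hb i with h | h | h <;> simp [h]
  obtain ⟨j, k, hjk, hset⟩ := Finset.card_eq_two.1 (by exact_mod_cast hcard :
    (Finset.univ.filter fun i => p i ≠ 0).card = 2)
  have hother : ∀ i, i ≠ j → i ≠ k → p i = 0 := by
    intro i h1 h2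
    by_contra h
    have : i ∈ Finset.univ.filter fun i => p i ≠ 0 := Finset.mem_filter.2 ⟨Finset.mem_univ i, h⟩
    rw [hset] at this
    simp [h1, h2] at this
  have hne : ∀ i, i = j ∨ i = k → p i ≠ 0 := by
    intro i hi
    have : i ∈ Finset.univ.filter fun i => p i ≠ 0 := by rw [hset]; simpa using hi
    exact (Finset.mem_filter.1 this).2
  have hj1 : p j * p j = 1 := by
    rcases hb j with h | h | h <;> rw [h] <;> first | (norm_num; done) | exact absurd h (hne j (Or.inl rfl))
  have hk1 : p k * p k = 1 := by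
    rcases hb k with h | h | h <;> rw [h] <;> first | (norm_num; done) | exact absurd h (hne k (Or.inr rfl))
  have hs : p j * c j + p k * c k = -3 := by
    rw [← hpc]
    exact (Fintype.sum_eq_add (f := fun i => p i * c i) j k hjk fun i hi => by rw [hother i hi.1 hi.2, zero_mul]).symm
  have hj0 : i0 ≠ j := fun h => hne j (Or.inl rfl) (h ▸ h0)
  have hk0 : i0 ≠ k := fun h => hne k (Or.inr rfl) (h ▸ h0)
  have hle : c i0 * c i0 + (c j * c j + c k * c k) ≤ 9 := by
    rw [← hcc]
    have := Finset.sum_le_sum_of_subset_of_nonneg (s := {i0, j, k}) (t := Finset.univ) (f := fun i => c i * c i)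
      (Finset.subset_univ _) (fun i _ _ => mul_self_nonneg _)
    rwa [Finset.sum_insert (by simp [hj0, hk0]), Finset.sum_pair hjk] at this
  rw [hc0] at hle
  have hsq : (p j * c j) * (p j * c j) + (p k * c k) * (p k * c k) ≤ 8 := by
    have e1 : (p j * c j) * (p j * c j) = (p j * p j) * (c j * c j) := by ring
    have e2 : (p k * c k) * (p k * c k) = (p k * p k) * (c k * c k) := by ring
    rw [e1, e2, hj1, hk1]; linarith
  obtain ⟨bj, hbj⟩ : ∃ b, b = p j * c j := ⟨_, rfl⟩
  obtain ⟨bk, hbk⟩ : ∃ b, b = p k * c k := ⟨_, rfl⟩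
  rw [← hbj, ← hbk] at hs hsq
  have hk' : bk = -3 - bj := by omega
  subst hk'
  have l1 : -3 < bj := by nlinarith
  have l2 : bj < 0 := by nlinarith
  rcases (show bj = -1 ∨ bj = -2 by omega) with h | h
  · exact ⟨j, k, hjk, hj1, hk1, by omega, by omega, hother⟩
  · exact ⟨k, j, hjk.symm, hk1, hj1, by omega, by omega, fun i h1 h2 => hother i h2 h1⟩

theorem count_bound {G : Type u} [Group G] [Finite G] (T : Sylow 3 G)
    (hab : ∀ a ∈ (T : Subgroup G), ∀ b ∈ (T : Subgroup G), a * b = b * a)
    (hexp : ∀ a ∈ (T : Subgroup G), a ^ 3 = 1) (hcard : Nat.card (T : Subgroup G) = 9)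
    (hloc : ∀ t ∈ (T : Subgroup G), t ≠ 1 →
      Subgroup.centralizer ({t} : Set G) ≤ Subgroup.normalizer ((T : Subgroup G) : Set G))
    (hne : Subgroup.normalizer ((T : Subgroup G) : Set G) ≠ ⊤) : 10 ≤ Nat.card (Sylow 3 G) := by
  set N := Subgroup.normalizer ((T : Subgroup G) : Set G) with hN
  obtain ⟨g, hg⟩ : ∃ g, g ∉ N := by
    by_contra h
    push Not at h
    exact hne (eq_top_iff.2 fun g _ => h g)
  have hne1 : ∀ t : (T : Subgroup G), (t : G) • (g • T) ≠ T := by
    intro t h
    apply hg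
    rw [smul_smul, Sylow.smul_eq_iff_mem_normalizer] at h
    exact (N.mul_mem_cancel_left (Subgroup.le_normalizer t.2)).1 h
  have hinj : Function.Injective
      (fun o : Option (T : Subgroup G) => o.elim T (fun t => (t : G) • (g • T))) := by
    rintro (_ | t) (_ | t') h
    · rfl
    · exact absurd h.symm (hne1 t')
    · exact absurd h (hne1 t)
    · simp only [Option.elim] at h
      congr 1
      by_contra htt
      set r : G := (t' : G)⁻¹ * t with hr
      have hrT : r ∈ (T : Subgroup G) := mul_mem (inv_mem t'.2) t.2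
      have hr1 : r ≠ 1 := fun h0 => htt (Subtype.ext (inv_mul_eq_one.1 h0).symm)
      have hfix : r • (g • T) = g • T := by rw [hr, mul_smul, h, inv_smul_smul]
      rw [Sylow.smul_eq_iff_mem_normalizer] at hfix
      have hrP := S3805.mem_sylow_of_normalizer _ hfix (hexp _ hrT)
      rw [S3805.mem_smul_sylow_iff] at hrP
      apply hg
      exact inv_mem_iff.1 (S3805.ti T hab hloc hrT hr1 (g := g⁻¹) (by rw [inv_inv]; exact hrP) hexp)
  have h10 := Nat.card_le_card_of_injective _ hinj
  rw [Finite.card_option, hcard] at h10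
  exact h10

def rot (a : V) : V := (-a.2, a.1)

def act4 (e : Fin 4) (a : V) : V := rot^[e.val] a

def R4 (a b : V) : Prop := ∃ e : Fin 4, act4 e a = b

instance instDecR4 : DecidableRel R4 := fun _ _ => Fintype.decidableExistsFintype

def act2 (e : Fin 2) (a : V) : V := if e = 0 then a else -a

def R2 (a b : V) : Prop := ∃ e : Fin 2, act2 e a = b

instance instDecR2 : DecidableRel R2 := fun _ _ => Fintype.decidableExistsFintype

/-- Let G be a finite simple group whose Sylow 3-subgroup S is elementary abelian of order 9, such that G has more than one conjugacy class of elements of order 3 and C_G(s) = S for every non-identity s in S. Then G is isomorphic to the alternating group of degree 6. -/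
theorem result {G : Type*} [Group G] [Finite G] [IsSimpleGroup G]
    (P : Sylow 3 G) (S : Subgroup G) (hSP : S = P) (hcomm : IsMulCommutative S) (hexp : ∀ a ∈ S, a ^ 3 = 1)
    (hcard : Nat.card S = 9)
    (hclasses : ∃ a b : G, orderOf a = 3 ∧ orderOf b = 3 ∧ ∀ g : G, g * a * g⁻¹ ≠ b)
    (hcent : ∀ s ∈ S, s ≠ 1 → Subgroup.centralizer ({s} : Set G) = S) :
    Nonempty (G ≃* alternatingGroup (Fin 6)) := by
  classical
  haveI := Fintype.ofFinite G
  haveI := Fintype.ofFinite (Cfsg.IrrCharacter G)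
  subst hSP
  set N := Subgroup.normalizer ((P : Subgroup G) : Set G) with hNdef
  have hab : ∀ a ∈ (P : Subgroup G), ∀ b ∈ (P : Subgroup G), a * b = b * a := fun a ha b hb => by
    haveI := hcomm
    exact congrArg Subtype.val (mul_comm' (⟨a, ha⟩ : (P : Subgroup G)) ⟨b, hb⟩)
  have hloc : ∀ t ∈ (P : Subgroup G), t ≠ 1 → Subgroup.centralizer ({t} : Set G) ≤ N :=
    fun t ht h1 => (hcent t ht h1).le.trans Subgroup.le_normalizer
  have hPN : (P : Subgroup G) ≤ N := Subgroup.le_normalizer
  -- two classes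
  obtain ⟨a, ha, b, hb, ha1, hb1, hnab⟩ : ∃ a ∈ (P : Subgroup G), ∃ b ∈ (P : Subgroup G),
      a ≠ 1 ∧ b ≠ 1 ∧ ¬ IsConj a b := by
    obtain ⟨a, b, ha, hb, hab'⟩ := hclasses
    have key : ∀ z : G, orderOf z = 3 → ∃ z' ∈ (P : Subgroup G), z' ≠ 1 ∧ IsConj z z' := by
      intro z hz
      have hp : IsPGroup 3 ↥(Subgroup.zpowers z) :=
        IsPGroup.of_card (n := 1) (by rw [Nat.card_zpowers, hz, pow_one])
      obtain ⟨Q, hQ⟩ := hp.exists_le_sylow
      obtain ⟨g, rfl⟩ := MulAction.exists_smul_eq G P Q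
      have hz' := (S3805.mem_smul_sylow_iff g z P).1 (hQ (Subgroup.mem_zpowers z))
      refine ⟨g⁻¹ * z * g, hz', ?_, isConj_iff.2 ⟨g⁻¹, by rw [inv_inv]⟩⟩
      intro h
      have : z = 1 := by
        have := congrArg (fun w => g * w * g⁻¹) h
        simpa [mul_assoc] using this
      rw [this, orderOf_one] at hz
      omega
    obtain ⟨a', ha'1, ha'2, ha'3⟩ := key a ha
    obtain ⟨b', hb'1, hb'2, hb'3⟩ := key b hb
    refine ⟨a', ha'1, b', hb'1, ha'2, hb'2, fun h => ?_⟩
    obtain ⟨g, hg⟩ := isConj_iff.1 ((ha'3.trans h).trans hb'3.symm)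
    exact hab' g hg
  have hPtop : (P : Subgroup G) ≠ ⊤ := by
    intro h
    apply hnab
    have hc : ∀ g : G, g * a = a * g := fun g => hab g (by rw [h]; trivial) a ha
    have hnormal : (Subgroup.zpowers a).Normal := ⟨fun z hz g => by
      have : g * z = z * g := hab g (by rw [h]; trivial) z (by rw [h]; trivial)
      rw [this, mul_inv_cancel_right]; exact hz⟩
    rcases hnormal.eq_bot_or_eq_top with h0 | h0
    · exact absurd (Subgroup.zpowers_eq_bot.1 h0) ha1
    · exfalso
      have h9 := hcard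
      rw [h, Subgroup.card_top, ← Nat.card_congr (Subgroup.topEquiv (G := G)).toEquiv, ← h0, Nat.card_zpowers] at h9
      have := orderOf_dvd_of_pow_eq_one (hexp a ha)
      rw [h9] at this
      norm_num at this
  have hPbot : (P : Subgroup G) ≠ ⊥ := by
    intro h; rw [h, Subgroup.card_bot] at hcard; omega
  have hNtop : N ≠ ⊤ := by
    intro h
    rcases (Subgroup.normalizer_eq_top_iff.1 h : (P : Subgroup G).Normal).eq_bot_or_eq_top with h0 | h0
    · exact hPbot h0
    · exact hPtop h0
  -- orbit sizes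
  set m := (P : Subgroup G).relIndex N with hm
  have hN9 : Nat.card N = 9 * m := by
    rw [← ((P : Subgroup G).subgroupOf N).card_mul_index,
      Nat.card_congr (Subgroup.subgroupOfEquivOfLe hPN).toEquiv, hcard]
    rfl
  have hm1 : m ≠ 1 := by
    intro h
    refine S0497.no_complement P hPbot hPtop ?_
    have hle : N ≤ (P : Subgroup G) := Subgroup.relIndex_eq_one.1 h
    intro g hg
    rw [Subgroup.mem_centralizer_iff]
    intro z hz
    exact hab z hz g (hle hg)
  have hm3 : ¬ 3 ∣ m := by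
    intro h
    apply P.not_dvd_index
    exact h.trans (Subgroup.relIndex_dvd_index_of_le hPN)
  have horb : ∀ z (hz : z ∈ (P : Subgroup G)), z ≠ 1 →
      Set.ncard {w : G | ∃ g ∈ N, g * z * g⁻¹ = w} = m := by
    intro z hz hz1
    have h := card_conjClass (G := ↥N) ⟨z, hPN hz⟩
    have hc : Subgroup.centralizer ({(⟨z, hPN hz⟩ : ↥N)} : Set ↥N) = (P : Subgroup G).subgroupOf N := by
      ext g
      rw [Subgroup.mem_centralizer_singleton_iff, Subgroup.mem_subgroupOf, ← hcent z hz hz1,
        Subgroup.mem_centralizer_singleton_iff]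
      exact ⟨fun e => congrArg Subtype.val e, fun e => Subtype.ext e⟩
    rw [hc] at h
    rw [show m = ((P : Subgroup G).subgroupOf N).index from rfl, ← h]
    have : {w : G | ∃ g ∈ N, g * z * g⁻¹ = w} =
        (fun w : ↥N => (w : G)) '' {w : ↥N | IsConj (⟨z, hPN hz⟩ : ↥N) w} := by
      ext w
      constructor
      · rintro ⟨g, hg, rfl⟩
        exact ⟨⟨g, hg⟩ * ⟨z, hPN hz⟩ * ⟨g, hg⟩⁻¹, isConj_iff.2 ⟨⟨g, hg⟩, rfl⟩, rfl⟩
      · rintro ⟨w', hw', rfl⟩
        obtain ⟨g, rfl⟩ := isConj_iff.1 hw'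
        exact ⟨g, g.2, rfl⟩
    rw [this, Set.ncard_image_of_injective _ Subtype.val_injective, ← Nat.card_coe_set_eq]
    rfl
  have hm8 : m + m ≤ 8 := by
    have hd : Disjoint {w : G | ∃ g ∈ N, g * a * g⁻¹ = w} {w : G | ∃ g ∈ N, g * b * g⁻¹ = w} := by
      rw [Set.disjoint_left]
      rintro w ⟨g, -, hg⟩ ⟨g', -, hg'⟩
      exact hnab ((isConj_iff.2 ⟨g, hg⟩).trans (isConj_iff.2 ⟨g', hg'⟩).symm)
    have hsub : {w : G | ∃ g ∈ N, g * a * g⁻¹ = w} ∪ {w : G | ∃ g ∈ N, g * b * g⁻¹ = w} ⊆
        ((P : Subgroup G) : Set G) \ {1} := by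
      rintro w (⟨g, hg, rfl⟩ | ⟨g, hg, rfl⟩)
      · exact ⟨(Subgroup.mem_normalizer_iff.1 hg a).1 ha, fun h => ha1 (conj_eq_one_iff.1 h)⟩
      · exact ⟨(Subgroup.mem_normalizer_iff.1 hg b).1 hb, fun h => hb1 (conj_eq_one_iff.1 h)⟩
    have h8 : Set.ncard (((P : Subgroup G) : Set G) \ {1}) = 8 := by
      rw [Set.ncard_sdiff_singleton_of_mem (one_mem _), ← Nat.card_coe_set_eq, SetLike.coe_sort_coe, hcard]
    have := Set.ncard_le_ncard hsub (Set.toFinite _)
    rw [Set.ncard_union_eq hd (Set.toFinite _) (Set.toFinite _), horb a ha ha1, horb b hb hb1, h8] at this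
    exact this
  have hm0 : m ≠ 0 := by
    intro h
    have := Nat.card_pos (α := N)
    rw [hN9, h] at this
    omega
  obtain ⟨j, hj, hmj⟩ : ∃ j : ℕ, (j = 1 ∨ j = 2) ∧ m = 2 ^ j := by
    rcases (show m = 2 ∨ m = 4 by omega) with h | h
    · exact ⟨1, Or.inl rfl, by omega⟩
    · exact ⟨2, Or.inr rfl, by omega⟩
  obtain ⟨K, hKN, hKcard⟩ : ∃ K : Subgroup G, K ≤ N ∧ Nat.card K = m := by
    haveI : Fact (Nat.Prime 2) := ⟨Nat.prime_two⟩
    obtain ⟨K', hK'⟩ := Sylow.exists_subgroup_card_pow_prime 2 (G := ↥N) (n := j) (by rw [hN9, hmj]; exact dvd_mul_left _ _)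
    refine ⟨K'.map N.subtype, Subgroup.map_subtype_le K', ?_⟩
    rw [Subgroup.card_map_of_injective N.subtype_injective, hK', hmj]
  have hKpow : ∀ h ∈ K, h ^ m = 1 := fun h hh => by
    have := pow_card_eq_one' (x := (⟨h, hh⟩ : K))
    rw [hKcard] at this
    exact congrArg Subtype.val this
  have hfpf : ∀ h ∈ K, h ≠ 1 → ∀ z ∈ (P : Subgroup G), h * z * h⁻¹ = z → z = 1 := by
    intro h hh h1 z hz hfix
    by_contra hz1
    apply h1
    have hP' : h ∈ (P : Subgroup G) := by
      rw [← hcent z hz hz1, Subgroup.mem_centralizer_singleton_iff]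
      exact mul_inv_eq_iff_eq_mul.1 hfix
    have := pow_gcd_eq_one.2 ⟨hKpow h hh, hexp h hP'⟩
    rw [Nat.Coprime.gcd_eq_one ((Nat.Prime.coprime_iff_not_dvd Nat.prime_three).2 hm3).symm, pow_one] at this
    exact this
  have hnorm : ∀ g ∈ N, ∀ z ∈ (P : Subgroup G), g * z * g⁻¹ ∈ (P : Subgroup G) := fun g hg z hz =>
    (Subgroup.mem_normalizer_iff.1 hg z).1 hz
  have hinv : ∀ t ∈ K, t ≠ 1 → t * t = 1 → ∀ z ∈ (P : Subgroup G), t * z * t⁻¹ = z⁻¹ := by
    intro t ht t1 tt z hz
    have hw := hnorm t (hKN ht) z hz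
    have h0 : z * (t * z * t⁻¹) = 1 := hfpf t ht t1 _ (mul_mem hz hw) (by
      calc t * (z * (t * z * t⁻¹)) * t⁻¹ = (t * z * t⁻¹) * ((t * t) * z * (t * t)⁻¹) := by group
        _ = (t * z * t⁻¹) * z := by rw [tt]; group
        _ = z * (t * z * t⁻¹) := hab _ hw _ hz)
    exact eq_inv_of_mul_eq_one_right h0
  have hN36 : Nat.card G = Nat.card N * Nat.card (Sylow 3 G) := by
    rw [Sylow.card_eq_index_normalizer P]
    exact N.card_mul_index.symm
  have h10 : 10 ≤ Nat.card (Sylow 3 G) := count_bound P hab hexp hcard hloc hNtop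
  have hsurjN : ∀ {E : Type} [Fintype E] (f : V → G) (k : E → G) (act : E → V → V),
      Function.Injective f → (∀ c, f c ∈ (P : Subgroup G)) → (∀ c d, f (c + d) = f c * f d) →
      (∀ e, k e ∈ N) → (∀ e c, k e * f c * (k e)⁻¹ = f (act e c)) →
      Function.Injective (fun e => act e (1, 0)) → Fintype.card E = m →
      ∀ g ∈ N, ∃ p : V × E, f p.1 * k p.2 = g := by
    intro E _ f k act hfinj hfT hfadd hkN hkconj hainj hE
    have hpinj : Function.Injective (fun p : V × E => f p.1 * k p.2) := by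
      rintro ⟨c, e⟩ ⟨d, e'⟩ h
      simp only at h
      have hg : ∀ (c : V) (e : E) (z : V), (f c * k e) * f z * (f c * k e)⁻¹ = f (act e z) := by
        intro c e z
        calc (f c * k e) * f z * (f c * k e)⁻¹ = f c * (k e * f z * (k e)⁻¹) * (f c)⁻¹ := by group
          _ = f (act e z) := by
              rw [hkconj, mul_inv_eq_iff_eq_mul, ← hfadd, ← hfadd, add_comm]
      have he : e = e' := hainj (hfinj (by rw [← hg c e, ← hg d e', h]))
      subst he
      exact Prod.ext (hfinj (mul_right_cancel h)) rfl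
    have h1 : Set.range (fun p : V × E => f p.1 * k p.2) = (N : Set G) := by
      refine Set.eq_of_subset_of_ncard_le ?_ ?_ (Set.toFinite _)
      · rintro _ ⟨p, rfl⟩; exact N.mul_mem (hPN (hfT p.1)) (hkN p.2)
      · rw [← Nat.card_coe_set_eq, SetLike.coe_sort_coe, hN9, Set.ncard_range_of_injective hpinj]
        simp [Nat.card_eq_fintype_card, hE]
    intro g hg
    rw [← SetLike.mem_coe, ← h1] at hg
    exact hg
  rcases hj with rfl | rfl
  · -- normaliser of order 18: impossible
    exfalso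
    obtain ⟨t, ht, ht1⟩ : ∃ t ∈ K, t ≠ 1 := by
      by_contra h
      push Not at h
      rw [(Subgroup.eq_bot_iff_forall K).2 h, Subgroup.card_bot] at hKcard
      omega
    have htt : t * t = 1 := by
      have := hKpow t ht
      rw [hmj] at this
      simpa [pow_two] using this
    obtain ⟨f, hfinj, hfT, hfsurj, hfadd, hf10, hf01, -⟩ := exists_coords (P : Subgroup G) hab hexp hcard a b ha hb ha1 hb1
      (fun h => hnab (h ▸ IsConj.refl a)) (fun h => hnab (isConj_iff.2 ⟨t, by rw [hinv t ht ht1 htt a ha]; exact h.symm⟩))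
    have hf0 : f 0 = 1 := by
      have := hfadd 0 0
      rw [add_zero] at this
      exact left_eq_mul.1 this
    have hfneg : ∀ c, f (-c) = (f c)⁻¹ := fun c =>
      eq_inv_of_mul_eq_one_left (by rw [← hfadd, neg_add_cancel, hf0])
    let k : Fin 2 → G := fun e => t ^ e.val
    have hkN : ∀ e, k e ∈ N := fun e => N.pow_mem (hKN ht) _
    have hkconj : ∀ e c, k e * f c * (k e)⁻¹ = f (act2 e c) := by
      intro e c
      fin_cases e
      · simp [k, act2]
      · simp [k, act2, hfneg, hinv t ht ht1 htt _ (hfT c)]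
    obtain ⟨v, hv, hv0, hdvd, hcst, hcol, hF, -⟩ := equations P hab hexp hcard hcent f k act2 R2 (fun _ _ => Iff.rfl)
      hfinj hfT hfsurj hfadd (hsurjN f k act2 hfinj hfT hfadd hkN hkconj (by decide) (by rw [hmj]; rfl)) hkconj
      ⟨0, rfl⟩ (fun c => ⟨1, rfl⟩)
    set x : V := (1, 0) with hxd
    set y : V := (0, 1) with hyd
    set z : V := (1, 1) with hzd
    choose p hp using fun χ => hdvd χ x z
    choose q hq using fun χ => hdvd χ y z
    have ex : ∀ χ, v χ x = v χ z + 3 * p χ := fun χ => by have := hp χ; omega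
    have ey : ∀ χ, v χ y = v χ z + 3 * q χ := fun χ => by have := hq χ; omega
    have o1 := hcol x x (by decide)
    have o2 := hcol y y (by decide)
    have o3 := hcol z z (by decide)
    have o4 := hcol x y (by decide)
    have o5 := hcol x z (by decide)
    have o6 := hcol y z (by decide)
    rw [if_pos (by decide)] at o1 o2 o3
    rw [if_neg (by decide)] at o4 o5 o6
    have hp2 : ∑ χ, p χ * p χ = 2 := by
      have h : 9 * ∑ χ, p χ * p χ = (∑ χ, v χ x * v χ x) - 2 * (∑ χ, v χ x * v χ z) + ∑ χ, v χ z * v χ z := by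
        simp only [Finset.mul_sum, ← Finset.sum_sub_distrib, ← Finset.sum_add_distrib]
        refine Finset.sum_congr rfl fun χ _ => ?_
        rw [ex χ]; ring
      omega
    have hq2 : ∑ χ, q χ * q χ = 2 := by
      have h : 9 * ∑ χ, q χ * q χ = (∑ χ, v χ y * v χ y) - 2 * (∑ χ, v χ y * v χ z) + ∑ χ, v χ z * v χ z := by
        simp only [Finset.mul_sum, ← Finset.sum_sub_distrib, ← Finset.sum_add_distrib]
        refine Finset.sum_congr rfl fun χ _ => ?_
        rw [ey χ]; ring
      omega
    have hpq : ∑ χ, p χ * q χ = 1 := by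
      have h : 9 * ∑ χ, p χ * q χ = (∑ χ, v χ x * v χ y) - (∑ χ, v χ x * v χ z) - (∑ χ, v χ y * v χ z)
          + ∑ χ, v χ z * v χ z := by
        simp only [Finset.mul_sum, ← Finset.sum_sub_distrib, ← Finset.sum_add_distrib]
        refine Finset.sum_congr rfl fun χ _ => ?_
        rw [ex χ, ey χ]; ring
      omega
    obtain ⟨i, hi, hother⟩ := few_two p q hp2 hq2 hpq
    have e1 := hF x x y 0 (by decide) (by decide) (by decide) (by decide) (by decide)
    have e2 := hF x x z 0 (by decide) (by decide) (by decide) (by decide) (by decide)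
    have e3 := hF x y z 1 (by decide) (by decide) (by decide) (by decide) (by decide)
    have e4 := hF x z z 0 (by decide) (by decide) (by decide) (by decide) (by decide)
    have hsum : (Nat.card G : ℚ) * (9 * ∑ χ : Cfsg.IrrCharacter G,
        ((p χ * q χ * v χ x : ℤ) : ℚ) / (Cfsg.charDegree (χ : G → ℂ) : ℚ)) = -81 := by
      have hid : (9 : ℚ) * ∑ χ : Cfsg.IrrCharacter G, ((p χ * q χ * v χ x : ℤ) : ℚ) / (Cfsg.charDegree (χ : G → ℂ) : ℚ) =
          (∑ χ : Cfsg.IrrCharacter G, ((v χ x * v χ x * v χ y : ℤ) : ℚ) / (Cfsg.charDegree (χ : G → ℂ) : ℚ))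
          - (∑ χ : Cfsg.IrrCharacter G, ((v χ x * v χ x * v χ z : ℤ) : ℚ) / (Cfsg.charDegree (χ : G → ℂ) : ℚ))
          - (∑ χ : Cfsg.IrrCharacter G, ((v χ x * v χ y * v χ z : ℤ) : ℚ) / (Cfsg.charDegree (χ : G → ℂ) : ℚ))
          + (∑ χ : Cfsg.IrrCharacter G, ((v χ x * v χ z * v χ z : ℤ) : ℚ) / (Cfsg.charDegree (χ : G → ℂ) : ℚ)) := by
        simp only [Finset.mul_sum, ← Finset.sum_sub_distrib, ← Finset.sum_add_distrib]
        refine Finset.sum_congr rfl fun χ _ => ?_
        rw [ex χ, ey χ]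
        push_cast
        ring
      rw [hid, mul_add, mul_sub, mul_sub, e1, e2, e3, e4]; norm_num
    rw [Finset.sum_eq_single i (fun χ _ hχ => by rw [hother χ hχ]; simp) (by simp), hi, one_mul] at hsum
    have hd : (0 : ℚ) < (Cfsg.charDegree (i : G → ℂ) : ℚ) := by exact_mod_cast charDegree_pos i.2
    have hZ : (Nat.card G : ℤ) * v i x = -9 * (Cfsg.charDegree (i : G → ℂ) : ℤ) := by
      have : ((Nat.card G : ℤ) : ℚ) * (v i x : ℚ) = ((-9 * (Cfsg.charDegree (i : G → ℂ) : ℤ) : ℤ) : ℚ) := by
        field_simp at hsum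
        push_cast
        linear_combination hsum / 9
      exact_mod_cast this
    have hsq : Cfsg.charDegree (i : G → ℂ) ^ 2 ≤ Nat.card G := by
      rw [← sum_sq_degree (G := G)]
      exact Finset.single_le_sum (f := fun χ : Cfsg.IrrCharacter G => Cfsg.charDegree (χ : G → ℂ) ^ 2)
        (fun _ _ => Nat.zero_le _) (Finset.mem_univ i)
    have hneg' : v i x ≤ -1 := by
      have hd' := charDegree_pos i.2
      by_contra h
      push Not at h
      have : (0 : ℤ) ≤ (Nat.card G : ℤ) * v i x := mul_nonneg (Int.natCast_nonneg _) (by omega)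
      omega
    have hb1' : (Nat.card G : ℤ) ≤ 9 * (Cfsg.charDegree (i : G → ℂ) : ℤ) := by
      nlinarith [Int.natCast_nonneg (Nat.card G)]
    have hb2 : Nat.card G ≤ 9 * Cfsg.charDegree (i : G → ℂ) := by exact_mod_cast hb1'
    rw [hN36, hN9, hmj] at hb2 hsq
    nlinarith
  · -- normaliser of order 36
    obtain ⟨h, hh, hh2⟩ : ∃ h ∈ K, h * h ≠ 1 := by
      by_contra hcon
      push Not at hcon
      have hall : ∀ c ∈ K, ∀ d ∈ K, c ≠ 1 → d ≠ 1 → c = d := by
        intro c hc d hd c1 d1
        by_contra hcd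
        have h2 : c * d ≠ 1 := by
          intro e
          rw [eq_inv_of_mul_eq_one_left e] at hcd
          exact hcd (inv_eq_of_mul_eq_one_right (hcon d hd))
        apply ha1
        refine hfpf (c * d) (mul_mem hc hd) h2 a ha ?_
        calc c * d * a * (c * d)⁻¹ = c * (d * a * d⁻¹) * c⁻¹ := by group
          _ = a := by
              rw [hinv d hd d1 (hcon d hd) a ha, hinv c hc c1 (hcon c hc) _ (inv_mem ha), inv_inv]
      obtain ⟨c, hc, c1⟩ : ∃ c ∈ K, c ≠ 1 := by
        by_contra h
        push Not at h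
        rw [(Subgroup.eq_bot_iff_forall K).2 h, Subgroup.card_bot] at hKcard
        omega
      have hsub : (K : Set G) ⊆ {1, c} := by
        intro d hd
        by_cases hd1 : d = 1
        · exact Or.inl hd1
        · exact Or.inr (hall d hd c hc hd1 c1)
      have := Set.ncard_le_ncard hsub (Set.toFinite _)
      rw [← Nat.card_coe_set_eq, SetLike.coe_sort_coe, hKcard, Set.ncard_pair (Ne.symm c1)] at this
      omega
    have hh1 : h ≠ 1 := fun e => hh2 (by rw [e, one_mul])
    have hh4 : (h * h) * (h * h) = 1 := by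
      have := hKpow h hh
      rw [hmj] at this
      calc (h * h) * (h * h) = h ^ (2 ^ 2) := by rw [show (2 : ℕ) ^ 2 = 4 from rfl, pow_succ, pow_succ, pow_succ, pow_one]; group
        _ = 1 := this
    have hhinv : ∀ z ∈ (P : Subgroup G), h * (h * z * h⁻¹) * h⁻¹ = z⁻¹ := fun z hz => by
      rw [← hinv (h * h) (mul_mem hh hh) hh2 hh4 z hz]; group
    set y₀ : G := h * a * h⁻¹ with hy₀
    have hy₀P : y₀ ∈ (P : Subgroup G) := hnorm h (hKN hh) a ha
    have hainv : a⁻¹ ≠ a := by
      intro e
      apply ha1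
      have h2 : a ^ 2 = 1 := by rw [pow_two]; exact mul_eq_one_iff_inv_eq.2 e
      have := pow_gcd_eq_one.2 ⟨h2, hexp a ha⟩
      simpa using this
    obtain ⟨f, hfinj, hfT, hfsurj, hfadd, -, -, hfdef⟩ := exists_coords (P : Subgroup G) hab hexp hcard a y₀ ha hy₀P ha1
      (fun e => ha1 (conj_eq_one_iff.1 e))
      (fun e => by
        have := hhinv a ha
        rw [← hy₀, e, ← hy₀, e] at this
        exact hainv this.symm)
      (fun e => by
        have := hhinv a ha
        rw [← hy₀, e, show h * a⁻¹ * h⁻¹ = (h * a * h⁻¹)⁻¹ by group, ← hy₀, e, inv_inv] at this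
        exact hainv this.symm)
    have hf0 : f 0 = 1 := by
      have := hfadd 0 0
      rw [add_zero] at this
      exact left_eq_mul.1 this
    have hfneg : ∀ c, f (-c) = (f c)⁻¹ := fun c =>
      eq_inv_of_mul_eq_one_left (by rw [← hfadd, neg_add_cancel, hf0])
    have hrot : ∀ c : V, h * f c * h⁻¹ = f (rot c) := by
      intro c
      have e1 : f (rot c) = (f (c.2, 0))⁻¹ * f (0, c.1) := by
        rw [← hfneg, ← hfadd]
        congr 1
        simp [rot]
      have hy' : h * y₀ * h⁻¹ = a⁻¹ := by rw [hy₀]; exact hhinv a ha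
      rw [e1, hfdef, hfdef, hfdef]
      simp only [ZMod.val_zero, pow_zero, mul_one, one_mul]
      calc h * (a ^ c.1.val * y₀ ^ c.2.val) * h⁻¹ = (h * a * h⁻¹) ^ c.1.val * (h * y₀ * h⁻¹) ^ c.2.val := by
            exact (show ∀ (u w : G) (m n : ℕ), h * (u ^ m * w ^ n) * h⁻¹ = (h * u * h⁻¹) ^ m * (h * w * h⁻¹) ^ n from
              fun u w m n => by rw [conj_pow, conj_pow]; group) _ _ _ _
        _ = (a ^ c.2.val)⁻¹ * y₀ ^ c.1.val := by
            rw [← hy₀, hy', inv_pow]
            exact hab _ (pow_mem hy₀P _) _ (inv_mem (pow_mem ha _))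
    let k : Fin 4 → G := fun e => h ^ e.val
    have hkN : ∀ e, k e ∈ N := fun e => N.pow_mem (hKN hh) _
    have hkconj : ∀ e c, k e * f c * (k e)⁻¹ = f (act4 e c) := by
      intro e c
      have : ∀ n : ℕ, h ^ n * f c * (h ^ n)⁻¹ = f (rot^[n] c) := by
        intro n
        induction n with
        | zero => simp
        | succ n ih =>
          rw [Function.iterate_succ_apply', ← hrot, ← ih, pow_succ']; group
      exact this e.val
    obtain ⟨v, hv, hv0, hdvd, hcst, hcol, hF, h9⟩ := equations P hab hexp hcard hcent f k act4 R4 (fun _ _ => Iff.rfl)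
      hfinj hfT hfsurj hfadd (hsurjN f k act4 hfinj hfT hfadd hkN hkconj (by decide) (by rw [hmj]; rfl)) hkconj
      ⟨0, rfl⟩ (by decide)
    set x : V := (1, 0) with hxd
    set z : V := (1, 1) with hzd
    choose p hp using fun χ => hdvd χ x z
    have ex : ∀ χ, v χ x = v χ z + 3 * p χ := fun χ => by have := hp χ; omega
    have o1 := hcol x x (by decide)
    have o3 := hcol z z (by decide)
    have o5 := hcol x z (by decide)
    rw [if_pos (by decide)] at o1 o3
    rw [if_neg (by decide)] at o5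
    have hp2 : ∑ χ, p χ * p χ = 2 := by
      have h : 9 * ∑ χ, p χ * p χ = (∑ χ, v χ x * v χ x) - 2 * (∑ χ, v χ x * v χ z) + ∑ χ, v χ z * v χ z := by
        simp only [Finset.mul_sum, ← Finset.sum_sub_distrib, ← Finset.sum_add_distrib]
        refine Finset.sum_congr rfl fun χ _ => ?_
        rw [ex χ]; ring
      omega
    have hpc : ∑ χ, p χ * v χ z = -3 := by
      have h : 3 * ∑ χ, p χ * v χ z = (∑ χ, v χ x * v χ z) - ∑ χ, v χ z * v χ z := by
        simp only [Finset.mul_sum, ← Finset.sum_sub_distrib]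
        refine Finset.sum_congr rfl fun χ _ => ?_
        rw [ex χ]; ring
      omega
    have hone : ∀ c, v oneChar c = 1 := fun c => by
      have := hv oneChar c
      rw [oneChar_apply] at this
      exact_mod_cast this.symm
    obtain ⟨i, j, hij, hi1, hj1, hic, hjc, hother⟩ := two_terms oneChar p (fun χ => v χ z) hp2 hpc o3
      (by have := hp oneChar; rw [hone, hone] at this; omega) (hone z)
    have e1 := hF x x z 2 (by decide) (by decide) (by decide) (by decide) (by decide)
    have e2 := hF x z z 2 (by decide) (by decide) (by decide) (by decide) (by decide)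
    have hdi : (0 : ℚ) < (Cfsg.charDegree (i : G → ℂ) : ℚ) := by exact_mod_cast charDegree_pos i.2
    have hdj : (0 : ℚ) < (Cfsg.charDegree (j : G → ℂ) : ℚ) := by exact_mod_cast charDegree_pos j.2
    have hzi : v i z = -p i := by linear_combination (p i) * hic - (v i z) * hi1
    have hzj : v j z = -2 * p j := by linear_combination (p j) * hjc - (v j z) * hj1
    have hxi : v i x = 2 * p i := by rw [ex i, hzi]; ring
    have hxj : v j x = p j := by rw [ex j, hzj]; ring
    have hGq : (0 : ℚ) < (Nat.card G : ℚ) := by exact_mod_cast Nat.card_pos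
    have hrel : (p i : ℚ) / (Cfsg.charDegree (i : G → ℂ) : ℚ) + (p j : ℚ) / (Cfsg.charDegree (j : G → ℂ) : ℚ) = 0 := by
      have h0 : ∑ χ : Cfsg.IrrCharacter G,
          ((v χ x * v χ z * (3 * p χ) : ℤ) : ℚ) / (Cfsg.charDegree (χ : G → ℂ) : ℚ) = 0 := by
        have hid : ∑ χ : Cfsg.IrrCharacter G, ((v χ x * v χ z * (3 * p χ) : ℤ) : ℚ) / (Cfsg.charDegree (χ : G → ℂ) : ℚ) =
            (∑ χ : Cfsg.IrrCharacter G, ((v χ x * v χ x * v χ z : ℤ) : ℚ) / (Cfsg.charDegree (χ : G → ℂ) : ℚ))
            - ∑ χ : Cfsg.IrrCharacter G, ((v χ x * v χ z * v χ z : ℤ) : ℚ) / (Cfsg.charDegree (χ : G → ℂ) : ℚ) := by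
          rw [← Finset.sum_sub_distrib]
          refine Finset.sum_congr rfl fun χ _ => ?_
          rw [ex χ]; push_cast; ring
        have := mul_left_cancel₀ hGq.ne' (e1.trans e2.symm)
        rw [hid, this, sub_self]
      rw [Fintype.sum_eq_add i j hij (fun χ hχ => by rw [hother χ hχ.1 hχ.2]; simp), hxi, hzi, hxj, hzj] at h0
      have hi1q : (p i : ℚ) * p i = 1 := by exact_mod_cast hi1
      have hj1q : (p j : ℚ) * p j = 1 := by exact_mod_cast hj1
      push_cast at h0
      have ei : (2 * (p i : ℚ) * -(p i : ℚ) * (3 * (p i : ℚ))) = -6 * (p i : ℚ) := by linear_combination (-6 * (p i : ℚ)) * hi1q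
      have ej : ((p j : ℚ) * (-2 * (p j : ℚ)) * (3 * (p j : ℚ))) = -6 * (p j : ℚ) := by linear_combination (-6 * (p j : ℚ)) * hj1q
      rw [ei, ej] at h0
      linear_combination (-1 / 6 : ℚ) * h0
    -- the contribution of the other characters
    set d : Cfsg.IrrCharacter G → ℚ := fun χ => (Cfsg.charDegree (χ : G → ℂ) : ℚ) with hd_def
    set term : Cfsg.IrrCharacter G → ℚ := fun χ => ((v χ x * v χ x * v χ z : ℤ) : ℚ) / d χ with hterm
    set rest := ((Finset.univ.erase oneChar).erase i).erase j with hrest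
    have hi0 : i ≠ oneChar := by
      intro e
      have := hp oneChar
      rw [hone, hone] at this
      rw [e, show p oneChar = 0 by omega] at hi1
      norm_num at hi1
    have hj0 : j ≠ oneChar := by
      intro e
      have := hp oneChar
      rw [hone, hone] at this
      rw [e, show p oneChar = 0 by omega] at hj1
      norm_num at hj1
    have hsplit : ∀ w : Cfsg.IrrCharacter G → ℚ, ∑ χ, w χ = w oneChar + (w i + (w j + ∑ χ ∈ rest, w χ)) := by
      intro w
      rw [hrest, Finset.add_sum_erase _ w (Finset.mem_erase.2 ⟨hij.symm, Finset.mem_erase.2 ⟨hj0, Finset.mem_univ j⟩⟩),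
        Finset.add_sum_erase _ w (Finset.mem_erase.2 ⟨hi0, Finset.mem_univ i⟩),
        Finset.add_sum_erase _ w (Finset.mem_univ _)]
    have hrest2 : ∑ χ ∈ rest, ((v χ z * v χ z : ℤ) : ℚ) = 3 := by
      have := hsplit (fun χ => ((v χ z * v χ z : ℤ) : ℚ))
      rw [← Int.cast_sum, o3, hone, hzi, hzj] at this
      have hi1q : (p i : ℚ) * p i = 1 := by exact_mod_cast hi1
      have hj1q : (p j : ℚ) * p j = 1 := by exact_mod_cast hj1
      push_cast at this
      push_cast
      linear_combination -this - hi1q - 4 * hj1q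
    have hV : ∀ c : V, c = 0 ∨ R4 x c ∨ R4 z c := by decide
    have hsum9 : ∀ χ, (9 : ℤ) ∣ v χ 0 + 4 * v χ x + 4 * v χ z := by
      intro χ
      have hsum : ∑ c, v χ c = v χ 0 + 4 * v χ x + 4 * v χ z := by
        have hval : ∀ c, v χ c = if c = 0 then v χ 0 else if R4 x c then v χ x else v χ z := by
          intro c
          rcases hV c with rfl | hc | hc
          · rw [if_pos rfl]
          · rw [if_neg (by rintro rfl; revert hc; decide), if_pos hc, hcst χ x c hc]
          · rw [if_neg (by rintro rfl; revert hc; decide), if_neg ?_, hcst χ z c hc]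
            revert hc; revert c; decide
        rw [Finset.sum_congr rfl (fun c _ => hval c), Finset.sum_ite, Finset.sum_ite, Finset.sum_const, Finset.sum_const,
          Finset.sum_const, show (Finset.univ.filter fun c : V => c = 0).card = 1 by decide,
          show ((Finset.univ.filter fun c : V => ¬ c = 0).filter fun c => R4 x c).card = 4 by decide,
          show ((Finset.univ.filter fun c : V => ¬ c = 0).filter fun c => ¬ R4 x c).card = 4 by decide]
        simp [add_assoc]
      rw [← hsum]; exact h9 χ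
    have hrest3 : -(3 / 8 : ℚ) ≤ ∑ χ ∈ rest, term χ := by
      have hb : ∀ χ ∈ rest, -(((v χ z * v χ z : ℤ) : ℚ) / 8) ≤ term χ := by
        intro χ hχ
        simp only [hrest, Finset.mem_erase] at hχ
        obtain ⟨hχj, hχi, hχ0, -⟩ := hχ
        have hp0 := hother χ hχi hχj
        have hxz : v χ x = v χ z := by rw [ex χ, hp0]; ring
        have hle : v χ z * v χ z ≤ 3 := by
          have := Finset.single_le_sum (f := fun χ => ((v χ z * v χ z : ℤ) : ℚ)) (s := rest)
            (fun _ _ => by exact_mod_cast mul_self_nonneg _) (show χ ∈ rest by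
              simp only [hrest, Finset.mem_erase]; exact ⟨hχj, hχi, hχ0, Finset.mem_univ _⟩)
          rw [hrest2] at this
          exact_mod_cast this
        have hdpos : (0 : ℚ) < d χ := by simp only [d]; exact_mod_cast charDegree_pos χ.2
        rcases (show v χ z = 0 ∨ v χ z = 1 ∨ v χ z = -1 by
          have l1 : -2 < v χ z := by nlinarith
          have l2 : v χ z < 2 := by nlinarith
          omega) with e | e | e
        · simp [term, hxz, e]
        · simp only [term, hxz, e]
          exact le_trans (by norm_num) (div_nonneg (by norm_num) hdpos.le)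
        · have h8 := hsum9 χ
          rw [hv0, hxz, e] at h8
          have hd8 : (8 : ℚ) ≤ d χ := by
            simp only [d]
            exact_mod_cast (show (8 : ℤ) ≤ (Cfsg.charDegree (χ : G → ℂ) : ℤ) by
              have := charDegree_pos χ.2
              omega)
          simp only [term, hxz, e]
          push_cast
          rw [neg_div, neg_le_neg_iff]
          exact one_div_le_one_div_of_le (by norm_num) hd8
      have := Finset.sum_le_sum hb
      rw [Finset.sum_neg_distrib, ← Finset.sum_div, hrest2] at this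
      exact this
    have hmain : 162 ≥ (Nat.card G : ℚ) * (5 / 8 - 2 * (p i : ℚ) / d i) := by
      have h := hsplit term
      have ht0 : term oneChar = 1 := by
        simp only [term, d, hone]
        have : Cfsg.charDegree ((oneChar : Cfsg.IrrCharacter G) : G → ℂ) = 1 := by
          have h1 := apply_one (isCharacter_of_irr (oneChar : Cfsg.IrrCharacter G).2)
          rw [oneChar_apply] at h1
          exact_mod_cast h1.symm
        rw [this]; norm_num
      have hi1q : (p i : ℚ) * p i = 1 := by exact_mod_cast hi1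
      have hj1q : (p j : ℚ) * p j = 1 := by exact_mod_cast hj1
      have hti : term i = -4 * (p i : ℚ) / d i := by
        simp only [term, hxi, hzi]; push_cast
        congr 1
        linear_combination (-4 * (p i : ℚ)) * hi1q
      have htj : term j = -2 * (p j : ℚ) / d j := by
        simp only [term, hxj, hzj]; push_cast
        congr 1
        linear_combination (-2 * (p j : ℚ)) * hj1q
      have htot : term i + term j = -2 * (p i : ℚ) / d i := by
        rw [hti, htj]
        linear_combination (-2 : ℚ) * hrel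
      have he1 : (Nat.card G : ℚ) * ∑ χ, term χ = 81 * ((2 : ℕ) : ℚ) := e1
      rw [h] at he1
      push_cast at he1
      have := mul_le_mul_of_nonneg_left (show (5 / 8 - 2 * (p i : ℚ) / d i) ≤ term oneChar + (term i + (term j + ∑ χ ∈ rest, term χ)) by
        rw [ht0]
        have e : -2 * (p i : ℚ) / d i = -(2 * (p i : ℚ) / d i) := by ring
        linarith) hGq.le
      linarith
    have hG36 : Nat.card G = 36 * Nat.card (Sylow 3 G) := by rw [hN36, hN9, hmj]; norm_num
    have hG360 : (360 : ℚ) ≤ (Nat.card G : ℚ) := by exact_mod_cast (show 360 ≤ Nat.card G by omega)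
    have hp1 : p i = 1 := by
      rcases (mul_self_eq_one_iff.1 hi1) with e | e
      · exact e
      · exfalso
        rw [e] at hmain
        push_cast at hmain
        have : (0 : ℚ) ≤ 2 / d i := by positivity
        have h5 : (5 / 8 : ℚ) ≤ 5 / 8 - 2 * -1 / d i := by
          rw [show (2 : ℚ) * -1 / d i = -(2 / d i) by ring]; linarith
        nlinarith
    rw [hp1] at hmain
    push_cast at hmain
    have hd9 : (9 : ℤ) ∣ (Cfsg.charDegree (i : G → ℂ) : ℤ) + 4 := by
      have := hsum9 i
      rw [hv0, hxi, hzi, hp1] at this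
      omega
    have hd5 : Cfsg.charDegree (i : G → ℂ) = 5 := by
      by_contra hne
      have hd14 : (14 : ℚ) ≤ d i := by
        simp only [d]
        exact_mod_cast (show 14 ≤ Cfsg.charDegree (i : G → ℂ) by omega)
      have : 2 * 1 / d i ≤ (1 / 7 : ℚ) := by
        rw [div_le_iff₀ hdi]; linarith
      nlinarith
    have hle720 : Nat.card G ≤ 720 := by
      have hd5' : d i = 5 := by simp only [d]; rw [hd5]; norm_num
      rw [hd5'] at hmain
      have : (Nat.card G : ℚ) ≤ 720 := by linarith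
      exact_mod_cast this
    have h5 : 5 ∣ Nat.card G := hd5 ▸ degree_dvd i
    have hmod := card_sylow_modEq_one 3 G
    have hG : Nat.card G = 360 := by
      rw [Nat.ModEq] at hmod
      omega
    exact S0497.result hG

end Cfsg.Agent.S3341
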