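import Cfsg.Statements.S2119
import Mathlib
import Cfsg.Agent.AutAlt.Basic
-- import your own Cfsg.Agent.* helpers here

set_option autoImplicit false
open Cfsg

namespace Cfsg.Agent.S2119

open CfsgLib.AutAlt Equiv Equiv.Perm
open scoped Nat

theorem key_ineq : ∀ (k n : ℕ), 2 ≤ k → 3 * k ≤ n → n ≠ 6 →
    2 * ((n - 3 * k)! * 3 ^ k * k !) < 3 * (n - 3)! := by
  intro k
  induction k with
  | zero => intro n h; omega
  | succ k ih =>
    intro n hk hn h6
    rcases Nat.lt_or_ge k 2 with hk2 | hk2
    · obtain rfl : k = 1 := by omega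
      obtain ⟨j, rfl⟩ : ∃ j, n = j + 7 := ⟨n - 7, by omega⟩
      have e1 : j + 7 - 3 * (1 + 1) = j + 1 := by omega
      have e2 : j + 7 - 3 = j + 1 + 1 + 1 + 1 := by omega
      rw [e1, e2, Nat.factorial_succ (j + 1 + 1 + 1), Nat.factorial_succ (j + 1 + 1), Nat.factorial_succ (j + 1)]
      have hpos := Nat.factorial_pos (j + 1)
      rw [show ((1 + 1)! : ℕ) = 2 from rfl, show (3 : ℕ) ^ (1 + 1) = 9 from rfl]
      generalize (j + 1)! = X at hpos ⊢
      have h := Nat.mul_le_mul_right X (Nat.mul_le_mul (Nat.mul_le_mul (show 4 ≤ j + 1 + 1 + 1 + 1 by omega)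
        (show 3 ≤ j + 1 + 1 + 1 by omega)) (show 2 ≤ j + 1 + 1 by omega))
      nlinarith
    · rcases Nat.lt_or_ge k 3 with hk3 | hk3
      · obtain rfl : k = 2 := by omega
        obtain ⟨j, rfl⟩ : ∃ j, n = j + 9 := ⟨n - 9, by omega⟩
        have e1 : j + 9 - 3 * (2 + 1) = j := by omega
        have e2 : j + 9 - 3 = j + 1 + 1 + 1 + 1 + 1 + 1 := by omega
        rw [e1, e2]
        simp only [Nat.factorial_succ]
        have := Nat.factorial_pos j
        norm_num [Nat.factorial]
        nlinarith [Nat.mul_le_mul (Nat.mul_le_mul (Nat.mul_le_mul (show 6 ≤ j + 1 + 1 + 1 + 1 + 1 + 1 by omega) (show 5 ≤ j + 1 + 1 + 1 + 1 + 1 by omega))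
          (Nat.mul_le_mul (show 4 ≤ j + 1 + 1 + 1 + 1 by omega) (show 3 ≤ j + 1 + 1 + 1 by omega))) (Nat.mul_le_mul (show 2 ≤ j + 1 + 1 by omega) (show 1 ≤ j + 1 by omega))]
      · -- n - 3 plays the role of n
        have hlt := ih (n - 3) (by omega) (by omega) (by omega)
        obtain ⟨j, rfl⟩ : ∃ j, n = j + 6 := ⟨n - 6, by omega⟩
        have e1 : j + 6 - 3 - 3 = j := by omega
        have e2 : j + 6 - 3 = j + 1 + 1 + 1 := by omega
        have e3 : j + 6 - 3 - 3 * k = j + 6 - 3 * (k + 1) := by omega
        rw [e1, e3] at hlt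
        rw [e2, Nat.factorial_succ (j + 1 + 1), Nat.factorial_succ (j + 1), Nat.factorial_succ j, Nat.factorial_succ k, pow_succ]
        have hj : 3 * (k + 1) ≤ (j + 1 + 1 + 1) * ((j + 1 + 1) * (j + 1)) := by
          refine le_trans ?_ (Nat.mul_le_mul_left _ (Nat.mul_le_mul (show 2 ≤ j + 1 + 1 by omega) (show 1 ≤ j + 1 by omega)))
          omega
        calc 2 * ((j + 6 - 3 * (k + 1))! * (3 ^ k * 3) * ((k + 1) * k !))
            = (3 * (k + 1)) * (2 * ((j + 6 - 3 * (k + 1))! * 3 ^ k * k !)) := by ring
          _ < (3 * (k + 1)) * (3 * j !) := Nat.mul_lt_mul_of_pos_left hlt (by omega)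
          _ ≤ ((j + 1 + 1 + 1) * ((j + 1 + 1) * (j + 1))) * (3 * j !) := Nat.mul_le_mul_right _ hj
          _ = _ := by ring

theorem image_threeCycle {n : ℕ} (h6 : n ≠ 6) (β : MulAut ↥(alternatingGroup (Fin n))) (x : ↥(alternatingGroup (Fin n)))
    (hx : (x : Perm (Fin n)).IsThreeCycle) : ((β x : ↥(alternatingGroup (Fin n))) : Perm (Fin n)).IsThreeCycle := by
  classical
  set y : Perm (Fin n) := ((β x : ↥(alternatingGroup (Fin n))) : Perm (Fin n)) with hy
  have hord : orderOf y = 3 := by
    rw [hy, Subgroup.orderOf_coe, MulEquiv.orderOf_eq, ← Subgroup.orderOf_coe, hx.orderOf]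
  obtain ⟨k, hk⟩ := cycleType_prime_order (hord ▸ Nat.prime_three : (orderOf y).Prime)
  rw [hord] at hk
  rcases Nat.eq_zero_or_pos k with rfl | hk0
  · simpa [IsThreeCycle] using hk
  exfalso
  have hsum : 3 * (k + 1) ≤ n := by
    have h := y.support.card_le_univ
    rw [← sum_cycleType, hk, Multiset.sum_replicate, Fintype.card_fin, smul_eq_mul] at h
    omega
  have hC : ∀ z : ↥(alternatingGroup (Fin n)),
      Nat.card (Subgroup.centralizer ({z} : Set ↥(alternatingGroup (Fin n)))) ≤ Nat.card (Subgroup.centralizer ({(z : Perm (Fin n))} : Set (Perm (Fin n)))) ∧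
      Nat.card (Subgroup.centralizer ({(z : Perm (Fin n))} : Set (Perm (Fin n)))) ≤ 2 * Nat.card (Subgroup.centralizer ({z} : Set ↥(alternatingGroup (Fin n)))) := by
    intro z
    let C := Subgroup.centralizer ({(z : Perm (Fin n))} : Set (Perm (Fin n)))
    let e : Subgroup.centralizer ({z} : Set ↥(alternatingGroup (Fin n))) → C := fun w =>
      ⟨((w : ↥(alternatingGroup (Fin n))) : Perm (Fin n)), Subgroup.mem_centralizer_singleton_iff.2
        (congrArg Subtype.val (Subgroup.mem_centralizer_singleton_iff.1 w.2))⟩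
    have he : Function.Injective e := fun w w' hw => Subtype.ext (Subtype.ext (congrArg Subtype.val hw : _))
    refine ⟨Nat.card_le_card_of_injective e he, ?_⟩
    let sg : C →* ℤˣ := Perm.sign.comp C.subtype
    have h1 := sg.ker.index_mul_card
    rw [Subgroup.index_ker] at h1
    have h2 : Nat.card sg.range ≤ 2 := by
      refine (Subgroup.card_le_card_group _).trans (le_of_eq ?_)
      rw [Nat.card_eq_fintype_card, Fintype.card_units_int]
    have h3 : Nat.card sg.ker ≤ Nat.card (Subgroup.centralizer ({z} : Set ↥(alternatingGroup (Fin n)))) := by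
      refine Nat.card_le_card_of_injective (fun w => ⟨⟨((w : C) : Perm (Fin n)), w.2⟩, ?_⟩) (fun w w' hw => ?_)
      · rw [Subgroup.mem_centralizer_singleton_iff]
        exact Subtype.ext (Subgroup.mem_centralizer_singleton_iff.1 (w : C).2)
      · exact Subtype.ext (Subtype.ext (congrArg (fun t => ((t : ↥(alternatingGroup (Fin n))) : Perm (Fin n))) (congrArg Subtype.val hw) : _))
    calc Nat.card C = Nat.card sg.range * Nat.card sg.ker := h1.symm
      _ ≤ _ := Nat.mul_le_mul h2 h3
  have hb : Nat.card (Subgroup.centralizer ({x} : Set ↥(alternatingGroup (Fin n)))) =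
      Nat.card (Subgroup.centralizer ({β x} : Set ↥(alternatingGroup (Fin n)))) := by
    refine Nat.card_congr (β.toEquiv.subtypeEquiv fun w => ?_)
    rw [Subgroup.mem_centralizer_singleton_iff, Subgroup.mem_centralizer_singleton_iff]
    show _ ↔ β w * β x = β x * β w
    rw [← map_mul, ← map_mul, β.injective.eq_iff]
  have c1 : Nat.card (Subgroup.centralizer ({(x : Perm (Fin n))} : Set (Perm (Fin n)))) = (n - 3)! * 3 := by
    rw [nat_card_centralizer, hx.cycleType]
    simp
  have c2 : Nat.card (Subgroup.centralizer ({y} : Set (Perm (Fin n)))) = (n - 3 * (k + 1))! * 3 ^ (k + 1) * (k + 1)! := by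
    rw [nat_card_centralizer, hk, Multiset.sum_replicate, Multiset.prod_replicate, Fintype.card_fin, smul_eq_mul,
      mul_comm (k + 1) 3, show (Multiset.replicate (k + 1) 3).toFinset = {3} from Finset.ext fun t => by
        rw [Multiset.mem_toFinset, Multiset.mem_replicate, Finset.mem_singleton]
        exact ⟨fun h => h.2, fun h => ⟨Nat.succ_ne_zero k, h⟩⟩,
      Finset.prod_singleton, Multiset.count_replicate_self]
  have := key_ineq (k + 1) n (by omega) hsum h6
  have h1 := (hC x).2
  have h2 := (hC (β x)).1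
  rw [c1] at h1
  rw [← hy, c2] at h2
  omega

theorem closure_top {n : ℕ} (a b : Fin n) (hab : a ≠ b) :
    ∀ g ∈ alternatingGroup (Fin n), g ∈ Subgroup.closure {g : Perm (Fin n) | ∃ i, a ≠ i ∧ b ≠ i ∧ g = cyc a b i} := by
  classical
  set C := Subgroup.closure {g : Perm (Fin n) | ∃ i, a ≠ i ∧ b ≠ i ∧ g = cyc a b i}
  have hs : ∀ r ∈ C, swap a b * r * swap a b ∈ C := by
    intro r hr
    induction hr using Subgroup.closure_induction with
    | mem g hg =>
      obtain ⟨i, hai, hbi, rfl⟩ := hg
      have h2 : cyc a b i ∈ C := Subgroup.subset_closure ⟨i, hai, hbi, rfl⟩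
      have e : swap a b * cyc a b i * swap a b = (cyc a b i)⁻¹ := by
        rw [cyc, ← mul_assoc, swap_mul_self, one_mul, mul_inv_rev, swap_inv, swap_inv]
      rw [e]; exact C.inv_mem h2
    | one => rw [mul_one, swap_mul_self]; exact one_mem _
    | mul r r' _ _ h h' =>
      have := mul_mem h h'
      convert this using 1
      simp only [mul_assoc]
      rw [← mul_assoc (swap a b) (swap a b), swap_mul_self, one_mul]
    | inv r _ h =>
      have := inv_mem h
      rw [mul_inv_rev, mul_inv_rev, swap_inv, ← mul_assoc] at this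
      exact this
  have hle : C ≤ alternatingGroup (Fin n) := (Subgroup.closure_le _).2 (by
    rintro _ ⟨i, hai, hbi, rfl⟩
    exact (isThreeCycle_cyc hab hai hbi).mem_alternatingGroup)
  let M : Subgroup (Perm (Fin n)) :=
    { carrier := {σ | σ ∈ C ∨ swap a b * σ ∈ C}
      one_mem' := Or.inl (one_mem _)
      mul_mem' := fun {σ τ} hσ hτ => by
        rcases hσ with hσ | hσ <;> rcases hτ with hτ | hτ
        · exact Or.inl (mul_mem hσ hτ)
        · refine Or.inr ?_
          have := mul_mem (hs σ hσ) hτ
          rwa [mul_assoc, ← mul_assoc (swap a b) (swap a b), swap_mul_self, one_mul, mul_assoc] at this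
        · refine Or.inr ?_
          rw [← mul_assoc]
          exact mul_mem hσ hτ
        · refine Or.inl ?_
          have := mul_mem (hs _ hσ) hτ
          rwa [← mul_assoc (swap a b) (swap a b), swap_mul_self, one_mul, mul_assoc, ← mul_assoc (swap a b) (swap a b),
            swap_mul_self, one_mul] at this
      inv_mem' := fun {σ} hσ => by
        rcases hσ with hσ | hσ
        · exact Or.inl (inv_mem hσ)
        · refine Or.inr ?_
          have := hs _ (inv_mem hσ)
          rwa [mul_inv_rev, swap_inv, mul_assoc, mul_assoc, swap_mul_self, mul_one] at this }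
  have hab' : swap a b ∈ M := Or.inr (by rw [swap_mul_self]; exact one_mem _)
  have hbi : ∀ i, swap b i ∈ M := by
    intro i
    rcases eq_or_ne a i with rfl | hai
    · rw [swap_comm]; exact hab'
    rcases eq_or_ne b i with rfl | hbi
    · rw [swap_self]; exact M.one_mem
    exact Or.inr (Subgroup.subset_closure ⟨i, hai, hbi, rfl⟩)
  have htop : ∀ σ, σ ∈ M := by
    intro σ
    induction σ using swap_induction_on with
    | one => exact M.one_mem
    | swap_mul f i j hij hf =>
      refine M.mul_mem ?_ hf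
      rcases eq_or_ne b i with rfl | hbi'
      · exact hbi j
      rcases eq_or_ne b j with rfl | hbj'
      · rw [swap_comm]; exact hbi i
      rw [← swap_mul_swap_mul_swap (x := j) (y := b) (z := i) hbj'.symm hij.symm, swap_comm j b]
      exact M.mul_mem (M.mul_mem (hbi i) (hbi j)) (hbi i)
  intro g hg
  rcases htop g with h | h
  · exact h
  · have h1 := hle h
    rw [mem_alternatingGroup, map_mul, sign_swap hab, mem_alternatingGroup.1 hg] at h1
    exact absurd h1 (by decide)

end Cfsg.Agent.S2119

namespace Cfsg.Agent.S2119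

open CfsgLib.AutAlt

/-- Automorphisms of the alternating groups: for n ≥ 4 with n ≠ 6, every automorphism of the alternating group of degree n is conjugation by a unique permutation, i.e. conjugation induces an isomorphism from the symmetric group of degree n onto the automorphism group of the alternating group (so the outer automorphism group has order 2). -/
theorem result (n : ℕ) (hn : 4 ≤ n) (h6 : n ≠ 6) : Function.Bijective (MulAut.conjNormal : Equiv.Perm (Fin n) →* MulAut ↥(alternatingGroup (Fin n))) := by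
  classical
  let a : Fin n := ⟨0, by omega⟩
  let b : Fin n := ⟨1, by omega⟩
  have hab : a ≠ b := fun e => by simpa [a, b] using congrArg Fin.val e
  constructor
  · rw [injective_iff_map_eq_one]
    intro g hg
    refine Equiv.ext fun x => ?_
    by_contra hx
    change ¬ g x = x at hx
    obtain ⟨c, hc⟩ : ∃ c, c ∉ ({x, g x, g⁻¹ x} : Finset (Fin n)) := by
      by_contra hh
      push Not at hh
      have h2 := (Finset.card_le_card (s := Finset.univ) fun c _ => hh c).trans Finset.card_le_three
      simp at h2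
      omega
    simp only [Finset.mem_insert, Finset.mem_singleton, not_or] at hc
    obtain ⟨d, hd⟩ : ∃ d, d ∉ ({x, g x, c} : Finset (Fin n)) := by
      by_contra hh
      push Not at hh
      have h2 := (Finset.card_le_card (s := Finset.univ) fun c _ => hh c).trans Finset.card_le_three
      simp at h2
      omega
    simp only [Finset.mem_insert, Finset.mem_singleton, not_or] at hd
    have hcy := isThreeCycle_cyc (Ne.symm hc.1) (Ne.symm hd.1) (Ne.symm hd.2.2)
    have h1 := congrArg (fun e : MulAut ↥(alternatingGroup (Fin n)) =>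
      ((e ⟨cyc x c d, hcy.mem_alternatingGroup⟩ : ↥(alternatingGroup (Fin n))) : Equiv.Perm (Fin n))) hg
    simp only [MulAut.conjNormal_apply, MulAut.one_apply] at h1
    have h2 : g (cyc x c d x) = cyc x c d (g x) := by
      have := Equiv.ext_iff.1 h1 (g x)
      simpa using this
    rw [(cyc_apply (Ne.symm hc.1) (Ne.symm hd.1) (Ne.symm hd.2.2)).1] at h2
    have hfix : cyc x c d (g x) = g x := by
      obtain ⟨hA, hB⟩ := cyc_apply (Ne.symm hc.1) (Ne.symm hd.1) (Ne.symm hd.2.2)
      rw [cyc, Equiv.Perm.mul_apply, Equiv.swap_apply_of_ne_of_ne (Ne.symm hc.2.1) (Ne.symm hd.2.1),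
        Equiv.swap_apply_of_ne_of_ne hx (Ne.symm hc.2.1)]
    rw [hfix] at h2
    exact hc.1 (g.injective h2)
  · intro β
    let I := {i : Fin n // a ≠ i ∧ b ≠ i}
    let gen : I → ↥(alternatingGroup (Fin n)) := fun i =>
      ⟨cyc a b i, (isThreeCycle_cyc hab i.2.1 i.2.2).mem_alternatingGroup⟩
    let x : I → Equiv.Perm (Fin n) := fun i => ((β (gen i) : ↥(alternatingGroup (Fin n))) : Equiv.Perm (Fin n))
    have hx : ∀ i, (x i).IsThreeCycle := fun i =>
      image_threeCycle h6 β (gen i) (isThreeCycle_cyc hab i.2.1 i.2.2)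
    have hgen : ∀ i j : I, (gen i : Equiv.Perm (Fin n)) = gen j → i = j := fun i j e => by
      have h1 := Equiv.ext_iff.1 e b
      change cyc a b i b = cyc a b j b at h1
      rw [(cyc_apply hab i.2.1 i.2.2).2, (cyc_apply hab j.2.1 j.2.2).2] at h1
      exact Subtype.ext h1
    have hinj : Function.Injective x := fun i j e =>
      hgen i j (congrArg Subtype.val (β.injective (Subtype.ext e)))
    have h2 : ∀ i j, i ≠ j → (x i * x j) * (x i * x j) = 1 := by
      intro i j hij
      have hne : (i : Fin n) ≠ j := fun e => hij (Subtype.ext e)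
      have h4 : (gen i * gen j) * (gen i * gen j) = 1 := by
        apply Subtype.ext
        show cyc a b i * cyc a b j * (cyc a b i * cyc a b j) = 1
        refine Equiv.ext fun z => ?_
        obtain ⟨hai, hbi⟩ := i.2
        obtain ⟨haj, hbj⟩ := j.2
        obtain ⟨hA, hB⟩ := cyc_apply hab hai hbi
        obtain ⟨hA', hB'⟩ := cyc_apply hab haj hbj
        have hCi : cyc a b (i : Fin n) i = a := by
          rw [cyc, Equiv.Perm.mul_apply, Equiv.swap_apply_right, Equiv.swap_apply_right]
        have hCj : cyc a b (j : Fin n) j = a := by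
          rw [cyc, Equiv.Perm.mul_apply, Equiv.swap_apply_right, Equiv.swap_apply_right]
        have hO : ∀ (k : Fin n) w, w ≠ a → w ≠ b → w ≠ k → cyc a b k w = w := fun k w w1 w2 w3 => by
          rw [cyc, Equiv.Perm.mul_apply, Equiv.swap_apply_of_ne_of_ne w2 w3, Equiv.swap_apply_of_ne_of_ne w1 w2]
        simp only [Equiv.Perm.mul_apply, Equiv.Perm.one_apply]
        have hji : cyc a b (j : Fin n) i = i := hO _ _ hai.symm hbi.symm hne
        have hij' : cyc a b (i : Fin n) j = j := hO _ _ haj.symm hbj.symm hne.symm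
        rcases eq_or_ne z a with rfl | z1
        · rw [hA', hB, hji, hCi]
        rcases eq_or_ne z b with rfl | z2
        · rw [hB', hij', hCj, hA]
        rcases eq_or_ne z (i : Fin n) with rfl | z3
        · rw [hji, hCi, hA', hB]
        rcases eq_or_ne z (j : Fin n) with rfl | z4
        · rw [hCj, hA, hB', hij']
        rw [hO _ _ z1 z2 z4, hO _ _ z1 z2 z3, hO _ _ z1 z2 z4, hO _ _ z1 z2 z3]
      have := congrArg (fun g => ((β g : ↥(alternatingGroup (Fin n))) : Equiv.Perm (Fin n))) h4
      simpa [x] using this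
    have hne : ∀ i j, i ≠ j → x i * x j ≠ 1 := by
      intro i j hij h
      have h4 : gen i * gen j = 1 := β.injective (by rw [map_mul, map_one]; exact Subtype.ext h)
      have h5 := Equiv.ext_iff.1 (congrArg Subtype.val h4) a
      change cyc a b i (cyc a b j a) = a at h5
      rw [(cyc_apply hab j.2.1 j.2.2).1, (cyc_apply hab i.2.1 i.2.2).2] at h5
      exact i.2.1 h5.symm
    let i₀ : I := ⟨⟨2, by omega⟩, fun e => by simpa [a] using congrArg Fin.val e, fun e => by simpa [b] using congrArg Fin.val e⟩
    let i₁ : I := ⟨⟨3, by omega⟩, fun e => by simpa [a] using congrArg Fin.val e, fun e => by simpa [b] using congrArg Fin.val e⟩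
    obtain ⟨u, v, huv, harc⟩ := common_arc x hx hinj h2 hne i₀ i₁ (fun e => by simpa [i₀, i₁] using congrArg (fun i : I => (i : Fin n).val) e)
    have hu : ∀ i, x i u ≠ u := fun i => by rw [harc]; exact huv.symm
    have hw : ∀ i, x i v ≠ v ∧ x i v ≠ u := fun i => by
      obtain ⟨e1, e2, -, -⟩ := facts (hx i) (hu i)
      rw [harc] at e1 e2
      exact ⟨e1, e2⟩
    let f : Fin n → Fin n := fun z => if h : a ≠ z ∧ b ≠ z then x ⟨z, h⟩ v else if z = a then u else v
    have hfa : f a = u := by simp [f]
    have hfb : f b = v := by simp [f, hab.symm]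
    have hfi : ∀ i : I, f i = x i v := fun i => dif_pos i.2
    have hf : Function.Injective f := by
      intro z z' e
      by_cases h : a ≠ z ∧ b ≠ z <;> by_cases h' : a ≠ z' ∧ b ≠ z'
      · have e' : x ⟨z, h⟩ v = x ⟨z', h'⟩ v := by rw [← hfi ⟨z, h⟩, ← hfi ⟨z', h'⟩]; exact e
        exact congrArg Subtype.val (hinj (eq_of_eq_on_arc (hx ⟨z', h'⟩) (hx ⟨z, h⟩) (hu _) (by rw [harc, harc]) (by rw [harc]; exact e')))
      · rw [show f z = x ⟨z, h⟩ v from hfi ⟨z, h⟩] at e
        rcases Classical.em (a = z') with rfl | h1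
        · rw [hfa] at e; exact absurd e (hw _).2
        · obtain rfl : b = z' := by_contra fun h2 => h' ⟨h1, h2⟩
          rw [hfb] at e; exact absurd e (hw _).1
      · rw [show f z' = x ⟨z', h'⟩ v from hfi ⟨z', h'⟩] at e
        rcases Classical.em (a = z) with rfl | h1
        · rw [hfa] at e; exact absurd e.symm (hw _).2
        · obtain rfl : b = z := by_contra fun h2 => h ⟨h1, h2⟩
          rw [hfb] at e; exact absurd e.symm (hw _).1
      · rcases Classical.em (a = z) with rfl | h1 <;> rcases Classical.em (a = z') with e' | h2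
        · exact e'
        · obtain rfl : b = z' := by_contra fun h3 => h' ⟨h2, h3⟩
          rw [hfa, hfb] at e; exact absurd e huv
        · subst e'
          obtain rfl : b = z := by_contra fun h3 => h ⟨h1, h3⟩
          rw [hfa, hfb] at e; exact absurd e.symm huv
        · obtain rfl : b = z := by_contra fun h3 => h ⟨h1, h3⟩
          exact (by_contra fun h3 => h' ⟨h2, h3⟩ : b = z')
    let σ : Equiv.Perm (Fin n) := Equiv.ofBijective f ⟨hf, Finite.injective_iff_surjective.1 hf⟩
    have hσ : ∀ i : I, σ * cyc a b i * σ⁻¹ = x i := by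
      intro i
      have hσ' : ∀ z, σ z = f z := fun z => rfl
      obtain ⟨hA, hB⟩ := cyc_apply hab i.2.1 i.2.2
      have h3 : (σ * cyc a b i * σ⁻¹).IsThreeCycle := by
        unfold Equiv.Perm.IsThreeCycle
        rw [Equiv.Perm.cycleType_conj]
        exact isThreeCycle_cyc hab i.2.1 i.2.2
      refine eq_of_eq_on_arc (hx i) h3 (hu i) ?_ ?_
      · rw [harc, ← hfa, ← hσ', Equiv.Perm.mul_apply, Equiv.Perm.mul_apply, Equiv.Perm.inv_def, Equiv.symm_apply_apply, hA, hσ', hfb]
      · rw [harc, ← hfb, ← hσ', Equiv.Perm.mul_apply, Equiv.Perm.mul_apply, Equiv.Perm.inv_def, Equiv.symm_apply_apply, hB, hσ', hσ', hfb, hfi]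
    refine ⟨σ, MulEquiv.ext fun g => ?_⟩
    have hg := closure_top a b hab (g : Equiv.Perm (Fin n)) g.2
    let E : Subgroup ↥(alternatingGroup (Fin n)) :=
      (MulAut.conjNormal σ : MulAut ↥(alternatingGroup (Fin n))).toMonoidHom.eqLocus β.toMonoidHom
    have hE : (g : Equiv.Perm (Fin n)) ∈ E.map (alternatingGroup (Fin n)).subtype := by
      refine (Subgroup.closure_le _).2 ?_ hg
      rintro _ ⟨i, hai, hbi, rfl⟩
      refine ⟨gen ⟨i, hai, hbi⟩, ?_, rfl⟩
      apply Subtype.ext
      exact hσ ⟨i, hai, hbi⟩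
    obtain ⟨g', hg', e⟩ := hE
    obtain rfl : g' = g := Subtype.ext e
    exact hg'

end Cfsg.Agent.S2119
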