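import Cfsg.Statements.S5164
import Mathlib
import Cfsg.Agent.S4623
-- import your own Cfsg.Agent.* helpers here

set_option autoImplicit false
open Cfsg

namespace Cfsg.Agent.S5164

open Cfsg.Agent.S4623

theorem sign_eq_one_of_odd {p : ℕ} [Fact p.Prime] (hp : p ≠ 2) {α : Type*} [Fintype α] [DecidableEq α]
    (x : Equiv.Perm α) (hx : ∃ k : ℕ, x ^ p ^ k = 1) : Equiv.Perm.sign x = 1 := by
  obtain ⟨k, hk⟩ := hx
  have h := congrArg Equiv.Perm.sign hk
  rw [map_pow, map_one, Int.units_pow_eq_pow_mod_two,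
    Nat.odd_iff.1 ((Nat.Prime.odd_of_ne_two Fact.out hp).pow), pow_one] at h
  exact h

/-- For n ≥ 6 and a prime p, a nontrivial Sylow p-subgroup of the alternating group of degree n is abelian if and only if n < p². -/
theorem result (n p : ℕ) (hn : 6 ≤ n) [Fact p.Prime] (S : Sylow p (alternatingGroup (Fin n))) (hS : (S : Subgroup (alternatingGroup (Fin n))) ≠ ⊥) : IsMulCommutative S ↔ n < p ^ 2 := by
  classical
  have hp : p.Prime := Fact.out
  let m := n / p
  let r := n % p
  let e : (Fin m × ZMod p) ⊕ Fin r ≃ Fin n := Fintype.equivFinOfCardEq (by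
    rw [Fintype.card_sum, Fintype.card_prod, ZMod.card, Fintype.card_fin, Fintype.card_fin]
    exact Nat.div_add_mod' n p)
  let f : Equiv.Perm ((Fin m × ZMod p) ⊕ Fin r) →* Equiv.Perm (Fin n) := e.permCongrHom.toMonoidHom
  obtain ⟨S', hg, hS', hc⟩ := exists_gen p m
  have hle_sylow : ∀ K : Subgroup (Equiv.Perm (Fin n)), IsPGroup p K → IsPGroup p (K.subgroupOf (alternatingGroup (Fin n))) :=
    fun K hK => hK.comap_of_injective _ (alternatingGroup (Fin n)).subtype_injective
  constructor
  · intro hcomm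
    by_contra hn2
    rw [not_lt] at hn2
    have hm : p ≤ m := (Nat.le_div_iff_mul_le hp.pos).2 (by rwa [← pow_two])
    have hm3 : 3 ≤ m := by
      rcases hp.eq_two_or_odd' with h | h
      · subst h
        exact (Nat.le_div_iff_mul_le two_pos).2 (by omega)
      · have := hp.two_le
        obtain ⟨k, hk⟩ := h
        omega
    let sg : Multiplicative (Fin m → ZMod p) →* ℤˣ := Equiv.Perm.sign.comp (base p m r)
    obtain ⟨-, h2, -⟩ := block_group p m r sg.ker S' (fun σ _ c hc => by
      rw [MonoidHom.mem_ker] at hc ⊢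
      show Equiv.Perm.sign (base p m r _) = 1
      rw [← top_conj_base, map_mul, map_mul, map_inv, mul_inv_cancel_comm]
      exact hc) hg hS'
    have hS'1 : S' ≠ ⊥ := fun h => by
      rw [h, Subgroup.card_bot] at hc
      have h1 : (m.factorial).factorization p ≠ 0 :=
        (hp.factorization_pos_of_dvd m.factorial_ne_zero ((Nat.Prime.dvd_factorial hp).2 hm)).ne'
      exact absurd hc (Nat.one_lt_pow h1 hp.one_lt).ne
    obtain ⟨σ, hσ, hσ1⟩ : ∃ σ ∈ S', σ ≠ 1 := by
      by_contra hh
      push Not at hh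
      exact hS'1 (le_bot_iff.1 fun x hx => Subgroup.mem_bot.2 (hh x hx))
    obtain ⟨i, hi⟩ : ∃ i, σ i ≠ i := by
      by_contra hh
      push Not at hh
      exact hσ1 (Equiv.ext hh)
    obtain ⟨k, hk⟩ : ∃ k, k ∉ ({i, σ i} : Finset (Fin m)) := by
      by_contra hh
      push Not at hh
      have := Finset.card_le_card (s := (Finset.univ : Finset (Fin m))) (t := {i, σ i}) (fun x _ => hh x)
      rw [Finset.card_univ, Fintype.card_fin] at this
      have := this.trans Finset.card_le_two
      omega
    have hki : k ≠ i := fun h => hk (by rw [h]; simp)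
    have hks : k ≠ σ i := fun h => hk (by rw [h]; simp)
    have htop : ∀ τ ∈ S', Equiv.Perm.sign (top p m r τ) = 1 := by
      intro τ hτ
      show Equiv.Perm.sign (Equiv.sumCongr (τ.prodCongr (Equiv.refl (ZMod p))) (Equiv.refl (Fin r))) = 1
      rw [Equiv.Perm.sign_sumCongr, Equiv.Perm.sign_refl, mul_one,
        show τ.prodCongr (Equiv.refl (ZMod p)) = Equiv.prodCongrLeft (fun _ => τ) from Equiv.ext fun x => rfl,
        Equiv.Perm.sign_prodCongrLeft, Finset.prod_const, Finset.card_univ, ZMod.card]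
      by_cases h2p : p = 2
      · rw [h2p, sq, Int.units_mul_self]
      · rw [sign_eq_one_of_odd (p := p) h2p τ (by
          obtain ⟨a, ha⟩ := hS' ⟨τ, hτ⟩
          exact ⟨a, congrArg Subtype.val ha⟩), one_pow]
    let c : Multiplicative (Fin m → ZMod p) := Multiplicative.ofAdd (Pi.single i 1 + Pi.single k 1)
    have hcker : c ∈ sg.ker := by
      rw [MonoidHom.mem_ker]
      show Equiv.Perm.sign (base p m r c) = 1
      by_cases h2p : p = 2
      · subst h2p
        let d : Multiplicative (Fin m → ZMod 2) := Multiplicative.ofAdd (Pi.single i 1)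
        have hd : c = d * Multiplicative.ofAdd ((Multiplicative.toAdd d) ∘ (Equiv.swap i k).symm) := by
          apply Multiplicative.toAdd.injective
          funext j
          show (Pi.single i (1 : ZMod 2) : Fin m → ZMod 2) j + (Pi.single k (1 : ZMod 2) : Fin m → ZMod 2) j =
            (Pi.single i (1 : ZMod 2) : Fin m → ZMod 2) j + (Pi.single i (1 : ZMod 2) : Fin m → ZMod 2) ((Equiv.swap i k).symm j)
          congr 1
          rw [Equiv.symm_swap, Pi.single_apply, Pi.single_apply]
          simp only [Equiv.swap_apply_eq_iff, Equiv.swap_apply_left]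
        rw [hd, map_mul, ← top_conj_base]
        simp only [map_mul, map_inv]
        rw [mul_inv_cancel_comm, Int.units_mul_self]
      · exact sign_eq_one_of_odd h2p _ ⟨1, by rw [pow_one, ← map_pow, pow_base, map_one]⟩
    have hKle : (sg.ker.map (base p m r) ⊔ S'.map (top p m r)).map f ≤ alternatingGroup (Fin n) := by
      rw [Subgroup.map_sup]
      refine sup_le ?_ ?_
      · rintro _ ⟨_, ⟨c, hc, rfl⟩, rfl⟩
        show Equiv.Perm.sign (e.permCongr (base p m r c)) = 1
        rw [Equiv.Perm.sign_permCongr]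
        exact hc
      · rintro _ ⟨_, ⟨τ, hτ, rfl⟩, rfl⟩
        show Equiv.Perm.sign (e.permCongr (top p m r τ)) = 1
        rw [Equiv.Perm.sign_permCongr]
        exact htop τ hτ
    obtain ⟨Q, hQ⟩ := (hle_sylow _ (h2.map f)).exists_le_sylow
    obtain ⟨g, hgQ⟩ := MulAction.exists_smul_eq (alternatingGroup (Fin n)) S Q
    let A : alternatingGroup (Fin n) := ⟨f (base p m r c), hKle (Subgroup.mem_map_of_mem f
      (Subgroup.mem_sup_left (Subgroup.mem_map_of_mem _ hcker)))⟩
    let B : alternatingGroup (Fin n) := ⟨f (top p m r σ), hKle (Subgroup.mem_map_of_mem f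
      (Subgroup.mem_sup_right (Subgroup.mem_map_of_mem _ hσ)))⟩
    have hA : A ∈ Q := hQ (Subgroup.mem_map_of_mem f (Subgroup.mem_sup_left (Subgroup.mem_map_of_mem _ hcker)))
    have hB : B ∈ Q := hQ (Subgroup.mem_map_of_mem f (Subgroup.mem_sup_right (Subgroup.mem_map_of_mem _ hσ)))
    rw [← hgQ] at hA hB
    obtain ⟨a, ha, ha'⟩ := hA
    obtain ⟨b, hb, hb'⟩ := hB
    have hab : a * b = b * a := congrArg Subtype.val (hcomm.is_comm.comm (⟨a, ha⟩ : (S : Subgroup _)) ⟨b, hb⟩)
    have hAB : A * B = B * A := by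
      rw [← ha', ← hb']
      show (MulAut.conj g) a * (MulAut.conj g) b = (MulAut.conj g) b * (MulAut.conj g) a
      rw [← map_mul, ← map_mul, hab]
    have h3 : top p m r σ * base p m r c * (top p m r σ)⁻¹ = base p m r c := by
      rw [mul_inv_eq_iff_eq_mul]
      exact (e.permCongrHom.injective (by rw [map_mul, map_mul]; exact congrArg Subtype.val hAB)).symm
    rw [top_conj_base] at h3
    have h4 := Equiv.ext_iff.1 h3 (Sum.inl (σ i, 0))
    rw [base_apply, base_apply, Sum.inl.injEq, Prod.mk.injEq, zero_add, zero_add] at h4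
    have h5 := h4.2
    change (Pi.single i (1 : ZMod p) + Pi.single k 1 : Fin m → ZMod p) (σ.symm (σ i)) =
      (Pi.single i (1 : ZMod p) + Pi.single k 1 : Fin m → ZMod p) (σ i) at h5
    rw [Equiv.symm_apply_apply, Pi.add_apply, Pi.add_apply, Pi.single_eq_same, Pi.single_eq_of_ne hki.symm,
      Pi.single_eq_of_ne hi, Pi.single_eq_of_ne hks.symm, add_zero, add_zero] at h5
    exact one_ne_zero h5
  · intro hn2
    have hm : m < p := Nat.div_lt_of_lt_mul (by rwa [← pow_two])
    have hS'0 : S' = ⊥ := by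
      rw [Subgroup.eq_bot_iff_card, hc, Nat.factorization_eq_zero_of_not_dvd
        (fun h => absurd ((Nat.Prime.dvd_factorial hp).1 h) (not_le.2 hm)), pow_zero]
    let K : Subgroup (Equiv.Perm (Fin n)) := (⊤ : Subgroup (Multiplicative (Fin m → ZMod p))).map (f.comp (base p m r))
    have hKp : IsPGroup p K := by
      refine IsPGroup.map ?_ _
      exact fun c => ⟨1, Subtype.ext (by rw [pow_one, SubmonoidClass.coe_pow, pow_base]; rfl)⟩
    have hinj : Function.Injective (f.comp (base p m r)) := fun a b h => by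
      have h' := e.permCongrHom.injective h
      apply Multiplicative.toAdd.injective
      funext i
      have h2 := Equiv.ext_iff.1 h' (Sum.inl (i, 0))
      rw [base_apply, base_apply, Sum.inl.injEq, Prod.mk.injEq, zero_add, zero_add] at h2
      exact h2.2
    have hKc : Nat.card K = p ^ (Nat.card (Equiv.Perm (Fin n))).factorization p := by
      rw [Subgroup.card_map_of_injective hinj, Subgroup.card_top, Nat.card_congr Multiplicative.toAdd,
        Nat.card_fun, Nat.card_fin, Nat.card_zmod, Nat.card_perm, Nat.card_fin]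
      congr 1
      rw [Nat.factorization_def _ hp, ← Nat.div_add_mod n p,
        padicValNat_factorial_mul_add _ (Nat.mod_lt n hp.pos), padicValNat_factorial_mul,
        padicValNat.eq_zero_of_not_dvd (fun h => absurd ((Nat.Prime.dvd_factorial hp).1 h) (not_le.2 hm)), zero_add]
    have hS2 : IsPGroup p ((S : Subgroup (alternatingGroup (Fin n))).map (alternatingGroup (Fin n)).subtype) :=
      S.isPGroup'.map _
    obtain ⟨P, hP⟩ := hS2.exists_le_sylow
    obtain ⟨g, hg⟩ := MulAction.exists_smul_eq (Equiv.Perm (Fin n)) (Sylow.ofCard K hKc) P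
    refine ⟨⟨fun a b => Subtype.ext (Subtype.ext ?_)⟩⟩
    have ha : ((a : alternatingGroup (Fin n)) : Equiv.Perm (Fin n)) ∈ P := hP ⟨a, a.2, rfl⟩
    have hb : ((b : alternatingGroup (Fin n)) : Equiv.Perm (Fin n)) ∈ P := hP ⟨b, b.2, rfl⟩
    rw [← hg] at ha hb
    obtain ⟨x, ⟨x', -, hx'⟩, hx⟩ := ha
    obtain ⟨y, ⟨y', -, hy'⟩, hy⟩ := hb
    show ((a : alternatingGroup (Fin n)) : Equiv.Perm (Fin n)) * ((b : alternatingGroup (Fin n)) : Equiv.Perm (Fin n)) =
      ((b : alternatingGroup (Fin n)) : Equiv.Perm (Fin n)) * ((a : alternatingGroup (Fin n)) : Equiv.Perm (Fin n))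
    rw [← hx, ← hy]
    show (MulAut.conj g) x * (MulAut.conj g) y = (MulAut.conj g) y * (MulAut.conj g) x
    rw [← map_mul, ← map_mul, ← hx', ← hy', ← map_mul, ← map_mul, mul_comm x' y']

end Cfsg.Agent.S5164
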