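import Cfsg.Statements.S3835
import Mathlib
import Cfsg.Agent.S5164
import Cfsg.Agent.QdRank.Qd
import Cfsg.Agent.SLn.Basic
-- import your own Cfsg.Agent.* helpers here

set_option autoImplicit false
open Cfsg

namespace Cfsg.Agent.S3835

open Matrix

variable {p : ℕ} [hp : Fact p.Prime]

/-- The affine action of an element of `qd p` on the plane. -/
def aff (M : ↥(Cfsg.qd p)) (v : ZMod p × ZMod p) : ZMod p × ZMod p :=
  ((M : SpecialLinearGroup (Fin 3) (ZMod p)) 0 0 * v.1 + (M : SpecialLinearGroup (Fin 3) (ZMod p)) 0 1 * v.2 +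
      (M : SpecialLinearGroup (Fin 3) (ZMod p)) 0 2,
    (M : SpecialLinearGroup (Fin 3) (ZMod p)) 1 0 * v.1 + (M : SpecialLinearGroup (Fin 3) (ZMod p)) 1 1 * v.2 +
      (M : SpecialLinearGroup (Fin 3) (ZMod p)) 1 2)

theorem aff_one (v : ZMod p × ZMod p) : aff (1 : ↥(Cfsg.qd p)) v = v := by
  simp [aff]

theorem aff_mul (M N : ↥(Cfsg.qd p)) (v : ZMod p × ZMod p) : aff (M * N) v = aff M (aff N v) := by
  obtain ⟨n0, n1, n2⟩ := CfsgLib.QdRank.qd_row (N : SpecialLinearGroup (Fin 3) (ZMod p)) N.2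
  simp only [aff, Subgroup.coe_mul, Matrix.SpecialLinearGroup.coe_mul, Matrix.mul_apply, Fin.sum_univ_three, n0, n1, n2,
    mul_zero, mul_one, add_zero, zero_add]
  ext <;> ring

/-- The affine action as a homomorphism. -/
def affHom : ↥(Cfsg.qd p) →* Equiv.Perm (ZMod p × ZMod p) where
  toFun M :=
    { toFun := aff M
      invFun := aff M⁻¹
      left_inv := fun v => by rw [← aff_mul, inv_mul_cancel, aff_one]
      right_inv := fun v => by rw [← aff_mul, mul_inv_cancel, aff_one] }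
  map_one' := Equiv.ext aff_one
  map_mul' M N := Equiv.ext (aff_mul M N)

theorem affHom_injective : Function.Injective (affHom (p := p)) := by
  intro M N h
  obtain ⟨a0, a1, a2⟩ := CfsgLib.QdRank.qd_row (M : SpecialLinearGroup (Fin 3) (ZMod p)) M.2
  obtain ⟨b0, b1, b2⟩ := CfsgLib.QdRank.qd_row (N : SpecialLinearGroup (Fin 3) (ZMod p)) N.2
  have h0 : aff M (0, 0) = aff N (0, 0) := Equiv.ext_iff.1 h (0, 0)
  have h1 : aff M (1, 0) = aff N (1, 0) := Equiv.ext_iff.1 h (1, 0)
  have h2 : aff M (0, 1) = aff N (0, 1) := Equiv.ext_iff.1 h (0, 1)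
  simp only [aff, mul_zero, mul_one, zero_add, add_zero, Prod.mk.injEq] at h0 h1 h2
  obtain ⟨h02, h12⟩ := h0
  rw [h02, h12] at h1 h2
  obtain ⟨h00, h10⟩ := h1
  obtain ⟨h01, h11⟩ := h2
  refine Subtype.ext (Subtype.ext ?_)
  ext i j
  fin_cases i <;> fin_cases j <;>
    simp_all [add_left_inj]

/-- The elements of the two-dimensional plane are moved evenly. -/
theorem sign_affHom (hp2 : p ≠ 2) (M : ↥(Cfsg.qd p)) : Equiv.Perm.sign (affHom M) = 1 := by
  classical
  have hpow : ∀ X : ↥(Cfsg.qd p), CfsgLib.QdRank.blockHom p X ^ p = 1 → Equiv.Perm.sign (affHom X) = 1 := by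
    intro X hX
    refine Cfsg.Agent.S5164.sign_eq_one_of_odd hp2 _ ⟨2, ?_⟩
    rw [← map_pow, pow_two, pow_mul, CfsgLib.QdRank.ker_pow _ (by rw [map_pow, hX]), map_one]
  let χ : ↥(Cfsg.qd p) →* ℤˣ := Equiv.Perm.sign.comp affHom
  have htop : χ.ker.map (CfsgLib.QdRank.blockHom p) = ⊤ := by
    refine CfsgLib.SLn.eq_top_of_transvection _ fun i j hij c => ?_
    obtain ⟨X, hX⟩ := CfsgLib.QdRank.blockHom_surjective (p := p) (Matrix.SpecialLinearGroup.transvection hij c)
    refine ⟨X, hpow X ?_, hX⟩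
    rw [hX]
    have hm : ∀ k : ℕ, (Matrix.transvection i j c : Matrix (Fin 2) (Fin 2) (ZMod p)) ^ k = Matrix.transvection i j (k • c) := by
      intro k
      induction k with
      | zero => simp
      | succ k ih => rw [pow_succ, ih, Matrix.transvection_mul_transvection_same _ _ hij, succ_nsmul]
    apply Subtype.ext
    rw [Matrix.SpecialLinearGroup.coe_pow, Matrix.SpecialLinearGroup.coe_one]
    refine (Eq.trans ?_ (hm p)).trans ?_
    · rfl
    · simp
  obtain ⟨X, hX, hXM⟩ : CfsgLib.QdRank.blockHom p M ∈ χ.ker.map (CfsgLib.QdRank.blockHom p) := htop ▸ trivial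
  have h1 : χ (X⁻¹ * M) = 1 := hpow _ (by rw [map_mul, map_inv, hXM, inv_mul_cancel, one_pow])
  rw [map_mul, map_inv, show χ X = 1 from hX, inv_one, one_mul] at h1
  exact h1

theorem exists_noncommuting : ∃ U : Subgroup ↥(Cfsg.qd p), IsPGroup p U ∧ ¬ IsMulCommutative U := by
  let mk : ZMod p × ZMod p × ZMod p → ↥(Cfsg.qd p) := fun v =>
    ⟨⟨!![1, v.1, v.2.1; 0, 1, v.2.2; 0, 0, 1], by simp [Matrix.det_fin_three]⟩, Subgroup.subset_closure ⟨rfl, rfl, rfl⟩⟩
  have hmul : ∀ a b, mk a * mk b = mk (a.1 + b.1, a.2.1 + b.2.1 + a.1 * b.2.2, a.2.2 + b.2.2) := by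
    intro a b
    refine Subtype.ext (Subtype.ext ?_)
    refine (Matrix.SpecialLinearGroup.coe_mul _ _).trans ?_
    ext i j; fin_cases i <;> fin_cases j <;> simp [mk, Matrix.mul_apply, Fin.sum_univ_three] <;> ring
  have hone : mk (0, 0, 0) = 1 := by
    refine Subtype.ext (Subtype.ext ?_)
    ext i j; fin_cases i <;> fin_cases j <;> simp [mk]
  let U : Subgroup ↥(Cfsg.qd p) :=
    { carrier := Set.range mk
      one_mem' := ⟨_, hone⟩
      mul_mem' := by rintro _ _ ⟨a, rfl⟩ ⟨b, rfl⟩; exact ⟨_, (hmul a b).symm⟩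
      inv_mem' := by
        rintro _ ⟨a, rfl⟩
        refine ⟨(-a.1, -a.2.1 + a.1 * a.2.2, -a.2.2), eq_inv_of_mul_eq_one_left ?_⟩
        rw [hmul, ← hone]
        congr 1
        ext <;> simp }
  have hinj : Function.Injective mk := fun a b h => by
    have h' := fun i j => congrFun (congrFun (congrArg (fun X : ↥(Cfsg.qd p) => ((X : SpecialLinearGroup (Fin 3) (ZMod p)) : Matrix (Fin 3) (Fin 3) (ZMod p))) h) i) j
    exact Prod.ext (by simpa [mk] using h' 0 1) (Prod.ext (by simpa [mk] using h' 0 2) (by simpa [mk] using h' 1 2))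
  refine ⟨U, IsPGroup.of_card (n := 3) ?_, fun h => ?_⟩
  · show Nat.card (Set.range mk) = p ^ 3
    rw [Nat.card_range_of_injective hinj, Nat.card_prod, Nat.card_prod, Nat.card_zmod]
    ring
  · have h2 := congrArg Subtype.val (h.is_comm.comm (⟨mk (1, 0, 0), _, rfl⟩ : U) ⟨mk (0, 0, 1), _, rfl⟩)
    change mk (1, 0, 0) * mk (0, 0, 1) = mk (0, 0, 1) * mk (1, 0, 0) at h2
    rw [hmul, hmul] at h2
    simpa using congrArg (fun x : ZMod p × ZMod p × ZMod p => x.2.1) (hinj h2)

theorem sylow_alt_comm {n : ℕ} (hp2 : p ≠ 2) (h : n < p ^ 2) (S : Sylow p (alternatingGroup (Fin n))) :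
    IsMulCommutative S := by
  by_cases hS : (S : Subgroup (alternatingGroup (Fin n))) = ⊥
  · haveI : Subsingleton S := by
      refine ⟨fun a b => Subtype.ext ?_⟩
      have h1 : ∀ x : S, (x : alternatingGroup (Fin n)) = 1 := fun x => by
        have hx : (x : alternatingGroup (Fin n)) ∈ (S : Subgroup (alternatingGroup (Fin n))) := x.2
        rwa [hS, Subgroup.mem_bot] at hx
      rw [h1 a, h1 b]
    exact ⟨⟨fun a b => Subsingleton.elim _ _⟩⟩
  by_cases hn : 6 ≤ n
  · exact (Cfsg.Agent.S5164.result n p hn S hS).2 h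
  -- here the Sylow subgroup has order at most `p`
  have hp3 : 3 ≤ p := by
    have := hp.out.two_le
    omega
  have hd : Nat.card S ∣ n.factorial := by
    have := (Subgroup.card_subgroup_dvd_card (S : Subgroup (alternatingGroup (Fin n)))).trans (Subgroup.card_subgroup_dvd_card (alternatingGroup (Fin n)))
    rwa [Nat.card_perm, Nat.card_fin] at this
  obtain ⟨k, hk⟩ := IsPGroup.iff_card.1 S.isPGroup'
  have hk1 : k ≤ 1 := by
    by_contra hk2
    have h2 : p ^ 2 ∣ n.factorial := ((pow_dvd_pow p (by omega)).trans (hk ▸ hd))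
    have h5 : n.factorial ∣ 120 := Nat.factorial_dvd_factorial (show n ≤ 5 by omega)
    have h9 := h2.trans h5
    have hp5 : p ≤ 10 := by
      have := Nat.le_of_dvd (by norm_num) h9
      nlinarith
    interval_cases p <;> norm_num at h9 <;> exact absurd hp.out (by norm_num)
  have : IsCyclic S := by
    interval_cases k
    · haveI : Subsingleton S := (Nat.card_eq_one_iff_unique.1 (by rw [hk, pow_zero])).1
      exact isCyclic_of_subsingleton
    · exact isCyclic_of_prime_card (p := p) (by rw [hk, pow_one])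
  exact IsCyclic.isMulCommutative

end Cfsg.Agent.S3835

namespace Cfsg.Agent.S3835

/-- Let p be an odd prime and n a natural number. The alternating group of degree n has a subgroup isomorphic to Qd(p) (the natural semidirect product of an elementary abelian group of order p² by SL₂(p)) if and only if n ≥ p²; and if n < p² then Qd(p) is not even involved in it. -/
theorem result {p : ℕ} [Fact p.Prime] (hp : p ≠ 2) (n : ℕ) : ((∃ H : Subgroup (alternatingGroup (Fin n)), Nonempty (↥H ≃* ↥(Cfsg.qd p))) ↔ p ^ 2 ≤ n) ∧ (n < p ^ 2 → ¬ Cfsg.Involves ↥(Cfsg.qd p) ↥(alternatingGroup (Fin n))) := by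
  classical
  have hno : n < p ^ 2 → ¬ Cfsg.Involves ↥(Cfsg.qd p) ↥(alternatingGroup (Fin n)) := by
    rintro hn ⟨K, R, hR, ⟨e⟩⟩
    obtain ⟨U, hU, hUc⟩ := exists_noncommuting (p := p)
    obtain ⟨Q, hQ⟩ := hU.exists_le_sylow
    obtain ⟨P⟩ := Sylow.nonempty (p := p) (G := K)
    let f : K →* ↥(Cfsg.qd p) := e.toMonoidHom.comp (QuotientGroup.mk' (R.subgroupOf K))
    have hf : Function.Surjective f := e.surjective.comp (QuotientGroup.mk'_surjective _)
    haveI := hR
    obtain ⟨g, hg⟩ := MulAction.exists_smul_eq ↥(Cfsg.qd p) (P.mapSurjective hf) Q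
    obtain ⟨S, hS⟩ := (P.isPGroup'.map K.subtype).exists_le_sylow
    have hc := sylow_alt_comm hp hn S
    have hPc : ∀ a ∈ (P : Subgroup K), ∀ b ∈ (P : Subgroup K), a * b = b * a := fun a ha b hb => by
      have h2 := congrArg (fun z : S => (z : alternatingGroup (Fin n)))
        (hc.is_comm.comm (⟨a, hS ⟨a, ha, rfl⟩⟩ : S) ⟨b, hS ⟨b, hb, rfl⟩⟩)
      exact Subtype.ext h2
    refine hUc ⟨⟨fun a b => Subtype.ext ?_⟩⟩
    have ha : (a : ↥(Cfsg.qd p)) ∈ Q := hQ a.2
    have hb : (b : ↥(Cfsg.qd p)) ∈ Q := hQ b.2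
    rw [← hg] at ha hb
    obtain ⟨_, ⟨x, hx, rfl⟩, hxa⟩ := ha
    obtain ⟨_, ⟨y, hy, rfl⟩, hyb⟩ := hb
    show (a : ↥(Cfsg.qd p)) * b = b * a
    rw [← hxa, ← hyb]
    show (MulAut.conj g) (f x) * (MulAut.conj g) (f y) = (MulAut.conj g) (f y) * (MulAut.conj g) (f x)
    rw [← map_mul, ← map_mul, ← map_mul, ← map_mul, hPc x hx y hy]
  refine ⟨⟨?_, fun hn => ?_⟩, hno⟩
  · rintro ⟨H, ⟨e⟩⟩
    by_contra hn
    refine hno (not_le.1 hn) ⟨H, ⊥, ?_, ⟨?_⟩⟩
    · rw [Subgroup.bot_subgroupOf]; infer_instance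
    · exact ((QuotientGroup.quotientMulEquivOfEq (Subgroup.bot_subgroupOf H)).trans QuotientGroup.quotientBot).trans e
  · have hc : Fintype.card (ZMod p × ZMod p) = Fintype.card (Fin (p ^ 2)) := by
      rw [Fintype.card_prod, ZMod.card, Fintype.card_fin, pow_two]
    let emb : (ZMod p × ZMod p) ↪ Fin n := (Fintype.equivOfCardEq hc).toEmbedding.trans (Fin.castLEEmb hn)
    let eD := Equiv.ofInjective emb emb.injective
    let f : ↥(Cfsg.qd p) →* Equiv.Perm (Fin n) := (Equiv.Perm.extendDomainHom eD).comp affHom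
    have hf : Function.Injective f := (Equiv.Perm.extendDomainHom_injective eD).comp affHom_injective
    have hev : ∀ M, f M ∈ alternatingGroup (Fin n) := fun M =>
      (Equiv.Perm.sign_extendDomain (affHom M) eD).trans (sign_affHom hp M)
    let F : ↥(Cfsg.qd p) →* alternatingGroup (Fin n) := f.codRestrict _ hev
    refine ⟨F.range, ⟨(MonoidHom.ofInjective (f := F) fun a b h => hf (congrArg Subtype.val h)).symm⟩⟩

end Cfsg.Agent.S3835
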