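import Cfsg.Statements.S4231
import Mathlib
import Cfsg.Agent.AutAlt.Conj
import Cfsg.Agent.S2119
import Cfsg.Agent.S3835
-- import your own Cfsg.Agent.* helpers here

set_option autoImplicit false
open Cfsg

namespace Cfsg.Agent.S4231

open Equiv Equiv.Perm

theorem cycleType_of_order_three (z : Perm (Fin 6)) (h : orderOf z = 3) (h3 : ¬ z.IsThreeCycle) :
    z.cycleType = Multiset.replicate 2 3 := by
  obtain ⟨k, hk⟩ := cycleType_prime_order (h ▸ Nat.prime_three : (orderOf z).Prime)
  rw [h] at hk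
  have hs := z.support.card_le_univ
  rw [← sum_cycleType, hk, Multiset.sum_replicate, Fintype.card_fin, smul_eq_mul] at hs
  have : k ≠ 0 := fun e => h3 (by rw [e] at hk; simpa [IsThreeCycle] using hk)
  rw [hk, show k + 1 = 2 by omega]

/-- A representative of the double three-cycles. -/
def g0 : Perm (Fin 6) := (swap 0 1 * swap 1 2) * (swap 3 4 * swap 4 5)

/-- An odd element commuting with `g0`. -/
def c0 : Perm (Fin 6) := swap 0 3 * swap 1 4 * swap 2 5

theorem g0_type : g0.cycleType = Multiset.replicate 2 3 := by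
  refine cycleType_of_order_three g0 (orderOf_eq_prime (by decide) (by decide)) fun h => ?_
  have h2 := h.card_support
  revert h2
  decide

theorem double_conj (z : Perm (Fin 6)) (hz : z.cycleType = Multiset.replicate 2 3) :
    ∃ a ∈ alternatingGroup (Fin 6), a * g0 * a⁻¹ = z := by
  obtain ⟨π, hπ⟩ := isConj_iff.1 (isConj_iff_cycleType_eq.2 (g0_type.trans hz.symm))
  rcases Int.units_eq_one_or (Perm.sign π) with h | h
  · exact ⟨π, h, hπ⟩
  · refine ⟨π * c0, ?_, ?_⟩
    · rw [mem_alternatingGroup, map_mul, h, show Perm.sign c0 = -1 by decide]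
      rfl
    · rw [mul_inv_rev, ← mul_assoc, mul_assoc π c0 g0, show c0 * g0 = g0 * c0 by decide, ← mul_assoc,
        mul_inv_cancel_right, hπ]

theorem g0_mem : g0 ∈ alternatingGroup (Fin 6) := by
  rw [mem_alternatingGroup]
  decide

attribute [local irreducible] g0

/-- The square of any automorphism of the alternating group of degree six is inner in the symmetric group. -/
theorem sq_conj_six (β : MulAut ↥(alternatingGroup (Fin 6))) :
    ∃ σ : Perm (Fin 6), MulAut.conjNormal σ = β * β := by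
  classical
  refine CfsgLib.AutAlt.exists_conj (by norm_num) _ fun x hx => ?_
  have hord : ∀ (β : MulAut ↥(alternatingGroup (Fin 6))) (z : ↥(alternatingGroup (Fin 6))),
      orderOf ((β z : ↥(alternatingGroup (Fin 6))) : Perm (Fin 6)) = orderOf (z : Perm (Fin 6)) := fun β z => by
    rw [Subgroup.orderOf_coe, MulEquiv.orderOf_eq, Subgroup.orderOf_coe]
  have hconj : ∀ (β : MulAut ↥(alternatingGroup (Fin 6))) (y z : ↥(alternatingGroup (Fin 6))), IsConj y z →
      ((β y : ↥(alternatingGroup (Fin 6))) : Perm (Fin 6)).cycleType =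
        ((β z : ↥(alternatingGroup (Fin 6))) : Perm (Fin 6)).cycleType := by
    intro β y z h
    obtain ⟨c, hc⟩ := isConj_iff.1 h
    rw [← hc]
    simp only [map_mul, map_inv, Subgroup.coe_mul, Subgroup.coe_inv, cycleType_conj]
  have h5 : 5 ≤ Nat.card (Fin 6) := by rw [Nat.card_fin]; norm_num
  have hall : ∀ y : ↥(alternatingGroup (Fin 6)), (y : Perm (Fin 6)).IsThreeCycle →
      ((β y : ↥(alternatingGroup (Fin 6))) : Perm (Fin 6)).cycleType =
        ((β x : ↥(alternatingGroup (Fin 6))) : Perm (Fin 6)).cycleType := fun y hy =>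
    hconj β y x (alternatingGroup.isThreeCycle_isConj h5 hy hx)
  show ((β (β x) : ↥(alternatingGroup (Fin 6))) : Perm (Fin 6)).IsThreeCycle
  by_cases h : ((β x : ↥(alternatingGroup (Fin 6))) : Perm (Fin 6)).IsThreeCycle
  · unfold IsThreeCycle at h ⊢
    rw [hall _ h, h]
  · have hdd : ∀ z : ↥(alternatingGroup (Fin 6)), (z : Perm (Fin 6)).cycleType = Multiset.replicate 2 3 →
        ((β z : ↥(alternatingGroup (Fin 6))) : Perm (Fin 6)).cycleType =
          ((β ⟨g0, g0_mem⟩ : ↥(alternatingGroup (Fin 6))) : Perm (Fin 6)).cycleType := fun z hz => by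
      obtain ⟨a, ha, hae⟩ := double_conj (z : Perm (Fin 6)) hz
      have hc : (⟨a, ha⟩ : ↥(alternatingGroup (Fin 6))) * ⟨g0, g0_mem⟩ * (⟨a, ha⟩)⁻¹ = z := Subtype.ext hae
      exact (hconj β ⟨g0, g0_mem⟩ z (isConj_iff.2 ⟨⟨a, ha⟩, hc⟩)).symm
    have hβx := cycleType_of_order_three _ ((hord β x).trans hx.orderOf) h
    obtain ⟨y, hy⟩ := β.surjective x
    have hyo : orderOf (y : Perm (Fin 6)) = 3 := by rw [← hord β y, hy, hx.orderOf]
    have hy3 : ¬ (y : Perm (Fin 6)).IsThreeCycle := fun h' => h (by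
      unfold IsThreeCycle
      rw [← hall y h', hy]
      exact hx)
    unfold IsThreeCycle
    rw [hdd _ hβx, ← hdd y (cycleType_of_order_three _ hyo hy3), hy]
    exact hx

end Cfsg.Agent.S4231

namespace Cfsg.Agent.S4231

/-- Let n ≥ 5 and let G be a group of automorphisms of the alternating group of degree n containing all inner automorphisms. If p ≠ q are primes and G has no element of order pq, then every Sylow p-subgroup of G is abelian or every Sylow q-subgroup of G is abelian. -/
theorem result (n : ℕ) (hn : 5 ≤ n) (G : Subgroup (MulAut (alternatingGroup (Fin n))))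
    (hG : (MulAut.conj : alternatingGroup (Fin n) →* MulAut (alternatingGroup (Fin n))).range ≤ G)
    (p q : ℕ) [Fact p.Prime] [Fact q.Prime] (hpq : p ≠ q) (h : ∀ g : G, orderOf g ≠ p * q) :
    (∀ P : Sylow p G, IsMulCommutative (P : Subgroup G)) ∨ (∀ Q : Sylow q G, IsMulCommutative (Q : Subgroup G)) := by
  classical
  have hp : p.Prime := Fact.out
  have hq : q.Prime := Fact.out
  haveI : Nontrivial (Fin n) := Fin.nontrivial_iff_two_le.2 (by omega)
  have hinj : Function.Injective (MulAut.conjNormal : Equiv.Perm (Fin n) →* MulAut ↥(alternatingGroup (Fin n))) := by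
    rw [injective_iff_map_eq_one]
    intro g hg
    refine Equiv.ext fun x => ?_
    by_contra hx
    change ¬ g x = x at hx
    obtain ⟨c, hc⟩ : ∃ c, c ∉ ({x, g x, g⁻¹ x} : Finset (Fin n)) := by
      by_contra hh
      push Not at hh
      have h2 := (Finset.card_le_card (s := Finset.univ) fun c _ => hh c).trans Finset.card_le_three
      simp at h2
      omega
    simp only [Finset.mem_insert, Finset.mem_singleton, not_or] at hc
    obtain ⟨d, hd⟩ : ∃ d, d ∉ ({x, g x, c} : Finset (Fin n)) := by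
      by_contra hh
      push Not at hh
      have h2 := (Finset.card_le_card (s := Finset.univ) fun c _ => hh c).trans Finset.card_le_three
      simp at h2
      omega
    simp only [Finset.mem_insert, Finset.mem_singleton, not_or] at hd
    have hcy := CfsgLib.AutAlt.isThreeCycle_cyc (Ne.symm hc.1) (Ne.symm hd.1) (Ne.symm hd.2.2)
    have h1 := congrArg (fun e : MulAut ↥(alternatingGroup (Fin n)) =>
      ((e ⟨CfsgLib.AutAlt.cyc x c d, hcy.mem_alternatingGroup⟩ : ↥(alternatingGroup (Fin n))) : Equiv.Perm (Fin n))) hg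
    simp only [MulAut.conjNormal_apply, MulAut.one_apply] at h1
    have h2 : g (CfsgLib.AutAlt.cyc x c d x) = CfsgLib.AutAlt.cyc x c d (g x) := by
      have := Equiv.ext_iff.1 h1 (g x)
      simpa using this
    rw [(CfsgLib.AutAlt.cyc_apply (Ne.symm hc.1) (Ne.symm hd.1) (Ne.symm hd.2.2)).1] at h2
    have hfix : CfsgLib.AutAlt.cyc x c d (g x) = g x := by
      rw [CfsgLib.AutAlt.cyc, Equiv.Perm.mul_apply, Equiv.swap_apply_of_ne_of_ne (Ne.symm hc.2.1) (Ne.symm hd.2.1),
        Equiv.swap_apply_of_ne_of_ne hx (Ne.symm hc.2.1)]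
    rw [hfix] at h2
    exact hc.1 (g.injective h2)
  -- Sylow subgroups for an odd prime with n < r ^ 2
  have hab : ∀ r : ℕ, [Fact r.Prime] → n < r ^ 2 → ∀ P : Sylow r G, IsMulCommutative (P : Subgroup G) := by
    intro r hr hrn P
    have hr2 : r ≠ 2 := fun e => by subst e; omega
    have hrange : ∀ g : G, g ∈ (P : Subgroup G) → ∃ σ : Equiv.Perm (Fin n), MulAut.conjNormal σ = (g : MulAut ↥(alternatingGroup (Fin n))) := by
      intro g hg
      by_cases h6 : n = 6
      · subst h6
        obtain ⟨k, hk⟩ := P.isPGroup' ⟨g, hg⟩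
        have hk' : (g : MulAut ↥(alternatingGroup (Fin 6))) ^ r ^ k = 1 := congrArg (fun z : (P : Subgroup G) => ((z : G) : MulAut ↥(alternatingGroup (Fin 6)))) hk
        obtain ⟨σ, hσ⟩ := sq_conj_six (g : MulAut ↥(alternatingGroup (Fin 6)))
        obtain ⟨m, hm⟩ := (hr.out.odd_of_ne_two hr2).pow (n := k)
        refine ⟨σ ^ (m + 1), ?_⟩
        rw [map_pow, hσ, ← pow_two, ← pow_mul, show 2 * (m + 1) = r ^ k + 1 by omega, pow_succ, hk', one_mul]
      · exact CfsgLib.AutAlt.exists_conj (by omega) _ fun x hx => Cfsg.Agent.S2119.image_threeCycle h6 _ x hx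
    let A : Subgroup (Equiv.Perm (Fin n)) := ((P : Subgroup G).map G.subtype).comap (MulAut.conjNormal : Equiv.Perm (Fin n) →* MulAut ↥(alternatingGroup (Fin n)))
    have hA : IsPGroup r A := (P.isPGroup'.map G.subtype).comap_of_injective _ hinj
    have hle : A ≤ alternatingGroup (Fin n) := fun σ hσ => by
      rw [Equiv.Perm.mem_alternatingGroup]
      obtain ⟨k, hk⟩ := hA ⟨σ, hσ⟩
      exact Cfsg.Agent.S5164.sign_eq_one_of_odd hr2 σ ⟨k, congrArg Subtype.val hk⟩
    obtain ⟨S, hS⟩ := (hA.comap_of_injective (alternatingGroup (Fin n)).subtype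
      (alternatingGroup (Fin n)).subtype_injective).exists_le_sylow
    have hc := Cfsg.Agent.S3835.sylow_alt_comm (p := r) hr2 hrn S
    refine ⟨⟨fun a b => Subtype.ext (Subtype.ext ?_)⟩⟩
    obtain ⟨σ, hσ⟩ := hrange a a.2
    obtain ⟨τ, hτ⟩ := hrange b b.2
    have hσA : σ ∈ A := ⟨a, a.2, hσ.symm⟩
    have hτA : τ ∈ A := ⟨b, b.2, hτ.symm⟩
    have h2 := congrArg (fun z : S => ((z : ↥(alternatingGroup (Fin n))) : Equiv.Perm (Fin n)))
      (hc.is_comm.comm (⟨⟨σ, hle hσA⟩, hS hσA⟩ : S) ⟨⟨τ, hle hτA⟩, hS hτA⟩)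
    change σ * τ = τ * σ at h2
    show ((a : G) : MulAut ↥(alternatingGroup (Fin n))) * ((b : G) : MulAut ↥(alternatingGroup (Fin n))) =
      ((b : G) : MulAut ↥(alternatingGroup (Fin n))) * ((a : G) : MulAut ↥(alternatingGroup (Fin n)))
    rw [← hσ, ← hτ, ← map_mul, ← map_mul, h2]
  by_cases hpn : n < p ^ 2
  · exact Or.inl (hab p hpn)
  by_cases hqn : n < q ^ 2
  · exact Or.inr (hab q hqn)
  exfalso
  -- an element of order `p * q`
  rw [not_lt] at hpn hqn
  have key : ∀ r s : ℕ, r.Prime → s.Prime → r ≠ s → r ≤ s → r ^ 2 ≤ n → s ^ 2 ≤ n →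
      ∃ a ∈ alternatingGroup (Fin n), orderOf a = r * s := by
    intro r s hr hs hne hle h1 h2
    have hs3 : 3 ≤ s := by have := hr.two_le; omega
    have hs9 : s + s + s ≤ n := le_trans (by rw [pow_two]; nlinarith) h2
    have hsodd : Odd s := hs.odd_of_ne_two (by omega)
    by_cases hr2 : r = 2
    · subst hr2
      obtain ⟨a, ha⟩ := (Equiv.Perm.exists_with_cycleType_iff (α := Fin n) (m := {2, 2, s})).2
        ⟨by simp; omega, by simp; omega⟩
      refine ⟨a, ?_, ?_⟩
      · rw [Equiv.Perm.mem_alternatingGroup, Equiv.Perm.sign_of_cycleType, ha]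
        have : Even (({2, 2, s} : Multiset ℕ).sum + Multiset.card ({2, 2, s} : Multiset ℕ)) := by
          obtain ⟨j, hj⟩ := hsodd
          exact ⟨2 + j + 2, by simp; omega⟩
        exact this.neg_one_pow
      · rw [← Equiv.Perm.lcm_cycleType, ha]
        simp only [Multiset.insert_eq_cons, Multiset.lcm_cons, Multiset.lcm_singleton, normalize_eq]
        rw [← Nat.Coprime.lcm_eq_mul ((Nat.coprime_primes hr hs).2 hne)]
        rw [← lcm_assoc, lcm_same, normalize_eq]
        rfl
    · obtain ⟨a, ha⟩ := (Equiv.Perm.exists_with_cycleType_iff (α := Fin n) (m := {r, s})).2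
        ⟨by simp; omega, by simp; have := hr.two_le; omega⟩
      refine ⟨a, ?_, ?_⟩
      · rw [Equiv.Perm.mem_alternatingGroup, Equiv.Perm.sign_of_cycleType, ha]
        have : Even (({r, s} : Multiset ℕ).sum + Multiset.card ({r, s} : Multiset ℕ)) := by
          obtain ⟨j, hj⟩ := hsodd
          obtain ⟨i, hi⟩ := hr.odd_of_ne_two hr2
          exact ⟨i + j + 2, by simp; omega⟩
        exact this.neg_one_pow
      · rw [← Equiv.Perm.lcm_cycleType, ha]
        simp only [Multiset.insert_eq_cons, Multiset.lcm_cons, Multiset.lcm_singleton, normalize_eq]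
        exact Nat.Coprime.lcm_eq_mul ((Nat.coprime_primes hr hs).2 hne)
  obtain ⟨a, haA, ha⟩ : ∃ a ∈ alternatingGroup (Fin n), orderOf a = p * q := by
    rcases le_total p q with h' | h'
    · exact key p q hp hq hpq h' hpn hqn
    · rw [mul_comm]; exact key q p hq hp hpq.symm h' hqn hpn
  have hmem : MulAut.conj (⟨a, haA⟩ : ↥(alternatingGroup (Fin n))) ∈ G := hG ⟨_, rfl⟩
  refine h ⟨_, hmem⟩ ?_
  rw [← Subgroup.orderOf_coe]
  show orderOf (MulAut.conj (⟨a, haA⟩ : ↥(alternatingGroup (Fin n)))) = p * q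
  have e : MulAut.conj (⟨a, haA⟩ : ↥(alternatingGroup (Fin n))) = MulAut.conjNormal a :=
    MulEquiv.ext fun z => Subtype.ext (by simp [MulAut.conjNormal_apply])
  rw [e, orderOf_injective _ hinj, ha]

end Cfsg.Agent.S4231
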