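import Cfsg.Statements.S0132
import Cfsg.Agent.Transfer.Frobenius
import Cfsg.Agent.CoprimeAction.Basic

set_option autoImplicit false
open Cfsg
open scoped commutatorElement IsMulCommutative Pointwise

namespace Cfsg.Agent.S0132

/-- A minimal non-p-nilpotent finite group is a minimal non-nilpotent group with a normal Sylow p-subgroup. -/
theorem result {G : Type*} [Group G] [Finite G] {p : ℕ} [Fact p.Prime] (h1 : ¬ Cfsg.HasNormalPComplement p G) (h2 : ∀ H : Subgroup G, H ≠ ⊤ → Cfsg.HasNormalPComplement p H) : (∀ H : Subgroup G, H ≠ ⊤ → Group.IsNilpotent H) ∧ ¬ Group.IsNilpotent G ∧ ∀ P : Sylow p G, (P : Subgroup G).Normal := by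
  have hR : (Cfsg.pResidual p G).Normal := CfsgLib.Transfer.pResidual_normal
  obtain ⟨Q, hQ, n, hn, hnp, hnc⟩ : ∃ Q : Subgroup G, IsPGroup p Q ∧ ∃ n ∈ Subgroup.normalizer (Q : Set G),
      (orderOf n).Coprime p ∧ n ∉ Subgroup.centralizer (Q : Set G) := by
    by_contra h
    push Not at h
    exact h1 (CfsgLib.Transfer.frobenius_normal_complement fun Q hQ n hn hnp => h Q hQ n hn hnp)
  set L := Subgroup.zpowers n ⊔ Q with hL
  have hnQ : Subgroup.zpowers n ≤ Subgroup.normalizer (Q : Set G) := Subgroup.zpowers_le.2 hn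
  have htop : L = ⊤ := by
    by_contra hne
    have hloc := CfsgLib.Transfer.locallyTrivial_of_hasNormalPComplement (h2 L hne)
    have h3 := hloc (Q.subgroupOf L) (hQ.comap_of_injective L.subtype L.subtype_injective)
      ⟨n, Subgroup.mem_sup_left (Subgroup.mem_zpowers n)⟩ (by
        rw [← Subgroup.subgroupOf_normalizer_eq le_sup_right]; exact hn)
      (by rwa [Subgroup.orderOf_mk])
    refine hnc (Subgroup.mem_centralizer_iff.2 fun x hx => ?_)
    exact congrArg Subtype.val (Subgroup.mem_centralizer_iff.1 h3 ⟨x, Subgroup.mem_sup_right hx⟩ hx)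
  have hQn : Q.Normal := by
    rw [← Subgroup.normalizer_eq_top_iff, eq_top_iff, ← htop]
    exact sup_le hnQ Subgroup.le_normalizer
  have hmem : ∀ g : G, ∃ i : ℤ, ∃ q ∈ Q, n ^ i * q = g := fun g => by
    obtain ⟨a, ⟨i, rfl⟩, q, hq, rfl⟩ := Subgroup.mem_sup_of_normal_right.1 (htop.ge (Subgroup.mem_top g))
    exact ⟨i, q, hq, rfl⟩
  have hidx : (Nat.card (G ⧸ Q)).Coprime p := by
    have hsur : Function.Surjective ((QuotientGroup.mk' Q).comp (Subgroup.zpowers n).subtype) := fun x => by
      obtain ⟨g, rfl⟩ := QuotientGroup.mk'_surjective Q x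
      obtain ⟨i, q, hq, rfl⟩ := hmem g
      exact ⟨⟨n ^ i, Subgroup.zpow_mem_zpowers n i⟩, QuotientGroup.eq.2 (by simpa using hq)⟩
    refine Nat.Coprime.coprime_dvd_left (Subgroup.card_dvd_of_surjective _ hsur) ?_
    rwa [Nat.card_zpowers]
  refine ⟨fun H hH => ?_, fun hnil => ?_, fun P => ?_⟩
  · have hc : ∀ a b : G, ⁅a, b⁆ ∈ Q := fun a b => by
      obtain ⟨i, q, hq, rfl⟩ := hmem a
      obtain ⟨j, r, hr, rfl⟩ := hmem b
      rw [← QuotientGroup.eq_one_iff, ← QuotientGroup.mk'_apply, map_commutatorElement, map_mul, map_mul,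
        QuotientGroup.mk'_apply, QuotientGroup.mk'_apply, QuotientGroup.mk'_apply, QuotientGroup.mk'_apply,
        (QuotientGroup.eq_one_iff q).2 hq, (QuotientGroup.eq_one_iff r).2 hr, mul_one, mul_one,
        commutatorElement_eq_one_iff_mul_comm, ← QuotientGroup.mk_mul, ← QuotientGroup.mk_mul, ← zpow_add,
        ← zpow_add, add_comm]
    have hK := h2 H hH
    have hKn : (Cfsg.pResidual p H).Normal := CfsgLib.Transfer.pResidual_normal
    obtain ⟨S⟩ : Nonempty (Sylow p H) := inferInstance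
    have hbot := (CfsgLib.Transfer.hasNormalPComplement_iff_inf S).1 hK
    -- `O^p(H)` is central
    have hcen : Cfsg.pResidual p H ≤ Subgroup.center H := by
      intro k hk
      rw [Subgroup.mem_center_iff]
      intro h
      have h3 : ⁅h, k⁆ ∈ Cfsg.pResidual p H := by
        rw [commutatorElement_def]
        exact mul_mem (hKn.conj_mem k hk h) (inv_mem hk)
      have h4 : ((⁅h, k⁆ : H) : G) ∈ Q := by simpa [commutatorElement_def] using hc (h : G) (k : G)
      obtain ⟨j, hj⟩ := IsPGroup.iff_orderOf.1 hQ ⟨_, h4⟩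
      rw [Subgroup.orderOf_mk, Subgroup.orderOf_coe] at hj
      have h5 : orderOf ⁅h, k⁆ = 1 := Nat.eq_one_of_dvd_coprimes
        ((((Fact.out : p.Prime).coprime_iff_not_dvd.2 (CfsgLib.Transfer.hasNormalPComplement_iff.1 hK)).symm).pow_right j)
        (Subgroup.orderOf_dvd_natCard _ h3) (hj ▸ dvd_rfl)
      rw [orderOf_eq_one_iff, commutatorElement_eq_one_iff_mul_comm] at h5
      exact h5
    have hq : IsPGroup p (H ⧸ Subgroup.center H) :=
      (CfsgLib.Transfer.pResidual_le_iff _).1 hcen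
    exact Group.of_quotient_center_nilpotent hq.isNilpotent
  · refine h1 ?_
    obtain ⟨P⟩ : Nonempty (Sylow p G) := inferInstance
    refine CfsgLib.Transfer.frobenius_normal_complement fun R hR' g hg hgo => ?_
    exfalso
    have := hnil
    have hcop : (Nat.card (Subgroup.zpowers n)).Coprime (Nat.card Q) := by
      obtain ⟨j, hj⟩ := IsPGroup.iff_card.1 hQ
      rw [Nat.card_zpowers, hj]; exact hnp.pow_right j
    have h3 := CfsgLib.CoprimeAction.commutator_commutator_eq hnQ hcop
      (Or.inr (by have := hQ.isNilpotent; infer_instance))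
    have h4 : ⁅Q, Subgroup.zpowers n⁆ = ⊥ := CfsgLib.Transfer.eq_bot_of_le_commutator_top
      (h3.ge.trans (Subgroup.commutator_mono le_rfl le_top))
    rw [Subgroup.commutator_eq_bot_iff_le_centralizer] at h4
    exact hnc (Subgroup.le_centralizer_iff.1 h4 (Subgroup.mem_zpowers n))
  · have hQP : Q ≤ (P : Subgroup G) := by
      obtain ⟨S, hS⟩ := hQ.exists_le_sylow
      obtain ⟨a, rfl⟩ := MulAction.exists_smul_eq G S P
      intro q hq
      exact CfsgLib.Transfer.mem_smul_sylow_iff.2 (hS (by simpa using hQn.conj_mem q hq a⁻¹))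
    have : (P : Subgroup G) = Q := by
      refine le_antisymm ?_ hQP
      intro x hx
      obtain ⟨j, hj⟩ := IsPGroup.iff_orderOf.1 P.isPGroup' ⟨x, hx⟩
      rw [Subgroup.orderOf_mk] at hj
      rw [← QuotientGroup.eq_one_iff, ← orderOf_eq_one_iff]
      exact Nat.eq_one_of_dvd_coprimes (hidx.pow_right j) (orderOf_dvd_natCard _)
        (hj ▸ orderOf_map_dvd (QuotientGroup.mk' Q) x)
    exact this ▸ hQn

end Cfsg.Agent.S0132
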