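import Cfsg.Statements.S0160
import Cfsg.Agent.Clifford.BrauerPerm
import Cfsg.Agent.Clifford.RepBasic

set_option autoImplicit false
open Cfsg

namespace Cfsg.Agent.S0160

/-- A finite group has as many real-valued irreducible complex characters as conjugacy classes closed under taking inverses. -/
theorem result {G : Type*} [Group G] [Finite G] : Nat.card {χ : Cfsg.IrrCharacter G // ∀ g : G, ((χ : G → ℂ) g).im = 0} = Nat.card {C : ConjClasses G // ∀ g : G, ConjClasses.mk g = C → IsConj g g⁻¹} := by
  classical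
  have hc : ∀ χ : Cfsg.IrrCharacter G, Cfsg.IsIrrCharacter G (fun g => (χ : G → ℂ) g⁻¹) := by
    intro χ
    have := Fintype.ofFinite G
    refine CfsgLib.CharBasics.isIrr_of_norm_one
      (CfsgLib.CharBasics.isCharacter_inv (CfsgLib.CharBasics.isCharacter_of_irr χ.2)) ?_
    have h := CfsgLib.CharBasics.classInner_self χ.2
    rw [CfsgLib.CharBasics.classInner_eq] at h ⊢
    refine Eq.trans (congrArg _ ?_) h
    exact Fintype.sum_equiv (Equiv.inv G) _ _ fun g => rfl
  let σ : Cfsg.IrrCharacter G ≃ Cfsg.IrrCharacter G :=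
    { toFun := fun χ => ⟨_, hc χ⟩
      invFun := fun χ => ⟨_, hc χ⟩
      left_inv := fun χ => Subtype.ext (funext fun g => by simp)
      right_inv := fun χ => Subtype.ext (funext fun g => by simp) }
  let inv' : ConjClasses G → ConjClasses G := Quotient.map' (fun g => g⁻¹) fun a b h => by
    obtain ⟨c, rfl⟩ := isConj_iff.mp h
    exact isConj_iff.mpr ⟨c, by simp [mul_assoc]⟩
  let τ : ConjClasses G ≃ ConjClasses G :=
    { toFun := inv'
      invFun := inv'
      left_inv := fun C => by
        obtain ⟨g, rfl⟩ := ConjClasses.exists_rep C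
        exact congrArg ConjClasses.mk (inv_inv g)
      right_inv := fun C => by
        obtain ⟨g, rfl⟩ := ConjClasses.exists_rep C
        exact congrArg ConjClasses.mk (inv_inv g) }
  have h := CfsgLib.Clifford.brauer_perm σ τ fun χ g g' hgg => by
    have h1 : IsConj g' g⁻¹ := ConjClasses.mk_eq_mk_iff_isConj.mp hgg
    obtain ⟨c, hc'⟩ := isConj_iff.mp h1
    have h2 : IsConj g'⁻¹ g := isConj_iff.mpr ⟨c, by rw [← inv_inj, ← hc']; simp [mul_assoc]⟩
    exact CfsgLib.CharBasics.apply_isConj (CfsgLib.CharBasics.isCharacter_of_irr χ.2) h2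
  calc Nat.card {χ : Cfsg.IrrCharacter G // ∀ g : G, ((χ : G → ℂ) g).im = 0}
      = Nat.card {χ : Cfsg.IrrCharacter G // σ χ = χ} := Nat.card_congr (Equiv.subtypeEquivRight fun χ => by
        rw [Subtype.ext_iff, funext_iff]
        refine forall_congr' fun g => ?_
        change ((χ : G → ℂ) g).im = 0 ↔ (χ : G → ℂ) g⁻¹ = (χ : G → ℂ) g
        rw [CfsgLib.CharBasics.apply_inv (CfsgLib.CharBasics.isCharacter_of_irr χ.2), Complex.conj_eq_iff_im])
    _ = Nat.card {C : ConjClasses G // τ C = C} := h
    _ = _ := Nat.card_congr (Equiv.subtypeEquivRight fun C => by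
        obtain ⟨c, rfl⟩ := ConjClasses.exists_rep C
        constructor
        · intro hC g hg
          rw [← ConjClasses.mk_eq_mk_iff_isConj]
          rw [← hg] at hC
          exact hC.symm
        · intro hC
          exact (ConjClasses.mk_eq_mk_iff_isConj.mpr (hC c rfl)).symm)

end Cfsg.Agent.S0160
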