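import Cfsg.Statements.S0186
import Cfsg.Agent.CharBasics.Extra
import Cfsg.Agent.S4811

set_option autoImplicit false
open Cfsg CfsgLib.CharBasics
open scoped commutatorElement

namespace Cfsg.Agent.S0186

/-- Let G be a finite simple group of order n and p a prime dividing n. If G has more than n / p^2 conjugacy classes, then every Sylow p-subgroup of G is abelian. -/
theorem result {G : Type*} [Group G] [Finite G] [IsSimpleGroup G] (p : ℕ) [Fact p.Prime] (hp : p ∣ Nat.card G) (hmany : Nat.card G < p ^ 2 * Nat.card (ConjClasses G)) (P : Sylow p G) (a b : G) (ha : a ∈ P) (hb : b ∈ P) : a * b = b * a := by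
  classical
  haveI := Fintype.ofFinite G
  haveI := Fintype.ofFinite (IrrCharacter G)
  have hpp : p.Prime := Fact.out
  by_contra hab
  have hdeg : ∀ χ : IrrCharacter G, χ ≠ oneChar → p ≤ charDegree (χ : G → ℂ) := by
    intro χ hχ
    by_contra hlt
    have hc := isCharacter_of_irr χ.2
    haveI : (charKer _ hc).Normal := charKer_normal hc
    have hker : charKer _ hc = ⊥ := by
      refine ((charKer_normal hc).eq_bot_or_eq_top).resolve_right fun htop => ?_
      have hm : ∀ g, (χ : G → ℂ) g = (χ : G → ℂ) 1 := fun g => by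
        have : g ∈ charKer _ hc := htop ▸ Subgroup.mem_top g
        exact this
      have h0 := sum_irr_eq_zero χ.2 (fun e => hχ (Subtype.ext e))
      rw [Finset.sum_congr rfl (fun g _ => hm g), Finset.sum_const, nsmul_eq_mul, mul_eq_zero, Nat.cast_eq_zero,
        Finset.card_univ] at h0
      exact h0.elim Fintype.card_ne_zero (apply_one_ne_zero χ.2)
    obtain ⟨r, ψ, hψ, hs⟩ := exists_decomp (isCharacter_restrict hc (P : Subgroup G))
    have hdψ : ∀ i, charDegree (ψ i) = 1 := by
      intro i
      have hle : charDegree (ψ i) ≤ charDegree (χ : G → ℂ) := by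
        have h1 := congrFun hs 1
        rw [Finset.sum_apply] at h1
        simp only [Subgroup.coe_one, apply_one hc,
          fun j => apply_one (isCharacter_of_irr (hψ j)), ← Nat.cast_sum, Nat.cast_inj] at h1
        rw [h1]
        exact Finset.single_le_sum (f := fun j => charDegree (ψ j)) (fun _ _ => Nat.zero_le _) (Finset.mem_univ i)
      obtain ⟨k, hk⟩ := P.isPGroup'.exists_card_eq
      have hdvd := degree_dvd (⟨ψ i, hψ i⟩ : IrrCharacter (P : Subgroup G))
      obtain ⟨j, -, hj⟩ := (Nat.dvd_prime_pow hpp).1 (hk ▸ hdvd)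
      rcases j with _ | j
      · simpa using hj
      · exact absurd (lt_of_le_of_lt hle (not_le.1 hlt))
          (not_lt.2 (hj ▸ Nat.le_self_pow (Nat.succ_ne_zero j) p))
    have hmem : ⁅a, b⁆ ∈ charKer _ hc := by
      have e := congrFun hs ⁅(⟨a, ha⟩ : (P : Subgroup G)), ⟨b, hb⟩⁆
      have e1 := congrFun hs 1
      simp only [Finset.sum_apply] at e e1
      rw [Finset.sum_congr rfl fun i _ =>
        Cfsg.Agent.S4811.apply_commutator_eq (isCharacter_of_irr (hψ i)) (hdψ i) _ _, ← e1] at e
      exact e
    rw [hker, Subgroup.mem_bot] at hmem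
    exact hab (commutatorElement_eq_one_iff_mul_comm.1 hmem)
  have hsum : ∑ χ : IrrCharacter G, charDegree (χ : G → ℂ) ^ 2 = Nat.card G := by
    have h := sum_sq_degree (G := G)
    exact_mod_cast h
  obtain ⟨k, hk⟩ := P.isPGroup'.exists_card_eq
  have hk2 : 2 ≤ k := by
    by_contra hk2
    haveI : IsCyclic (P : Subgroup G) := by
      have hk1 : k = 0 ∨ k = 1 := by omega
      rcases hk1 with rfl | rfl
      · rw [pow_zero] at hk
        haveI := (Nat.card_eq_one_iff_unique.1 hk).1
        exact isCyclic_of_subsingleton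
      · rw [pow_one] at hk
        exact isCyclic_of_prime_card hk
    letI := IsCyclic.commGroup (α := (P : Subgroup G))
    exact hab (congrArg Subtype.val (mul_comm (⟨a, ha⟩ : (P : Subgroup G)) ⟨b, hb⟩))
  have hp2 : p ^ 2 ∣ Nat.card G := (pow_dvd_pow p hk2).trans (hk ▸ Subgroup.card_subgroup_dvd_card _)
  rw [← Finset.add_sum_erase _ _ (Finset.mem_univ oneChar),
    show charDegree ((oneChar : IrrCharacter G) : G → ℂ) = 1 by simp [charDegree, oneChar_apply], one_pow] at hsum
  have hle : (Finset.univ.erase (oneChar : IrrCharacter G)).card * p ^ 2 ≤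
      ∑ χ ∈ Finset.univ.erase (oneChar : IrrCharacter G), charDegree (χ : G → ℂ) ^ 2 := by
    rw [← smul_eq_mul]
    exact Finset.card_nsmul_le_sum _ _ _ fun χ hχ => Nat.pow_le_pow_left (hdeg χ (Finset.ne_of_mem_erase hχ)) 2
  rw [Finset.card_erase_of_mem (Finset.mem_univ _), Finset.card_univ, ← Nat.card_eq_fintype_card, card_irr] at hle
  obtain ⟨q, hq⟩ := hp2
  have hk0 : 0 < Nat.card (ConjClasses G) := Nat.card_pos
  set K := Nat.card (ConjClasses G)
  have hqk : q < K := Nat.lt_of_mul_lt_mul_left (hq ▸ hmany)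
  have : q * p ^ 2 ≤ (K - 1) * p ^ 2 := Nat.mul_le_mul_right _ (by omega)
  rw [mul_comm] at hq
  omega

end Cfsg.Agent.S0186
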