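import Cfsg.Statements.S0213
import Cfsg.Agent.Invol.Dihedral
import Cfsg.Agent.CharBasics.Central
import Mathlib.Combinatorics.Enumerative.DoubleCounting

set_option autoImplicit false
open Cfsg

namespace Cfsg.Agent.S0213


open Finset

theorem invol_unique.{u} {G : Type u} [Group G] {w u : G} {m : ℕ} (hm : orderOf w = m + m)
    (hu : u ∈ Subgroup.zpowers w) (h2 : orderOf u = 2) : u = w ^ m := by
  obtain ⟨k, rfl⟩ := hu
  have h3 : ((m + m : ℕ) : ℤ) ∣ k + k := by
    rw [← hm, orderOf_dvd_iff_zpow_eq_one, zpow_add]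
    exact CfsgLib.Invol.mul_self_of_orderOf h2
  obtain ⟨c, hc⟩ := h3
  push_cast at hc
  have hk : k = (m : ℤ) * c := by linarith
  have hwm : (w ^ m) * (w ^ m) = 1 := by rw [← pow_add, ← hm, pow_orderOf_eq_one]
  have hne : w ^ k ≠ 1 := CfsgLib.Invol.ne_one_of_orderOf h2
  subst hk
  simp only [zpow_mul, zpow_natCast] at hne ⊢
  rcases Int.even_or_odd' c with ⟨d, rfl | rfl⟩
  · rw [zpow_mul, zpow_two, hwm, one_zpow] at hne
    exact absurd rfl hne
  · rw [zpow_add_one, zpow_mul, zpow_two, hwm, one_zpow, one_mul]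


/-- Thompson Order Formula, two-class case: if every involution of the finite group G is conjugate to exactly one of the non-conjugate involutions x₁, x₂, and nᵢ is the number of pairs (u, v) with u conjugate to x₁, v conjugate to x₂ and xᵢ in the cyclic group generated by uv, then |G| = |C(x₂)| n₁ + |C(x₁)| n₂. -/
theorem result {G : Type*} [Group G] [Finite G] (x₁ x₂ : G) (h₁ : orderOf x₁ = 2) (h₂ : orderOf x₂ = 2) (hnc : ¬ IsConj x₁ x₂) (hall : ∀ t : G, orderOf t = 2 → IsConj x₁ t ∨ IsConj x₂ t) : Nat.card G = Nat.card (Subgroup.centralizer ({x₂} : Set G)) * Nat.card {p : G × G // IsConj x₁ p.1 ∧ IsConj x₂ p.2 ∧ x₁ ∈ Subgroup.zpowers (p.1 * p.2)} + Nat.card (Subgroup.centralizer ({x₁} : Set G)) * Nat.card {p : G × G // IsConj x₁ p.1 ∧ IsConj x₂ p.2 ∧ x₂ ∈ Subgroup.zpowers (p.1 * p.2)} := by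
  classical
  haveI := Fintype.ofFinite G
  set K₁ := univ.filter (fun t : G => IsConj x₁ t) with hK₁
  set K₂ := univ.filter (fun t : G => IsConj x₂ t) with hK₂
  have hord : ∀ {x t : G}, orderOf x = 2 → IsConj x t → orderOf t = 2 := by
    intro x t hx ht
    obtain ⟨g, rfl⟩ := isConj_iff.1 ht
    rw [CfsgLib.Invol.orderOf_conj, hx]
  have hdis : Disjoint K₁ K₂ := Finset.disjoint_left.2 fun t a b => by
    simp only [hK₁, hK₂, mem_filter, mem_univ, true_and] at a b
    exact hnc (a.trans b.symm)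
  set r : G × G → G → Prop := fun p z => z ∈ Subgroup.zpowers (p.1 * p.2) with hr
  have hdc := sum_card_bipartiteAbove_eq_sum_card_bipartiteBelow r (s := K₁ ×ˢ K₂) (t := K₁ ∪ K₂)
  have hone : ∀ p ∈ K₁ ×ˢ K₂, ((K₁ ∪ K₂).bipartiteAbove r p).card = 1 := by
    intro p hp
    simp only [hK₁, hK₂, mem_product, mem_filter, mem_univ, true_and] at hp
    have ha := CfsgLib.Invol.mul_self_of_orderOf (hord h₁ hp.1)
    have hb := CfsgLib.Invol.mul_self_of_orderOf (hord h₂ hp.2)
    have he : Even (orderOf (p.1 * p.2)) := by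
      rcases Nat.even_or_odd (orderOf (p.1 * p.2)) with h | h
      · exact h
      · exact absurd (hp.1.trans ((CfsgLib.Invol.isConj_of_odd ha hb h).trans hp.2.symm)) hnc
    obtain ⟨m, hm⟩ := he
    have h3 := (CfsgLib.Invol.half_pow ha hb ⟨m, hm⟩).1
    rw [show orderOf (p.1 * p.2) / 2 = m by omega] at h3
    rw [Finset.card_eq_one]
    refine ⟨(p.1 * p.2) ^ m, ?_⟩
    ext z
    simp only [mem_bipartiteAbove, mem_union, hK₁, hK₂, mem_filter, mem_univ, true_and, mem_singleton, hr]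
    refine ⟨fun ⟨h, hz⟩ => invol_unique hm hz ?_, fun h => ?_⟩
    · rcases h with h | h
      · exact hord h₁ h
      · exact hord h₂ h
    · subst h
      exact ⟨hall _ h3, Subgroup.npow_mem_zpowers _ _⟩
  have hconst : ∀ x z : G, IsConj x z →
      ((K₁ ×ˢ K₂).bipartiteBelow r z).card = ((K₁ ×ˢ K₂).bipartiteBelow r x).card := by
    intro x z hz
    obtain ⟨g, rfl⟩ := isConj_iff.1 hz
    refine (Finset.card_equiv (Equiv.prodCongr (MulAut.conj g).toEquiv (MulAut.conj g).toEquiv) fun p => ?_).symm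
    simp only [mem_bipartiteBelow, mem_product, hK₁, hK₂, mem_filter, mem_univ, true_and, hr]
    show _ ↔ ((IsConj x₁ (g * p.1 * g⁻¹) ∧ IsConj x₂ (g * p.2 * g⁻¹)) ∧
      g * x * g⁻¹ ∈ Subgroup.zpowers (g * p.1 * g⁻¹ * (g * p.2 * g⁻¹)))
    have e1 : ∀ a b : G, IsConj a (g * b * g⁻¹) ↔ IsConj a b := fun a b =>
      ⟨fun h => h.trans (isConj_iff.2 ⟨g, rfl⟩).symm, fun h => h.trans (isConj_iff.2 ⟨g, rfl⟩)⟩
    rw [e1, e1, conj_mul]
    refine and_congr_right fun _ => ⟨?_, ?_⟩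
    · rintro ⟨k, hk⟩
      exact ⟨k, by simp only at hk ⊢; rw [conj_zpow, hk]⟩
    · rintro ⟨k, hk⟩
      refine ⟨k, ?_⟩
      simp only at hk ⊢
      rw [conj_zpow] at hk
      exact mul_left_cancel (mul_right_cancel hk)
  have hcnt : ∀ x : G, Nat.card {p : G × G // IsConj x₁ p.1 ∧ IsConj x₂ p.2 ∧ x ∈ Subgroup.zpowers (p.1 * p.2)} =
      ((K₁ ×ˢ K₂).bipartiteBelow r x).card := by
    intro x
    rw [Nat.card_eq_fintype_card, Fintype.card_subtype]
    congr 1
    ext p
    simp [hK₁, hK₂, hr, and_assoc]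
  have hsz : ∀ x : G, Nat.card (Subgroup.centralizer ({x} : Set G)) * (univ.filter (fun t : G => IsConj x t)).card =
      Nat.card G := by
    intro x
    rw [← Fintype.card_subtype, ← Nat.card_eq_fintype_card, CfsgLib.CharBasics.card_conjClass,
      Subgroup.card_mul_index]
  rw [Finset.sum_congr rfl hone, ← Finset.card_eq_sum_ones, card_product, Finset.sum_union hdis,
    Finset.sum_congr rfl (g := fun _ => ((K₁ ×ˢ K₂).bipartiteBelow r x₁).card)
      (fun z hz => hconst x₁ z (by simpa [hK₁] using hz)),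
    Finset.sum_congr rfl (g := fun _ => ((K₁ ×ˢ K₂).bipartiteBelow r x₂).card)
      (fun z hz => hconst x₂ z (by simpa [hK₂] using hz)),
    Finset.sum_const, Finset.sum_const, smul_eq_mul, smul_eq_mul] at hdc
  rw [hcnt, hcnt]
  have e1 := hsz x₁
  have e2 := hsz x₂
  rw [← hK₁] at e1
  rw [← hK₂] at e2
  have hpos : 0 < Nat.card G := Nat.card_pos
  refine Nat.eq_of_mul_eq_mul_left hpos ?_
  set c₁ := Nat.card (Subgroup.centralizer ({x₁} : Set G))
  set c₂ := Nat.card (Subgroup.centralizer ({x₂} : Set G))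
  generalize ((K₁ ×ˢ K₂).bipartiteBelow r x₁).card = a₁ at hdc ⊢
  generalize ((K₁ ×ˢ K₂).bipartiteBelow r x₂).card = a₂ at hdc ⊢
  generalize Nat.card G = N at e1 e2 ⊢
  calc N * N = (c₁ * K₁.card) * (c₂ * K₂.card) := by rw [e1, e2]
    _ = c₁ * c₂ * (K₁.card * K₂.card) := by ring
    _ = (c₁ * K₁.card) * (c₂ * a₁) + (c₂ * K₂.card) * (c₁ * a₂) := by rw [hdc]; ring
    _ = N * (c₂ * a₁ + c₁ * a₂) := by rw [e1, e2]; ring

end Cfsg.Agent.S0213
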