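import Cfsg.Statements.S0214
import Cfsg.Agent.Invol.StronglyEmbedded
import Mathlib.GroupTheory.Sylow
import Mathlib.GroupTheory.Nilpotent

set_option autoImplicit false
open scoped Pointwise
open Cfsg

namespace Cfsg.Agent.S0214

/-- Let H be a proper subgroup of the finite group G and P a nontrivial Sylow 2-subgroup of H. Then H is strongly embedded in G if and only if N_G(X) ≤ H for every nontrivial subgroup X of P. -/
theorem result {G : Type*} [Group G] [Finite G] (H : Subgroup G) (hH : H ≠ ⊤) (P : Sylow 2 ↥H) (hP : (P : Subgroup ↥H) ≠ ⊥) : Cfsg.IsStronglyEmbedded H ↔ (∀ X : Subgroup ↥H, X ≤ (P : Subgroup ↥H) → X ≠ ⊥ → Subgroup.normalizer ((X.map H.subtype : Subgroup G) : Set G) ≤ H) := by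
  haveI : Fact (Nat.Prime 2) := ⟨Nat.prime_two⟩
  constructor
  · intro hse X hXP hX n hn
    obtain ⟨k, hk⟩ := (P.isPGroup'.to_le hXP).exists_card_eq
    have hk0 : k ≠ 0 := by
      rintro rfl
      exact hX (Subgroup.eq_bot_of_card_eq X (by simpa using hk))
    obtain ⟨t, ht, ho⟩ := CfsgLib.Invol.exists_involution_of_even (K := X.map H.subtype) (by
      rw [Subgroup.card_map_of_injective Subtype.val_injective, hk]
      exact even_iff_two_dvd.2 (dvd_pow_self 2 hk0))
    exact CfsgLib.Invol.mem_of_conj_mem hse ho (Subgroup.map_subtype_le X ht)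
      (Subgroup.map_subtype_le X ((Subgroup.mem_normalizer_iff.1 hn t).1 ht))
  intro hN
  set P' : Subgroup G := (P : Subgroup H).map H.subtype with hP'
  have hP'ne : P' ≠ ⊥ := fun h => hP ((Subgroup.map_eq_bot_iff_of_injective _ Subtype.val_injective).1 h)
  have hP'H : P' ≤ H := Subgroup.map_subtype_le _
  have hNP : ∀ D : Subgroup G, D ≤ P' → D ≠ ⊥ → Subgroup.normalizer (D : Set G) ≤ H := by
    intro D hD hD1
    have hDH := hD.trans hP'H
    have h1 := hN (D.subgroupOf H) (fun x hx => by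
      obtain ⟨y, hy, hyx⟩ := hD hx
      rwa [← Subtype.ext hyx]) (fun h => hD1 (by
        rw [Subgroup.subgroupOf_eq_bot] at h
        exact disjoint_self.1 (h.mono_right hDH)))
    rwa [Subgroup.subgroupOf_map_subtype, inf_eq_left.2 hDH] at h1
  obtain ⟨T, hT⟩ := (P.isPGroup'.map H.subtype).exists_le_sylow
  have hTP : (T : Subgroup G) = P' := by
    by_contra hne
    haveI : Group.IsNilpotent (T : Subgroup G) := T.isPGroup'.isNilpotent
    have hlt : P'.subgroupOf T < ⊤ := lt_top_iff_ne_top.2 fun h => hne (le_antisymm (Subgroup.subgroupOf_eq_top.1 h) hT)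
    obtain ⟨y, hyN, hyD⟩ := SetLike.exists_of_lt (Group.normalizerCondition_of_isNilpotent _ hlt)
    rw [← Subgroup.subgroupOf_normalizer_eq hT] at hyN
    have hyH : (y : G) ∈ H := hNP P' le_rfl hP'ne hyN
    have h2 := P.is_maximal' (T.isPGroup'.comap_of_injective H.subtype Subtype.val_injective) (Subgroup.map_le_iff_le_comap.1 hT)
    exact hyD (show (y : G) ∈ P' from ⟨⟨y, hyH⟩, h2 ▸ (show (⟨(y : G), hyH⟩ : H) ∈ (T : Subgroup G).comap H.subtype from y.2), rfl⟩)
  have hmemT : ∀ (g x : G), x ∈ ((g • T : Sylow 2 G) : Subgroup G) ↔ g⁻¹ * x * g ∈ (T : Subgroup G) := by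
    intro g x
    show x ∈ MulAut.conj g • (T : Subgroup G) ↔ _
    rw [Subgroup.mem_pointwise_smul_iff_inv_smul_mem]
    simp [MulAut.smul_def]
  -- a Sylow subgroup meeting `T` lies in `H`
  have hlink : ∀ (k : ℕ) (Q : Sylow 2 G), Nat.card (T : Subgroup G) - Nat.card ((T : Subgroup G) ⊓ Q : Subgroup G) ≤ k →
      (T : Subgroup G) ⊓ Q ≠ ⊥ → (Q : Subgroup G) ≤ H := by
    intro k
    induction k using Nat.strong_induction_on with
    | _ k ih =>
    intro Q hk hne
    set D := (T : Subgroup G) ⊓ Q with hD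
    by_cases hQT : (Q : Subgroup G) ≤ T
    · exact hQT.trans (hTP ▸ hP'H)
    have hND : Subgroup.normalizer (D : Set G) ≤ H := hNP D (inf_le_left.trans hTP.le) hne
    haveI : Group.IsNilpotent (Q : Subgroup G) := Q.isPGroup'.isNilpotent
    have hlt : D.subgroupOf Q < ⊤ := lt_top_iff_ne_top.2 fun h =>
      hQT (le_of_eq (Q.is_maximal' T.isPGroup' ((Subgroup.subgroupOf_eq_top.1 h).trans inf_le_left)).symm)
    obtain ⟨y, hyN, hyD⟩ := SetLike.exists_of_lt (Group.normalizerCondition_of_isNilpotent _ hlt)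
    rw [← Subgroup.subgroupOf_normalizer_eq inf_le_right] at hyN
    set E : Subgroup G := (Q : Subgroup G) ⊓ Subgroup.normalizer (D : Set G) with hE
    obtain ⟨S, hS⟩ := ((Q.isPGroup'.to_le inf_le_left : IsPGroup 2 E).comap_of_injective H.subtype Subtype.val_injective).exists_le_sylow
    obtain ⟨h, rfl⟩ := MulAction.exists_smul_eq H P S
    have hEP : ∀ e ∈ E, (h : G)⁻¹ * e * h ∈ (T : Subgroup G) := by
      intro e he
      have h1 : (⟨e, hND he.2⟩ : H) ∈ MulAut.conj h • (P : Subgroup H) := hS he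
      rw [Subgroup.mem_pointwise_smul_iff_inv_smul_mem] at h1
      rw [hTP]
      exact ⟨_, h1, by simp [MulAut.smul_def]⟩
    have hDE : D < E := lt_of_le_of_ne (le_inf inf_le_right Subgroup.le_normalizer) fun e => hyD
      (show (y : G) ∈ D from e ▸ (⟨y.2, hyN⟩ : (y : G) ∈ E))
    have hle2 : E.map (MulAut.conj ((h : G)⁻¹)).toMonoidHom ≤ (T : Subgroup G) ⊓ (((h : G)⁻¹ • Q : Sylow 2 G) : Subgroup G) := by
      rintro _ ⟨e, he, rfl⟩
      refine ⟨show MulAut.conj ((h : G)⁻¹) e ∈ (T : Subgroup G) by rw [MulAut.conj_apply, inv_inv]; exact hEP e he, ?_⟩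
      show MulAut.conj ((h : G)⁻¹) • e ∈ MulAut.conj ((h : G)⁻¹) • (Q : Subgroup G)
      exact Subgroup.smul_mem_pointwise_smul _ _ _ he.1
    have hcard : Nat.card D < Nat.card ((T : Subgroup G) ⊓ (((h : G)⁻¹ • Q : Sylow 2 G) : Subgroup G) : Subgroup G) := by
      refine lt_of_lt_of_le ?_ (Subgroup.card_le_of_le hle2)
      rw [Subgroup.card_map_of_injective (MulEquiv.injective _)]
      refine lt_of_le_of_ne (Subgroup.card_le_of_le hDE.le) fun e => hDE.ne ?_
      exact Subgroup.eq_of_le_of_card_ge hDE.le e.ge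
    have hlim := Subgroup.card_le_of_le (inf_le_left : (T : Subgroup G) ⊓ (((h : G)⁻¹ • Q : Sylow 2 G) : Subgroup G) ≤ T)
    have h2 := ih _ (by omega) ((h : G)⁻¹ • Q) le_rfl (fun e => by
      rw [e, Subgroup.card_bot] at hcard
      exact absurd (Nat.card_pos (α := D)) (by omega))
    intro q hq
    have h3 : MulAut.conj ((h : G)⁻¹) • q ∈ (((h : G)⁻¹ • Q : Sylow 2 G) : Subgroup G) :=
      Subgroup.smul_mem_pointwise_smul _ _ _ hq
    have h4 := H.mul_mem (H.mul_mem h.2 (h2 h3)) (H.inv_mem h.2)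
    simpa [MulAut.smul_def, mul_assoc] using h4
  have heven : Even (Nat.card H) := by
    obtain ⟨k, hk⟩ := P.isPGroup'.exists_card_eq
    have hk0 : k ≠ 0 := by
      rintro rfl
      exact hP (Subgroup.eq_bot_of_card_eq _ (by simpa using hk))
    exact even_iff_two_dvd.2 ((dvd_pow_self 2 hk0).trans (hk ▸ Subgroup.card_subgroup_dvd_card _))
  -- conjugating an involution of `H` into `T` inside `H`
  have hinto : ∀ s ∈ H, orderOf s = 2 → ∃ h ∈ H, h * s * h⁻¹ ∈ (T : Subgroup G) := by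
    intro s hs ho
    obtain ⟨S, hS⟩ := (IsPGroup.of_card (G := Subgroup.zpowers (⟨s, hs⟩ : H)) (n := 1) (by rw [Nat.card_zpowers, Subgroup.orderOf_mk, ho, pow_one])).exists_le_sylow
    obtain ⟨h, rfl⟩ := MulAction.exists_smul_eq H P S
    have h1 : (⟨s, hs⟩ : H) ∈ MulAut.conj h • (P : Subgroup H) := hS (Subgroup.mem_zpowers _)
    rw [Subgroup.mem_pointwise_smul_iff_inv_smul_mem] at h1
    refine ⟨(h : G)⁻¹, H.inv_mem h.2, ?_⟩
    rw [hTP]
    exact ⟨_, h1, by simp [MulAut.smul_def]⟩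
  refine CfsgLib.Invol.stronglyEmbedded_of_forall hH heven fun t ht ho g hg => ?_
  obtain ⟨a, ha, hat⟩ := hinto t ht ho
  obtain ⟨b, hb, hbt⟩ := hinto _ hg (by rw [CfsgLib.Invol.orderOf_conj, ho])
  set c := b * g * a⁻¹ with hc
  set s := a * t * a⁻¹ with hs
  have hcs : c * s * c⁻¹ = b * (g * t * g⁻¹) * b⁻¹ := by rw [hc, hs]; group
  have hQ : ((c • T : Sylow 2 G) : Subgroup G) ≤ H := by
    refine hlink _ _ le_rfl fun e => ?_
    have h1 : c * s * c⁻¹ ∈ (T : Subgroup G) ⊓ ((c • T : Sylow 2 G) : Subgroup G) :=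
      ⟨hcs ▸ hbt, (hmemT c _).2 (by rw [show c⁻¹ * (c * s * c⁻¹) * c = s by group]; exact hat)⟩
    rw [e, Subgroup.mem_bot, conj_eq_one_iff, hs, conj_eq_one_iff] at h1
    exact CfsgLib.Invol.ne_one_of_orderOf ho h1
  obtain ⟨e, he⟩ := MulAction.exists_smul_eq H P ((c • T).subtype hQ)
  have hfix : (e : G)⁻¹ * c ∈ Subgroup.normalizer (T : Set G) := by
    rw [← Sylow.smul_eq_iff_mem_normalizer, mul_smul, inv_smul_eq_iff]
    refine Sylow.ext ?_
    have h1 : (MulAut.conj e • (P : Subgroup H)).map H.subtype = ((c • T : Sylow 2 G) : Subgroup G) := by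
      rw [show MulAut.conj e • (P : Subgroup H) = (((c • T).subtype hQ : Sylow 2 H) : Subgroup H) from congrArg Sylow.toSubgroup he,
        Sylow.coe_subtype, Subgroup.subgroupOf_map_subtype, inf_eq_left.2 hQ]
    rw [← h1]
    refine SetLike.ext fun x => ?_
    show x ∈ (MulAut.conj e • (P : Subgroup H)).map H.subtype ↔ x ∈ MulAut.conj (e : G) • (T : Subgroup G)
    rw [Subgroup.mem_pointwise_smul_iff_inv_smul_mem, hTP, hP']
    constructor
    · rintro ⟨y, hy, rfl⟩
      rw [SetLike.mem_coe, Subgroup.mem_pointwise_smul_iff_inv_smul_mem] at hy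
      exact ⟨_, hy, by simp [MulAut.smul_def, mul_assoc]⟩
    · rintro ⟨y, hy, hyx⟩
      refine ⟨MulAut.conj e • y, Subgroup.smul_mem_pointwise_smul _ _ _ hy, ?_⟩
      simp [MulAut.smul_def] at hyx ⊢
      rw [hyx]; group
  have hcH : c ∈ H := by
    have := H.mul_mem e.2 (hNP P' le_rfl hP'ne (show (e : G)⁻¹ * c ∈ Subgroup.normalizer ((P' : Subgroup G) : Set G) by
      rw [← hTP]; exact hfix))
    rwa [mul_inv_cancel_left] at this
  have := H.mul_mem (H.mul_mem (H.inv_mem hb) hcH) ha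
  rwa [hc, show b⁻¹ * (b * g * a⁻¹) * a = g by group] at this

end Cfsg.Agent.S0214
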