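import Cfsg.Statements.S0223
import Cfsg.Agent.Invol.StronglyEmbedded

set_option autoImplicit false
open Cfsg

namespace Cfsg.Agent.S0223

/-- Let H be a proper subgroup of even order of the finite group G. Then H is strongly embedded if and only if (i) C_G(t) ≤ H for every involution t of H and (ii) H controls fusion of its involutions: involutions of H conjugate in G are conjugate in H. -/
theorem result {G : Type*} [Group G] [Finite G] (H : Subgroup G) (hH : H ≠ ⊤) (heven : Even (Nat.card H)) : Cfsg.IsStronglyEmbedded H ↔ ((∀ t ∈ H, orderOf t = 2 → Subgroup.centralizer ({t} : Set G) ≤ H) ∧ (∀ t ∈ H, ∀ s ∈ H, orderOf t = 2 → orderOf s = 2 → IsConj t s → ∃ h ∈ H, h * t * h⁻¹ = s)) := by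
  constructor
  · intro hse
    refine ⟨fun t ht ho => CfsgLib.Invol.centralizer_le_of_stronglyEmbedded hse ho ht, fun t ht s hs hto _ hc => ?_⟩
    obtain ⟨g, hg⟩ := isConj_iff.1 hc
    exact ⟨g, CfsgLib.Invol.mem_of_conj_mem hse hto ht (hg ▸ hs), hg⟩
  · rintro ⟨hcen, hfus⟩
    refine CfsgLib.Invol.stronglyEmbedded_of_forall hH heven fun t ht ho g hg => ?_
    obtain ⟨h, hh, he⟩ := hfus t ht _ hg ho (by rw [CfsgLib.Invol.orderOf_conj, ho]) (isConj_iff.2 ⟨g, rfl⟩)
    have h1 : h⁻¹ * g ∈ H := hcen t ht ho (Subgroup.mem_centralizer_singleton_iff.2 (by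
      calc h⁻¹ * g * t = h⁻¹ * (g * t * g⁻¹) * g := by group
        _ = t * (h⁻¹ * g) := by rw [← he]; group))
    have := H.mul_mem hh h1
    rwa [mul_inv_cancel_left] at this

end Cfsg.Agent.S0223
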