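import Cfsg.Statements.S0224
import Cfsg.Agent.Invol.StronglyEmbedded
import Mathlib.GroupTheory.GroupAction.Quotient

set_option autoImplicit false
open Cfsg

namespace Cfsg.Agent.S0224

/-- Let H be a proper subgroup of even order of the finite group G. Then H is strongly embedded if and only if each involution of H fixes exactly one point (namely the coset H) in the action of G on the cosets of H. -/
theorem result {G : Type*} [Group G] [Finite G] (H : Subgroup G) (hH : H ≠ ⊤) (heven : Even (Nat.card H)) : Cfsg.IsStronglyEmbedded H ↔ ∀ t ∈ H, orderOf t = 2 → Nat.card {c : G ⧸ H // t • c = c} = 1 := by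
  have hfix : ∀ t g : G, t • (g : G ⧸ H) = (g : G ⧸ H) ↔ g⁻¹ * t * g ∈ H := fun t g => by
    rw [MulAction.Quotient.smul_coe, eq_comm, QuotientGroup.eq, smul_eq_mul, mul_assoc]
  constructor
  · intro hse t ht ho
    have hone : t • ((1 : G) : G ⧸ H) = ((1 : G) : G ⧸ H) := (hfix t 1).2 (by simpa using ht)
    have huniq : ∀ c : G ⧸ H, t • c = c → c = ((1 : G) : G ⧸ H) := by
      intro c hc
      obtain ⟨g, rfl⟩ := QuotientGroup.mk_surjective c
      have h1 := CfsgLib.Invol.mem_of_conj_mem hse ho ht (g := g⁻¹) (by rw [inv_inv]; exact (hfix t g).1 hc)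
      rw [QuotientGroup.eq, mul_one]
      exact h1
    rw [Nat.card_eq_one_iff_unique]
    exact ⟨⟨fun a b => Subtype.ext ((huniq _ a.2).trans (huniq _ b.2).symm)⟩, ⟨⟨_, hone⟩⟩⟩
  · intro h
    refine CfsgLib.Invol.stronglyEmbedded_of_forall hH heven fun t ht ho g hg => ?_
    have hsub := (Nat.card_eq_one_iff_unique.1 (h t ht ho)).1
    have h1 : (⟨((g⁻¹ : G) : G ⧸ H), (hfix t g⁻¹).2 (by rwa [inv_inv])⟩ : {c : G ⧸ H // t • c = c}) =
        ⟨((1 : G) : G ⧸ H), (hfix t 1).2 (by simpa using ht)⟩ := hsub.elim _ _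
    have h2 := congrArg Subtype.val h1
    rw [QuotientGroup.eq, inv_inv, mul_one] at h2
    exact h2

end Cfsg.Agent.S0224
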