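import Cfsg.Statements.S0234
import Cfsg.Agent.CharBasics.SqrtCount
import Cfsg.Agent.CharBasics.Abstract
import Cfsg.Agent.CharBasics.Central
import Cfsg.Agent.S4811

set_option autoImplicit false
open Cfsg CfsgLib.CharBasics
open scoped ComplexConjugate

namespace Cfsg.Agent.S0234

/-- In a finite simple group G of even order greater than 2, the number n of involutions satisfies 3n < |G|. -/
theorem result {G : Type*} [Group G] [Finite G] [IsSimpleGroup G] (heven : Even (Nat.card G)) (hgt : 2 < Nat.card G) : 3 * Nat.card {t : G // orderOf t = 2} < Nat.card G := by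
  classical
  haveI := Fintype.ofFinite G
  haveI := Fintype.ofFinite (IrrCharacter G)
  have hnab : commutator G = ⊤ := by
    rcases Subgroup.Normal.eq_bot_or_eq_top (inferInstance : (commutator G).Normal) with h | h
    · exfalso
      rw [commutator_def, Subgroup.commutator_eq_bot_iff_le_centralizer] at h
      letI : CommGroup G := { (inferInstance : Group G) with
        mul_comm := fun a b => (Subgroup.mem_centralizer_iff.1 (h (Subgroup.mem_top a)) b (Subgroup.mem_top b)).symm }
      have hp := IsSimpleGroup.prime_card (α := G)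
      exact hgt.ne' ((hp.eq_two_or_odd.resolve_right fun ho => by
        rw [Nat.even_iff] at heven; omega))
    · exact h
  have hdeg : ∀ χ : IrrCharacter G, χ ≠ oneChar → 3 ≤ charDegree (χ : G → ℂ) := by
    intro χ hχ
    have hc := isCharacter_of_irr χ.2
    have hker : charKer _ hc = ⊥ := by
      refine ((charKer_normal hc).eq_bot_or_eq_top).resolve_right fun htop => ?_
      have hm : ∀ g, (χ : G → ℂ) g = (χ : G → ℂ) 1 := fun g => by
        have : g ∈ charKer _ hc := htop ▸ Subgroup.mem_top g
        exact this
      have h0 := sum_irr_eq_zero χ.2 (fun e => hχ (Subtype.ext e))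
      rw [Finset.sum_congr rfl (fun g _ => hm g), Finset.sum_const, nsmul_eq_mul, mul_eq_zero, Nat.cast_eq_zero,
        Finset.card_univ] at h0
      exact h0.elim Fintype.card_ne_zero (apply_one_ne_zero χ.2)
    have hpos := charDegree_pos χ.2
    by_contra hlt
    have hlt' : charDegree (χ : G → ℂ) = 1 ∨ charDegree (χ : G → ℂ) = 2 := by omega
    rcases hlt' with h1 | h2
    · have hle : commutator G ≤ charKer _ hc := by
        rw [commutator_def, Subgroup.commutator_le]
        exact fun a _ b _ => Cfsg.Agent.S4811.apply_commutator_eq hc h1 a b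
      rw [hnab, hker] at hle
      exact hgt.not_ge (by
        rw [Nat.card_eq_one_iff_unique.2 ⟨⟨fun a b => ((Subgroup.mem_bot.1 (hle (Subgroup.mem_top a))).trans
          (Subgroup.mem_bot.1 (hle (Subgroup.mem_top b))).symm)⟩, inferInstance⟩]
        omega)
    · obtain ⟨n, ρ, hirr, hρ⟩ := χ.2
      have hn : n = 2 := by rw [← h2, ← hρ, charDegree_rep]; simp
      subst hn
      let M : G →* Matrix (Fin 2) (Fin 2) ℂ := (LinearMap.toMatrixAlgEquiv' (R := ℂ)).toMonoidHom.comp ρ
      have hMinj : ∀ g, M g = 1 → g = 1 := fun g hg => by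
        have h1 : ρ g = 1 := (LinearMap.toMatrixAlgEquiv' (R := ℂ)).injective (hg.trans (map_one _).symm)
        have : g ∈ charKer _ hc := by
          rw [mem_charKer, ← hρ]
          show LinearMap.trace ℂ _ (ρ g) = LinearMap.trace ℂ _ (ρ 1)
          rw [h1, map_one ρ]
        rw [hker, Subgroup.mem_bot] at this
        exact this
      let D : G →* ℂˣ := (Units.map Matrix.detMonoidHom).comp M.toHomUnits
      have hD : ∀ g, (M g).det = 1 := fun g => by
        have : g ∈ D.ker := Abelianization.commutator_subset_ker D (hnab ▸ Subgroup.mem_top g)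
        exact congrArg Units.val (MonoidHom.mem_ker.1 this)
      haveI : Fact (Nat.Prime 2) := ⟨Nat.prime_two⟩
      obtain ⟨t, ht⟩ := exists_prime_orderOf_dvd_card' 2 (G := G) heven.two_dvd
      have htt : M t * M t = 1 := by
        rw [← map_mul, show t * t = 1 by rw [← sq, ← ht, pow_orderOf_eq_one], map_one]
      have hsc : M t = ((M t) 0 0) • (1 : Matrix (Fin 2) (Fin 2) ℂ) := by
        have hadj : (M t).adjugate = M t := by
          calc (M t).adjugate = (M t).adjugate * (M t * M t) := by rw [htt, mul_one]
            _ = M t := by rw [← mul_assoc, Matrix.adjugate_mul, hD, one_smul, one_mul]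
        rw [Matrix.adjugate_fin_two] at hadj
        have e01 := congrFun (congrFun hadj 0) 1
        have e10 := congrFun (congrFun hadj 1) 0
        have e00 := congrFun (congrFun hadj 0) 0
        simp at e01 e10 e00
        ext i j
        fin_cases i <;> fin_cases j <;> simp <;> first
          | exact e00
          | linear_combination (-1/2 : ℂ) * e01
          | linear_combination (-1/2 : ℂ) * e10
      have hcent : t ∈ Subgroup.center G := by
        rw [Subgroup.mem_center_iff]
        intro g
        have : M (g * t * g⁻¹ * t⁻¹) = 1 := by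
          have h3 : M (g * t * g⁻¹) = M t := by
            rw [map_mul, map_mul, hsc, mul_smul_comm, mul_one, smul_mul_assoc, ← map_mul, mul_inv_cancel, map_one]
          rw [map_mul, h3, ← map_mul, mul_inv_cancel, map_one]
        have h4 := hMinj _ this
        rw [mul_inv_eq_one, mul_inv_eq_iff_eq_mul] at h4
        exact h4
      rcases Subgroup.Normal.eq_bot_or_eq_top (inferInstance : (Subgroup.center G).Normal) with hb | htop
      · rw [hb, Subgroup.mem_bot] at hcent
        rw [hcent, orderOf_one] at ht
        omega
      · have : commutator G = ⊥ := by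
          rw [commutator_def, Subgroup.commutator_eq_bot_iff_le_centralizer, ← htop,
            Subgroup.le_centralizer_iff, htop]
          exact fun a _ => Subgroup.mem_centralizer_iff.2 fun b hb => Subgroup.mem_center_iff.1 (htop ▸ Subgroup.mem_top a) b
        rw [hnab] at this
        exact hgt.not_ge (by
          rw [← Subgroup.card_top (G := G), this, Subgroup.card_bot]; omega)
  have hsc := sqrt_count (1 : G)
  have hroots : Nat.card {u : G // u * u = 1} = Nat.card {t : G // orderOf t = 2} + 1 := by
    simp only [Nat.card_eq_fintype_card, Fintype.card_subtype]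
    rw [show (Finset.univ.filter fun u : G => u * u = 1) = insert 1 (Finset.univ.filter fun t : G => orderOf t = 2) by
      ext u
      simp only [Finset.mem_filter, Finset.mem_univ, true_and, Finset.mem_insert]
      constructor
      · intro h
        by_cases h1 : u = 1
        · exact Or.inl h1
        · exact Or.inr (orderOf_eq_prime (by rw [sq, h]) h1)
      · rintro (rfl | h)
        · simp
        · rw [← sq, ← h, pow_orderOf_eq_one]]
    rw [Finset.card_insert_of_notMem (by simp)]
  rw [hroots] at hsc
  have hre := congrArg Complex.re hsc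
  rw [Complex.natCast_re, Complex.re_sum] at hre
  have hterm : ∀ χ : IrrCharacter G, χ ≠ oneChar →
      3 * (CfsgLib.BrauerInd.ind (χ : G → ℂ) * (χ : G → ℂ) 1).re ≤ ((charDegree (χ : G → ℂ) ^ 2 : ℕ) : ℝ) := by
    intro χ hχ
    have h3 : (3 : ℝ) ≤ (charDegree (χ : G → ℂ) : ℝ) := by exact_mod_cast hdeg χ hχ
    rw [apply_one (isCharacter_of_irr χ.2)]
    rcases (CfsgLib.BrauerInd.fs_trichotomy χ.2).1 with e | e | e <;> rw [e] <;> simp <;> nlinarith
  have hone : (CfsgLib.BrauerInd.ind ((oneChar : IrrCharacter G) : G → ℂ) *
      ((oneChar : IrrCharacter G) : G → ℂ) 1).re = 1 := by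
    have : CfsgLib.BrauerInd.ind ((oneChar : IrrCharacter G) : G → ℂ) = 1 := by
      simp [CfsgLib.BrauerInd.ind, oneChar_apply]
    rw [this, oneChar_apply, mul_one, Complex.one_re]
  have hsum : ∑ χ : IrrCharacter G, charDegree (χ : G → ℂ) ^ 2 = Nat.card G := by
    have h := sum_sq_degree (G := G)
    exact_mod_cast h
  have hd1 : charDegree ((oneChar : IrrCharacter G) : G → ℂ) = 1 := by simp [charDegree, oneChar_apply]
  rw [← Finset.add_sum_erase _ _ (Finset.mem_univ oneChar), hone] at hre
  rw [← Finset.add_sum_erase _ _ (Finset.mem_univ oneChar), hd1, one_pow] at hsum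
  have hle : 3 * ∑ χ ∈ Finset.univ.erase (oneChar : IrrCharacter G), (CfsgLib.BrauerInd.ind (χ : G → ℂ) * (χ : G → ℂ) 1).re ≤
      ((∑ χ ∈ Finset.univ.erase (oneChar : IrrCharacter G), charDegree (χ : G → ℂ) ^ 2 : ℕ) : ℝ) := by
    rw [Finset.mul_sum, Nat.cast_sum]
    exact Finset.sum_le_sum fun χ hχ => hterm χ (Finset.ne_of_mem_erase hχ)
  push_cast at hre
  have : ((3 * Nat.card {t : G // orderOf t = 2} : ℕ) : ℝ) < (Nat.card G : ℝ) := by
    rw [← hsum]
    push_cast at hle ⊢
    linarith
  exact_mod_cast this

end Cfsg.Agent.S0234
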