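import Cfsg.Statements.S0286
import Cfsg.Agent.OrthOrder.Orders
-- import your own Cfsg.Agent.* helpers here

set_option autoImplicit false
open Cfsg

namespace Cfsg.Agent.S0286

/-- |GO_{2m+1}(q)| = 2 q^(m^2) prod_{i=1}^{m} (q^(2i) - 1) for q odd. -/
theorem result {F : Type*} [Field F] [Fintype F] {q : ℕ} (hF : Fintype.card F = q) (hodd : Odd q) (m : ℕ) : Nat.card (Cfsg.isometryGroup F (Cfsg.quadFormOdd m F)) = 2 * q ^ (m ^ 2) * ∏ i ∈ Finset.range m, (q ^ (2 * (i + 1)) - 1) := by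
  have h2 : (2 : F) ≠ 0 := fun h => by
    have h1 := FiniteField.even_card_of_char_two (F := F)
      (ringChar.eq_iff.2 (CharTwo.of_one_ne_zero_of_two_eq_zero one_ne_zero h))
    rw [hF] at h1
    obtain ⟨k, hk⟩ := hodd
    omega
  rw [CfsgLib.OrthOrder.natCard_isometryGroup _ (CfsgLib.Forms.coe_quadOdd F m),
    CfsgLib.OrthOrder.card_isom_odd h2, hF]

end Cfsg.Agent.S0286
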