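import Cfsg.Statements.S0885
import Cfsg.Agent.ZGrp.Feit
import Cfsg.Agent.S0339

set_option autoImplicit false
open Cfsg

namespace Cfsg.Agent.S0885

universe w₁ w₂

theorem main : ∀ (n : ℕ) (G : Type w₁) (Ω : Type w₂) [Group G] [Fintype G] [MulAction G Ω] [Fintype Ω],
    Nat.card G = n → Cfsg.IsZassenhausGroup G Ω → ∀ {a b : Ω}, a ≠ b →
    Odd (Nat.card (CfsgLib.ZGrp.pst G a b)) → ∀ H : Subgroup G, H ≤ MulAction.stabilizer G a →
    Nat.card H + 1 = Fintype.card Ω → (∀ u ∈ H, u ≠ 1 → ∀ c : Ω, u • c = c → c = a) →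
    2 * Nat.card (CfsgLib.ZGrp.pst G a b) < Nat.card H - 1 →
    IsPGroup 2 H ∧ ¬ IsMulCommutative H ∧
      Nat.card (Abelianization H) ≤ 4 * Nat.card (CfsgLib.ZGrp.pst G a b) ^ 2 + 1 := by
  classical
  intro n
  induction n using Nat.strong_induction_on with
  | _ n ih =>
  intro G Ω _ _ _ _ hn hZ a b hab hodd H hHa hHcard hHfix hlt
  haveI : Nontrivial G := by
    obtain ⟨g, hg, -⟩ := hZ.2.2.2.1
    exact ⟨⟨g, 1, hg⟩⟩
  by_cases hsimp : IsSimpleGroup G
  · by_contra hbad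
    exact CfsgLib.ZGrp.feit_simple hZ hab hodd H hHa hHcard hHfix hlt hbad
  obtain ⟨N, hN, hN0, hN1⟩ : ∃ N : Subgroup G, N.Normal ∧ N ≠ ⊥ ∧ N ≠ ⊤ := by
    by_contra hc
    push Not at hc
    exact hsimp ⟨fun N hN => or_iff_not_imp_left.2 fun h0 => hc N hN h0⟩
  haveI := hN
  have hZN := Cfsg.Agent.S0339.result hZ N hN0
  -- an element of `N` fixing `a` and `b`
  obtain ⟨d, hdN, hd1, hdmem⟩ : ∃ d ∈ N, d ≠ 1 ∧ d ∈ CfsgLib.ZGrp.pst G a b := by
    obtain ⟨x, hxN, hx1, p, q, hpq, hxp, hxq⟩ := Cfsg.Agent.S0339.exists_fix_two hZ hN0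
    obtain ⟨g, hgp, hgq⟩ := CfsgLib.ZGrp.exists_move hZ hpq hab
    refine ⟨g * x * g⁻¹, hN.conj_mem x hxN g, fun e => hx1 (conj_eq_one_iff.1 e), CfsgLib.ZGrp.mem_pst.2 ⟨?_, ?_⟩⟩
    · rw [← hgp, mul_smul, mul_smul, inv_smul_smul, hxp]
    · rw [← hgq, mul_smul, mul_smul, inv_smul_smul, hxq]
  have hda := (CfsgLib.ZGrp.mem_pst.1 hdmem).1
  -- the kernel lies in `N`
  have hHN : H ≤ N := by
    let f : H → (H ⊓ N : Subgroup G) := fun k => ⟨(k : G)⁻¹ * (d * k * d⁻¹),
      H.mul_mem (H.inv_mem k.2) (CfsgLib.ZGrp.conj_kernel hZ hab H hHa hHcard hHfix hda k.2), by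
        have h1 : (k : G)⁻¹ * d * k ∈ N := by simpa using hN.conj_mem d hdN (k : G)⁻¹
        simpa [mul_assoc] using N.mul_mem h1 (N.inv_mem hdN)⟩
    have hf : Function.Injective f := fun k l he => by
      have he' : (k : G)⁻¹ * (d * k * d⁻¹) = (l : G)⁻¹ * (d * l * d⁻¹) := congrArg Subtype.val he
      have hu : d * ((k : G) * (l : G)⁻¹) = ((k : G) * (l : G)⁻¹) * d := by
        calc d * ((k : G) * (l : G)⁻¹) = (k : G) * ((k : G)⁻¹ * (d * k * d⁻¹)) * (d * (l : G)⁻¹ * d⁻¹) * d := by group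
          _ = (k : G) * ((l : G)⁻¹ * (d * l * d⁻¹)) * (d * (l : G)⁻¹ * d⁻¹) * d := by rw [he']
          _ = ((k : G) * (l : G)⁻¹) * d := by group
      by_contra hne
      have hu1 : (k : G) * (l : G)⁻¹ ≠ 1 := fun e => hne (Subtype.ext (mul_inv_eq_one.1 e))
      have huH : (k : G) * (l : G)⁻¹ ∈ H := H.mul_mem k.2 (H.inv_mem l.2)
      have hfix : d • (((k : G) * (l : G)⁻¹) • b) = ((k : G) * (l : G)⁻¹) • b := by
        rw [smul_smul, hu, mul_smul, (CfsgLib.ZGrp.mem_pst.1 hdmem).2]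
      rcases CfsgLib.ZGrp.eq_or_eq_of_fix hZ hab hdmem hd1 hfix with h2 | h2
      · exact hab (MulAction.injective ((k : G) * (l : G)⁻¹) (((MulAction.mem_stabilizer_iff.1 (hHa huH))).trans h2.symm))
      · exact hab (hHfix _ huH hu1 b h2).symm
    have hcard : Nat.card H ≤ Nat.card (H ⊓ N : Subgroup G) := Nat.card_le_card_of_injective f hf
    have := Subgroup.eq_of_le_of_card_ge (inf_le_left : H ⊓ N ≤ H) hcard
    exact this ▸ inf_le_right
  set H' : Subgroup N := H.subgroupOf N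
  have hH'card : Nat.card H' = Nat.card H := Nat.card_congr (Subgroup.subgroupOfEquivOfLe hHN).toEquiv
  have hdvd : Nat.card (CfsgLib.ZGrp.pst N a b) ∣ Nat.card (CfsgLib.ZGrp.pst G a b) := by
    refine Subgroup.card_dvd_of_injective
      (f := { toFun := fun x : CfsgLib.ZGrp.pst N a b => (⟨((x : N) : G), CfsgLib.ZGrp.mem_pst.2
                (CfsgLib.ZGrp.mem_pst.1 x.2)⟩ : CfsgLib.ZGrp.pst G a b)
              map_one' := rfl
              map_mul' := fun _ _ => rfl }) fun x y h => ?_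
    exact Subtype.ext (Subtype.ext (congrArg (fun z : CfsgLib.ZGrp.pst G a b => (z : G)) h))
  have hle := Nat.le_of_dvd hodd.pos hdvd
  have hlt' : Nat.card N < n := by
    rw [← hn]
    exact lt_of_le_of_ne (Nat.le_of_dvd Nat.card_pos N.card_subgroup_dvd_card) fun e => hN1 (Subgroup.eq_top_of_card_eq N e)
  haveI := Fintype.ofFinite N
  obtain ⟨h2, hna, hab2⟩ := ih (Nat.card N) hlt' N Ω rfl hZN hab (hodd.of_dvd_nat hdvd) H'
    (fun x hx => MulAction.mem_stabilizer_iff.2 (MulAction.mem_stabilizer_iff.1 (hHa (Subgroup.mem_subgroupOf.1 hx))))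
    (by rw [hH'card, hHcard]) (fun u hu hu1 c hc => hHfix (u : G) (Subgroup.mem_subgroupOf.1 hu) (fun e => hu1 (Subtype.ext e)) c hc)
    (by rw [hH'card]; omega)
  let eH : H' ≃* H := Subgroup.subgroupOfEquivOfLe hHN
  refine ⟨h2.of_equiv eH, fun hc => hna ⟨⟨fun x y => eH.injective (by rw [map_mul, map_mul]; exact hc.1.1 _ _)⟩⟩, ?_⟩
  rw [← CfsgLib.OddCoh.card_abelianization_congr eH]
  exact hab2.trans (Nat.add_le_add_right (Nat.mul_le_mul_left 4 (Nat.pow_le_pow_left hle 2)) 1)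

/-- Let G be a finite Zassenhaus group on Ω with h + 1 points whose two-point stabilizer E has odd order e, and let H be the subgroup of the stabilizer of a consisting of the identity and the elements fixing no point other than a (given here as a subgroup of the stabilizer of order one less than the number of points whose non-identity elements fix only a; it is the Frobenius kernel of the stabilizer). Then either h - 1 ≤ 2 * e, or H is a non-abelian 2-group whose commutator subgroup has index at most 4 * e ^ 2 + 1 in H. -/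
theorem result {G Ω : Type*} [Group G] [Finite G] [MulAction G Ω] [Fintype Ω] (hZ : Cfsg.IsZassenhausGroup G Ω) {a b : Ω} (hab : a ≠ b) (h e : ℕ) (hh : Fintype.card Ω = h + 1) (he : Nat.card ↥(MulAction.stabilizer G a ⊓ MulAction.stabilizer G b : Subgroup G) = e) (hodd : Odd e) (H : Subgroup G) (hHa : H ≤ MulAction.stabilizer G a) (hHcard : Nat.card H + 1 = Fintype.card Ω) (hHfix : ∀ u ∈ H, u ≠ 1 → ∀ c : Ω, u • c = c → c = a) : h - 1 ≤ 2 * e ∨ (IsPGroup 2 H ∧ (∃ u v : H, u * v ≠ v * u) ∧ (commutator H).index ≤ 4 * e ^ 2 + 1) := by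
  classical
  haveI := Fintype.ofFinite G
  rcases le_or_gt (h - 1) (2 * e) with hle | hgt
  · exact Or.inl hle
  have hH : Nat.card H = h := by omega
  obtain ⟨h2, hna, hab2⟩ := main (Nat.card G) G Ω rfl hZ hab (he ▸ hodd) H hHa hHcard hHfix (by rw [hH]; simp only [CfsgLib.ZGrp.pst, he]; omega)
  refine Or.inr ⟨h2, ?_, ?_⟩
  · by_contra hc
    push Not at hc
    exact hna ⟨⟨hc⟩⟩
  · simp only [CfsgLib.ZGrp.pst, he] at hab2
    exact hab2

end Cfsg.Agent.S0885
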