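import Cfsg.Statements.S0346
import Cfsg.Agent.S0885
import Cfsg.Agent.S0738
import Cfsg.Agent.S0741
import Cfsg.Agent.Zas.Kernel
import Cfsg.Agent.S0339

set_option autoImplicit false
open Cfsg

namespace Cfsg.Agent.S0346

/-- The number of points of a finite simple Zassenhaus group is `p^k + 1` for some prime power `p^k` (the regular normal
subgroup of a point stabiliser is a `p`-group). -/
theorem result {G Ω : Type*} [Group G] [Finite G] [MulAction G Ω] [Fintype Ω]
    (hZ : Cfsg.IsZassenhausGroup G Ω) [IsSimpleGroup G] :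
    IsPrimePow (Fintype.card Ω - 1) := by
  classical
  haveI := Fintype.ofFinite G
  haveI := Cfsg.Agent.S0339.nontrivial_of_zassenhaus hZ
  obtain ⟨a, b, hab⟩ := exists_pair_ne Ω
  have hn := CfsgLib.ZGrp.four_le_card hZ hab
  obtain ⟨F, hFle, hFn, hreg⟩ := CfsgLib.Zas.exists_kernel hZ hab
  -- the kernel as an abstract regular subgroup
  have hFfix : ∀ u ∈ F, u ≠ 1 → ∀ c : Ω, u • c = c → c = a := fun u hu hu1 c hc => by
    by_contra hca
    obtain ⟨v, -, hv⟩ := hreg c c hca hca
    exact hu1 (congrArg Subtype.val ((hv ⟨u, hu⟩ hc).trans (hv 1 (one_smul _ _)).symm))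
  have hFcard : Nat.card F + 1 = Fintype.card Ω := by
    have hne : ∀ u : F, (u : G) • b ≠ a := fun u h => hab (MulAction.injective (u : G)
      ((MulAction.mem_stabilizer_iff.1 (hFle u.2)).trans h.symm))
    have hbij : Function.Bijective fun u : F => (⟨(u : G) • b, hne u⟩ : {c : Ω // c ≠ a}) := by
      refine ⟨fun u v h => ?_, fun c => ?_⟩
      · obtain ⟨w, -, hw⟩ := hreg b ((u : G) • b) hab.symm (hne u)
        exact (hw u rfl).trans (hw v (congrArg Subtype.val h).symm).symm
      · obtain ⟨w, hw, -⟩ := hreg b c hab.symm c.2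
        exact ⟨w, Subtype.ext hw⟩
    rw [Nat.card_eq_of_bijective _ hbij, Nat.card_eq_fintype_card, Fintype.card_subtype_compl, Fintype.card_subtype_eq]
    omega
  set e := Nat.card ↥(MulAction.stabilizer G a ⊓ MulAction.stabilizer G b : Subgroup G) with he
  by_cases hhalf : Fintype.card Ω - 2 ≤ 2 * e
  · obtain ⟨-, p, f, hp, -, hcard⟩ := Cfsg.Agent.S0738.result hZ hab hhalf F hFle hFn hreg
    rw [hcard, Nat.add_sub_cancel]
    refine (isPrimePow_nat_iff _).2 ⟨p, f, hp, Nat.pos_of_ne_zero fun h0 => ?_, rfl⟩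
    rw [h0, pow_zero] at hcard
    omega
  have hodd : Odd e := Nat.not_even_iff_odd.1 fun hev => hhalf (Cfsg.Agent.S0741.result hZ hab hev)
  rcases Cfsg.Agent.S0885.result hZ hab (Fintype.card Ω - 1) e (by omega) rfl hodd F hFle hFcard hFfix with h | ⟨h2, -, -⟩
  · omega
  · haveI := Fact.mk Nat.prime_two
    obtain ⟨n, hn2⟩ := IsPGroup.iff_card.1 h2
    have : Fintype.card Ω - 1 = 2 ^ n := by omega
    rw [this]
    refine (isPrimePow_nat_iff _).2 ⟨2, n, Nat.prime_two, Nat.pos_of_ne_zero fun h0 => ?_, rfl⟩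
    rw [h0, pow_zero] at hn2
    omega

end Cfsg.Agent.S0346
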