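import Cfsg.Statements.S0340
import Cfsg.Agent.ZGrp.SuzFinal
import Cfsg.Agent.Zas.Kernel
import Cfsg.Agent.S0344
import Cfsg.Agent.S0346
import Cfsg.Agent.S0731
import Cfsg.Agent.S0738
import Cfsg.Agent.S0885
import Cfsg.Agent.CA.SharpThree


set_option autoImplicit false
open Cfsg

namespace Cfsg.Agent.S0340

/-- Classification of Zassenhaus groups, simple case, order-level form: a finite simple Zassenhaus group is
isomorphic to `PSL₂(F)` for some finite field `F` or is simple of Suzuki order. -/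
theorem result {G Ω : Type*} [Group G] [Finite G] [MulAction G Ω]
    [Finite Ω] (hZ : Cfsg.IsZassenhausGroup G Ω) [IsSimpleGroup G] :
    (∃ (F : Type) (_ : Field F) (_ : Fintype F), Nonempty (G ≃* Matrix.ProjectiveSpecialLinearGroup (Fin 2) F)) ∨ Cfsg.IsSuzuki G := by
  classical
  haveI := Fintype.ofFinite Ω
  obtain ⟨a, b, hab⟩ : ∃ a b : Ω, a ≠ b := by
    obtain ⟨-, -, -, ⟨g, -, p, q, hpq, -, -⟩, -⟩ := hZ
    exact ⟨p, q, hpq⟩
  rcases Nat.even_or_odd (Nat.card ↥(MulAction.stabilizer G a ⊓ MulAction.stabilizer G b : Subgroup G)) with hev | hodd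
  · obtain ⟨K, hK, hKf, -, hiso⟩ := Cfsg.Agent.S0344.result hZ hab hev
    exact Or.inl ⟨K, hK, hKf, hiso⟩
  obtain ⟨F, hFle, hFn, hreg⟩ := CfsgLib.Zas.exists_kernel hZ hab
  obtain ⟨hfix, hcard⟩ := CfsgLib.ZGrp.regular_facts hab F hFle hreg
  have hn := CfsgLib.ZGrp.four_le_card hZ hab
  by_cases hab' : IsMulCommutative F
  · rcases Cfsg.Agent.S0731.result hZ a F hFle hFn hab' hreg with ⟨h3, hsharp⟩ | ⟨K, hK, hKf, -, hiso⟩
    · haveI := h3
      left
      obtain ⟨p, i, hp, hi, hpi⟩ := (isPrimePow_nat_iff _).1 (Cfsg.Agent.S0346.result hZ)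
      have hc : Nat.card G = Fintype.card Ω * (Fintype.card Ω - 1) * (Fintype.card Ω - 2) := by
        have hq : Nat.card Ω = (Fintype.card Ω - 1) + 1 := by rw [Nat.card_eq_fintype_card]; omega
        rw [CfsgLib.CA.card_sharp_three (G := G) hsharp hq (by omega)]
        obtain ⟨j, hj⟩ : ∃ j, Fintype.card Ω = j + 3 := ⟨Fintype.card Ω - 3, by omega⟩
        simp only [hj, show j + 3 - 1 = j + 2 from rfl, show j + 3 - 2 = j + 1 from rfl, show j + 2 - 1 = j + 1 from rfl]
      rw [CfsgLib.ZGrp.card_group hZ hab, ← mul_assoc] at hc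
      have he := Nat.eq_of_mul_eq_mul_left (Nat.mul_pos (by omega) (by omega)) hc
      have he' : Odd (Fintype.card Ω - 2) := by rw [← he]; exact hodd
      obtain ⟨j, hj⟩ := he'
      have hp2 : p = 2 := by
        by_contra h2
        obtain ⟨c, hc'⟩ := (hp.odd_of_ne_two h2).pow (n := i)
        omega
      subst hp2
      have hi2 : 2 ≤ i := by
        by_contra h
        rw [show i = 1 by omega, pow_one] at hpi
        omega
      obtain ⟨K, hK, hKf, -, hiso⟩ := CfsgLib.CA.iso_psl_of_sharp_three (G := G) (α := Ω) hsharp hi2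
        (by rw [Nat.card_eq_fintype_card]; omega)
      exact ⟨K, hK, hKf, hiso⟩
    · exact Or.inl ⟨K, hK, hKf, hiso⟩
  · right
    have hlt : ¬ Fintype.card Ω - 2 ≤ 2 * Nat.card ↥(MulAction.stabilizer G a ⊓ MulAction.stabilizer G b : Subgroup G) :=
      fun h => hab' (Cfsg.Agent.S0738.result hZ hab h F hFle hFn hreg).1
    rcases Cfsg.Agent.S0885.result hZ hab (Fintype.card Ω - 1) _ (by omega) rfl hodd F hFle hcard hfix with h | ⟨h2, hna, -⟩
    · omega
    · exact CfsgLib.ZGrp.isSuzuki_of_kernel hZ hab F hFle hreg h2 hna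

end Cfsg.Agent.S0340
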