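import Cfsg.Statements.S0652
import Cfsg.Agent.ZJ.Replacement
-- import your own Cfsg.Agent.* helpers here

set_option autoImplicit false
open Cfsg

namespace Cfsg.Agent.S0652

/-- For odd p and D normal in the p-group S, the elementary abelian subgroups of D of largest order satisfy the replacement property for class-2 normal subgroups of S. -/
theorem result {S : Type*} [Group S] [Finite S] {p : ℕ} [Fact p.Prime] (hS : IsPGroup p S) (hp : p ≠ 2) (D : Subgroup S) [D.Normal] : ∀ (B : Subgroup S) [B.Normal], ⁅⁅B, B⁆, B⁆ = ⊥ → (∃ U ∈ (Set.image (fun A : Subgroup ↥D => A.map D.subtype) (Cfsg.maxElementaryAbelianSubgroups p ↥D)), ⁅B, B⁆ ≤ U ∧ ¬ B ≤ U) → ∃ A ∈ (Set.image (fun A : Subgroup ↥D => A.map D.subtype) (Cfsg.maxElementaryAbelianSubgroups p ↥D)), ⁅B, B⁆ ≤ A ∧ ¬ B ≤ A ∧ B ≤ Subgroup.normalizer (A : Set S) := by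
  intro B _ hB2 hU
  have hset : ∀ A : Subgroup S, A ∈ CfsgLib.ZJ.maxGood p true D ↔
      A ∈ Set.image (fun A : Subgroup ↥D => A.map D.subtype) (Cfsg.maxElementaryAbelianSubgroups p ↥D) := by
    intro A
    rw [← CfsgLib.ZJ.maxGood_top_el (p := p)]
    constructor
    · intro hA
      refine ⟨A.subgroupOf D, (CfsgLib.ZJ.maxGood_top _).1 ?_, Subgroup.map_subgroupOf_eq_of_le hA.1⟩
      rwa [Subgroup.map_subgroupOf_eq_of_le hA.1]
    · rintro ⟨A', hA', rfl⟩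
      exact (CfsgLib.ZJ.maxGood_top A').2 hA'
  obtain ⟨U, hU, hBU, hnU⟩ := hU
  obtain ⟨A, ⟨hA, hBA, hnA⟩, hmax⟩ := Set.exists_max_image
    {A : Subgroup S | A ∈ CfsgLib.ZJ.maxGood p true D ∧ ⁅B, B⁆ ≤ A ∧ ¬ B ≤ A}
    (fun A => Nat.card (A ⊓ B : Subgroup S)) (Set.toFinite _) ⟨U, (hset U).2 hU, hBU, hnU⟩
  refine ⟨A, (hset A).1 hA, hBA, hnA, ?_⟩
  by_contra hn
  obtain ⟨A', hA', hlt, hn'⟩ := CfsgLib.ZJ.exists_maxGood_gt hA (hS.to_subgroup (A ⊔ B))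
    (le_top.trans_eq (Subgroup.normalizer_eq_top _).symm)
    (le_top.trans_eq (Subgroup.normalizer_eq_top _).symm) hBA hB2 (Or.inl hp) hn
  have h1 : ⁅B, B⁆ ≤ A' := fun x hx => (hlt.le ⟨hBA hx, Subgroup.commutator_le_self B hx⟩).1
  exact hlt.ne (Subgroup.eq_of_le_of_card_ge hlt.le (hmax A' ⟨hA', h1, fun h => hn (h.trans hn')⟩))

end Cfsg.Agent.S0652
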