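import Cfsg.Statements.S0752
import Mathlib

set_option autoImplicit false
open Cfsg

namespace Cfsg.Agent.S0752

/-- Classification of alternating forms: for an alternating bilinear form B on a finite-dimensional space over any field there is a basis indexed by (Fin m ⊕ Fin m) ⊕ Fin k such that B (e_i, f_j) = δ_ij, the e's are pairwise orthogonal, the f's are pairwise orthogonal, and the last k basis vectors are orthogonal to everything (they span the radical). -/
theorem result {F V : Type*} [Field F] [AddCommGroup V] [Module F V] [FiniteDimensional F V] (B : LinearMap.BilinForm F V) (hA : B.IsAlt) : ∃ (m k : ℕ) (b : Module.Basis ((Fin m ⊕ Fin m) ⊕ Fin k) F V), (∀ i j : Fin m, B (b (Sum.inl (Sum.inl i))) (b (Sum.inl (Sum.inr j))) = if i = j then 1 else 0) ∧ (∀ i j : Fin m, B (b (Sum.inl (Sum.inl i))) (b (Sum.inl (Sum.inl j))) = 0) ∧ (∀ i j : Fin m, B (b (Sum.inl (Sum.inr i))) (b (Sum.inl (Sum.inr j))) = 0) ∧ (∀ (j : Fin k) (v : V), B (b (Sum.inr j)) v = 0) := by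
  classical
  let HypFam : ℕ → Prop := fun m => ∃ e f : Fin m → V, (∀ i j, B (e i) (f j) = if i = j then 1 else 0) ∧
    (∀ i j, B (e i) (e j) = 0) ∧ ∀ i j, B (f i) (f j) = 0
  have hneg : ∀ x y, B x y = - B y x := fun x y => (LinearMap.IsAlt.neg hA y x).symm
  have hbound : ∀ m, HypFam m → m ≤ Module.finrank F V := by
    rintro m ⟨e, f, hef, -, -⟩
    have hli : LinearIndependent F e := by
      rw [Fintype.linearIndependent_iff]
      intro c hc i
      have := congrArg (fun v => B v (f i)) hc
      simpa [map_sum, hef] using this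
    simpa using hli.fintype_card_le_finrank
  obtain ⟨m, ⟨e, f, hef, hee, hff⟩, hmax⟩ : ∃ m, HypFam m ∧ ∀ m', HypFam m' → m' ≤ m := by
    have hne : ({m | HypFam m} : Set ℕ).Nonempty :=
      ⟨0, Fin.elim0, Fin.elim0, fun i => i.elim0, fun i => i.elim0, fun i => i.elim0⟩
    obtain ⟨m, hm, hmx⟩ := Set.exists_max_image {m | HypFam m} id
      ((Set.finite_Iic (Module.finrank F V)).subset fun m hm => hbound m hm) hne
    exact ⟨m, hm, hmx⟩
  have hfe : ∀ i j, B (f i) (e j) = if i = j then -1 else 0 := by
    intro i j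
    rw [hneg, hef]
    by_cases h : i = j
    · subst h; simp
    · simp [h, Ne.symm h]
  let P : Submodule F V :=
    { carrier := {v | (∀ i, B v (e i) = 0) ∧ ∀ i, B v (f i) = 0}
      add_mem' := fun {u v} hu hv => ⟨fun i => by rw [map_add, LinearMap.add_apply, hu.1, hv.1, add_zero],
        fun i => by rw [map_add, LinearMap.add_apply, hu.2, hv.2, add_zero]⟩
      zero_mem' := ⟨fun i => by simp, fun i => by simp⟩
      smul_mem' := fun c u hu => ⟨fun i => by simp [hu.1], fun i => by simp [hu.2]⟩ }
  have hP : ∀ x ∈ P, ∀ y ∈ P, B x y = 0 := by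
    intro x hx y hy
    by_contra hxy
    have hy' : ∀ c : F, c • y ∈ P := fun c => P.smul_mem c hy
    have hm1 : HypFam (m + 1) := by
      refine ⟨Fin.snoc e x, Fin.snoc f ((B x y)⁻¹ • y), ?_, ?_, ?_⟩
      · intro i j
        refine Fin.lastCases ?_ (fun i => ?_) i <;> refine Fin.lastCases ?_ (fun j => ?_) j
        · simp [inv_mul_cancel₀ hxy]
        · simp [hx.2, Ne.symm (Fin.castSucc_ne_last j)]
        · simp [hneg (e i) y, hy.1]
        · simp [hef]
      · intro i j
        refine Fin.lastCases ?_ (fun i => ?_) i <;> refine Fin.lastCases ?_ (fun j => ?_) j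
        · simp [hA x]
        · simp [hx.1]
        · simp [hneg (e i) x, hx.1]
        · simp [hee]
      · intro i j
        refine Fin.lastCases ?_ (fun i => ?_) i <;> refine Fin.lastCases ?_ (fun j => ?_) j
        · simp [hA y]
        · simp [hy.2]
        · simp [hneg (f i) y, hy.2]
        · simp [hff]
    have := hmax _ hm1
    omega
  have hdec : ∀ v : V, v - ∑ i, B v (f i) • e i + ∑ i, B v (e i) • f i ∈ P := by
    intro v
    constructor <;> intro j <;>
      simp [map_sum, map_sub, map_add, hef, hfe, hee, hff]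
  have hrad : ∀ x ∈ P, ∀ v, B x v = 0 := by
    intro x hx v
    have := hP x hx _ (hdec v)
    simpa [map_sum, map_sub, map_add, hx.1, hx.2] using this
  let bP := Module.finBasis F P
  let w : (Fin m ⊕ Fin m) ⊕ Fin (Module.finrank F P) → V :=
    Sum.elim (Sum.elim e f) (fun j => (bP j : V))
  have hli : LinearIndependent F w := by
    rw [Fintype.linearIndependent_iff]
    intro c hc
    simp only [Fintype.sum_sum_type, w, Sum.elim_inl, Sum.elim_inr] at hc
    have h1 : ∀ i, c (Sum.inl (Sum.inl i)) = 0 := by
      intro i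
      have := congrArg (fun v => B v (f i)) hc
      simpa [map_sum, map_add, hef, hff, (bP _).2.2 i] using this
    have h2 : ∀ i, c (Sum.inl (Sum.inr i)) = 0 := by
      intro i
      have := congrArg (fun v => B v (e i)) hc
      simpa [map_sum, map_add, hfe, hee, (bP _).2.1 i] using this
    simp only [h1, h2, zero_smul, Finset.sum_const_zero, zero_add] at hc
    have h3 := Fintype.linearIndependent_iff.mp bP.linearIndependent (fun j => c (Sum.inr j))
      (Subtype.ext (by simpa using hc))
    rintro ((i | i) | j)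
    exacts [h1 i, h2 i, h3 j]
  have hspan : ⊤ ≤ Submodule.span F (Set.range w) := by
    intro v _
    have hPle : P ≤ Submodule.span F (Set.range w) := by
      intro x hx
      have h := congrArg Subtype.val (bP.sum_repr ⟨x, hx⟩)
      simp only [Submodule.coe_sum, Submodule.coe_smul] at h
      rw [← h]
      exact Submodule.sum_mem _ fun j _ => Submodule.smul_mem _ _ (Submodule.subset_span ⟨Sum.inr j, rfl⟩)
    have h := hPle (hdec v)
    have e1 : ∑ i, B v (f i) • e i ∈ Submodule.span F (Set.range w) :=
      Submodule.sum_mem _ fun i _ => Submodule.smul_mem _ _ (Submodule.subset_span ⟨Sum.inl (Sum.inl i), rfl⟩)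
    have e2 : ∑ i, B v (e i) • f i ∈ Submodule.span F (Set.range w) :=
      Submodule.sum_mem _ fun i _ => Submodule.smul_mem _ _ (Submodule.subset_span ⟨Sum.inl (Sum.inr i), rfl⟩)
    have e3 := Submodule.add_mem _ (Submodule.sub_mem _ h e2) e1
    convert e3 using 1
    abel
  refine ⟨m, Module.finrank F P, Module.Basis.mk hli hspan, ?_, ?_, ?_, ?_⟩
  · intro i j; simp [w, hef]
  · intro i j; simp [w, hee]
  · intro i j; simp [w, hff]
  · intro j v; simpa [w] using hrad _ (bP j).2 v

end Cfsg.Agent.S0752
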