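import Cfsg.Statements.S0851
import Cfsg.Agent.Exceptional.CoherentTI
import Cfsg.Agent.Exceptional.Coherent

set_option autoImplicit false
open Cfsg

namespace Cfsg.Agent.S0851

/-- Let K be a subgroup of the finite group G that meets each conjugate by an element outside its normalizer N trivially, is properly contained in N, and contains the centralizer of each of its non-identity elements (a T.I. subgroup with Frobenius normalizer). Suppose K is abelian, let e be the index of K in N, and call an irreducible character of N relevant when it takes at some element of K a value different from its degree. Then either there is exactly one relevant character and K is an elementary abelian p-group of order e + 1 for some prime p, or there are a sign ε and an injective map f from the relevant characters to the irreducible characters of G such that inducing χ - ξ to G gives ε (f χ - f ξ) for all relevant χ and ξ. -/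
theorem result {G : Type*} [Group G] [Fintype G] (K : Subgroup G) (hTI : ∀ g : G, g ∉ Subgroup.normalizer (K : Set G) → ∀ k ∈ K, g * k * g⁻¹ ∈ K → k = 1) (hlt : K < Subgroup.normalizer (K : Set G)) (hC : ∀ k ∈ K, k ≠ 1 → Subgroup.centralizer ({k} : Set G) ≤ K) (hab : ∀ a ∈ K, ∀ b ∈ K, a * b = b * a) : (Nat.card {χ : Cfsg.IrrCharacter (Subgroup.normalizer (K : Set G)) // ∃ k : Subgroup.normalizer (K : Set G), (k : G) ∈ K ∧ (χ : ↥(Subgroup.normalizer (K : Set G)) → ℂ) k ≠ (χ : ↥(Subgroup.normalizer (K : Set G)) → ℂ) 1} = 1 ∧ ∃ p : ℕ, p.Prime ∧ Cfsg.IsElementaryAbelian p K ∧ Nat.card K = (K.subgroupOf (Subgroup.normalizer (K : Set G))).index + 1) ∨ ∃ (ε : ℂ) (f : {χ : Cfsg.IrrCharacter (Subgroup.normalizer (K : Set G)) // ∃ k : Subgroup.normalizer (K : Set G), (k : G) ∈ K ∧ (χ : ↥(Subgroup.normalizer (K : Set G)) → ℂ) k ≠ (χ : ↥(Subgroup.normalizer (K : Set G)) → ℂ) 1} → Cfsg.IrrCharacter G), (ε = 1 ∨ ε = -1) ∧ Function.Injective f ∧ ∀ χ ξ, Cfsg.indFun (Subgroup.normalizer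 (K : Set G)) ((χ.1 : ↥(Subgroup.normalizer (K : Set G)) → ℂ) - (ξ.1 : ↥(Subgroup.normalizer (K : Set G)) → ℂ)) = ε • ((f χ : G → ℂ) - (f ξ : G → ℂ)) := by
  classical
  haveI := CfsgLib.CharBasics.finite_irrCharacter (G := ↥(Subgroup.normalizer (K : Set G)))
  letI := Fintype.ofFinite (Cfsg.IrrCharacter ↥(Subgroup.normalizer (K : Set G)))
  letI := Fintype.ofFinite ↥(Subgroup.normalizer (K : Set G))
  have hC' := CfsgLib.Exceptional.centralizer_le_in_normalizer K hC
  haveI hcomm : IsMulCommutative (K.subgroupOf (Subgroup.normalizer (K : Set G))) :=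
    ⟨⟨fun a b => Subtype.ext (Subtype.ext (hab _ a.2 _ b.2))⟩⟩
  have hdeg : ∀ χ : Cfsg.IrrCharacter ↥(Subgroup.normalizer (K : Set G)),
      CfsgLib.Exceptional.Rel (K.subgroupOf (Subgroup.normalizer (K : Set G))) χ.1 →
      χ.1 1 = ((K.subgroupOf (Subgroup.normalizer (K : Set G))).index : ℂ) := fun χ h => by
    obtain ⟨-, p, -, -, h2, h3⟩ := CfsgLib.Exceptional.rel_induced _ hC' χ.2 h
    rw [h2, h3 hcomm, mul_one]
  by_cases htwo : ∃ i j : {χ : Cfsg.IrrCharacter (Subgroup.normalizer (K : Set G)) //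
      ∃ k : Subgroup.normalizer (K : Set G), (k : G) ∈ K ∧
        (χ : ↥(Subgroup.normalizer (K : Set G)) → ℂ) k ≠ (χ : ↥(Subgroup.normalizer (K : Set G)) → ℂ) 1}, i ≠ j
  · right
    have hsupp : ∀ i j : {χ : Cfsg.IrrCharacter (Subgroup.normalizer (K : Set G)) //
        ∃ k : Subgroup.normalizer (K : Set G), (k : G) ∈ K ∧
          (χ : ↥(Subgroup.normalizer (K : Set G)) → ℂ) k ≠ (χ : ↥(Subgroup.normalizer (K : Set G)) → ℂ) 1},
        Cfsg.IsClassFunction _ (i.1.1 - j.1.1) ∧
        ∀ x : ↥(Subgroup.normalizer (K : Set G)), (x : G) ∉ ({g | g ∈ K ∧ g ≠ 1} : Set G) → (i.1.1 - j.1.1) x = 0 := by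
      intro i j
      refine CfsgLib.Exceptional.rel_supp K hC (S := {i.1.1, j.1.1}) ?_ (CfsgLib.Exceptional.mem_on_one.2 ⟨?_, ?_⟩)
      · intro χ hχ
        simp only [Set.mem_insert_iff, Set.mem_singleton_iff] at hχ
        rcases hχ with rfl | rfl
        · exact ⟨i.1.2, i.2⟩
        · exact ⟨j.1.2, j.2⟩
      · exact sub_mem (S := Submodule ℤ (↥(Subgroup.normalizer (K : Set G)) → ℂ)) (Submodule.subset_span (by simp))
          (Submodule.subset_span (by simp))
      · simp [hdeg i.1 i.2, hdeg j.1 j.2]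
    obtain ⟨i₀, -, -⟩ := id htwo
    haveI : Nonempty {χ : Cfsg.IrrCharacter (Subgroup.normalizer (K : Set G)) //
      ∃ k : Subgroup.normalizer (K : Set G), (k : G) ∈ K ∧
        (χ : ↥(Subgroup.normalizer (K : Set G)) → ℂ) k ≠ (χ : ↥(Subgroup.normalizer (K : Set G)) → ℂ) 1} := ⟨i₀⟩
    obtain ⟨ε, f, hε, hf, hτ⟩ := CfsgLib.Exceptional.exceptional_family
      (fun i : {χ : Cfsg.IrrCharacter (Subgroup.normalizer (K : Set G)) //
        ∃ k : Subgroup.normalizer (K : Set G), (k : G) ∈ K ∧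
          (χ : ↥(Subgroup.normalizer (K : Set G)) → ℂ) k ≠ (χ : ↥(Subgroup.normalizer (K : Set G)) → ℂ) 1} => i.1.1)
      (fun i => i.1.2) (fun i j h => Subtype.ext (Subtype.ext h)) htwo (Cfsg.indFun (Subgroup.normalizer (K : Set G)))
      (fun i j => CfsgLib.Exceptional.gen_indFun _ (CfsgLib.Exceptional.gen_sub
        (CfsgLib.Exceptional.gen_of_character (CfsgLib.CharBasics.isCharacter_of_irr i.1.2))
        (CfsgLib.Exceptional.gen_of_character (CfsgLib.CharBasics.isCharacter_of_irr j.1.2))))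
      (fun i j => by rw [CfsgLib.CharBasics.indFun_apply_one]; simp [hdeg i.1 i.2, hdeg j.1 j.2])
      (fun i j k l => CfsgLib.Exceptional.classInner_indFun_indFun (CfsgLib.Exceptional.frobTI_setup K hTI)
        (hsupp k l).1 (hsupp i j).2 (hsupp k l).2)
      (fun i j k => by simp only [CfsgLib.Exceptional.indFun_sub', sub_add_sub_cancel])
    exact ⟨ε, f, hε, hf, hτ⟩
  push Not at htwo
  by_cases hne : ∃ χ : Cfsg.IrrCharacter ↥(Subgroup.normalizer (K : Set G)),
      CfsgLib.Exceptional.Rel (K.subgroupOf (Subgroup.normalizer (K : Set G))) χ.1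
  swap
  · right
    push Not at hne
    exact ⟨1, fun i => absurd i.2 (hne i.1), Or.inl rfl, fun i => absurd i.2 (hne i.1), fun i => absurd i.2 (hne i.1)⟩
  left
  obtain ⟨χ₀, hχ₀⟩ := hne
  have huniq : ∀ χ : Cfsg.IrrCharacter ↥(Subgroup.normalizer (K : Set G)),
      CfsgLib.Exceptional.Rel (K.subgroupOf (Subgroup.normalizer (K : Set G))) χ.1 → χ = χ₀ := fun χ h =>
    congrArg Subtype.val (htwo ⟨χ, h⟩ ⟨χ₀, hχ₀⟩)
  refine ⟨Nat.card_eq_one_iff_unique.2 ⟨⟨htwo⟩, ⟨⟨χ₀, hχ₀⟩⟩⟩, ?_⟩
  obtain ⟨k₀, hk₀, hk₀'⟩ := id hχ₀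
  have hk₀1 : k₀ ≠ 1 := fun h => hk₀' (by rw [h])
  have hK0 : K.subgroupOf (Subgroup.normalizer (K : Set G)) ≠ ⊥ := fun h => hk₀1 (by rwa [h, Subgroup.mem_bot] at hk₀)
  obtain ⟨-, hcol, -⟩ := CfsgLib.Exceptional.degree_sums _ hC' hK0
  have hfilter : (Finset.univ.filter fun χ : Cfsg.IrrCharacter ↥(Subgroup.normalizer (K : Set G)) =>
      CfsgLib.Exceptional.Rel (K.subgroupOf (Subgroup.normalizer (K : Set G))) χ.1) = {χ₀} := by
    ext χ
    simp only [Finset.mem_filter, Finset.mem_univ, true_and, Finset.mem_singleton]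
    exact ⟨huniq χ, fun h => h ▸ hχ₀⟩
  have hident := CfsgLib.Exceptional.rel_degree_identity _ hC' hK0 (fun _ => 1)
    (fun χ h => by rw [hdeg χ h, mul_one])
  rw [hfilter, Finset.sum_singleton, one_pow, mul_one] at hident
  have hcardK : Nat.card (K.subgroupOf (Subgroup.normalizer (K : Set G))) = Nat.card K :=
    Nat.card_congr (Subgroup.subgroupOfEquivOfLe Subgroup.le_normalizer).toEquiv
  rw [hcardK] at hident
  -- all non-identity elements of `K` are conjugate in the normalizer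
  have hconj : ∀ a b : ↥(Subgroup.normalizer (K : Set G)), (a : G) ∈ K → (b : G) ∈ K → a ≠ 1 → b ≠ 1 → IsConj a b := by
    intro a b ha hb ha1 hb1
    by_contra hn
    have e : ∀ k : ↥(Subgroup.normalizer (K : Set G)), (k : G) ∈ K → k ≠ 1 → χ₀.1 k = -1 := by
      intro k hk hk1
      have := hcol k hk hk1
      rw [hfilter, Finset.sum_singleton, ← CfsgLib.CharBasics.apply_one (CfsgLib.CharBasics.isCharacter_of_irr χ₀.2),
        hdeg χ₀ hχ₀] at this
      have he : ((K.subgroupOf (Subgroup.normalizer (K : Set G))).index : ℂ) ≠ 0 :=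
        Nat.cast_ne_zero.2 Subgroup.index_ne_zero_of_finite
      exact mul_left_cancel₀ he (by rw [this]; ring)
    have hsame : ∀ χ : Cfsg.IrrCharacter ↥(Subgroup.normalizer (K : Set G)), χ.1 b = χ.1 a := by
      intro χ
      by_cases h : CfsgLib.Exceptional.Rel (K.subgroupOf (Subgroup.normalizer (K : Set G))) χ.1
      · rw [huniq χ h, e a ha ha1, e b hb hb1]
      · rw [CfsgLib.Exceptional.not_rel h (k := a) ha, CfsgLib.Exceptional.not_rel h (k := b) hb]
    have h1 := CfsgLib.CharBasics.sum_col a b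
    rw [if_neg hn, Finset.sum_congr rfl (fun χ _ => by rw [hsame χ]), CfsgLib.CharBasics.sum_col a a,
      if_pos (IsConj.refl a)] at h1
    exact Nat.card_pos.ne' (Nat.cast_eq_zero.1 h1)
  obtain ⟨q, hq, hqd⟩ := Nat.exists_prime_and_dvd (show orderOf (k₀ : G) ≠ 1 from fun h =>
    hk₀1 (Subtype.ext (orderOf_eq_one_iff.1 h)))
  refine ⟨q, hq, ⟨⟨⟨fun a b => Subtype.ext (hab _ a.2 _ b.2)⟩⟩, fun a ha => ?_⟩, ?_⟩
  · by_cases ha1 : a = 1
    · rw [ha1, one_pow]
    set u : ↥(Subgroup.normalizer (K : Set G)) := k₀ ^ (orderOf (k₀ : G) / q)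
    have huo : orderOf (u : G) = q := by
      simp only [u, Subgroup.coe_pow]
      rw [orderOf_pow_of_dvd (Nat.div_pos (Nat.le_of_dvd (orderOf_pos _) hqd) hq.pos).ne' (Nat.div_dvd_of_dvd hqd),
        Nat.div_div_self hqd (orderOf_pos _).ne']
    have hu1 : u ≠ 1 := fun h => hq.ne_one (by rw [← huo, h]; simp)
    have huK : (u : G) ∈ K := by simp only [u, Subgroup.coe_pow]; exact pow_mem hk₀ _
    obtain ⟨c, hc⟩ := isConj_iff.1 (hconj u ⟨a, Subgroup.le_normalizer ha⟩ huK ha hu1 (fun h => ha1 (congrArg Subtype.val h)))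
    have hc' : (c : G) * u * (c : G)⁻¹ = a := congrArg Subtype.val hc
    rw [← hc', conj_pow, ← huo, pow_orderOf_eq_one]; group
  · rw [← hident]

end Cfsg.Agent.S0851
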