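import Cfsg.Statements.S4456
import Cfsg.Agent.CharBasics.Ortho
import Cfsg.Agent.CharBasics.LinearOver
import Cfsg.Agent.Clifford.ExtCriteria
import Cfsg.Agent.Clifford.RepBasic
import Cfsg.Agent.Blocks.PairAlg.Basic
import Cfsg.Agent.Transfer.Residual
import Cfsg.Agent.PReduced.PIrreducible

set_option autoImplicit false
open Cfsg CfsgLib CfsgLib.CharBasics

namespace Cfsg.Agent.S4456

/-- Let p be a prime and G a finite group such that p divides the degree of every irreducible character of G of degree greater than one. Then G has a normal p-complement: a normal subgroup of order prime to p whose index is a power of p. -/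
theorem result {G : Type*} [Group G] [Finite G] (p : ℕ) (hp : p.Prime) (hdeg : ∀ χ : Cfsg.IrrCharacter G, Cfsg.charDegree (χ : G → ℂ) ≠ 1 → p ∣ Cfsg.charDegree (χ : G → ℂ)) : ∃ N : Subgroup G, N.Normal ∧ (Nat.card N).Coprime p ∧ ∃ k : ℕ, N.index = p ^ k := by
  classical
  haveI : Fact p.Prime := ⟨hp⟩
  let N := Cfsg.pResidual p G
  haveI hN : N.Normal := CfsgLib.Transfer.pResidual_normal
  obtain ⟨k, hk⟩ := CfsgLib.Transfer.index_pResidual (p := p) (G := G)
  refine ⟨N, hN, ?_, k, hk⟩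
  rw [Nat.coprime_comm, hp.coprime_iff_not_dvd]
  intro hdvd
  haveI := Fintype.ofFinite G
  haveI := Fintype.ofFinite (IrrCharacter N)
  obtain ⟨P⟩ : Nonempty (Sylow p G) := inferInstance
  letI : MulAction P (IrrCharacter N) :=
    { smul := fun s θ => ⟨Clifford.conjFun ((s : G)⁻¹) (θ : N → ℂ), Clifford.isIrrCharacter_conjFun _ θ.2⟩
      one_smul := fun θ => Subtype.ext (by
        show Clifford.conjFun ((1 : P) : G)⁻¹ (θ : N → ℂ) = _
        rw [Subgroup.coe_one, inv_one, Clifford.conjFun_one])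
      mul_smul := fun s t θ => Subtype.ext (by
        show Clifford.conjFun ((s * t : P) : G)⁻¹ (θ : N → ℂ) = Clifford.conjFun ((s : G)⁻¹) (Clifford.conjFun ((t : G)⁻¹) _)
        rw [Clifford.conjFun_mul, Subgroup.coe_mul, mul_inv_rev]) }
  have hfix : ∀ θ : IrrCharacter N, (∀ s : P, s • θ = θ) → ∀ (g : G) (n : N),
      (θ : N → ℂ) ⟨g * n * g⁻¹, hN.conj_mem (n : G) n.2 g⟩ = (θ : N → ℂ) n := by
    intro θ hθ g n
    have hT : (⊤ : Subgroup G) ≤ Clifford.inertia (θ : N → ℂ) := by
      rw [← CfsgLib.Transfer.pResidual_sup_sylow P]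
      refine sup_le (Clifford.le_inertia (isClassFunction (isCharacter_of_irr θ.2))) fun s hs => ?_
      rw [Clifford.mem_inertia]
      have := congrArg Subtype.val (hθ ⟨s⁻¹, inv_mem hs⟩)
      change Clifford.conjFun (s⁻¹)⁻¹ (θ : N → ℂ) = _ at this
      rwa [inv_inv] at this
    exact congrFun (Clifford.mem_inertia.1 (hT (Subgroup.mem_top g))) n
  -- invariant homomorphisms
  let Inv : Subgroup (N →* ℂˣ) :=
    { carrier := {m | ∀ (g : G) (n : N), m ⟨g * n * g⁻¹, hN.conj_mem (n : G) n.2 g⟩ = m n}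
      one_mem' := fun g n => rfl
      mul_mem' := fun {a b} ha hb g n => by
        simp only [MonoidHom.mul_apply]
        rw [ha g n, hb g n]
      inv_mem' := fun {a} ha g n => by
        simp only [MonoidHom.inv_apply]
        rw [ha g n] }
  have hnop : ∀ m : Inv, m ^ p = 1 → m = 1 := by
    rintro ⟨m, hm⟩ hpow
    let M : Subgroup G := m.ker.map N.subtype
    haveI : M.Normal := by
      refine ⟨?_⟩
      rintro x ⟨n, hn, rfl⟩ g
      exact ⟨⟨g * n * g⁻¹, hN.conj_mem (n : G) n.2 g⟩, (hm g n).trans hn, rfl⟩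
    have hle : N ≤ M := CfsgLib.PReduced.pResidual_le_of_forall_pow_mem M fun x => by
      obtain ⟨a, ha⟩ := CfsgLib.PReduced.exists_pow_mem_pResidual (p := p) x
      refine ⟨a + 1, ⟨⟨x ^ p ^ a, ha⟩ ^ p, ?_, by rw [pow_succ, pow_mul]; rfl⟩⟩
      show m (⟨x ^ p ^ a, ha⟩ ^ p) = 1
      rw [map_pow]
      exact DFunLike.congr_fun (congrArg Subtype.val hpow) ⟨x ^ p ^ a, ha⟩
    refine Subtype.ext (MonoidHom.ext fun n => ?_)
    obtain ⟨n', hn', he⟩ := hle n.2
    rw [← Subtype.ext he]
    exact hn'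
  haveI : Finite (N →* ℂˣ) := Finite.of_injective
    (fun m : N →* ℂˣ => fun n => (⟨m n, by
      rw [mem_rootsOfUnity, ← map_pow, pow_card_eq_one', map_one]⟩ : rootsOfUnity (Nat.card N) ℂ))
    fun a b h => MonoidHom.ext fun n => congrArg Subtype.val (congrFun h n)
  have hcard : ¬ p ∣ Nat.card Inv := fun h => by
    obtain ⟨m, hm⟩ := exists_prime_orderOf_dvd_card' p h
    have := hnop m (hm ▸ pow_orderOf_eq_one m)
    rw [this, orderOf_one] at hm
    exact hp.ne_one hm.symm
  let F : IrrCharacter N → ZMod p := fun θ => (charDegree (θ : N → ℂ) ^ 2 : ℕ)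
  have hF : ∀ (s : P) θ, F (s • θ) = F θ := fun s θ => by
    have : ((s • θ : IrrCharacter N) : N → ℂ) 1 = (θ : N → ℂ) 1 := congrArg (θ : N → ℂ) (Subtype.ext (show (s : G)⁻¹ * ((1 : N) : G) * (s : G)⁻¹⁻¹ = ((1 : N) : G) by simp))
    simp only [F, charDegree, this]
  have h1 := CfsgLib.PairAlg.sum_eq_sum_fixed P.2 F hF
  have h0 : ∑ θ, F θ = 0 := by
    simp only [F]
    rw [← Nat.cast_sum, sum_sq_degree, ZMod.natCast_eq_zero_iff]
    exact hdvd
  rw [h0] at h1
  -- fixed characters of degree prime to p are linear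
  have hlin : ∀ θ : IrrCharacter N, (∀ s : P, s • θ = θ) → ¬ p ∣ charDegree (θ : N → ℂ) →
      charDegree (θ : N → ℂ) = 1 := by
    intro θ hθ hpd
    have hi := hfix θ hθ
    obtain ⟨d, hd⟩ := Clifford.exists_detHom θ.2
    have hdinv : ∀ (g : G) (n : N), d ⟨g * n * g⁻¹, hN.conj_mem (n : G) n.2 g⟩ = d n := by
      intro g n
      obtain ⟨j, σ, hσ, hσc⟩ := id θ.2
      let σ' : Representation ℂ N (Fin j → ℂ) := σ.comp (MulAut.conjNormal g).toMonoidHom
      have hσ' : σ'.character = (θ : N → ℂ) := funext fun x => by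
        show σ.character (MulAut.conjNormal g x) = _
        rw [hσc]
        exact (congrArg _ (Subtype.ext (MulAut.conjNormal_apply g x))).trans (hi g x)
      have e1 := congrFun hd n
      have e2 := congrFun hd ⟨g * n * g⁻¹, hN.conj_mem (n : G) n.2 g⟩
      rw [Clifford.detChar_eq θ.2 σ' hσ'] at e1
      rw [Clifford.detChar_eq θ.2 σ hσc] at e2
      rw [← e1, ← e2]
      exact congrArg (fun x => LinearMap.det (σ x)) (Subtype.ext (MulAut.conjNormal_apply g n).symm)
    have hord : Nat.Coprime p (orderOf d.toHomUnits) := by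
      rw [hp.coprime_iff_not_dvd]
      intro hh
      have hu : d.toHomUnits ∈ Inv := fun g n => Units.ext (hdinv g n)
      exact hcard (hh.trans ((Subgroup.orderOf_mk _ hu).symm ▸ orderOf_dvd_natCard (⟨_, hu⟩ : Inv)))
    obtain ⟨μ, hμ, -⟩ := Clifford.exists_coprime_linearExtension d hdinv (o := orderOf d.toHomUnits) (fun n => by
      have := DFunLike.congr_fun (pow_orderOf_eq_one d.toHomUnits) n
      exact congrArg Units.val this) (by rw [hk]; exact hord.pow_left _)
    obtain ⟨χ, hχ, hres⟩ := Clifford.exists_charExtension_of_det θ.2 hi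
      (apply_one (isCharacter_of_irr θ.2)) (by rw [hk]; exact (hp.coprime_iff_not_dvd.2 hpd).pow_left _) μ
      (fun n => by rw [hμ, hd])
    have hde : charDegree χ = charDegree (θ : N → ℂ) := by
      unfold charDegree
      rw [← hres 1, Subgroup.coe_one]
    by_contra hne
    exact hpd (hde ▸ hdeg ⟨χ, hχ⟩ (fun e => hne (hde ▸ e)))
  apply hcard
  rw [← ZMod.natCast_eq_zero_iff, h1, ← Finset.sum_filter_ne_zero, Finset.filter_filter]
  have hone : ∀ θ ∈ Finset.univ.filter (fun θ : IrrCharacter N => (∀ s : P, s • θ = θ) ∧ F θ ≠ 0),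
      F θ = 1 := fun θ hθ => by
    rw [Finset.mem_filter] at hθ
    obtain ⟨-, hf, hne⟩ := hθ
    have : ¬ p ∣ charDegree (θ : N → ℂ) := fun h => hne (by
      simp only [F]
      rw [ZMod.natCast_eq_zero_iff]
      exact dvd_pow h two_ne_zero)
    simp only [F, hlin θ hf this, one_pow, Nat.cast_one]
  refine Eq.trans ?_ (Finset.sum_congr rfl fun θ hθ => (hone θ (Finset.mem_filter.2 ⟨Finset.mem_univ _, (Finset.mem_filter.1 hθ).2⟩)).symm)
  haveI : Fintype Inv := Fintype.ofFinite Inv
  rw [Finset.sum_const, nsmul_one, Nat.card_eq_fintype_card, ← Finset.card_univ]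
  congr 1
  refine Finset.card_nbij'
    (fun m => ⟨fun n => ((m : N →* ℂˣ) n : ℂ), Clifford.isIrrCharacter_of_hom ((Units.coeHom ℂ).comp (m : N →* ℂˣ))⟩)
    (fun θ => if h : charDegree (θ : N → ℂ) = 1 ∧ ∀ (g : G) (n : N),
        (θ : N → ℂ) ⟨g * n * g⁻¹, hN.conj_mem (n : G) n.2 g⟩ = (θ : N → ℂ) n
      then ⟨(linHomOf θ h.1).toHomUnits, fun g n => Units.ext (by simpa [linHomOf_apply] using h.2 g n)⟩ else 1) ?_ ?_ ?_ ?_
  · intro m _
    rw [Finset.mem_coe, Finset.mem_filter]
    refine ⟨Finset.mem_univ _, fun s => Subtype.ext (funext fun n => congrArg Units.val (m.2 _ n)), ?_⟩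
    simp [F, charDegree]
  · intro θ _
    exact Finset.mem_coe.2 (Finset.mem_univ _)
  · intro m _
    have hd1 : charDegree (fun n => ((m : N →* ℂˣ) n : ℂ)) = 1 := by simp [charDegree]
    simp only
    rw [dif_pos ⟨hd1, fun g n => congrArg Units.val (m.2 g n)⟩]
    exact Subtype.ext (MonoidHom.ext fun n => Units.ext rfl)
  · intro θ hθ
    rw [Finset.mem_coe, Finset.mem_filter] at hθ
    obtain ⟨-, hf, hne⟩ := hθ
    have hd1 := hlin θ hf fun h => hne (by
      simp only [F]
      rw [ZMod.natCast_eq_zero_iff]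
      exact dvd_pow h two_ne_zero)
    simp only [dif_pos (And.intro hd1 (hfix θ hf))]
    exact Subtype.ext (funext fun n => rfl)

end Cfsg.Agent.S4456
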