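import Cfsg.Statements.S0855
import Cfsg.Agent.S4456
import Cfsg.Agent.CharBasics.ItoConverse

set_option autoImplicit false
open Cfsg

namespace Cfsg.Agent.S0855

/-- For a finite group G and a prime p: every irreducible character of G has degree a power of p if and only if G has an abelian normal subgroup whose order is prime to p and whose index is a power of p. -/
theorem result {G : Type*} [Group G] [Finite G] (p : ℕ) (hp : p.Prime) : (∀ χ : Cfsg.IrrCharacter G, ∃ k : ℕ, (χ : G → ℂ) 1 = (p : ℂ) ^ k) ↔ ∃ A : Subgroup G, A.Normal ∧ (∀ a ∈ A, ∀ b ∈ A, a * b = b * a) ∧ Nat.Coprime (Nat.card A) p ∧ ∃ k : ℕ, A.index = p ^ k := by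
  classical
  haveI := Fintype.ofFinite G
  constructor
  · intro h
    have hdeg : ∀ χ : IrrCharacter G, ∃ k, charDegree (χ : G → ℂ) = p ^ k := fun χ => by
      obtain ⟨k, hk⟩ := h χ
      refine ⟨k, ?_⟩
      rw [CfsgLib.CharBasics.apply_one (CfsgLib.CharBasics.isCharacter_of_irr χ.2)] at hk
      exact_mod_cast hk
    obtain ⟨N, hN, hcop, hidx⟩ := Cfsg.Agent.S4456.result p hp fun χ hne => by
      obtain ⟨k, hk⟩ := hdeg χ
      rcases Nat.eq_zero_or_pos k with rfl | hk0
      · exact absurd (by rw [hk, pow_zero]) hne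
      · rw [hk]; exact dvd_pow_self p hk0.ne'
    haveI := Fintype.ofFinite N
    refine ⟨N, hN, ?_, hcop, hidx⟩
    have hc : IsMulCommutative N := CfsgLib.ItoConverse.isMulCommutative_of_all_linear fun θ => by
      obtain ⟨χ, hχ⟩ := CfsgLib.ItoConverse.degree_dvd_over N θ
      obtain ⟨k, hk⟩ := hdeg χ
      rw [hk] at hχ
      exact Nat.eq_one_of_dvd_coprimes (hcop.pow_right k) (CfsgLib.CharBasics.degree_dvd θ) hχ
    exact fun a ha b hb => congrArg Subtype.val (hc.is_comm.comm ⟨a, ha⟩ ⟨b, hb⟩)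
  · rintro ⟨A, hA, hab, -, k, hk⟩ χ
    haveI : IsMulCommutative A := ⟨⟨fun a b => Subtype.ext (hab a a.2 b b.2)⟩⟩
    obtain ⟨j, -, hj⟩ := (Nat.dvd_prime_pow hp).1 (hk ▸ CfsgLib.Clifford.ito_dvd χ.2 A)
    refine ⟨j, ?_⟩
    rw [CfsgLib.CharBasics.apply_one (CfsgLib.CharBasics.isCharacter_of_irr χ.2), hj, Nat.cast_pow]

end Cfsg.Agent.S0855
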