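import Cfsg.Statements.S0976
import Cfsg.Agent.SmallOrders.Search
-- import your own Cfsg.Agent.* helpers here

set_option autoImplicit false
open Cfsg CfsgLib.SmallOrd

namespace Cfsg.Agent.S0976

theorem no_sixty_four {G : Type*} [Group G] [Finite G] [IsSimpleGroup G] (h : Nat.card G = 4032) (P : Sylow 7 G)
    (hP : Nat.card P = 7) (hN : Nat.card (Subgroup.normalizer ((P : Subgroup G) : Set G)) = 63) {e : ℕ} (he1 : e ≠ 1)
    (he : (Subgroup.centralizer ((P : Subgroup G) : Set G)).relIndex (Subgroup.normalizer ((P : Subgroup G) : Set G)) = e) :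
    False := by
  haveI : Fact (Nat.Prime 7) := ⟨by norm_num⟩
  haveI : Fact (Nat.Prime 3) := ⟨Nat.prime_three⟩
  have hne : Nat.card G ≠ 7 := by rw [h]; norm_num
  obtain ⟨L⟩ := exists_localData P hP hne
  have hC3 : 3 ∣ L.C := by
    have h1 := L.e_mul
    rw [L.hN, hN] at h1
    have h2 := Nat.le_of_dvd (by norm_num) L.e_dvd
    have h3 := L.e_ne
    have h4 := L.e_dvd
    obtain ⟨c, hc⟩ := L.p_dvd
    interval_cases L.e <;> omega
  rw [L.hC] at hC3
  obtain ⟨⟨y, hy⟩, hy3⟩ := exists_prime_orderOf_dvd_card' 3 hC3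
  rw [Subgroup.orderOf_mk] at hy3
  set C := Subgroup.centralizer ({y} : Set G)
  have h7 : 7 ∣ Nat.card C := by
    refine hP ▸ Subgroup.card_dvd_of_le fun x hx => ?_
    rw [Subgroup.mem_centralizer_singleton_iff]
    exact (Subgroup.mem_centralizer_iff.1 hy x hx)
  obtain ⟨T, hT⟩ := (IsPGroup.of_card (p := 3) (n := 1) (G := Subgroup.zpowers y)
    (by rw [Nat.card_zpowers, hy3, pow_one])).exists_le_sylow
  have hTc : Nat.card (T : Subgroup G) = 3 ^ 2 := sylow_card (m := 448) (by rw [h]; norm_num) (by norm_num) T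
  have h9 : 9 ∣ Nat.card C := by
    rw [show (9 : ℕ) = Nat.card (T : Subgroup G) by rw [hTc]; norm_num]
    refine Subgroup.card_dvd_of_le fun x hx => ?_
    rw [Subgroup.mem_centralizer_singleton_iff]
    exact congrArg Subtype.val (IsPGroup.commutative_of_card_eq_prime_sq hTc
      (⟨x, hx⟩ : (T : Subgroup G)) ⟨y, hT (Subgroup.mem_zpowers y)⟩)
  have h63 : 63 ∣ Nat.card C := Nat.Coprime.mul_dvd_of_dvd_of_dvd (by norm_num : Nat.Coprime 7 9) h7 h9
  obtain ⟨c, hc⟩ := h63
  have hci := C.card_mul_index
  rw [hc, h, mul_assoc] at hci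
  have hdvd : C.index ∣ 2 ^ 6 := Dvd.intro_left c (by omega)
  obtain ⟨a, -, ha⟩ := (Nat.dvd_prime_pow Nat.prime_two).1 hdvd
  rcases Nat.eq_zero_or_pos a with ha0 | ha0
  · rw [ha0, pow_zero, Subgroup.index_eq_one] at ha
    have hyz : y ∈ Subgroup.center G := Subgroup.mem_center_iff.2 fun g =>
      Subgroup.mem_centralizer_singleton_iff.1 (ha ▸ Subgroup.mem_top g : g ∈ C)
    rcases (inferInstance : (Subgroup.center G).Normal).eq_bot_or_eq_top with hz | hz
    · rw [hz, Subgroup.mem_bot] at hyz
      rw [hyz, orderOf_one] at hy3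
      norm_num at hy3
    · exact not_comm (by rw [h]; norm_num)
        ⟨⟨fun a b => (Subgroup.mem_center_iff.1 (hz ▸ Subgroup.mem_top b : b ∈ Subgroup.center G) a)⟩⟩
  · exact CfsgLib.CharBasics.not_isSimpleGroup_of_class_prime_pow Nat.prime_two y ha ha0 inferInstance

/-- No finite simple group has order 4032 = 2^6 * 3^2 * 7. -/
theorem result {G : Type*} [Group G] [Finite G] [IsSimpleGroup G] : Nat.card G ≠ 4032 := by
  intro h
  haveI : Fact (Nat.Prime 7) := ⟨by norm_num⟩
  obtain ⟨hG, P, hP, L, hn, ⟨B⟩⟩ := setup (p := 7) (m := 576) (by norm_num) (by rw [h]) (by norm_num) (by rw [h]; norm_num)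
  have hL := L.index_le hG
  have hmul := L.n_mul
  have he6 := L.e_dvd
  have h1 := mem_list (by norm_num) hn L.n_mod L.n_ne
  rw [show (List.range (576 + 1)).filter (fun d => decide (d ∣ 576 ∧ d % 7 = 1 ∧ d ≠ 1)) = [8, 36, 64, 288] by
    decide +kernel] at h1
  rw [h] at hmul hL
  have hCd := L.e_mul
  -- the nontrivial block member is of degree eight
  have h2 : L.e = 2 → False := by
    intro he
    have hCN : 2 * L.C = L.N := by rw [← he]; exact hCd
    revert B
    rw [he]
    intro B
    obtain ⟨i, hi, hE⟩ := B.sum_two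
    have hDm := B.D_mem (b := 63) (by rw [h]; norm_num) i
    rw [h, show cands 4032 7 63 = [-48, -6, 8, 36] by decide +kernel] at hDm
    have hd := B.E_spec.2.1
    rw [hE, h] at hd
    have hD8 : B.D i = 8 := by
      simp only [List.mem_cons, List.not_mem_nil, or_false] at hDm
      rcases hDm with e | e | e | e <;> rw [e] at hd ⊢ <;> norm_num at hd
    by_cases hCe : 2 ∣ L.C
    · have := (B.large (by decide) (L.hC ▸ hCe)).1 i
      rw [hD8] at this
      norm_num at this
    · have hC7 : L.C = 7 := by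
        simp only [List.mem_cons, List.not_mem_nil, or_false] at h1
        rcases h1 with e | e | e | e <;> rw [e] at hmul <;> omega
      have hCP : Subgroup.centralizer ((P : Subgroup G) : Set G) = P := by
        haveI : IsCyclic (P : Subgroup G) := isCyclic_of_prime_card hP
        haveI : IsMulCommutative (P : Subgroup G) := IsCyclic.isMulCommutative
        exact (Subgroup.eq_of_le_of_card_ge (P : Subgroup G).le_centralizer (by rw [hP, ← L.hC, hC7])).symm
      obtain ⟨y, hy, hyi⟩ := exists_inverting (by norm_num) P hP hCP (by rw [← L.hN]; exact ⟨L.C, hCN.symm⟩)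
      obtain ⟨A, b, hA, hb, hs, -, -, hV⟩ := B.invol y hy
      rcases hV hCP with hV | ⟨-, hV⟩
      swap
      · exact hV hyi
      have hsA : ∑ j, A j = A i := Finset.sum_eq_single i (fun j _ hj => absurd (hi j) hj) (by simp)
      rw [hsA] at hs
      rw [Finset.sum_eq_single i (fun j _ hj => absurd (hi j) hj) (by simp), hE, hD8, h,
        show b = -1 - A i by linarith] at hV
      obtain ⟨c, hc⟩ : ∃ c : ℕ, c = Nat.card (Subgroup.centralizer ({y} : Set G)) := ⟨_, rfl⟩
      rw [← hc] at hV
      have key : 8 * (A i - 8) ^ 2 = (c : ℤ) ^ 2 := by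
        have : (8 : ℚ) * ((A i : ℚ) - 8) ^ 2 = (c : ℚ) ^ 2 := by push_cast at hV; linarith
        exact_mod_cast this
      have hb := (hA i).1
      rw [hD8] at hb
      norm_num [abs_lt] at hb
      have hc1 : (c : ℤ) < 48 := by
        by_contra hlt
        push Not at hlt
        nlinarith
      have ha4 := (hA i).2
      rw [hD8] at ha4
      obtain ⟨k, hk⟩ := ha4
      have hAi : A i = 0 ∨ A i = 4 ∨ A i = -4 := by omega
      have hc0 : (0 : ℤ) ≤ c := by positivity
      rcases hAi with e | e | e <;> rw [e] at key <;> interval_cases (c : ℤ) <;> norm_num at key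
  simp only [List.mem_cons, List.not_mem_nil, or_false] at h1
  have he : L.e = 2 ∨ L.e = 3 ∨ L.e = 6 := by
    have := Nat.le_of_dvd (by norm_num) he6
    have := L.e_ne
    interval_cases L.e <;> simp_all
  have hp7 := L.p_dvd
  rcases h1 with e | e | e | e <;> rw [e] at hmul hL
  · have hd := card_normalizer_dvd_of_succ (p := 7) (by norm_num) hG P hP (P.card_eq_index_normalizer.trans (L.hn.symm.trans e))
    rw [← L.hN, show L.N = 504 by omega] at hd
    norm_num at hd
  · refine h2 ?_
    rcases he with e' | e' | e' <;> rw [e'] at hCd <;> omega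
  · -- a normaliser of odd order: an element of order three has a class of prime power size
    exact no_sixty_four h P hP (by rw [← L.hN]; omega) L.e_ne L.he
  · refine h2 ?_
    rcases he with e' | e' | e' <;> rw [e'] at hCd <;> omega

end Cfsg.Agent.S0976
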