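import Cfsg.Statements.S0977
import Cfsg.Agent.SmallOrders.O4320
-- import your own Cfsg.Agent.* helpers here

set_option autoImplicit false
open Cfsg CfsgLib.SmallOrd

namespace Cfsg.Agent.S0977

/-- No finite simple group has order 4320 = 2^5 * 3^3 * 5. -/
theorem result {G : Type*} [Group G] [Finite G] [IsSimpleGroup G] : Nat.card G ≠ 4320 := by
  intro h
  haveI : Fact (Nat.Prime 5) := ⟨by norm_num⟩
  obtain ⟨hG, P, hP, L, hn, ⟨B⟩⟩ := setup (p := 5) (m := 864) (by norm_num) (by rw [h]) (by norm_num) (by rw [h]; norm_num)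
  have hL := L.index_le hG
  have hmul := L.n_mul
  have h1 := mem_list (by norm_num) hn L.n_mod L.n_ne
  rw [show (List.range (864 + 1)).filter (fun d => decide (d ∣ 864 ∧ d % 5 = 1 ∧ d ≠ 1)) = [6, 16, 36, 96, 216] by
    decide +kernel] at h1
  rw [h] at hmul hL
  have hCd := L.e_mul
  have he : L.e = 2 ∨ L.e = 4 := by
    have he1 := L.e_ne
    obtain ⟨k, hk, hk'⟩ := (Nat.dvd_prime_pow Nat.prime_two).1 (show L.e ∣ 2 ^ 2 from L.e_dvd)
    rw [hk'] at he1 ⊢
    interval_cases k <;> first | exact Or.inl rfl | exact Or.inr rfl | norm_num at he1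
  have hidx : ∀ k a : ℕ, 4320 = L.C * k → k = 2 ^ a → 0 < a → False := fun k a hk ha ha0 =>
    centralizer_index_ne (P : Subgroup G) hP Nat.prime_two ha0
      ((index_centralizer_eq L (h.trans hk) (L.hC ▸ Nat.card_pos)).trans ha)
  have heven : 2 ∣ L.C → False := fun hC =>
    B.five_even_false he (L.hC ▸ hC) (b := 65) (by rw [h]; norm_num) (by rw [h]; decide +kernel)
  simp only [List.mem_cons, List.not_mem_nil, or_false] at h1
  rcases h1 with e | e | e | e | e <;> rw [e] at hmul hL
  · rw [Nat.dvd_iff_mod_eq_zero] at hL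
    norm_num [Nat.factorial] at hL
  · rcases he with e' | e' <;> rw [e'] at hCd
    · exact hidx 32 5 (by omega) rfl (by norm_num)
    · omega
  · exact heven (by rcases he with e' | e' <;> rw [e'] at hCd <;> omega)
  · rcases he with e' | e' <;> rw [e'] at hCd <;> omega
  · rcases he with e' | e' <;> rw [e'] at hCd
    · exact heven (by omega)
    · exact O4320.no_exceptional h P hP L e' (by omega) B

end Cfsg.Agent.S0977
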