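import Cfsg.Statements.S0978
import Cfsg.Agent.SmallOrders.DegreeMod
import Cfsg.Agent.SylowCount.Fifteen
import Cfsg.Agent.SylowCount.TwentyOneFive
-- import your own Cfsg.Agent.* helpers here

set_option autoImplicit false
open Cfsg CfsgLib.SmallOrd CfsgLib.CharBasics

namespace Cfsg.Agent.S0978

/-- A subgroup of index at most eight. -/
theorem index_eight {G : Type*} [Group G] [Finite G] [IsSimpleGroup G] (h : Nat.card G = 5040) (g : G) (hg : g ≠ 1)
    (hle : 630 ≤ Nat.card (Subgroup.centralizer ({g} : Set G)) ∨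
      (Subgroup.centralizer ({g} : Set G)).index = 16 ∨ 602 ≤ Nat.card (Subgroup.centralizer ({g} : Set G))) : False := by
  have hG : ¬ IsMulCommutative G := not_comm (by rw [h]; norm_num)
  have hne : Subgroup.centralizer ({g} : Set G) ≠ ⊤ := fun ht => by
    have hyz : g ∈ Subgroup.center G := Subgroup.mem_center_iff.2 fun a =>
      Subgroup.mem_centralizer_singleton_iff.1 (ht ▸ Subgroup.mem_top a)
    rcases (inferInstance : (Subgroup.center G).Normal).eq_bot_or_eq_top with hz | hz
    · exact hg (Subgroup.mem_bot.1 (hz ▸ hyz))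
    · exact hG ⟨⟨fun a b => (Subgroup.mem_center_iff.1 (hz ▸ Subgroup.mem_top b : b ∈ Subgroup.center G) a)⟩⟩
  have hmul := (Subgroup.centralizer ({g} : Set G)).card_mul_index
  have hd := two_mul_card_dvd_factorial hG _ hne
  rw [h] at hmul hd
  have h16 : (Subgroup.centralizer ({g} : Set G)).index = 16 ∨ (Subgroup.centralizer ({g} : Set G)).index = 8 := by
    rcases hle with hle | hle | hle
    all_goals first
      | exact Or.inl hle
      | right
        have hI : (Subgroup.centralizer ({g} : Set G)).index ≤ 8 := by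
          by_contra hlt
          push Not at hlt
          have := Nat.mul_le_mul (show 602 ≤ Nat.card (Subgroup.centralizer ({g} : Set G)) by omega) hlt
          omega
        generalize (Subgroup.centralizer ({g} : Set G)).index = I at hI hd
        interval_cases I <;> first | rfl | norm_num [Nat.factorial] at hd
  rcases h16 with e | e
  · exact not_isSimpleGroup_of_class_prime_pow Nat.prime_two g (a := 4) (by rw [e]; norm_num) (by norm_num) inferInstance
  · exact not_isSimpleGroup_of_class_prime_pow Nat.prime_two g (a := 3) (by rw [e]; norm_num) (by norm_num) inferInstance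

theorem case_two_even {G : Type*} [Group G] [Finite G] [IsSimpleGroup G] (h : Nat.card G = 5040) (P : Subgroup G)
    (B : BlockData (G := G) 7 2 P) (hC : 2 ∣ Nat.card (Subgroup.centralizer (P : Set G))) : False := by
  obtain ⟨i, hi, hE⟩ := B.sum_two
  have hDm := B.D_mem (b := 70) (by rw [h]; norm_num) i
  rw [h, show cands 5040 7 70 = [-48, -20, -6, 8, 15, 36] by decide +kernel] at hDm
  have hlarge := (B.large (by decide) hC).1 i
  have hd := B.E_spec.2.1
  rw [hE, h] at hd
  have hD : B.D i = 15 := by
    simp only [List.mem_cons, List.not_mem_nil, or_false] at hDm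
    rcases hDm with e | e | e | e | e | e <;> rw [e] at hd hlarge ⊢ <;>
      first | rfl | (norm_num at hd; done) | (norm_num at hlarge; done)
  obtain ⟨y, hy, hyC⟩ := exists_involution_centralizing hC
  obtain ⟨A, b, hA, hb, hs, hcong, hsq, -⟩ := B.invol y hy
  have hsA : ∑ j, A j = A i := Finset.sum_eq_single i (fun j _ hj => absurd (hi j) hj) (by simp)
  rw [hsA] at hs
  rw [Finset.sum_eq_single i (fun j _ hj => absurd (hi j) hj) (by simp)] at hsq
  have h1 := hA i
  have h2 := (hcong hyC).1 i
  rw [hD] at h1 h2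
  obtain ⟨h1a, h1b⟩ := h1
  norm_num [abs_lt] at h1a
  have hA13 : A i = -13 := by omega
  rw [hA13, show b = 12 by linarith] at hsq
  norm_num at hsq
  have hy1 : y ≠ 1 := fun e => by rw [e, orderOf_one] at hy; norm_num at hy
  exact index_eight h y hy1 (Or.inr (Or.inr (by exact_mod_cast hsq)))

theorem case_twenty_one {G : Type*} [Group G] [Finite G] [IsSimpleGroup G] (h : Nat.card G = 5040) (P : Sylow 7 G)
    (hP : Nat.card P = 7) (hN : Nat.card (Subgroup.normalizer ((P : Subgroup G) : Set G)) = 42)
    (hC : Nat.card (Subgroup.centralizer ((P : Subgroup G) : Set G)) = 21) : False := by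
  haveI : Fact (Nat.Prime 7) := ⟨by norm_num⟩
  haveI : Fact (Nat.Prime 3) := ⟨Nat.prime_three⟩
  obtain ⟨⟨q, hq⟩, hq3⟩ := exists_prime_orderOf_dvd_card' (G := Subgroup.centralizer ((P : Subgroup G) : Set G)) 3
    (by rw [hC]; norm_num)
  rw [Subgroup.orderOf_mk] at hq3
  set H := Subgroup.centralizer ({q} : Set G) with hH
  have hCH : Subgroup.centralizer ((P : Subgroup G) : Set G) ≤ H := fun x hx => by
    haveI : Fact (Nat.Prime 7) := ⟨by norm_num⟩
    rw [hH, Subgroup.mem_centralizer_singleton_iff]
    -- the centraliser of order `21` is abelian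
    have hcyc : IsMulCommutative (Subgroup.centralizer ((P : Subgroup G) : Set G)) := by
      haveI : IsCyclic (P : Subgroup G) := isCyclic_of_prime_card hP
      haveI : IsMulCommutative (P : Subgroup G) := IsCyclic.isMulCommutative
      haveI hnm : ((P : Subgroup G).subgroupOf (Subgroup.centralizer ((P : Subgroup G) : Set G))).Normal :=
        ⟨fun z hz g => by
          rw [show g * z * g⁻¹ = z by
            rw [mul_inv_eq_iff_eq_mul]
            exact Subtype.ext (Subgroup.mem_centralizer_iff.1 g.2 _ hz).symm]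
          exact hz⟩
      haveI : IsCyclic (↥(Subgroup.centralizer ((P : Subgroup G) : Set G)) ⧸
          (P : Subgroup G).subgroupOf (Subgroup.centralizer ((P : Subgroup G) : Set G))) := by
        refine isCyclic_of_prime_card (p := 3) ?_
        have hle : (P : Subgroup G) ≤ Subgroup.centralizer ((P : Subgroup G) : Set G) := (P : Subgroup G).le_centralizer
        have hm := Subgroup.card_mul_index ((P : Subgroup G).subgroupOf (Subgroup.centralizer ((P : Subgroup G) : Set G)))
        rw [Nat.card_congr (Subgroup.subgroupOfEquivOfLe hle).toEquiv, hP, hC] at hm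
        rw [← Subgroup.index_eq_card]
        omega
      refine commutative_of_cyclic_center_quotient
        (QuotientGroup.mk' ((P : Subgroup G).subgroupOf (Subgroup.centralizer ((P : Subgroup G) : Set G)))) ?_ |> fun f => ⟨⟨f⟩⟩
      rw [QuotientGroup.ker_mk']
      intro z hz
      exact Subgroup.mem_center_iff.2 fun g => Subtype.ext (Subgroup.mem_centralizer_iff.1 g.2 _ hz).symm
    exact congrArg Subtype.val (hcyc.is_comm.comm ⟨x, hx⟩ ⟨q, hq⟩)
  obtain ⟨T, hT⟩ := (IsPGroup.of_card (p := 3) (n := 1) (G := Subgroup.zpowers q)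
    (by rw [Nat.card_zpowers, hq3, pow_one])).exists_le_sylow
  have hTc : Nat.card (T : Subgroup G) = 3 ^ 2 := sylow_card (m := 560) (by rw [h]; norm_num) (by norm_num) T
  have h9 : 9 ∣ Nat.card H := by
    rw [show (9 : ℕ) = Nat.card (T : Subgroup G) by rw [hTc]; norm_num]
    refine Subgroup.card_dvd_of_le fun x hx => ?_
    rw [hH, Subgroup.mem_centralizer_singleton_iff]
    exact congrArg Subtype.val (IsPGroup.commutative_of_card_eq_prime_sq hTc
      (⟨x, hx⟩ : (T : Subgroup G)) ⟨q, hT (Subgroup.mem_zpowers q)⟩)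
  have hPH : (P : Subgroup G) ≤ H := by
    haveI : IsCyclic (P : Subgroup G) := isCyclic_of_prime_card hP
    haveI : IsMulCommutative (P : Subgroup G) := IsCyclic.isMulCommutative
    exact le_trans (P : Subgroup G).le_centralizer hCH
  have h7 : 7 ∣ Nat.card H := hP ▸ Subgroup.card_dvd_of_le hPH
  obtain ⟨k, hk⟩ : 63 ∣ Nat.card H := Nat.Coprime.mul_dvd_of_dvd_of_dvd (by norm_num : Nat.Coprime 7 9) h7 h9
  let Q : Sylow 7 H := P.subtype hPH
  have hn := card_sylow_modEq_one 7 H
  rw [Q.card_eq_index_normalizer] at hn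
  set N := Subgroup.normalizer ((Q : Subgroup H) : Set H)
  have hNmap : N = (Subgroup.normalizer ((P : Subgroup G) : Set G)).subgroupOf H := by
    rw [show N = Subgroup.normalizer (((P : Subgroup G).subgroupOf H : Subgroup H) : Set H) from rfl,
      Subgroup.subgroupOf_normalizer_eq hPH]
  have hcN : Nat.card N = 21 ∨ Nat.card N = 42 := by
    rw [hNmap, ← Subgroup.inf_subgroupOf_right, Nat.card_congr (Subgroup.subgroupOfEquivOfLe inf_le_right).toEquiv]
    have h1 := Subgroup.card_dvd_of_le (inf_le_left : Subgroup.normalizer ((P : Subgroup G) : Set G) ⊓ H ≤ _)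
    have h2 := Subgroup.card_dvd_of_le (le_inf (Subgroup.centralizer_le_normalizer _) hCH)
    rw [hN] at h1
    rw [hC] at h2
    obtain ⟨c, hc⟩ := h2
    rw [hc, show (42 : ℕ) = 21 * 2 from rfl, Nat.mul_dvd_mul_iff_left (by norm_num)] at h1
    rcases (Nat.dvd_prime Nat.prime_two).1 h1 with e | e <;> rw [hc, e] <;> norm_num
  have hmulN := N.card_mul_index
  have hmulH := H.card_mul_index
  rw [h, hk] at hmulH
  rw [hk] at hmulN
  unfold Nat.ModEq at hn
  change N.index % 7 = 1 % 7 at hn
  have hk80 : k ∣ 80 := ⟨H.index, by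
    refine Nat.eq_of_mul_eq_mul_left (show 0 < 63 by norm_num) ?_
    rw [← mul_assoc, hmulH]⟩
  have hk' : k = 5 ∨ 10 ≤ k := by
    have := Nat.le_of_dvd (by norm_num) hk80
    by_contra hno
    push Not at hno
    obtain ⟨h5, h10⟩ := hno
    rcases hcN with e | e <;> rw [e] at hmulN <;> interval_cases k <;> first | omega | (norm_num at hk80)
  have hq1 : q ≠ 1 := fun e => by rw [e, orderOf_one] at hq3; norm_num at hq3
  rcases hk' with rfl | hk'
  · exact index_eight h q hq1 (Or.inr (Or.inl (by rw [← hH]; omega)))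
  · exact index_eight h q hq1 (Or.inl (by rw [← hH, hk]; omega))

theorem case_five {G : Type*} [Group G] [Finite G] [IsSimpleGroup G] (h : Nat.card G = 5040) (P : Sylow 7 G)
    (hP : Nat.card P = 7) (L : LocalData (G := G) 7 (P : Subgroup G)) (he : L.e = 6) (hC : L.C = 7) : False := by
  haveI : Fact (Nat.Prime 7) := ⟨by norm_num⟩
  haveI : Fact (Nat.Prime 5) := ⟨by norm_num⟩
  haveI : Fact (Nat.Prime 3) := ⟨Nat.prime_three⟩
  have hCP : Subgroup.centralizer ((P : Subgroup G) : Set G) = P := by
    haveI : IsCyclic (P : Subgroup G) := isCyclic_of_prime_card hP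
    haveI : IsMulCommutative (P : Subgroup G) := IsCyclic.isMulCommutative
    exact (Subgroup.eq_of_le_of_card_ge (P : Subgroup G).le_centralizer (by rw [hP, ← L.hC, hC])).symm
  have hdeg : ∀ χ : IrrCharacter G, (7 : ℤ) ∣ charDegree (χ : G → ℂ) ∨ (7 : ℤ) ∣ (charDegree (χ : G → ℂ) : ℤ) - 1 ∨
      (7 : ℤ) ∣ (charDegree (χ : G → ℂ) : ℤ) + 1 := fun χ =>
    deg_mod (p := 7) (by norm_num) P hP hCP (L.he.trans he) χ
  obtain ⟨hG, Q, hQ, M, hn, ⟨B⟩⟩ := setup (G := G) (p := 5) (m := 1008) (by norm_num) (by rw [h]) (by norm_num) (by rw [h]; norm_num)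
  have hmul := M.n_mul
  rw [h] at hmul
  have hCd := M.e_mul
  -- no element of order seven centralises a Sylow five-subgroup
  have h7C : ¬ 7 ∣ M.C := by
    intro h7
    rw [M.hC] at h7
    obtain ⟨⟨z, hz⟩, hz7⟩ := exists_prime_orderOf_dvd_card' (G := Subgroup.centralizer ((Q : Subgroup G) : Set G)) 7 h7
    rw [Subgroup.orderOf_mk] at hz7
    obtain ⟨R, hR⟩ := (IsPGroup.of_card (p := 7) (n := 1) (G := Subgroup.zpowers z)
      (by rw [Nat.card_zpowers, hz7, pow_one])).exists_le_sylow
    have hRc : Nat.card R = 7 := by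
      have := sylow_card (p := 7) (k := 1) (m := 720) (by rw [h]; norm_num) (by norm_num) R
      rwa [pow_one] at this
    have hzR : Subgroup.zpowers z = (R : Subgroup G) :=
      Subgroup.eq_of_le_of_card_ge hR (by rw [Nat.card_zpowers, hz7, hRc])
    have hQR : (Q : Subgroup G) ≤ Subgroup.centralizer ((R : Subgroup G) : Set G) := by
      rw [← hzR, Subgroup.zpowers_eq_closure, Subgroup.centralizer_closure]
      intro a ha
      rw [Subgroup.mem_centralizer_singleton_iff]
      exact Subgroup.mem_centralizer_iff.1 hz a ha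
    obtain ⟨g, hg⟩ := MulAction.exists_smul_eq G P R
    have hcard : Nat.card (Subgroup.centralizer ((R : Subgroup G) : Set G)) = 7 := by
      refine Eq.trans ?_ (L.hC.symm.trans hC)
      rw [← hg, Sylow.coe_subgroup_smul]
      refine Nat.card_congr ((MulAut.conj g⁻¹).toEquiv.subtypeEquiv fun a => ?_)
      simp only [Subgroup.mem_centralizer_iff, MulEquiv.toEquiv_eq_coe, EquivLike.coe_coe, SetLike.mem_coe,
        Subgroup.mem_pointwise_smul_iff_inv_smul_mem]
      constructor
      · intro hc b hb
        have h1 := hc (g * b * g⁻¹) (by simpa [MulAut.smul_def, mul_assoc] using hb)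
        simp only [MulAut.conj_apply, inv_inv]
        calc b * (g⁻¹ * a * g) = g⁻¹ * (g * b * g⁻¹ * a) * g := by group
          _ = g⁻¹ * (a * (g * b * g⁻¹)) * g := by rw [h1]
          _ = g⁻¹ * a * g * b := by group
      · intro hc b hb
        have h1 := hc (g⁻¹ * b * g) (by simpa [MulAut.smul_def, mul_assoc] using hb)
        simp only [MulAut.conj_apply, inv_inv] at h1
        calc b * a = g * ((g⁻¹ * b * g) * (g⁻¹ * a * g)) * g⁻¹ := by group
          _ = g * ((g⁻¹ * a * g) * (g⁻¹ * b * g)) * g⁻¹ := by rw [h1]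
          _ = a * b := by group
    have := Subgroup.card_dvd_of_le hQR
    rw [hQ, hcard] at this
    norm_num at this
  have he5 : M.e = 2 ∨ M.e = 4 := by
    have he1 := M.e_ne
    obtain ⟨k, hk, hk'⟩ := (Nat.dvd_prime_pow Nat.prime_two).1 (show M.e ∣ 2 ^ 2 from M.e_dvd)
    rw [hk'] at he1 ⊢
    interval_cases k <;> first | exact Or.inl rfl | exact Or.inr rfl | norm_num at he1
  have h1 := mem_list (by norm_num) hn M.n_mod M.n_ne
  rw [show (List.range (1008 + 1)).filter (fun d => decide (d ∣ 1008 ∧ d % 5 = 1 ∧ d ≠ 1)) =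
    [6, 16, 21, 36, 56, 126, 336] by decide +kernel] at h1
  simp only [List.mem_cons, List.not_mem_nil, or_false] at h1
  have hn21 : M.n ≠ 21 := fun e => CfsgLib.SylowCount21.no_twentyone (G := G)
    (Q.card_eq_index_normalizer.trans (M.hn.symm.trans e))
  -- every nontrivial degree is congruent to `0, 1, -1` modulo seven
  have hbad : ∀ d : ℤ, (∃ χ : IrrCharacter G, d.natAbs = charDegree (χ : G → ℂ)) →
      d % 7 = 0 ∨ d % 7 = 1 ∨ d % 7 = 6 := by
    rintro d ⟨χ, hχ⟩
    rcases hdeg χ with e | e | e <;> omega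
  have h56 : M.n = 56 → False := by
    intro e
    rw [e] at hmul
    rcases he5 with e' | e' <;> rw [e'] at hCd
    swap
    · omega
    revert B
    rw [e']
    intro B
    obtain ⟨i, -, hE⟩ := B.sum_two
    have hDm := B.D_mem (b := 70) (by rw [h]; norm_num) i
    rw [h, show cands 5040 5 70 = [-24, -14, -9, -4, 6, 16, 21, 36, 56] by decide +kernel] at hDm
    have hd := B.E_spec.2.1
    rw [hE, h] at hd
    obtain ⟨χ, s, hχ1, hs, hDs, hval⟩ := B.D_char i
    have hχabs : (B.D i).natAbs = charDegree (χ : G → ℂ) := by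
      rw [hDs]; rcases hs with rfl | rfl <;> simp
    have hm := hbad _ ⟨χ, hχabs⟩
    have hD6 : B.D i = 6 := by
      simp only [List.mem_cons, List.not_mem_nil, or_false] at hDm
      rcases hDm with e | e | e | e | e | e | e | e | e <;> rw [e] at hd hm ⊢ <;>
        first | rfl | (norm_num at hd; done) | (norm_num at hm; done)
    have h3 : 3 ∣ Nat.card (Subgroup.centralizer ((Q : Subgroup G) : Set G)) := by rw [← M.hC]; omega
    obtain ⟨⟨t, ht⟩, ht3⟩ := exists_prime_orderOf_dvd_card' 3 h3
    rw [Subgroup.orderOf_mk] at ht3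
    obtain ⟨x, hx5⟩ := exists_prime_orderOf_dvd_card' (G := (Q : Subgroup G)) 5 (by rw [hQ])
    have hxo : orderOf (x : G) = 5 := by rw [Subgroup.orderOf_coe]; exact hx5
    have hs1 : s = 1 := by rcases hs with e | e <;> [exact e; (rw [e, hD6] at hDs; omega)]
    refine false_of_six hG χ hχ1 (by rw [← hχabs, hD6]; rfl) hxo ht3
      (Subgroup.mem_centralizer_iff.1 ht _ x.2) fun j k hj => ?_
    rw [hs1] at hval
    have := hval ((x : G) ^ j) (pow_mem x.2 j) (fun e => hj (hxo ▸ orderOf_dvd_of_pow_eq_one e)) (t ^ k) (pow_mem ht k)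
      (fun hd5 => by
        have := hd5.trans (orderOf_pow_dvd k)
        rw [ht3] at this
        norm_num at this)
    simpa using this
  have h126 : M.n = 126 → False := by
    intro e
    rw [e] at hmul
    have hev : 2 ∣ Nat.card (Subgroup.centralizer ((Q : Subgroup G) : Set G)) := by
      rw [← M.hC]; rcases he5 with e' | e' <;> rw [e'] at hCd <;> omega
    obtain ⟨hlD, hlE⟩ := B.large (by decide) hev
    rcases he5 with e' | e'
    · revert B
      rw [e']
      intro B hlD hlE
      obtain ⟨i, -, hE⟩ := B.sum_two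
      have hDm := B.D_mem (b := 70) (by rw [h]; norm_num) i
      rw [h, show cands 5040 5 70 = [-24, -14, -9, -4, 6, 16, 21, 36, 56] by decide +kernel] at hDm
      have hd := B.E_spec.2.1
      rw [hE, h] at hd
      have hl := hlD i
      simp only [List.mem_cons, List.not_mem_nil, or_false] at hDm
      rcases hDm with e | e | e | e | e | e | e | e | e <;> rw [e] at hd hl <;>
        first | (norm_num at hd; done) | (norm_num at hl; done)
    · have hall : ∀ d : ℤ, d ∈ cands 5040 5 70 → 2 * (5 : ℕ) < |d| →
          (∃ χ : IrrCharacter G, d.natAbs = charDegree (χ : G → ℂ)) → 7 ∣ d ∨ d = 36 := by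
        intro d hd hl hχ
        rw [show cands 5040 5 70 = [-24, -14, -9, -4, 6, 16, 21, 36, 56] by decide +kernel] at hd
        have hm := hbad d hχ
        simp only [List.mem_cons, List.not_mem_nil, or_false] at hd
        rcases hd with rfl | rfl | rfl | rfl | rfl | rfl | rfl | rfl | rfl <;>
          first | (norm_num at hm; done) | (norm_num at hl; done) | exact Or.inr rfl | exact Or.inl (by norm_num)
      have hD : ∀ i, 7 ∣ B.D i ∨ B.D i = 36 := fun i => by
        refine hall _ ?_ (hlD i) ?_
        · have := B.D_mem (b := 70) (by rw [h]; norm_num) i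
          rwa [h] at this
        · obtain ⟨χ, s, -, hs, hDs, -⟩ := B.D_char i
          exact ⟨χ, by rw [hDs]; rcases hs with rfl | rfl <;> simp⟩
      have hE' : 7 ∣ B.E ∨ B.E = 36 := by
        refine hall _ ?_ hlE ?_
        · have := B.E_mem e' (by norm_num) (b := 70) (by rw [h]; norm_num)
          rwa [h] at this
        · obtain ⟨χ, -, hχ⟩ := B.E_char
          exact ⟨χ, hχ⟩
      have hn3 : B.n = 3 := by have := B.n_eq; omega
      have hsum := B.sum
      rw [Fintype.sum_equiv (finCongr hn3) B.D (fun j => B.D ((finCongr hn3).symm j)) (fun j => by simp),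
        Fin.sum_univ_three] at hsum
      have h0 := hD ((finCongr hn3).symm 0)
      have h1' := hD ((finCongr hn3).symm 1)
      have h2 := hD ((finCongr hn3).symm 2)
      omega
  rcases h1 with e | e | e | e | e | e | e
  · exact h7C (by rw [e] at hmul; rcases he5 with e' | e' <;> rw [e'] at hCd <;> omega)
  · exact h7C (by rw [e] at hmul; rcases he5 with e' | e' <;> rw [e'] at hCd <;> omega)
  · exact hn21 e
  · exact h7C (by rw [e] at hmul; rcases he5 with e' | e' <;> rw [e'] at hCd <;> omega)
  · exact h56 e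
  · exact h126 e
  · rw [e] at hmul; rcases he5 with e' | e' <;> rw [e'] at hCd <;> omega

/-- No finite simple group has order 5040 = 2^4 * 3^2 * 5 * 7. -/
theorem result {G : Type*} [Group G] [Finite G] [IsSimpleGroup G] : Nat.card G ≠ 5040 := by
  intro h
  haveI : Fact (Nat.Prime 7) := ⟨by norm_num⟩
  obtain ⟨hG, P, hP, L, hn, ⟨B⟩⟩ := setup (G := G) (p := 7) (m := 720) (by norm_num) (by rw [h]) (by norm_num) (by rw [h]; norm_num)
  have hmul := L.n_mul
  rw [h] at hmul
  have hCd := L.e_mul
  have h1 := mem_list (by norm_num) hn L.n_mod L.n_ne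
  rw [show (List.range (720 + 1)).filter (fun d => decide (d ∣ 720 ∧ d % 7 = 1 ∧ d ≠ 1)) = [8, 15, 36, 120] by
    decide +kernel] at h1
  simp only [List.mem_cons, List.not_mem_nil, or_false] at h1
  have hsylow : Nat.card (Sylow 7 G) = L.n := P.card_eq_index_normalizer.trans L.hn.symm
  have he : L.e = 2 ∨ L.e = 3 ∨ L.e = 6 := by
    have := Nat.le_of_dvd (by norm_num) L.e_dvd
    have := L.e_ne
    have h6 := L.e_dvd
    have hd : L.e ∈ Nat.divisors 6 := Nat.mem_divisors.2 ⟨h6, by norm_num⟩
    rw [show Nat.divisors 6 = {1, 2, 3, 6} by decide] at hd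
    simp only [Finset.mem_insert, Finset.mem_singleton] at hd
    omega
  rcases h1 with e | e | e | e <;> rw [e] at hmul
  · have hd := card_normalizer_dvd_of_succ (p := 7) (by norm_num) hG P hP (hsylow.trans e)
    rw [← L.hN, show L.N = 630 by omega] at hd
    norm_num at hd
  · exact CfsgLib.SylowCount15.reduce (G := G) (hsylow.trans e)
  · have he2 : L.e = 2 := by rcases he with e' | e' | e' <;> rw [e'] at hCd <;> omega
    have hev : 2 ∣ Nat.card (Subgroup.centralizer ((P : Subgroup G) : Set G)) := by
      rw [← L.hC]; rw [he2] at hCd; omega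
    revert B
    rw [he2]
    intro B
    exact case_two_even h P B hev
  · rcases he with e' | e' | e'
    · rw [e'] at hCd
      exact case_twenty_one h P hP (by rw [← L.hN]; omega) (by rw [← L.hC]; omega)
    · rw [e'] at hCd
      have hev : 2 ∣ Nat.card (Subgroup.centralizer ((P : Subgroup G) : Set G)) := by rw [← L.hC]; omega
      obtain ⟨hlD, hlE⟩ := B.large (by decide) hev
      have hD : ∀ i, B.D i ∈ ([-48, -20, 15, 36] : List ℤ) := fun i => by
        have hDm := B.D_mem (b := 70) (by rw [h]; norm_num) i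
        rw [h, show cands 5040 7 70 = [-48, -20, -6, 8, 15, 36] by decide +kernel] at hDm
        have hl := hlD i
        simp only [List.mem_cons, List.not_mem_nil, or_false] at hDm ⊢
        rcases hDm with x | x | x | x | x | x <;> rw [x] at hl ⊢ <;> first | (norm_num at hl; done) | norm_num
      have hn2 : B.n = 2 := by have := B.n_eq; omega
      have hsum := B.sum
      rw [Fintype.sum_equiv (finCongr hn2) B.D (fun j => B.D ((finCongr hn2).symm j)) (fun j => by simp),
        Fin.sum_univ_two] at hsum
      have h0 := hD ((finCongr hn2).symm 0)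
      have h1 := hD ((finCongr hn2).symm 1)
      have hd := B.E_spec.2.1
      rw [h] at hd
      generalize B.D ((finCongr hn2).symm 0) = a at h0 hsum
      generalize B.D ((finCongr hn2).symm 1) = b at h1 hsum
      rw [show B.E = -1 - a - b by linarith] at hd hlE
      simp only [List.mem_cons, List.not_mem_nil, or_false] at h0 h1
      rcases h0 with rfl | rfl | rfl | rfl <;> rcases h1 with rfl | rfl | rfl | rfl <;>
        first | (norm_num at hd; done) | (norm_num at hlE; done)
    · exact case_five h P hP L e' (by rw [e'] at hCd; omega)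

end Cfsg.Agent.S0978
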