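import Cfsg.Statements.S0979
import Cfsg.Agent.SmallOrders.Search
-- import your own Cfsg.Agent.* helpers here

set_option autoImplicit false
open Cfsg CfsgLib.SmallOrd

namespace Cfsg.Agent.S0979

/-- No finite simple group has order 5472 = 2^5 * 3^2 * 19. -/
theorem result {G : Type*} [Group G] [Finite G] [IsSimpleGroup G] : Nat.card G ≠ 5472 := by
  intro h
  haveI : Fact (Nat.Prime 19) := ⟨by norm_num⟩
  obtain ⟨hG, P, hP, L, hn, ⟨B⟩⟩ := setup (p := 19) (m := 288) (by norm_num) (by rw [h]) (by norm_num) (by rw [h]; norm_num)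
  have h1 := mem_list (by norm_num) hn L.n_mod L.n_ne
  rw [show (List.range (288 + 1)).filter (fun d => decide (d ∣ 288 ∧ d % 19 = 1 ∧ d ≠ 1)) = [96] by decide +kernel,
    List.mem_singleton] at h1
  have hN : L.N = 57 := by have := L.n_mul; rw [h, h1] at this; omega
  have he : L.e ∣ 3 := (show L.e ∣ Nat.gcd 18 57 from Nat.dvd_gcd L.e_dvd (hN ▸ Dvd.intro _ L.e_mul))
  have he3 := ((Nat.dvd_prime Nat.prime_three).1 he).resolve_left L.e_ne
  have hn1 : B.n = 2 := by have := B.n_eq; omega
  have hD : ∀ i, B.D i = -18 := fun i => by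
    have := B.D_mem (b := 73) (by rw [h]; norm_num) i
    rwa [h, show cands 5472 19 73 = [-18] by decide +kernel, List.mem_singleton] at this
  have hs := B.sum
  rw [Finset.sum_congr rfl fun i _ => hD i, Finset.sum_const, Finset.card_univ, Fintype.card_fin, hn1] at hs
  have hE : B.E = 35 := by simp at hs; linarith
  have hd := B.E_spec.2.1
  rw [hE, h] at hd
  norm_num at hd

end Cfsg.Agent.S0979
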