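import Cfsg.Statements.S0980
import Cfsg.Agent.SmallOrders.Search
-- import your own Cfsg.Agent.* helpers here

set_option autoImplicit false
open Cfsg CfsgLib.SmallOrd

namespace Cfsg.Agent.S0980

theorem no_exceptional {G : Type*} [Group G] [Finite G] (h : Nat.card G = 5760) (P : Sylow 5 G)
    (hP : Nat.card P = 5) (L : LocalData (G := G) 5 (P : Subgroup G)) (he : L.e = 2) (hC : L.C = 5)
    (B : BlockData (G := G) 5 L.e (P : Subgroup G)) : False := by
  haveI : Fact (Nat.Prime 5) := ⟨by norm_num⟩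
  revert B
  rw [he]
  intro B
  obtain ⟨i, hi, hE⟩ := B.sum_two
  have hCP : Subgroup.centralizer ((P : Subgroup G) : Set G) = P := by
    haveI : IsCyclic (P : Subgroup G) := isCyclic_of_prime_card hP
    haveI : IsMulCommutative (P : Subgroup G) := IsCyclic.isMulCommutative
    exact (Subgroup.eq_of_le_of_card_ge (P : Subgroup G).le_centralizer (by rw [hP, ← L.hC, hC])).symm
  obtain ⟨y, hy, hy2⟩ := exists_central_involution (G := G) (by rw [h]; norm_num)
  rw [h, show (5760 : ℕ) = 2 ^ 7 * 45 by norm_num, Nat.factorization_mul (by norm_num) (by norm_num),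
    Finsupp.add_apply, Nat.Prime.factorization_pow Nat.prime_two, Finsupp.single_eq_same,
    Nat.factorization_eq_zero_of_not_dvd (by norm_num), add_zero] at hy2
  obtain ⟨A, b, hA, hb, hs, -, hsq, hV⟩ := B.invol y hy
  have hsA : ∑ j, A j = A i := Finset.sum_eq_single i (fun j _ hj => absurd (hi j) hj) (by simp)
  rw [hsA] at hs
  have hbA : b = -1 - A i := by linarith
  obtain ⟨c, hc⟩ : ∃ c : ℕ, c = Nat.card (Subgroup.centralizer ({y} : Set G)) := ⟨_, rfl⟩
  have hcle : c ≤ 5760 := by
    rw [hc, ← h]; exact Nat.le_of_dvd Nat.card_pos (Subgroup.card_subgroup_dvd_card _)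
  obtain ⟨k, hk⟩ : 128 ∣ c := by rw [hc]; exact hy2
  have hDm := B.D_mem (b := 75) (by rw [h]; norm_num) i
  rw [h, show cands 5760 5 75 = [-64, -24, -9, -4, 6, 16, 36] by decide +kernel] at hDm
  have hd := B.E_spec.2.1
  rw [hE, h] at hd
  have hDi : B.D i = -9 ∨ B.D i = -4 := by
    simp only [List.mem_cons, List.not_mem_nil, or_false] at hDm
    rcases hDm with e | e | e | e | e | e | e <;> rw [e] at hd ⊢ <;> first | exact Or.inl rfl | exact Or.inr rfl | norm_num at hd
  have hA1 := mem_avals (hA i)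
  have hV' := hV hCP
  rw [Finset.sum_eq_single i (fun j _ hj => absurd (hi j) hj) (by simp), hE, hbA, h, ← hc] at hV'
  rw [Finset.sum_eq_single i (fun j _ hj => absurd (hi j) hj) (by simp), hbA, ← hc] at hsq
  have hbv := mem_avals hb
  rw [hbA, hE] at hbv
  have hkey : ((5760 : ℚ) * (1 + (A i : ℚ) ^ 2 / B.D i + ((-1 - A i : ℤ) : ℚ) ^ 2 / ((-1 - B.D i : ℤ) : ℚ)) =
      5 * (c : ℚ) ^ 2) ∨ (1 + (A i : ℚ) ^ 2 / B.D i + ((-1 - A i : ℤ) : ℚ) ^ 2 / ((-1 - B.D i : ℤ) : ℚ)) = 0 :=
    hV'.imp (fun e => by push_cast at e ⊢; linarith) (fun e => e.1)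
  rcases hDi with e | e <;> rw [e] at hA1 hbv hkey
  · rw [show avals (-9) = [-5, -1, 3, 7] by decide +kernel] at hA1
    simp only [List.mem_cons, List.not_mem_nil, or_false] at hA1
    have hk45 : k ≤ 45 := by omega
    rcases hA1 with e1 | e1 | e1 | e1 <;> rw [e1] at hkey hbv <;> norm_num at hkey <;>
      first
        | (revert hbv; decide +kernel)
        | (subst hk
           push_cast at hkey
           interval_cases k <;> norm_num at hkey)
  · rw [show avals (-4) = [0] by decide +kernel, List.mem_singleton] at hA1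
    rw [hA1] at hkey
    norm_num at hkey
    have hk45 : k ≤ 45 := by omega
    subst hk
    push_cast at hkey
    interval_cases k <;> norm_num at hkey

/-- No finite simple group has order 5760 = 2^7 * 3^2 * 5. -/
theorem result {G : Type*} [Group G] [Finite G] [IsSimpleGroup G] : Nat.card G ≠ 5760 := by
  intro h
  haveI : Fact (Nat.Prime 5) := ⟨by norm_num⟩
  obtain ⟨hG, P, hP, L, hn, ⟨B⟩⟩ := setup (p := 5) (m := 1152) (by norm_num) (by rw [h]) (by norm_num) (by rw [h]; norm_num)
  have hL := L.index_le hG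
  have hmul := L.n_mul
  have h1 := mem_list (by norm_num) hn L.n_mod L.n_ne
  rw [show (List.range (1152 + 1)).filter (fun d => decide (d ∣ 1152 ∧ d % 5 = 1 ∧ d ≠ 1)) = [6, 16, 36, 96, 576] by
    decide +kernel] at h1
  rw [h] at hmul hL
  have hCd := L.e_mul
  have he : L.e = 2 ∨ L.e = 4 := by
    have he1 := L.e_ne
    obtain ⟨k, hk, hk'⟩ := (Nat.dvd_prime_pow Nat.prime_two).1 (show L.e ∣ 2 ^ 2 from L.e_dvd)
    rw [hk'] at he1 ⊢
    interval_cases k <;> first | exact Or.inl rfl | exact Or.inr rfl | norm_num at he1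
  have hidx : ∀ k a : ℕ, 5760 = L.C * k → k = 2 ^ a → 0 < a → False := fun k a hk ha ha0 =>
    centralizer_index_ne (P : Subgroup G) hP Nat.prime_two ha0
      ((index_centralizer_eq L (h.trans hk) (L.hC ▸ Nat.card_pos)).trans ha)
  have heven : 2 ∣ L.C → False := fun hC =>
    B.five_even_false he (L.hC ▸ hC) (b := 75) (by rw [h]; norm_num) (by rw [h]; decide +kernel)
  simp only [List.mem_cons, List.not_mem_nil, or_false] at h1
  rcases h1 with e | e | e | e | e <;> rw [e] at hmul hL
  · rw [Nat.dvd_iff_mod_eq_zero] at hL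
    norm_num [Nat.factorial] at hL
  · rcases he with e' | e' <;> rw [e'] at hCd
    · exact hidx 32 5 (by omega) rfl (by norm_num)
    · exact hidx 64 6 (by omega) rfl (by norm_num)
  · exact heven (by rcases he with e' | e' <;> rw [e'] at hCd <;> omega)
  · rcases he with e' | e' <;> rw [e'] at hCd
    · exact heven (by omega)
    · exact false_of_three (p := 5) (a := 7) hG (by norm_num) (by norm_num) (by rw [h]; norm_num) (P : Subgroup G) hP
        (by rw [← L.hC]; omega)
  · rcases he with e' | e' <;> rw [e'] at hCd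
    · exact no_exceptional h P hP L e' (by omega) B
    · omega

end Cfsg.Agent.S0980
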