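import Cfsg.Statements.S0981
import Cfsg.Agent.SmallOrders.PSLEven

set_option autoImplicit false
open Cfsg

open CfsgLib.SmallOrd

namespace Cfsg.Agent.S0981

/-- A simple group of order 4080 is isomorphic to the projective special linear group of dimension 2 over the field with 16 elements. -/
theorem result {G : Type*} [Group G] [Finite G] [IsSimpleGroup G] (h : Nat.card G = 4080) {F : Type*} [Field F] [Fintype F] (hF : Fintype.card F = 16) : Nonempty (G ≃* Matrix.ProjectiveSpecialLinearGroup (Fin 2) F) := by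
  haveI : Fact (Nat.Prime 17) := ⟨by norm_num⟩
  haveI : Fact (Nat.Prime 5) := ⟨by norm_num⟩
  haveI : Fact (Nat.Prime 3) := ⟨by norm_num⟩
  obtain ⟨hG, P, hP, L, hn, ⟨B⟩⟩ := setup (p := 17) (m := 240) (by norm_num) (by rw [h]) (by norm_num)
    (by rw [h]; norm_num)
  have hn' := mem_list (by norm_num) hn L.n_mod L.n_ne
  rw [show ((List.range (240 + 1)).filter fun d => decide (d ∣ 240 ∧ d % 17 = 1 ∧ d ≠ 1)) = [120] by decide +kernel,
    List.mem_singleton] at hn'
  have h1 := L.n_mul
  rw [hn', h] at h1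
  obtain ⟨c, hc⟩ := L.p_dvd
  have h2 := L.e_mul
  rw [show L.N = 34 by omega, hc] at h2
  have he2 : L.e ∣ 2 := ⟨c, Nat.eq_of_mul_eq_mul_left (show 0 < 17 by norm_num) (by linarith)⟩
  have he : L.e = 2 := ((Nat.dvd_prime Nat.prime_two).1 he2).resolve_left L.e_ne
  rw [he] at h2
  have hCP : Subgroup.centralizer ((P : Subgroup G) : Set G) = P := by
    haveI : IsCyclic (P : Subgroup G) := isCyclic_of_prime_card hP
    haveI : IsMulCommutative (P : Subgroup G) := IsCyclic.isMulCommutative
    exact (Subgroup.eq_of_le_of_card_ge (P : Subgroup G).le_centralizer (by rw [hP, ← L.hC]; omega)).symm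
  revert B
  rw [he]
  intro B
  have hD : ∀ i, B.D i = -16 := fun i => by
    have hm := B.D_mem (b := 63) (by rw [h]; norm_num) i
    rwa [h, show cands 4080 17 63 = [-16] by decide +kernel, List.mem_singleton] at hm
  have hC : ∀ y : G, orderOf y = 2 → Nat.card (Subgroup.centralizer ({y} : Set G)) = 16 := fun y hy =>
    B.card_centralizer_involution hCP (k := 4) (E' := 15) (by norm_num) hD (by norm_num) (by rw [h]; norm_num)
      (by norm_num) (by norm_num) (c := 16) (by rw [h]; norm_num) (by norm_num) hy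
  obtain ⟨-, Q, hQ, M, hm, -⟩ := setup (G := G) (p := 5) (m := 816) (by norm_num) (by rw [h]) (by norm_num)
    (by rw [h]; norm_num)
  set R := Subgroup.centralizer ((Q : Subgroup G) : Set G)
  obtain ⟨z, hzQ, hz1⟩ : ∃ z ∈ (Q : Subgroup G), z ≠ 1 := by
    haveI : Nontrivial (Q : Subgroup G) := Finite.one_lt_card_iff_nontrivial.1 (by rw [hQ]; norm_num)
    obtain ⟨⟨z, hz⟩, hne⟩ := exists_ne (1 : (Q : Subgroup G))
    exact ⟨z, hz, fun e => hne (Subtype.ext e)⟩
  have hzC : Subgroup.centralizer ({z} : Set G) = R := centralizer_of_mem_prime (Q : Subgroup G) hQ hzQ hz1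
  have hz5 : orderOf z = 5 := by
    refine orderOf_eq_prime ?_ hz1
    have := pow_card_eq_one' (x := (⟨z, hzQ⟩ : (Q : Subgroup G)))
    rw [hQ] at this
    exact congrArg Subtype.val this
  have hR2 : ¬ 2 ∣ M.C := fun hd => by
    haveI : Fact (Nat.Prime 2) := ⟨Nat.prime_two⟩
    obtain ⟨⟨y, hy⟩, hy2⟩ := exists_prime_orderOf_dvd_card' 2 (M.hC ▸ hd : 2 ∣ Nat.card R)
    rw [Subgroup.orderOf_mk] at hy2
    replace hy : y ∈ R := hy
    rw [← hzC, Subgroup.mem_centralizer_singleton_iff] at hy
    have h3 := orderOf_dvd_natCard (⟨z, Subgroup.mem_centralizer_singleton_iff.2 hy.symm⟩ :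
      Subgroup.centralizer ({y} : Set G))
    rw [Subgroup.orderOf_mk, hz5, hC y hy2] at h3
    norm_num at h3
  have hR17 : ¬ 17 ∣ M.C := fun hd => by
    have h3 := orderOf_dvd_of_pow_eq_one (pow_eq_one_of_dvd_centralizer P hP hCP
      (x := z) (by rw [hzC, ← M.hC]; exact hd))
    rw [hz5] at h3
    norm_num at h3
  have hM : M.n = 136 ∧ M.C = 15 := by
    have hm' := mem_list (by norm_num) hm M.n_mod M.n_ne
    rw [show ((List.range (816 + 1)).filter fun d => decide (d ∣ 816 ∧ d % 5 = 1 ∧ d ≠ 1)) = [6, 16, 51, 136, 816] by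
      decide +kernel] at hm'
    simp only [List.mem_cons, List.not_mem_nil, or_false] at hm'
    have h3 := M.n_mul
    rw [h, ← M.e_mul] at h3
    have he5 : M.e = 2 ∨ M.e = 4 := by
      have h4 : M.e ∣ 4 := M.e_dvd
      have h5 := Nat.le_of_dvd (by norm_num) h4
      have h6 := M.e_ne
      interval_cases M.e <;> first | omega | (revert h4; decide)
    obtain ⟨d, hd⟩ := M.p_dvd
    rw [hd] at hR2 hR17 h3 ⊢
    rcases hm' with e | e | e | e | e <;> rcases he5 with e' | e' <;> rw [e, e'] at h3 <;> omega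
  have hR15 : Nat.card R = 15 := M.hC.symm.trans hM.2
  have hcomm : ∀ a ∈ R, ∀ b ∈ R, a * b = b * a := by
    obtain ⟨⟨w, hw⟩, hw3⟩ := exists_prime_orderOf_dvd_card' (G := R) 3 (by rw [hR15]; norm_num)
    rw [Subgroup.orderOf_mk] at hw3
    have hzw : Commute z w := (Subgroup.mem_centralizer_singleton_iff.1 (hzC.symm ▸ hw)).symm
    have ho : orderOf (z * w) = 15 := by
      rw [hzw.orderOf_mul_eq_mul_orderOf_of_coprime (by rw [hz5, hw3]; norm_num), hz5, hw3]
    have hzR : z ∈ R := hzC ▸ Subgroup.mem_centralizer_singleton_iff.2 rfl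
    have hzp : Subgroup.zpowers (z * w) = R := Subgroup.eq_of_le_of_card_ge
      (Subgroup.zpowers_le.2 (mul_mem hzR hw)) (by rw [hR15, Nat.card_zpowers, ho])
    intro a ha b hb
    rw [← hzp, Subgroup.mem_zpowers_iff] at ha hb
    obtain ⟨i, rfl⟩ := ha
    obtain ⟨j, rfl⟩ := hb
    exact zpow_mul_comm _ _ _
  have hnorm : Subgroup.normalizer (R : Set G) ≤ Subgroup.normalizer ((Q : Subgroup G) : Set G) := by
    intro g hg
    rw [Subgroup.mem_normalizer_iff] at hg ⊢
    have key : ∀ s ∈ R, s ^ 5 = 1 → s ∈ (Q : Subgroup G) := fun s hs hs5 => by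
      haveI : IsPGroup 5 (Subgroup.zpowers s ⊔ (Q : Subgroup G) : Subgroup G) := by
        refine IsPGroup.to_sup_of_normal_right' ?_ Q.isPGroup' ?_
        · intro t
          obtain ⟨i, hi⟩ := Subgroup.mem_zpowers_iff.1 t.2
          refine ⟨1, Subtype.ext ?_⟩
          rw [pow_one, SubgroupClass.coe_pow, ← hi, ← zpow_natCast, ← zpow_mul, mul_comm, zpow_mul, zpow_natCast,
            hs5, one_zpow]
          rfl
        · exact Subgroup.zpowers_le.2 (Subgroup.centralizer_le_normalizer _ hs)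
      rw [← Q.is_maximal' this le_sup_right]
      exact Subgroup.mem_sup_left (Subgroup.mem_zpowers s)
    have hQR : (Q : Subgroup G) ≤ R := fun s hs => by
      haveI : IsCyclic (Q : Subgroup G) := isCyclic_of_prime_card hQ
      haveI : IsMulCommutative (Q : Subgroup G) := IsCyclic.isMulCommutative
      exact (Q : Subgroup G).le_centralizer hs
    have hQ5 : ∀ s ∈ (Q : Subgroup G), s ^ 5 = 1 := fun s hs => by
      have := pow_card_eq_one' (x := (⟨s, hs⟩ : (Q : Subgroup G)))
      rw [hQ] at this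
      exact congrArg Subtype.val this
    intro s
    constructor
    · exact fun hs => key _ ((hg s).1 (hQR hs)) (by rw [conj_pow, hQ5 s hs, mul_one, mul_inv_cancel])
    · intro hs
      refine key s ((hg s).2 (hQR hs)) ?_
      have h4 := hQ5 _ hs
      rwa [conj_pow, conj_eq_one_iff] at h4
  have hidx : 136 ≤ (Subgroup.normalizer (R : Set G)).index := by
    have h3 := Subgroup.index_antitone hnorm
    rwa [← M.hn, hM.1] at h3
  have hRC : ∀ x ∈ R, x ≠ 1 → Subgroup.centralizer ({x} : Set G) = R := fun x hx hx1 =>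
    centralizer_eq_of_odd_part P hP hCP hC ⟨4, by rw [h]; norm_num⟩ (by norm_num) (by norm_num) R hR15 hcomm hx hx1
  have h15 : 136 * 14 ≤ Nat.card {g : G // g ≠ 1 ∧ g ^ 15 = 1} :=
    le_trans (Nat.mul_le_mul_right _ hidx) (card_family_le R hR15 hRC)
  have h17 : 120 * 16 ≤ Nat.card {g : G // g ≠ 1 ∧ g ^ 17 = 1} := by
    refine le_trans ?_ (card_family_le (P : Subgroup G) hP fun x hx hx1 => ?_)
    · rw [← L.hn, hn']
    · rw [centralizer_of_mem_prime (P : Subgroup G) hP hx hx1, hCP]
  obtain ⟨y, hy, -⟩ := exists_central_involution (G := G) (by rw [h]; norm_num)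
  have h255 : 255 ≤ Nat.card {g : G // g ≠ 1 ∧ g ^ 2 = 1} := by
    refine le_trans ?_ (card_class_le hy)
    have h3 := (Subgroup.centralizer ({y} : Set G)).card_mul_index
    rw [hC y hy, h] at h3
    omega
  exact iso_psl_even hG (q := 16) (a := 17) (b := 15) ⟨4, rfl⟩ (by norm_num) (by rw [h]; norm_num)
    (by rw [h]; norm_num) (by decide) (by decide) hC
    (pow_cover (by norm_num) (by norm_num) (by norm_num) h255 h17 h15 (by rw [h])) hF

end Cfsg.Agent.S0981
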