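import Cfsg.Statements.S1001
import Cfsg.Agent.SmallCof.Main

set_option autoImplicit false
open Cfsg

namespace Cfsg.Agent.S1001

/-- In a finite simple group whose order has the form p * 3^a * 2^b with p prime, the centralizer of any element of order p is the cyclic group it generates. -/
theorem result {G : Type*} [Group G] [Finite G] [IsSimpleGroup G] (p a b : ℕ) (hp : p.Prime) (hG : Nat.card G = p * 3 ^ a * 2 ^ b) (x : G) (hx : orderOf x = p) : Subgroup.centralizer ({x} : Set G) = Subgroup.zpowers x := by
  haveI := Fact.mk hp
  by_cases h : p = 2 ∨ p = 3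
  · have hcomm : ∀ u v : G, u * v = v * u := by
      refine IsSimpleGroup.comm_iff_isSolvable.2 ?_
      rcases h with rfl | rfl
      · exact Cfsg.Agent.S0144.result 2 3 (b + 1) a Nat.prime_two Nat.prime_three (by rw [hG]; ring)
      · exact Cfsg.Agent.S0144.result 2 3 b (a + 1) Nat.prime_two Nat.prime_three (by rw [hG]; ring)
    have htop : Subgroup.zpowers x = ⊤ := by
      have hn : (Subgroup.zpowers x).Normal := ⟨fun n hn g => by
        rw [hcomm g n, mul_inv_cancel_right]; exact hn⟩
      refine (IsSimpleGroup.eq_bot_or_eq_top_of_normal _ hn).resolve_left fun e => ?_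
      rw [Subgroup.zpowers_eq_bot] at e
      rw [e, orderOf_one] at hx
      exact hp.ne_one hx.symm
    rw [htop]
    refine eq_top_iff.2 fun v _ => Subgroup.mem_centralizer_singleton_iff.2 (hcomm v x)
  · push Not at h
    exact CfsgLib.SmallCof.centralizer_once (a := a) (b := b) Nat.prime_three Nat.prime_two hp (by norm_num)
      h.2.symm h.1.symm (by rw [hG]; ring) hx

end Cfsg.Agent.S1001
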