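import Cfsg.Statements.S0983
import Cfsg.Agent.SmallOrdersB.Keeps
import Cfsg.Agent.SmallOrdersB.Single
import Cfsg.Agent.SmallOrdersB.O5400
import Cfsg.Agent.SmallCof.Main
import Cfsg.Agent.CardPRQ.Main
import Cfsg.Agent.S0976
import Cfsg.Agent.S0977
import Cfsg.Agent.S0978
import Cfsg.Agent.S0980
import Cfsg.Agent.S0243

set_option autoImplicit false
open Cfsg CfsgLib.SmallOrdB

namespace Cfsg.Agent.S0983

/-- A non-abelian finite simple group of order greater than 3640 and at most 6232 has order 4080, 5616, 6048 or 6072. -/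
theorem result {G : Type*} [Group G] [Finite G] [IsSimpleGroup G] (hG : ¬ IsMulCommutative G) (h1 : 3640 < Nat.card G) (h2 : Nat.card G ≤ 6232) : Nat.card G = 4080 ∨ Nat.card G = 5616 ∨ Nat.card G = 6048 ∨ Nat.card G = 6072 := by
  have hna : ∃ x y : G, x * y ≠ y * x := by
    by_contra! hc
    exact hG ⟨⟨hc⟩⟩
  have five : ∀ {p q a b : ℕ}, p.Prime → q.Prime → p ≠ q → Nat.card G = 4 * p ^ a * q ^ b → False := by
    intro p q a b hp hq hpq he
    obtain ⟨e⟩ := CfsgLib.SmallCof.main_four hna hp hq hpq he
    rw [Nat.card_congr e.toEquiv] at h1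
    have h60 : Nat.card (alternatingGroup (Fin 5)) = 60 := by rw [Nat.card_eq_fintype_card]; decide +kernel
    omega
  have three : ∀ {p q a b : ℕ}, p.Prime → q.Prime → p ≠ q → a ≤ 2 → Nat.card G = 3 * p ^ a * q ^ b → False := by
    intro p q a b hp hq hpq ha he
    rcases CfsgLib.SmallCof.main_three hna hp hq hpq ha he with ⟨⟨e⟩⟩ | ⟨⟨e⟩⟩
    · rw [Nat.card_congr e.toEquiv] at h1
      have h60 : Nat.card (alternatingGroup (Fin 5)) = 60 := by rw [Nat.card_eq_fintype_card]; decide +kernel
      omega
    · rw [Nat.card_congr e.toEquiv] at h1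
      haveI : Fact (Nat.Prime 7) := ⟨by norm_num⟩
      have h168 := Cfsg.Agent.S0243.result (F := ZMod 7) (ZMod.card 7) 2 le_rfl
      norm_num [Fin.prod_univ_two] at h168
      rw [← Nat.card_eq_fintype_card] at h168
      omega
  have h := mem_hardAll hG h1 h2
  simp only [hardAll, List.mem_cons, List.not_mem_nil, or_false] at h
  rcases h with e | e | e | e | e | e | e | e | e | e | e | e | e | e | e | e | e | e | e | e | e | e | e | e | e | e
  · exact absurd e (ne3780 hG)
  · exact (three (p := 5) (q := 2) (a := 1) (b := 8) (by norm_num) (by norm_num) (by norm_num) (by norm_num) (by rw [e]; norm_num)).elim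
  · exact absurd e Cfsg.Agent.S0976.result
  · exact Or.inl e
  · have := CfsgLib.CardPRQ.three_of_lt hna (p := 13) (q := 2) (r := 5) (b := 6) (by norm_num) (by norm_num) (by norm_num) (by norm_num) (by norm_num) (by norm_num) (by rw [e]; norm_num)
    omega
  · exact absurd e (ne4200 hG)
  · exact (five (p := 3) (q := 13) (a := 4) (b := 1) (by norm_num) (by norm_num) (by norm_num) (by rw [e]; norm_num)).elim
  · exact absurd e Cfsg.Agent.S0977.result
  · exact (five (p := 3) (q := 5) (a := 2) (b := 3) (by norm_num) (by norm_num) (by norm_num) (by rw [e]; norm_num)).elim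
  · exact absurd e (ne4536 hG)
  · exact absurd e (ne4620 hG)
  · exact (three (p := 5) (q := 2) (a := 2) (b := 6) (by norm_num) (by norm_num) (by norm_num) (by norm_num) (by rw [e]; norm_num)).elim
  · exact (five (p := 5) (q := 7) (a := 2) (b := 2) (by norm_num) (by norm_num) (by norm_num) (by rw [e]; norm_num)).elim
  · have := CfsgLib.CardPRQ.three_of_lt hna (p := 31) (q := 2) (r := 5) (b := 5) (by norm_num) (by norm_num) (by norm_num) (by norm_num) (by norm_num) (by norm_num) (by rw [e]; norm_num)
    omega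
  · exact absurd e Cfsg.Agent.S0978.result
  · exact absurd e (ne5148 hG)
  · exact (five (p := 3) (q := 7) (a := 3) (b := 2) (by norm_num) (by norm_num) (by norm_num) (by rw [e]; norm_num)).elim
  · exact (three (p := 7) (q := 2) (a := 1) (b := 8) (by norm_num) (by norm_num) (by norm_num) (by norm_num) (by rw [e]; norm_num)).elim
  · exact absurd e (ne5400 hG)
  · exact absurd e (ne5460 hG)
  · exact Or.inr (Or.inl e)
  · exact absurd e Cfsg.Agent.S0980.result
  · exact absurd e (ne5880 hG)
  · exact absurd e (ne6000 hG)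
  · exact Or.inr (Or.inr (Or.inl e))
  · exact Or.inr (Or.inr (Or.inr e))

end Cfsg.Agent.S0983
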