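import Cfsg.Statements.S0984
import Cfsg.Agent.AltSevenRecog.Main

set_option autoImplicit false
open Cfsg

namespace Cfsg.Agent.S0984

/-- A simple group of order 2520 is isomorphic to the alternating group of degree 7. -/
theorem result {G : Type*} [Group G] [Finite G] [IsSimpleGroup G] (h : Nat.card G = 2520) : Nonempty (G ≃* alternatingGroup (Fin 7)) := by
  have hG : ¬ IsMulCommutative G := CfsgLib.SmallOrd.not_comm (by rw [h]; norm_num)
  by_cases hbig : ∀ H : Subgroup G, H ≠ ⊤ → 8 ≤ H.index
  · exact CfsgLib.AltSevenRecog.Big.iso ⟨h, hbig⟩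
  push Not at hbig
  obtain ⟨H, hH, hlt⟩ := hbig
  obtain ⟨f, hf⟩ := Cfsg.Agent.S0991.result hG H hH
  have hd := CfsgLib.SmallOrd.two_mul_card_dvd_factorial hG H hH
  rw [h] at hd
  have h7 : H.index = 7 := by
    have h1 : H.index ≠ 0 := Subgroup.index_ne_zero_of_finite
    generalize H.index = n at *
    interval_cases n <;> first | rfl | (norm_num [Nat.factorial] at hd)
  revert f
  rw [h7]
  intro f hf
  refine ⟨MulEquiv.ofBijective f ((Nat.bijective_iff_injective_and_card f).2 ⟨hf, ?_⟩)⟩
  have ha := two_mul_nat_card_alternatingGroup (α := Fin 7)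
  rw [Nat.card_perm, Nat.card_fin, show Nat.factorial 7 = 5040 from rfl] at ha
  rw [h]
  omega

end Cfsg.Agent.S0984
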