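import Cfsg.Statements.S0989
import Mathlib

set_option autoImplicit false
open Cfsg

namespace Cfsg.Agent.S0989

/-- In the symmetric group on p or p + 1 letters, p a prime, the normalizer of a Sylow p-subgroup has order p * (p - 1). -/
theorem result {α : Type*} [Fintype α] [DecidableEq α] (p : ℕ) [Fact p.Prime] (hα : Fintype.card α = p ∨ Fintype.card α = p + 1) (P : Sylow p (Equiv.Perm α)) : Nat.card ↥(Subgroup.normalizer ((P : Subgroup (Equiv.Perm α)) : Set (Equiv.Perm α))) = p * (p - 1) := by
  classical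
  have hp := (Fact.out : p.Prime)
  have hle : p ≤ Fintype.card α := by rcases hα with h | h <;> omega
  have hPc : Nat.card ↥(P : Subgroup (Equiv.Perm α)) = p := by
    rw [P.card_eq_multiplicity, Nat.card_perm, Nat.card_eq_fintype_card (α := α)]
    have h1 : (p.factorial).factorization p = 1 := by
      rw [← Nat.mul_factorial_pred hp.ne_zero, Nat.factorization_mul hp.ne_zero (Nat.factorial_ne_zero _),
        Finsupp.add_apply, hp.factorization_self, Nat.factorization_eq_zero_of_not_dvd]
      rw [hp.dvd_factorial]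
      have := hp.two_le
      omega
    rcases hα with h | h
    · rw [h, h1, pow_one]
    · rw [h, Nat.factorial_succ, Nat.factorization_mul (Nat.succ_ne_zero p) (Nat.factorial_ne_zero _),
        Finsupp.add_apply, h1, Nat.factorization_eq_zero_of_not_dvd, zero_add, pow_one]
      intro hd
      rw [Nat.succ_eq_add_one] at hd
      have := (Nat.dvd_add_right (dvd_refl p)).mp hd
      have := Nat.le_of_dvd one_pos this
      have := hp.two_le
      omega
  obtain ⟨σ, hσ⟩ : ∃ σ : ↥(P : Subgroup (Equiv.Perm α)), orderOf σ = p :=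
    exists_prime_orderOf_dvd_card' p (by rw [hPc])
  have hσo : orderOf (σ : Equiv.Perm α) = p := by rw [Subgroup.orderOf_coe, hσ]
  have hcycle : ∀ x : Equiv.Perm α, orderOf x = p → x.IsCycle ∧ x.support.card = p := by
    intro x hx
    have hc := Equiv.Perm.isCycle_of_prime_order' (σ := x) (by rw [hx]; exact hp) ?_
    · exact ⟨hc, by rw [← hc.orderOf, hx]⟩
    · rw [hx]; rcases hα with h | h <;> have := hp.two_le <;> omega
  set N := Subgroup.normalizer ((P : Subgroup (Equiv.Perm α)) : Set (Equiv.Perm α)) with hN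
  set C := Subgroup.centralizer ({(σ : Equiv.Perm α)} : Set (Equiv.Perm α)) with hC
  have hzp : Subgroup.zpowers (σ : Equiv.Perm α) = P := Subgroup.eq_of_le_of_card_ge
    (Subgroup.zpowers_le.mpr σ.2) (by rw [Nat.card_zpowers, hσo, hPc])
  have hCN : C ≤ N := by
    intro c hc
    have hc' : ∀ x ∈ (P : Subgroup (Equiv.Perm α)), c * x * c⁻¹ = x := by
      intro x hx
      rw [← hzp, Subgroup.mem_zpowers_iff] at hx
      obtain ⟨i, rfl⟩ := hx
      have h : Commute c (σ : Equiv.Perm α) := Subgroup.mem_centralizer_singleton_iff.mp hc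
      rw [(h.zpow_right i).eq, mul_inv_cancel_right]
    refine Subgroup.mem_normalizer_iff.mpr fun x => ⟨fun hx => by rw [hc' x hx]; exact hx, fun hx => ?_⟩
    have h2 := hc' _ hx
    have h3 : c * x * c⁻¹ = x := by
      have := congrArg (fun y => c⁻¹ * y * c) h2
      simpa [mul_assoc] using this
    rwa [h3] at hx
  obtain ⟨hσc, hσs⟩ := hcycle _ hσo
  have hCc : Nat.card C = p := by
    have h := Equiv.Perm.nat_card_centralizer (g := (σ : Equiv.Perm α))
    rw [hσc.cycleType, hσs] at h
    simp at h
    rw [hC, Nat.card_eq_fintype_card, h]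
    have hle' : Fintype.card α - p = 0 ∨ Fintype.card α - p = 1 := by rcases hα with h | h <;> omega
    rcases hle' with h' | h' <;> rw [h'] <;> simp
  let f : N ⧸ C.subgroupOf N → {x : ↥(P : Subgroup (Equiv.Perm α)) // x ≠ 1} :=
    Quotient.lift (fun g : N => ⟨⟨(g : Equiv.Perm α) * σ * (g : Equiv.Perm α)⁻¹,
      (Subgroup.mem_normalizer_iff.mp g.2 _).mp σ.2⟩, fun h => by
        have h' : (g : Equiv.Perm α) * σ * (g : Equiv.Perm α)⁻¹ = 1 := congrArg Subtype.val h
        rw [conj_eq_one_iff] at h'
        rw [h', orderOf_one] at hσo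
        exact hp.ne_one hσo.symm⟩)
      (by
        intro a b hab
        have hab' : (a : Equiv.Perm α)⁻¹ * b ∈ C := by
          have := QuotientGroup.leftRel_apply.mp hab
          exact this
        rw [Subgroup.mem_centralizer_singleton_iff] at hab'
        refine Subtype.ext (Subtype.ext ?_)
        show (a : Equiv.Perm α) * σ * (a : Equiv.Perm α)⁻¹ = b * σ * (b : Equiv.Perm α)⁻¹
        calc (a : Equiv.Perm α) * σ * (a : Equiv.Perm α)⁻¹
            = a * ((σ : Equiv.Perm α) * ((a : Equiv.Perm α)⁻¹ * b)) * (b : Equiv.Perm α)⁻¹ := by group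
          _ = a * (((a : Equiv.Perm α)⁻¹ * b) * σ) * (b : Equiv.Perm α)⁻¹ := by rw [hab']
          _ = b * σ * (b : Equiv.Perm α)⁻¹ := by group)
  have hf : Function.Bijective f := by
    constructor
    · rintro ⟨a⟩ ⟨b⟩ hab
      refine Quotient.sound (QuotientGroup.leftRel_apply.mpr ?_)
      show (a : Equiv.Perm α)⁻¹ * b ∈ C
      rw [Subgroup.mem_centralizer_singleton_iff]
      have h : (a : Equiv.Perm α) * σ * (a : Equiv.Perm α)⁻¹ = b * σ * (b : Equiv.Perm α)⁻¹ :=
        congrArg Subtype.val (congrArg Subtype.val hab)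
      calc (a : Equiv.Perm α)⁻¹ * b * σ = (a : Equiv.Perm α)⁻¹ * (b * σ * (b : Equiv.Perm α)⁻¹) * b := by group
        _ = (a : Equiv.Perm α)⁻¹ * (a * σ * (a : Equiv.Perm α)⁻¹) * b := by rw [h]
        _ = σ * ((a : Equiv.Perm α)⁻¹ * b) := by group
    · rintro ⟨x, hx⟩
      have hxo : orderOf (x : Equiv.Perm α) = p := by
        rw [Subgroup.orderOf_coe]
        refine orderOf_eq_prime ?_ hx
        have h1 := pow_card_eq_one' (x := x)
        rwa [hPc] at h1
      obtain ⟨hxc, hxs⟩ := hcycle _ hxo
      have hconj : IsConj (σ : Equiv.Perm α) x := Equiv.Perm.isConj_iff_cycleType_eq.mpr (by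
        rw [hσc.cycleType, hxc.cycleType, hσs, hxs])
      obtain ⟨c, hc⟩ := isConj_iff.mp hconj
      have hcN : c ∈ N := by
        rw [hN, ← hzp, Subgroup.mem_normalizer_iff]
        intro y
        have hmap : (Subgroup.zpowers (σ : Equiv.Perm α)).map (MulAut.conj c).toMonoidHom =
            Subgroup.zpowers (σ : Equiv.Perm α) := by
          rw [MonoidHom.map_zpowers]
          show Subgroup.zpowers (c * σ * c⁻¹) = _
          rw [hc]
          refine Subgroup.eq_of_le_of_card_ge (Subgroup.zpowers_le.mpr (by rw [hzp]; exact x.2)) ?_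
          rw [Nat.card_zpowers, Nat.card_zpowers, hσo, hxo]
        constructor
        · intro hy
          rw [← hmap]
          exact ⟨y, hy, rfl⟩
        · intro hy
          rw [← hmap] at hy
          obtain ⟨z, hz, hzy⟩ := hy
          rwa [show y = z from (MulAut.conj c).injective hzy.symm]
      exact ⟨QuotientGroup.mk ⟨c, hcN⟩, Subtype.ext (Subtype.ext hc)⟩
  have hidx : (C.subgroupOf N).index = p - 1 := by
    rw [Subgroup.index, Nat.card_congr (Equiv.ofBijective f hf), Nat.card_eq_fintype_card,
      Fintype.card_subtype_compl, Fintype.card_subtype_eq, ← Nat.card_eq_fintype_card, hPc]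
  rw [← (C.subgroupOf N).card_mul_index, hidx,
    Nat.card_congr (Subgroup.subgroupOfEquivOfLe hCN).toEquiv, hCc]

end Cfsg.Agent.S0989
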