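import Cfsg.Statements.S0990
import Mathlib

set_option autoImplicit false
open Cfsg

namespace Cfsg.Agent.S0990

/-- Let p be an odd prime and P a Sylow p-subgroup of the symmetric group on a finite set with at least two elements. Then P is contained in the alternating group, and twice the order of the normalizer of P inside the alternating group equals the order of the normalizer of P in the symmetric group. -/
theorem result {α : Type*} [Fintype α] [DecidableEq α] (hα : 2 ≤ Fintype.card α) (p : ℕ) [Fact p.Prime] (hp : p ≠ 2) (P : Sylow p (Equiv.Perm α)) : (P : Subgroup (Equiv.Perm α)) ≤ alternatingGroup α ∧ 2 * Nat.card ↥(Subgroup.normalizer ((((P : Subgroup (Equiv.Perm α)).subgroupOf (alternatingGroup α) : Subgroup ↥(alternatingGroup α)) : Set ↥(alternatingGroup α)))) = Nat.card ↥(Subgroup.normalizer ((P : Subgroup (Equiv.Perm α)) : Set (Equiv.Perm α))) := by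
  classical
  set N := Subgroup.normalizer ((P : Subgroup (Equiv.Perm α)) : Set (Equiv.Perm α)) with hN
  have hPA : (P : Subgroup (Equiv.Perm α)) ≤ alternatingGroup α := by
    intro x hx
    rw [Equiv.Perm.mem_alternatingGroup]
    obtain ⟨k, hk⟩ := P.isPGroup' ⟨x, hx⟩
    have hk' : x ^ p ^ k = 1 := congrArg Subtype.val hk
    have h1 := congrArg Equiv.Perm.sign hk'
    rw [map_pow, map_one] at h1
    rcases Int.units_eq_one_or (Equiv.Perm.sign x) with h | h
    · exact h
    · rw [h, Odd.neg_one_pow (((Fact.out : p.Prime).odd_of_ne_two hp).pow)] at h1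
      exact absurd h1 (by decide)
  refine ⟨hPA, ?_⟩
  have hnorm : Subgroup.normalizer ((((P : Subgroup (Equiv.Perm α)).subgroupOf (alternatingGroup α) :
      Subgroup ↥(alternatingGroup α)) : Set ↥(alternatingGroup α))) = N.subgroupOf (alternatingGroup α) := by
    ext g
    rw [Subgroup.mem_subgroupOf, hN, Subgroup.mem_normalizer_iff, Subgroup.mem_normalizer_iff]
    refine ⟨fun h x => ⟨fun hx => (h ⟨x, hPA hx⟩).mp hx, fun hx => ?_⟩, fun h x => h x⟩
    have hxA : x ∈ alternatingGroup α := by
      have := Subgroup.mul_mem _ (Subgroup.mul_mem _ (Subgroup.inv_mem _ g.2) (hPA hx)) g.2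
      simpa [mul_assoc] using this
    exact (h ⟨x, hxA⟩).mpr hx
  haveI : Nontrivial α := Fintype.one_lt_card_iff_nontrivial.mp hα
  haveI : (alternatingGroup α).Normal := inferInstance
  have hsup : N ⊔ alternatingGroup α = ⊤ := P.normalizer_sup_eq_top' hPA
  have hrel : (alternatingGroup α).relIndex N = 2 := by
    rw [← alternatingGroup.index_eq_two (α := α), ← Subgroup.relIndex_top_right (alternatingGroup α),
      ← hsup, Subgroup.relIndex_sup_right]
  have hmul := ((alternatingGroup α).subgroupOf N).card_mul_index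
  rw [hnorm, ← hmul, show ((alternatingGroup α).subgroupOf N).index = 2 from hrel, mul_comm 2]
  congr 1
  refine Nat.card_congr ⟨fun x => ⟨⟨x.1.1, x.2⟩, x.1.2⟩, fun x => ⟨⟨x.1.1, x.2⟩, x.1.2⟩,
    fun x => rfl, fun x => rfl⟩

end Cfsg.Agent.S0990
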