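import Cfsg.Statements.S0991
-- import your own Cfsg.Agent.* helpers here

set_option autoImplicit false
open Cfsg

namespace Cfsg.Agent.S0991

/-- Embedding Theorem: if a non-abelian finite simple group has a proper subgroup of index n, then it is isomorphic to a subgroup of the alternating group of degree n. -/
theorem result {G : Type*} [Group G] [Finite G] [IsSimpleGroup G] (hG : ¬ IsMulCommutative G) (H : Subgroup G) (hH : H ≠ ⊤) : ∃ f : G →* ↥(alternatingGroup (Fin H.index)), Function.Injective f := by
  classical
  have := Fintype.ofFinite (G ⧸ H)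
  let e : (G ⧸ H) ≃ Fin H.index := Finite.equivFinOfCardEq rfl
  let φ : G →* Equiv.Perm (Fin H.index) := e.permCongrHom.toMonoidHom.comp (MulAction.toPermHom G (G ⧸ H))
  have hφ : Function.Injective φ := by
    have h : Function.Injective (MulAction.toPermHom G (G ⧸ H)) := by
      rw [← MonoidHom.ker_eq_bot_iff]
      rcases (MulAction.toPermHom G (G ⧸ H)).normal_ker.eq_bot_or_eq_top with h | h
      · exact h
      · exfalso; apply hH
        rw [← Subgroup.normalCore_eq_ker] at h
        exact top_le_iff.mp (h ▸ H.normalCore_le)
    exact e.permCongrHom.injective.comp h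
  have hsign : ∀ g, Equiv.Perm.sign (φ g) = 1 := by
    rcases (Equiv.Perm.sign.comp φ).normal_ker.eq_bot_or_eq_top with h | h
    · exfalso; apply hG
      have hinj := (MonoidHom.ker_eq_bot_iff _).mp h
      exact ⟨⟨fun a b => hinj (by rw [map_mul, map_mul, mul_comm])⟩⟩
    · intro g
      have : g ∈ (Equiv.Perm.sign.comp φ).ker := h ▸ Subgroup.mem_top g
      exact this
  exact ⟨φ.codRestrict _ (fun g => Equiv.Perm.mem_alternatingGroup.mpr (hsign g)),
    fun a b hab => hφ (congrArg Subtype.val hab)⟩

end Cfsg.Agent.S0991
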