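import Cfsg.Statements.S0999
import Cfsg.Agent.BrauerReynolds.Main
import Cfsg.Agent.CA.PSLTwo

set_option autoImplicit false
open Cfsg

namespace Cfsg.Agent.S0999

/-- Let G be a non-cyclic finite simple group and p a prime divisor of its order with p^3 > |G|. Then p > 3 and G is isomorphic to the projective special linear group of dimension 2 over the field with p elements, or p - 1 is a power of 2 and G is isomorphic to that group over the field with p - 1 elements. -/
theorem result {G : Type*} [Group G] [Finite G] [IsSimpleGroup G] (hG : ¬ IsCyclic G) (p : ℕ) (hp : p.Prime) (hdvd : p ∣ Nat.card G) (hbig : Nat.card G < p ^ 3) : (∃ (F : Type) (_ : Field F) (_ : Fintype F), Fintype.card F = p ∧ 3 < p ∧ Nonempty (G ≃* Matrix.ProjectiveSpecialLinearGroup (Fin 2) F)) ∨ (∃ (m : ℕ) (F : Type) (_ : Field F) (_ : Fintype F), Fintype.card F = 2 ^ m ∧ p = 2 ^ m + 1 ∧ 3 < p ∧ Nonempty (G ≃* Matrix.ProjectiveSpecialLinearGroup (Fin 2) F)) := by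
  haveI : Fact p.Prime := ⟨hp⟩
  have hnab : ¬ ∀ a b : G, a * b = b * a := fun h => hG (by
    letI : CommGroup G := { (inferInstance : Group G) with mul_comm := h }
    exact IsSimpleGroup.isCyclic)
  have hperf : commutator G = ⊤ := by
    refine (IsSimpleGroup.eq_bot_or_eq_top_of_normal (commutator G) inferInstance).resolve_left fun h => hnab ?_
    intro a b
    refine commutatorElement_eq_one_iff_mul_comm.1 (Subgroup.mem_bot.1 ?_)
    rw [← h, commutator_def]
    exact Subgroup.commutator_mem_commutator (Subgroup.mem_top a) (Subgroup.mem_top b)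
  obtain ⟨P⟩ : Nonempty (Sylow p G) := inferInstance
  have hP : ¬ (P : Subgroup G).Normal := by
    intro hn
    rcases IsSimpleGroup.eq_bot_or_eq_top_of_normal (P : Subgroup G) hn with h | h
    · have h1 := P.dvd_card_of_dvd_card hdvd
      rw [h, Subgroup.card_bot, Nat.dvd_one] at h1
      exact hp.ne_one h1
    · have hpg : IsPGroup p (⊤ : Subgroup G) := h ▸ P.isPGroup'
      haveI := IsPGroup.center_nontrivial (hpg.of_equiv Subgroup.topEquiv)
      rcases IsSimpleGroup.eq_bot_or_eq_top_of_normal (Subgroup.center G) inferInstance with hz | hz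
      · exact (Subgroup.nontrivial_iff_ne_bot _).1 inferInstance hz
      · exact hnab fun a b => (Subgroup.mem_center_iff.1 (hz ▸ Subgroup.mem_top b) a)
  have h2 : ∀ N : Subgroup G, N.Normal → Nat.card N ≠ 2 := by
    intro N hN hc
    rcases IsSimpleGroup.eq_bot_or_eq_top_of_normal N hN with h | h
    · rw [h, Subgroup.card_bot] at hc; omega
    · rw [h, Subgroup.card_top] at hc
      haveI : Fact (Nat.Prime 2) := ⟨Nat.prime_two⟩
      exact hG (isCyclic_of_prime_card hc)
  rcases CfsgLib.BrauerReynolds.main hperf p hdvd hbig P hP h2 with h | ⟨m, F, _, _, hcard, hpm, h3, ⟨e⟩⟩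
  · exact Or.inl h
  · haveI : Fact (Nat.Prime 2) := ⟨Nat.prime_two⟩
    haveI : CharP F 2 := charP_of_card_eq_prime_pow hcard
    let e2 : Matrix.SpecialLinearGroup (Fin 2) F ≃* Matrix.ProjectiveSpecialLinearGroup (Fin 2) F :=
      QuotientGroup.quotientBot.symm.trans
        (QuotientGroup.quotientMulEquivOfEq CfsgLib.CA.sl_center_eq_bot.symm)
    exact Or.inr ⟨m, F, inferInstance, inferInstance, hcard, hpm, h3, ⟨e.trans e2⟩⟩

end Cfsg.Agent.S0999
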