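import Cfsg.Statements.S0996
import Cfsg.Agent.BrauerFew.Main
import Cfsg.Agent.S0999

set_option autoImplicit false
open Cfsg

namespace Cfsg.Agent.S0996

/-- Let G be a finite perfect group containing an element z of prime order p whose centralizer is the cyclic group it generates, and suppose the number 1 + n * p of Sylow p-subgroups satisfies n < (p + 3) / 2. Then p > 3 and G is isomorphic to the projective special linear group of dimension 2 over the field with p elements, or p - 1 is a power of 2 and G is isomorphic to that group over the field with p - 1 elements. -/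
theorem result {G : Type*} [Group G] [Finite G] (hperf : commutator G = ⊤) (p : ℕ) [Fact p.Prime] (z : G) (hz : orderOf z = p) (hC : Subgroup.centralizer ({z} : Set G) = Subgroup.zpowers z) (hn : 2 * Nat.card (Sylow p G) < (p + 1) * (p + 2)) : (∃ (F : Type) (_ : Field F) (_ : Fintype F), Fintype.card F = p ∧ 3 < p ∧ Nonempty (G ≃* Matrix.ProjectiveSpecialLinearGroup (Fin 2) F)) ∨ (∃ (m : ℕ) (F : Type) (_ : Field F) (_ : Fintype F), Fintype.card F = 2 ^ m ∧ p = 2 ^ m + 1 ∧ 3 < p ∧ Nonempty (G ≃* Matrix.ProjectiveSpecialLinearGroup (Fin 2) F)) := by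
  classical
  haveI : Fintype G := Fintype.ofFinite G
  obtain ⟨hdvd, hbig, hP, h2⟩ := CfsgLib.BrauerFew.card_lt_cube hperf p z hz hC hn
  rcases CfsgLib.BrauerReynolds.main hperf p hdvd hbig default (hP default) h2 with h | ⟨m, F, _, _, hcard, hpm, h3, ⟨e⟩⟩
  · exact Or.inl h
  · haveI : Fact (Nat.Prime 2) := ⟨Nat.prime_two⟩
    haveI : CharP F 2 := charP_of_card_eq_prime_pow hcard
    let e2 : Matrix.SpecialLinearGroup (Fin 2) F ≃* Matrix.ProjectiveSpecialLinearGroup (Fin 2) F :=
      QuotientGroup.quotientBot.symm.trans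
        (QuotientGroup.quotientMulEquivOfEq CfsgLib.CA.sl_center_eq_bot.symm)
    exact Or.inr ⟨m, F, inferInstance, inferInstance, hcard, hpm, h3, ⟨e.trans e2⟩⟩

end Cfsg.Agent.S0996
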