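import Cfsg.Statements.S0998
import Cfsg.Agent.CardPRQ.Main
import Cfsg.Agent.S0253

set_option autoImplicit false
open Cfsg

namespace Cfsg.Agent.S0998

/-- A non-cyclic finite simple group whose order has the form p * r * q^b for distinct primes p, q, r is isomorphic to the projective special linear group of dimension 2 over the field with 5 or with 7 elements. -/
theorem result {G : Type*} [Group G] [Finite G] [IsSimpleGroup G] (hG : ¬ IsCyclic G) (p q r b : ℕ) (hp : p.Prime) (hq : q.Prime) (hr : r.Prime) (hpq : p ≠ q) (hpr : p ≠ r) (hqr : q ≠ r) (hG' : Nat.card G = p * r * q ^ b) : (∃ (F : Type) (_ : Field F) (_ : Fintype F), Fintype.card F = 5 ∧ Nonempty (G ≃* Matrix.ProjectiveSpecialLinearGroup (Fin 2) F)) ∨ (∃ (F : Type) (_ : Field F) (_ : Fintype F), Fintype.card F = 7 ∧ Nonempty (G ≃* Matrix.ProjectiveSpecialLinearGroup (Fin 2) F)) := by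
  have hna : ∃ x y : G, x * y ≠ y * x := by
    by_contra h
    push Not at h
    letI : CommGroup G := { (inferInstance : Group G) with mul_comm := h }
    exact hG inferInstance
  have key : ∀ (p r : ℕ), p.Prime → r.Prime → p ≠ q → q ≠ r → r < p → Nat.card G = p * r * q ^ b →
      (∃ (F : Type) (_ : Field F) (_ : Fintype F), Fintype.card F = 5 ∧ Nonempty (G ≃* Matrix.ProjectiveSpecialLinearGroup (Fin 2) F)) ∨ (∃ (F : Type) (_ : Field F) (_ : Fintype F), Fintype.card F = 7 ∧ Nonempty (G ≃* Matrix.ProjectiveSpecialLinearGroup (Fin 2) F)) := by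
    intro p r hp hr hpq hqr hlt hcard
    obtain ⟨rfl, rfl⟩ := CfsgLib.CardPRQ.three_of_lt hna hp hq hr hpq hqr hlt hcard
    haveI : Fact (Nat.Prime 5) := ⟨by norm_num⟩
    haveI : Fact (Nat.Prime 7) := ⟨by norm_num⟩
    rcases CfsgLib.SmallCof.main_three hna hp hq hpq (a := 1) (b := b) (by norm_num) (by rw [hcard]; ring) with he | he <;> obtain ⟨e⟩ := he
    · obtain ⟨e'⟩ := Cfsg.Agent.S0253.result (F := ZMod 5) (ZMod.card 5)
      exact Or.inl ⟨ZMod 5, inferInstance, inferInstance, ZMod.card 5, ⟨e.trans e'.symm⟩⟩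
    · exact Or.inr ⟨ZMod 7, inferInstance, inferInstance, ZMod.card 7, ⟨e⟩⟩
  rcases lt_or_gt_of_ne hpr with h | h
  · exact key r p hr hp hqr.symm hpq.symm h (by rw [hG']; ring)
  · exact key p r hp hr hpq hqr h hG'

end Cfsg.Agent.S0998
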