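import Cfsg.Statements.S1002
import Cfsg.Agent.SmallOrders.Search

set_option autoImplicit false
open Cfsg CfsgLib.SmallOrd

namespace Cfsg.Agent.S1002

/-- No finite simple group has order 1004913 = 3^3 * 7 * 13 * 409. -/
theorem result {G : Type*} [Group G] [Finite G] [IsSimpleGroup G] : Nat.card G ≠ 1004913 := by
  intro h
  haveI : Fact (Nat.Prime 409) := ⟨by norm_num⟩
  obtain ⟨-, P, hP, L, hn, ⟨B⟩⟩ :=
    setup_of_ne_one (p := 409) (m := 2457) (by norm_num) (by rw [h]) (by norm_num) (by norm_num)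
  have hn' := mem_list (by norm_num) hn L.n_mod L.n_ne
  rw [show ((List.range (2457 + 1)).filter fun d => decide (d ∣ 2457 ∧ d % 409 = 1 ∧ d ≠ 1)) = [819] by decide +kernel,
    List.mem_singleton] at hn'
  have h1 := L.n_mul
  rw [hn', h] at h1
  have hN : L.N = 1227 := by omega
  obtain ⟨c, hc⟩ := L.p_dvd
  have h2 := L.e_mul
  rw [hN, hc] at h2
  have he : L.e ∣ 3 := ⟨c, Nat.eq_of_mul_eq_mul_left (show 0 < 409 by norm_num) (by linarith)⟩
  have he3 : L.e = 3 := ((Nat.dvd_prime (by norm_num)).1 he).resolve_left L.e_ne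
  have hn2 : B.n = 2 := by have := B.n_eq; omega
  have hb : ∀ i, B.D i = 819 := fun i => by
    have hm := B.D_mem (b := 1002) (by rw [h]; norm_num) i
    rw [h, show cands 1004913 409 1002 = [819] by decide +kernel, List.mem_singleton] at hm
    exact hm
  have hs := B.sq
  simp only [hb, Finset.sum_const, Finset.card_univ, Fintype.card_fin, hn2, nsmul_eq_mul, h] at hs
  have h3 : (0 : ℤ) ≤ ((409 - 1) / L.e : ℕ) * B.E ^ 2 := by positivity
  norm_num at hs h3
  linarith

end Cfsg.Agent.S1002
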