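import Cfsg.Statements.S1011
import Cfsg.Agent.SmallOrders.PSLEven
import Cfsg.Agent.SmallOrders.Inverted

set_option autoImplicit false
open Cfsg

open CfsgLib.SmallOrd

namespace Cfsg.Agent.S1011

/-- A simple group of order 504 is isomorphic to the projective special linear group of dimension 2 over the field with 8 elements. -/
theorem result {G : Type*} [Group G] [Finite G] [IsSimpleGroup G] (h : Nat.card G = 504) {F : Type*} [Field F] [Fintype F] (hF : Fintype.card F = 8) : Nonempty (G ≃* Matrix.ProjectiveSpecialLinearGroup (Fin 2) F) := by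
  haveI : Fact (Nat.Prime 7) := ⟨by norm_num⟩
  haveI : Fact (Nat.Prime 3) := ⟨by norm_num⟩
  obtain ⟨hG, P, hP, L, hn, ⟨B⟩⟩ := setup (p := 7) (m := 72) (by norm_num) (by rw [h]) (by norm_num)
    (by rw [h]; norm_num)
  have h1 := L.n_mul
  rw [h, ← L.e_mul] at h1
  have he6 : L.e = 2 ∨ L.e = 3 ∨ L.e = 6 := by
    have h4 : L.e ∣ 6 := L.e_dvd
    have h5 := Nat.le_of_dvd (by norm_num) h4
    have h6 := L.e_ne
    interval_cases L.e <;> first | omega | (revert h4; decide)
  obtain ⟨c, hc⟩ := L.p_dvd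
  have key : L.n = 36 ∧ L.e = 2 ∧ L.C = 7 := by
    have hn' := mem_list (by norm_num) hn L.n_mod L.n_ne
    rw [show ((List.range (72 + 1)).filter fun d => decide (d ∣ 72 ∧ d % 7 = 1 ∧ d ≠ 1)) = [8, 36] by decide +kernel]
      at hn'
    simp only [List.mem_cons, List.not_mem_nil, or_false] at hn'
    have h3 : ¬ 3 ∣ L.C := fun hd =>
      false_of_three (a := 3) hG (p := 7) (by norm_num) (by norm_num) (by rw [h]; norm_num) (P : Subgroup G) hP
        (L.hC ▸ hd)
    rw [hc] at h1 h3 ⊢
    rcases hn' with e | e <;> rcases he6 with e' | e' | e' <;> rw [e, e'] at h1 <;> omega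
  obtain ⟨hn36, he, hC7⟩ := key
  have hCP : Subgroup.centralizer ((P : Subgroup G) : Set G) = P := by
    haveI : IsCyclic (P : Subgroup G) := isCyclic_of_prime_card hP
    haveI : IsMulCommutative (P : Subgroup G) := IsCyclic.isMulCommutative
    exact (Subgroup.eq_of_le_of_card_ge (P : Subgroup G).le_centralizer (by rw [hP, ← L.hC, hC7])).symm
  revert B
  rw [he]
  intro B
  have hD : ∀ i, B.D i = 8 := fun i => by
    have hm := B.D_mem (b := 22) (by rw [h]; norm_num) i
    rw [h, show cands 504 7 22 = [-6, 8] by decide +kernel] at hm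
    simp only [List.mem_cons, List.not_mem_nil, or_false] at hm
    rcases hm with e | e
    · exfalso
      obtain ⟨j, hj, hE⟩ := B.sum_two
      have hd := B.E_spec.2.1
      rw [hE, ← hj i, e, h] at hd
      norm_num at hd
    · exact e
  have hC : ∀ y : G, orderOf y = 2 → Nat.card (Subgroup.centralizer ({y} : Set G)) = 8 := fun y hy =>
    B.card_centralizer_involution hCP (k := 3) (E' := -9) (by norm_num) hD (by norm_num) (by rw [h]; norm_num)
      (by norm_num) (by norm_num) (c := 8) (by rw [h]; norm_num) (by norm_num) hy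
  obtain ⟨Q⟩ : Nonempty (Sylow 3 G) := inferInstance
  have hQ : Nat.card (Q : Subgroup G) = 3 ^ 2 := sylow_card (m := 56) (by rw [h]; norm_num) (by norm_num) Q
  have hcomm : ∀ a ∈ (Q : Subgroup G), ∀ b ∈ (Q : Subgroup G), a * b = b * a := fun a ha b hb =>
    congrArg Subtype.val (IsPGroup.commutative_of_card_eq_prime_sq hQ (⟨a, ha⟩ : (Q : Subgroup G)) ⟨b, hb⟩)
  have hQC : ∀ x ∈ (Q : Subgroup G), x ≠ 1 → Subgroup.centralizer ({x} : Set G) = Q := fun x hx hx1 =>
    centralizer_eq_of_odd_part (k := 3 ^ 2) P hP hCP hC ⟨3, by rw [h]; norm_num⟩ (by norm_num) (by norm_num)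
      (Q : Subgroup G) hQ hcomm hx hx1
  obtain ⟨-, hQ1, hQmod, hQidx, hQmul⟩ := sylow_data Q
    (fun e => by rw [e, Subgroup.card_bot] at hQ; norm_num at hQ)
    (fun e => by rw [e, Subgroup.card_top, h] at hQ; norm_num at hQ)
  have hQn : (Subgroup.normalizer ((Q : Subgroup G) : Set G)).index = 28 := by
    rw [← hQidx]
    have hdvd : Nat.card (Sylow 3 G) ∣ 56 := by
      obtain ⟨d, hd⟩ := hQ ▸ Subgroup.card_dvd_of_le ((Q : Subgroup G).le_normalizer)
      rw [hd, h] at hQmul
      exact ⟨d, Nat.eq_of_mul_eq_mul_left (show 0 < 3 ^ 2 by norm_num) (by rw [← mul_assoc] at hQmul; linarith)⟩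
    have hl := mem_list (by norm_num) hdvd hQmod hQ1
    rw [show ((List.range (56 + 1)).filter fun d => decide (d ∣ 56 ∧ d % 3 = 1 ∧ d ≠ 1)) = [4, 7, 28] by decide +kernel]
      at hl
    simp only [List.mem_cons, List.not_mem_nil, or_false] at hl
    rcases hl with e | e | e
    · have h4 := two_mul_card_dvd_factorial hG (Subgroup.normalizer ((Q : Subgroup G) : Set G))
        (fun et => by rw [et, Subgroup.index_top] at hQidx; omega)
      rw [← hQidx, e, h] at h4
      norm_num [Nat.factorial] at h4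
    · exfalso
      obtain ⟨y, hy, x, hxP, hx1, hinv⟩ := exists_inverting (by norm_num) P hP hCP
        (by rw [← L.hN, ← L.e_mul, he]; exact dvd_mul_right 2 _)
      refine false_of_inverted hG (p := 7) (by norm_num) _ (hQidx.symm.trans e) ?_ hy hinv
      refine orderOf_eq_prime ?_ hx1
      have := pow_card_eq_one' (x := (⟨x, hxP⟩ : (P : Subgroup G)))
      rw [hP] at this
      exact congrArg Subtype.val this
    · exact e
  have h9 : 28 * 8 ≤ Nat.card {g : G // g ≠ 1 ∧ g ^ 9 = 1} := by
    refine le_trans ?_ (card_family_le (Q : Subgroup G) (k := 9) hQ hQC)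
    rw [hQn]
  have h7 : 36 * 6 ≤ Nat.card {g : G // g ≠ 1 ∧ g ^ 7 = 1} := by
    refine le_trans ?_ (card_family_le (P : Subgroup G) hP fun x hx hx1 => ?_)
    · rw [← L.hn, hn36]
    · rw [centralizer_of_mem_prime (P : Subgroup G) hP hx hx1, hCP]
  obtain ⟨y, hy, -⟩ := exists_central_involution (G := G) (by rw [h]; norm_num)
  have h63 : 63 ≤ Nat.card {g : G // g ≠ 1 ∧ g ^ 2 = 1} := by
    refine le_trans ?_ (card_class_le hy)
    have h3 := (Subgroup.centralizer ({y} : Set G)).card_mul_index
    rw [hC y hy, h] at h3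
    omega
  exact iso_psl_even hG (q := 8) (a := 7) (b := 9) ⟨3, rfl⟩ (by norm_num) (by rw [h]; norm_num)
    (by rw [h]; norm_num) (by decide) (by decide) hC
    (pow_cover (by norm_num) (by norm_num) (by norm_num) h63 h7 h9 (by rw [h])) hF

end Cfsg.Agent.S1011
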