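import Cfsg.Statements.S1022
import Cfsg.Agent.SmallOrders.Search

/-!
No simple group of order 459648: the centraliser of an involution centralising a Sylow 19-subgroup is too small for
the principal 19-block, as soon as one knows how it acts on the cosets of an overgroup.
-/

set_option autoImplicit false
set_option linter.style.haveILetI false

open Cfsg CfsgLib.SmallOrd

namespace Cfsg.Agent.S1022

variable {G : Type*} [Group G] [Finite G]

/-- An element of prime order centralising `P` moves a multiple of `p` points on the cosets of an overgroup of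
`C(P)` of `p`-part `p`. -/
theorem moved_points [IsSimpleGroup G] (hG : ¬ IsMulCommutative G) {p : ℕ} [Fact p.Prime] (P : Sylow p G)
    (hP : Nat.card P = p) (M : Subgroup G) (hM : M ≠ ⊤) (hCM : Subgroup.centralizer ((P : Subgroup G) : Set G) ≤ M)
    {m : ℕ} (hm : Nat.card M = p * m) (hpm : ¬ p ∣ m) {r : ℕ} (hr : r.Prime) {z : G} (hz : orderOf z = r)
    (hzC : z ∈ Subgroup.centralizer ((P : Subgroup G) : Set G)) :
    ∃ k : ℕ, p ∣ r * (k + 1) ∧ r * (k + 1) ≤ M.index ∧ (r = 2 → Even (k + 1)) := by
  classical
  have hp : p.Prime := Fact.out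
  let Ω := G ⧸ M
  haveI : Fintype Ω := Fintype.ofFinite _
  let φ : G →* Equiv.Perm Ω := MulAction.toPermHom G Ω
  have hker : φ.ker = ⊥ := by
    rcases φ.normal_ker.eq_bot_or_eq_top with h | h
    · exact h
    · exfalso
      refine hM (eq_top_iff.2 fun g _ => ?_)
      have hg : g ∈ φ.ker := h ▸ Subgroup.mem_top g
      have h1 : φ g ((1 : G) : Ω) = ((1 : G) : Ω) := by rw [MonoidHom.mem_ker.1 hg]; rfl
      have h2 : ((g * 1 : G) : Ω) = ((1 : G) : Ω) := h1
      simpa [QuotientGroup.eq] using h2
  have hφ : Function.Injective φ := (MonoidHom.ker_eq_bot_iff φ).1 hker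
  haveI : IsCyclic (P : Subgroup G) := isCyclic_of_prime_card hP
  obtain ⟨x, hx⟩ := IsCyclic.exists_generator (α := (P : Subgroup G))
  have hxP : Subgroup.zpowers (x : G) = (P : Subgroup G) := by
    refine le_antisymm (Subgroup.zpowers_le.2 x.2) fun g hg => ?_
    obtain ⟨k, hk⟩ := Subgroup.mem_zpowers_iff.1 (hx ⟨g, hg⟩)
    exact Subgroup.mem_zpowers_iff.2 ⟨k, congrArg Subtype.val hk⟩
  have hxo : orderOf (x : G) = p := by rw [← Nat.card_zpowers, hxP, hP]
  have hcom : Commute (x : G) z := Subgroup.mem_centralizer_iff.1 hzC _ x.2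
  haveI : IsMulCommutative (P : Subgroup G) := IsCyclic.isMulCommutative
  have hPM : (P : Subgroup G) ≤ M := le_trans (Subgroup.le_centralizer _) hCM
  -- the fixed points of `x` are fixed by `z`
  have hfix : ∀ c : Ω, φ x c = c → φ z c = c := by
    intro c
    induction c using QuotientGroup.induction_on with
    | H g =>
      intro hc
      have hc' : ((x : G) * g : Ω) = (g : Ω) := hc
      rw [QuotientGroup.eq] at hc'
      have hmem : g⁻¹ * (x : G) * g ∈ M := by
        have := M.inv_mem hc'
        simpa [mul_assoc] using this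
      have hle : (P : Subgroup G).map (MulAut.conj g⁻¹).toMonoidHom ≤ M := by
        rw [← hxP, MonoidHom.map_zpowers, Subgroup.zpowers_le]
        simpa using hmem
      have hcard : ∀ Q : Subgroup G, Nat.card Q = p → Q ≤ M → ∃ S : Sylow p M, (S : Subgroup M).map M.subtype = Q := by
        intro Q hQ hQM
        refine ⟨Sylow.ofCard (Q.subgroupOf M) ?_, ?_⟩
        · rw [Nat.card_congr (Subgroup.subgroupOfEquivOfLe hQM).toEquiv, hQ, hm,
            Nat.factorization_mul hp.ne_zero (fun e => hpm (by rw [e]; exact dvd_zero p)), Finsupp.add_apply,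
            hp.factorization_self, Nat.factorization_eq_zero_of_not_dvd hpm, add_zero, pow_one]
        · rw [Sylow.coe_ofCard, Subgroup.map_subgroupOf_eq_of_le hQM]
      obtain ⟨S₁, hS₁⟩ := hcard _ hP hPM
      obtain ⟨S₂, hS₂⟩ := hcard _ (by
        rw [Subgroup.card_map_of_injective (MulAut.conj g⁻¹).injective, hP]) hle
      obtain ⟨a, ha⟩ := MulAction.exists_smul_eq M S₁ S₂
      have hconj : (P : Subgroup G).map (MulAut.conj (a : G)).toMonoidHom =
          (P : Subgroup G).map (MulAut.conj g⁻¹).toMonoidHom := by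
        conv_lhs => rw [← hS₁]
        rw [← hS₂, ← ha]
        show _ = Subgroup.map M.subtype ((S₁ : Subgroup M).map (MulAut.conj a).toMonoidHom)
        rw [Subgroup.map_map, Subgroup.map_map]
        rfl
      have hn : g * (a : G) ∈ Subgroup.normalizer ((P : Subgroup G) : Set G) := by
        rw [Subgroup.mem_normalizer_iff]
        intro y
        have key : ∀ y, y ∈ (P : Subgroup G) → (g * a) * y * (g * a)⁻¹ ∈ (P : Subgroup G) := by
          intro y hy
          have h1 : (a : G) * y * (a : G)⁻¹ ∈ (P : Subgroup G).map (MulAut.conj g⁻¹).toMonoidHom :=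
            hconj ▸ ⟨y, hy, by simp⟩
          obtain ⟨y', hy', e⟩ := h1
          simp only [MulEquiv.coe_toMonoidHom, MulAut.conj_apply, inv_inv] at e
          rw [show g * a * y * (g * a)⁻¹ = g * ((a : G) * y * (a : G)⁻¹) * g⁻¹ by group, ← e]
          simp only [← mul_assoc] at *
          rw [show g * g⁻¹ * y' * g * g⁻¹ = y' by group]
          exact hy'
        refine ⟨key y, fun hy => ?_⟩
        have hinj : Function.Injective (fun w : (P : Subgroup G) => (⟨_, key w w.2⟩ : (P : Subgroup G))) :=
          fun u v h => Subtype.ext (by simpa using congrArg Subtype.val h)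
        obtain ⟨⟨y', hy'⟩, e⟩ := Finite.injective_iff_surjective.1 hinj ⟨_, hy⟩
        have e' : g * a * y' * (g * a)⁻¹ = g * a * y * (g * a)⁻¹ := congrArg Subtype.val e
        rw [mul_left_inj, mul_right_inj] at e'
        exact e' ▸ hy'
      have hzn : (g * a)⁻¹ * z * (g * a) ∈ Subgroup.centralizer ((P : Subgroup G) : Set G) := by
        rw [Subgroup.mem_centralizer_iff]
        intro y hy
        have hy' : g * a * y * (g * a)⁻¹ ∈ (P : Subgroup G) := (Subgroup.mem_normalizer_iff.1 hn y).1 hy
        have e := Subgroup.mem_centralizer_iff.1 hzC _ hy'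
        calc y * ((g * a)⁻¹ * z * (g * a)) = (g * a)⁻¹ * (g * a * y * (g * a)⁻¹ * z) * (g * a) := by group
          _ = (g * a)⁻¹ * (z * (g * a * y * (g * a)⁻¹)) * (g * a) := by rw [e]
          _ = ((g * a)⁻¹ * z * (g * a)) * y := by group
      show ((z * g : G) : Ω) = g
      rw [QuotientGroup.eq]
      have := M.inv_mem (M.mul_mem (M.mul_mem a.2 (hCM hzn)) (M.inv_mem a.2))
      simpa [mul_assoc] using this
  -- the moved points
  set σ := φ z with hσ
  have hσo : orderOf σ = r := by rw [hσ, orderOf_injective φ hφ, hz]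
  obtain ⟨k, hk⟩ := Equiv.Perm.cycleType_prime_order (by rw [hσo]; exact hr)
  rw [hσo] at hk
  have hsupp : σ.support.card = r * (k + 1) := by
    rw [← Equiv.Perm.sum_cycleType, hk, Multiset.sum_replicate, smul_eq_mul, mul_comm]
  refine ⟨k, ?_, hsupp ▸ le_trans (Finset.card_le_univ _) (le_of_eq ?_), ?_⟩
  · rw [← hsupp]
    have hcom' : Commute (φ x) σ := hcom.map φ
    have hinv : ∀ c : Ω, φ x c ∈ σ.support ↔ c ∈ σ.support := fun c => by
      have e : σ (φ x c) = φ x (σ c) := (congrArg (fun f : Equiv.Perm Ω => f c) hcom'.eq).symm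
      simp only [Equiv.Perm.mem_support, e, ne_eq, EmbeddingLike.apply_eq_iff_eq]
    let τ : Equiv.Perm {c // c ∈ σ.support} := (φ x).subtypePerm hinv
    have hxp : (φ x) ^ p = 1 := by
      rw [← map_pow, orderOf_dvd_iff_pow_eq_one.1 (dvd_of_eq hxo), map_one]
    have hτ : τ ^ p ^ 1 = 1 := by
      refine Equiv.ext fun c => Subtype.ext ?_
      rw [pow_one, show τ ^ p = (φ x ^ p).subtypePerm (fun c => by
          rw [hxp]; rfl) from Equiv.Perm.subtypePerm_pow _ _ hinv]
      show (φ x ^ p) c.1 = c.1
      rw [hxp]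
      rfl
    have h := Equiv.Perm.card_compl_support_modEq hτ
    have h0 : τ.supportᶜ = ∅ := by
      refine Finset.eq_empty_of_forall_notMem fun c hc => ?_
      have hc' := Equiv.Perm.notMem_support.1 (Finset.mem_compl.1 hc)
      exact Equiv.Perm.mem_support.1 c.2 (hfix _ (congrArg Subtype.val hc'))
    rw [h0, Finset.card_empty, Fintype.card_coe] at h
    exact (Nat.modEq_zero_iff_dvd).1 h.symm
  · rw [← Nat.card_eq_fintype_card]
    rfl
  · intro hr2
    subst hr2
    let s : G →* ℤˣ := Equiv.Perm.sign.comp φ
    have hs : s z = 1 := by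
      rcases s.normal_ker.eq_bot_or_eq_top with h | h
      · refine absurd ?_ hG
        exact ⟨⟨fun a b => (MonoidHom.ker_eq_bot_iff s).1 h (by rw [map_mul, map_mul, mul_comm])⟩⟩
      · exact MonoidHom.mem_ker.1 (h ▸ Subgroup.mem_top z)
    have h1 : Equiv.Perm.sign σ = 1 := hs
    rw [Equiv.Perm.sign_of_cycleType, hk, Multiset.sum_replicate, Multiset.card_replicate, smul_eq_mul,
      neg_one_pow_eq_one_iff_even (by decide)] at h1
    rcases Nat.even_or_odd (k + 1) with h | h
    · exact h
    · obtain ⟨j, hj⟩ := h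
      obtain ⟨i, hi⟩ := h1
      omega

theorem cands_eq : cands 459648 19 677 = [-189, -56, -18, 96] := by decide +kernel

set_option maxHeartbeats 2000000 in
/-- No finite simple group has order 459648. -/
theorem result {G : Type*} [Group G] [Finite G] [IsSimpleGroup G] : Nat.card G ≠ 459648 := by
  intro h
  haveI : Fact (Nat.Prime 19) := ⟨by norm_num⟩
  obtain ⟨hG, P, hP, L, hn, ⟨B⟩⟩ :=
    setup (p := 19) (m := 24192) (by norm_num) (by rw [h]) (by norm_num) (by rw [h]; norm_num)
  have hn' := mem_list (by norm_num) hn L.n_mod L.n_ne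
  rw [show (List.range (24192 + 1)).filter (fun d => decide (d ∣ 24192 ∧ d % 19 = 1 ∧ d ≠ 1)) = [96, 1008] by
    decide +kernel] at hn'
  simp only [List.mem_cons, List.mem_singleton, List.not_mem_nil, or_false] at hn'
  have hC : L.C = Nat.card (Subgroup.centralizer ((P : Subgroup G) : Set G)) := L.hC
  have hnm := L.n_mul
  rw [h] at hnm
  have hem := L.e_mul
  obtain ⟨c, hc⟩ := L.p_dvd
  have he18 : L.e ∣ 18 := L.e_dvd
  rcases hn' with hn96 | hn1008
  · -- 96 Sylow subgroups
    have hN : L.N = 4788 := by rw [hn96] at hnm; omega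
    have h7 : 7 ∣ Nat.card (Subgroup.centralizer ((P : Subgroup G) : Set G)) := by
      rw [← hC]
      have hd : 7 ∣ L.e * L.C := by rw [hem, hN]; norm_num
      rcases (Nat.Prime.dvd_mul (by norm_num)).1 hd with h' | h'
      · exact absurd (h'.trans he18) (by norm_num)
      · exact h'
    haveI : Fact (Nat.Prime 7) := ⟨by norm_num⟩
    obtain ⟨⟨z, hz⟩, hz7⟩ := exists_prime_orderOf_dvd_card' 7 h7
    rw [Subgroup.orderOf_mk] at hz7
    have hNne : Subgroup.normalizer ((P : Subgroup G) : Set G) ≠ ⊤ := fun e => L.n_ne (by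
      rw [L.hn, e, Subgroup.index_top])
    obtain ⟨k, hk, hle, -⟩ := moved_points hG P hP _ hNne (Subgroup.centralizer_le_normalizer _) (m := 252)
      (by rw [← L.hN, hN]) (by norm_num) (by norm_num) hz7 hz
    rw [← L.hn, hn96] at hle
    omega
  · -- 1008 Sylow subgroups
    have hN : L.N = 456 := by rw [hn1008] at hnm; omega
    have hec : L.e * c = 24 := by
      rw [hN, hc] at hem
      nlinarith [hem]
    have he : L.e = 2 ∨ L.e = 3 ∨ L.e = 6 := by
      have h6 : L.e ∣ 6 := (Nat.dvd_gcd he18 (Dvd.intro c hec)).trans (by norm_num)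
      have := Nat.le_of_dvd (by norm_num) h6
      have := L.e_ne
      interval_cases L.e <;> simp_all
    have hev : 2 ∣ Nat.card (Subgroup.centralizer ((P : Subgroup G) : Set G)) := by
      rw [← hC, hc]
      have : 2 ∣ L.e * c := by rw [hec]; norm_num
      rcases he with e | e | e <;> rw [e] at hec <;> omega
    have hD : ∀ i, B.D i = -189 ∨ B.D i = -56 ∨ B.D i = 96 := fun i => by
      have hmem := B.D_mem (b := 677) (by rw [h]; norm_num) i
      rw [h, cands_eq] at hmem
      have hl := (B.large (by decide) hev).1 i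
      simp only [List.mem_cons, List.not_mem_nil, or_false] at hmem
      rcases hmem with e | e | e | e <;> first | exact Or.inl e | exact Or.inr (Or.inl e) | exact Or.inr (Or.inr e) |
        (rw [e] at hl; norm_num at hl)
    have hsum := B.sum
    have hEd := B.E_spec.2.1
    rw [h] at hEd
    have hneq := B.n_eq
    rcases he with e | e | e
    · have hn1 : B.n = 1 := by omega
      obtain ⟨i, hi, hE⟩ := (show ∃ i : Fin B.n, (∀ j, j = i) ∧ B.E = -1 - B.D i from by
        refine ⟨⟨0, by omega⟩, fun j => Fin.ext (show (j : ℕ) = 0 by have := j.2; omega), ?_⟩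
        rw [Finset.sum_eq_single (⟨0, by omega⟩ : Fin B.n) (fun j _ hj => absurd (Fin.ext (show (j : ℕ) = 0 by have := j.2; omega)) hj)
          (fun hi => absurd (Finset.mem_univ _) hi)] at hsum
        linarith)
      rcases hD i with e' | e' | e' <;> rw [hE, e'] at hEd <;> norm_num at hEd
    · have hn2 : B.n = 2 := by omega
      rw [← Equiv.sum_comp (finCongr hn2.symm) B.D, Fin.sum_univ_two] at hsum
      have hE : B.E = -1 - B.D (finCongr hn2.symm 0) - B.D (finCongr hn2.symm 1) := by linarith
      rcases hD (finCongr hn2.symm 0) with e0 | e0 | e0 <;> rcases hD (finCongr hn2.symm 1) with e1 | e1 | e1 <;>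
        rw [hE, e0, e1] at hEd <;> norm_num at hEd
    · have hC76 : Nat.card (Subgroup.centralizer ((P : Subgroup G) : Set G)) = 76 := by
        rw [← hC, hc]; rw [e] at hec; omega
      set C := Subgroup.centralizer ((P : Subgroup G) : Set G) with hCdef
      obtain ⟨y, hy, hyC⟩ := exists_involution_centralizing hev
      set Z := Subgroup.centralizer ({y} : Set G) with hZdef
      -- `C` centralises `y`
      have hCZ : C ≤ Z := by
        haveI : Fact (Nat.Prime 2) := ⟨Nat.prime_two⟩
        let yC : C := ⟨y, hyC⟩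
        have hy' : orderOf yC = 2 := by rw [← hy]; exact (Subgroup.orderOf_coe yC).symm
        obtain ⟨T, hT⟩ := (IsPGroup.of_card (G := Subgroup.zpowers yC) (p := 2) (n := 1)
          (by rw [Nat.card_zpowers, hy', pow_one])).exists_le_sylow
        have hT4 : Nat.card T = 2 ^ 2 := sylow_card (m := 19) (by rw [hC76]; norm_num) (by norm_num) T
        haveI hTc : IsMulCommutative (T : Subgroup C) := IsPGroup.isMulCommutative_of_card_eq_prime_sq hT4
        let Q : Subgroup C := (P : Subgroup G).subgroupOf C
        have hPC : (P : Subgroup G) ≤ C := by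
          haveI : IsCyclic (P : Subgroup G) := isCyclic_of_prime_card hP
          haveI : IsMulCommutative (P : Subgroup G) := IsCyclic.isMulCommutative
          exact Subgroup.le_centralizer _
        set S := Subgroup.centralizer ({yC} : Set C)
        have hTS : (T : Subgroup C) ≤ S := fun t ht => by
          rw [Subgroup.mem_centralizer_singleton_iff]
          exact congrArg Subtype.val (hTc.is_comm.comm ⟨t, ht⟩ ⟨yC, hT (Subgroup.mem_zpowers _)⟩)
        have hQS : Q ≤ S := fun t ht => by
          rw [Subgroup.mem_centralizer_singleton_iff]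
          exact Subtype.ext (Subgroup.mem_centralizer_iff.1 hyC _ (Subgroup.mem_subgroupOf.1 ht))
        have h76 : 76 ∣ Nat.card S := by
          refine Nat.Coprime.mul_dvd_of_dvd_of_dvd (show Nat.Coprime 4 19 by norm_num) ?_ ?_
          · have := Subgroup.card_dvd_of_le hTS; rwa [hT4] at this
          · have := Subgroup.card_dvd_of_le hQS
            rwa [Nat.card_congr (Subgroup.subgroupOfEquivOfLe hPC).toEquiv, hP] at this
        have hStop : S = ⊤ := Subgroup.eq_top_of_le_card S (by
          rw [hC76]; exact Nat.le_of_dvd Nat.card_pos h76)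
        intro a ha
        have h1 : (⟨a, ha⟩ : C) ∈ S := by rw [hStop]; exact Subgroup.mem_top _
        rw [Subgroup.mem_centralizer_singleton_iff] at h1 ⊢
        exact congrArg Subtype.val h1
      -- lower bound
      obtain ⟨A, b, hA, hb, -, hcong, hsq, -⟩ := B.invol y hy
      have hA20 : ∀ i, (400 : ℤ) ≤ A i ^ 2 := fun i => by
        have h1 := hA i
        obtain ⟨h2, h4⟩ := h1
        have h19 := (hcong hyC).1 i
        have hrange := abs_lt.1 (lt_of_lt_of_le h2 (show |B.D i| ≤ 189 by rcases hD i with e' | e' | e' <;> rw [e'] <;> norm_num))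
        rcases le_or_gt 20 (A i) with h' | h'
        · nlinarith
        rcases le_or_gt (A i) (-20) with h'' | h''
        · nlinarith
        exfalso
        rcases hD i with e' | e' | e' <;> rw [e'] at h2 h4 h19 <;> norm_num [abs_lt] at h2 <;> omega
      have hbig : 2001 ≤ Nat.card Z := by
        have h1 : ∑ _i : Fin B.n, (400 : ℤ) ≤ ∑ i, A i ^ 2 := Finset.sum_le_sum fun i _ => hA20 i
        rw [Finset.sum_const, Finset.card_univ, Fintype.card_fin, nsmul_eq_mul,
          show ((B.n : ℕ) : ℤ) = 5 by omega] at h1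
        have h2 : (0 : ℤ) ≤ ((19 - 1) / L.e : ℕ) * b ^ 2 := by positivity
        norm_num at h1
        have : (2001 : ℤ) ≤ (Nat.card Z : ℤ) := by linarith
        exact_mod_cast this
      -- the Sylow 19-subgroups of `Z`
      have hZne : Z ≠ ⊤ := fun htop => by
        have hcent : y ∈ Subgroup.center G := Subgroup.mem_center_iff.2 fun g =>
          Subgroup.mem_centralizer_singleton_iff.1 (show g ∈ Z by rw [htop]; exact Subgroup.mem_top g)
        rcases (inferInstance : (Subgroup.center G).Normal).eq_bot_or_eq_top with h' | h'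
        · rw [h', Subgroup.mem_bot] at hcent
          rw [hcent, orderOf_one] at hy
          norm_num at hy
        · exact hG ⟨⟨fun u v => Subgroup.mem_center_iff.1 (h' ▸ Subgroup.mem_top v : v ∈ Subgroup.center G) u⟩⟩
      have hidx : Z.index ∣ 6048 := by
        have h1 := Subgroup.index_dvd_of_le hCZ
        have h2 := C.card_mul_index
        rw [hC76, h] at h2
        have : C.index = 6048 := by omega
        rwa [this] at h1
      have hi19 : 19 ≤ Z.index := by
        by_contra hlt
        have h1 : 19 ∣ Z.index.factorial :=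
          (show 19 ∣ 2 * Nat.card G by rw [h]; norm_num).trans (two_mul_card_dvd_factorial hG Z hZne)
        exact hlt ((Nat.Prime.dvd_factorial (by norm_num)).1 h1)
      have hmul := Z.card_mul_index
      rw [h] at hmul
      obtain ⟨m, hm⟩ : 19 ∣ Nat.card Z := (show 19 ∣ 76 by norm_num).trans (hC76 ▸ Subgroup.card_dvd_of_le hCZ)
      have hm2 : Z.index * m = 24192 := by
        rw [hm] at hmul
        nlinarith [hmul]
      have hm19 : ¬ 19 ∣ m := fun hd => by
        have := (dvd_mul_of_dvd_right hd Z.index)
        rw [hm2] at this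
        norm_num at this
      obtain ⟨S⟩ : Nonempty (Sylow 19 Z) := inferInstance
      have hSc : Nat.card S = 19 := by
        have := sylow_card (k := 1) (m := m) (by rw [pow_one]; exact hm) hm19 S
        rwa [pow_one] at this
      have hPZ : (P : Subgroup G) ≤ Z := fun a ha => hCZ (by
        haveI : IsCyclic (P : Subgroup G) := isCyclic_of_prime_card hP
        haveI : IsMulCommutative (P : Subgroup G) := IsCyclic.isMulCommutative
        exact Subgroup.le_centralizer _ ha)
      let S₀ : Sylow 19 Z := Sylow.ofCard ((P : Subgroup G).subgroupOf Z) (by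
        rw [Nat.card_congr (Subgroup.subgroupOfEquivOfLe hPZ).toEquiv, hP, ← S.card_eq_multiplicity, hSc])
      have hns : Nat.card (Sylow 19 Z) = (Subgroup.normalizer ((S₀ : Subgroup Z) : Set Z)).index := S₀.card_eq_index_normalizer
      set NZ := Subgroup.normalizer ((S₀ : Subgroup Z) : Set Z) with hNZ
      have hNle : Nat.card NZ ∣ 456 := by
        rw [← hN, L.hN, ← Subgroup.card_map_of_injective Z.subtype_injective (K := NZ)]
        refine Subgroup.card_dvd_of_le ?_
        rintro _ ⟨u, hu, rfl⟩
        rw [Subgroup.mem_normalizer_iff]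
        intro a
        constructor
        · intro ha
          exact Subgroup.mem_subgroupOf.1 ((Subgroup.mem_normalizer_iff.1 hu ⟨a, hPZ ha⟩).1 (Subgroup.mem_subgroupOf.2 ha))
        · intro ha
          have hin : a ∈ Z := by
            have := Z.mul_mem (Z.mul_mem (Z.inv_mem u.2) (hPZ ha)) u.2
            simpa [mul_assoc] using this
          exact Subgroup.mem_subgroupOf.1 ((Subgroup.mem_normalizer_iff.1 hu ⟨a, hin⟩).2 (Subgroup.mem_subgroupOf.2 ha))
      have hsyl := NZ.card_mul_index
      rw [← hns] at hsyl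
      have hns1 : Nat.card (Sylow 19 Z) % 19 = 1 := card_sylow_modEq_one 19 Z
      have hnsd : Nat.card (Sylow 19 Z) ∣ 24192 := by
        have hd : Nat.card (Sylow 19 Z) ∣ m := by
          have h1 : Nat.card (Sylow 19 Z) ∣ 19 * m := ⟨Nat.card NZ, by rw [← hm, ← hsyl, mul_comm]⟩
          refine (Nat.Coprime.dvd_of_dvd_mul_left ?_ h1)
          rw [Nat.coprime_comm, Nat.Prime.coprime_iff_not_dvd (by norm_num)]
          omega
        exact hd.trans ⟨Z.index, by rw [← hm2, mul_comm]⟩
      have hnsne : Nat.card (Sylow 19 Z) ≠ 1 := fun h1 => by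
        rw [h1, mul_one] at hsyl
        have := Nat.le_of_dvd (by norm_num) hNle
        omega
      have hns96 := mem_list (by norm_num) hnsd hns1 hnsne
      rw [show (List.range (24192 + 1)).filter (fun d => decide (d ∣ 24192 ∧ d % 19 = 1 ∧ d ≠ 1)) = [96, 1008] by
        decide +kernel] at hns96
      simp only [List.mem_cons, List.not_mem_nil, or_false] at hns96
      have hNZ76 : 76 ≤ Nat.card NZ := by
        rw [← hC76, ← Nat.card_congr (Subgroup.subgroupOfEquivOfLe hCZ).toEquiv]
        refine Nat.le_of_dvd Nat.card_pos (Subgroup.card_dvd_of_le fun u hu => ?_)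
        refine (Subgroup.centralizer_le_normalizer _) (Subgroup.mem_centralizer_iff.2 fun a ha => Subtype.ext ?_)
        exact Subgroup.mem_centralizer_iff.1 (Subgroup.mem_subgroupOf.1 hu) _ (Subgroup.mem_subgroupOf.1 ha)
      have hle63 : Z.index ≤ 63 := by
        have h96 : 96 ≤ Nat.card (Sylow 19 Z) := by rcases hns96 with e' | e' <;> rw [e'] <;> norm_num
        have h1 : 7296 ≤ Nat.card Z := hsyl ▸ Nat.mul_le_mul hNZ76 h96
        by_contra hlt
        have h2 := Nat.mul_le_mul h1 (show 64 ≤ Z.index by omega)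
        rw [hmul] at h2
        norm_num at h2
      obtain ⟨k, hk, hkle, hkev⟩ := moved_points hG P hP Z hZne hCZ hm hm19 Nat.prime_two hy hyC
      obtain ⟨j, hj⟩ := hkev rfl
      omega

end Cfsg.Agent.S1022
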