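import Cfsg.Statements.S1039
import Cfsg.Agent.Chev.CoxeterIso
import Cfsg.Agent.Chev.Inst
import Cfsg.Agent.Chev.PoincareG2
import Cfsg.Agent.Chev.PoincareB2
import Cfsg.Agent.Chev.PoincareD4
import Cfsg.Agent.Chev.PoincareF4
import Cfsg.Agent.Chev.PoincareE6
import Cfsg.Agent.Chev.PoincareE7
import Cfsg.Agent.Chev.PoincareE8
-- import your own Cfsg.Agent.* helpers here

set_option autoImplicit false
open Cfsg

namespace Cfsg.Agent.S1039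

/-- `N/H ≅ W`: there is a surjective homomorphism from `N` onto the Coxeter group of the type (Mathlib's Coxeter matrix G₂, B₂, F₄, E₆, E₇, E₈, nodes numbered as the fundamental roots) with kernel `H`, mapping each `n_{p_i}` to the `i`-th simple reflection. -/
theorem result {F : Type*} [Field F]
    (p : Cfsg.Lie.ChevalleyDatum × (Σ n : ℕ, CoxeterMatrix (Fin n)))
    (hp : p ∈ [(Cfsg.Lie.chevG2, ⟨2, CoxeterMatrix.G₂⟩), (Cfsg.Lie.chevB2, ⟨2, CoxeterMatrix.B 2⟩), (Cfsg.Lie.chevD4, ⟨4, Cfsg.Lie.coxeterD4⟩), (Cfsg.Lie.chevF4, ⟨4, CoxeterMatrix.F₄⟩),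
      (Cfsg.Lie.chevE6, ⟨6, CoxeterMatrix.E₆⟩), (Cfsg.Lie.chevE7, ⟨7, CoxeterMatrix.E₇⟩), (Cfsg.Lie.chevE8, ⟨8, CoxeterMatrix.E₈⟩)]) :
    ∃ φ : ↥(p.1.monomialSubgroup F) →* p.2.2.Group, Function.Surjective φ ∧
      φ.ker = (p.1.diagonalSubgroup F).subgroupOf (p.1.monomialSubgroup F) ∧
      ∀ (i : Fin p.2.1) (g : ↥(p.1.monomialSubgroup F)),
        ((g : GL p.1.Idx F) : Matrix p.1.Idx p.1.Idx F) = p.1.nMat F (p.1.simple i) 1 → φ g = p.2.2.simple i := by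
  simp only [List.mem_cons, List.not_mem_nil, or_false] at hp
  rcases hp with rfl | rfl | rfl | rfl | rfl | rfl | rfl
  · exact CfsgLib.Chev.sysG2.exists_coxeter_hom F CfsgLib.Chev.PoincareG2.rank_eq
      CfsgLib.Chev.PoincareG2.cart_ok _ (Mf := fun i j =>
        if h : i < 2 ∧ j < 2 then ((CoxeterMatrix.G₂) ⟨i, h.1⟩ ⟨j, h.2⟩) else 0)
      (fun i j => by rw [dif_pos ⟨i.2, j.2⟩]) (by decide +kernel)
  · exact CfsgLib.Chev.sysB2.exists_coxeter_hom F CfsgLib.Chev.PoincareB2.rank_eq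
      CfsgLib.Chev.PoincareB2.cart_ok _ (Mf := fun i j =>
        if h : i < 2 ∧ j < 2 then ((CoxeterMatrix.B 2) ⟨i, h.1⟩ ⟨j, h.2⟩) else 0)
      (fun i j => by rw [dif_pos ⟨i.2, j.2⟩]) (by decide +kernel)
  · exact CfsgLib.Chev.sysD4.exists_coxeter_hom F CfsgLib.Chev.PoincareD4.rank_eq
      CfsgLib.Chev.PoincareD4.cart_ok _ (Mf := fun i j =>
        if h : i < 4 ∧ j < 4 then ((Cfsg.Lie.coxeterD4) ⟨i, h.1⟩ ⟨j, h.2⟩) else 0)
      (fun i j => by rw [dif_pos ⟨i.2, j.2⟩]) (by decide +kernel)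
  · exact CfsgLib.Chev.sysF4.exists_coxeter_hom F CfsgLib.Chev.PoincareF4.rank_eq
      CfsgLib.Chev.PoincareF4.cart_ok _ (Mf := fun i j =>
        if h : i < 4 ∧ j < 4 then ((CoxeterMatrix.F₄) ⟨i, h.1⟩ ⟨j, h.2⟩) else 0)
      (fun i j => by rw [dif_pos ⟨i.2, j.2⟩]) (by decide +kernel)
  · exact CfsgLib.Chev.sysE6.exists_coxeter_hom F CfsgLib.Chev.PoincareE6.rank_eq
      CfsgLib.Chev.PoincareE6.cart_ok _ (Mf := fun i j =>
        if h : i < 6 ∧ j < 6 then ((CoxeterMatrix.E₆) ⟨i, h.1⟩ ⟨j, h.2⟩) else 0)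
      (fun i j => by rw [dif_pos ⟨i.2, j.2⟩]) (by decide +kernel)
  · exact CfsgLib.Chev.sysE7.exists_coxeter_hom F CfsgLib.Chev.PoincareE7.rank_eq
      CfsgLib.Chev.PoincareE7.cart_ok _ (Mf := fun i j =>
        if h : i < 7 ∧ j < 7 then ((CoxeterMatrix.E₇) ⟨i, h.1⟩ ⟨j, h.2⟩) else 0)
      (fun i j => by rw [dif_pos ⟨i.2, j.2⟩]) (by decide +kernel)
  · exact CfsgLib.Chev.sysE8.exists_coxeter_hom F CfsgLib.Chev.PoincareE8.rank_eq
      CfsgLib.Chev.PoincareE8.cart_ok _ (Mf := fun i j =>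
        if h : i < 8 ∧ j < 8 then ((CoxeterMatrix.E₈) ⟨i, h.1⟩ ⟨j, h.2⟩) else 0)
      (fun i j => by rw [dif_pos ⟨i.2, j.2⟩]) (by decide +kernel)

end Cfsg.Agent.S1039
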