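import Cfsg.Statements.S1094
import Cfsg.Agent.Chev.CoxeterIso
import Cfsg.Agent.Chev.Inst
import Cfsg.Agent.Chev.PoincareB2
import Cfsg.Agent.Chev.PoincareG2
import Cfsg.Agent.Chev.PoincareD4
import Cfsg.Agent.Chev.PoincareF4
import Cfsg.Agent.Chev.PoincareE6
import Cfsg.Agent.Chev.PoincareE7
import Cfsg.Agent.Chev.PoincareE8
-- import your own Cfsg.Agent.* helpers here

set_option autoImplicit false
open Cfsg

namespace Cfsg.Agent.S1094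

/-- The Coxeter element `s₁ s₂ ⋯ s_l` of the Coxeter group of type B₂, G₂, D₄, F₄, E₆, E₇, E₈ has order `h = 2N/l` = 4, 6, 6, 12, 12, 18, 30. -/
theorem result (p : (Σ n : ℕ, CoxeterMatrix (Fin n)) × ℕ)
    (hp : p ∈ [(⟨2, CoxeterMatrix.B 2⟩, 4), (⟨2, CoxeterMatrix.G₂⟩, 6), (⟨4, Cfsg.Lie.coxeterD4⟩, 6), (⟨4, CoxeterMatrix.F₄⟩, 12),
      (⟨6, CoxeterMatrix.E₆⟩, 12), (⟨7, CoxeterMatrix.E₇⟩, 18), (⟨8, CoxeterMatrix.E₈⟩, 30)]) :
    orderOf ((List.finRange p.1.1).map p.1.2.simple).prod = p.2 := by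
  simp only [List.mem_cons, List.not_mem_nil, or_false] at hp
  rcases hp with rfl | rfl | rfl | rfl | rfl | rfl | rfl
  · exact CfsgLib.Chev.sysB2.orderOf_coxeter_element CfsgLib.Chev.PoincareB2.rank_eq CfsgLib.Chev.PoincareB2.cart_ok (CoxeterMatrix.B 2)
      (Mf := fun i j => if h : i < 2 ∧ j < 2 then ((CoxeterMatrix.B 2) ⟨i, h.1⟩ ⟨j, h.2⟩) else 0)
      (fun i j => by rw [dif_pos ⟨i.2, j.2⟩]) (by decide +kernel) (by decide +kernel)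
  · exact CfsgLib.Chev.sysG2.orderOf_coxeter_element CfsgLib.Chev.PoincareG2.rank_eq CfsgLib.Chev.PoincareG2.cart_ok CoxeterMatrix.G₂
      (Mf := fun i j => if h : i < 2 ∧ j < 2 then (CoxeterMatrix.G₂ ⟨i, h.1⟩ ⟨j, h.2⟩) else 0)
      (fun i j => by rw [dif_pos ⟨i.2, j.2⟩]) (by decide +kernel) (by decide +kernel)
  · exact CfsgLib.Chev.sysD4.orderOf_coxeter_element CfsgLib.Chev.PoincareD4.rank_eq CfsgLib.Chev.PoincareD4.cart_ok Cfsg.Lie.coxeterD4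
      (Mf := fun i j => if h : i < 4 ∧ j < 4 then (Cfsg.Lie.coxeterD4 ⟨i, h.1⟩ ⟨j, h.2⟩) else 0)
      (fun i j => by rw [dif_pos ⟨i.2, j.2⟩]) (by decide +kernel) (by decide +kernel)
  · exact CfsgLib.Chev.sysF4.orderOf_coxeter_element CfsgLib.Chev.PoincareF4.rank_eq CfsgLib.Chev.PoincareF4.cart_ok CoxeterMatrix.F₄
      (Mf := fun i j => if h : i < 4 ∧ j < 4 then (CoxeterMatrix.F₄ ⟨i, h.1⟩ ⟨j, h.2⟩) else 0)
      (fun i j => by rw [dif_pos ⟨i.2, j.2⟩]) (by decide +kernel) (by decide +kernel)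
  · exact CfsgLib.Chev.sysE6.orderOf_coxeter_element CfsgLib.Chev.PoincareE6.rank_eq CfsgLib.Chev.PoincareE6.cart_ok CoxeterMatrix.E₆
      (Mf := fun i j => if h : i < 6 ∧ j < 6 then (CoxeterMatrix.E₆ ⟨i, h.1⟩ ⟨j, h.2⟩) else 0)
      (fun i j => by rw [dif_pos ⟨i.2, j.2⟩]) (by decide +kernel) (by decide +kernel)
  · exact CfsgLib.Chev.sysE7.orderOf_coxeter_element CfsgLib.Chev.PoincareE7.rank_eq CfsgLib.Chev.PoincareE7.cart_ok CoxeterMatrix.E₇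
      (Mf := fun i j => if h : i < 7 ∧ j < 7 then (CoxeterMatrix.E₇ ⟨i, h.1⟩ ⟨j, h.2⟩) else 0)
      (fun i j => by rw [dif_pos ⟨i.2, j.2⟩]) (by decide +kernel) (by decide +kernel)
  · exact CfsgLib.Chev.sysE8.orderOf_coxeter_element CfsgLib.Chev.PoincareE8.rank_eq CfsgLib.Chev.PoincareE8.cart_ok CoxeterMatrix.E₈
      (Mf := fun i j => if h : i < 8 ∧ j < 8 then (CoxeterMatrix.E₈ ⟨i, h.1⟩ ⟨j, h.2⟩) else 0)
      (fun i j => by rw [dif_pos ⟨i.2, j.2⟩]) (by decide +kernel) (by decide +kernel)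

end Cfsg.Agent.S1094
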