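import Cfsg.Statements.S1099
import Cfsg.Agent.Chev.Special.SpecG2
import Cfsg.Agent.Chev.ValidG2
import Cfsg.Agent.Chev.Special.Iso

set_option autoImplicit false
open Cfsg

namespace Cfsg.Agent.S1099

open CfsgLib.Chev in
/-- The image of a root element under the exceptional isogeny. -/
private theorem key {T : Tbl} {D : Cfsg.Lie.ChevalleyDatum} {P : Special.Spec} {K : Type*} [Field K]
    (hV : T.Valid D) (hP : P.Valid T) (hp : CharP K P.p) (hperf : ∀ x : K, ∃ y : K, y ^ P.p = x)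
    (g : ↥(D.group K)) {r r' e : ℕ} (t : K) (hr : r < T.n) (h1 : P.rbar T r = r') (h2 : P.lam T r = e)
    (hg : ((g : GL D.Idx K) : Matrix D.Idx D.Idx K) = D.x K r t) :
    ((Special.isoEquiv hV hP hp hperf g : GL D.Idx K) : Matrix D.Idx D.Idx K) = D.x K r' (t ^ e) := by
  have e1 : g = ⟨(Special.sv hV).xU r t, (Special.sv hV).xU_mem_group r t⟩ :=
    Subtype.ext ((Special.sv hV).eq_xU hg)
  rw [e1, Special.isoEquiv_apply, Special.iso_xU hV hP hp hr, Sys.coe_xU, h1, h2]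

/-- Graph automorphism of G₂ in characteristic 3 (K perfect): `x_a(t) ↦ x_b(t³)`, `x_b(t) ↦ x_a(t)`, `x_{-a}(t) ↦ x_{-b}(t³)`, `x_{-b}(t) ↦ x_{-a}(t)` extend to an automorphism of the group. -/
theorem result {K : Type*} [Field K] [CharP K 3] (hperf : ∀ x : K, ∃ y : K, y ^ 3 = x) :
    ∃ α : ↥(Cfsg.Lie.chevG2.group K) ≃* ↥(Cfsg.Lie.chevG2.group K), ∀ (g : ↥(Cfsg.Lie.chevG2.group K)) (t : K),
      (((g : GL Cfsg.Lie.chevG2.Idx K) : Matrix _ _ K) = Cfsg.Lie.chevG2.x K Cfsg.Lie.g2a t →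
        ((α g : GL Cfsg.Lie.chevG2.Idx K) : Matrix _ _ K) = Cfsg.Lie.chevG2.x K Cfsg.Lie.g2b (t ^ 3)) ∧
      (((g : GL Cfsg.Lie.chevG2.Idx K) : Matrix _ _ K) = Cfsg.Lie.chevG2.x K Cfsg.Lie.g2b t →
        ((α g : GL Cfsg.Lie.chevG2.Idx K) : Matrix _ _ K) = Cfsg.Lie.chevG2.x K Cfsg.Lie.g2a t) ∧
      (((g : GL Cfsg.Lie.chevG2.Idx K) : Matrix _ _ K) = Cfsg.Lie.chevG2.x K Cfsg.Lie.g2ma t →
        ((α g : GL Cfsg.Lie.chevG2.Idx K) : Matrix _ _ K) = Cfsg.Lie.chevG2.x K Cfsg.Lie.g2mb (t ^ 3)) ∧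
      (((g : GL Cfsg.Lie.chevG2.Idx K) : Matrix _ _ K) = Cfsg.Lie.chevG2.x K Cfsg.Lie.g2mb t →
        ((α g : GL Cfsg.Lie.chevG2.Idx K) : Matrix _ _ K) = Cfsg.Lie.chevG2.x K Cfsg.Lie.g2ma t) := by
  refine ⟨CfsgLib.Chev.Special.isoEquiv CfsgLib.Chev.DataG2.valid CfsgLib.Chev.Special.specG2_valid
    (inferInstance : CharP K 3) hperf, fun g t => ⟨fun h => ?_, fun h => ?_, fun h => ?_, fun h => ?_⟩⟩
  · exact key _ _ _ hperf g t (by decide +kernel) (by decide +kernel) (by decide +kernel) h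
  · simpa using key _ _ _ hperf g t (e := 1) (by decide +kernel) (by decide +kernel) (by decide +kernel) h
  · exact key _ _ _ hperf g t (by decide +kernel) (by decide +kernel) (by decide +kernel) h
  · simpa using key _ _ _ hperf g t (e := 1) (by decide +kernel) (by decide +kernel) (by decide +kernel) h

end Cfsg.Agent.S1099
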