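import Cfsg.Statements.S1141
import Cfsg.Agent.SuzukiTwo.UnitaryThree

set_option autoImplicit false
open Cfsg

namespace Cfsg.Agent.S1141

/-- Transport of the predicate along an isomorphism. -/
theorem suzuki_congr {P Q : Type*} [Group P] [Group Q] (e : P ≃* Q) (h : Cfsg.IsSuzukiTwoGroup P) :
    Cfsg.IsSuzukiTwoGroup Q := by
  obtain ⟨hfin, hp, ⟨a, b, hab⟩, ⟨x, y, h1, h2, h3, h4, h5⟩, K, hK, hreg⟩ := h
  refine ⟨Finite.of_equiv P e.toEquiv, hp.of_equiv e, ⟨e a, e b, fun h => hab (e.injective (by rw [map_mul, map_mul, h]))⟩,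
    ⟨e x, e y, fun h => h1 (e.injective h), fun h => h2 (e.map_eq_one_iff.mp h), by rw [← map_mul, h3, map_one],
      fun h => h4 (e.map_eq_one_iff.mp h), by rw [← map_mul, h5, map_one]⟩, ?_⟩
  let c : MulAut P →* MulAut Q := (MulAut.congr e).toMonoidHom
  refine ⟨K.map c, isCyclic_of_surjective (K.equivMapOfInjective c (MulAut.congr e).injective).toMonoidHom
    (K.equivMapOfInjective c (MulAut.congr e).injective).surjective, fun u v hu hu2 hv hv2 => ?_⟩
  obtain ⟨k, hk, huniq⟩ := hreg (e.symm u) (e.symm v) (fun h => hu (e.symm.map_eq_one_iff.mp h))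
    (by rw [← map_mul, hu2, map_one]) (fun h => hv (e.symm.map_eq_one_iff.mp h)) (by rw [← map_mul, hv2, map_one])
  refine ⟨⟨c k, k, k.2, rfl⟩, ?_, ?_⟩
  · show e ((k : MulAut P) (e.symm u)) = v
    rw [hk, e.apply_symm_apply]
  · rintro ⟨_, k', hk', rfl⟩ hk2
    have := huniq ⟨k', hk'⟩ (e.injective (by rw [e.apply_symm_apply]; exact hk2))
    exact Subtype.ext (congrArg c (congrArg Subtype.val this))


/-- Let `q = 2^n ≥ 4` and `|F| = q²`. A Sylow 2-subgroup `S` of `PSU₃(q)` has order `q³`, its centre has order `q`, and `S` is a Suzuki 2-group. -/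
theorem result {F : Type*} [Field F] [Fintype F] {n : ℕ} (hn : 2 ≤ n)
    (hF : Fintype.card F = (2 ^ n) ^ 2) (S : Sylow 2 (Cfsg.PSU 3 F (2 ^ n))) :
    Nat.card S = (2 ^ n) ^ 3 ∧ Nat.card (Subgroup.center ↥(S : Subgroup (Cfsg.PSU 3 F (2 ^ n)))) = 2 ^ n ∧
      Cfsg.IsSuzukiTwoGroup ↥(S : Subgroup (Cfsg.PSU 3 F (2 ^ n))) := by
  classical
  haveI : Fact (Nat.Prime 2) := ⟨Nat.prime_two⟩
  haveI : CharP F 2 := charP_of_card_eq_prime_pow (f := n * 2) (by rw [hF, ← pow_mul])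
  obtain ⟨σ, hσ, hσ2, hσne, -⟩ := CfsgLib.Unitary.exists_conj (2 ^ n) hF
  obtain ⟨f, hf, hker⟩ := CfsgLib.SUFusion.exists_psu_hom (2 ^ n) hF 3 le_rfl σ hσ hσ2 hσne
  obtain ⟨U, hU⟩ := CfsgLib.SUFusion.exists_sylow_uni (n := 3) hσ2 hσne 2 le_rfl
  obtain ⟨h1, h2, h3⟩ := CfsgLib.SuzukiTwo.uni_isSuzuki hσ2 (2 ^ n) n hn rfl hF hσ hσne
  have hinj : Function.Injective (f.comp (U : Subgroup _).subtype) := by
    rw [← MonoidHom.ker_eq_bot_iff, Subgroup.eq_bot_iff_forall]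
    rintro ⟨g, hg⟩ hgk
    obtain ⟨c, hc⟩ := (hker g).mp hgk
    have hg' : g ∈ CfsgLib.SUFusion.uni σ 3 := by rw [← hU]; exact hg
    have h00 := hg' 0 0 le_rfl
    rw [hc, Matrix.smul_apply, Matrix.one_apply_eq, smul_eq_mul, mul_one] at h00
    apply Subtype.ext
    exact CfsgLib.SUFusion.mat_ext (by rw [hc, h00, one_smul]; rfl)
  let eU : CfsgLib.SUFusion.uni σ 3 ≃* (S : Subgroup (Cfsg.PSU 3 F (2 ^ n))) :=
    ((MulEquiv.subgroupCongr hU.symm).trans
      (((MonoidHom.ofInjective hinj)).trans (MulEquiv.subgroupCongr (show (f.comp (U : Subgroup _).subtype).range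
        = ((U.mapSurjective hf : Sylow 2 _) : Subgroup _) by
        rw [MonoidHom.range_comp, Subgroup.range_subtype]; rfl)))).trans (Sylow.equiv _ S)
  refine ⟨?_, ?_, suzuki_congr eU h3⟩
  · rw [← Nat.card_congr eU.toEquiv, h1]
  · exact ((Nat.card_congr (Subgroup.centerCongr eU).toEquiv).symm).trans h2

end Cfsg.Agent.S1141
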