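import Cfsg.Statements.S1154
import Cfsg.Agent.Chev.Ree.Cosets
-- import your own Cfsg.Agent.* helpers here

set_option autoImplicit false
set_option linter.style.haveILetI false
set_option linter.unusedSectionVars false
open Cfsg

namespace Cfsg.Agent.S1154

/-- In the small Ree group ²G₂(q), q = 3^(2m+1) with m ≥ 1, realised as G¹ inside the Chevalley group G₂ over the field with q elements (θ the 3^m-th power map), with `U¹ = G¹ ∩ U` (U the positive unipotent subgroup of the ambient G₂): `U¹` has exactly `q² - 1` elements of order 3. -/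
theorem result {K : Type*} [Field K] [Fintype K] {m : ℕ} (hm : 1 ≤ m) (hK : Fintype.card K = 3 ^ (2 * m + 1)) :
    Nat.card {u : ↥(Cfsg.Lie.chevG2.posUnipotent K ⊓ Cfsg.Lie.twistedG2 K (3 ^ m)) // orderOf u = 3} = (3 ^ (2 * m + 1)) ^ 2 - 1 := by
  haveI := CfsgLib.Chev.Ree.charP_three hK
  have hK' : Nat.card K = 3 ^ (2 * m + 1) := by rw [Nat.card_eq_fintype_card, hK]
  have e1 : Nat.card {p : K × K // p ≠ 0} = (3 ^ (2 * m + 1)) ^ 2 - 1 := by
    haveI := Classical.decEq K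
    rw [Nat.card_eq_fintype_card, Fintype.card_subtype_compl, Fintype.card_subtype_eq, Fintype.card_prod, hK]
    ring_nf
  rw [← e1]
  symm
  have key : ∀ t u v : K, CfsgLib.Chev.Ree.WR m t u v = 1 ↔ t = 0 ∧ u = 0 ∧ v = 0 := fun t u v =>
    ⟨fun h => CfsgLib.Chev.Ree.WR_inj m (h.trans (CfsgLib.Chev.Ree.WR_zero m).symm), by
      rintro ⟨rfl, rfl, rfl⟩; exact CfsgLib.Chev.Ree.WR_zero m⟩
  have hord : ∀ g : ↥(Cfsg.Lie.chevG2.posUnipotent K ⊓ Cfsg.Lie.twistedG2 K (3 ^ m)),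
      orderOf g = 3 ↔ (g : GL Cfsg.Lie.chevG2.Idx K) ^ 3 = 1 ∧ (g : GL Cfsg.Lie.chevG2.Idx K) ≠ 1 := by
    intro g
    haveI := Fact.mk Nat.prime_three
    rw [orderOf_eq_prime_iff, Subtype.ext_iff, Subgroup.coe_pow, Subgroup.coe_one, Ne, Subtype.ext_iff,
      Subgroup.coe_one]
  refine Nat.card_eq_of_bijective (fun p => ⟨⟨CfsgLib.Chev.Ree.WR m 0 p.1.1 p.1.2,
    (CfsgLib.Chev.Ree.mem_pos_inf m hK').2 ⟨_, _, _, rfl⟩⟩, (hord _).2
      ⟨(CfsgLib.Chev.Ree.cube_eq_one_iff m hK' _ _ _).2 rfl, fun h =>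
        p.2 (Prod.ext ((key _ _ _).1 h).2.1 ((key _ _ _).1 h).2.2)⟩⟩) ⟨fun p q h => ?_, fun g => ?_⟩
  · obtain ⟨-, h2, h3⟩ := CfsgLib.Chev.Ree.WR_inj m (congrArg (fun x => ((x.1 : _) : GL Cfsg.Lie.chevG2.Idx K)) h)
    exact Subtype.ext (Prod.ext h2 h3)
  · obtain ⟨t, u, v, e⟩ := (CfsgLib.Chev.Ree.mem_pos_inf m hK').1 g.1.2
    obtain ⟨h3, h1⟩ := (hord g.1).1 g.2
    rw [e] at h3 h1
    obtain rfl := (CfsgLib.Chev.Ree.cube_eq_one_iff m hK' _ _ _).1 h3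
    exact ⟨⟨(u, v), fun h => h1 ((key _ _ _).2 ⟨rfl, congrArg Prod.fst h, congrArg Prod.snd h⟩)⟩,
      Subtype.ext (Subtype.ext e.symm)⟩

end Cfsg.Agent.S1154
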