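import Cfsg.Statements.S1155
import Cfsg.Agent.Chev.Ree.Cosets
-- import your own Cfsg.Agent.* helpers here

set_option autoImplicit false
set_option linter.style.haveILetI false
set_option linter.unusedSectionVars false
open Cfsg

namespace Cfsg.Agent.S1155

/-- In the small Ree group ²G₂(q), q = 3^(2m+1) with m ≥ 1, realised as G¹ inside the Chevalley group G₂ over the field with q elements (θ the 3^m-th power map): distinct Sylow 3-subgroups of `G¹` meet trivially. -/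
theorem result {K : Type*} [Field K] [Fintype K] {m : ℕ} (hm : 1 ≤ m) (hK : Fintype.card K = 3 ^ (2 * m + 1))
    (P Q : Sylow 3 ↥(Cfsg.Lie.twistedG2 K (3 ^ m))) (hPQ : P ≠ Q) : (P : Subgroup ↥(Cfsg.Lie.twistedG2 K (3 ^ m))) ⊓ (Q : Subgroup ↥(Cfsg.Lie.twistedG2 K (3 ^ m))) = ⊥ := by
  haveI := CfsgLib.Chev.Ree.charP_three hK
  have hK' : Nat.card K = 3 ^ (2 * m + 1) := by rw [Nat.card_eq_fintype_card, hK]
  haveI := Fact.mk Nat.prime_three
  set U := (Cfsg.Lie.chevG2.posUnipotent K ⊓ Cfsg.Lie.twistedG2 K (3 ^ m)).subgroupOf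
    (Cfsg.Lie.twistedG2 K (3 ^ m)) with hU
  have hcardU : Nat.card ↥U = (3 ^ (2 * m + 1)) ^ 3 := by
    rw [hU, Nat.card_congr (Subgroup.subgroupOfEquivOfLe inf_le_right).toEquiv,
      CfsgLib.Chev.Ree.card_pos_inf m hK']
  have hG := CfsgLib.Chev.Ree.card_group m hK'
  have hfac : (Nat.card ↥(Cfsg.Lie.twistedG2 K (3 ^ m))).factorization 3 = 3 * (2 * m + 1) := by
    have h1 : 1 ≤ 3 ^ (2 * m + 1) := Nat.one_le_pow _ _ (by norm_num)
    have hd : (3 : ℕ) ∣ 3 ^ (2 * m + 1) := dvd_pow_self 3 (by omega)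
    have ha : ¬ 3 ∣ 3 ^ (2 * m + 1) - 1 := fun h => by omega
    have hb : ¬ 3 ∣ (3 ^ (2 * m + 1)) ^ 3 + 1 := fun h => by
      have := dvd_pow hd (show 3 ≠ 0 by norm_num); omega
    have h0 : 3 ^ (2 * m + 1) - 1 ≠ 0 := fun h => ha (by rw [h]; exact dvd_zero 3)
    rw [hG, Nat.factorization_mul (mul_ne_zero (by positivity) h0) (by positivity),
      Nat.factorization_mul (by positivity) h0, Nat.factorization_pow, Nat.factorization_pow]
    simp [Nat.prime_three.factorization_self, Nat.factorization_eq_zero_of_not_dvd ha,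
      Nat.factorization_eq_zero_of_not_dvd hb]
  let S₀ : Sylow 3 ↥(Cfsg.Lie.twistedG2 K (3 ^ m)) := Sylow.ofCard U (by rw [hcardU, hfac, ← pow_mul, mul_comm])
  obtain ⟨a, rfl⟩ := MulAction.exists_smul_eq ↥(Cfsg.Lie.twistedG2 K (3 ^ m)) S₀ P
  obtain ⟨b, rfl⟩ := MulAction.exists_smul_eq ↥(Cfsg.Lie.twistedG2 K (3 ^ m)) S₀ Q
  have hg : ((a⁻¹ * b : ↥(Cfsg.Lie.twistedG2 K (3 ^ m))) : GL Cfsg.Lie.chevG2.Idx K) ∉
      Cfsg.Lie.chevG2.borelSubgroup K := by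
    intro hB
    refine hPQ ?_
    have hnorm : a⁻¹ * b ∈ Subgroup.normalizer (U : Set ↥(Cfsg.Lie.twistedG2 K (3 ^ m))) := by
      refine Subgroup.mem_normalizer_iff.2 fun x => ?_
      have key : ∀ c : ↥(Cfsg.Lie.twistedG2 K (3 ^ m)), (c : GL Cfsg.Lie.chevG2.Idx K) ∈
          Cfsg.Lie.chevG2.borelSubgroup K → ∀ y, y ∈ U → c * y * c⁻¹ ∈ U := by
        intro c hc y hy
        rw [hU, Subgroup.mem_subgroupOf, Subgroup.mem_inf] at hy ⊢
        exact ⟨CfsgLib.Chev.Ree.borel_conj_pos hc hy.1, (c * y * c⁻¹).2⟩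
      refine ⟨key _ hB x, fun h => ?_⟩
      have := key _ (show ((a⁻¹ * b)⁻¹ : ↥(Cfsg.Lie.twistedG2 K (3 ^ m))).1 ∈ _ from inv_mem hB) _ h
      simpa [mul_assoc] using this
    have : (a⁻¹ * b) • S₀ = S₀ := Sylow.smul_eq_iff_mem_normalizer.2 hnorm
    rw [mul_smul, inv_smul_eq_iff] at this
    exact this.symm
  refine (Subgroup.eq_bot_iff_forall _).2 fun x hx => ?_
  obtain ⟨hxP, hxQ⟩ := Subgroup.mem_inf.1 hx
  rw [Sylow.coe_subgroup_smul, Subgroup.mem_pointwise_smul_iff_inv_smul_mem] at hxP hxQ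
  rw [MulAut.smul_def, ← map_inv, MulAut.conj_apply, inv_inv] at hxP hxQ
  replace hxP : a⁻¹ * x * a ∈ U := hxP
  replace hxQ : b⁻¹ * x * b ∈ U := hxQ
  rw [hU, Subgroup.mem_subgroupOf] at hxP hxQ
  obtain ⟨v, hv, c, hc, e⟩ := CfsgLib.Chev.Ree.exists_unb m hK' (a⁻¹ * b).2 hg
  set g : GL Cfsg.Lie.chevG2.Idx K := ((a⁻¹ * b : ↥(Cfsg.Lie.twistedG2 K (3 ^ m))) : GL Cfsg.Lie.chevG2.Idx K) with hgdef
  set y : GL Cfsg.Lie.chevG2.Idx K := ((a⁻¹ * x * a : ↥(Cfsg.Lie.twistedG2 K (3 ^ m))) : GL Cfsg.Lie.chevG2.Idx K) with hy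
  have hyg : g⁻¹ * y * g ∈ Cfsg.Lie.chevG2.posUnipotent K := by
    have h1 : g⁻¹ * y * g = ((b⁻¹ * x * b : ↥(Cfsg.Lie.twistedG2 K (3 ^ m))) : GL Cfsg.Lie.chevG2.Idx K) := by
      simp only [hgdef, hy, Subgroup.coe_mul, Subgroup.coe_inv]; group
    rw [h1]; exact (Subgroup.mem_inf.1 hxQ).1
  have h2 : v⁻¹ * y * v = 1 := by
    refine CfsgLib.Chev.Ree.eq_one_of_conj_borel m hK' (mul_mem (mul_mem (inv_mem (Subgroup.mem_inf.1 hv).1)
      (Subgroup.mem_inf.1 hxP).1) (Subgroup.mem_inf.1 hv).1) ?_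
    have hcB := (Subgroup.mem_inf.1 hc).1
    have := mul_mem (mul_mem hcB (Subgroup.mem_sup_left (T := Cfsg.Lie.chevG2.diagonalSubgroup K) hyg)) (inv_mem hcB)
    rw [e] at this
    rwa [show c * ((v * CfsgLib.Chev.Ree.nJ K * c)⁻¹ * y * (v * CfsgLib.Chev.Ree.nJ K * c)) * c⁻¹ =
      (CfsgLib.Chev.Ree.nJ K)⁻¹ * (v⁻¹ * y * v) * CfsgLib.Chev.Ree.nJ K by group] at this
  have hy1 : y = 1 := by rw [show y = v * (v⁻¹ * y * v) * v⁻¹ by group, h2, mul_one, mul_inv_cancel]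
  have h4 : a⁻¹ * x * a = 1 := Subtype.ext hy1
  calc x = a * (a⁻¹ * x * a) * a⁻¹ := by group
    _ = 1 := by rw [h4, mul_one, mul_inv_cancel]

end Cfsg.Agent.S1155
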