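import Cfsg.Statements.S1225
import Cfsg.Agent.Invol.StronglyEmbedded

set_option autoImplicit false
open Cfsg

namespace Cfsg.Agent.S1225

/-- Let H be a strongly embedded subgroup of the finite group G, u an involution outside H and D = H ∩ uHu⁻¹. Then any two involutions of H are conjugate by an element of D, and any two involutions of G are conjugate in G. -/
theorem result {G : Type*} [Group G] [Finite G] (H : Subgroup G) (hH : Cfsg.IsStronglyEmbedded H) (u : G) (hu : orderOf u = 2) (huH : u ∉ H) (s t : G) (hs : orderOf s = 2) (hsH : s ∈ H) (ht : orderOf t = 2) (htH : t ∈ H) : (∃ d ∈ (H ⊓ H.map (MulAut.conj u).toMonoidHom), d * s * d⁻¹ = t) ∧ ∀ a b : G, orderOf a = 2 → orderOf b = 2 → IsConj a b := by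
  refine ⟨?_, fun a b ha hb => ?_⟩
  · have hinv := CfsgLib.Invol.inv_eq_of_orderOf hu
    -- midpoints towards the fixed involution `u s u`
    set i := u * s * u with hi
    have hio : orderOf i = 2 := by
      have h1 := CfsgLib.Invol.orderOf_conj u s
      rwa [hinv, hs] at h1
    have hiu : u⁻¹ * i * u ∈ H := by
      rw [hi, show u⁻¹ * (u * s * u) * u = s * (u * u) by group, CfsgLib.Invol.mul_self_of_orderOf hu, mul_one]
      exact hsH
    have hiH : i ∉ H := CfsgLib.Invol.not_mem_of_conj_mem hH huH hio hiu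
    obtain ⟨w₁, ⟨hw₁, hw₁i⟩, -⟩ := CfsgLib.Invol.existsUnique_midpoint hH hs hsH hio hiH
    obtain ⟨w₂, ⟨hw₂, hw₂i⟩, -⟩ := CfsgLib.Invol.existsUnique_midpoint hH ht htH hio hiH
    have h1 := CfsgLib.Invol.midpoint_mem_coset hH hs hsH hw₁ hw₁i hiu
    have h2 := CfsgLib.Invol.midpoint_mem_coset hH ht htH hw₂ hw₂i hiu
    have e1 := CfsgLib.Invol.inv_eq_of_orderOf hw₁
    have e2 := CfsgLib.Invol.inv_eq_of_orderOf hw₂
    refine ⟨w₂⁻¹ * w₁, ⟨?_, ?_⟩, ?_⟩
    · have h3 := H.mul_mem (H.inv_mem h2) h1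
      rwa [show (u⁻¹ * w₂)⁻¹ * (u⁻¹ * w₁) = w₂⁻¹ * w₁ by group] at h3
    · refine ⟨(u⁻¹ * w₂) * (u⁻¹ * w₁)⁻¹, H.mul_mem h2 (H.inv_mem h1), ?_⟩
      show u * ((u⁻¹ * w₂) * (u⁻¹ * w₁)⁻¹) * u⁻¹ = w₂⁻¹ * w₁
      calc _ = w₂ * w₁⁻¹ := by group
        _ = _ := by rw [e1, e2]
    · have hinv' : (w₂⁻¹ * w₁)⁻¹ = w₁ * w₂ := by rw [_root_.mul_inv_rev, inv_inv, e1]
      rw [hinv', e2]
      calc w₂ * w₁ * s * (w₁ * w₂) = w₂ * (w₁ * s * w₁) * w₂ := by group
        _ = w₂ * (w₂ * t * w₂) * w₂ := by rw [hw₁i, hw₂i]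
        _ = (w₂ * w₂) * t * (w₂ * w₂) := by group
        _ = t := by rw [CfsgLib.Invol.mul_self_of_orderOf hw₂, one_mul, mul_one]
  · have key : ∀ a : G, orderOf a = 2 → IsConj s a := by
      intro a ha
      by_cases haH : a ∈ H
      · exact (CfsgLib.Invol.isConj_inside_outside hH hs hsH hu huH).trans
          (CfsgLib.Invol.isConj_inside_outside hH ha haH hu huH).symm
      · exact CfsgLib.Invol.isConj_inside_outside hH hs hsH ha haH
    exact (key a ha).symm.trans (key b hb)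

end Cfsg.Agent.S1225
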