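import Cfsg.Statements.S1237
import Cfsg.Agent.S1141
import Cfsg.Agent.SuzukiTwo.Higman
import Cfsg.Agent.SuzukiTwo.Order
import Cfsg.Agent.SuzukiTwo.SquareMapIso
import Cfsg.Agent.PCore.OmegaFix

set_option autoImplicit false
open Cfsg

namespace Cfsg.Agent.S1237

open CfsgLib.SuzukiTwo
open scoped commutatorElement

/-- The value space of squares. -/
abbrev A2 := Fin 2 → ZMod 2

/-- The space of the central quotient. -/
abbrev A4 := Fin 4 → ZMod 2

/-- The order three map of the value space. -/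
def K2 (a : A2) : A2 := ![a 1, a 0 + a 1]

/-- The square map of the model. -/
def q0 (x : A4) : A2 :=
  ![x 0 + x 3 + x 0 * x 2 + x 0 * x 3 + x 1 * x 2,
    x 1 + x 2 + x 3 + x 0 * x 3 + x 1 * x 2 + x 1 * x 3]

theorem q0_aniso : ∀ x, q0 x = 0 → x = 0 := by decide +kernel

theorem K2_orbit : ∀ a, a ≠ 0 → a = ![1, 0] ∨ K2 a = ![1, 0] ∨ K2 (K2 a) = ![1, 0] := by decide +kernel

theorem add_self2 : ∀ a : A2, a + a = 0 := by decide +kernel

/-- An elementary abelian group of order four. -/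
theorem equiv_A2 {Z : Type*} [Group Z] [Finite Z] (h2 : ∀ z : Z, z ^ 2 = 1) (h4 : Nat.card Z = 4) :
    Nonempty (Z ≃* Multiplicative A2) := by
  classical
  letI : CommGroup Z := { (inferInstance : Group Z) with
    mul_comm := fun a b => by
      have hi : ∀ z : Z, z⁻¹ = z := fun z => inv_eq_of_mul_eq_one_right (by rw [← pow_two]; exact h2 z)
      calc a * b = (a * b)⁻¹ := (hi _).symm
        _ = b * a := by rw [_root_.mul_inv_rev, hi, hi] }
  letI : Module (ZMod 2) (Additive Z) := AddCommGroup.zmodModule fun a => by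
    apply Additive.toMul.injective
    rw [two_nsmul, toMul_add, toMul_zero, ← pow_two]; exact h2 _
  have hd : Module.finrank (ZMod 2) (Additive Z) = 2 := by
    have := Module.natCard_eq_pow_finrank (K := ZMod 2) (V := Additive Z)
    rw [Nat.card_congr (Additive.toMul (α := Z)), h4, Nat.card_zmod] at this
    exact (Nat.pow_right_injective (le_refl 2) (this.symm.trans (show 4 = 2 ^ 2 from rfl)))
  let b := Module.finBasisOfFinrankEq (ZMod 2) (Additive Z) hd
  exact ⟨AddEquiv.toMultiplicativeRight b.equivFun.toAddEquiv⟩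

/-- An element-wise criterion on a group with central squares: the bound on the quotient. -/
theorem quotient_data {P : Type*} [Group P] [Finite P] (Z : Subgroup P) [Z.Normal] (hZc : Z ≤ Subgroup.center P)
    (hZ2 : ∀ z ∈ Z, z ^ 2 = 1) (hsq : ∀ g : P, g ^ 2 ∈ Z) (hinv : ∀ g : P, g ^ 2 = 1 → g ∈ Z)
    (ι : Z ≃* Multiplicative A2) :
    ∃ (Qc : P ⧸ Z → A2) (Bc : P ⧸ Z → P ⧸ Z → A2),
      (∀ g : P, Qc g = Multiplicative.toAdd (ι ⟨g ^ 2, hsq g⟩)) ∧
      (∀ v w, Qc (v * w) = Qc v + Qc w + Bc v w) ∧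
      (∀ v v' w, Bc (v * v') w = Bc v w + Bc v' w) ∧ (∀ v w w', Bc v (w * w') = Bc v w + Bc v w') ∧
      (∀ v, Qc v = 0 → v = 1) ∧ (∀ v w : P ⧸ Z, v * w = w * v) ∧ (∀ v : P ⧸ Z, v * v = 1) ∧
      (∀ g h : P, Bc g h = 0 → g * h = h * g) ∧ Nat.card (P ⧸ Z) ∣ 16 := by
  classical
  have hcm : ∀ g h : P, ⁅g, h⁆ ∈ Z := fun g h => by
    rw [show ⁅g, h⁆ = g ^ 2 * (g⁻¹ * h) ^ 2 * (h ^ 2)⁻¹ by simp only [commutatorElement_def, pow_two]; group]
    exact mul_mem (mul_mem (hsq _) (hsq _)) (inv_mem (hsq _))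
  have hcent : ∀ z ∈ Z, ∀ g : P, g * z = z * g := fun z hz g => Subgroup.mem_center_iff.mp (hZc hz) g
  have hzinv : ∀ z ∈ Z, z⁻¹ = z := fun z hz => inv_eq_of_mul_eq_one_right (by rw [← pow_two]; exact hZ2 z hz)
  have hcml : ∀ g g' h : P, ⁅g * g', h⁆ = ⁅g, h⁆ * ⁅g', h⁆ := fun g g' h => by
    rw [show ⁅g * g', h⁆ = g * ⁅g', h⁆ * g⁻¹ * ⁅g, h⁆ by simp only [commutatorElement_def]; group,
      hcent _ (hcm g' h) g, mul_inv_cancel_right]
    exact (hcent _ (hcm g' h) _).symm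
  have hsym : ∀ g h : P, ⁅g, h⁆ = ⁅h, g⁆ := fun g h => by
    rw [← hzinv _ (hcm h g), commutatorElement_inv]
  have hcmr : ∀ g h h' : P, ⁅g, h * h'⁆ = ⁅g, h⁆ * ⁅g, h'⁆ := fun g h h' => by
    rw [hsym, hcml, hsym h, hsym h']
  have hsqmul : ∀ g h : P, (g * h) ^ 2 = g ^ 2 * h ^ 2 * ⁅g, h⁆ := by
    intro g h
    have e : h * g = g * h * ⁅h⁻¹, g⁻¹⁆ := by simp only [commutatorElement_def]; group
    have e2 : ⁅h⁻¹, g⁻¹⁆ = ⁅g, h⁆ := by
      have h1 : ∀ a b : P, ⁅a⁻¹, b⁆ = ⁅a, b⁆ := fun a b => by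
        have := hcml a a⁻¹ b
        rw [mul_inv_cancel, commutatorElement_one_left] at this
        rw [eq_comm, mul_eq_one_iff_eq_inv, hzinv _ (hcm _ _)] at this
        exact this.symm
      rw [h1, hsym, h1, hsym]
    calc (g * h) ^ 2 = g * (h * g) * h := by rw [pow_two]; group
      _ = g * (g * h * ⁅g, h⁆) * h := by rw [e, e2]
      _ = g * g * (h * (⁅g, h⁆ * h)) := by group
      _ = g * g * (h * (h * ⁅g, h⁆)) := by rw [hcent _ (hcm g h) h]
      _ = g ^ 2 * h ^ 2 * ⁅g, h⁆ := by rw [pow_two, pow_two]; group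
  let val : ∀ g : P, g ∈ Z → A2 := fun g hg => Multiplicative.toAdd (ι ⟨g, hg⟩)
  have hval : ∀ a b (ha : a ∈ Z) (hb : b ∈ Z), val (a * b) (mul_mem ha hb) = val a ha + val b hb := fun a b ha hb => by
    show Multiplicative.toAdd (ι (⟨a, ha⟩ * ⟨b, hb⟩)) = _
    rw [map_mul]; rfl
  have hvcongr : ∀ a b (ha : a ∈ Z) (hb : b ∈ Z), a = b → val a ha = val b hb := fun a b ha hb e => by subst e; rfl
  have hQwd : ∀ g g' : P, (QuotientGroup.mk g : P ⧸ Z) = QuotientGroup.mk g' → g ^ 2 = g' ^ 2 := by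
    intro g g' e
    obtain ⟨z, hz, rfl⟩ : ∃ z ∈ Z, g' = g * z := ⟨g⁻¹ * g', QuotientGroup.eq.mp e, by group⟩
    rw [Commute.mul_pow (hcent z hz g), hZ2 z hz, mul_one]
  let Qc : P ⧸ Z → A2 := fun v => val (v.out ^ 2) (hsq _)
  let Bc : P ⧸ Z → P ⧸ Z → A2 := fun v w => val ⁅v.out, w.out⁆ (hcm _ _)
  have hBwd : ∀ g h : P, Bc g h = val ⁅g, h⁆ (hcm g h) := fun g h => by
    obtain ⟨z, hz, ez⟩ : ∃ z ∈ Z, (QuotientGroup.mk g : P ⧸ Z).out = g * z :=
      ⟨g⁻¹ * (QuotientGroup.mk g : P ⧸ Z).out, QuotientGroup.eq.mp (Quotient.out_eq _).symm, by group⟩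
    obtain ⟨w, hw, ew⟩ : ∃ w ∈ Z, (QuotientGroup.mk h : P ⧸ Z).out = h * w :=
      ⟨h⁻¹ * (QuotientGroup.mk h : P ⧸ Z).out, QuotientGroup.eq.mp (Quotient.out_eq _).symm, by group⟩
    have h1 : ∀ a b : P, b ∈ Z → ⁅a, b⁆ = 1 := fun a b hb => commutatorElement_eq_one_iff_mul_comm.mpr (hcent b hb a)
    exact hvcongr _ _ _ _ (by rw [ez, ew, hcmr, h1 _ w hw, mul_one, hcml, hsym z, h1 h z hz, mul_one])
  have hQd : ∀ g : P, Qc g = val (g ^ 2) (hsq g) := fun g => hvcongr _ _ _ _ (hQwd _ _ (Quotient.out_eq _))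
  have hQ : ∀ v w, Qc (v * w) = Qc v + Qc w + Bc v w := by
    intro v w
    obtain ⟨g, rfl⟩ := QuotientGroup.mk_surjective v
    obtain ⟨h, rfl⟩ := QuotientGroup.mk_surjective w
    rw [← QuotientGroup.mk_mul, hQd, hQd, hQd, hBwd]
    rw [← hval, ← hval]
    exact hvcongr _ _ _ _ (hsqmul g h)
  have hBl : ∀ v v' w, Bc (v * v') w = Bc v w + Bc v' w := by
    intro v v' w
    obtain ⟨g, rfl⟩ := QuotientGroup.mk_surjective v
    obtain ⟨g', rfl⟩ := QuotientGroup.mk_surjective v'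
    obtain ⟨h, rfl⟩ := QuotientGroup.mk_surjective w
    rw [← QuotientGroup.mk_mul, hBwd, hBwd, hBwd, ← hval]
    exact hvcongr _ _ _ _ (hcml g g' h)
  have hBr : ∀ v w w', Bc v (w * w') = Bc v w + Bc v w' := by
    intro v v' w
    obtain ⟨g, rfl⟩ := QuotientGroup.mk_surjective v
    obtain ⟨g', rfl⟩ := QuotientGroup.mk_surjective v'
    obtain ⟨h, rfl⟩ := QuotientGroup.mk_surjective w
    rw [← QuotientGroup.mk_mul, hBwd, hBwd, hBwd, ← hval]
    exact hvcongr _ _ _ _ (hcmr g g' h)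
  have hval0 : ∀ a (ha : a ∈ Z), val a ha = 0 → a = 1 := fun a ha e =>
    congrArg Subtype.val (ι.map_eq_one_iff.mp (Multiplicative.toAdd.injective (e.trans toAdd_one.symm)) :
      (⟨a, ha⟩ : Z) = 1)
  have hani : ∀ v, Qc v = 0 → v = 1 := by
    intro v e
    obtain ⟨g, rfl⟩ := QuotientGroup.mk_surjective v
    rw [hQd] at e
    exact (QuotientGroup.eq_one_iff g).mpr (hinv g (hval0 _ _ e))
  have hsqV : ∀ v : P ⧸ Z, v * v = 1 := fun v => by
    obtain ⟨g, rfl⟩ := QuotientGroup.mk_surjective v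
    rw [← QuotientGroup.mk_mul, QuotientGroup.eq_one_iff, ← pow_two]
    exact hsq g
  have hcommV : ∀ v w : P ⧸ Z, v * w = w * v := fun v w => by
    obtain ⟨g, rfl⟩ := QuotientGroup.mk_surjective v
    obtain ⟨h, rfl⟩ := QuotientGroup.mk_surjective w
    rw [← QuotientGroup.mk_mul, ← QuotientGroup.mk_mul, QuotientGroup.eq]
    rw [show (g * h)⁻¹ * (h * g) = ⁅h⁻¹, g⁻¹⁆ by simp only [commutatorElement_def]; group]
    exact hcm _ _
  refine ⟨Qc, Bc, hQd, hQ, hBl, hBr, hani, hcommV, hsqV, fun g h e => ?_, ?_⟩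
  · rw [hBwd] at e
    exact commutatorElement_eq_one_iff_mul_comm.mp (hval0 _ _ e)
  letI : CommGroup (P ⧸ Z) := { (inferInstance : Group (P ⧸ Z)) with mul_comm := hcommV }
  letI : Module (ZMod 2) (Additive (P ⧸ Z)) := AddCommGroup.zmodModule fun a => by
    apply Additive.toMul.injective
    rw [two_nsmul, toMul_add, toMul_zero]; exact hsqV _
  have hle := finrank_le_of_anisotropic (W := Additive (P ⧸ Z)) (n := 2)
    (fun t x => Qc (Additive.toMul x) t) (fun t x y => Bc (Additive.toMul x) (Additive.toMul y) t)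
    (fun t x y => congrFun (hQ _ _) t) (fun t x x' y => congrFun (hBl _ _ _) t) (fun t x y y' => congrFun (hBr _ _ _) t)
    (fun x hx => Additive.toMul.injective (hani _ (funext hx)))
  rw [← Nat.card_congr (Additive.ofMul (α := P ⧸ Z)).symm, Module.natCard_eq_pow_finrank (K := ZMod 2), Nat.card_zmod,
    show (16 : ℕ) = 2 ^ 4 from rfl]
  exact Nat.pow_dvd_pow 2 hle

/-- A permutation of `3`-power order whose cube moves every point: the number of points is divisible by `9`. -/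
theorem nine_dvd_card {X : Type*} [Finite X] (σ : Equiv.Perm X) {b : ℕ} (hσ : σ ^ 3 ^ b = 1)
    (hmove : ∀ x, σ (σ (σ x)) ≠ x) : 9 ∣ Nat.card X := by
  classical
  haveI : Fintype X := Fintype.ofFinite X
  haveI : Fact (Nat.Prime 3) := ⟨Nat.prime_three⟩
  rw [Nat.card_congr (MulAction.selfEquivSigmaOrbits (Subgroup.zpowers σ) X), Nat.card_sigma]
  refine Finset.dvd_sum fun ω _ => ?_
  suffices key : ∀ x : X, 9 ∣ Nat.card (MulAction.orbit (Subgroup.zpowers σ) x) from key _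
  intro x
  classical
  have hp : IsPGroup 3 (Subgroup.zpowers σ) :=
    IsPGroup.of_card_dvd_pow (n := b) (by rw [Nat.card_zpowers]; exact orderOf_dvd_of_pow_eq_one hσ)
  obtain ⟨i, hi⟩ := hp.card_orbit (a := x)
  rw [hi]
  have hne : ∀ j, j ≤ 1 → i ≠ j := by
    intro j hj e
    subst e
    have hper : Function.minimalPeriod (fun y => σ y) x = 3 ^ i := by
      rw [← hi]
      have := MulAction.minimalPeriod_eq_card (a := σ) (b := x)
      rw [← Nat.card_eq_fintype_card] at this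
      exact this
    have h3 : Function.IsPeriodicPt (fun y => σ y) 3 x :=
      Function.isPeriodicPt_iff_minimalPeriod_dvd.mpr (hper ▸ by interval_cases i <;> decide)
    exact hmove x h3
  exact (show (9 : ℕ) = 3 ^ 2 from rfl) ▸ pow_dvd_pow 3 (by have := hne 0 zero_le_one; have := hne 1 le_rfl; omega)

section Cube

variable {T : Type*} [Group T] [Finite T]

/-- Setup: three central involutions forming a group, permuted by `θ`. -/
structure Tri (Ω : Subgroup T) (θ : MulAut T) : Prop where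
  mem : ∀ x : T, x ∈ Ω ↔ x ^ 2 = 1
  central : Ω ≤ Subgroup.center T
  trans : ∀ u v : T, u ∈ Ω → u ≠ 1 → v ∈ Ω → v ≠ 1 → ∃ k : ℕ, (θ ^ k) u = v
  cube : ∀ u ∈ Ω, θ (θ (θ u)) = u
  card : Nat.card Ω = 4

theorem odd_pow_fixed (hT : IsPGroup 2 T) {ψ : MulAut T} {b : ℕ} (hψ : ψ ^ 3 ^ b = 1) {x w : T}
    (hx : ψ x = x * w) (hw : ψ w = w) : w = 1 := by
  have hit : ∀ j, (ψ ^ j) x = x * w ^ j := by
    intro j
    induction j with
    | zero => simp
    | succ j ih => rw [pow_succ', MulAut.mul_apply, ih, map_mul, hx, map_pow, hw, mul_assoc, ← pow_succ']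
  have h1 := hit (3 ^ b)
  rw [hψ, MulAut.one_apply, left_eq_mul] at h1
  obtain ⟨k, hk⟩ := hT w
  have := pow_gcd_eq_one.2 ⟨hk, h1⟩
  rwa [Nat.Coprime.pow k b (by norm_num : Nat.Coprime 2 3), pow_one] at this

theorem cube_eq_one (hT : IsPGroup 2 T) {Ω : Subgroup T} {θ : MulAut T} (hΩ : Tri Ω θ) {b : ℕ} (hθ : θ ^ 3 ^ b = 1) :
    θ ^ 3 = 1 := by
  classical
  set ψ := θ ^ 3 with hψdef
  have hψ : ψ ^ 3 ^ b = 1 := by rw [hψdef, ← pow_mul, mul_comm, pow_mul, hθ, one_pow]
  have hψθ : ∀ x, ψ (θ x) = θ (ψ x) := fun x => by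
    rw [← MulAut.mul_apply, ← MulAut.mul_apply, hψdef, ← pow_succ, ← pow_succ']
  have hψ3 : ∀ x, ψ x = θ (θ (θ x)) := fun x => by rw [hψdef, pow_succ, pow_succ, pow_one]; rfl
  suffices H : ∀ n, ∀ H : Subgroup T, Nat.card H = n → (∀ x ∈ H, θ x ∈ H) → ∀ x ∈ H, ψ x = x from
    MulEquiv.ext fun x => H _ ⊤ rfl (fun _ _ => Subgroup.mem_top _) x (Subgroup.mem_top _)
  intro n
  induction n using Nat.strong_induction_on with
  | _ n ih =>
  intro H hn hH
  subst hn
  by_contra hcon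
  simp only [not_forall] at hcon
  obtain ⟨x₀, hx₀, hx₀ne⟩ := hcon
  have hprop : ∀ K : Subgroup T, K ≤ H → (∀ x ∈ K, θ x ∈ K) → K ≠ H → ∀ x ∈ K, ψ x = x := fun K hKH hK hne =>
    ih _ (lt_of_le_of_ne (Subgroup.card_le_of_le hKH) fun e => hne (Subgroup.eq_of_le_of_card_ge hKH e.ge)) K rfl hK
  have hψH : ∀ x ∈ H, ψ x ∈ H := fun x hx => by rw [hψ3]; exact hH _ (hH _ (hH x hx))
  have hθN : ∀ j (x : T), x ∈ H → (θ ^ j) x ∈ H := by
    intro j
    induction j with
    | zero => intro x hx; exact hx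
    | succ j ihj => intro x hx; rw [pow_succ', MulAut.mul_apply]; exact hH _ (ihj x hx)
  -- squares are fixed
  set D := Subgroup.closure ((fun x => x ^ 2) '' (H : Set T)) with hD
  have hDH : D ≤ H := (Subgroup.closure_le _).2 (by rintro _ ⟨x, hx, rfl⟩; exact pow_mem hx 2)
  have hDθ : ∀ x ∈ D, θ x ∈ D := fun x hx => by
    induction hx using Subgroup.closure_induction with
    | mem x hx => obtain ⟨y, hy, rfl⟩ := hx; rw [map_pow]; exact Subgroup.subset_closure ⟨θ y, hH y hy, rfl⟩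
    | one => rw [map_one]; exact one_mem _
    | mul x y _ _ a b => rw [map_mul]; exact mul_mem a b
    | inv x _ a => rw [map_inv]; exact inv_mem a
  have hH0 : H ≠ ⊥ := fun e => hx₀ne (by rw [Subgroup.mem_bot.mp (show x₀ ∈ (⊥ : Subgroup T) by rw [← e]; exact hx₀), map_one])
  haveI : Nontrivial H := H.nontrivial_iff_ne_bot.2 hH0
  have hDne : D ≠ H := fun e => CfsgLib.PCore.closure_pow_sup_commutator_ne_top H (hT.to_subgroup H) (by
    refine eq_top_iff.2 fun y _ => Subgroup.mem_sup_left ?_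
    have hy : (y : T) ∈ D := by rw [e]; exact y.2
    suffices ∀ z ∈ D, ∀ hz : z ∈ H, (⟨z, hz⟩ : H) ∈ Subgroup.closure (Set.range fun x : H => x ^ 2) from this _ hy y.2
    intro z hz
    induction hz using Subgroup.closure_induction with
    | mem z hz => obtain ⟨w, hw, rfl⟩ := hz; exact fun _ => Subgroup.subset_closure ⟨⟨w, hw⟩, rfl⟩
    | one => exact fun _ => one_mem _
    | mul a c ha hc iha ihc =>
      intro hz
      exact (show (⟨a * c, hz⟩ : H) = ⟨a, hDH ha⟩ * ⟨c, hDH hc⟩ from rfl) ▸ mul_mem (iha _) (ihc _)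
    | inv a ha iha =>
      intro hz
      exact (show (⟨a⁻¹, hz⟩ : H) = (⟨a, hDH ha⟩ : H)⁻¹ from rfl) ▸ inv_mem (iha _))
  have hDfix := hprop D hDH hDθ hDne
  have hsqD : ∀ x ∈ H, x ^ 2 ∈ D := fun x hx => Subgroup.subset_closure ⟨x, hx, rfl⟩
  have hcomD : ∀ x ∈ H, ∀ y ∈ H, ⁅x, y⁆ ∈ D := fun x hx y hy => by
    rw [show ⁅x, y⁆ = x ^ 2 * (x⁻¹ * y) ^ 2 * (y ^ 2)⁻¹ by simp only [commutatorElement_def, pow_two]; group]
    exact mul_mem (mul_mem (hsqD x hx) (hsqD _ (mul_mem (inv_mem hx) hy))) (inv_mem (hsqD y hy))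
  -- `H` is generated by the displacements
  set W := Subgroup.closure ((fun x => x⁻¹ * ψ x) '' (H : Set T)) with hW
  have hWH : W ≤ H := (Subgroup.closure_le _).2 (by rintro _ ⟨x, hx, rfl⟩; exact mul_mem (inv_mem hx) (hψH x hx))
  have hWθ : ∀ x ∈ W, θ x ∈ W := fun x hx => by
    induction hx using Subgroup.closure_induction with
    | mem x hx =>
      obtain ⟨y, hy, rfl⟩ := hx
      rw [map_mul, map_inv, ← hψθ]; exact Subgroup.subset_closure ⟨θ y, hH y hy, rfl⟩
    | one => rw [map_one]; exact one_mem _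
    | mul x y _ _ a b => rw [map_mul]; exact mul_mem a b
    | inv x _ a => rw [map_inv]; exact inv_mem a
  have hWeq : W = H := by
    by_contra hne
    have hfix := hprop W hWH hWθ hne
    refine hx₀ne ?_
    have hw : ψ (x₀⁻¹ * ψ x₀) = x₀⁻¹ * ψ x₀ := hfix _ (Subgroup.subset_closure ⟨x₀, hx₀, rfl⟩)
    have := odd_pow_fixed hT hψ (x := x₀) (mul_inv_cancel_left x₀ (ψ x₀)).symm hw
    rw [inv_mul_eq_one] at this
    exact this.symm
  -- fixed points are central
  have hcentral : ∀ c ∈ H, ψ c = c → ∀ y ∈ H, y * c = c * y := by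
    intro c hc hcfix y hy
    rw [← hWeq] at hy
    induction hy using Subgroup.closure_induction with
    | mem y hy =>
      obtain ⟨x, hx, rfl⟩ := hy
      have e : ψ ⁅x, c⁆ = ⁅x, c⁆ := hDfix _ (hcomD x hx c hc)
      rw [map_commutatorElement, hcfix] at e
      obtain ⟨w, hw⟩ : ∃ w, ψ x = x * w := ⟨x⁻¹ * ψ x, (mul_inv_cancel_left _ _).symm⟩
      show x⁻¹ * ψ x * c = c * (x⁻¹ * ψ x)
      rw [hw] at e ⊢
      rw [inv_mul_cancel_left]
      simp only [commutatorElement_def, _root_.mul_inv_rev] at e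
      have e' : w * c * w⁻¹ = c := by
        have := congrArg (fun t => x⁻¹ * (t * c) * x) e
        simpa [mul_assoc] using this
      exact mul_inv_eq_iff_eq_mul.mp e'
    | one => rw [one_mul, mul_one]
    | mul a d _ _ ha hd => rw [mul_assoc, hd, ← mul_assoc, ha, mul_assoc]
    | inv a _ ha => exact (Commute.inv_left (show Commute a c from ha)).eq
  have hsqc : ∀ x ∈ H, ∀ y ∈ H, y * x ^ 2 = x ^ 2 * y := fun x hx =>
    hcentral _ (pow_mem hx 2) (hDfix _ (hsqD x hx))
  have hcomc : ∀ x ∈ H, ∀ y ∈ H, ∀ z ∈ H, z * ⁅x, y⁆ = ⁅x, y⁆ * z := fun x hx y hy =>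
    hcentral _ (hDH (hcomD x hx y hy)) (hDfix _ (hcomD x hx y hy))
  have h4mul : ∀ x ∈ H, ∀ y ∈ H, (x * y) ^ 4 = x ^ 4 * y ^ 4 := by
    intro x hx y hy
    set c := ⁅y, x⁆ with hc
    have hcH : c ∈ H := hDH (hcomD y hy x hx)
    have e : y * x = c * x * y := by rw [hc, commutatorElement_def]; group
    have h2 : (x * y) ^ 2 = c * (x ^ 2 * y ^ 2) := by
      calc (x * y) ^ 2 = x * (y * x) * y := by rw [pow_two]; group
        _ = x * c * (x * (y * y)) := by rw [e]; group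
        _ = c * x * (x * (y * y)) := by rw [hcomc y hy x hx x hx]
        _ = c * (x ^ 2 * y ^ 2) := by rw [pow_two, pow_two]; group
    have hc2 : c * c = 1 := by
      have e1 : ⁅y ^ 2, x⁆ = 1 := commutatorElement_eq_one_iff_mul_comm.mpr (hsqc y hy x hx).symm
      rw [show ⁅y ^ 2, x⁆ = y * c * y⁻¹ * c by rw [hc, pow_two]; simp only [commutatorElement_def]; group,
        hcomc y hy x hx y hy, mul_inv_cancel_right] at e1
      exact e1
    have hco : Commute (x ^ 2) (y ^ 2) := hsqc y hy _ (pow_mem hx 2)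
    have hcc : Commute c (x ^ 2 * y ^ 2) := (hcomc y hy x hx _ (mul_mem (pow_mem hx 2) (pow_mem hy 2))).symm
    rw [show (4 : ℕ) = 2 * 2 from rfl, pow_mul, pow_mul, pow_mul, h2, hcc.mul_pow, hco.mul_pow, pow_two c, hc2, one_mul]
  have h4 : ∀ x ∈ H, x ^ 4 = 1 := by
    intro x hx
    have hx' : x ∈ W := hWeq ▸ hx
    suffices x ^ 4 = 1 ∧ x ∈ H from this.1
    induction hx' using Subgroup.closure_induction with
    | mem y hy =>
      obtain ⟨z, hz, rfl⟩ := hy
      refine ⟨?_, mul_mem (inv_mem hz) (hψH z hz)⟩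
      show (z⁻¹ * ψ z) ^ 4 = 1
      have e : ψ (z ^ 4) = z ^ 4 := by
        rw [show z ^ 4 = (z ^ 2) ^ 2 by rw [← pow_mul]]
        exact hDfix _ (pow_mem (hsqD z hz) 2)
      rw [h4mul _ (inv_mem hz) _ (hψH z hz), ← map_pow, e, inv_pow, inv_mul_cancel]
    | one => exact ⟨one_pow 4, one_mem _⟩
    | mul a d ha hd iha ihd =>
      exact ⟨by rw [h4mul a (hWH ha) d (hWH hd), (iha (hWH ha)).1, (ihd (hWH hd)).1, one_mul], mul_mem (hWH ha) (hWH hd)⟩
    | inv a ha iha => exact ⟨by rw [inv_pow, (iha (hWH ha)).1, inv_one], inv_mem (hWH ha)⟩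
  -- all involutions lie in `H`
  have hΩH : Ω ≤ H := by
    obtain ⟨u, hu, hu1⟩ : ∃ u ∈ H, u ∈ Ω ∧ u ≠ 1 := by
      have h1 : x₀ ≠ 1 := fun e => hx₀ne (by rw [e, map_one])
      by_cases h2 : x₀ ^ 2 = 1
      · exact ⟨x₀, hx₀, (hΩ.mem _).2 h2, h1⟩
      · exact ⟨x₀ ^ 2, pow_mem hx₀ 2, (hΩ.mem _).2 (by rw [← pow_mul]; exact h4 _ hx₀), h2⟩
    intro v hv
    by_cases hv1 : v = 1
    · rw [hv1]; exact one_mem _
    · obtain ⟨k, rfl⟩ := hΩ.trans u v hu1.1 hu1.2 hv hv1
      exact hθN k u hu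
  let Z := Ω.subgroupOf H
  have hZmem : ∀ z : H, z ∈ Z ↔ (z : T) ^ 2 = 1 := fun z => hΩ.mem _
  haveI : Z.Normal := ⟨fun z hz g => by
    have : (g : T) * z = z * g := Subgroup.mem_center_iff.mp (hΩ.central hz) g
    rw [show g * z * g⁻¹ = z from Subtype.ext (by simp [this])]; exact hz⟩
  obtain ⟨ι⟩ : Nonempty (Z ≃* Multiplicative A2) := equiv_A2 (fun z => Subtype.ext (Subtype.ext (by
    simpa using (hZmem z.1).1 z.2))) (by rw [Nat.card_congr (Subgroup.subgroupOfEquivOfLe hΩH).toEquiv, hΩ.card])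
  obtain ⟨Qc, Bc, -, -, -, -, -, -, -, -, hdvd⟩ := quotient_data Z
    (fun z hz => Subgroup.mem_center_iff.mpr fun g => Subtype.ext (Subgroup.mem_center_iff.mp (hΩ.central hz) g))
    (fun z hz => Subtype.ext ((hZmem z).1 hz))
    (fun g => (hZmem _).2 (by rw [Subgroup.coe_pow, ← pow_mul]; exact h4 _ g.2))
    (fun g hg => (hZmem g).2 (congrArg Subtype.val hg)) ι
  -- the induced permutation
  let f : H → H := fun x => ⟨θ x, hH _ x.2⟩
  let f' : H ≃* H :=
    MulEquiv.ofBijective (MonoidHom.mk' f fun x y => Subtype.ext (map_mul θ (x : T) y))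
      (Finite.injective_iff_bijective.1 fun x y e => Subtype.ext (θ.injective (congrArg Subtype.val e)))
  have hZf : Z.map f'.toMonoidHom = Z := by
    refine Subgroup.eq_of_le_of_card_ge ?_ (by rw [Nat.card_congr (Z.equivMapOfInjective f'.toMonoidHom f'.injective).toEquiv])
    rintro _ ⟨z, hz, rfl⟩
    rw [hZmem]
    show (θ z) ^ 2 = 1
    rw [← map_pow, (hZmem z).1 hz, map_one]
  let τ : H ⧸ Z ≃* H ⧸ Z := QuotientGroup.congr Z Z f' hZf
  have hτmk : ∀ x : H, τ x = (f' x : H ⧸ Z) := fun x => rfl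
  have hτit : ∀ j (x : H), (τ.toEquiv ^ j : Equiv.Perm (H ⧸ Z)) x = ((⟨(θ ^ j) x, hθN j x x.2⟩ : H) : H ⧸ Z) := by
    intro j
    induction j with
    | zero => intro x; rfl
    | succ j ihj =>
      intro x
      rw [pow_succ', Equiv.Perm.mul_apply, ihj]
      show τ _ = _
      rw [hτmk]
      congr 1
      exact Subtype.ext (by show θ ((θ ^ j) x) = (θ ^ (j + 1)) x; rw [pow_succ', MulAut.mul_apply])
  -- fixed points of the cube
  let Fx : Subgroup (H ⧸ Z) :=
    { carrier := {v | τ (τ (τ v)) = v}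
      one_mem' := by simp
      mul_mem' := fun {a b} ha hb => by show τ (τ (τ (a * b))) = a * b; rw [map_mul, map_mul, map_mul, ha, hb]
      inv_mem' := fun {a} ha => by show τ (τ (τ a⁻¹)) = a⁻¹; rw [map_inv, map_inv, map_inv, ha] }
  have hFne : Fx ≠ ⊤ := by
    intro e
    have hv : ((⟨x₀, hx₀⟩ : H) : H ⧸ Z) ∈ Fx := e ▸ Subgroup.mem_top _
    change τ (τ (τ _)) = _ at hv
    rw [hτmk, hτmk, hτmk, QuotientGroup.eq, hZmem] at hv
    have hv' : ((θ (θ (θ x₀)))⁻¹ * x₀) ^ 2 = 1 := hv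
    set w := x₀⁻¹ * ψ x₀ with hw
    have hwΩ : w ∈ Ω := by
      rw [hΩ.mem, hw, hψ3]
      rw [show x₀⁻¹ * θ (θ (θ x₀)) = ((θ (θ (θ x₀)))⁻¹ * x₀)⁻¹ by group, inv_pow, hv', inv_one]
    have := odd_pow_fixed hT hψ (x := x₀) (w := w) (by rw [hw, mul_inv_cancel_left]) (by rw [hψ3]; exact hΩ.cube w hwΩ)
    rw [hw, inv_mul_eq_one] at this
    exact hx₀ne this.symm
  let X := {v : H ⧸ Z // v ∉ Fx}
  let σ : Equiv.Perm X := Equiv.Perm.subtypePerm (τ.toEquiv : Equiv.Perm (H ⧸ Z)) fun v => by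
    show τ (τ (τ (τ v))) ≠ τ v ↔ τ (τ (τ v)) ≠ v
    exact not_congr τ.injective.eq_iff
  have h9 : 9 ∣ Nat.card X := by
    refine nine_dvd_card σ (b := b) (Equiv.ext fun v => Subtype.ext ?_) fun v e => v.2 (congrArg Subtype.val e)
    rw [Equiv.Perm.subtypePerm_pow]
    obtain ⟨x, hx⟩ := QuotientGroup.mk_surjective v.1
    show (τ.toEquiv ^ 3 ^ b : Equiv.Perm (H ⧸ Z)) v.1 = v.1
    rw [← hx, hτit]
    congr 1
    exact Subtype.ext (by show (θ ^ 3 ^ b) x = _; rw [hθ]; rfl)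
  haveI : Fintype (H ⧸ Z) := Fintype.ofFinite _
  have hXc : Nat.card X = Nat.card (H ⧸ Z) - Nat.card Fx := by
    rw [Nat.card_eq_fintype_card, Fintype.card_subtype_compl, Nat.card_eq_fintype_card, Nat.card_eq_fintype_card]
  have hFd : Nat.card Fx ∣ Nat.card (H ⧸ Z) := Subgroup.card_subgroup_dvd_card Fx
  have hFlt : Nat.card Fx < Nat.card (H ⧸ Z) := by
    by_contra hge
    exact hFne (Subgroup.eq_top_of_le_card _ (not_lt.mp hge))
  rw [hXc] at h9
  have hle := Nat.le_of_dvd (by norm_num) hdvd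
  have hpos : 0 < Nat.card Fx := Nat.card_pos
  generalize Nat.card Fx = a at *
  generalize Nat.card (H ⧸ Z) = c at *
  interval_cases c <;> interval_cases a <;> omega

end Cube

/-- A Suzuki 2-group with centre of order four has the model square map. -/
theorem model_of (P : Type*) [Group P] [Finite P] (D : SData P) (hZ : Nat.card (Subgroup.center P) = 4) :
    ∃ (π : P →* Multiplicative A4) (ι : Subgroup.center P ≃* Multiplicative A2),
      Function.Surjective π ∧ π.ker = Subgroup.center P ∧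
      ∀ g, Multiplicative.toAdd (ι ⟨g ^ 2, D.sq_mem_center g⟩) = q0 (Multiplicative.toAdd (π g)) := by
  set Z := Subgroup.center P
  have hcK : Nat.card D.K = 3 := by
    have := D.card_omega
    rw [D.omega_eq_center, hZ] at this
    omega
  obtain ⟨k, hk, hk1⟩ := D.exists_ne_one
  have hk3 : k ^ 3 = 1 := by
    have := pow_card_eq_one' (x := (⟨k, hk⟩ : D.K))
    rw [hcK] at this
    exact congrArg Subtype.val this
  have hk3' : ∀ x, k (k (k x)) = x := fun x => by
    have := DFunLike.congr_fun hk3 x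
    rw [pow_succ, pow_succ, pow_one] at this
    exact this
  have hz2 : ∀ z ∈ Z, z ^ 2 = 1 := fun z hz => D.center_sq hz
  have hinvZ : D.Inv Z := D.inv_center
  -- coordinates on the centre compatible with `k`
  obtain ⟨u, hu, hu2⟩ := D.exists_involution
  have huZ : u ∈ Z := D.mem_center_of_sq hu2
  have hku : k u ≠ u := fun e => hk1 (D.eq_one_of_fixed hk hu e)
  have hkuZ : k u ∈ Z := hinvZ k hk u huZ
  let ζ : A2 → Z := fun a => ⟨u, huZ⟩ ^ (a 0).val * ⟨k u, hkuZ⟩ ^ (a 1).val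
  have hζhom : ∀ a c, ζ (a + c) = ζ a * ζ c := by
    intro a c
    have hp : ∀ (y : Z) (i j : ZMod 2), y ^ (i + j).val = y ^ i.val * y ^ j.val := fun y i j => by
      rw [ZMod.val_add, ← pow_add, ← pow_mod_orderOf, ← pow_mod_orderOf y (i.val + j.val),
        Nat.mod_mod_of_dvd _ (orderOf_dvd_of_pow_eq_one (Subtype.ext (hz2 _ y.2)))]
    show _ ^ (a 0 + c 0).val * _ ^ (a 1 + c 1).val = _
    rw [hp, hp]
    apply Subtype.ext
    simp only [ζ, Subgroup.coe_mul, Subgroup.coe_pow]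
    have := Subgroup.mem_center_iff.mp (pow_mem huZ (c 0).val) ((k u) ^ (a 1).val)
    rw [mul_assoc, mul_assoc]
    congr 1
    rw [← mul_assoc, ← mul_assoc, this]
  have hζinj : Function.Injective ζ := by
    intro a c e
    have e' : ζ (a + c) = 1 := by
      rw [hζhom, e, ← hζhom, add_self2]
      exact Subtype.ext (by simp [ζ])
    have : a + c = 0 := by
      generalize a + c = d at e'
      have h01 : ∀ i : ZMod 2, i = 0 ∨ i = 1 := by decide
      have e2 := congrArg Subtype.val e'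
      simp only [ζ, Subgroup.coe_mul, Subgroup.coe_pow, Subgroup.coe_one] at e2
      funext i
      rcases h01 (d 0) with h0 | h0 <;> rcases h01 (d 1) with h1 | h1 <;> rw [h0, h1] at e2
      · fin_cases i <;> simp [h0, h1]
      · exact absurd (by simpa [ZMod.val_one] using e2) (fun h => hu (k.map_eq_one_iff.mp h))
      · exact absurd (by simpa [ZMod.val_one] using e2) hu
      · simp only [ZMod.val_one, pow_one] at e2
        refine absurd ?_ hku
        rw [eq_inv_of_mul_eq_one_right e2, inv_eq_of_mul_eq_one_right (by rw [← pow_two]; exact hu2)]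
    funext i
    exact CharTwo.add_eq_zero.mp (congrFun this i)
  have hζbij : Function.Bijective ζ := hζinj.bijective_of_nat_card_le (by rw [hZ]; simp)
  let ι : Z ≃* Multiplicative A2 :=
    (MulEquiv.ofBijective (MonoidHom.mk' (fun a : Multiplicative A2 => ζ (Multiplicative.toAdd a))
      fun a c => hζhom _ _) (hζbij.comp Multiplicative.toAdd.bijective)).symm
  have hιk : ∀ (z : P) (hz : z ∈ Z), Multiplicative.toAdd (ι ⟨k z, hinvZ k hk z hz⟩) =
      K2 (Multiplicative.toAdd (ι ⟨z, hz⟩)) := by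
    intro z hz
    obtain ⟨a, ha⟩ := hζbij.2 ⟨z, hz⟩
    have hι : ∀ c, ι (ζ c) = Multiplicative.ofAdd c := fun c => (MulEquiv.symm_apply_eq _).2 rfl
    have hkk : k (k u) = u * k u := by
      have hkk1 : k (k u) ≠ u := fun e => hku (by conv_rhs => rw [← hk3' u, e])
      have hkk2 : k (k u) ≠ k u := fun e => hku (k.injective e)
      have hkk0 : k (k u) ≠ 1 := fun e => hu (k.map_eq_one_iff.mp (k.map_eq_one_iff.mp e))
      obtain ⟨c, hc⟩ := hζbij.2 ⟨k (k u), hinvZ k hk _ hkuZ⟩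
      have e2 := congrArg Subtype.val hc
      simp only [ζ, Subgroup.coe_mul, Subgroup.coe_pow] at e2
      have h01 : ∀ i : ZMod 2, i = 0 ∨ i = 1 := by decide
      rcases h01 (c 0) with h0 | h0 <;> rcases h01 (c 1) with h1 | h1 <;> rw [h0, h1] at e2 <;>
        simp [ZMod.val_one] at e2
      · exact absurd e2.symm hkk0
      · exact absurd e2.symm hku
      · exact absurd e2.symm hkk1
      · exact e2.symm
    have ez : (⟨k z, hinvZ k hk z hz⟩ : Z) = ζ (K2 a) := by
      apply Subtype.ext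
      show k z = _
      rw [show z = (ζ a : P) from (congrArg Subtype.val ha).symm]
      have h01 : ∀ i : ZMod 2, i = 0 ∨ i = 1 := by decide
      have huu : u * u = 1 := by rw [← pow_two]; exact hu2
      have hcu : k u * u = u * k u := (Subgroup.mem_center_iff.mp huZ (k u))
      rcases h01 (a 0) with h0 | h0 <;> rcases h01 (a 1) with h1 | h1 <;>
        simp [ζ, K2, h0, h1, ZMod.val_one, hkk, show (1 : ZMod 2) + 1 = 0 from rfl]
      rw [← mul_assoc, hcu, mul_assoc, ← map_mul, ← pow_two, hu2] ; simp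
    rw [ez, hι, show (⟨z, hz⟩ : Z) = ζ a from ha.symm, hι]
    rfl
  obtain ⟨Qc, Bc, hQd, hQ, hBl, hBr, hani, hcommV, hsqV, hBcomm, hdvd⟩ :=
    quotient_data Z le_rfl hz2 D.sq_mem_center (fun g hg => D.mem_center_of_sq hg) ι
  -- the action on the quotient
  have hmapZ : Z.map k.toMonoidHom = Z := by
    refine Subgroup.eq_of_le_of_card_ge ?_ (by rw [Nat.card_congr (Z.equivMapOfInjective k.toMonoidHom k.injective).toEquiv])
    rintro _ ⟨z, hz, rfl⟩
    exact hinvZ k hk z hz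
  let τ : P ⧸ Z ≃* P ⧸ Z := QuotientGroup.congr Z Z k hmapZ
  have hτQ : ∀ v, Qc (τ v) = K2 (Qc v) := by
    intro v
    obtain ⟨g, rfl⟩ := QuotientGroup.mk_surjective v
    rw [show τ g = ((k g : P) : P ⧸ Z) from rfl, hQd, hQd, ← hιk]
    congr 3
    exact (map_pow k g 2).symm
  have hτ3 : ∀ v, τ (τ (τ v)) = v := by
    intro v
    obtain ⟨g, rfl⟩ := QuotientGroup.mk_surjective v
    show ((k (k (k g)) : P) : P ⧸ Z) = g
    rw [hk3']
  have hτfix : ∀ v, τ v = v → v = 1 := by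
    intro v e
    obtain ⟨g, rfl⟩ := QuotientGroup.mk_surjective v
    have e' : (k g)⁻¹ * g ∈ Z := QuotientGroup.eq.mp e
    have := inv_mem e'
    rw [_root_.mul_inv_rev, inv_inv] at this
    exact (QuotientGroup.eq_one_iff g).mpr (D.fpf hinvZ hk hk1 this)
  have hK2add : ∀ a c, K2 (a + c) = K2 a + K2 c := by decide +kernel
  have hsum : ∀ v, v * τ v * τ (τ v) = 1 := fun v => hτfix _ (by
    rw [map_mul, map_mul, hτ3, hcommV, mul_assoc])
  have hBk : ∀ v w, Bc (τ v) (τ w) = K2 (Bc v w) := by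
    intro v w
    have e := hτQ (v * w)
    rw [map_mul, hQ, hQ, hτQ, hτQ, hK2add, hK2add] at e
    exact add_left_cancel e
  have hBz : ∀ v, Bc v v = 0 := by
    intro v
    have e := hQ v v
    rw [hsqV, add_self2, zero_add] at e
    rw [← e, ← (QuotientGroup.mk_one Z), hQd]
    show Multiplicative.toAdd (ι ⟨(1 : P) ^ 2, _⟩) = 0
    rw [show (⟨(1 : P) ^ 2, D.sq_mem_center 1⟩ : Z) = 1 from Subtype.ext (one_pow 2), map_one]; rfl
  have hB1r : ∀ v, Bc v 1 = 0 := fun v => by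
    have e := hBr v 1 1; rw [mul_one] at e; exact left_eq_add.mp e
  have hB1l : ∀ v, Bc 1 v = 0 := fun v => by
    have e := hBl 1 1 v; rw [mul_one] at e; exact left_eq_add.mp e
  have hbkey : ∀ B X1 X2 : A2, B + X1 + X2 = 0 → B + K2 X2 + K2 (K2 X1) = 0 → X1 = K2 (K2 B) ∧ X2 = K2 B := by
    decide +kernel
  have hBsemi : ∀ v w, Bc v (τ w) = K2 (K2 (Bc v w)) ∧ Bc v (τ (τ w)) = K2 (Bc v w) ∧ Bc (τ v) w = K2 (K2 (Bc v w)) := by
    intro v w
    have e1 : Bc v w + Bc v (τ w) + Bc v (τ (τ w)) = 0 := by rw [← hBr, ← hBr, hsum, hB1r]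
    have e2 : Bc v w + K2 (Bc v (τ (τ w))) + K2 (K2 (Bc v (τ w))) = 0 := by
      rw [← hBk, hτ3, ← hBk, ← hBk, hτ3, ← hBl, ← hBl, hsum, hB1l]
    obtain ⟨h1, h2⟩ := hbkey _ _ _ e1 e2
    refine ⟨h1, h2, ?_⟩
    have := hBk v (τ (τ w))
    rw [hτ3, h2] at this
    exact this
  -- normalised generators
  obtain ⟨x, y, hxy⟩ := D.nonabelian
  obtain ⟨v1, hv1⟩ : ∃ v : P ⧸ Z, Qc v = ![1, 0] := by
    have hx : (x : P ⧸ Z) ≠ 1 := fun e => hxy (Subgroup.mem_center_iff.mp ((QuotientGroup.eq_one_iff x).mp e) y).symm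
    rcases K2_orbit (Qc x) (fun e => hx (hani _ e)) with h | h | h
    · exact ⟨_, h⟩
    · exact ⟨τ x, by rw [hτQ, h]⟩
    · exact ⟨τ (τ x), by rw [hτQ, hτQ, h]⟩
  obtain ⟨v2, hv2⟩ : ∃ v, Bc v1 v ≠ 0 := by
    by_contra hall
    simp only [not_exists, not_not] at hall
    have hall' : ∀ v, Bc v v1 = 0 := fun v => by
      have e1 := hQ v v1
      have e2 := hQ v1 v
      rw [hcommV, e2, hall, add_zero, add_comm (Qc v1)] at e1
      exact left_eq_add.mp e1
    -- then every vector is a multiple of `v1`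
    have hmem : ∀ v, v = 1 ∨ v = v1 ∨ v = τ v1 ∨ v = τ (τ v1) := by
      intro v
      by_cases hv : v = 1
      · exact Or.inl hv
      right
      have key : ∀ w, Bc v w = 0 → Qc v = Qc w → v = w := by
        intro w hB hq
        have e : Qc (v * w) = 0 := by rw [hQ, hB, hq, add_zero, add_self2]
        have e' := hani _ e
        calc v = v * (w * w) := by rw [hsqV, mul_one]
          _ = w := by rw [← mul_assoc, e', one_mul]
      have k0 : K2 (0 : A2) = 0 := by decide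
      rcases K2_orbit (Qc v) (fun e => hv (hani _ e)) with h | h | h
      · exact Or.inl (key _ (hall' v) (h.trans hv1.symm))
      · refine Or.inr (Or.inr (key _ (by rw [(hBsemi v v1).2.1, hall', k0]) ?_))
        have : ∀ a : A2, K2 a = ![1, 0] → a = K2 (K2 ![1, 0]) := by decide +kernel
        rw [hτQ, hτQ, hv1]; exact this _ h
      · refine Or.inr (Or.inl (key _ (by rw [(hBsemi v v1).1, hall', k0, k0]) ?_))
        have : ∀ a : A2, K2 (K2 a) = ![1, 0] → a = K2 ![1, 0] := by decide +kernel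
        rw [hτQ, hv1]; exact this _ h
    apply hxy
    refine hBcomm x y ?_
    have k0 : K2 (0 : A2) = 0 := by decide
    have h11 := hBz v1
    rcases hmem (x : P ⧸ Z) with hx | hx | hx | hx <;> rcases hmem (y : P ⧸ Z) with hy | hy | hy | hy <;>
      rw [hx, hy] <;>
      simp [hB1l, hB1r, h11, k0, (hBsemi v1 v1).1, (hBsemi v1 v1).2.1, (hBsemi v1 v1).2.2,
        (hBsemi (τ v1) v1).1, (hBsemi (τ v1) v1).2.1, (hBsemi (τ v1) v1).2.2,
        (hBsemi (τ (τ v1)) v1).1, (hBsemi (τ (τ v1)) v1).2.1]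
  obtain ⟨v2, hv2⟩ : ∃ v, Bc v1 v = ![1, 0] := by
    rcases K2_orbit _ hv2 with h | h | h
    · exact ⟨_, h⟩
    · exact ⟨τ (τ v2), by rw [(hBsemi v1 v2).2.1, h]⟩
    · exact ⟨τ v2, by rw [(hBsemi v1 v2).1, h]⟩
  obtain ⟨v2, hv2, hv2q⟩ : ∃ v, Bc v1 v = ![1, 0] ∧ Qc v = ![0, 1] := by
    have key : ∀ c : A2, c = ![0, 1] ∨ c = ![1, 1] ∨ c = 0 ∨ c = ![1, 0] := by decide +kernel
    rcases key (Qc v2) with h | h | h | h
    · exact ⟨v2, hv2, h⟩
    · refine ⟨v2 * τ v1, ?_, ?_⟩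
      · rw [hBr, hv2, (hBsemi v1 v1).1, hBz]; decide
      · have e : Bc v2 v1 = ![1, 0] := by
          have e1 := hQ v2 v1
          have e2 := hQ v1 v2
          rw [hcommV, e2, add_comm (Qc v1)] at e1
          rw [← add_left_cancel e1, hv2]
        rw [hQ, hτQ, (hBsemi v2 v1).1, h, hv1, e]; decide
    · exfalso
      have := hani _ h
      rw [this, hB1r] at hv2
      exact absurd hv2 (by decide)
    · exfalso
      have e : Bc v2 v1 = ![1, 0] := by
        have e1 := hQ v2 v1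
        have e2 := hQ v1 v2
        rw [hcommV, e2, add_comm (Qc v1)] at e1
        rw [← add_left_cancel e1, hv2]
      have e3 : Qc (v2 * τ v1) = 0 := by rw [hQ, hτQ, (hBsemi v2 v1).1, h, hv1, e]; decide
      have e4 := hani _ e3
      have hb := congrArg (Bc v1) e4
      rw [hBr, hB1r, hv2, (hBsemi v1 v1).1, hBz] at hb
      exact absurd hb (by decide)
  -- the coordinate map
  have hB21 : Bc v2 v1 = ![1, 0] := by
    have e1 := hQ v2 v1
    have e2 := hQ v1 v2
    rw [hcommV, e2, add_comm (Qc v1)] at e1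
    rw [← add_left_cancel e1, hv2]
  letI : CommGroup (P ⧸ Z) := { (inferInstance : Group (P ⧸ Z)) with mul_comm := hcommV }
  let g4 : Fin 4 → P ⧸ Z := ![v1, τ v1, v2, τ v2]
  let μ : A4 → P ⧸ Z := fun a => g4 0 ^ (a 0).val * g4 1 ^ (a 1).val * g4 2 ^ (a 2).val * g4 3 ^ (a 3).val
  have hp : ∀ (w : P ⧸ Z) (i j : ZMod 2), w ^ (i + j).val = w ^ i.val * w ^ j.val := fun w i j => by
    rw [ZMod.val_add, ← pow_add, ← pow_mod_orderOf, ← pow_mod_orderOf w (i.val + j.val),
      Nat.mod_mod_of_dvd _ (orderOf_dvd_of_pow_eq_one (by rw [pow_two]; exact hsqV w))]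
  have hμ : ∀ a c, μ (a + c) = μ a * μ c := fun a c => by
    have hlc : ∀ p r s : P ⧸ Z, p * (r * s) = r * (p * s) := fun p r s => by rw [← mul_assoc, hcommV p r, mul_assoc]
    simp only [μ, Pi.add_apply, hp, mul_assoc, hlc]
  have hQ1 : Qc 1 = 0 := by
    have e := hQ 1 1
    rw [mul_one, hB1l, add_zero] at e
    rw [e, add_self2]
  have hμQ : ∀ a, Qc (μ a) = q0 a := by
    intro a
    have h01 : ∀ i : ZMod 2, i = 0 ∨ i = 1 := by decide
    have ht1 : Qc (τ v1) = K2 ![1, 0] := by rw [hτQ, hv1]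
    have ht2 : Qc (τ v2) = K2 ![0, 1] := by rw [hτQ, hv2q]
    have c11 : Bc v1 (τ v1) = K2 (K2 0) := by rw [(hBsemi v1 v1).1, hBz]
    have c12 : Bc v1 (τ v2) = K2 (K2 ![1, 0]) := by rw [(hBsemi v1 v2).1, hv2]
    have c21 : Bc (τ v1) v2 = K2 (K2 ![1, 0]) := by rw [(hBsemi v1 v2).2.2, hv2]
    have c22 : Bc (τ v1) (τ v2) = K2 ![1, 0] := by rw [hBk, hv2]
    have c33 : Bc v2 (τ v2) = K2 (K2 0) := by rw [(hBsemi v2 v2).1, hBz]
    obtain ⟨a0, e0⟩ : ∃ z, a 0 = z := ⟨_, rfl⟩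
    obtain ⟨a1, e1⟩ : ∃ z, a 1 = z := ⟨_, rfl⟩
    obtain ⟨a2, e2⟩ : ∃ z, a 2 = z := ⟨_, rfl⟩
    obtain ⟨a3, e3⟩ : ∃ z, a 3 = z := ⟨_, rfl⟩
    rcases h01 a0 with rfl | rfl <;> rcases h01 a1 with rfl | rfl <;> rcases h01 a2 with rfl | rfl <;>
      rcases h01 a3 with rfl | rfl <;>
      (simp [μ, g4, q0, e0, e1, e2, e3, ZMod.val_one, hQ, hBl, hQ1, hv1, hv2q, hv2, ht1, ht2, c11, c12, c21, c22, c33]) <;>
      decide
  have hμinj : Function.Injective μ := by
    intro a c e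
    have e' : μ (a + c) = 1 := by rw [hμ, e, hsqV]
    have := q0_aniso (a + c) (by rw [← hμQ, e', hQ1])
    funext i
    exact CharTwo.add_eq_zero.mp (congrFun this i)
  have hμbij : Function.Bijective μ :=
    hμinj.bijective_of_nat_card_le (le_trans (Nat.le_of_dvd (by norm_num) hdvd) (by simp))
  let e4 : Multiplicative A4 ≃* P ⧸ Z :=
    MulEquiv.ofBijective (MonoidHom.mk' (fun a : Multiplicative A4 => μ (Multiplicative.toAdd a)) fun a c => hμ _ _)
      (hμbij.comp Multiplicative.toAdd.bijective)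
  refine ⟨e4.symm.toMonoidHom.comp (QuotientGroup.mk' Z), ι, e4.symm.surjective.comp (QuotientGroup.mk'_surjective Z), ?_, fun g => ?_⟩
  · ext g
    rw [MonoidHom.mem_ker]
    exact e4.symm.map_eq_one_iff.trans (QuotientGroup.eq_one_iff g)
  · rw [← hQd g, ← hμQ]
    exact congrArg Qc (e4.apply_symm_apply (g : P ⧸ Z)).symm

/-- The third involution is the product of the other two. -/
theorem hΩthird {T : Type*} [Group T] [Finite T] {Ω : Subgroup T} {θ : MulAut T} (hΩ : Tri Ω θ) {u : T}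
    (hu : u ∈ Ω) (hu1 : u ≠ 1) (hne : θ u ≠ u) : θ (θ u) = u * θ u := by
  have hΩθ : ∀ v ∈ Ω, θ v ∈ Ω := fun v hv => by rw [hΩ.mem, ← map_pow, (hΩ.mem v).1 hv, map_one]
  have hv := hΩθ u hu
  have hw := mul_mem hu hv
  have hv1 : θ u ≠ 1 := fun e => hu1 (θ.map_eq_one_iff.mp e)
  have hw1 : u * θ u ≠ 1 := fun e => hne (by
    rw [eq_inv_of_mul_eq_one_right e, inv_eq_of_mul_eq_one_right (by rw [← pow_two]; exact (hΩ.mem u).1 hu)])
  obtain ⟨j, hj⟩ := hΩ.trans u _ hu hu1 hw hw1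
  have h3 : ∀ j, (θ ^ j) u = u ∨ (θ ^ j) u = θ u ∨ (θ ^ j) u = θ (θ u) := by
    intro j
    induction j with
    | zero => exact Or.inl rfl
    | succ j ihj =>
      rw [pow_succ', MulAut.mul_apply]
      rcases ihj with e | e | e <;> rw [e]
      · exact Or.inr (Or.inl rfl)
      · exact Or.inr (Or.inr rfl)
      · exact Or.inl (hΩ.cube u hu)
  rcases h3 j with e | e | e
  · exact absurd (hj.symm.trans e) (fun h => hv1 (mul_eq_left.mp h))
  · exact absurd (hj.symm.trans e) (fun h => hu1 (mul_eq_right.mp h))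
  · exact e.symm.trans hj

/-- An abelian 2-group with three involutions transitively permuted is homocyclic. -/
theorem homocyclic {T : Type*} [CommGroup T] [Finite T] (hT : IsPGroup 2 T) {Ω : Subgroup T} {θ : MulAut T}
    (hΩ : Tri Ω θ) :
    ∃ n : ℕ, 1 ≤ n ∧ Nonempty (T ≃* Multiplicative (ZMod (2 ^ n) × ZMod (2 ^ n))) := by
  classical
  obtain ⟨n, hn⟩ : ∃ n, Monoid.exponent T = 2 ^ n := by
    obtain ⟨k, hk⟩ := IsPGroup.iff_card.mp hT
    obtain ⟨i, -, hi⟩ := (Nat.dvd_prime_pow Nat.prime_two).mp (hk ▸ Group.exponent_dvd_nat_card : Monoid.exponent T ∣ 2 ^ k)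
    exact ⟨i, hi⟩
  have hpow : ∀ x : T, x ^ 2 ^ n = 1 := fun x => hn ▸ Monoid.pow_exponent_eq_one x
  have hn1 : 1 ≤ n := by
    by_contra h
    have hT1 : ∀ x : T, x = 1 := fun x => by
      have := hpow x; rwa [show n = 0 by omega, pow_zero, pow_one] at this
    haveI : Subsingleton T := ⟨fun a b => by rw [hT1 a, hT1 b]⟩
    have := hΩ.card
    rw [Nat.card_of_subsingleton (1 : Ω)] at this
    omega
  obtain ⟨m, rfl⟩ : ∃ m, n = m + 1 := ⟨n - 1, by omega⟩
  obtain ⟨a, ha⟩ : ∃ a : T, a ^ 2 ^ m ≠ 1 := by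
    by_contra hall
    simp only [not_exists, not_not] at hall
    have := Monoid.exponent_dvd_of_forall_pow_eq_one hall
    rw [hn, Nat.pow_dvd_pow_iff_le_right (le_refl 2)] at this
    omega
  set u := a ^ 2 ^ m with hu
  have huΩ : u ∈ Ω := by rw [hΩ.mem, hu, ← pow_mul, ← pow_succ]; exact hpow a
  set b := θ a with hb
  have hbu : b ^ 2 ^ m = θ u := (map_pow θ a _).symm
  have hne : θ u ≠ u := by
    intro e
    have hfix : ∀ k : ℕ, (θ ^ k) u = u := fun k => by
      induction k with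
      | zero => rfl
      | succ k ihk => rw [pow_succ', MulAut.mul_apply, ihk, e]
    have hsub : ∀ v : Ω, (v : T) = 1 ∨ (v : T) = u := fun v => by
      by_cases hv : (v : T) = 1
      · exact Or.inl hv
      · obtain ⟨k, hk⟩ := hΩ.trans u v huΩ ha v.2 hv
        exact Or.inr (hk.symm.trans (hfix k))
    have h4 := Nat.card_le_card_of_injective (fun v : Ω => decide ((v : T) = 1)) fun v w h => by
      rcases hsub v with hv | hv <;> rcases hsub w with hw | hw
      · exact Subtype.ext (hv.trans hw.symm)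
      · exact absurd (by simpa [hv, hw] using h) ha
      · exact absurd (by simpa [hv, hw] using h) ha
      · exact Subtype.ext (hv.trans hw.symm)
    rw [hΩ.card, Nat.card_eq_fintype_card, Fintype.card_bool] at h4
    omega
  haveI : Fact (1 < 2 ^ (m + 1)) := ⟨Nat.one_lt_two_pow (by omega)⟩
  have hpm : ∀ (c : T) (i j : ZMod (2 ^ (m + 1))), c ^ (i + j).val = c ^ i.val * c ^ j.val := fun c i j => by
    rw [← pow_add, ZMod.val_add, ← pow_mod_orderOf, ← pow_mod_orderOf c (i.val + j.val),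
      Nat.mod_mod_of_dvd _ (orderOf_dvd_of_pow_eq_one (hpow c))]
  let f : Multiplicative (ZMod (2 ^ (m + 1)) × ZMod (2 ^ (m + 1))) →* T :=
    MonoidHom.mk' (fun p => a ^ (Multiplicative.toAdd p).1.val * b ^ (Multiplicative.toAdd p).2.val) fun p p' => by
      rw [toAdd_mul, Prod.fst_add, Prod.snd_add, hpm, hpm, mul_mul_mul_comm]
  have hsurj : Function.Surjective f := by
    suffices ∀ k, k ≤ m + 1 → ∀ x : T, x ^ 2 ^ k = 1 → x ∈ f.range from fun x => this (m + 1) le_rfl x (hpow x)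
    intro k
    induction k with
    | zero => intro _ x hx; rw [pow_zero, pow_one] at hx; rw [hx]; exact one_mem _
    | succ k ihk =>
      intro hk x hx
      by_cases hx' : x ^ 2 ^ k = 1
      · exact ihk (by omega) x hx'
      have hxΩ : x ^ 2 ^ k ∈ Ω := by rw [hΩ.mem, ← pow_mul, ← pow_succ]; exact hx
      obtain ⟨j, hj⟩ := hΩ.trans u _ huΩ ha hxΩ hx'
      set i := 2 ^ (m - k) with hi
      have hik : i * 2 ^ k = 2 ^ m := by rw [hi, ← pow_add]; congr 1; omega
      obtain ⟨c, hc, hcu⟩ : ∃ c, c ∈ f.range ∧ c ^ 2 ^ m = (θ ^ j) u := by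
        have hbr : b ∈ f.range := ⟨Multiplicative.ofAdd (0, 1), by
          show a ^ (0 : ZMod _).val * b ^ (1 : ZMod (2 ^ (m + 1))).val = b
          rw [ZMod.val_zero, pow_zero, one_mul, ZMod.val_one, pow_one]⟩
        have har : a ∈ f.range := ⟨Multiplicative.ofAdd (1, 0), by
          show a ^ (1 : ZMod (2 ^ (m + 1))).val * b ^ (0 : ZMod _).val = a
          rw [ZMod.val_zero, pow_zero, mul_one, ZMod.val_one, pow_one]⟩
        -- the three involutions
        have h3 : ∀ j, (θ ^ j) u = u ∨ (θ ^ j) u = θ u ∨ (θ ^ j) u = θ (θ u) := by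
          intro j
          induction j with
          | zero => exact Or.inl rfl
          | succ j ihj =>
            rw [pow_succ', MulAut.mul_apply]
            rcases ihj with e | e | e <;> rw [e]
            · exact Or.inr (Or.inl rfl)
            · exact Or.inr (Or.inr rfl)
            · exact Or.inl (hΩ.cube u huΩ)
        rcases h3 j with e | e | e
        · exact ⟨a, har, e.symm⟩
        · exact ⟨b, hbr, hbu.trans e.symm⟩
        · refine ⟨a * b, mul_mem har hbr, ?_⟩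
          rw [mul_pow, ← hu, hbu, e]
          exact (hΩthird hΩ huΩ ha hne).symm
      have hmem : (c ^ i)⁻¹ * x ∈ f.range := ihk (by omega) _ (by
        rw [mul_pow, inv_pow, ← pow_mul, hik, hcu, hj, inv_mul_cancel])
      have := mul_mem (pow_mem hc i) hmem
      rwa [mul_inv_cancel_left] at this
  have hinj : Function.Injective f := by
    rw [← MonoidHom.ker_eq_bot_iff, Subgroup.eq_bot_iff_forall]
    intro p hp
    have key : ∀ i j : ℕ, a ^ i * b ^ j = 1 → ∀ k ≤ m + 1, 2 ^ k ∣ i ∧ 2 ^ k ∣ j := by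
      intro i j e k
      induction k with
      | zero => exact fun _ => ⟨one_dvd _, one_dvd _⟩
      | succ k ihk =>
        intro hk
        obtain ⟨⟨i', hi⟩, ⟨j', hj⟩⟩ := ihk (by omega)
        have e' : u ^ i' * (θ u) ^ j' = 1 := by
          have := congrArg (fun t => t ^ 2 ^ (m - k)) e
          simp only [mul_pow, one_pow, ← pow_mul] at this
          rw [← this, ← hbu, hu, ← pow_mul, ← pow_mul, hi, hj,
            show 2 ^ k * i' * 2 ^ (m - k) = 2 ^ m * i' by rw [mul_right_comm, ← pow_add]; congr 2; omega,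
            show 2 ^ k * j' * 2 ^ (m - k) = 2 ^ m * j' by rw [mul_right_comm, ← pow_add]; congr 2; omega]
        have hu2 : ∀ (w : T) (l : ℕ), w ^ 2 = 1 → w ^ l = w ^ (l % 2) := fun w l hw => by
          conv_lhs => rw [← Nat.mod_add_div l 2, pow_add, pow_mul, hw, one_pow, mul_one]
        have hθu2 : (θ u) ^ 2 = 1 := by rw [← map_pow, (hΩ.mem u).1 huΩ, map_one]
        rw [hu2 _ i' ((hΩ.mem u).1 huΩ), hu2 _ j' hθu2] at e'
        have hii : i' % 2 = 0 ∧ j' % 2 = 0 := by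
          rcases Nat.mod_two_eq_zero_or_one i' with h0 | h0 <;> rcases Nat.mod_two_eq_zero_or_one j' with h1 | h1 <;>
            rw [h0, h1] at e'
          · exact ⟨h0, h1⟩
          · rw [pow_zero, pow_one, one_mul] at e'; exact absurd (θ.map_eq_one_iff.mp e') ha
          · rw [pow_zero, pow_one, mul_one] at e'; exact absurd e' ha
          · rw [pow_one, pow_one] at e'
            refine absurd ?_ hne
            rw [eq_inv_of_mul_eq_one_right e']
            exact inv_eq_of_mul_eq_one_right (by rw [← pow_two]; exact (hΩ.mem u).1 huΩ)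
        obtain ⟨i'', rfl⟩ := Nat.dvd_of_mod_eq_zero hii.1
        obtain ⟨j'', rfl⟩ := Nat.dvd_of_mod_eq_zero hii.2
        exact ⟨⟨i'', by rw [hi, pow_succ, mul_assoc]⟩, ⟨j'', by rw [hj, pow_succ, mul_assoc]⟩⟩
    obtain ⟨h1, h2⟩ := key _ _ hp (m + 1) le_rfl
    apply Multiplicative.toAdd.injective
    refine Prod.ext ?_ ?_
    · exact (ZMod.val_eq_zero _).mp (Nat.eq_zero_of_dvd_of_lt h1 (ZMod.val_lt _))
    · exact (ZMod.val_eq_zero _).mp (Nat.eq_zero_of_dvd_of_lt h2 (ZMod.val_lt _))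
  exact ⟨m + 1, by omega, ⟨(MulEquiv.ofBijective f ⟨hinj, hsurj⟩).symm⟩⟩


/-- Let T be a finite 2-group of 2-rank exactly 2 (it has a Klein four-subgroup but no elementary abelian subgroup of order 8) admitting an automorphism φ such that any two involutions of T are carried to one another by a power of φ. Then T ≅ Z_{2^n} × Z_{2^n} for some n ≥ 1, or T is isomorphic to a Sylow 2-subgroup of PSU(3) over the field with 16 elements. -/
theorem result {T : Type*} [Group T] [Finite T] (hT : IsPGroup 2 T) (h2 : Cfsg.PRankLE 2 2 T) (h1 : ¬ Cfsg.PRankLE 2 1 T) (φ : MulAut T) (htrans : ∀ s t : T, orderOf s = 2 → orderOf t = 2 → ∃ k : ℕ, (φ ^ k) s = t) {F : Type*} [Field F] [Fintype F] (hF : Fintype.card F = 16) (P : Sylow 2 (Cfsg.PSU 3 F 4)) : (∃ n : ℕ, 1 ≤ n ∧ Nonempty (T ≃* Multiplicative (ZMod (2 ^ n) × ZMod (2 ^ n)))) ∨ Nonempty (T ≃* (P : Subgroup (Cfsg.PSU 3 F 4))) := by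
  classical
  haveI : Fact (Nat.Prime 2) := ⟨Nat.prime_two⟩
  obtain ⟨A, hAc, hA2, hA4⟩ : ∃ A : Subgroup T, IsMulCommutative A ∧ (∀ a ∈ A, a ^ 2 = 1) ∧ 3 ≤ Nat.card A := by
    unfold Cfsg.PRankLE at h1
    simp only [not_forall, not_le] at h1
    obtain ⟨A, hc, ha, hn⟩ := h1
    exact ⟨A, hc, ha, by rw [pow_one] at hn; omega⟩
  haveI hntT : Nontrivial T := by
    haveI : Nontrivial A := Finite.one_lt_card_iff_nontrivial.mp (by omega)
    exact A.nontrivial_iff_ne_bot.mp inferInstance |> fun _ => (Subgroup.subtype_injective A).nontrivial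
  obtain ⟨z, hzc, hz⟩ : ∃ z ∈ Subgroup.center T, orderOf z = 2 := by
    haveI := hT.center_nontrivial
    obtain ⟨k, hk⟩ := IsPGroup.iff_card.mp (hT.to_subgroup (Subgroup.center T))
    have hk0 : k ≠ 0 := by
      intro e; rw [e, pow_zero] at hk
      have := Finite.one_lt_card (α := Subgroup.center T); omega
    obtain ⟨z, hz⟩ := exists_prime_orderOf_dvd_card' (G := Subgroup.center T) 2 (hk ▸ dvd_pow_self 2 hk0)
    exact ⟨z, z.2, (Subgroup.orderOf_coe z).trans hz⟩
  have hcen : ∀ s : T, orderOf s = 2 → s ∈ Subgroup.center T := by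
    intro s hs
    obtain ⟨k, rfl⟩ := htrans z s hz hs
    rw [Subgroup.mem_center_iff] at hzc ⊢
    intro g
    obtain ⟨g', rfl⟩ := (φ ^ k).surjective g
    rw [← map_mul, ← map_mul, hzc]
  have hcen' : ∀ s : T, s ^ 2 = 1 → s ∈ Subgroup.center T := fun s hs => by
    by_cases h : s = 1
    · rw [h]; exact one_mem _
    · exact hcen s (orderOf_eq_prime hs h)
  let Ω : Subgroup T :=
    { carrier := {x | x ^ 2 = 1}
      one_mem' := one_pow 2
      mul_mem' := fun {a c} ha hc => by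
        show (a * c) ^ 2 = 1
        rw [Commute.mul_pow ((Subgroup.mem_center_iff.mp (hcen' a ha) c).symm), ha, hc, one_mul]
      inv_mem' := fun {a} ha => by show a⁻¹ ^ 2 = 1; rw [inv_pow, ha, inv_one] }
  have hΩc : Ω ≤ Subgroup.center T := fun x hx => hcen' x hx
  haveI : IsMulCommutative Ω := ⟨⟨fun x y => Subtype.ext (Subgroup.mem_center_iff.mp (hΩc y.2) x)⟩⟩
  have hΩ4 : Nat.card Ω = 4 := by
    have hle := h2 Ω inferInstance fun a ha => ha
    have hge : Nat.card A ≤ Nat.card Ω := Subgroup.card_le_of_le hA2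
    obtain ⟨k, hk⟩ := IsPGroup.iff_card.mp (hT.to_subgroup Ω)
    rw [hk] at hle hge ⊢
    have hk2 : k ≤ 2 := (Nat.pow_le_pow_iff_right (le_refl 2)).mp hle
    interval_cases k <;> omega
  -- the permutation of the involutions
  have hne : ∀ u : T, u ^ 2 = 1 → u ≠ 1 → ∀ S : Finset T, S.card ≤ 2 → (∀ k : ℕ, (φ ^ k) u ∈ S) → False := by
    intro u hu hu1 S hS hall
    haveI : Fintype T := Fintype.ofFinite T
    have hsub : (Finset.univ.filter fun x : T => x ^ 2 = 1) ⊆ insert 1 S := by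
      intro x hx
      rw [Finset.mem_filter] at hx
      by_cases h : x = 1
      · exact h ▸ Finset.mem_insert_self _ _
      · obtain ⟨k, hk⟩ := htrans u x (orderOf_eq_prime hu hu1) (orderOf_eq_prime hx.2 h)
        exact Finset.mem_insert_of_mem (hk ▸ hall k)
    have := (Finset.card_le_card hsub).trans (Finset.card_insert_le _ _)
    have hc : (Finset.univ.filter fun x : T => x ^ 2 = 1).card = Nat.card Ω := by
      rw [Nat.card_eq_fintype_card, ← Fintype.card_subtype]; rfl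
    omega
  have hφ2 : ∀ u : T, u ^ 2 = 1 → (φ u) ^ 2 = 1 := fun u hu => by rw [← map_pow, hu, map_one]
  have hφ3 : ∀ u : T, u ^ 2 = 1 → φ (φ (φ u)) = u := by
    intro u hu
    by_cases hu1 : u = 1
    · simp [hu1]
    have e1 : φ u ≠ u := fun e => hne u hu hu1 {u} (by simp) fun k => by
      induction k with
      | zero => simp
      | succ k ih => rw [Finset.mem_singleton] at ih ⊢; rw [pow_succ', MulAut.mul_apply, ih, e]
    have e2 : φ (φ u) ≠ u := fun e => hne u hu hu1 {u, φ u} (Finset.card_le_two) fun k => by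
      induction k with
      | zero => simp
      | succ k ih =>
        rw [Finset.mem_insert, Finset.mem_singleton] at ih ⊢
        rw [pow_succ', MulAut.mul_apply]
        rcases ih with h | h <;> rw [h]
        · exact Or.inr rfl
        · exact Or.inl e
    by_contra e3
    haveI : Fintype T := Fintype.ofFinite T
    have hsub : ({1, u, φ u, φ (φ u), φ (φ (φ u))} : Finset T) ⊆ Finset.univ.filter fun x : T => x ^ 2 = 1 := by
      intro x hx
      simp only [Finset.mem_insert, Finset.mem_singleton] at hx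
      refine Finset.mem_filter.mpr ⟨Finset.mem_univ _, ?_⟩
      rcases hx with h | h | h | h | h <;> subst h <;> simp [← map_pow, hu]
    have := Finset.card_le_card hsub
    rw [Finset.card_insert_of_notMem, Finset.card_insert_of_notMem, Finset.card_insert_of_notMem,
      Finset.card_insert_of_notMem, Finset.card_singleton] at this
    · have hc : (Finset.univ.filter fun x : T => x ^ 2 = 1).card = Nat.card Ω := by
        rw [Nat.card_eq_fintype_card, ← Fintype.card_subtype]; rfl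
      omega
    all_goals simp only [Finset.mem_insert, Finset.mem_singleton, not_or]
    · exact fun e => e1 (φ.injective (φ.injective e)).symm
    · exact ⟨fun e => e1 (φ.injective e).symm, fun e => e2 (φ.injective e).symm⟩
    · exact ⟨fun e => e1 e.symm, fun e => e2 e.symm, fun e => e3 e.symm⟩
    · exact ⟨fun e => hu1 e.symm, fun e => hu1 (φ.map_eq_one_iff.mp e.symm),
        fun e => hu1 (φ.map_eq_one_iff.mp (φ.map_eq_one_iff.mp e.symm)),
        fun e => hu1 (φ.map_eq_one_iff.mp (φ.map_eq_one_iff.mp (φ.map_eq_one_iff.mp e.symm)))⟩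
  obtain ⟨b, m, hm, hN⟩ := Nat.exists_eq_pow_mul_and_not_dvd (orderOf_pos φ).ne' 3 (by norm_num)
  set θ := φ ^ m with hθdef
  have hθ : θ ^ 3 ^ b = 1 := by rw [hθdef, ← pow_mul, mul_comm, ← hN, pow_orderOf_eq_one]
  have hmod : ∀ k (u : T), u ^ 2 = 1 → (φ ^ k) u = (φ ^ (k % 3)) u := by
    intro k u hu
    have h3 : ∀ j, (φ ^ (3 * j)) u = u := fun j => by
      induction j with
      | zero => rfl
      | succ j ih => rw [mul_add, mul_one, pow_add, MulAut.mul_apply, show (φ ^ 3) u = φ (φ (φ u)) from rfl, hφ3 u hu, ih]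
    conv_lhs => rw [← Nat.mod_add_div k 3, pow_add, MulAut.mul_apply, h3]
  have hTri : Tri Ω θ :=
    { mem := fun x => Iff.rfl
      central := hΩc
      card := hΩ4
      cube := fun u hu => by
        show (φ ^ m) ((φ ^ m) ((φ ^ m) u)) = u
        rw [← MulAut.mul_apply, ← MulAut.mul_apply, ← pow_add, ← pow_add, hmod _ u hu,
          show (m + m + m) % 3 = 0 by omega]
        rfl
      trans := fun u v hu hu1 hv hv1 => by
        obtain ⟨k, hk⟩ := htrans u v (orderOf_eq_prime hu hu1) (orderOf_eq_prime hv hv1)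
        refine ⟨m * k, ?_⟩
        rw [hθdef, ← pow_mul, hmod _ u hu, ← hk, hmod k u hu]
        congr 2
        have hm3 : m % 3 = 1 ∨ m % 3 = 2 := by omega
        rw [← mul_assoc, Nat.mul_mod, Nat.mul_mod m m]
        rcases hm3 with e | e <;> rw [e] <;> omega }
  by_cases hcomm : ∀ x y : T, x * y = y * x
  · letI : CommGroup T := { ‹Group T› with mul_comm := hcomm }
    exact Or.inl (homocyclic hT hTri)
  refine Or.inr ?_
  have hθ3 := cube_eq_one hT hTri hθ
  simp only [not_forall] at hcomm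
  obtain ⟨u, hu, hu1⟩ : ∃ u ∈ Ω, u ≠ 1 := ⟨z, by show z ^ 2 = 1; rw [← hz]; exact pow_orderOf_eq_one z,
    fun e => by rw [e, orderOf_one] at hz; omega⟩
  have hfix : ∀ x : T, x ^ 2 = 1 → x ≠ 1 → θ x ≠ x := by
    intro x hx hx1 e
    have hk : ∀ k : ℕ, (θ ^ k) x = x := fun k => by
      induction k with
      | zero => rfl
      | succ k ih => rw [pow_succ', MulAut.mul_apply, ih, e]
    refine hne x hx hx1 {x} (by simp) fun k => Finset.mem_singleton.mpr ?_
    by_cases h1 : (φ ^ k) x = x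
    · exact h1
    have h2 : ((φ ^ k) x) ^ 2 = 1 := by rw [← map_pow, hx, map_one]
    obtain ⟨j, hj⟩ := hTri.trans x _ hx hx1 h2 (fun e => hx1 ((φ ^ k).map_eq_one_iff.mp e))
    rw [← hj, hk]
  have hθne : θ ≠ 1 := fun e => hfix u hu hu1 (by rw [e]; rfl)
  haveI : Fact (Nat.Prime 3) := ⟨Nat.prime_three⟩
  have hK3 : Nat.card (Subgroup.zpowers θ) = 3 := by
    rw [Nat.card_zpowers]; exact orderOf_eq_prime hθ3 hθne
  have hSuz : Cfsg.IsSuzukiTwoGroup T := by
    refine ⟨inferInstance, hT, hcomm, ⟨u, θ u, (hfix u hu hu1).symm, hu1, ?_, fun e => hu1 (θ.map_eq_one_iff.mp e), ?_⟩,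
      Subgroup.zpowers θ, inferInstance, ?_⟩
    · rw [← pow_two]; exact hu
    · rw [← map_mul, ← pow_two, show u ^ 2 = 1 from hu, map_one]
    intro x y hx hx2 hy hy2
    rw [← pow_two] at hx2 hy2
    obtain ⟨k, hk⟩ := hTri.trans x y hx2 hx hy2 hy
    refine ⟨⟨θ ^ k, Subgroup.npow_mem_zpowers θ k⟩, hk, fun g hg => ?_⟩
    by_contra hgne
    let h : Subgroup.zpowers θ := (⟨θ ^ k, Subgroup.npow_mem_zpowers θ k⟩)⁻¹ * g
    have hh1 : h ≠ 1 := fun e => hgne (inv_mul_eq_one.mp e).symm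
    obtain ⟨i, hi⟩ := Subgroup.mem_zpowers_iff.mp
      (mem_zpowers_of_prime_card hK3 hh1 (g' := ⟨θ, Subgroup.mem_zpowers θ⟩))
    have hhx : (h : MulAut T) x = x := by
      show (θ ^ k)⁻¹ ((g : MulAut T) x) = x
      rw [hg, MulAut.inv_def, MulEquiv.symm_apply_eq, hk]
    have hi' : ((h : MulAut T) ^ i) = θ := congrArg Subtype.val hi
    refine hfix x hx2 hx ?_
    rw [← hi']
    exact MulAction.mem_stabilizer_iff.mp (zpow_mem (MulAction.mem_stabilizer_iff.mpr hhx : (h : MulAut T) ∈ MulAction.stabilizer (MulAut T) x) i)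
  obtain ⟨DT⟩ := exists_sdata hSuz
  have hTZ : Nat.card (Subgroup.center T) = 4 := by
    rw [← DT.omega_eq_center, ← hΩ4]; rfl
  have hP := Cfsg.Agent.S1141.result (F := F) (n := 2) le_rfl hF P
  obtain ⟨-, hPZ, hPS⟩ := hP
  obtain ⟨DP⟩ := exists_sdata hPS
  obtain ⟨πT, ιT, hTs, hTk, hTq⟩ := model_of T DT hTZ
  obtain ⟨πP, ιP, hPs, hPk, hPq⟩ := model_of _ DP hPZ
  refine iso_of_square πT πP hTs hPs hTk.le hPk.le
    ((MulEquiv.subgroupCongr hTk).trans ((ιT.trans ιP.symm).trans (MulEquiv.subgroupCongr hPk).symm)) ?_ ?_ ?_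
  · intro w
    exact Subtype.ext (DT.center_sq (hTk ▸ w.2))
  · intro v
    apply Multiplicative.toAdd.injective
    rw [pow_two, toAdd_mul, toAdd_one]
    funext i
    exact CharTwo.add_self_eq_zero _
  · intro g a hg e
    have e1 : ιT ⟨g ^ 2, DT.sq_mem_center g⟩ = ιP ⟨a ^ 2, DP.sq_mem_center a⟩ := by
      apply Multiplicative.toAdd.injective
      rw [hTq, hPq, e]
    show ((ιP.symm (ιT ⟨g ^ 2, DT.sq_mem_center g⟩) : Subgroup.center _) : _) = a ^ 2
    rw [e1, ιP.symm_apply_apply]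

end Cfsg.Agent.S1237
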