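import Cfsg.Statements.S1249
import Mathlib

set_option autoImplicit false
open Cfsg

namespace Cfsg.Agent.S1249

/-- Let P and Q be Sylow p-subgroups of the finite group G both containing the subgroup A. If A is strongly closed in P, then A is strongly closed in Q. -/
theorem result {G : Type*} [Group G] [Finite G] {p : ℕ} [Fact p.Prime] (P Q : Sylow p G) (A : Subgroup G) (hAQ : A ≤ Q) (hA : Cfsg.IsStronglyClosed A (P : Subgroup G)) : Cfsg.IsStronglyClosed A (Q : Subgroup G) := by
  obtain ⟨y, rfl⟩ := MulAction.exists_smul_eq G P Q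
  have hback : ∀ x : G, x ∈ ((y • P : Sylow p G) : Subgroup G) → y⁻¹ * x * y ∈ (P : Subgroup G) := by
    intro x hx
    rw [Sylow.coe_subgroup_smul, Subgroup.mem_pointwise_smul_iff_inv_smul_mem] at hx
    simpa [MulAut.smul_def, mul_assoc] using hx
  have hyN : ∀ a ∈ A, y⁻¹ * a * y ∈ A := fun a ha => by
    have := hA.2 a ha y⁻¹ (by rw [inv_inv]; exact hback a (hAQ ha))
    rwa [inv_inv] at this
  have hyN' : ∀ a, y⁻¹ * a * y ∈ A → a ∈ A := by
    intro a ha
    have hinj : Function.Injective (fun b : A => (⟨y⁻¹ * b * y, hyN b b.2⟩ : A)) := by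
      intro b c h
      simpa using congrArg Subtype.val h
    obtain ⟨b, hb⟩ := (Finite.injective_iff_surjective.1 hinj) ⟨_, ha⟩
    have : (b : G) = a := by simpa using congrArg Subtype.val hb
    rw [← this]; exact b.2
  refine ⟨hAQ, fun x hx g hg => hyN' _ ?_⟩
  have := hback _ hg
  rw [show y⁻¹ * (g * x * g⁻¹) * y = (y⁻¹ * g) * x * (y⁻¹ * g)⁻¹ by group] at this ⊢
  exact hA.2 x hx _ this

end Cfsg.Agent.S1249
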