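import Cfsg.Statements.S1250
import Mathlib

set_option autoImplicit false
open Cfsg

namespace Cfsg.Agent.S1250

/-- Let S be a Sylow p-subgroup of the finite group G, A ≤ S strongly closed in S, and N a normal subgroup. Then the image of A in G ⧸ N is strongly closed in the image of S (which is a Sylow p-subgroup of G ⧸ N). -/
theorem result {G : Type*} [Group G] [Finite G] {p : ℕ} [Fact p.Prime] (S : Sylow p G) (A : Subgroup G) (hA : Cfsg.IsStronglyClosed A (S : Subgroup G)) (N : Subgroup G) [N.Normal] : Cfsg.IsStronglyClosed (A.map (QuotientGroup.mk' N)) ((S : Subgroup G).map (QuotientGroup.mk' N)) := by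
  refine ⟨Subgroup.map_mono hA.1, ?_⟩
  rintro _ ⟨x, hx, rfl⟩ q hq
  obtain ⟨g, rfl⟩ := QuotientGroup.mk'_surjective N q
  rw [← map_inv, ← map_mul, ← map_mul] at hq ⊢
  set w := g * x * g⁻¹ with hw
  set M := (S : Subgroup G) ⊔ N with hM
  have hwM : w ∈ M := by
    obtain ⟨s, hs, hsw⟩ := hq
    rw [QuotientGroup.mk'_apply, QuotientGroup.mk'_apply, QuotientGroup.eq] at hsw
    have := Subgroup.mul_mem_sup hs hsw
    simpa using this
  have hSM : (S : Subgroup G) ≤ M := le_sup_left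
  have hpw : IsPGroup p (Subgroup.zpowers (⟨w, hwM⟩ : M)) := by
    obtain ⟨e, he⟩ := S.isPGroup' ⟨x, hA.1 hx⟩
    rintro ⟨_, k, rfl⟩
    refine ⟨e, ?_⟩
    have hxe : x ^ p ^ e = 1 := by simpa using congrArg Subtype.val he
    have hwe : w ^ p ^ e = 1 := by simp [hw, conj_pow, hxe]
    apply Subtype.ext
    apply Subtype.ext
    push_cast
    rw [← zpow_natCast, ← zpow_mul, mul_comm, zpow_mul, zpow_natCast, hwe, one_zpow]
  obtain ⟨T, hT⟩ := hpw.exists_le_sylow
  obtain ⟨h, hh⟩ := MulAction.exists_smul_eq M (S.subtype hSM) T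
  have hmem : (⟨w, hwM⟩ : M) ∈ (h • S.subtype hSM : Sylow p M) := hh ▸ hT (Subgroup.mem_zpowers _)
  have hmem2 : (h : G)⁻¹ * w * h ∈ (S : Subgroup G) := by
    change (⟨w, hwM⟩ : M) ∈ ((h • S.subtype hSM : Sylow p M) : Subgroup M) at hmem
    rw [Sylow.coe_subgroup_smul, Subgroup.mem_pointwise_smul_iff_inv_smul_mem] at hmem
    simp [MulAut.smul_def, Subgroup.mem_subgroupOf] at hmem
    simpa [mul_assoc] using hmem
  have hA1 : (h : G)⁻¹ * w * h ∈ A := by
    have := hA.2 x hx ((h : G)⁻¹ * g) (by rwa [hw, ← show (h : G)⁻¹ * g * x * ((h : G)⁻¹ * g)⁻¹ = (h : G)⁻¹ * (g * x * g⁻¹) * h by group] at hmem2)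
    rw [hw]; convert this using 1; group
  obtain ⟨n, hn, s, hs, hns⟩ : ∃ n ∈ N, ∃ s ∈ (S : Subgroup G), n * s = (h : G) := by
    have h2 : (h : G) ∈ (↑(N ⊔ (S : Subgroup G)) : Set G) := by rw [sup_comm]; exact h.2
    rw [Subgroup.normal_mul] at h2
    exact h2
  refine ⟨s * ((h : G)⁻¹ * w * h) * s⁻¹, hA.2 _ hA1 s ?_, ?_⟩
  · exact mul_mem (mul_mem hs hmem2) (inv_mem hs)
  · rw [← hns]
    simp only [map_mul, map_inv, QuotientGroup.mk'_apply, (QuotientGroup.eq_one_iff n).2 hn]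
    group

end Cfsg.Agent.S1250
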