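import Cfsg.Statements.S1251
import Cfsg.Agent.ZStar.Closed
import Cfsg.Agent.QDWr.LocalIndex

set_option autoImplicit false
open Cfsg

namespace Cfsg.Agent.S1251

open Subgroup in
theorem relIndex_eq_of_le_mul {G : Type*} [Group G] {H T Y : Subgroup G} (hHY : H ≤ Y)
    (hY : ∀ y ∈ Y, ∃ h ∈ H, ∃ t ∈ T, y = h * t) : T.relIndex Y = T.relIndex H := by
  refine (Nat.card_congr (Equiv.ofBijective (quotientSubgroupOfEmbeddingOfLE T hHY)
    ⟨Function.Embedding.injective _, fun q => ?_⟩)).symm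
  induction q using QuotientGroup.induction_on with
  | H y =>
    obtain ⟨h, hh, t, ht, e⟩ := hY y y.2
    refine ⟨((⟨h, hh⟩ : H) : H ⧸ T.subgroupOf H), ?_⟩
    rw [quotientSubgroupOfEmbeddingOfLE_apply_mk]
    exact QuotientGroup.eq.2 (show h⁻¹ * (y : G) ∈ T by rwa [e, inv_mul_cancel_left])

theorem centralizes {G : Type*} [Group G] [Finite G] (H : Subgroup G) (hO : Cfsg.oddCore ↥H = ⊥)
    {x : G} (hx : x ∈ Subgroup.normalizer (H : Set G)) (hx2 : IsPGroup 2 (Subgroup.zpowers x))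
    {T : Subgroup G} (hT : IsPGroup 2 T) (hxT : x ∈ T) (hodd : ¬ 2 ∣ T.relIndex H)
    (hclosed : ∀ j : ℕ, ∀ h ∈ H, h * x ^ j * h⁻¹ ∈ T → h * x ^ j * h⁻¹ = x ^ j) :
    x ∈ Subgroup.centralizer (H : Set G) := by
  haveI := Fact.mk Nat.prime_two
  set X := H ⊔ Subgroup.zpowers x with hX
  have hzle : Subgroup.zpowers x ≤ Subgroup.normalizer (H : Set G) := Subgroup.zpowers_le.2 hx
  have hdec : ∀ y ∈ X, ∃ h ∈ H, ∃ i : ℤ, y = h * x ^ i := fun y hy => by
    rw [← SetLike.mem_coe, hX, Subgroup.coe_mul_of_right_le_normalizer_left _ _ hzle] at hy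
    obtain ⟨h, hh, t, ⟨i, rfl⟩, rfl⟩ := hy
    exact ⟨h, hh, i, rfl⟩
  have hxX : x ∈ X := Subgroup.mem_sup_right (Subgroup.mem_zpowers x)
  have hidx : T.relIndex X = T.relIndex H := relIndex_eq_of_le_mul le_sup_left fun y hy => by
    obtain ⟨h, hh, i, rfl⟩ := hdec y hy
    exact ⟨h, hh, _, T.zpow_mem hxT i, rfl⟩
  have hTX : IsPGroup 2 (T.subgroupOf X) := hT.comap_of_injective X.subtype X.subtype_injective
  let P : Sylow 2 X := hTX.toSylow (hidx ▸ hodd : ¬ 2 ∣ T.relIndex X)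
  have hC : CfsgLib.ZStar.ClosedElt P (⟨x, hxX⟩ : X) := by
    refine ⟨hxT, fun j g hg => Subtype.ext ?_⟩
    obtain ⟨h, hh, i, hgi⟩ := hdec g g.2
    have e : (g : G) * x ^ j * (g : G)⁻¹ = h * x ^ j * h⁻¹ := by
      rw [hgi]; group
    show (g : G) * x ^ j * (g : G)⁻¹ = x ^ j
    rw [e]
    exact hclosed j h hh (e ▸ hg)
  haveI : (Cfsg.pPrimeCore 2 X).Normal := Cfsg.pPrimeCore_normal 2 X
  have hbot : Cfsg.pPrimeCore 2 X = ⊥ := by
    haveI : (H.subgroupOf X).Normal := Subgroup.normal_subgroupOf_of_le_normalizer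
      (sup_le Subgroup.le_normalizer hzle)
    have hcop := CfsgLib.PCore.pPrimeCore_coprime 2 X
    set O := Cfsg.pPrimeCore 2 X with hOdef
    have hOH : ∀ o ∈ O, (o : G) ∈ H → o = 1 := by
      intro o ho hoH
      let f : ↥H →* ↥X := Subgroup.inclusion le_sup_left
      have h1 : O.comap f ≤ Cfsg.oddCore ↥H := CfsgLib.PCore.le_pPrimeCore inferInstance
        (Nat.Coprime.coprime_dvd_left (Subgroup.card_comap_dvd_of_injective _ _ (Subgroup.inclusion_injective _)) hcop)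
      rw [hO] at h1
      have h2 : (⟨o, hoH⟩ : H) = 1 := h1 (show f ⟨o, hoH⟩ ∈ O from ho)
      exact Subtype.ext (congrArg (fun y : H => (y : G)) h2)
    rw [Subgroup.eq_bot_iff_forall]
    intro o ho
    obtain ⟨h, hh, i, hoi⟩ := hdec o o.2
    obtain ⟨k, hk⟩ := hx2 ⟨x, Subgroup.mem_zpowers x⟩
    have hk' : x ^ 2 ^ k = 1 := congrArg Subtype.val hk
    have h3 : ((o ^ 2 ^ k : X) : X ⧸ H.subgroupOf X) = 1 := by
      have h4 : (o : X ⧸ H.subgroupOf X) = ((⟨x, hxX⟩ ^ i : X) : X ⧸ H.subgroupOf X) := by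
        have h5 : o = (⟨h, Subgroup.mem_sup_left hh⟩ : X) * (⟨x, hxX⟩ : X) ^ i := Subtype.ext (by
          rw [Subgroup.coe_mul, SubgroupClass.coe_zpow]; exact hoi)
        rw [h5, QuotientGroup.mk_mul, (QuotientGroup.eq_one_iff _).2 (show (⟨h, _⟩ : X) ∈ H.subgroupOf X from hh),
          one_mul]
      rw [QuotientGroup.mk_pow, h4, ← QuotientGroup.mk_pow, ← zpow_natCast, zpow_comm, zpow_natCast,
        show (⟨x, hxX⟩ : X) ^ 2 ^ k = 1 from Subtype.ext hk', one_zpow, QuotientGroup.mk_one]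
    have h6 : o ^ 2 ^ k = 1 := hOH _ (O.pow_mem ho _)
      (show o ^ 2 ^ k ∈ H.subgroupOf X from (QuotientGroup.eq_one_iff (o ^ 2 ^ k)).1 h3)
    have h7 : orderOf o ∣ Nat.card O := by
      simpa using orderOf_dvd_natCard (⟨o, ho⟩ : O)
    exact orderOf_eq_one_iff.1 (Nat.eq_one_of_dvd_coprimes (hcop.pow_right k) h7 (orderOf_dvd_of_pow_eq_one h6))
  have hc := CfsgLib.ZStar.closed_central hC
  rw [Subgroup.mem_centralizer_iff]
  intro h hh
  have h1 := Subgroup.mem_center_iff.1 hc ((⟨h, Subgroup.mem_sup_left hh⟩ : X) : X ⧸ Cfsg.pPrimeCore 2 X)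
  rw [← QuotientGroup.mk_mul, ← QuotientGroup.mk_mul, QuotientGroup.eq, hbot, Subgroup.mem_bot, inv_mul_eq_one] at h1
  exact congrArg Subtype.val h1


/-- Let S be a Sylow 2-subgroup of the finite group G and A ≤ S strongly closed in S. If H is a subgroup normalized by A with no nontrivial normal subgroup of odd order and A ∩ H = 1, then A ≤ C_G(H). -/
theorem result {G : Type*} [Group G] [Finite G] (S : Sylow 2 G) (A : Subgroup G) (hA : Cfsg.IsStronglyClosed A (S : Subgroup G)) (H : Subgroup G) (hAH : A ≤ Subgroup.normalizer (H : Set G)) (hO : Cfsg.oddCore ↥H = ⊥) (hdisj : A ⊓ H = ⊥) : A ≤ Subgroup.centralizer (H : Set G) := by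
  haveI := Fact.mk Nat.prime_two
  set X := H ⊔ A with hX
  have hA2 : IsPGroup 2 A := S.2.to_le hA.1
  obtain ⟨P, hP⟩ := (hA2.comap_of_injective X.subtype X.subtype_injective).exists_le_sylow
  set T := (P : Subgroup X).map X.subtype with hT
  have hT2 : IsPGroup 2 T := P.2.map _
  obtain ⟨S₂, hTS⟩ := hT2.exists_le_sylow
  obtain ⟨g, hg⟩ := MulAction.exists_smul_eq G S S₂
  have hAT : A ≤ T := fun a ha =>
    ⟨⟨a, Subgroup.mem_sup_right ha⟩, hP (show (⟨a, _⟩ : X) ∈ A.comap X.subtype from ha), rfl⟩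
  have hconj : ∀ y : G, y ∈ S₂ → g⁻¹ * y * g ∈ S := fun y hy => by
    rw [← hg] at hy
    have := Subgroup.mem_pointwise_smul_iff_inv_smul_mem.1 hy
    simp [MulAut.smul_def] at this
    exact this
  have hgA : ∀ a ∈ A, g⁻¹ * a * g ∈ A := fun a ha => by
    have := hA.2 a ha g⁻¹ (by rw [inv_inv]; exact hconj a (hTS (hAT ha)))
    rwa [inv_inv] at this
  have hgN : g⁻¹ ∈ Subgroup.normalizer (A : Set G) := CfsgLib.QDWr.conj_mem_normalizer (fun a ha => by
    rw [inv_inv]; exact hgA a ha)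
  have hclosed : ∀ a ∈ A, ∀ c : G, c * a * c⁻¹ ∈ T → c * a * c⁻¹ ∈ A := fun a ha c hc => by
    have h1 := hA.2 a ha (g⁻¹ * c) (by
      rw [show g⁻¹ * c * a * (g⁻¹ * c)⁻¹ = g⁻¹ * (c * a * c⁻¹) * g by group]
      exact hconj _ (hTS hc))
    have h2 := (Subgroup.mem_normalizer_iff.1 hgN (c * a * c⁻¹)).2 (by
      rw [inv_inv, show g⁻¹ * (c * a * c⁻¹) * g = g⁻¹ * c * a * (g⁻¹ * c)⁻¹ by group]
      exact h1)
    exact h2
  have hodd : ¬ 2 ∣ T.relIndex H := by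
    rw [← relIndex_eq_of_le_mul (Y := X) le_sup_left fun y hy => ?_]
    · rw [Subgroup.relIndex, Subgroup.subgroupOf, hT, Subgroup.comap_map_eq_self_of_injective X.subtype_injective]
      exact P.not_dvd_index
    · rw [← SetLike.mem_coe, hX, Subgroup.coe_mul_of_right_le_normalizer_left _ _ hAH] at hy
      obtain ⟨h, hh, a, ha, rfl⟩ := hy
      exact ⟨h, hh, a, hAT ha, rfl⟩
  intro x hx
  refine centralizes H hO (hAH hx) (hA2.to_le (Subgroup.zpowers_le.2 hx)) hT2 (hAT hx) hodd fun j h hh hjT => ?_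
  have h1 := hclosed _ (A.pow_mem hx j) h hjT
  have h2 : h * x ^ j * h⁻¹ * (x ^ j)⁻¹ ∈ A ⊓ H := by
    refine ⟨A.mul_mem h1 (A.inv_mem (A.pow_mem hx j)), ?_⟩
    rw [show h * x ^ j * h⁻¹ * (x ^ j)⁻¹ = h * (x ^ j * h⁻¹ * (x ^ j)⁻¹) by group]
    exact H.mul_mem hh ((Subgroup.mem_normalizer_iff.1 (hAH (A.pow_mem hx j)) _).1 (H.inv_mem hh))
  rw [hdisj, Subgroup.mem_bot] at h2
  exact mul_inv_eq_one.1 h2

end Cfsg.Agent.S1251
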