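import Cfsg.Statements.S1292
import Mathlib.Tactic
import Cfsg.Agent.Components.Constrained
import Cfsg.Agent.PCore.Descent

set_option autoImplicit false
open Cfsg
open scoped commutatorElement

namespace Cfsg.Agent.S1292

/-- Let G be a finite group such that F*(C_G(t)) = O_2(C_G(t)) for every involution t. Then F*(N_G(T)) = O_2(N_G(T)) for every nontrivial 2-subgroup T of G. -/
theorem result {G : Type*} [Group G] [Finite G] (h : ∀ t : G, orderOf t = 2 → Cfsg.generalizedFittingSubgroup ↥(Subgroup.centralizer ({t} : Set G)) = Cfsg.pCore 2 ↥(Subgroup.centralizer ({t} : Set G))) (T : Subgroup G) (hT : IsPGroup 2 ↥T) (hT1 : T ≠ ⊥) : Cfsg.generalizedFittingSubgroup ↥(Subgroup.normalizer (T : Set G)) = Cfsg.pCore 2 ↥(Subgroup.normalizer (T : Set G)) := by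
  have h2 : Fact (Nat.Prime 2) := ⟨Nat.prime_two⟩
  set N := Subgroup.normalizer (T : Set G) with hN
  rw [CfsgLib.Components.generalizedFitting_eq_pCore_iff, ← CfsgLib.Components.isCharP_iff]
  have : Nontrivial T := (Subgroup.nontrivial_iff_ne_bot T).2 hT1
  have hz := hT.center_nontrivial
  obtain ⟨n, hn⟩ := IsPGroup.iff_card.1 (hT.to_subgroup (Subgroup.center T))
  have hd : 2 ∣ Nat.card (Subgroup.center T) := by
    rw [hn]
    refine dvd_pow_self 2 ?_
    rintro rfl
    exact absurd (hn.trans (pow_zero 2)) (Finite.one_lt_card_iff_nontrivial.2 hz).ne'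
  obtain ⟨⟨⟨z, hzT⟩, hzc⟩, hz2⟩ := exists_prime_orderOf_dvd_card' 2 hd
  rw [Subgroup.orderOf_mk, Subgroup.orderOf_mk] at hz2
  set X := Subgroup.centralizer ({z} : Set G) with hX
  have hXc : CfsgLib.Components.IsCharP 2 X :=
    (CfsgLib.Components.isCharP_iff 2 X).2 ((CfsgLib.Components.generalizedFitting_eq_pCore_iff 2).1 (h z hz2))
  have hTX : T ≤ X := fun t ht => Subgroup.mem_centralizer_singleton_iff.2
    (congrArg Subtype.val (Subgroup.mem_center_iff.1 hzc ⟨t, ht⟩))
  have hC : Subgroup.centralizer (T : Set G) ≤ X := Subgroup.centralizer_le (Set.singleton_subset_iff.2 hzT)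
  exact CfsgLib.Components.isCharP_normalizer hXc hTX hT hC

end Cfsg.Agent.S1292
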