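import Cfsg.Statements.S1323
import Cfsg.Agent.IsoInv.Basic

set_option autoImplicit false
open Cfsg

namespace Cfsg.Agent.S1323

open scoped commutatorElement

/-- A nonabelian simple group is quasisimple. -/
theorem quasisimple_of_simple {H : Type*} [Group H] [IsSimpleGroup H] (hna : ∃ x y : H, x * y ≠ y * x) :
    Cfsg.IsQuasisimple H := by
  obtain ⟨x, y, hxy⟩ := hna
  refine ⟨⟨?_⟩, ?_⟩
  · rcases IsSimpleGroup.eq_bot_or_eq_top_of_normal (commutator H) inferInstance with h | h
    · exfalso
      apply hxy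
      rw [← commutatorElement_eq_one_iff_mul_comm, ← Subgroup.mem_bot, ← h, commutator_def]
      exact Subgroup.commutator_mem_commutator (Subgroup.mem_top x) (Subgroup.mem_top y)
    · exact h
  · have hz : Subgroup.center H = ⊥ := by
      refine (IsSimpleGroup.eq_bot_or_eq_top_of_normal (Subgroup.center H) inferInstance).resolve_right fun h => ?_
      exact hxy (Subgroup.mem_center_iff.1 (h ▸ Subgroup.mem_top y) x)
    exact CfsgLib.IsoInv.isSimpleGroup_of_equiv ((QuotientGroup.quotientMulEquivOfEq hz).trans QuotientGroup.quotientBot).symm inferInstance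

variable {n : ℕ}

/-- The 3-cycle `a ↦ c ↦ b ↦ a`. -/
def cyc (a b c : Fin n) (h1 : a ≠ b) (h2 : a ≠ c) : alternatingGroup (Fin n) :=
  ⟨Equiv.swap a b * Equiv.swap a c, by
    rw [Equiv.Perm.mem_alternatingGroup, map_mul, Equiv.Perm.sign_swap h1, Equiv.Perm.sign_swap h2]; rfl⟩

theorem cyc_fst {a b c : Fin n} (h1 : a ≠ b) (h2 : a ≠ c) (h3 : b ≠ c) :
    (cyc a b c h1 h2).1 a = c := by
  simp [cyc, Equiv.swap_apply_left, Equiv.swap_apply_of_ne_of_ne h2.symm h3.symm]

theorem cyc_other {a b c x : Fin n} (h1 : a ≠ b) (h2 : a ≠ c) (ha : x ≠ a) (hb : x ≠ b) (hc : x ≠ c) :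
    (cyc a b c h1 h2).1 x = x := by
  simp [cyc, Equiv.swap_apply_of_ne_of_ne ha hc, Equiv.swap_apply_of_ne_of_ne ha hb]

theorem exists_notMem {S : Finset (Fin n)} (h : S.card < n) : ∃ x, x ∉ S := by
  by_contra hc
  push Not at hc
  rw [Finset.eq_univ_of_forall hc, Finset.card_univ, Fintype.card_fin] at h
  omega

/-- For n ≥ 9, the subgroup of the alternating group on Fin n fixing each of the points 0, 1, 2, 3 is a standard subgroup. -/
theorem result (n : ℕ) (h4 : 4 ≤ n) (hn : 9 ≤ n) : Cfsg.IsStandardSubgroup (⨅ i : Fin 4, MulAction.stabilizer ↥(alternatingGroup (Fin n)) (Fin.castLE h4 i : Fin n)) := by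
  classical
  set G := alternatingGroup (Fin n) with hG
  set L := ⨅ i : Fin 4, MulAction.stabilizer ↥G (Fin.castLE h4 i : Fin n) with hLdef
  set F : Finset (Fin n) := Finset.univ.map (Fin.castLEEmb h4) with hFdef
  have hFc : F.card = 4 := by rw [hFdef, Finset.card_map, Finset.card_univ, Fintype.card_fin]
  have hLmem : ∀ σ : G, σ ∈ L ↔ ∀ x ∈ F, σ.1 x = x := by
    intro σ
    rw [hLdef, Subgroup.mem_iInf]
    simp only [MulAction.mem_stabilizer_iff, hFdef, Finset.mem_map, Finset.mem_univ, true_and]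
    exact ⟨fun h => by rintro x ⟨i, rfl⟩; exact h i, fun h i => h _ ⟨i, rfl⟩⟩
  set C := Subgroup.centralizer (L : Set G) with hCdef
  have hcycL : ∀ a b c : Fin n, a ∉ F → b ∉ F → c ∉ F → ∀ (h1 : a ≠ b) (h2 : a ≠ c), cyc a b c h1 h2 ∈ L := by
    intro a b c ha hb hc h1 h2
    rw [hLmem]
    intro x hx
    exact cyc_other h1 h2 (fun e => ha (e ▸ hx)) (fun e => hb (e ▸ hx)) (fun e => hc (e ▸ hx))
  -- the centralizer of `L`
  have hCmem : ∀ σ : G, σ ∈ C ↔ ∀ x, x ∉ F → σ.1 x = x := by
    intro σ
    constructor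
    · intro hσ a ha
      obtain ⟨b, hb⟩ := exists_notMem (n := n) (S := insert a F) (by
        have := Finset.card_insert_le a F; omega)
      obtain ⟨c, hc⟩ := exists_notMem (n := n) (S := insert b (insert a F)) (by
        have := Finset.card_insert_le a F; have := Finset.card_insert_le b (insert a F); omega)
      obtain ⟨d, hd⟩ := exists_notMem (n := n) (S := insert c (insert b (insert a F))) (by
        have := Finset.card_insert_le a F; have := Finset.card_insert_le b (insert a F)
        have := Finset.card_insert_le c (insert b (insert a F)); omega)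
      obtain ⟨e, he⟩ := exists_notMem (n := n) (S := insert d (insert c (insert b (insert a F)))) (by
        have := Finset.card_insert_le a F; have := Finset.card_insert_le b (insert a F)
        have := Finset.card_insert_le c (insert b (insert a F))
        have := Finset.card_insert_le d (insert c (insert b (insert a F))); omega)
      simp only [Finset.mem_insert, not_or] at hb hc hd he
      have key : ∀ u v, u ∉ F → v ∉ F → ∀ (h1 : a ≠ u) (h2 : a ≠ v), u ≠ v →
          σ.1 a = a ∨ σ.1 a = u ∨ σ.1 a = v := by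
        intro u v hu hv h1 h2 h3
        by_contra hcon
        push Not at hcon
        have hcomm := congrArg (fun g : G => g.1 a) (Subgroup.mem_centralizer_iff.1 hσ _ (hcycL a u v ha hu hv h1 h2))
        simp only [Subgroup.coe_mul, Equiv.Perm.mul_apply] at hcomm
        rw [cyc_fst h1 h2 h3, cyc_other h1 h2 hcon.1 hcon.2.1 hcon.2.2] at hcomm
        exact h2 (σ.1.injective hcomm)
      rcases key b c hb.2 hc.2.2 (Ne.symm hb.1) (Ne.symm hc.2.1) (Ne.symm hc.1) with h | h | h
      · exact h
      all_goals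
        rcases key d e hd.2.2.2 he.2.2.2.2 (Ne.symm hd.2.2.1) (Ne.symm he.2.2.2.1) (Ne.symm he.1) with h' | h' | h'
        · exact h'
        all_goals
          rw [h] at h'
          simp_all
    · intro hσ
      rw [hCdef, Subgroup.mem_centralizer_iff]
      intro τ hτ
      have hτ' := (hLmem τ).1 hτ
      apply Subtype.ext
      ext x
      simp only [Subgroup.coe_mul, Equiv.Perm.mul_apply]
      congr 1
      by_cases hx : x ∈ F
      · rw [hτ' x hx]
        by_cases hσx : σ.1 x ∈ F
        · rw [hτ' _ hσx]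
        · exfalso
          have := σ.1.injective (hσ _ hσx)
          exact hσx (this.symm ▸ hx)
      · rw [hσ x hx]
        by_cases hτx : τ.1 x ∈ F
        · exfalso
          have := τ.1.injective (hτ' _ hτx)
          exact hx (this ▸ hτx)
        · rw [hσ _ hτx]
  -- normalizers
  have hpres : ∀ g : G, (∀ x ∈ F, g.1 x ∈ F) → ∀ x, (x ∈ F ↔ g.1 x ∈ F) := by
    intro g hg x
    refine ⟨hg x, fun hx => ?_⟩
    have himg : F.image g.1 = F := Finset.eq_of_subset_of_card_le (fun y hy => by
      obtain ⟨w, hw, rfl⟩ := Finset.mem_image.1 hy; exact hg w hw)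
      (by rw [Finset.card_image_of_injective _ g.1.injective])
    rw [← himg, Finset.mem_image] at hx
    obtain ⟨w, hw, hwx⟩ := hx
    exact g.1.injective hwx ▸ hw
  have hinv : ∀ g : G, (∀ x, (x ∈ F ↔ g.1 x ∈ F)) → ∀ x, (x ∈ F ↔ g⁻¹.1 x ∈ F) := by
    intro g hg x
    have := hg (g⁻¹.1 x)
    simpa using this.symm
  have hconjapp : ∀ (g σ : G) (x : Fin n), (g * σ * g⁻¹).1 x = g.1 (σ.1 (g⁻¹.1 x)) := fun g σ x => rfl
  have hNofP : ∀ g : G, (∀ x, (x ∈ F ↔ g.1 x ∈ F)) →
      g ∈ Subgroup.normalizer (L : Set G) ∧ g ∈ Subgroup.normalizer (C : Set G) := by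
    intro g hg
    refine ⟨Subgroup.mem_normalizer_iff.2 fun σ => ?_, Subgroup.mem_normalizer_iff.2 fun σ => ?_⟩
    · rw [hLmem, hLmem]
      refine ⟨fun h x hx => ?_, fun h x hx => ?_⟩
      · rw [hconjapp, h _ ((hinv g hg x).1 hx)]; simp
      · have := h (g.1 x) ((hg x).1 hx)
        rw [hconjapp] at this
        simpa using this
    · rw [hCmem, hCmem]
      refine ⟨fun h x hx => ?_, fun h x hx => ?_⟩
      · rw [hconjapp, h _ (fun h' => hx ((hinv g hg x).2 h'))]; simp
      · have := h (g.1 x) (fun h' => hx ((hg x).2 h'))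
        rw [hconjapp] at this
        simpa using this
  have hNL : ∀ g : G, g ∈ Subgroup.normalizer (L : Set G) → ∀ x, (x ∈ F ↔ g.1 x ∈ F) := by
    intro g hg
    apply hpres
    intro x hx
    by_contra hgx
    obtain ⟨b, hb⟩ := exists_notMem (n := n) (S := insert (g.1 x) F) (by
      have := Finset.card_insert_le (g.1 x) F; omega)
    obtain ⟨c, hc⟩ := exists_notMem (n := n) (S := insert b (insert (g.1 x) F)) (by
      have := Finset.card_insert_le (g.1 x) F; have := Finset.card_insert_le b (insert (g.1 x) F); omega)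
    simp only [Finset.mem_insert, not_or] at hb hc
    have hm := (Subgroup.mem_normalizer_iff''.1 hg _).1 (hcycL _ b c hgx hb.2 hc.2.2 (Ne.symm hb.1) (Ne.symm hc.2.1))
    have h2 := (hLmem _).1 hm x hx
    have h3 : (g⁻¹ * cyc (g.1 x) b c (Ne.symm hb.1) (Ne.symm hc.2.1) * g).1 x = g⁻¹.1 c := by
      show g⁻¹.1 ((cyc (g.1 x) b c _ _).1 (g.1 x)) = _
      rw [cyc_fst _ _ (Ne.symm hc.1)]
    rw [h3] at h2
    apply hc.2.1
    have := congrArg g.1 h2
    simpa using this
  have hNC : ∀ g : G, g ∈ Subgroup.normalizer (C : Set G) → ∀ x, (x ∈ F ↔ g.1 x ∈ F) := by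
    intro g hg
    have hP : ∀ x, g.1 x ∈ F → x ∈ F := by
      intro y hy
      by_contra hyF
      have hcard : (F.erase (g.1 y)).card = 3 := by rw [Finset.card_erase_of_mem hy, hFc]
      obtain ⟨b, hb⟩ : (F.erase (g.1 y)).Nonempty := Finset.card_pos.1 (by omega)
      obtain ⟨c, hc⟩ : ((F.erase (g.1 y)).erase b).Nonempty := Finset.card_pos.1 (by
        rw [Finset.card_erase_of_mem hb]; omega)
      simp only [Finset.mem_erase] at hb hc
      have hm : cyc (g.1 y) b c (Ne.symm hb.1) (Ne.symm hc.2.1) ∈ C := by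
        rw [hCmem]
        intro x hx
        exact cyc_other _ _ (fun e => hx (e ▸ hy)) (fun e => hx (e ▸ hb.2)) (fun e => hx (e ▸ hc.2.2))
      have h2 := (hCmem _).1 ((Subgroup.mem_normalizer_iff''.1 hg _).1 hm) y hyF
      have h3 : (g⁻¹ * cyc (g.1 y) b c (Ne.symm hb.1) (Ne.symm hc.2.1) * g).1 y = g⁻¹.1 c := by
        show g⁻¹.1 ((cyc (g.1 y) b c _ _).1 (g.1 y)) = _
        rw [cyc_fst _ _ (Ne.symm hc.1)]
      rw [h3] at h2
      apply hc.2.1
      have := congrArg g.1 h2
      simpa using this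
    intro x
    refine ⟨fun hx => ?_, hP x⟩
    have himg : F.image g⁻¹.1 = F := Finset.eq_of_subset_of_card_le (fun y hy => by
      obtain ⟨w, hw, rfl⟩ := Finset.mem_image.1 hy
      exact hP _ (by simpa using hw)) (by rw [Finset.card_image_of_injective _ (Equiv.injective _)])
    rw [← himg, Finset.mem_image] at hx
    obtain ⟨w, hw, hwx⟩ := hx
    rw [← hwx]; simpa using hw
  refine ⟨?_, ⟨?_, ?_⟩, ?_, ?_⟩
  · -- quasisimple
    let s : Finset (Fin n) := Fᶜ
    have hs : s.card = n - 4 := by rw [Finset.card_compl, Fintype.card_fin, hFc]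
    haveI : IsSimpleGroup (alternatingGroup {x // x ∈ s}) := alternatingGroup.isSimpleGroup (by
      rw [Nat.card_eq_fintype_card, Fintype.card_coe, hs]; omega)
    have hrange : (alternatingGroup.ofSubtype s).range = L := by
      ext k
      rw [alternatingGroup.mem_range_ofSubtype_iff, hLmem]
      constructor
      · intro h x hx
        by_contra hne
        have := h (Equiv.Perm.mem_support.2 hne)
        exact (Finset.mem_compl.1 this) hx
      · intro h x hx
        rw [Finset.mem_compl]
        exact fun hxF => Equiv.Perm.mem_support.1 hx (h x hxF)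
    refine CfsgLib.IsoInv.isQuasisimple_of_equiv
      ((MonoidHom.ofInjective alternatingGroup.ofSubtype_injective).trans (MulEquiv.subgroupCongr hrange))
      (quasisimple_of_simple ?_)
    by_contra hcon
    push Not at hcon
    -- two overlapping 3-cycles
    obtain ⟨a, ha⟩ := exists_notMem (n := n) (S := F) (by omega)
    obtain ⟨b, hb⟩ := exists_notMem (n := n) (S := insert a F) (by
      have := Finset.card_insert_le a F; omega)
    obtain ⟨c, hc⟩ := exists_notMem (n := n) (S := insert b (insert a F)) (by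
      have := Finset.card_insert_le a F; have := Finset.card_insert_le b (insert a F); omega)
    obtain ⟨d, hd⟩ := exists_notMem (n := n) (S := insert c (insert b (insert a F))) (by
      have := Finset.card_insert_le a F; have := Finset.card_insert_le b (insert a F)
      have := Finset.card_insert_le c (insert b (insert a F)); omega)
    simp only [Finset.mem_insert, not_or] at hb hc hd
    obtain ⟨u, hu⟩ : cyc a b c (Ne.symm hb.1) (Ne.symm hc.2.1) ∈ (alternatingGroup.ofSubtype s).range := by
      rw [hrange]; exact hcycL _ _ _ ha hb.2 hc.2.2 _ _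
    obtain ⟨v, hv⟩ : cyc a b d (Ne.symm hb.1) (Ne.symm hd.2.2.1) ∈ (alternatingGroup.ofSubtype s).range := by
      rw [hrange]; exact hcycL _ _ _ ha hb.2 hd.2.2.2 _ _
    have h := congrArg (fun g : G => g.1 a) (show
      cyc a b c (Ne.symm hb.1) (Ne.symm hc.2.1) * cyc a b d (Ne.symm hb.1) (Ne.symm hd.2.2.1) =
      cyc a b d (Ne.symm hb.1) (Ne.symm hd.2.2.1) * cyc a b c (Ne.symm hb.1) (Ne.symm hc.2.1) by
        rw [← hu, ← hv, ← map_mul, ← map_mul, hcon u v])
    simp only [Subgroup.coe_mul, Equiv.Perm.mul_apply] at h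
    rw [cyc_fst _ _ (Ne.symm hd.2.1), cyc_fst _ _ (Ne.symm hc.1),
      cyc_other _ _ hd.2.2.1 hd.2.1 hd.1, cyc_other _ _ hc.2.1 hc.1 (Ne.symm hd.1)] at h
    exact hd.1 h
  · -- even order
    rw [← hCdef, even_iff_two_dvd]
    obtain ⟨p0, p1, p2, p3, hd01, hd02, hd03, hd12, hd13, hd23⟩ :
        ∃ p0 p1 p2 p3 : Fin 4, p0 ≠ p1 ∧ p0 ≠ p2 ∧ p0 ≠ p3 ∧ p1 ≠ p2 ∧ p1 ≠ p3 ∧ p2 ≠ p3 :=
      ⟨0, 1, 2, 3, by decide, by decide, by decide, by decide, by decide, by decide⟩
    set e := Fin.castLEEmb h4
    set π : Equiv.Perm (Fin n) := Equiv.swap (e p0) (e p1) * Equiv.swap (e p2) (e p3) with hπ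
    have hmem : π ∈ alternatingGroup (Fin n) := by
      rw [Equiv.Perm.mem_alternatingGroup, map_mul, Equiv.Perm.sign_swap (e.injective.ne hd01),
        Equiv.Perm.sign_swap (e.injective.ne hd23)]
      rfl
    have hC : (⟨π, hmem⟩ : G) ∈ C := by
      rw [hCmem]
      intro x hx
      have hne : ∀ i, x ≠ e i := fun i h => hx (Finset.mem_map.2 ⟨i, Finset.mem_univ _, h.symm⟩)
      simp [hπ, Equiv.swap_apply_of_ne_of_ne (hne _) (hne _)]
    have hdis : Equiv.Perm.Disjoint (Equiv.swap (e p0) (e p1)) (Equiv.swap (e p2) (e p3)) := by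
      intro x
      by_cases h : x = e p0 ∨ x = e p1
      · right
        rcases h with rfl | rfl
        · exact Equiv.swap_apply_of_ne_of_ne (e.injective.ne hd02) (e.injective.ne hd03)
        · exact Equiv.swap_apply_of_ne_of_ne (e.injective.ne hd12) (e.injective.ne hd13)
      · push Not at h
        exact Or.inl (Equiv.swap_apply_of_ne_of_ne h.1 h.2)
    have ho : orderOf (⟨⟨π, hmem⟩, hC⟩ : C) = 2 := by
      rw [Subgroup.orderOf_mk, Subgroup.orderOf_mk]
      refine orderOf_eq_prime ?_ ?_
      · rw [hπ, hdis.commute.mul_pow, pow_two, pow_two, Equiv.swap_mul_self, Equiv.swap_mul_self, one_mul]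
      · intro h
        have := congrArg (fun f : Equiv.Perm (Fin n) => f (e p2)) h
        simp [hπ, Equiv.swap_apply_left, Equiv.swap_apply_of_ne_of_ne (e.injective.ne hd03.symm)
          (e.injective.ne hd13.symm)] at this
        exact hd23 this.symm
    rw [← ho]
    exact orderOf_dvd_natCard _
  · -- tightly embedded
    rw [← hCdef]
    intro g hg
    rw [← Nat.not_even_iff_odd, even_iff_two_dvd]
    intro h2
    obtain ⟨⟨τ, hτC, hτg⟩, hτo⟩ := exists_prime_orderOf_dvd_card' 2 h2
    replace hτo : orderOf τ = 2 := (orderOf_injective (C ⊓ C.map (MulAut.conj g).toMonoidHom).subtype Subtype.val_injective _).trans hτo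
    obtain ⟨x, hxF, hgx⟩ : ∃ x ∈ F, g.1 x ∉ F := by
      by_contra hcon
      push Not at hcon
      exact hg (hNofP g (hpres g hcon)).2
    obtain ⟨σ, hσ, hσe⟩ := hτg
    have hsupp : τ.1.support ⊆ (F.erase x).image g.1 := by
      intro y hy
      rw [Equiv.Perm.mem_support] at hy
      have h1 : g⁻¹.1 y ∈ F := by
        by_contra h
        apply hy
        rw [← hσe]
        show (g * σ * g⁻¹).1 y = y
        rw [hconjapp, (hCmem σ).1 hσ _ h]
        simp
      refine Finset.mem_image.2 ⟨g⁻¹.1 y, Finset.mem_erase.2 ⟨fun h => ?_, h1⟩, by simp⟩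
      apply hy
      refine (hCmem τ).1 hτC y ?_
      have : y = g.1 x := by rw [← h]; simp
      rw [this]; exact hgx
    have hle : τ.1.support.card ≤ 3 := (Finset.card_le_card hsupp).trans
      ((Finset.card_image_le).trans (by rw [Finset.card_erase_of_mem hxF, hFc]))
    have hτo' : orderOf τ.1 = 2 := by rw [Subgroup.orderOf_coe]; exact hτo
    have hne : τ.1 ≠ 1 := fun h => by rw [h, orderOf_one] at hτo'; omega
    have h22 : 2 ∣ τ.1.support.card := by
      rw [← Equiv.Perm.sum_cycleType]
      exact Multiset.dvd_sum fun a ha => by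
        have := Equiv.Perm.dvd_of_mem_cycleType ha
        rw [hτo'] at this
        rcases (Nat.dvd_prime Nat.prime_two).1 this with h | h
        · exact absurd (Equiv.Perm.two_le_of_mem_cycleType ha) (by omega)
        · rw [h]
    have h2le := Equiv.Perm.two_le_card_support_of_ne_one hne
    have h22' : τ.1.support.card = 2 := by omega
    obtain ⟨a, b, hab, hswap⟩ := Equiv.Perm.card_support_eq_two.1 h22'
    have hsgn := Equiv.Perm.mem_alternatingGroup.1 τ.2
    rw [hswap, Equiv.Perm.sign_swap hab] at hsgn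
    exact absurd hsgn (by decide)
  · -- no commuting conjugate
    intro g hg hbot
    have hg' : ¬ ∀ x ∈ F, g.1 x ∈ F := fun h => hg (by
      ext σ
      have hN := (hNofP g (hpres g h)).1
      constructor
      · rintro ⟨w, hw, rfl⟩; exact (Subgroup.mem_normalizer_iff.1 hN w).1 hw
      · intro hσ
        exact ⟨g⁻¹ * σ * g, (Subgroup.mem_normalizer_iff''.1 hN σ).1 hσ, by simp [mul_assoc]⟩)
    obtain ⟨u, huF, hugu⟩ : ∃ u ∈ F, g⁻¹.1 u ∉ F := by
      by_contra hcon
      push Not at hcon
      apply hg'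
      intro x hx
      have := ((hinv g⁻¹ (hpres g⁻¹ hcon)) x).1 hx
      simpa using this
    obtain ⟨x, hx⟩ := exists_notMem (n := n) (S := F ∪ F.image g.1) (by
      have := Finset.card_union_le F (F.image g.1)
      have := Finset.card_image_le (s := F) (f := g.1)
      omega)
    simp only [Finset.mem_union, not_or] at hx
    obtain ⟨v, hv⟩ := exists_notMem (n := n) (S := insert x (insert u (F.image g.1))) (by
      have := Finset.card_insert_le u (F.image g.1)
      have := Finset.card_insert_le x (insert u (F.image g.1))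
      have := Finset.card_image_le (s := F) (f := g.1)
      omega)
    obtain ⟨y, hy⟩ := exists_notMem (n := n) (S := insert v (insert x F)) (by
      have := Finset.card_insert_le x F
      have := Finset.card_insert_le v (insert x F); omega)
    obtain ⟨z, hz⟩ := exists_notMem (n := n) (S := insert y (insert v (insert x F))) (by
      have := Finset.card_insert_le x F
      have := Finset.card_insert_le v (insert x F)
      have := Finset.card_insert_le y (insert v (insert x F)); omega)
    simp only [Finset.mem_insert, not_or] at hv hy hz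
    have hA : cyc x y z (Ne.symm hy.2.1) (Ne.symm hz.2.2.1) ∈ L := hcycL _ _ _ hx.1 hy.2.2 hz.2.2.2 _ _
    have hxu : x ≠ u := fun h => hx.1 (h ▸ huF)
    have hB : cyc x v u (Ne.symm hv.1) hxu ∈ L.map (MulAut.conj g).toMonoidHom := by
      refine ⟨g⁻¹ * cyc x v u (Ne.symm hv.1) hxu * g, ?_, by simp [mul_assoc]⟩
      rw [SetLike.mem_coe, hLmem]
      intro w hw
      have hgw : g.1 w ∈ F.image g.1 := Finset.mem_image_of_mem _ hw
      show g⁻¹.1 ((cyc x v u (Ne.symm hv.1) hxu).1 (g.1 w)) = w
      rw [cyc_other (Ne.symm hv.1) hxu]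
      · simp
      · exact fun e => hx.2 (e ▸ hgw)
      · exact fun e => hv.2.2 (e ▸ hgw)
      · intro e
        apply hugu
        have : g⁻¹.1 u = w := by rw [← e]; simp
        rw [this]; exact hw
    have hAB := commutatorElement_eq_one_iff_mul_comm.1 (Subgroup.mem_bot.1 (hbot ▸ Subgroup.commutator_mem_commutator hA hB))
    have h := congrArg (fun g : G => g.1 x) hAB
    simp only [Subgroup.coe_mul, Equiv.Perm.mul_apply] at h
    rw [cyc_fst (Ne.symm hy.2.1) (Ne.symm hz.2.2.1) (Ne.symm hz.1), cyc_fst (Ne.symm hv.1) hxu hv.2.1,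
      cyc_other (Ne.symm hy.2.1) (Ne.symm hz.2.2.1) hxu.symm (fun e => hy.2.2 (e ▸ huF)) (fun e => hz.2.2.2 (e ▸ huF)),
      cyc_other (Ne.symm hv.1) hxu hz.2.2.1 hz.2.1 (fun e => hz.2.2.2 (e ▸ huF))] at h
    exact hz.2.2.2 (h ▸ huF)
  · -- normalizers agree
    ext g
    exact ⟨fun h => (hNofP g (hNL g h)).2, fun h => (hNofP g (hNC g h)).1⟩

end Cfsg.Agent.S1323
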