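import Cfsg.Statements.S1337
import Cfsg.Agent.S0519
import Cfsg.Agent.PReduced.Hom

set_option autoImplicit false
open Cfsg

namespace Cfsg.Agent.S1337

/-- A normal subgroup of order at least `p ^ 2` of a `p`-group contains a normal subgroup of order `p ^ 2`. -/
theorem exists_normal_sq {P : Type*} [Group P] [Finite P] {p : ℕ} [hp : Fact p.Prime] (hP : IsPGroup p P)
    (N : Subgroup P) [N.Normal] (hN : p ^ 2 ≤ Nat.card N) :
    ∃ U : Subgroup P, U.Normal ∧ U ≤ N ∧ Nat.card U = p ^ 2 := by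
  classical
  have hp1 := hp.out.one_lt
  have hNne : N ≠ ⊥ := by
    rintro rfl
    rw [Subgroup.card_bot] at hN
    have := Nat.one_lt_pow (two_ne_zero) hp1
    omega
  have hord : ∀ {Q : Type _} [Group Q] [Finite Q], IsPGroup p Q → ∀ H : Subgroup Q, H ≠ ⊥ →
      ∃ x ∈ H, orderOf x = p := by
    intro Q _ _ hQ H hH
    haveI : Nontrivial H := (Subgroup.nontrivial_iff_ne_bot H).2 hH
    obtain ⟨n, hn⟩ := (hQ.to_subgroup H).exists_card_eq
    have hn0 : n ≠ 0 := by
      rintro rfl
      exact absurd (Finite.one_lt_card (α := H)) (by rw [hn]; simp)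
    obtain ⟨x, hx⟩ := exists_prime_orderOf_dvd_card' (G := H) p (hn ▸ dvd_pow_self p hn0)
    exact ⟨x, x.2, by rw [Subgroup.orderOf_coe]; exact hx⟩
  obtain ⟨z, ⟨hzN, hzc⟩, hzo⟩ := hord hP (N ⊓ Subgroup.center P) (CfsgLib.PReduced.inf_center_ne_bot hP hNne)
  have hzn : (Subgroup.zpowers z).Normal := ⟨fun x hx g => by
    obtain ⟨k, rfl⟩ := hx
    have hc : g * z ^ k * g⁻¹ = z ^ k := by
      rw [Subgroup.mem_center_iff.1 (Subgroup.zpow_mem _ hzc k) g, mul_inv_cancel_right]
    rw [hc]; exact ⟨k, rfl⟩⟩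
  set π := QuotientGroup.mk' (Subgroup.zpowers z) with hπ
  have hπs : Function.Surjective π := QuotientGroup.mk'_surjective _
  haveI : (N.map π).Normal := Subgroup.Normal.map inferInstance π hπs
  have hMne : N.map π ≠ ⊥ := by
    intro h
    rw [Subgroup.map_eq_bot_iff, hπ, QuotientGroup.ker_mk'] at h
    have := Subgroup.card_le_of_le h
    rw [Nat.card_zpowers, hzo] at this
    nlinarith
  obtain ⟨w, ⟨hwN, hwc⟩, hwo⟩ := hord (hP.to_quotient _) _
    (CfsgLib.PReduced.inf_center_ne_bot (hP.to_quotient _) hMne)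
  refine ⟨(Subgroup.zpowers w).comap π, ?_, ?_, ?_⟩
  · refine ⟨fun x hx g => ?_⟩
    show π (g * x * g⁻¹) ∈ Subgroup.zpowers w
    obtain ⟨k, hk⟩ := hx
    rw [map_mul, map_mul, map_inv, ← hk, Subgroup.mem_center_iff.1 (Subgroup.zpow_mem _ hwc k), mul_inv_cancel_right]
    exact ⟨k, rfl⟩
  · intro x hx
    have h1 : π x ∈ N.map π := (Subgroup.zpowers_le.2 hwN) hx
    have h2 : x ∈ (N.map π).comap π := h1
    rwa [Subgroup.comap_map_eq_self] at h2
    rw [hπ, QuotientGroup.ker_mk']
    exact Subgroup.zpowers_le.2 hzN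
  · have h1 := Subgroup.card_mul_index ((Subgroup.zpowers w).comap π)
    rw [Subgroup.index_comap_of_surjective _ hπs] at h1
    have h2 := Subgroup.card_mul_index (Subgroup.zpowers w)
    have h3 : Nat.card P = Nat.card (P ⧸ Subgroup.zpowers z) * p := by
      rw [Subgroup.card_eq_card_quotient_mul_card_subgroup (Subgroup.zpowers z), Nat.card_zpowers, hzo]
    rw [h3, ← h2, Nat.card_zpowers, hwo] at h1
    have hne : (Subgroup.zpowers w).index ≠ 0 := Subgroup.index_ne_zero_of_finite
    refine Nat.eq_of_mul_eq_mul_right (Nat.pos_of_ne_zero hne) (h1.trans ?_)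
    ring

/-- A group with a cyclic subgroup of index 2 has 2-rank at most 2. -/
theorem rank_le_two_of_cyclic {P : Type*} [Group P] [Finite P] {C : Subgroup P} [IsCyclic C] (hC : C.index = 2) :
    Cfsg.PRankLE 2 2 P := by
  classical
  haveI : C.Normal := Subgroup.normal_of_index_eq_two hC
  intro A hA hA2
  haveI : IsCyclic (C.subgroupOf A) := by
    refine isCyclic_of_injective ((A.subtype.comp (C.subgroupOf A).subtype).codRestrict C (fun x => x.2)) ?_
    intro x y h
    have h' := congrArg (fun z : C => (z : P)) h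
    exact Subtype.ext (Subtype.ext h')
  have h1 : Nat.card (C.subgroupOf A) ≤ 2 := by
    obtain ⟨g, hg⟩ := IsCyclic.exists_ofOrder_eq_natCard (α := C.subgroupOf A)
    rw [← hg]
    exact orderOf_le_of_pow_eq_one two_pos (Subtype.ext (Subtype.ext (by
      rw [SubgroupClass.coe_pow, SubgroupClass.coe_pow]; exact hA2 _ (g : A).2)))
  have h2 : (C.subgroupOf A).index ≤ 2 := by
    show C.relIndex A ≤ 2
    rw [← hC]
    exact Nat.le_of_dvd (by omega) (by rw [← hC]; exact Subgroup.relIndex_dvd_index_of_normal C A) |>.trans hC.ge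
  rw [← Subgroup.card_mul_index (C.subgroupOf A)]
  calc _ ≤ 2 * 2 := Nat.mul_le_mul h1 h2
    _ = 2 ^ 2 := by norm_num

/-- Product of two commuting elementary abelian subgroups. -/
theorem elem_sup {P : Type*} [Group P] {p : ℕ} {A B : Subgroup P} (hA : Cfsg.IsElementaryAbelian p A)
    (hB : Cfsg.IsElementaryAbelian p B) (hc : ∀ a ∈ A, ∀ b ∈ B, a * b = b * a) :
    Cfsg.IsElementaryAbelian p (A ⊔ B : Subgroup P) := by
  have hcl : A ⊔ B = Subgroup.closure ((A : Set P) ∪ B) := by rw [Subgroup.closure_union, A.closure_eq, B.closure_eq]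
  have hcomm : ∀ x ∈ (A : Set P) ∪ B, ∀ y ∈ (A : Set P) ∪ B, x * y = y * x := by
    rintro x (hx | hx) y (hy | hy)
    · exact congrArg Subtype.val (hA.1.is_comm.comm ⟨x, hx⟩ ⟨y, hy⟩)
    · exact hc x hx y hy
    · exact (hc y hy x hx).symm
    · exact congrArg Subtype.val (hB.1.is_comm.comm ⟨x, hx⟩ ⟨y, hy⟩)
  have hab : IsMulCommutative ↥(Subgroup.closure ((A : Set P) ∪ B)) := Subgroup.isMulCommutative_closure hcomm
  rw [hcl]
  refine ⟨hab, fun x hx => ?_⟩
  induction hx using Subgroup.closure_induction with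
  | mem y hy => rcases hy with hy | hy; exact hA.2 y hy; exact hB.2 y hy
  | one => exact one_pow p
  | mul y z hy hz hy1 hz1 =>
    have : Commute y z := congrArg Subtype.val (hab.is_comm.comm ⟨y, hy⟩ ⟨z, hz⟩)
    rw [this.mul_pow, hy1, hz1, one_mul]
  | inv y _ hy1 => rw [inv_pow, hy1, inv_one]

theorem not_rank_of_le {P : Type*} [Group P] [Finite P] {p : ℕ} {A C : Subgroup P}
    (hA : Cfsg.IsElementaryAbelian p A) (hAC : A ≤ C) (hc : p ^ 2 < Nat.card A) : ¬ Cfsg.PRankLE p 2 ↥C := by
  intro h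
  have := h (A.subgroupOf C)
    ⟨⟨fun a b => Subtype.ext (Subtype.ext (show ((a : C) : P) * (b : C) = (b : C) * (a : C) from congrArg Subtype.val (hA.1.is_comm.comm ⟨_, a.2⟩ ⟨_, b.2⟩)))⟩⟩
    (fun a ha => Subtype.ext (by rw [SubgroupClass.coe_pow]; exact hA.2 _ ha))
  rw [Nat.card_congr (Subgroup.subgroupOfEquivOfLe hAC).toEquiv] at this
  omega

theorem exists_elem_of_not_rank {P : Type*} [Group P] {p : ℕ} {C : Subgroup P} (h : ¬ Cfsg.PRankLE p 2 ↥C) :
    ∃ A : Subgroup P, A ≤ C ∧ Cfsg.IsElementaryAbelian p A ∧ p ^ 2 < Nat.card A := by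
  simp only [Cfsg.PRankLE, not_forall, not_le] at h
  obtain ⟨A, hA, hAp, hc⟩ := h
  refine ⟨A.map C.subtype, Subgroup.map_subtype_le A, ⟨?_, ?_⟩, ?_⟩
  · haveI := hA; exact Subgroup.map_isMulCommutative A _
  · rintro _ ⟨a, ha, rfl⟩
    rw [← map_pow, hAp a ha, map_one]
  · rwa [Nat.card_congr (A.equivMapOfInjective C.subtype Subtype.val_injective).toEquiv] at hc

/-- Let P be a finite p-group of p-rank greater than 2. Then P has a normal elementary abelian subgroup U of order p², and for every elementary abelian X ≤ P with |X| ≥ p²: X is joined to U by a chain of pairwise commuting elementary abelian subgroups of order ≥ p² if and only if C_P(X) has p-rank greater than 2. -/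
theorem result {P : Type*} [Group P] [Finite P] (p : ℕ) [Fact p.Prime] (hP : IsPGroup p P) (hrk : ¬ Cfsg.PRankLE p 2 P) : ∃ U : Subgroup P, U.Normal ∧ Cfsg.IsElementaryAbelian p U ∧ Nat.card ↥U = p ^ 2 ∧ ∀ X : Subgroup P, Cfsg.IsElementaryAbelian p X → p ^ 2 ≤ Nat.card ↥X → (Relation.ReflTransGen (fun A B : Subgroup P => Cfsg.IsElementaryAbelian p A ∧ p ^ 2 ≤ Nat.card ↥A ∧ Cfsg.IsElementaryAbelian p B ∧ p ^ 2 ≤ Nat.card ↥B ∧ ∀ a ∈ A, ∀ b ∈ B, a * b = b * a) X U ↔ ¬ Cfsg.PRankLE p 2 ↥(Subgroup.centralizer (X : Set P))) := by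
  classical
  have hp : p.Prime := Fact.out
  have hrk' := hrk
  simp only [Cfsg.PRankLE, not_forall, not_le] at hrk'
  obtain ⟨E, hEc, hEp, hEcard⟩ := hrk'
  have hE : Cfsg.IsElementaryAbelian p E := ⟨hEc, hEp⟩
  have hEnc : ¬ IsCyclic E := by
    intro h
    obtain ⟨g, hg⟩ := IsCyclic.exists_ofOrder_eq_natCard (α := E)
    have h1 : g ^ p = 1 := Subtype.ext (by rw [SubgroupClass.coe_pow]; exact hEp g g.2)
    have := Nat.le_of_dvd hp.pos (orderOf_dvd_of_pow_eq_one h1)
    rw [hg] at this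
    have := Nat.le_self_pow (two_ne_zero) p
    omega
  obtain ⟨N, hNn, hNe, hNc⟩ : ∃ N : Subgroup P, N.Normal ∧ Cfsg.IsElementaryAbelian p N ∧ p ^ 2 ≤ Nat.card N := by
    by_contra hcon
    push Not at hcon
    have hall : ∀ A : Subgroup P, A.Normal → IsMulCommutative A → IsCyclic A := by
      intro A hAn hAc
      haveI := hAn
      let W : Subgroup P :=
        { carrier := {x | x ∈ A ∧ x ^ p = 1}
          one_mem' := ⟨A.one_mem, one_pow p⟩
          mul_mem' := fun {x y} hx hy => ⟨A.mul_mem hx.1 hy.1, by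
            rw [(show Commute x y from congrArg Subtype.val (hAc.is_comm.comm ⟨x, hx.1⟩ ⟨y, hy.1⟩)).mul_pow,
              hx.2, hy.2, one_mul]⟩
          inv_mem' := fun {x} hx => ⟨A.inv_mem hx.1, by rw [inv_pow, hx.2, inv_one]⟩ }
      have hW : W.Normal := ⟨fun x hx g => ⟨hAn.conj_mem x hx.1 g, by rw [conj_pow, hx.2, mul_one, mul_inv_cancel]⟩⟩
      have hWe : Cfsg.IsElementaryAbelian p W :=
        ⟨⟨⟨fun a b => Subtype.ext (show (a : P) * b = b * a from
          congrArg Subtype.val (hAc.is_comm.comm ⟨_, a.2.1⟩ ⟨_, b.2.1⟩))⟩⟩, fun a ha => ha.2⟩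
      have hlt := hcon W hW hWe
      refine CfsgLib.RankOneP.isCyclic_of_commute (p := p) (hP.to_subgroup A) ?_ hAc.is_comm.comm
      intro x y hx hy hx1
      by_contra hy'
      -- `x, y` give at least `p ^ 2` elements of `W`
      have hxW : (x : P) ∈ W := ⟨x.2, by rw [← SubgroupClass.coe_pow, hx]; rfl⟩
      have hyW : (y : P) ∈ W := ⟨y.2, by rw [← SubgroupClass.coe_pow, hy]; rfl⟩
      have hxo : orderOf (x : P) = p := by rw [Subgroup.orderOf_coe]; exact orderOf_eq_prime hx hx1
      obtain ⟨k, hk⟩ := (hP.to_subgroup W).exists_card_eq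
      have hle : Subgroup.zpowers (x : P) ≤ W := Subgroup.zpowers_le.2 hxW
      have hk1 : k ≤ 1 := by
        by_contra h
        exact absurd hlt (not_lt.2 (hk ▸ Nat.pow_le_pow_right hp.pos (by omega)))
      have : Subgroup.zpowers (x : P) = W := Subgroup.eq_of_le_of_card_ge hle (by
        rw [Nat.card_zpowers, hxo, hk]
        calc p ^ k ≤ p ^ 1 := Nat.pow_le_pow_right hp.pos hk1
          _ = p := pow_one p)
      rw [← this] at hyW
      obtain ⟨j, hj⟩ := hyW
      exact hy' ⟨j, Subtype.ext (by simpa using hj)⟩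
    obtain ⟨hp2, hcases⟩ := Cfsg.Agent.S0519.result p hP hall ⟨E, hEc, hEnc⟩
    subst hp2
    obtain ⟨C, hCc, hCi⟩ : ∃ C : Subgroup P, IsCyclic C ∧ C.index = 2 := by
      have key : ∀ (x : P) (N : ℕ), 0 < N → orderOf x = N → Nat.card P = 2 * N →
          ∃ C : Subgroup P, IsCyclic C ∧ C.index = 2 := by
        intro x N hN hx hc
        refine ⟨Subgroup.zpowers x, inferInstance, ?_⟩
        have := Subgroup.card_mul_index (Subgroup.zpowers x)
        rw [Nat.card_zpowers, hx, hc, mul_comm 2 N] at this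
        exact Nat.eq_of_mul_eq_mul_left hN this
      rcases hcases with ⟨n, ⟨e⟩⟩ | ⟨n, hn, ⟨e⟩⟩ | ⟨n, hn, hc, x, y, hx, hy, -⟩
      · haveI : Finite (QuaternionGroup n) := Finite.of_equiv P e.toEquiv
        haveI hn : NeZero n := ⟨by
          rintro rfl
          have h0 : Finite ℤ := Finite.of_injective (fun i : ZMod (2 * 0) => (QuaternionGroup.a i : QuaternionGroup 0))
            (fun i j h => QuaternionGroup.a.inj h)
          exact not_finite ℤ⟩
        refine key (e.symm (QuaternionGroup.a 1)) (2 * n) (by have := hn.out; omega) ?_ ?_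
        · rw [MulEquiv.orderOf_eq, QuaternionGroup.orderOf_a_one]
        · rw [Nat.card_congr e.toEquiv, Nat.card_eq_fintype_card, QuaternionGroup.card]; ring
      · refine key (e.symm (DihedralGroup.r 1)) n (by omega) ?_ ?_
        · rw [MulEquiv.orderOf_eq, DihedralGroup.orderOf_r_one]
        · rw [Nat.card_congr e.toEquiv, DihedralGroup.nat_card]
      · exact key x (2 ^ n) (by positivity) hx (by rw [hc, pow_succ'])
    haveI := hCc
    exact hrk (rank_le_two_of_cyclic hCi)
  haveI := hNn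
  obtain ⟨U, hUn, hUN, hUc⟩ := exists_normal_sq hP N hNc
  have hUe : Cfsg.IsElementaryAbelian p U :=
    ⟨⟨⟨fun a b => Subtype.ext (show (a : P) * b = b * a from congrArg Subtype.val (hNe.1.is_comm.comm ⟨_, hUN a.2⟩ ⟨_, hUN b.2⟩))⟩⟩,
      fun a ha => hNe.2 a (hUN ha)⟩
  haveI := hUn
  have hidx : (Subgroup.centralizer (U : Set P)).index ≤ p := by
    -- a group of order `p ^ 2` with a nontrivial fixed subgroup
    obtain ⟨z, ⟨hzU, hzc⟩, hz1⟩ : ∃ z ∈ U ⊓ Subgroup.center P, z ≠ 1 := by
      have hUne : U ≠ ⊥ := by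
        rintro rfl
        rw [Subgroup.card_bot] at hUc
        exact absurd hUc (Nat.one_lt_pow two_ne_zero hp.one_lt).ne
      have := CfsgLib.PReduced.inf_center_ne_bot hP hUne
      simpa [Subgroup.eq_bot_iff_forall, and_assoc] using this
    have hzo : orderOf z = p := orderOf_eq_prime (hUe.2 z hzU) hz1
    obtain ⟨u, huU, huz⟩ : ∃ u ∈ U, u ∉ Subgroup.zpowers z := by
      by_contra h
      push Not at h
      have := Subgroup.card_le_of_le (show U ≤ Subgroup.zpowers z from h)
      rw [Nat.card_zpowers, hzo, hUc] at this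
      have := hp.two_le
      nlinarith
    have hgen : Subgroup.zpowers z ⊔ Subgroup.zpowers u = U := by
      refine Subgroup.eq_of_le_of_card_ge (sup_le (Subgroup.zpowers_le.2 hzU) (Subgroup.zpowers_le.2 huU)) ?_
      obtain ⟨k, hk⟩ := (hP.to_subgroup (Subgroup.zpowers z ⊔ Subgroup.zpowers u)).exists_card_eq
      rw [hUc, hk]
      refine Nat.pow_le_pow_right hp.pos ?_
      by_contra hk2
      have hh : Subgroup.zpowers z = Subgroup.zpowers z ⊔ Subgroup.zpowers u :=
        Subgroup.eq_of_le_of_card_ge le_sup_left (by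
          rw [Nat.card_zpowers, hzo, hk]
          calc p ^ k ≤ p ^ 1 := Nat.pow_le_pow_right hp.pos (by omega)
            _ = p := pow_one p)
      exact huz (hh ▸ Subgroup.mem_sup_right (Subgroup.mem_zpowers u))
    -- the map g ↦ [g,u] into ⟨z⟩-cosets: orbit of u has at most p elements
    have hC : Subgroup.centralizer ({u} : Set P) ≤ Subgroup.centralizer (U : Set P) := by
      intro g hg
      rw [← hgen, Subgroup.mem_centralizer_iff]
      have hle : Subgroup.zpowers z ⊔ Subgroup.zpowers u ≤ Subgroup.centralizer ({g} : Set P) := by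
        refine sup_le (Subgroup.zpowers_le.2 ?_) (Subgroup.zpowers_le.2 ?_)
        · rw [Subgroup.mem_centralizer_singleton_iff]
          exact (Subgroup.mem_center_iff.1 hzc g).symm
        · rw [Subgroup.mem_centralizer_singleton_iff]
          exact (Subgroup.mem_centralizer_singleton_iff.1 hg).symm
      exact fun x hx => Subgroup.mem_centralizer_singleton_iff.1 (hle hx)
    refine le_trans (Nat.le_of_dvd (Nat.pos_of_ne_zero Subgroup.index_ne_zero_of_finite)
      (Subgroup.index_dvd_of_le hC)) ?_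
    have horb : (Subgroup.centralizer ({u} : Set P)).index = Nat.card (MulAction.orbit (ConjAct P) u) := by
      haveI : Finite (ConjAct P) := Finite.of_equiv P ConjAct.toConjAct.toEquiv
      have h1 := Subgroup.card_mul_index (Subgroup.centralizer ({u} : Set P))
      have h2 := Subgroup.card_mul_index (MulAction.stabilizer (ConjAct P) u)
      rw [Subgroup.nat_card_centralizer_nat_card_stabilizer] at h1
      rw [MulAction.index_stabilizer, ← Nat.card_coe_set_eq, Nat.card_congr ConjAct.ofConjAct.toEquiv, ← h1] at h2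
      exact (Nat.eq_of_mul_eq_mul_left Nat.card_pos h2).symm
    rw [horb]
    obtain ⟨k, hk⟩ : ∃ k, Nat.card (MulAction.orbit (ConjAct P) u) = p ^ k := (hP.of_equiv ConjAct.toConjAct).card_orbit u
    rw [hk]
    have hsub : MulAction.orbit (ConjAct P) u ⊆ (U : Set P) \ {1} := by
      rintro x ⟨g, rfl⟩
      refine ⟨?_, ?_⟩
      · show g • u ∈ U
        rw [ConjAct.smul_def]
        exact hUn.conj_mem u huU _
      · intro h
        apply huz
        have : g • u = (1 : P) := h
        rw [ConjAct.smul_def, mul_inv_eq_one] at this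
        rw [mul_eq_left.1 this]
        exact Subgroup.one_mem _
    have hlt : p ^ k < p ^ 2 := by
      rw [← hk, ← hUc, Nat.card_coe_set_eq, ← SetLike.coe_sort_coe, Nat.card_coe_set_eq]
      exact lt_of_le_of_lt (Set.ncard_le_ncard hsub) (Set.ncard_diff_singleton_lt_of_mem U.one_mem)
    have : k < 2 := (Nat.pow_lt_pow_iff_right hp.one_lt).1 hlt
    calc p ^ k ≤ p ^ 1 := Nat.pow_le_pow_right hp.pos (by omega)
      _ = p := pow_one p
  have hmeet : ∀ F : Subgroup P, p ^ 2 < Nat.card F → p ^ 2 ≤ Nat.card ↥(F ⊓ Subgroup.centralizer (U : Set P)) := by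
    intro F hF
    obtain ⟨k, hk⟩ := (hP.to_subgroup (F ⊓ Subgroup.centralizer (U : Set P) : Subgroup P)).exists_card_eq
    obtain ⟨m, hm⟩ := (hP.to_subgroup F).exists_card_eq
    have h1 := Subgroup.card_mul_index ((Subgroup.centralizer (U : Set P)).subgroupOf F)
    have h2 : ((Subgroup.centralizer (U : Set P)).subgroupOf F).index ≤ p := by
      haveI : (Subgroup.centralizer (U : Set P)).Normal := Subgroup.normal_centralizer
      exact (Nat.le_of_dvd (Nat.pos_of_ne_zero Subgroup.index_ne_zero_of_finite)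
        (Subgroup.relIndex_dvd_index_of_normal _ F)).trans hidx
    have h3 : Nat.card ↥((Subgroup.centralizer (U : Set P)).subgroupOf F) = p ^ k := by
      rw [← hk, ← Subgroup.card_map_of_injective Subtype.val_injective (f := F.subtype),
        Subgroup.subgroupOf_map_subtype, inf_comm]
    rw [h3, hm] at h1
    rw [hm] at hF
    have hm2 : 2 < m := (Nat.pow_lt_pow_iff_right hp.one_lt).1 hF
    rw [hk]
    refine Nat.pow_le_pow_right hp.pos ?_
    by_contra hk2
    have : p ^ m ≤ p ^ k * p := h1 ▸ Nat.mul_le_mul_left _ h2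
    rw [← pow_succ] at this
    have := (Nat.pow_le_pow_iff_right hp.one_lt).1 this
    omega
  have hbig : ¬ Cfsg.PRankLE p 2 ↥(Subgroup.centralizer (U : Set P)) := by
    have hFc := hmeet E hEcard
    set F := E ⊓ Subgroup.centralizer (U : Set P)
    have hFe : Cfsg.IsElementaryAbelian p F :=
      ⟨⟨⟨fun a b => Subtype.ext (show (a : P) * b = b * a from congrArg Subtype.val (hEc.is_comm.comm ⟨_, a.2.1⟩ ⟨_, b.2.1⟩))⟩⟩,
        fun a ha => hEp a ha.1⟩
    by_cases hFU : F ≤ U
    · have hFU' : F = U := Subgroup.eq_of_le_of_card_ge hFU (hUc.trans_le hFc)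
      refine not_rank_of_le hE (fun x hx => Subgroup.mem_centralizer_iff.2 fun u hu => ?_) hEcard
      exact congrArg Subtype.val (hEc.is_comm.comm ⟨u, (hFU' ▸ hu : u ∈ F).1⟩ ⟨x, hx⟩)
    · refine not_rank_of_le (elem_sup hFe hUe fun a ha b hb => (Subgroup.mem_centralizer_iff.1 ha.2 b hb).symm) ?_ ?_
      · exact sup_le inf_le_right fun x hx => Subgroup.mem_centralizer_iff.2 fun u hu =>
          congrArg Subtype.val (hUe.1.is_comm.comm ⟨u, hu⟩ ⟨x, hx⟩)
      · rw [← hUc]
        by_contra hge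
        exact hFU (le_sup_left.trans (Subgroup.eq_of_le_of_card_ge le_sup_right (not_lt.1 hge)).ge)
  refine ⟨U, hUn, hUe, hUc, fun X hX hXc => ⟨fun h => ?_, fun h => ?_⟩⟩
  · induction h using Relation.ReflTransGen.head_induction_on with
    | refl => exact hbig
    | @head A B hAB _ ih =>
      obtain ⟨hA, hA2, hB, hB2, hc⟩ := hAB
      by_cases hBA : B ≤ A
      · by_cases hAB' : A ≤ B
        · rw [le_antisymm hAB' hBA]; exact ih hB hB2
        · refine not_rank_of_le hA (fun x hx => Subgroup.mem_centralizer_iff.2 fun y hy =>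
            congrArg Subtype.val (hA.1.is_comm.comm ⟨y, hy⟩ ⟨x, hx⟩)) ?_
          by_contra hge
          exact hAB' (Subgroup.eq_of_le_of_card_ge hBA ((not_lt.1 hge).trans hB2)).ge
      · refine not_rank_of_le (elem_sup hA hB hc) (sup_le (fun x hx => Subgroup.mem_centralizer_iff.2 fun y hy =>
            congrArg Subtype.val (hA.1.is_comm.comm ⟨y, hy⟩ ⟨x, hx⟩))
          (fun x hx => Subgroup.mem_centralizer_iff.2 fun y hy => hc y hy x hx)) ?_
        by_contra hge
        exact hBA (le_sup_right.trans (Subgroup.eq_of_le_of_card_ge le_sup_left ((not_lt.1 hge).trans hA2)).ge)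
  · obtain ⟨F, hFC, hF, hFc⟩ := exists_elem_of_not_rank h
    set F' := F ⊓ Subgroup.centralizer (U : Set P) with hF'
    have hF'e : Cfsg.IsElementaryAbelian p F' :=
      ⟨⟨⟨fun a b => Subtype.ext (show (a : P) * b = b * a from congrArg Subtype.val (hF.1.is_comm.comm ⟨_, a.2.1⟩ ⟨_, b.2.1⟩))⟩⟩,
        fun a ha => hF.2 a ha.1⟩
    refine Relation.ReflTransGen.head ⟨hX, hXc, hF, hFc.le, fun a ha b hb =>
      Subgroup.mem_centralizer_iff.1 (hFC hb) a ha⟩ ?_
    refine Relation.ReflTransGen.head ⟨hF, hFc.le, hF'e, hmeet F hFc, fun a ha b hb =>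
      congrArg Subtype.val (hF.1.is_comm.comm ⟨a, ha⟩ ⟨b, hb.1⟩)⟩ ?_
    exact Relation.ReflTransGen.single ⟨hF'e, hmeet F hFc, hUe, hUc.ge, fun a ha b hb =>
      (Subgroup.mem_centralizer_iff.1 ha.2 b hb).symm⟩

end Cfsg.Agent.S1337
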