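import Cfsg.Statements.S1339
import Mathlib
import Cfsg.Agent.Components.Basic
import Cfsg.Agent.PCore.Basic

set_option autoImplicit false
open Cfsg

namespace Cfsg.Agent.S1339

/-- Let F be a field with 2 elements, n ≥ 3, and t ∈ SL(n, F) a transvection (t = 1 + E_{ij}, i ≠ j). Then the generalized Fitting subgroup of C(t) is O_2(C(t)). -/
theorem result {F : Type*} [Field F] [Fintype F] [DecidableEq F] (hF : Fintype.card F = 2) (n : ℕ) (hn : 3 ≤ n) (i j : Fin n) (hij : i ≠ j) (t : Matrix.SpecialLinearGroup (Fin n) F) (ht : (t : Matrix (Fin n) (Fin n) F) = Matrix.transvection i j 1) : Cfsg.generalizedFittingSubgroup ↥(Subgroup.centralizer ({t} : Set (Matrix.SpecialLinearGroup (Fin n) F))) = Cfsg.pCore 2 ↥(Subgroup.centralizer ({t} : Set (Matrix.SpecialLinearGroup (Fin n) F))) := by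
  classical
  haveI : Fact (Nat.Prime 2) := ⟨Nat.prime_two⟩
  have h01 : ∀ x : F, x = 0 ∨ x = 1 := by
    intro x
    by_contra h
    push Not at h
    have h1 := Finset.card_le_univ ({0, 1, x} : Finset F)
    rw [Finset.card_eq_three.2 ⟨0, 1, x, zero_ne_one, h.1.symm, h.2.symm, rfl⟩, hF] at h1
    omega
  have hone : (1 : F) + 1 = 0 := (h01 _).resolve_right (by
    intro h
    exact one_ne_zero (add_left_cancel (h.trans (add_zero (1 : F)).symm)))
  set C := Subgroup.centralizer ({t} : Set (Matrix.SpecialLinearGroup (Fin n) F)) with hC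
  have hcomm : ∀ g : Matrix.SpecialLinearGroup (Fin n) F, g ∈ C ↔
      (g : Matrix (Fin n) (Fin n) F) * Matrix.single i j 1 = Matrix.single i j 1 * (g : Matrix (Fin n) (Fin n) F) := by
    intro g
    rw [hC, Subgroup.mem_centralizer_singleton_iff]
    constructor
    · intro h
      have := congrArg Subtype.val h
      simp only [Matrix.SpecialLinearGroup.coe_mul, ht, Matrix.transvection, Matrix.mul_add, Matrix.add_mul, mul_one, one_mul] at this
      exact add_left_cancel this
    · intro h
      refine Subtype.ext ?_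
      simp only [Matrix.SpecialLinearGroup.coe_mul, ht, Matrix.transvection, Matrix.mul_add, Matrix.add_mul, mul_one, one_mul, h]
  have hentry : ∀ g ∈ C, (∀ k, k ≠ i → (g : Matrix (Fin n) (Fin n) F) k i = 0) ∧ (∀ l, l ≠ j → (g : Matrix (Fin n) (Fin n) F) j l = 0) ∧
      (g : Matrix (Fin n) (Fin n) F) i i = 1 ∧ (g : Matrix (Fin n) (Fin n) F) j j = 1 := by
    intro g hg
    rw [hcomm] at hg
    have h1 : ∀ k, k ≠ i → (g : Matrix (Fin n) (Fin n) F) k i = 0 := fun k hk => by
      have := congrFun (congrFun hg k) j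
      simpa [Matrix.mul_apply, Matrix.single, hk, hk.symm] using this
    have h2 : ∀ l, l ≠ j → (g : Matrix (Fin n) (Fin n) F) j l = 0 := fun l hl => by
      have := congrFun (congrFun hg i) l
      simpa [Matrix.mul_apply, Matrix.single, hl, hl.symm] using this.symm
    have h3 : (g : Matrix (Fin n) (Fin n) F) i i = (g : Matrix (Fin n) (Fin n) F) j j := by
      have := congrFun (congrFun hg i) j
      simpa [Matrix.mul_apply, Matrix.single] using this
    have h4 : (g : Matrix (Fin n) (Fin n) F) i i = 1 := by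
      refine (h01 _).resolve_left fun h => ?_
      have : (g : Matrix (Fin n) (Fin n) F).det = 0 := by
        refine Matrix.det_eq_zero_of_column_eq_zero i fun k => ?_
        by_cases hk : k = i
        · rw [hk]; exact h
        · exact h1 k hk
      rw [Matrix.SpecialLinearGroup.det_coe] at this
      exact one_ne_zero this
    exact ⟨h1, h2, h4, h3.symm.trans h4⟩
  let N : C → Matrix (Fin n) (Fin n) F := fun g => ((g : Matrix.SpecialLinearGroup (Fin n) F) : Matrix (Fin n) (Fin n) F) - 1
  have hNmul : ∀ a b : C, N (a * b) = N a * N b + N a + N b := fun a b => by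
    show ((a : Matrix.SpecialLinearGroup (Fin n) F) : Matrix (Fin n) (Fin n) F) * ((b : Matrix.SpecialLinearGroup (Fin n) F) : Matrix (Fin n) (Fin n) F) - 1 = _
    simp only [N]; noncomm_ring
  have hNcol : ∀ (a : C) k, N a k i = 0 := fun a k => by
    obtain ⟨h1, -, h3, -⟩ := hentry a a.2
    simp only [N, Matrix.sub_apply, Matrix.one_apply]
    by_cases hk : k = i
    · subst hk; rw [h3, if_pos rfl, sub_self]
    · rw [h1 k hk, if_neg hk, sub_zero]
  have hNrow : ∀ (a : C) l, N a j l = 0 := fun a l => by
    obtain ⟨-, h2, -, h4⟩ := hentry a a.2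
    simp only [N, Matrix.sub_apply, Matrix.one_apply]
    by_cases hl : l = j
    · subst hl; rw [h4, if_pos rfl, sub_self]
    · rw [h2 l hl, if_neg (Ne.symm hl), sub_zero]
  let P : C → Prop := fun a => ∀ k l, k ≠ i → l ≠ j → N a k l = 0
  have hPmul : ∀ a b, P a → P b → P (a * b) := by
    intro a b ha hb k l hk hl
    have hz : (N a * N b) k l = 0 := by
      rw [Matrix.mul_apply]
      refine Finset.sum_eq_zero fun m _ => ?_
      by_cases hm : m = j
      · subst hm; rw [hNrow b l, mul_zero]
      · rw [ha k m hk hm, zero_mul]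
    rw [hNmul, Matrix.add_apply, Matrix.add_apply, hz, ha k l hk hl, hb k l hk hl, add_zero, add_zero]
  have hP1 : P 1 := fun k l _ _ => by simp [N]
  have hsqr : ∀ a, P a → ∀ k l, (k ≠ i ∨ l ≠ j) → (N a * N a) k l = 0 := by
    intro a ha k l hkl
    rw [Matrix.mul_apply]
    refine Finset.sum_eq_zero fun m _ => ?_
    by_cases hm : m = j
    · subst hm; rw [hNrow a l, mul_zero]
    by_cases hmi : m = i
    · subst hmi; rw [hNcol a k, zero_mul]
    by_cases hk : k = i
    · rw [ha m l hmi (hkl.resolve_left (not_not_intro hk)), mul_zero]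
    · rw [ha k m hk hm, zero_mul]
  have hself : ∀ A : Matrix (Fin n) (Fin n) F, A + A = 0 := fun A => by
    ext k l
    rw [Matrix.add_apply, ← mul_one (A k l), ← mul_add, hone, mul_zero, Matrix.zero_apply]
  have hpow : ∀ a, P a → a ^ 4 = 1 := by
    intro a ha
    have h2 : N (a * a) = N a * N a := by rw [hNmul, add_assoc, hself, add_zero]
    have h4 : N (a * a * (a * a)) = 0 := by
      rw [hNmul, add_assoc, hself, add_zero, h2]
      ext k l
      rw [Matrix.mul_apply, Matrix.zero_apply]
      refine Finset.sum_eq_zero fun m _ => ?_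
      by_cases hm : m = j
      · subst hm; rw [hsqr a ha m l (Or.inl (Ne.symm hij)), mul_zero]
      · rw [hsqr a ha k m (Or.inr hm), zero_mul]
    have h5 : a * a * (a * a) = 1 := Subtype.ext (Subtype.ext (sub_eq_zero.1 h4))
    rw [pow_succ, pow_succ, pow_two]
    rw [← h5]; group
  let Q : Subgroup C :=
    { carrier := {a | P a}
      one_mem' := hP1
      mul_mem' := fun {a b} => hPmul a b
      inv_mem' := fun {a} ha => by
        have h : a⁻¹ = a * a * a := by
          rw [inv_eq_iff_mul_eq_one]
          have := hpow a ha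
          rw [pow_succ, pow_succ, pow_two] at this
          rw [← this]; group
        show P a⁻¹
        rw [h]; exact hPmul _ _ (hPmul _ _ ha ha) ha }
  have hQ2 : IsPGroup 2 Q := fun a => ⟨2, Subtype.ext (hpow a a.2)⟩
  have hQn : Q.Normal := ⟨fun a ha g => by
    have e : N (g * a * g⁻¹) = ((g : Matrix.SpecialLinearGroup (Fin n) F) : Matrix (Fin n) (Fin n) F) * N a *
        ((g⁻¹ : C) : Matrix.SpecialLinearGroup (Fin n) F).1 := by
      have h : ((g : Matrix.SpecialLinearGroup (Fin n) F) : Matrix (Fin n) (Fin n) F) * ((g⁻¹ : C) : Matrix.SpecialLinearGroup (Fin n) F).1 = 1 :=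
        congrArg Subtype.val (congrArg Subtype.val (mul_inv_cancel g))
      show ((g : Matrix.SpecialLinearGroup (Fin n) F) : Matrix (Fin n) (Fin n) F) * ((a : Matrix.SpecialLinearGroup (Fin n) F) : Matrix (Fin n) (Fin n) F) *
        ((g⁻¹ : C) : Matrix.SpecialLinearGroup (Fin n) F).1 - 1 = _
      simp only [N, Matrix.mul_sub, Matrix.sub_mul, mul_one, h]
    intro k l hk hl
    rw [e, Matrix.mul_apply]
    refine Finset.sum_eq_zero fun m _ => ?_
    by_cases hm : m = j
    · subst hm; rw [(hentry _ (g⁻¹).2).2.1 l hl, mul_zero]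
    · rw [Matrix.mul_apply, Finset.sum_eq_zero fun o _ => ?_, zero_mul]
      by_cases ho : o = i
      · subst ho; rw [(hentry _ g.2).1 k hk, zero_mul]
      · rw [ha o m ho hm, mul_zero]⟩
  rw [CfsgLib.Components.generalizedFitting_eq_pCore_iff]
  refine le_trans (Subgroup.centralizer_le (CfsgLib.PCore.le_pCore hQn hQ2)) (le_trans ?_ (CfsgLib.PCore.le_pCore hQn hQ2))
  intro g hg k l hk hl
  rw [Subgroup.mem_centralizer_iff] at hg
  by_cases hli : l = i
  · subst hli; exact hNcol g k
  -- the transvection sending the `k`th row to the `i`th one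
  by_cases hkj : k = j
  · subst hkj; exact hNrow g l
  let x : Matrix.SpecialLinearGroup (Fin n) F := ⟨Matrix.transvection i k 1, Matrix.det_transvection_of_ne _ _ hk.symm 1⟩
  have hxC : x ∈ C := by
    rw [hcomm]
    ext a b
    simp only [x, Matrix.transvection, Matrix.add_mul, Matrix.mul_add, mul_one, one_mul]
    rw [Matrix.single_mul_single_of_ne (h := hk.symm.symm), Matrix.single_mul_single_of_ne (h := hij.symm)]
  have hxQ : (⟨x, hxC⟩ : C) ∈ Q := fun a b ha _ => by
    simp [N, x, Matrix.transvection, Matrix.single, Ne.symm ha]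
  have h : (x : Matrix (Fin n) (Fin n) F) * ((g : Matrix.SpecialLinearGroup (Fin n) F) : Matrix (Fin n) (Fin n) F) =
      ((g : Matrix.SpecialLinearGroup (Fin n) F) : Matrix (Fin n) (Fin n) F) * (x : Matrix (Fin n) (Fin n) F) :=
    congrArg Subtype.val (congrArg Subtype.val (hg _ hxQ))
  have h' := congrFun (congrFun h i) l
  have hkl : ((g : Matrix.SpecialLinearGroup (Fin n) F) : Matrix (Fin n) (Fin n) F) k l =
      if k = l then ((g : Matrix.SpecialLinearGroup (Fin n) F) : Matrix (Fin n) (Fin n) F) i i else 0 := by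
    simp only [x, Matrix.transvection, Matrix.add_mul,
      Matrix.mul_add, mul_one, one_mul, Matrix.add_apply] at h'
    by_cases hkl' : k = l
    · subst hkl'
      simpa [Matrix.mul_apply, Matrix.single] using h'
    · simpa [Matrix.mul_apply, Matrix.single, hkl'] using h'
  show _ - (1 : Matrix (Fin n) (Fin n) F) k l = 0
  rw [hkl, (hentry _ g.2).2.2.1, Matrix.one_apply]
  exact sub_self _


end Cfsg.Agent.S1339
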