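import Mathlib
import Cfsg.Statements.S1348
import Cfsg.Agent.SLn.Simple
import Cfsg.Agent.Components.Basic
-- import your own Cfsg.Agent.* helpers here

set_option autoImplicit false
open Cfsg

namespace Cfsg.Agent.S1348


variable {F : Type*} [Field F] {m : ℕ}

/-- The block matrix `diag(A, b)`. -/
def blockMat (A : Matrix (Fin m) (Fin m) F) (b : F) : Matrix (Fin (m + 1)) (Fin (m + 1)) F :=
  Matrix.reindex finSumFinEquiv finSumFinEquiv (Matrix.fromBlocks A 0 0 (b • (1 : Matrix (Fin 1) (Fin 1) F)))

theorem blockMat_mul (A B : Matrix (Fin m) (Fin m) F) (a b : F) :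
    blockMat A a * blockMat B b = blockMat (A * B) (a * b) := by
  simp only [blockMat, Matrix.reindex_apply, Matrix.submatrix_mul_equiv, Matrix.fromBlocks_multiply]
  simp [smul_smul, mul_comm]

theorem det_blockMat (A : Matrix (Fin m) (Fin m) F) (b : F) : (blockMat A b).det = A.det * b := by
  rw [blockMat, Matrix.det_reindex_self, Matrix.det_fromBlocks_zero₂₁]
  simp

theorem symm_castSucc (i : Fin m) :
    (finSumFinEquiv : Fin m ⊕ Fin 1 ≃ Fin (m + 1)).symm i.castSucc = Sum.inl i := by
  rw [Equiv.symm_apply_eq]; rfl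

theorem symm_last :
    (finSumFinEquiv : Fin m ⊕ Fin 1 ≃ Fin (m + 1)).symm (Fin.last m) = Sum.inr 0 := by
  rw [Equiv.symm_apply_eq]; rfl

theorem blockMat_cc (A : Matrix (Fin m) (Fin m) F) (b : F) (i j : Fin m) :
    blockMat A b i.castSucc j.castSucc = A i j := by
  rw [blockMat, Matrix.reindex_apply, Matrix.submatrix_apply, symm_castSucc, symm_castSucc]; rfl

theorem blockMat_cl (A : Matrix (Fin m) (Fin m) F) (b : F) (i : Fin m) :
    blockMat A b i.castSucc (Fin.last m) = 0 := by
  rw [blockMat, Matrix.reindex_apply, Matrix.submatrix_apply, symm_castSucc, symm_last]; rfl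

theorem blockMat_lc (A : Matrix (Fin m) (Fin m) F) (b : F) (i : Fin m) :
    blockMat A b (Fin.last m) i.castSucc = 0 := by
  rw [blockMat, Matrix.reindex_apply, Matrix.submatrix_apply, symm_castSucc, symm_last]; rfl

theorem blockMat_ll (A : Matrix (Fin m) (Fin m) F) (b : F) :
    blockMat A b (Fin.last m) (Fin.last m) = b := by
  rw [blockMat, Matrix.reindex_apply, Matrix.submatrix_apply, symm_last]; simp

theorem eq_blockMat (M : Matrix (Fin (m + 1)) (Fin (m + 1)) F)
    (h1 : ∀ i : Fin m, M i.castSucc (Fin.last m) = 0) (h2 : ∀ i : Fin m, M (Fin.last m) i.castSucc = 0) :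
    M = blockMat (M.submatrix Fin.castSucc Fin.castSucc) (M (Fin.last m) (Fin.last m)) := by
  ext i j
  induction i using Fin.lastCases with
  | last =>
    induction j using Fin.lastCases with
    | last => rw [blockMat_ll]
    | cast j => rw [blockMat_lc, h2]
  | cast i =>
    induction j using Fin.lastCases with
    | last => rw [blockMat_cl, h1]
    | cast j => rw [blockMat_cc]; rfl

/-- `A ↦ diag(A, det A⁻¹)`. -/
noncomputable def blockHom : GL (Fin m) F →* Matrix.SpecialLinearGroup (Fin (m + 1)) F where
  toFun A := ⟨blockMat A (A : Matrix (Fin m) (Fin m) F).det⁻¹, by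
    rw [det_blockMat, mul_inv_cancel₀]
    exact (Matrix.GeneralLinearGroup.det A).ne_zero⟩
  map_one' := by
    apply Subtype.ext
    change blockMat (1 : Matrix (Fin m) (Fin m) F) (1 : Matrix (Fin m) (Fin m) F).det⁻¹ = 1
    rw [Matrix.det_one, inv_one, blockMat, one_smul, Matrix.fromBlocks_one, Matrix.reindex_apply,
      Matrix.submatrix_one_equiv]
  map_mul' A B := by
    apply Subtype.ext
    change blockMat ((A : Matrix (Fin m) (Fin m) F) * (B : Matrix (Fin m) (Fin m) F))
      ((A : Matrix (Fin m) (Fin m) F) * (B : Matrix (Fin m) (Fin m) F)).det⁻¹ = _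
    rw [Matrix.det_mul, mul_inv, ← blockMat_mul]
    rfl

theorem blockHom_val (A : GL (Fin m) F) :
    (blockHom A).1 = blockMat A (A : Matrix (Fin m) (Fin m) F).det⁻¹ := rfl

theorem blockHom_injective : Function.Injective (blockHom (F := F) (m := m)) := by
  intro A B h
  have h' := congrArg Subtype.val h
  rw [blockHom_val, blockHom_val] at h'
  refine Units.ext (Matrix.ext fun i j => ?_)
  have := congrFun (congrFun h' i.castSucc) j.castSucc
  rwa [blockMat_cc, blockMat_cc] at this

theorem main [Fintype F] [DecidableEq F] (h2 : (2 : F) ≠ 0) (hm : 3 ≤ m) (hev : Even m)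
    (t : Matrix.SpecialLinearGroup (Fin (m + 1)) F)
    (ht : (t : Matrix (Fin (m + 1)) (Fin (m + 1)) F) =
      Matrix.diagonal (fun i : Fin (m + 1) => if (i : ℕ) + 1 = m + 1 then (1 : F) else -1)) :
    IsStandardSubgroup ((layer ↥(Subgroup.centralizer ({t} : Set (Matrix.SpecialLinearGroup (Fin (m + 1)) F)))).map
      (Subgroup.centralizer ({t} : Set (Matrix.SpecialLinearGroup (Fin (m + 1)) F))).subtype) := by
  classical
  have hnt : Nontrivial (Fin m) := Fin.nontrivial_iff_two_le.2 (by omega)
  set d : Fin (m + 1) → F := fun i => if (i : ℕ) + 1 = m + 1 then (1 : F) else -1 with hd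
  have hdc : ∀ i : Fin m, d i.castSucc = -1 := fun i => by
    simp [hd, Nat.ne_of_lt i.2]
  have hdl : d (Fin.last m) = 1 := by simp [hd]
  have hne : (1 : F) ≠ -1 := fun h => h2 (by linear_combination h)
  set C := Subgroup.centralizer ({t} : Set (Matrix.SpecialLinearGroup (Fin (m + 1)) F)) with hC
  have memC : ∀ g, g ∈ C ↔ ∀ i j, g.1 i j * d j = d i * g.1 i j := by
    intro g
    rw [hC, Subgroup.mem_centralizer_singleton_iff]
    constructor
    · intro h i j
      have := congrFun (congrFun (congrArg Subtype.val h) i) j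
      simpa [ht] using this
    · intro h
      apply Subtype.ext
      ext i j
      simp [ht, h i j]
  have hCrange : C = blockHom.range := by
    ext g
    rw [memC]
    constructor
    · intro h
      have h1 : ∀ i : Fin m, g.1 i.castSucc (Fin.last m) = 0 := fun i => by
        have := h i.castSucc (Fin.last m)
        rw [hdc, hdl] at this
        by_contra hg
        exact hne (mul_right_cancel₀ hg (by linear_combination this))
      have h3 : ∀ i : Fin m, g.1 (Fin.last m) i.castSucc = 0 := fun i => by
        have := h (Fin.last m) i.castSucc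
        rw [hdc, hdl] at this
        by_contra hg
        exact hne (mul_right_cancel₀ hg (by linear_combination -this))
      have hg := eq_blockMat g.1 h1 h3
      have hdet := g.2
      rw [hg, det_blockMat] at hdet
      refine ⟨Matrix.GeneralLinearGroup.mkOfDetNeZero _ (left_ne_zero_of_mul_eq_one hdet), ?_⟩
      apply Subtype.ext
      rw [blockHom_val]
      conv_rhs => rw [hg]
      change blockMat _ _⁻¹ = _
      congr 1
      exact inv_eq_of_mul_eq_one_right hdet
    · rintro ⟨A, rfl⟩ i j
      rw [blockHom_val]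
      induction i using Fin.lastCases with
      | last =>
        induction j using Fin.lastCases with
        | last => rw [hdl]; ring
        | cast j => rw [blockMat_lc]; ring
      | cast i =>
        induction j using Fin.lastCases with
        | last => rw [blockMat_cl]; ring
        | cast j => rw [hdc, hdc]; ring
  -- the component
  set ψ : Matrix.SpecialLinearGroup (Fin m) F →* Matrix.SpecialLinearGroup (Fin (m + 1)) F :=
    blockHom.comp Matrix.SpecialLinearGroup.toGL with hψ
  have hψinj : Function.Injective ψ :=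
    blockHom_injective.comp (fun a b h => Subtype.ext (congrArg Units.val h))
  set E := ψ.range with hE
  have hEC : E ≤ C := by
    rw [hCrange, hE, hψ, MonoidHom.range_comp]; exact Subgroup.map_le_range _ _
  have hSL : IsQuasisimple (Matrix.SpecialLinearGroup (Fin m) F) :=
    ⟨⟨CfsgLib.SLn.commutator_eq_top (Or.inl (by simpa using hm))⟩,
      CfsgLib.SLn.isSimpleGroup_PSL (Or.inl (by simpa using hm))⟩
  have hEq : IsQuasisimple ↥E :=
    CfsgLib.IsoInv.isQuasisimple_of_equiv (MonoidHom.ofInjective hψinj) hSL
  have hEnorm : ∀ g ∈ C, ∀ x ∈ E, g * x * g⁻¹ ∈ E := by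
    intro g hg x hx
    rw [hCrange] at hg
    obtain ⟨A, rfl⟩ := hg
    obtain ⟨s, rfl⟩ := hx
    let u : GL (Fin m) F := A * Matrix.SpecialLinearGroup.toGL s * A⁻¹
    have hu : (u : Matrix (Fin m) (Fin m) F).det = 1 := by
      simp only [u, Units.val_mul]
      rw [Matrix.det_mul, Matrix.det_mul, mul_right_comm, ← Matrix.det_mul, Units.mul_inv,
        Matrix.det_one, one_mul]
      exact s.2
    refine ⟨⟨u, hu⟩, ?_⟩
    change blockHom (Matrix.SpecialLinearGroup.toGL ⟨_, hu⟩) = _
    rw [show Matrix.SpecialLinearGroup.toGL ⟨_, hu⟩ = u from Units.ext rfl]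
    simp [u, hψ]
  have hEnormalizer : C ≤ Subgroup.normalizer (E : Set _) := by
    intro g hg
    refine Subgroup.mem_normalizer_iff.2 fun x => ⟨hEnorm g hg x, fun hx => ?_⟩
    have := hEnorm g⁻¹ (inv_mem hg) _ hx
    simpa [mul_assoc] using this
  -- the centraliser of `E`
  set K := Subgroup.centralizer (E : Set (Matrix.SpecialLinearGroup (Fin (m + 1)) F)) with hK
  have hKdiag : ∀ g ∈ K, ∃ a b : F, g.1 = blockMat (a • (1 : Matrix (Fin m) (Fin m) F)) b := by
    intro g hg
    have key : ∀ (a b : Fin m) (hab : a ≠ b),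
        (∀ x, x ≠ a.castSucc → g.1 x a.castSucc = 0) ∧ (∀ y, y ≠ b.castSucc → g.1 b.castSucc y = 0) ∧
          g.1 a.castSucc a.castSucc = g.1 b.castSucc b.castSucc := by
      intro a b hab
      set s : Matrix.SpecialLinearGroup (Fin m) F := Matrix.SpecialLinearGroup.transvection hab (1 : F)
      have hs : (ψ s).1 = 1 + Matrix.single a.castSucc b.castSucc 1 := by
        have e0 : (ψ s).1 = blockMat (s : Matrix (Fin m) (Fin m) F) 1 := by
          change blockMat _ _⁻¹ = _
          rw [show ((Matrix.SpecialLinearGroup.toGL s : GL (Fin m) F) : Matrix (Fin m) (Fin m) F).det = 1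
            from s.2, inv_one]
          rfl
        have e1 : (s : Matrix (Fin m) (Fin m) F) = 1 + Matrix.single a b 1 := rfl
        rw [e0, eq_blockMat (1 + Matrix.single a.castSucc b.castSucc (1 : F))
          (fun i => by simp [Matrix.add_apply, Matrix.one_apply, Matrix.single_apply,
            (Fin.castSucc_lt_last i).ne, (Fin.castSucc_lt_last b).ne])
          (fun i => by simp [Matrix.add_apply, Matrix.one_apply, Matrix.single_apply,
            (Fin.castSucc_lt_last i).ne', (Fin.castSucc_lt_last a).ne])]
        congr 1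
        · rw [e1]; ext i j
          simp [Matrix.add_apply, Matrix.one_apply, Matrix.single_apply, Fin.castSucc_inj]
        · simp [Matrix.add_apply, Matrix.single_apply, (Fin.castSucc_lt_last a).ne]
      have e := congrArg Subtype.val (Subgroup.mem_centralizer_iff.1 hg (ψ s) ⟨s, rfl⟩)
      rw [Matrix.SpecialLinearGroup.coe_mul, Matrix.SpecialLinearGroup.coe_mul, hs,
        Matrix.add_mul, Matrix.mul_add, Matrix.one_mul, Matrix.mul_one, add_right_inj] at e
      refine ⟨fun x hx => ?_, fun y hy => ?_, ?_⟩
      · have := congrFun (congrFun e x) b.castSucc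
        rw [Matrix.mul_single_apply_same, Matrix.single_mul_apply_of_ne _ _ _ _ _ hx, mul_one] at this
        exact this.symm
      · have := congrFun (congrFun e a.castSucc) y
        rw [Matrix.single_mul_apply_same, Matrix.mul_single_apply_of_ne _ _ _ _ _ hy, one_mul] at this
        exact this
      · have := congrFun (congrFun e a.castSucc) b.castSucc
        rw [Matrix.mul_single_apply_same, Matrix.single_mul_apply_same, mul_one, one_mul] at this
        exact this.symm
    obtain ⟨i₀, i₁, h01⟩ := hnt.exists_pair_ne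
    have other : ∀ i : Fin m, ∃ j, j ≠ i := fun i => exists_ne i
    refine ⟨g.1 i₀.castSucc i₀.castSucc, g.1 (Fin.last m) (Fin.last m), ?_⟩
    have hg1 := eq_blockMat g.1
      (fun i => by
        obtain ⟨j, hj⟩ := other i
        exact (key j i hj).2.1 _ (Fin.castSucc_lt_last i).ne')
      (fun i => by
        obtain ⟨j, hj⟩ := other i
        exact (key i j hj.symm).1 _ (Fin.castSucc_lt_last i).ne')
    refine hg1.trans ?_
    congr 1
    ext i j
    rw [Matrix.submatrix_apply, Matrix.smul_apply, Matrix.one_apply, smul_eq_mul]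
    by_cases hij : i = j
    · subst hij
      rw [if_pos rfl, mul_one]
      by_cases hi : i = i₀
      · rw [hi]
      · exact (key i i₀ hi).2.2
    · rw [if_neg hij, mul_zero]
      exact (key j i (Ne.symm hij)).1 _ (fun h => hij (Fin.castSucc_injective _ h))
  have hKcomm : ∀ g ∈ K, ∀ h ∈ K, g * h = h * g := by
    intro g hg h hh
    obtain ⟨a, b, e1⟩ := hKdiag g hg
    obtain ⟨a', b', e2⟩ := hKdiag h hh
    apply Subtype.ext
    rw [Matrix.SpecialLinearGroup.coe_mul, Matrix.SpecialLinearGroup.coe_mul, e1, e2, blockMat_mul,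
      blockMat_mul]
    simp [smul_smul, mul_comm]
  have hKC : K ≤ C := by
    intro g hg
    obtain ⟨a, b, e1⟩ := hKdiag g hg
    rw [memC]
    intro i j
    rw [e1]
    induction i using Fin.lastCases with
    | last =>
      induction j using Fin.lastCases with
      | last => rw [hdl]; ring
      | cast j => rw [blockMat_lc]; ring
    | cast i =>
      induction j using Fin.lastCases with
      | last => rw [blockMat_cl]; ring
      | cast j => rw [hdc, hdc]; ring
  have htK : t ∈ K := by
    rw [hK, Subgroup.mem_centralizer_iff]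
    intro x hx
    exact Subgroup.mem_centralizer_singleton_iff.1 (hEC hx)
  have ht2 : orderOf t = 2 := by
    refine orderOf_eq_prime ?_ ?_
    · apply Subtype.ext
      rw [pow_two, Matrix.SpecialLinearGroup.coe_mul, ht, Matrix.diagonal_mul_diagonal,
        Matrix.SpecialLinearGroup.coe_one, ← Matrix.diagonal_one]
      congr 1
      funext i; simp only [hd]; split_ifs <;> ring
    · intro h
      have := congrFun (congrFun (congrArg Subtype.val h) (Fin.castSucc (⟨0, by omega⟩ : Fin m))) (Fin.castSucc (⟨0, by omega⟩ : Fin m))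
      rw [ht] at this
      simp [hdc] at this
      rw [show d 0 = -1 by simp only [hd]; rw [if_neg]; simp; omega] at this
      exact hne this.symm
  have hinvol : ∀ u ∈ K, orderOf u = 2 → u = t := by
    intro u hu ho
    obtain ⟨a, b, e1⟩ := hKdiag u hu
    have hu2 : u * u = 1 := by rw [← pow_two, ← ho]; exact pow_orderOf_eq_one u
    have e2 := congrArg Subtype.val hu2
    rw [Matrix.SpecialLinearGroup.coe_mul, e1, blockMat_mul, Matrix.SpecialLinearGroup.coe_one] at e2
    obtain ⟨i₀, i₁, h01⟩ := hnt.exists_pair_ne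
    have ha : a * a = 1 := by
      have := congrFun (congrFun e2 i₀.castSucc) i₀.castSucc
      rw [blockMat_cc, Matrix.one_apply_eq] at this
      simpa using this
    have hdet := u.2
    rw [e1, det_blockMat, Matrix.det_smul, Matrix.det_one, Fintype.card_fin, mul_one] at hdet
    obtain ⟨k, rfl⟩ := hev
    have hb : b = 1 := by
      rw [pow_add, ← mul_pow, ha, one_pow, one_mul] at hdet
      exact hdet
    subst hb
    rcases mul_self_eq_one_iff.1 ha with rfl | rfl
    · exfalso
      have : u = 1 := by
        apply Subtype.ext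
        rw [e1, one_smul, blockMat, one_smul, Matrix.fromBlocks_one, Matrix.reindex_apply,
          Matrix.submatrix_one_equiv]
        rfl
      rw [this, orderOf_one] at ho; omega
    · apply Subtype.ext
      rw [e1, ht]
      ext i j
      induction i using Fin.lastCases with
      | last =>
        induction j using Fin.lastCases with
        | last => rw [blockMat_ll]; simp [hd]
        | cast j => rw [blockMat_lc, Matrix.diagonal_apply_ne _ (Fin.castSucc_lt_last j).ne']
      | cast i =>
        induction j using Fin.lastCases with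
        | last => rw [blockMat_cl, Matrix.diagonal_apply_ne _ (Fin.castSucc_lt_last i).ne]
        | cast j =>
          rw [blockMat_cc, Matrix.diagonal_apply]
          by_cases hij : i = j
          · subst hij; simp [hd, Nat.ne_of_lt i.2]
          · simp [hij, Fin.castSucc_inj]
  -- the layer
  have hcompC : IsComponent (E.subgroupOf C) := by
    refine ⟨(Subgroup.normal_subgroupOf_iff_le_normalizer hEC).2 hEnormalizer |>.isSubnormal, ?_⟩
    exact CfsgLib.IsoInv.isQuasisimple_of_equiv (Subgroup.subgroupOfEquivOfLe hEC).symm hEq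
  have hlayer : layer ↥C = E.subgroupOf C := by
    refine le_antisymm (sSup_le fun L hL => ?_) (CfsgLib.Components.component_le_layer hcompC)
    by_contra hle
    have hLne : L ≠ E.subgroupOf C := fun h => hle h.le
    have hcm := Subgroup.commutator_eq_bot_iff_le_centralizer.1
      (CfsgLib.Components.components_commute hL hcompC hLne)
    have hLK : ∀ x ∈ L, (x : Matrix.SpecialLinearGroup (Fin (m + 1)) F) ∈ K := by
      intro x hx
      rw [hK, Subgroup.mem_centralizer_iff]
      intro y hy
      exact congrArg Subtype.val (Subgroup.mem_centralizer_iff.1 (hcm hx) ⟨y, hEC hy⟩ hy)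
    refine CfsgLib.Components.quasisimple_center_ne_top hL.2 ?_
    rw [eq_top_iff]
    intro x _
    rw [Subgroup.mem_center_iff]
    intro y
    exact Subtype.ext (Subtype.ext (hKcomm _ (hLK _ y.2) _ (hLK _ x.2)))
  rw [hlayer, Subgroup.map_subgroupOf_eq_of_le hEC]
  -- the standard subgroup
  have hCN : C ≤ Subgroup.normalizer (K : Set _) := fun g hg => by
    refine Subgroup.mem_normalizer_iff.2 fun x => ?_
    have h1 : ∀ g ∈ C, ∀ x ∈ K, g * x * g⁻¹ ∈ K := by
      intro g hg x hx
      rw [hK, Subgroup.mem_centralizer_iff]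
      intro y hy
      have hy' := hEnorm g⁻¹ (inv_mem hg) y hy
      have := Subgroup.mem_centralizer_iff.1 hx _ hy'
      calc y * (g * x * g⁻¹) = g * ((g⁻¹ * y * g⁻¹⁻¹) * x) * g⁻¹ := by group
        _ = g * (x * (g⁻¹ * y * g⁻¹⁻¹)) * g⁻¹ := by rw [this]
        _ = g * x * g⁻¹ * y := by group
    refine ⟨h1 g hg x, fun hx => ?_⟩
    have := h1 g⁻¹ (inv_mem hg) _ hx
    simpa [mul_assoc] using this
  have hNK : ∀ g, g * t * g⁻¹ = t → g ∈ C := fun g hg => by
    rw [hC, Subgroup.mem_centralizer_singleton_iff]
    calc g * t = (g * t * g⁻¹) * g := by group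
      _ = t * g := by rw [hg]
  refine ⟨hEq, ⟨?_, ?_⟩, ?_, ?_⟩
  · rw [even_iff_two_dvd, ← ht2]
    exact Subgroup.orderOf_dvd_natCard _ htK
  · intro g hg
    rw [← Nat.not_even_iff_odd]
    intro heven
    obtain ⟨⟨u, hu⟩, hu2⟩ := exists_prime_orderOf_dvd_card' 2 (even_iff_two_dvd.1 heven)
    rw [Subgroup.orderOf_mk] at hu2
    obtain ⟨huK, hug⟩ := hu
    obtain ⟨w, hw, rfl⟩ := Subgroup.mem_map.1 hug
    have e1 := hinvol _ huK hu2
    have e2 := hinvol w hw (by rw [← hu2]; exact (MulEquiv.orderOf_eq (MulAut.conj g) w).symm)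
    subst e2
    exact hg (hCN (hNK g (by simpa using e1)))
  · intro g hg hcm
    have hle := Subgroup.commutator_eq_bot_iff_le_centralizer.1 (Subgroup.commutator_comm E _ ▸ hcm)
    refine CfsgLib.Components.quasisimple_center_ne_top hEq ?_
    rw [eq_top_iff]
    intro x _
    rw [Subgroup.mem_center_iff]
    intro y
    apply Subtype.ext
    apply (MulAut.conj g).injective
    simp only [Subgroup.coe_mul, map_mul]
    exact hKcomm _ (hle (Subgroup.mem_map_of_mem _ y.2)) _ (hle (Subgroup.mem_map_of_mem _ x.2))
  · refine le_antisymm (fun g hg => ?_) (fun g hg => hEnormalizer (hNK g ?_))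
    · refine Subgroup.mem_normalizer_iff.2 fun x => ?_
      have hN := Subgroup.mem_normalizer_iff.1 hg
      simp only [hK, Subgroup.mem_centralizer_iff]
      constructor
      · intro hx y hy
        have h' : g⁻¹ * y * g ∈ E := by rw [hN]; simpa [mul_assoc] using hy
        have := hx _ h'
        calc y * (g * x * g⁻¹) = g * ((g⁻¹ * y * g) * x) * g⁻¹ := by group
          _ = g * (x * (g⁻¹ * y * g)) * g⁻¹ := by rw [this]
          _ = g * x * g⁻¹ * y := by group
      · intro hx y hy
        have := hx _ ((hN y).1 hy)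
        calc y * x = g⁻¹ * ((g * y * g⁻¹) * (g * x * g⁻¹)) * g := by group
          _ = g⁻¹ * ((g * x * g⁻¹) * (g * y * g⁻¹)) * g := by rw [this]
          _ = x * y := by group
    · have hmem := (Subgroup.mem_normalizer_iff.1 hg t).1 htK
      refine hinvol _ hmem ?_
      rw [← ht2]
      exact MulEquiv.orderOf_eq (MulAut.conj g) t

/-- Let F be a finite field of odd order, n ≥ 7 odd, and t ∈ SL(n, F) the diagonal matrix with entries −1, …, −1, 1. Then E(C(t)) is a standard subgroup of SL(n, F). -/
theorem result {F : Type*} [Field F] [Fintype F] [DecidableEq F] (hF : Odd (Fintype.card F)) (n : ℕ) (hn : 7 ≤ n) (hodd : Odd n) (t : Matrix.SpecialLinearGroup (Fin n) F) (ht : (t : Matrix (Fin n) (Fin n) F) = Matrix.diagonal (fun i : Fin n => if (i : ℕ) + 1 = n then (1 : F) else -1)) : Cfsg.IsStandardSubgroup ((Cfsg.layer ↥(Subgroup.centralizer ({t} : Set (Matrix.SpecialLinearGroup (Fin n) F)))).map (Subgroup.centralizer ({t} : Set (Matrix.SpecialLinearGroup (Fin n) F))).subtype) := by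
  obtain ⟨m, rfl⟩ : ∃ m, n = m + 1 := ⟨n - 1, by omega⟩
  refine main ?_ (by omega) ?_ t ht
  · intro h
    have : CharP F 2 := CharTwo.of_one_ne_zero_of_two_eq_zero one_ne_zero h
    have h2 := FiniteField.even_card_of_char_two (F := F) (ringChar.eq F 2)
    have h3 := Nat.odd_iff.1 hF
    omega
  · obtain ⟨k, hk⟩ := hodd
    exact ⟨k, by omega⟩

end Cfsg.Agent.S1348
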