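import Cfsg.Statements.S1340
import Cfsg.Agent.S1348
import Cfsg.Agent.Components.BBalance
-- import your own Cfsg.Agent.* helpers here

set_option autoImplicit false
open Cfsg

namespace Cfsg.Agent.S1340

open Cfsg.Agent.S1348 in
theorem main {F : Type*} [Field F] [Fintype F] [DecidableEq F] (hF : Odd (Fintype.card F)) (h2 : (2 : F) ≠ 0)
    (m : ℕ) (hm : 2 ≤ m) (h33 : m = 2 → Fintype.card F ≠ 3) :
    ∃ t : Matrix.GeneralLinearGroup (Fin (m + 1)) F, orderOf t = 2 ∧
      t ∉ Subgroup.center (Matrix.GeneralLinearGroup (Fin (m + 1)) F) ∧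
      Cfsg.HasComponent (↥(Subgroup.centralizer ({t} : Set (Matrix.GeneralLinearGroup (Fin (m + 1)) F))) ⧸
        Cfsg.oddCore ↥(Subgroup.centralizer ({t} : Set (Matrix.GeneralLinearGroup (Fin (m + 1)) F)))) := by
  classical
  haveI : Nontrivial (Fin m) := Fin.nontrivial_iff_two_le.2 hm
  haveI : Fact (Nat.Prime 2) := ⟨Nat.prime_two⟩
  have hne : (1 : F) ≠ -1 := fun h => h2 (by linear_combination h)
  have hcond : 3 ≤ Fintype.card (Fin m) ∨ ∃ x : F, x ≠ 0 ∧ x ^ 2 ≠ 1 := by
    by_cases hm3 : 3 ≤ m
    · exact Or.inl (by simpa using hm3)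
    refine Or.inr ?_
    by_contra! hall
    have hsub : (Finset.univ : Finset F) ⊆ {0, 1, -1} := fun x _ => by
      simp only [Finset.mem_insert, Finset.mem_singleton]
      by_cases hx : x = 0
      · exact Or.inl hx
      · exact Or.inr (sq_eq_one_iff.1 (hall x hx))
    have h3 := (Finset.card_le_card hsub).trans Finset.card_le_three
    rw [Finset.card_univ] at h3
    have h1 := Fintype.one_lt_card (α := F)
    have hodd := Nat.odd_iff.1 hF
    exact h33 (by omega) (by omega)
  have hSL : Cfsg.IsQuasisimple (Matrix.SpecialLinearGroup (Fin m) F) :=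
    ⟨⟨CfsgLib.SLn.commutator_eq_top hcond⟩, CfsgLib.SLn.isSimpleGroup_PSL hcond⟩
  -- block embedding
  let ι : Matrix.SpecialLinearGroup (Fin m) F →* GL (Fin (m + 1)) F :=
    Matrix.SpecialLinearGroup.toGL.comp
      ((blockHom (F := F) (m := m)).comp Matrix.SpecialLinearGroup.toGL)
  have hιval : ∀ s, (ι s : Matrix (Fin (m + 1)) (Fin (m + 1)) F) =
      blockMat (s : Matrix (Fin m) (Fin m) F) 1 := fun s => by
    change blockMat _ _⁻¹ = _
    rw [show ((Matrix.SpecialLinearGroup.toGL s : GL (Fin m) F) : Matrix (Fin m) (Fin m) F).det = 1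
      from s.2, inv_one]
    rfl
  have hval : ∀ {a b : GL (Fin (m + 1)) F}, a = b → ∀ i j, a.1 i j = b.1 i j := by
    rintro a b rfl i j; rfl
  have hιinj : Function.Injective ι := fun a b h => Subtype.ext (Matrix.ext fun i j => by
    have := hval h i.castSucc j.castSucc
    rwa [hιval, hιval, blockMat_cc, blockMat_cc] at this)
  -- the involution
  let d : Fin (m + 1) → F := fun i => if (i : ℕ) = m then 1 else -1
  have hdc : ∀ i : Fin m, d i.castSucc = -1 := fun i => by simp [d, Nat.ne_of_lt i.2]
  have hdl : d (Fin.last m) = 1 := by simp [d]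
  have hdd : Matrix.diagonal d * Matrix.diagonal d = 1 := by
    rw [Matrix.diagonal_mul_diagonal, ← Matrix.diagonal_one]
    congr 1; funext i; simp only [d]; split_ifs <;> ring
  let t : GL (Fin (m + 1)) F := ⟨Matrix.diagonal d, Matrix.diagonal d, hdd, hdd⟩
  let i₀ : Fin m := ⟨0, by omega⟩
  have ht1 : t ≠ 1 := fun h => by
    have := hval h i₀.castSucc i₀.castSucc
    simp only [t, Matrix.diagonal_apply_eq, hdc, Units.val_one, Matrix.one_apply_eq] at this
    exact hne this.symm
  have ht : orderOf t = 2 := orderOf_eq_prime (Units.ext (by simpa [pow_two, t] using hdd)) ht1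
  set C := Subgroup.centralizer ({t} : Set (GL (Fin (m + 1)) F)) with hC
  have memC : ∀ g, g ∈ C ↔ ∀ i j, g.1 i j * d j = d i * g.1 i j := by
    intro g
    rw [hC, Subgroup.mem_centralizer_singleton_iff]
    constructor
    · intro h i j
      have := hval h i j
      simpa [t] using this
    · intro h
      apply Units.ext
      ext i j
      simp [t, h i j]
  refine ⟨t, ht, ?_, ?_⟩
  · intro hc
    let e : Matrix (Fin (m + 1)) (Fin (m + 1)) F := Matrix.transvection i₀.castSucc (Fin.last m) 1
    have hl : i₀.castSucc ≠ Fin.last m := (Fin.castSucc_lt_last i₀).ne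
    let g : GL (Fin (m + 1)) F := Matrix.GeneralLinearGroup.mkOfDetNeZero e
      (by rw [show e.det = 1 from Matrix.det_transvection_of_ne _ _ hl 1]; exact one_ne_zero)
    have hg : g ∈ C := Subgroup.mem_centralizer_singleton_iff.2 (Subgroup.mem_center_iff.1 hc g)
    have h := (memC g).1 hg i₀.castSucc (Fin.last m)
    have he : g.1 i₀.castSucc (Fin.last m) = 1 := by
      simp [g, e, Matrix.GeneralLinearGroup.mkOfDetNeZero, Matrix.transvection,
        Matrix.GeneralLinearGroup.mk'', Matrix.unitOfDetInvertible, hl]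
    rw [he, hdc, hdl] at h
    exact hne (by linear_combination h)
  -- the component
  set E := ι.range with hE
  have hEC : E ≤ C := by
    rintro _ ⟨s, rfl⟩
    rw [memC]
    intro i j
    rw [hιval]
    induction i using Fin.lastCases with
    | last =>
      induction j using Fin.lastCases with
      | last => rw [hdl]; ring
      | cast j => rw [blockMat_lc]; ring
    | cast i =>
      induction j using Fin.lastCases with
      | last => rw [blockMat_cl]; ring
      | cast j => rw [hdc, hdc]; ring
  have hform : ∀ g ∈ C, ∃ (A : Matrix (Fin m) (Fin m) F) (b : F), g.1 = blockMat A b := by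
    intro g hg
    rw [memC] at hg
    refine ⟨_, _, eq_blockMat g.1 (fun i => ?_) (fun i => ?_)⟩
    · have := hg i.castSucc (Fin.last m)
      rw [hdc, hdl] at this
      by_contra h
      exact hne (mul_right_cancel₀ h (by linear_combination this))
    · have := hg (Fin.last m) i.castSucc
      rw [hdc, hdl] at this
      by_contra h
      exact hne (mul_right_cancel₀ h (by linear_combination -this))
  have hEn : (E.subgroupOf C).Normal := ⟨by
    rintro ⟨x, hx⟩ hxE ⟨g, hg⟩
    obtain ⟨s, hs : ι s = x⟩ := hxE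
    obtain ⟨A, b, hA⟩ := hform g hg
    obtain ⟨A', b', hA'⟩ := hform g⁻¹ (inv_mem hg)
    have hv : (g * ι s * g⁻¹).1 = blockMat (A * (s : Matrix (Fin m) (Fin m) F) * A') (b * b') := by
      rw [Units.val_mul, Units.val_mul, hA, hA', hιval, blockMat_mul, blockMat_mul, mul_one]
    have hb : b * b' = 1 := by
      have h := hval (mul_inv_cancel g) (Fin.last m) (Fin.last m)
      rw [Units.val_mul, hA, hA', blockMat_mul, blockMat_ll, Units.val_one, Matrix.one_apply_eq] at h
      exact h
    have hdet : (A * (s : Matrix (Fin m) (Fin m) F) * A').det = 1 := by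
      have h := congrArg Matrix.det hv
      rw [det_blockMat, hb, mul_one, Units.val_mul, Units.val_mul, Matrix.det_mul, Matrix.det_mul,
        mul_right_comm, ← Matrix.det_mul, Units.mul_inv, Matrix.det_one, one_mul] at h
      rw [← h, hιval, det_blockMat, s.2, one_mul]
    let S : Matrix.SpecialLinearGroup (Fin m) F := ⟨_, hdet⟩
    refine ⟨S, Units.ext ?_⟩
    show _ = (g * x * g⁻¹).1
    rw [hιval S, ← hs, hv, hb]⟩
  have hEq : Cfsg.IsQuasisimple ↥(E.subgroupOf C) :=
    CfsgLib.IsoInv.isQuasisimple_of_equiv ((MonoidHom.ofInjective hιinj).trans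
      (Subgroup.subgroupOfEquivOfLe hEC).symm) hSL
  set O := Cfsg.oddCore ↥C with hO
  haveI := CfsgLib.Components.pPrimeCore_characteristic (G := ↥C) 2
  haveI hOn : O.Normal := show (Cfsg.pPrimeCore 2 ↥C).Normal from inferInstance
  set q := QuotientGroup.mk' O with hq
  refine ⟨(E.subgroupOf C).map q, (hEn.map q (QuotientGroup.mk'_surjective _)).isSubnormal, ?_⟩
  have hnt : Nontrivial ↥((E.subgroupOf C).map q) := by
    rw [Subgroup.nontrivial_iff_ne_bot]
    intro h
    rw [Subgroup.map_eq_bot_iff, hq, QuotientGroup.ker_mk'] at h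
    -- an element of order two in `E`
    have h01 : i₀ ≠ (⟨1, by omega⟩ : Fin m) := by simp [i₀, Fin.ext_iff]
    have hd : Even (Nat.card ↥(E.subgroupOf C)) := by
      let δ : Fin m → F := fun i => if i = i₀ ∨ i = ⟨1, by omega⟩ then -1 else 1
      have hdet : (Matrix.diagonal δ).det = 1 := by
        rw [Matrix.det_diagonal, Finset.prod_ite, Finset.prod_const, Finset.prod_const_one, mul_one,
          show (Finset.univ.filter fun i : Fin m => i = i₀ ∨ i = ⟨1, by omega⟩) = {i₀, ⟨1, by omega⟩} by
            ext i; simp, Finset.card_pair h01]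
        ring
      let D : Matrix.SpecialLinearGroup (Fin m) F := ⟨_, hdet⟩
      have hδ2 : D ^ 2 = 1 := Subtype.ext (by
        rw [pow_two, Matrix.SpecialLinearGroup.coe_mul, Matrix.SpecialLinearGroup.coe_one, ← Matrix.diagonal_one]
        show Matrix.diagonal δ * Matrix.diagonal δ = _
        rw [Matrix.diagonal_mul_diagonal]
        congr 1; funext i; simp only [δ]; split_ifs <;> ring)
      have hδ1 : D ≠ 1 := fun h => by
        have := congrFun (congrFun (congrArg Subtype.val h) i₀) i₀
        simp [D, δ] at this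
        exact hne this.symm
      have e := (MonoidHom.ofInjective hιinj).trans (Subgroup.subgroupOfEquivOfLe hEC).symm
      rw [← Nat.card_congr e.toEquiv, even_iff_two_dvd, ← orderOf_eq_prime hδ2 hδ1]
      exact orderOf_dvd_natCard _
    have hdiv := Subgroup.card_dvd_of_le h
    have hcop := CfsgLib.Components.pPrimeCore_coprime (G := ↥C) 2
    have h2O : 2 ∣ Nat.card ↥O := (even_iff_two_dvd.1 hd).trans hdiv
    exact absurd (Nat.dvd_gcd h2O (dvd_refl 2)) (by rw [hcop]; decide)
  exact CfsgLib.Components.isQuasisimple_of_surjective (q.subgroupMap (E.subgroupOf C))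
    (q.subgroupMap_surjective _) hEq


/-- Let F be a finite field of odd order and n ≥ 3 with (n, |F|) ≠ (3, 3). Then GL(n, F) has a non-central involution t such that C(t) / O(C(t)) has a component. -/
theorem result {F : Type*} [Field F] [Fintype F] [DecidableEq F] (hF : Odd (Fintype.card F)) (n : ℕ) (hn : 3 ≤ n) (h33 : ¬ (n = 3 ∧ Fintype.card F = 3)) : ∃ t : Matrix.GeneralLinearGroup (Fin n) F, orderOf t = 2 ∧ t ∉ Subgroup.center (Matrix.GeneralLinearGroup (Fin n) F) ∧ Cfsg.HasComponent (↥(Subgroup.centralizer ({t} : Set (Matrix.GeneralLinearGroup (Fin n) F))) ⧸ Cfsg.oddCore ↥(Subgroup.centralizer ({t} : Set (Matrix.GeneralLinearGroup (Fin n) F)))) := by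
  classical
  obtain ⟨m, rfl⟩ : ∃ m, n = m + 1 := ⟨n - 1, by omega⟩
  have h2 : (2 : F) ≠ 0 := by
    intro h
    have : CharP F 2 := CharTwo.of_one_ne_zero_of_two_eq_zero one_ne_zero h
    have h2 := FiniteField.even_card_of_char_two (F := F) (ringChar.eq F 2)
    have h3 := Nat.odd_iff.1 hF
    omega
  exact main hF h2 m (by omega) (fun hm hq => h33 ⟨by omega, hq⟩)

end Cfsg.Agent.S1340
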