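import Cfsg.Statements.S1351
import Cfsg.Agent.Sigma.KappaDecomp

set_option autoImplicit false
open Cfsg

namespace Cfsg.Agent.S1351

/-- Let G be a minimal simple group of odd order and M a maximal subgroup. Then M possesses a Hall κ(M)-subgroup, and every Hall κ(M)-subgroup of M is cyclic. -/
theorem result {G : Type*} [Group G] [Finite G] (hG : Cfsg.IsMinSimpleOddOrder G)
    (M : Subgroup G) (hM : IsCoatom M) :
    (∃ K : Subgroup G, Cfsg.IsPiHallOf (Cfsg.kappa M) K M) ∧
      ∀ K : Subgroup G, Cfsg.IsPiHallOf (Cfsg.kappa M) K M → IsCyclic K := by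
  haveI : Group.IsSolvable M := CfsgLib.Uniq.isSolvable_of_ne_top hG hM.1
  obtain ⟨K, -, hK, -⟩ := CfsgLib.SigmaGroups.exists_hall_over (π := Cfsg.kappa M) (bot_le : (⊥ : Subgroup G) ≤ M)
    fun t ht hd => absurd ((Subgroup.card_bot (G := G)) ▸ hd) ht.not_dvd_one
  exact ⟨⟨K, hK⟩, fun K hK => CfsgLib.SigmaGroups.isCyclic_kappa_hall hG hM hK⟩


end Cfsg.Agent.S1351
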