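import Cfsg.Statements.S1366
import Cfsg.Agent.Sigma.KappaDecomp

set_option autoImplicit false
open Cfsg

namespace Cfsg.Agent.S1366

/-- Let G be a minimal simple group of odd order, M a maximal subgroup with standard factorisation M = K U M_σ, K ≠ 1, and K* = M_σ ∩ C_G(K). Then there is exactly one maximal subgroup M* of G such that K = M*_σ ∩ C_G(K*) and K* is a Hall κ(M*)-subgroup of M* (in particular κ(M*) is nonempty). -/
theorem result {G : Type*} [Group G] [Finite G] (hG : Cfsg.IsMinSimpleOddOrder G)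
    (M : Subgroup G) (hM : IsCoatom M) (K U : Subgroup G) (hKU : Cfsg.IsSigmaDecomposition M K U) (hK1 : K ≠ ⊥) :
    ∃! Mstar : Subgroup G, IsCoatom Mstar ∧ K = Cfsg.sigmaCore Mstar ⊓ Subgroup.centralizer ((Cfsg.sigmaCore M ⊓ Subgroup.centralizer (K : Set G)) : Set G) ∧
        Cfsg.IsPiHallOf (Cfsg.kappa Mstar) (Cfsg.sigmaCore M ⊓ Subgroup.centralizer (K : Set G)) Mstar := by
  obtain ⟨Ms, hMs, P⟩ := CfsgLib.SigmaGroups.exists_kappaPair hG hM hKU.hall hK1
  refine ⟨Ms, ⟨hMs, P.eq_star, P.hall_star⟩, ?_⟩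
  rintro L ⟨hL, hLst, hLH⟩
  have Q : CfsgLib.SigmaGroups.KappaPair M L K := ⟨hKU.hall, hK1, hLst, hLH⟩
  obtain ⟨t, X, ht, hX, hXc⟩ := CfsgLib.SigmaGroups.exists_line_le hK1
  haveI := Fact.mk ht
  obtain ⟨x, hxe, hxo⟩ := CfsgLib.SigmaGroups.exists_gen_line hXc
  have hxK : x ∈ K := hX (hxe ▸ Subgroup.mem_zpowers x)
  refine CfsgLib.SigmaGroups.eq_of_shared_elem hG hMs hL (by rw [hxo]; exact ht)
    ((P.eq_star.le.trans inf_le_left) hxK) ((Q.eq_star.le.trans inf_le_left) hxK) ?_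
  have hx : x ∈ Cfsg.sigmaCore Ms ⊓
      Subgroup.centralizer ((Cfsg.sigmaCore M ⊓ Subgroup.centralizer (K : Set G) : Subgroup G) : Set G) := by
    rw [P.star_eq hG hM hMs]; exact hxK
  exact CfsgLib.SigmaGroups.centralizer_le_kappaStar hG hMs P.hall_star
    (CfsgLib.SigmaGroups.kappaStar_ne_bot hG hM hKU.hall hK1) hx
    fun h => ht.one_lt.ne (by rw [← hxo, h, orderOf_one])


end Cfsg.Agent.S1366
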