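import Cfsg.Statements.S1367
import Cfsg.Agent.Sigma.KappaTypeTwo

set_option autoImplicit false
open Cfsg

namespace Cfsg.Agent.S1367

/-- Let G be a minimal simple group of odd order, M a maximal subgroup with standard factorisation M = K U M_σ, K ≠ 1, K* = M_σ ∩ C_G(K), and M* a maximal subgroup with K = M*_σ ∩ C_G(K*) and K* a Hall κ(M*)-subgroup of M*. Then for subgroups X ≤ K* and Y ≤ K of prime order, M is the only maximal subgroup containing C_G(X) and M* the only one containing C_G(Y). -/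
theorem result {G : Type*} [Group G] [Finite G] (hG : Cfsg.IsMinSimpleOddOrder G)
    (M : Subgroup G) (hM : IsCoatom M) (K U : Subgroup G) (hKU : Cfsg.IsSigmaDecomposition M K U) (hK1 : K ≠ ⊥) (Mstar : Subgroup G) (hMstar : IsCoatom Mstar)
    (hKst : K = Cfsg.sigmaCore Mstar ⊓ Subgroup.centralizer ((Cfsg.sigmaCore M ⊓ Subgroup.centralizer (K : Set G)) : Set G))
    (hKstH : Cfsg.IsPiHallOf (Cfsg.kappa Mstar) (Cfsg.sigmaCore M ⊓ Subgroup.centralizer (K : Set G)) Mstar) :
    (∀ X : Subgroup G, X ≤ (Cfsg.sigmaCore M ⊓ Subgroup.centralizer (K : Set G)) → (Nat.card X).Prime →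
        Subgroup.centralizer (X : Set G) ≤ M ∧ ∀ L : Subgroup G, IsCoatom L → Subgroup.centralizer (X : Set G) ≤ L → L = M) ∧
      (∀ Y : Subgroup G, Y ≤ K → (Nat.card Y).Prime →
        Subgroup.centralizer (Y : Set G) ≤ Mstar ∧ ∀ L : Subgroup G, IsCoatom L → Subgroup.centralizer (Y : Set G) ≤ L → L = Mstar) := by
  have P : CfsgLib.SigmaGroups.KappaPair M Mstar K := ⟨hKU.hall, hK1, hKst, hKstH⟩
  have hS1 := CfsgLib.SigmaGroups.kappaStar_ne_bot hG hM hKU.hall hK1
  have hgen : ∀ X : Subgroup G, (Nat.card X).Prime →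
      ∃ x : G, x ∈ X ∧ (orderOf x).Prime ∧ Subgroup.centralizer (X : Set G) = Subgroup.centralizer ({x} : Set G) :=
    fun X hX => by
      haveI := Fact.mk hX
      obtain ⟨x, hxe, hxo⟩ := CfsgLib.SigmaGroups.exists_gen_line (P := X) rfl
      exact ⟨x, hxe ▸ Subgroup.mem_zpowers x, by rw [hxo]; exact hX,
        by rw [← hxe, CfsgLib.SigmaGroups.centralizer_zpowers]⟩
  refine ⟨fun X hX hXp => ?_, fun Y hY hYp => ?_⟩
  · obtain ⟨x, hx, hxp, hC⟩ := hgen X hXp
    rw [hC]
    exact CfsgLib.SigmaGroups.star_line_unique hG hM hKU.hall hK1 hxp (hX hx)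
  · obtain ⟨x, hx, hxp, hC⟩ := hgen Y hYp
    rw [hC]
    exact CfsgLib.SigmaGroups.star_line_unique hG hMstar hKstH hS1 hxp
      (by rw [P.star_eq hG hM hMstar]; exact hY hx)


end Cfsg.Agent.S1367
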