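import Cfsg.Statements.S1370
import Cfsg.Agent.Sigma.KappaTypeTwo

set_option autoImplicit false
open Cfsg

namespace Cfsg.Agent.S1370

/-- Let G be a minimal simple group of odd order, M a maximal subgroup with standard factorisation M = K U M_σ, K ≠ 1, K* = M_σ ∩ C_G(K) and Z the subgroup generated by K and K*. Then the set of elements of Z lying in neither K nor K* is a TI-subset of G, and its set-normalizer in G is exactly Z. -/
theorem result {G : Type*} [Group G] [Finite G] (hG : Cfsg.IsMinSimpleOddOrder G)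
    (M : Subgroup G) (hM : IsCoatom M) (K U : Subgroup G) (hKU : Cfsg.IsSigmaDecomposition M K U) (hK1 : K ≠ ⊥) :
    Cfsg.IsTISubset ((↑(K ⊔ (Cfsg.sigmaCore M ⊓ Subgroup.centralizer (K : Set G))) : Set G) \ ((K : Set G) ∪ ↑(Cfsg.sigmaCore M ⊓ Subgroup.centralizer (K : Set G)))) ∧ Subgroup.normalizer ((↑(K ⊔ (Cfsg.sigmaCore M ⊓ Subgroup.centralizer (K : Set G))) : Set G) \ ((K : Set G) ∪ ↑(Cfsg.sigmaCore M ⊓ Subgroup.centralizer (K : Set G)))) = K ⊔ (Cfsg.sigmaCore M ⊓ Subgroup.centralizer (K : Set G)) := by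
  classical
  have hK := hKU.hall
  set S := Cfsg.sigmaCore M ⊓ Subgroup.centralizer (K : Set G) with hS
  set Z := K ⊔ S with hZ
  have hnorm : ∀ z ∈ Z, ∀ a : G, a ∈ (↑Z : Set G) \ ((K : Set G) ∪ ↑S) →
      z * a * z⁻¹ ∈ (↑Z : Set G) \ ((K : Set G) ∪ ↑S) := by
    intro z hz a ha
    have hzK : z ∈ Subgroup.normalizer (K : Set G) := sup_le Subgroup.le_normalizer
      ((inf_le_right : S ≤ Subgroup.centralizer (K : Set G)).trans (Subgroup.centralizer_le_normalizer _)) hz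
    have hzS : z ∈ Subgroup.normalizer (S : Set G) := sup_le
      (CfsgLib.SigmaGroups.kappaZ_commute.trans (Subgroup.centralizer_le_normalizer _)) Subgroup.le_normalizer hz
    exact ⟨mul_mem (mul_mem hz ha.1) (inv_mem hz), fun h => ha.2 (h.imp
      (fun h' => (Subgroup.mem_normalizer_iff.1 hzK a).2 h') fun h' => (Subgroup.mem_normalizer_iff.1 hzS a).2 h')⟩
  have hle : Z ≤ Subgroup.normalizer ((↑Z : Set G) \ ((K : Set G) ∪ ↑S)) := fun z hz => by
    refine Subgroup.mem_set_normalizer_iff.2 fun a => ⟨hnorm z hz a, fun h => ?_⟩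
    have h' := hnorm z⁻¹ (inv_mem hz) _ h
    rwa [show z⁻¹ * (z * a * z⁻¹) * z⁻¹⁻¹ = a by group] at h'
  have hTI : ∀ g : G, ∀ a ∈ (↑Z : Set G) \ ((K : Set G) ∪ ↑S), g * a * g⁻¹ ∈ (↑Z : Set G) → g ∈ Z :=
    fun g a ha hg => CfsgLib.SigmaGroups.kappaZ_mem_of_conj hG hM hK hK1 ha.1 (fun h => ha.2 (Or.inl h))
      (fun h => ha.2 (Or.inr h)) hg
  refine ⟨fun g hg a ha hga => absurd (hle (hTI g a ha hga.1)) hg, le_antisymm (fun g hg => ?_) hle⟩
  obtain ⟨u, hu, hu1⟩ := (Subgroup.bot_or_exists_ne_one _).resolve_left hK1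
  obtain ⟨v, hv, hv1⟩ := (Subgroup.bot_or_exists_ne_one _).resolve_left
    (CfsgLib.SigmaGroups.kappaStar_ne_bot hG hM hK hK1)
  have hbot := Subgroup.inf_eq_bot_of_coprime (CfsgLib.SigmaGroups.kappaZ_coprime hK)
  have ha : u * v ∈ (↑Z : Set G) \ ((K : Set G) ∪ ↑S) := ⟨Subgroup.mul_mem_sup hu hv, fun h => h.elim
    (fun h' => hv1 (Subgroup.mem_bot.1 (hbot ▸ Subgroup.mem_inf.2 ⟨(Subgroup.mul_mem_cancel_left K hu).1 h', hv⟩)))
    fun h' => hu1 (Subgroup.mem_bot.1 (hbot ▸ Subgroup.mem_inf.2 ⟨hu, (Subgroup.mul_mem_cancel_right S hv).1 h'⟩))⟩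
  exact hTI g _ ha ((Subgroup.mem_set_normalizer_iff.1 hg _).1 ha).1


end Cfsg.Agent.S1370
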