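import Cfsg.Statements.S1371
import Cfsg.Agent.Sigma.KappaDecomp

set_option autoImplicit false
open Cfsg

namespace Cfsg.Agent.S1371

/-- Let G be a minimal simple group of odd order, M a maximal subgroup with standard factorisation M = K U M_σ, K ≠ 1, K* = M_σ ∩ C_G(K), and Ẑ the set of elements of K K* outside K ∪ K*. Then the union of the M-conjugates of Ẑ equals A₀(M) with A(M) removed, and it is a TI-subset of G. -/
theorem result {G : Type*} [Group G] [Finite G] (hG : Cfsg.IsMinSimpleOddOrder G)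
    (M : Subgroup G) (hM : IsCoatom M) (K U : Subgroup G) (hKU : Cfsg.IsSigmaDecomposition M K U) (hK1 : K ≠ ⊥) :
    {a : G | ∃ m ∈ M, ∃ z ∈ ((↑(K ⊔ (Cfsg.sigmaCore M ⊓ Subgroup.centralizer (K : Set G))) : Set G) \ ((K : Set G) ∪ ↑(Cfsg.sigmaCore M ⊓ Subgroup.centralizer (K : Set G)))), a = m * z * m⁻¹} = Cfsg.sigmaA0 M K \ Cfsg.sigmaA M U ∧
      Cfsg.IsTISubset (Cfsg.sigmaA0 M K \ Cfsg.sigmaA M U) := by
  classical
  have hK := hKU.hall
  obtain ⟨hE, hU⟩ := CfsgLib.SigmaGroups.decomp_complement_card hG hM hKU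
  have hSM : Cfsg.sigmaCore M ≤ M := Subgroup.map_subtype_le _
  set S := Cfsg.sigmaCore M ⊓ Subgroup.centralizer (K : Set G) with hS
  set Z := K ⊔ S with hZ
  have hZM : Z ≤ M := sup_le hK.1 (inf_le_left.trans hSM)
  set W := U ⊔ Cfsg.sigmaCore M with hW
  have hMW := CfsgLib.SigmaGroups.decomp_sup_normal hG hM hKU
  have hKW : K ⊓ W = ⊥ := Subgroup.inf_eq_bot_of_coprime (Nat.coprime_of_dvd fun s hs h1 h2 => by
    rcases hs.dvd_mul.1 (h2.trans (Dvd.intro _ (CfsgLib.ZJ.card_sup_mul_card_inf_of_le_normalizer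
      (hU.1.trans (CfsgLib.SigmaGroups.le_normalizer_sigmaCore M))))) with h | h
    · exact (hU.2.1 s hs h).2.1 (hK.2.1 s hs h1)
    · exact (hK.2.1 s hs h1).2.2.1 (CfsgLib.SigmaGroups.mem_sigma_of_dvd M hs h))
  have heq : {a : G | ∃ m ∈ M, ∃ z ∈ ((↑Z : Set G) \ ((K : Set G) ∪ ↑S)), a = m * z * m⁻¹} =
      Cfsg.sigmaA0 M K \ Cfsg.sigmaA M U := by
    ext a
    constructor
    · rintro ⟨m, hm, z, hz, rfl⟩
      obtain ⟨u, hu, v, hv, he, huv, huz, hvz⟩ := CfsgLib.SigmaGroups.kappaZ_decomp hK hz.1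
      have hu1 : u ≠ 1 := fun h => hz.2 (Or.inr (by rw [← he, h, one_mul]; exact hv))
      have hv1 : v ≠ 1 := fun h => hz.2 (Or.inl (by rw [← he, h, mul_one]; exact hu))
      have hzM : z ∈ M := hZM hz.1
      refine ⟨⟨⟨mul_mem (mul_mem hm hzM) (inv_mem hm), m * v * m⁻¹,
        (Subgroup.mem_normalizer_iff.1 (CfsgLib.SigmaGroups.le_normalizer_sigmaCore M hm) v).1 hv.1,
        fun h => hv1 (conj_eq_one_iff.1 h), ?_⟩, ?_⟩, ?_⟩
      · have hc : Commute z v := he ▸ Commute.mul_left huv (Commute.refl v)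
        show m * z * m⁻¹ * (m * v * m⁻¹) = m * v * m⁻¹ * (m * z * m⁻¹)
        rw [show m * z * m⁻¹ * (m * v * m⁻¹) = m * (z * v) * m⁻¹ by group, hc.eq]
        group
      · rintro ⟨k, hk, hk1, n, hn, hkn⟩
        obtain ⟨l, hl, hld⟩ := Nat.exists_prime_and_dvd fun e => hv1 (orderOf_eq_one_iff.1 e)
        refine (hK.2.1 l hl ?_).2.2.1 (CfsgLib.SigmaGroups.prime_mem_sigma M hv.1 hl hld)
        have h1 : orderOf (m * z * m⁻¹) = orderOf z := (MulAut.conj m).orderOf_eq z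
        have h2 : orderOf (n * k * n⁻¹) = orderOf k := (MulAut.conj n).orderOf_eq k
        have hd : l ∣ orderOf z := hld.trans (orderOf_dvd_of_mem_zpowers hvz)
        rw [← h1, hkn, h2] at hd
        exact hd.trans (Subgroup.orderOf_dvd_natCard K hk)
      · rintro ⟨-, hzW⟩
        have hz' : z ∈ W := (Subgroup.mem_normalizer_iff.1 (hMW hm) z).2 hzW
        exact hu1 (Subgroup.mem_bot.1 (hKW ▸ Subgroup.mem_inf.2 ⟨hu,
          (Subgroup.mul_mem_cancel_right W (Subgroup.mem_sup_right hv.1)).1 (he.symm ▸ hz')⟩))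
    · rintro ⟨⟨ha, hnK⟩, hnA⟩
      have haW : a ∉ W := fun h => hnA ⟨ha, h⟩
      have haM : a ∈ M := ha.1
      have ha1 : a ≠ 1 := fun h => haW (h ▸ one_mem _)
      obtain ⟨t, ht, hta, htk⟩ : ∃ t : ℕ, t.Prime ∧ t ∣ orderOf a ∧ t ∈ Cfsg.kappa M := by
        by_contra hno
        push Not at hno
        apply haW
        haveI := Subgroup.normal_subgroupOf_of_le_normalizer hMW
        have h1 : (QuotientGroup.mk' (W.subgroupOf M) ⟨a, haM⟩) = 1 := by
          rw [← orderOf_eq_one_iff]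
          by_contra hne
          obtain ⟨l, hl, hld⟩ := Nat.exists_prime_and_dvd hne
          have hla : l ∣ orderOf a := by
            rw [← Subgroup.orderOf_mk a haM]
            exact hld.trans (orderOf_map_dvd _ _)
          have hlW : l ∣ W.relIndex M := hld.trans (orderOf_dvd_natCard _)
          by_cases hls : l ∈ Cfsg.sigma M
          · exact (CfsgLib.SigmaGroups.sigmaCore_hallOf hG hM).2.2 l hl hls
              (hlW.trans (Subgroup.relIndex_dvd_of_le_left M le_sup_right))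
          · exact hU.2.2 l hl ⟨hl, hno l hl hla, hls⟩ (hlW.trans (Subgroup.relIndex_dvd_of_le_left M le_sup_left))
        rwa [QuotientGroup.mk'_apply, QuotientGroup.eq_one_iff, Subgroup.mem_subgroupOf] at h1
      haveI := Fact.mk ht
      obtain ⟨f, hf, hfo⟩ := CfsgLib.SigmaGroups.exists_elem_prime (p := t) (H := Subgroup.zpowers a)
        (by rwa [Nat.card_zpowers])
      have hfM : f ∈ M := Subgroup.zpowers_le.2 haM hf
      haveI : Group.IsSolvable M := CfsgLib.Uniq.isSolvable_of_ne_top hG hM.1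
      obtain ⟨F, hKF, hF, hconj⟩ := CfsgLib.SigmaGroups.exists_hall_over (π := Cfsg.kappa M) hK.1 hK.2.1
      have hFK : F ≤ K := CfsgLib.SigmaGroups.le_of_prime_relIndex fun s hs hsd hdi => hK.2.2 s hs (hF.2.1 s hs hsd)
        (hdi.trans (Dvd.intro _ (Subgroup.relIndex_mul_relIndex K F M hKF hF.1)))
      obtain ⟨m, hm, hmF⟩ := hconj (Subgroup.zpowers f) (Subgroup.zpowers_le.2 hfM) fun s hs hsd => by
        rw [Nat.card_zpowers, hfo] at hsd
        exact (Nat.prime_dvd_prime_iff_eq hs ht).1 hsd ▸ htk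
      have hx : m * f * m⁻¹ ∈ K := hFK (hmF ⟨f, Subgroup.mem_zpowers f, rfl⟩)
      have hf1 : f ≠ 1 := fun h => ht.one_lt.ne (by rw [← hfo, h, orderOf_one])
      have hfa : Commute a f := by
        obtain ⟨i, rfl⟩ := Subgroup.mem_zpowers_iff.1 hf
        exact (Commute.refl a).zpow_right i
      have hb : m * a * m⁻¹ ∈ Z := CfsgLib.SigmaGroups.mem_of_conj_kappa hG hM hK hK1
        (mul_mem (mul_mem hm haM) (inv_mem hm)) hx (fun h => hf1 (conj_eq_one_iff.1 h)) (by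
          rw [show m * a * m⁻¹ * (m * f * m⁻¹) * (m * a * m⁻¹)⁻¹ = m * (a * f) * a⁻¹ * m⁻¹ by group, hfa.eq,
            show m * (f * a) * a⁻¹ * m⁻¹ = m * f * m⁻¹ by group]
          exact hx)
      refine ⟨m⁻¹, inv_mem hm, m * a * m⁻¹, ⟨hb, ?_⟩, by group⟩
      rintro (h | h)
      · exact hnK ⟨m * a * m⁻¹, h, fun e => ha1 (conj_eq_one_iff.1 e), m⁻¹, inv_mem hm, by group⟩
      · refine htk.2.2.1 (CfsgLib.SigmaGroups.prime_mem_sigma M h.1 ht ?_)
        rwa [show orderOf (m * a * m⁻¹) = orderOf a from (MulAut.conj m).orderOf_eq a]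
  refine ⟨heq, ?_⟩
  rw [← heq]
  intro g hg x hx hgx
  obtain ⟨m, hm, z, hz, rfl⟩ := hx
  obtain ⟨n, hn, z', hz', he⟩ := hgx
  have hgZ : n⁻¹ * g * m ∈ Z := CfsgLib.SigmaGroups.kappaZ_mem_of_conj hG hM hK hK1 hz.1
    (fun h => hz.2 (Or.inl h)) (fun h => hz.2 (Or.inr h)) (by
      rw [show n⁻¹ * g * m * z * (n⁻¹ * g * m)⁻¹ = n⁻¹ * (g * (m * z * m⁻¹) * g⁻¹) * n by group, he,
        show n⁻¹ * (n * z' * n⁻¹) * n = z' by group]
      exact hz'.1)
  have hgM : g ∈ M := by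
    have h := mul_mem (mul_mem hn (hZM hgZ)) (inv_mem hm)
    rwa [show n * (n⁻¹ * g * m) * m⁻¹ = g by group] at h
  refine absurd (Subgroup.mem_set_normalizer_iff.2 fun a => ⟨?_, ?_⟩) hg
  · rintro ⟨m, hm, z, hz, rfl⟩
    exact ⟨g * m, mul_mem hgM hm, z, hz, by group⟩
  · rintro ⟨m, hm, z, hz, h⟩
    refine ⟨g⁻¹ * m, mul_mem (inv_mem hgM) hm, z, hz, ?_⟩
    have h' := congrArg (fun b => g⁻¹ * b * g) h
    change g⁻¹ * (g * a * g⁻¹) * g = g⁻¹ * (m * z * m⁻¹) * g at h'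
    rw [show g⁻¹ * (g * a * g⁻¹) * g = a by group] at h'
    rw [h']
    group


end Cfsg.Agent.S1371
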