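import Cfsg.Statements.S1379
import Cfsg.Agent.Sigma.SigmaPartition

set_option autoImplicit false
open Cfsg

namespace Cfsg.Agent.S1379

/-- Let G be a minimal simple group of odd order; for a maximal subgroup M write M̃ for the union of the G-conjugates of the cosets x R(x), x ≠ 1 in M_σ. Then M̃ ∩ Ñ = ∅ for non-conjugate maximal M, N; if every maximal subgroup has κ empty, every g ≠ 1 lies in some M̃; and if M = K U M_σ has K ≠ 1 with Ẑ = K K* − (K ∪ K*), then every g ≠ 1 lies in some Ñ or in a conjugate of Ẑ, and no conjugate of an element of Ẑ lies in any Ñ. -/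
theorem result {G : Type*} [Group G] [Finite G] (hG : Cfsg.IsMinSimpleOddOrder G) :
    (∀ M N : Subgroup G, IsCoatom M → IsCoatom N → (∀ g : G, N ≠ M.map (MulAut.conj g).toMonoidHom) → Cfsg.tildeOf M ((Cfsg.sigmaCore M : Set G) \ {1}) ∩ Cfsg.tildeOf N ((Cfsg.sigmaCore N : Set G) \ {1}) = ∅) ∧
      ((∀ M : Subgroup G, IsCoatom M → Cfsg.kappa M = ∅) →
        ∀ g : G, g ≠ 1 → ∃ M : Subgroup G, IsCoatom M ∧ g ∈ Cfsg.tildeOf M ((Cfsg.sigmaCore M : Set G) \ {1})) ∧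
      ∀ (M K U : Subgroup G), IsCoatom M → Cfsg.IsSigmaDecomposition M K U → K ≠ ⊥ →
        (∀ g : G, g ≠ 1 → (∃ N : Subgroup G, IsCoatom N ∧ g ∈ Cfsg.tildeOf N ((Cfsg.sigmaCore N : Set G) \ {1})) ∨
            ∃ y : G, ∃ z ∈ ((↑(K ⊔ (Cfsg.sigmaCore M ⊓ Subgroup.centralizer (K : Set G))) : Set G) \ ((K : Set G) ∪ ↑(Cfsg.sigmaCore M ⊓ Subgroup.centralizer (K : Set G)))), g = y * z * y⁻¹) ∧
        ∀ N : Subgroup G, IsCoatom N → ∀ y : G, ∀ z ∈ ((↑(K ⊔ (Cfsg.sigmaCore M ⊓ Subgroup.centralizer (K : Set G))) : Set G) \ ((K : Set G) ∪ ↑(Cfsg.sigmaCore M ⊓ Subgroup.centralizer (K : Set G)))), y * z * y⁻¹ ∉ Cfsg.tildeOf N ((Cfsg.sigmaCore N : Set G) \ {1}) := by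
  refine ⟨fun M N hM hN hnc => CfsgLib.SigmaGroups.tilde_disjoint hG hM hN hnc, fun hno g hg => ?_,
    fun M K U hM hKU hK1 => ?_⟩
  · rcases CfsgLib.SigmaGroups.covered hG hg with h | ⟨H, x, y, hH, -, -, -, -, hy1, -, hκ⟩
    · exact h
    · obtain ⟨t, ht, hd⟩ := Nat.exists_prime_and_dvd fun h => hy1 (orderOf_eq_one_iff.1 h)
      have := hκ t ht hd
      rw [hno H hH] at this
      exact absurd this (Set.notMem_empty t)
  have hK := hKU.hall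
  obtain ⟨Ms, hMs, P⟩ := CfsgLib.SigmaGroups.exists_kappaPair hG hM hK hK1
  set S := Cfsg.sigmaCore M ⊓ Subgroup.centralizer (K : Set G) with hS
  have hS1 : S ≠ ⊥ := CfsgLib.SigmaGroups.kappaStar_ne_bot hG hM hK hK1
  have hZ : S ⊔ (Cfsg.sigmaCore Ms ⊓ Subgroup.centralizer (S : Set G)) = K ⊔ S := by
    rw [P.star_eq hG hM hMs, sup_comm]
  refine ⟨fun g hg => ?_, fun N hN y z hz hyz => ?_⟩
  · rcases CfsgLib.SigmaGroups.covered hG hg with h | ⟨H, x, y, hH, hx, hx1, hy, hxy, hy1, rfl, hκ⟩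
    · exact Or.inl h
    obtain ⟨t, ht, hd⟩ := Nat.exists_prime_and_dvd fun h => hy1 (orderOf_eq_one_iff.1 h)
    obtain ⟨h, hH'⟩ := CfsgLib.SigmaGroups.kappa_two_classes hG hM hMs P hH ⟨t, hκ t ht hd⟩
    have main : ∀ (L Kl : Subgroup G), IsCoatom L → Cfsg.IsPiHallOf (Cfsg.kappa L) Kl L → Kl ≠ ⊥ →
        H = L.map (MulAut.conj h).toMonoidHom →
        (∃ N : Subgroup G, IsCoatom N ∧ x * y ∈ Cfsg.tildeOf N ((Cfsg.sigmaCore N : Set G) \ {1})) ∨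
          ∃ w : G, w * (x * y) * w⁻¹ ∈ (↑(Kl ⊔ (Cfsg.sigmaCore L ⊓ Subgroup.centralizer (Kl : Set G))) : Set G) \
            ((Kl : Set G) ∪ ↑(Cfsg.sigmaCore L ⊓ Subgroup.centralizer (Kl : Set G))) := by
      intro L Kl hL hKl hKl1 he
      set x₀ := h⁻¹ * x * h with hx₀
      set y₀ := h⁻¹ * y * h with hy₀
      have hx₀S : x₀ ∈ Cfsg.sigmaCore L := by
        rw [he, CfsgLib.SigmaGroups.sigmaCore_conj hG hL] at hx
        obtain ⟨a, ha, hax⟩ := hx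
        rw [hx₀, ← hax]
        show h⁻¹ * (h * a * h⁻¹) * h ∈ Cfsg.sigmaCore L
        rwa [show h⁻¹ * (h * a * h⁻¹) * h = a by group]
      have hy₀L : y₀ ∈ L := by
        rw [he] at hy
        obtain ⟨a, ha, hax⟩ := hy
        rw [hy₀, ← hax]
        show h⁻¹ * (h * a * h⁻¹) * h ∈ L
        rwa [show h⁻¹ * (h * a * h⁻¹) * h = a by group]
      have hxy₀ : Commute x₀ y₀ := by
        show h⁻¹ * x * h * (h⁻¹ * y * h) = h⁻¹ * y * h * (h⁻¹ * x * h)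
        rw [show h⁻¹ * x * h * (h⁻¹ * y * h) = h⁻¹ * (x * y) * h by group, hxy.eq]
        group
      have hyo : orderOf y₀ = orderOf y := by
        rw [hy₀, show h⁻¹ * y * h = h⁻¹ * y * h⁻¹⁻¹ by rw [inv_inv]]
        exact (MulAut.conj h⁻¹).orderOf_eq y
      have hx₀1 : x₀ ≠ 1 := fun e => hx1 (by
        have h' : h * x₀ * h⁻¹ = x := by rw [hx₀]; group
        rw [← h', e]; group)
      have hy₀1 : y₀ ≠ 1 := fun e => hy1 (by rw [← orderOf_eq_one_iff, ← hyo, e, orderOf_one])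
      rcases CfsgLib.SigmaGroups.covered_of_mem hG hL hx₀S hx₀1 hy₀L hxy₀ hy₀1 (fun s hs hsd hsσ => by
          haveI := Fact.mk hs
          exact (hκ s hs (hyo ▸ hsd)).2.2.1 (he ▸ (CfsgLib.SigmaGroups.mem_sigma_conj_iff h).2 hsσ)) with
        ⟨N, hN, a, ha, r, hr, w, hw⟩ | hκ₀
      · refine Or.inl ⟨N, hN, a, ha, r, hr, h * w, ?_⟩
        rw [show h * w * (a * r) * (h * w)⁻¹ = h * (w * (a * r) * w⁻¹) * h⁻¹ by group, ← hw, hx₀, hy₀]
        group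
      · obtain ⟨m, hm⟩ := CfsgLib.SigmaGroups.mem_zhat_conj hG hL hKl hKl1 hx₀S hx₀1 hy₀L hxy₀ hy₀1 hκ₀
        refine Or.inr ⟨m * h⁻¹, ?_⟩
        rwa [show m * h⁻¹ * (x * y) * (m * h⁻¹)⁻¹ = m * (x₀ * y₀) * m⁻¹ by rw [hx₀, hy₀]; group]
    rcases hH' with he | he
    · rcases main M K hM hK hK1 he with h' | ⟨w, hw⟩
      · exact Or.inl h'
      · exact Or.inr ⟨w⁻¹, _, hw, by group⟩
    · rcases main Ms S hMs P.hall_star hS1 he with h' | ⟨w, hw⟩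
      · exact Or.inl h'
      · refine Or.inr ⟨w⁻¹, _, ⟨hZ ▸ hw.1, fun hmem => hw.2 ?_⟩, by group⟩
        rw [P.star_eq hG hM hMs]
        exact hmem.symm
  obtain ⟨a, ⟨ha, ha1⟩, r, hr, w, hw⟩ := hyz
  obtain ⟨u, hu, v, hv, he, huv, -, -⟩ := CfsgLib.SigmaGroups.kappaZ_decomp hK hz.1
  have hu1 : u ≠ 1 := fun e => hz.2 (Or.inr (by rw [← he, e, one_mul]; exact hv))
  have hv1 : v ≠ 1 := fun e => hz.2 (Or.inl (by rw [← he, e, mul_one]; exact hu))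
  obtain ⟨l, hl, hla⟩ := Nat.exists_prime_and_dvd fun e => ha1 (orderOf_eq_one_iff.1 e)
  haveI := Fact.mk hl
  obtain ⟨hcomm, hrp⟩ := CfsgLib.SigmaGroups.supportR_primes hG hN ha ha1 hr
  have hlz : l ∣ orderOf z := by
    have e1 : orderOf (y * z * y⁻¹) = orderOf z := (MulAut.conj y).orderOf_eq z
    have e2 : orderOf (w * (a * r) * w⁻¹) = orderOf (a * r) := (MulAut.conj w).orderOf_eq (a * r)
    rw [← e1, hw, e2, hcomm.orderOf_mul_eq_mul_orderOf_of_coprime (Nat.coprime_of_dvd fun s hs h1 h2 =>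
      hrp s hs h2 (CfsgLib.SigmaGroups.prime_mem_sigma N ha hs h1))]
    exact hla.trans (dvd_mul_right _ _)
  have hlN := CfsgLib.SigmaGroups.prime_mem_sigma N ha hl hla
  have hl2 := hlz.trans (Subgroup.orderOf_dvd_natCard _ hz.1)
  rw [CfsgLib.SigmaGroups.kappaZ_card hK] at hl2
  have hmain : ∀ (L Kl : Subgroup G), IsCoatom L → Cfsg.IsPiHallOf (Cfsg.kappa L) Kl L → Kl ≠ ⊥ →
      l ∈ Cfsg.sigma L → ∀ u v : G, Commute u v → u ∈ Kl → u ≠ 1 →
        v ∈ Cfsg.sigmaCore L ⊓ Subgroup.centralizer (Kl : Set G) → v ≠ 1 → u * v = z → False := by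
    intro L Kl hL hKl hKl1 hlL u v huv hu hu1 hv hv1 huz
    obtain ⟨g, hg⟩ : ∃ g : G, N = L.map (MulAut.conj g).toMonoidHom := by
      by_contra hno
      push Not at hno
      exact CfsgLib.SigmaGroups.sigma_disjoint hG hL hN hno hlL hlN
    refine CfsgLib.SigmaGroups.not_mem_supportUnion hG hL hKl hKl1 huv hv hv1 hu1
      (fun s hs hd => (hKl.2.1 s hs (hd.trans (Subgroup.orderOf_dvd_natCard _ hu))).2.2.1) y ?_
    refine ⟨w * g, w * a * w⁻¹, ?_, fun e => ha1 (conj_eq_one_iff.1 e), w * r * w⁻¹, ?_, ?_⟩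
    · rw [← CfsgLib.SigmaGroups.map_conj_map, ← hg]
      exact CfsgLib.SigmaGroups.sigmaCore_conj_ge hG hN w ⟨a, ha, rfl⟩
    · rw [← CfsgLib.SigmaGroups.map_conj_map, ← hg]
      exact CfsgLib.SigmaGroups.supportR_conj hG hN ha ha1 hr w
    · rw [huz, hw]
      group
  rcases hl.dvd_mul.1 hl2 with h' | h'
  · exact hmain Ms S hMs P.hall_star hS1 (CfsgLib.SigmaGroups.mem_sigma_of_dvd Ms hl
      (h'.trans (Subgroup.card_dvd_of_le (P.eq_star.le.trans inf_le_left)))) v u huv.symm hv hv1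
      (by rw [P.star_eq hG hM hMs]; exact hu) hu1 (huv.eq ▸ he)
  · exact hmain M K hM hK hK1 (CfsgLib.SigmaGroups.mem_sigma_of_dvd M hl
      (h'.trans (Subgroup.card_dvd_of_le inf_le_left))) u v huv hu hu1 hv hv1 he


end Cfsg.Agent.S1379
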