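import Cfsg.Statements.S1430
import Cfsg.Agent.Sigma.KappaStar

set_option autoImplicit false
open Cfsg

namespace Cfsg.Agent.S1430

/-- Let G be a minimal simple group of odd order, M a maximal subgroup, K ≠ 1 a Hall κ(M)-subgroup of M and K* = M_σ ∩ C_G(K). Then M_σ ∩ C_G(k) = K* for every non-identity k ∈ K; there is an abelian subgroup U of M, a Hall subgroup of M for the primes outside κ(M) ∪ σ(M), normalized by K with U ∩ C_G(k) = 1 for all non-identity k ∈ K; and for every subgroup X ≤ K of prime order, M ∩ N_G(X) = M ∩ N_G(K) = K ⊔ K*, and X ≤ M*_σ for every maximal subgroup M* containing N_G(X). -/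
theorem result {G : Type*} [Group G] [Finite G] (hG : Cfsg.IsMinSimpleOddOrder G)
    (M : Subgroup G) (hM : IsCoatom M) (K : Subgroup G) (hK : Cfsg.IsPiHallOf (Cfsg.kappa M) K M) (hK1 : K ≠ ⊥) :
    (∀ k ∈ K, k ≠ 1 → Cfsg.sigmaCore M ⊓ Subgroup.centralizer ({k} : Set G) = (Cfsg.sigmaCore M ⊓ Subgroup.centralizer (K : Set G))) ∧
      (∃ U : Subgroup G, IsMulCommutative U ∧ Cfsg.IsPiHallOf {q | q.Prime ∧ q ∉ Cfsg.kappa M ∧ q ∉ Cfsg.sigma M} U M ∧
        K ≤ Subgroup.normalizer (U : Set G) ∧ ∀ k ∈ K, k ≠ 1 → U ⊓ Subgroup.centralizer ({k} : Set G) = ⊥) ∧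
      ∀ X : Subgroup G, X ≤ K → (Nat.card X).Prime →
        M ⊓ Subgroup.normalizer (X : Set G) = K ⊔ (Cfsg.sigmaCore M ⊓ Subgroup.centralizer (K : Set G)) ∧ M ⊓ Subgroup.normalizer (K : Set G) = K ⊔ (Cfsg.sigmaCore M ⊓ Subgroup.centralizer (K : Set G)) ∧
        ∀ Mstar : Subgroup G, IsCoatom Mstar → Subgroup.normalizer (X : Set G) ≤ Mstar → X ≤ Cfsg.sigmaCore Mstar := by
  open CfsgLib.SigmaGroups in
  obtain ⟨E, U, hE, hKE, hUc, -, hU, hEU, -, hl⟩ := kappa_complement_structure hG hM hK hK1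
  open CfsgLib.SigmaGroups in
  have hline : ∀ k ∈ K, k ≠ 1 → ∃ X : Subgroup G, X ≤ K ∧ (Nat.card X).Prime ∧
      Subgroup.centralizer ({k} : Set G) ≤ Subgroup.centralizer (X : Set G) := fun k hk hk1 => by
    obtain ⟨t, X, ht, hXk, hXc⟩ := exists_line_le (H := Subgroup.zpowers k) fun h => hk1 (Subgroup.zpowers_eq_bot.1 h)
    refine ⟨X, hXk.trans (Subgroup.zpowers_le.2 hk), by rw [hXc]; exact ht, ?_⟩
    rw [← centralizer_zpowers]
    exact Subgroup.centralizer_le hXk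
  refine ⟨fun k hk hk1 => ?_, ⟨U, hUc, hU, hKE.trans hEU, fun k hk hk1 => ?_⟩, fun X hX hXp => ?_⟩
  · obtain ⟨X, hX, hXp, hle⟩ := hline k hk hk1
    refine le_antisymm ((inf_le_inf_left _ hle).trans (hl X hX hXp).1.le) (inf_le_inf_left _ ?_)
    exact Subgroup.centralizer_le (Set.singleton_subset_iff.2 hk)
  · obtain ⟨X, hX, hXp, hle⟩ := hline k hk hk1
    exact le_bot_iff.1 ((inf_le_inf_left _ hle).trans (hl X hX hXp).2.2.le)
  open CfsgLib.SigmaGroups in
  haveI := Fact.mk hXp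
  open CfsgLib.SigmaGroups in
  obtain ⟨hps, hrk, -, hfix⟩ := kappa_basic hG hM (hK.2.1 _ hXp (Subgroup.card_dvd_of_le hX))
  open CfsgLib.SigmaGroups in
  refine ⟨normalizer_kappa_eq hG hM hK hK1 hX (line_ne_bot rfl) (hl X hX hXp).2.1,
    normalizer_kappa_eq hG hM hK hK1 le_rfl hK1 Subgroup.le_normalizer, fun Ms hMs hN => ?_⟩
  open CfsgLib.SigmaGroups in
  exact le_sigmaCore hG hMs
    (mem_sigma_neighbour hG hM hps hrk rfl (hX.trans hK.1) (hfix X (hX.trans hK.1) rfl) hMs hN)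
    (isPGroup_line rfl) (Subgroup.le_normalizer.trans hN)


end Cfsg.Agent.S1430
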