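import Cfsg.Statements.S1423
import Cfsg.Agent.Sigma.DerivedSigma

set_option autoImplicit false
open Cfsg

namespace Cfsg.Agent.S1423

/-- Let G be a minimal simple group of odd order, M a maximal subgroup, p ∈ σ(M), X ≤ M a subgroup of order p and P a Sylow p-subgroup of M_σ. If p ∈ β(M) or X ≤ (M_σ)', then C_G(X) ≤ M, M is the unique maximal subgroup containing C_G(X), and M is the unique maximal subgroup containing P. -/
theorem result {G : Type*} [Group G] [Finite G] (hG : Cfsg.IsMinSimpleOddOrder G)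
    (M : Subgroup G) (hM : IsCoatom M) (p : ℕ) [Fact p.Prime] (hp : p ∈ Cfsg.sigma M) (X : Subgroup G) (hXM : X ≤ M) (hX : Nat.card X = p)
    (P : Sylow p ↥(Cfsg.sigmaCore M)) (h : p ∈ Cfsg.beta M ∨ X ≤ ⁅Cfsg.sigmaCore M, Cfsg.sigmaCore M⁆) :
    (Subgroup.centralizer (X : Set G) ≤ M ∧ ∀ L : Subgroup G, IsCoatom L → Subgroup.centralizer (X : Set G) ≤ L → L = M) ∧ Cfsg.InUniqueMaximal ((P : Subgroup ↥(Cfsg.sigmaCore M)).map (Cfsg.sigmaCore M).subtype) ∧
      (P : Subgroup ↥(Cfsg.sigmaCore M)).map (Cfsg.sigmaCore M).subtype ≤ M := by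
  haveI : IsCyclic X := isCyclic_of_prime_card hX
  obtain ⟨⟨x, hxX⟩, hgen⟩ := IsCyclic.exists_generator (α := X)
  have hxo : orderOf x = p := by
    rw [← hX, ← orderOf_eq_card_of_forall_mem_zpowers hgen, Subgroup.orderOf_mk]
  have hzX : Subgroup.zpowers x = X :=
    Subgroup.eq_of_le_of_card_ge (Subgroup.zpowers_le.2 hxX) (by rw [Nat.card_zpowers, hxo, hX])
  have hC : Subgroup.centralizer (X : Set G) = Subgroup.centralizer ({x} : Set G) := by
    rw [← hzX, CfsgLib.SigmaGroups.centralizer_zpowers]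
  obtain ⟨hu, hle, hP⟩ := CfsgLib.SigmaGroups.sigma_line_unique hG hM hp hxo (hXM hxX) (h.imp_right fun h1 => h1 hxX)
  set Pm := (P : Subgroup ↥(Cfsg.sigmaCore M)).map (Cfsg.sigmaCore M).subtype with hPm
  have hPσ : Pm ≤ Cfsg.sigmaCore M := Subgroup.map_subtype_le _
  have hPM : Pm ≤ M := hPσ.trans (Subgroup.map_subtype_le _)
  obtain ⟨Q, hPQ, hQM, -⟩ := CfsgLib.SigmaGroups.exists_sylow hp (P.isPGroup'.map (Cfsg.sigmaCore M).subtype) hPM
  have hQe : (Q : Subgroup G) = Pm := CfsgLib.Uniq.sylow_map_max P _ Q.isPGroup'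
    (CfsgLib.SigmaGroups.le_sigmaCore hG hM hp Q.isPGroup' hQM) hPQ
  refine ⟨⟨hC ▸ hle, fun L hL hCL => CfsgLib.Uniq.eq_of_unique hu hM hle hL (hC ▸ hCL)⟩, ?_, hPM⟩
  rw [← hQe]
  exact hP Q hQM


end Cfsg.Agent.S1423
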