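import Cfsg.Statements.S1427
import Cfsg.Agent.Sigma.PrimeActionSylow

set_option autoImplicit false
open Cfsg

namespace Cfsg.Agent.S1427

/-- Let G be a minimal simple group of odd order, M a maximal subgroup, E a complement to M_σ in M, and S a nontrivial cyclic Sylow subgroup of E (for some prime). Then M_σ ∩ C_G(x) = M_σ ∩ C_G(S) for every non-identity x ∈ S. -/
theorem result {G : Type*} [Group G] [Finite G] (hG : Cfsg.IsMinSimpleOddOrder G)
    (M : Subgroup G) (hM : IsCoatom M) (E : Subgroup G) (hE : Cfsg.IsComplIn E (Cfsg.sigmaCore M) M) (p : ℕ) [Fact p.Prime] (S : Sylow p E) (hS1 : (S : Subgroup E) ≠ ⊥) (hSc : IsCyclic (S : Subgroup E)) :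
    ∀ x ∈ (S : Subgroup E).map E.subtype, x ≠ 1 →
        Cfsg.sigmaCore M ⊓ Subgroup.centralizer ({x} : Set G) = Cfsg.sigmaCore M ⊓ Subgroup.centralizer (((S : Subgroup E).map E.subtype : Subgroup G) : Set G) := by
  have hS1' : (S : Subgroup E).map E.subtype ≠ ⊥ := fun h =>
    hS1 ((Subgroup.map_eq_bot_iff_of_injective _ E.subtype_injective).1 h)
  have hpS : IsPGroup p ↥((S : Subgroup E).map E.subtype) := S.isPGroup'.map _
  have hps : p ∉ Cfsg.sigma M := fun hs =>
    CfsgLib.SigmaGroups.not_dvd_card_complement hG hM hE Fact.out hs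
      ((CfsgLib.Uniq.dvd_card_of_ne_bot hpS hS1').trans (Subgroup.card_dvd_of_le (Subgroup.map_subtype_le _)))
  have hr := CfsgLib.SigmaGroups.prank_one_of_cyclic_sylow hG hM hE hps S hSc
  intro x hx hx1
  refine le_antisymm (le_inf inf_le_left ?_) (le_inf inf_le_left ?_)
  · exact CfsgLib.SigmaGroups.prime_action_of_rank_one hG hM hps hr hpS
      ((Subgroup.map_subtype_le _).trans hE.1) hx hx1
  · exact inf_le_right.trans (Subgroup.centralizer_le (Set.singleton_subset_iff.2 hx))


end Cfsg.Agent.S1427
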