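import Cfsg.Statements.S1478
import Cfsg.Agent.CN.MinSimpleOdd
import Mathlib.Tactic

set_option autoImplicit false
open Cfsg
open scoped commutatorElement

namespace Cfsg.Agent.S1478

/-- Let G be a minimal simple group of odd order in which every non-identity element has nilpotent centralizer. Then no subgroup of G is a three-step group with respect to any prime. -/
theorem result {G : Type*} [Group G] [Finite G] (hG : Cfsg.IsMinSimpleOddOrder G) (hCN : Cfsg.IsCNGroup G) :
    ∀ (H : Subgroup G) (p : ℕ), ¬ Cfsg.IsThreeStepGroup p ↥H := by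
  intro H p hH
  obtain ⟨hPne, A, hAne, -, -, hAp, hPAn, hPAt, ⟨n, hn⟩, hfix, hcross⟩ := hH
  haveI := hPAn
  set P := Cfsg.pCore p H with hPdef
  haveI hPnorm : P.Normal := Cfsg.pCore_normal p _
  have hPp : IsPGroup p P := CfsgLib.Components.pCore_isPGroup p
  -- `H` is proper
  have hHt : H ≠ ⊤ := by
    rintro rfl
    haveI := hG.2.1
    haveI : IsSimpleGroup (⊤ : Subgroup G) :=
      IsSimpleGroup.isSimpleGroup_of_surjective (Subgroup.topEquiv (G := G)).symm.toMonoidHom Subgroup.topEquiv.symm.surjective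
    exact (hPAn.eq_bot_or_eq_top.resolve_right hPAt).le.trans' (le_sup_left (a := P) (b := A)) |> le_bot_iff.1 |> hPne
  obtain ⟨M, hM, hHM⟩ := (eq_top_or_exists_le_coatom H).resolve_left hHt
  obtain ⟨hFmax, -, hFN, E, hc, -, hEnil, -⟩ := CfsgLib.CN.MinOdd.frobenius_maximal hG hCN hM
  set F := Cfsg.fittingOf M with hF
  set K := F.subgroupOf H with hK
  have hKn : K.Normal := Subgroup.normal_subgroupOf_of_le_normalizer (hHM.trans hFN.ge)
  have hKnil : Group.IsNilpotent K :=
    haveI := hFmax.1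
    CfsgLib.CN.MinOdd.isNilpotent_of_inj (B := F) ((H.subtype.comp K.subtype).codRestrict F fun z => z.2) fun a b e => Subtype.ext (Subtype.ext (congrArg Subtype.val e :))
  -- a prime dividing both `p` and the index
  have hn0 : n ≠ 0 := fun e => hPAt (Subgroup.index_eq_one.1 (by rw [hn, e, pow_zero]))
  obtain ⟨q, hq, hqi⟩ := Nat.exists_prime_and_dvd (show (P ⊔ A).index ≠ 1 from fun e => hPAt (Subgroup.index_eq_one.1 e))
  haveI := Fact.mk hq
  have hqp : q ∣ p := hq.dvd_of_dvd_pow (hn ▸ hqi)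
  -- the Fitting subgroup of `H` is inside `O_p(H)`
  haveI : (Cfsg.fittingSubgroup H).Normal := CfsgLib.Components.fittingSubgroup_normal
  have hFP : ∀ z ∈ K, z ∈ P := by
    refine fun z hz => CfsgLib.CN.le_of_sylow_le (H := Cfsg.fittingSubgroup H) (C := P) (fun r hr R y hy => ?_)
      (CfsgLib.Components.le_fittingSubgroup hKn hKnil hz)
    haveI := Fact.mk hr
    haveI : Group.IsNilpotent (Cfsg.fittingSubgroup H) := CfsgLib.Components.fittingSubgroup_isNilpotent
    obtain ⟨j, hj⟩ := IsPGroup.iff_orderOf.1 R.isPGroup' ⟨y, hy⟩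
    rw [← Subgroup.orderOf_coe, ← Subgroup.orderOf_coe] at hj
    have hy' := CfsgLib.CN.mem_pCore_of_mem y.2 hj
    have hR : IsPGroup r (Cfsg.pCore r H) := CfsgLib.Components.pCore_isPGroup r
    by_cases hrp : r ∣ p
    · refine CfsgLib.Components.le_pCore (Cfsg.pCore_normal r _) (fun w => ?_) hy'
      obtain ⟨i, hi⟩ := hR w
      exact ⟨i, orderOf_dvd_iff_pow_eq_one.1 ((orderOf_dvd_of_pow_eq_one hi).trans (pow_dvd_pow_of_dvd hrp i))⟩
    have hdis : Disjoint P (Cfsg.pCore r H) := by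
      rw [Subgroup.disjoint_def]
      intro w hw hw'
      obtain ⟨i, hi⟩ := hPp ⟨w, hw⟩
      obtain ⟨k, hk⟩ := hR ⟨w, hw'⟩
      have h1 : orderOf w ∣ p ^ i := orderOf_dvd_of_pow_eq_one (congrArg Subtype.val hi :)
      have h2 : orderOf w ∣ r ^ k := orderOf_dvd_of_pow_eq_one (congrArg Subtype.val hk :)
      exact orderOf_eq_one_iff.1 (Nat.eq_one_of_dvd_coprimes (((Nat.Prime.coprime_iff_not_dvd hr).2 hrp).pow k i) h2 h1)
    have hcomm : ∀ w ∈ P, Commute w (y : H) :=
      fun w hw => Subgroup.commute_of_normal_of_disjoint P (Cfsg.pCore r H) hPnorm (Cfsg.pCore_normal r _) hdis w (y : H) hw hy'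
    have hyPA : (y : H) ∈ P ⊔ A := by
      rw [← QuotientGroup.eq_one_iff]
      refine orderOf_eq_one_iff.1 (Nat.eq_one_of_dvd_coprimes (((Nat.Prime.coprime_iff_not_dvd hr).2 hrp).pow j n) ?_ ?_)
      · exact (orderOf_map_dvd (QuotientGroup.mk' (P ⊔ A)) (y : H)).trans (hj ▸ dvd_rfl)
      · rw [← hn, Subgroup.index_eq_card]
        exact orderOf_dvd_natCard _
    by_contra hyP
    have hsub : P ≤ P ⊔ A := le_sup_left
    have hc' : Cfsg.IsComplIn P A (P ⊔ A) := by
      refine ⟨le_sup_left, le_sup_right, eq_bot_iff.2 fun w ⟨hw, hw'⟩ => ?_,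
        fun m hm => by obtain ⟨a, ha, b, hb, hab⟩ := Subgroup.mem_sup_of_normal_left.1 hm; exact ⟨a, ha, b, hb, hab.symm⟩⟩
      by_contra hw1
      exact hw1 ((hfix w hw' fun e => hw1 (Subgroup.mem_bot.2 e)) ▸
        ⟨hw, Subgroup.mem_centralizer_singleton_iff.2 rfl⟩)
    have h := CfsgLib.CN.MinOdd.fix_all (CfsgLib.CN.MinOdd.isCNGroup_subgroup hCN H) hc'
      (le_trans le_top (Subgroup.normalizer_eq_top_iff.2 hPnorm).ge) hfix (y : H) hyPA hyP
    exact hPne (le_bot_iff.1 (h ▸ le_inf le_rfl fun w hw => Subgroup.mem_centralizer_singleton_iff.2 (hcomm w hw).eq))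
  -- elements of coprime orders commute modulo `K`
  haveI := hKn
  have hquot : Group.IsNilpotent (↥H ⧸ K) := by
    haveI hFn : (F.subgroupOf M).Normal := Subgroup.normal_subgroupOf_of_le_normalizer hFN.ge
    haveI := hEnil
    haveI : Group.IsNilpotent (↥M ⧸ F.subgroupOf M) :=
      Group.nilpotent_of_surjective ((QuotientGroup.mk' (F.subgroupOf M)).comp (Subgroup.inclusion hc.2.1)) fun z => by
        obtain ⟨m, rfl⟩ := QuotientGroup.mk'_surjective _ z
        obtain ⟨a, ha, b, hb, hab⟩ := hc.2.2.2 (m : G) m.2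
        refine ⟨⟨b, hb⟩, ?_⟩
        rw [show m = (⟨a, hc.1 ha⟩ : M) * Subgroup.inclusion hc.2.1 ⟨b, hb⟩ from Subtype.ext hab, map_mul,
          show QuotientGroup.mk' (F.subgroupOf M) (⟨a, hc.1 ha⟩ : M) = 1 from
            (QuotientGroup.eq_one_iff _).2 (Subgroup.mem_subgroupOf.2 ha), one_mul]
        rfl
    refine CfsgLib.CN.MinOdd.isNilpotent_of_inj
      (QuotientGroup.map K (F.subgroupOf M) (Subgroup.inclusion hHM) fun z hz => hz) ((injective_iff_map_eq_one _).2 fun z hz => ?_)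
    obtain ⟨w, rfl⟩ := QuotientGroup.mk'_surjective _ z
    exact (QuotientGroup.eq_one_iff w).2 ((QuotientGroup.eq_one_iff (Subgroup.inclusion hHM w)).1 hz)
  obtain ⟨R⟩ : Nonempty (Sylow q H) := inferInstance
  obtain ⟨y, hyR, hy⟩ := SetLike.not_le_iff_exists.1
    (fun h : (R : Subgroup H) ≤ P ⊔ A => R.not_dvd_index (hqi.trans (Subgroup.index_dvd_of_le h)))
  obtain ⟨j, hj⟩ := IsPGroup.iff_orderOf.1 R.isPGroup' ⟨y, hyR⟩
  rw [← Subgroup.orderOf_coe] at hj
  change orderOf y = q ^ j at hj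
  obtain ⟨⟨a, ha⟩, ha1⟩ := Subgroup.ne_bot_iff_exists_ne_one.1 hAne
  have hcop : (orderOf y).Coprime (orderOf a) := by
    rw [hj]
    exact ((hAp.coprime_dvd_left ((Subgroup.orderOf_mk a ha) ▸ orderOf_dvd_natCard (⟨a, ha⟩ : A))).coprime_dvd_right hqp).symm.pow_left j
  haveI := hquot
  have hcm : Commute (QuotientGroup.mk' K y) (QuotientGroup.mk' K a) :=
    Cfsg.Agent.S3939.commute_of_coprime_nilpotent ((hcop.coprime_dvd_left (orderOf_map_dvd _ y)).coprime_dvd_right (orderOf_map_dvd _ a))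
  refine hcross y hy a ha (fun e => ha1 (Subtype.ext e)) (hFP _ ((QuotientGroup.eq_one_iff _).1 ?_))
  show QuotientGroup.mk' K _ = 1
  rw [map_mul, map_mul, map_mul, map_inv, map_inv, hcm.eq]
  group

end Cfsg.Agent.S1478
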