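import Cfsg.Statements.S1483
import Cfsg.Agent.CN.MinSimpleOdd
import Mathlib.Tactic

set_option autoImplicit false
open Cfsg
open scoped commutatorElement

namespace Cfsg.Agent.S1483

/-- Let G be a minimal simple group of odd order in which every non-identity element has nilpotent centralizer. Then any two nilpotent subgroups each contained in no larger nilpotent subgroup are either conjugate or of coprime orders; and for primes p, q, r: if some elements x, y ≠ 1 of p-power and q-power order commute, and some elements y', z ≠ 1 of q-power and r-power order commute, then some elements of p-power and r-power order, both ≠ 1, commute. -/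
theorem result {G : Type*} [Group G] [Finite G] (hG : Cfsg.IsMinSimpleOddOrder G) (hCN : Cfsg.IsCNGroup G) :
    (∀ H₁ H₂ : Subgroup G, (Group.IsNilpotent ↥H₁ ∧ ∀ L : Subgroup G, Group.IsNilpotent L → H₁ ≤ L → L = H₁) → (Group.IsNilpotent ↥H₂ ∧ ∀ L : Subgroup G, Group.IsNilpotent L → H₂ ≤ L → L = H₂) → (∃ g : G, H₂ = H₁.map (MulAut.conj g).toMonoidHom) ∨ (Nat.card H₁).Coprime (Nat.card H₂)) ∧
      ∀ (p q r : ℕ), p.Prime → q.Prime → r.Prime → ∀ (x y y' z : G), x ≠ 1 → y ≠ 1 → y' ≠ 1 → z ≠ 1 →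
        IsPGroup p (Subgroup.zpowers x) → IsPGroup q (Subgroup.zpowers y) → IsPGroup q (Subgroup.zpowers y') → IsPGroup r (Subgroup.zpowers z) →
        x * y = y * x → y' * z = z * y' →
        ∃ x' z' : G, x' ≠ 1 ∧ z' ≠ 1 ∧ IsPGroup p (Subgroup.zpowers x') ∧ IsPGroup r (Subgroup.zpowers z') ∧ x' * z' = z' * x' := by
  refine ⟨fun H₁ H₂ h₁ h₂ => ?_, fun p q r hp hq hr x y y' z hx hy hy' hz hxp hyq hyq' hzr hxy hyz => ?_⟩
  · by_cases hco : (Nat.card H₁).Coprime (Nat.card H₂)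
    · exact Or.inr hco
    obtain ⟨p, hp, hd₁, hd₂⟩ := Nat.Prime.not_coprime_iff_dvd.1 hco
    exact Or.inl (CfsgLib.CN.MinOdd.exists_conj_of_dvd hG hCN hp h₁ h₂ hd₁ hd₂)
  · have key : ∀ {s : ℕ} {H : Subgroup G} {w : G}, s.Prime → w ≠ 1 → IsPGroup s (Subgroup.zpowers w) → w ∈ H →
        s ∣ Nat.card H := by
      intro s H w hs hw hws hwH
      haveI := Fact.mk hs
      obtain ⟨i, hi⟩ := hws.exists_card_eq
      rcases Nat.eq_zero_or_pos i with rfl | hi0
      · rw [Nat.card_zpowers, pow_zero] at hi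
        exact absurd (orderOf_eq_one_iff.1 hi) hw
      · exact ((dvd_pow_self s hi0.ne').trans (hi ▸ dvd_rfl)).trans (Subgroup.card_dvd_of_le (Subgroup.zpowers_le.2 hwH))
    obtain ⟨H₁, hle₁, hH₁⟩ := CfsgLib.CN.MinOdd.exists_maxNil_le hG hCN (hCN y hy)
    obtain ⟨H₂, hle₂, hH₂⟩ := CfsgLib.CN.MinOdd.exists_maxNil_le hG hCN (hCN y' hy')
    have hp₁ := key hp hx hxp (hle₁ (Subgroup.mem_centralizer_singleton_iff.2 hxy))
    have hq₁ := key hq hy hyq (hle₁ (Subgroup.mem_centralizer_singleton_iff.2 rfl))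
    have hq₂ := key hq hy' hyq' (hle₂ (Subgroup.mem_centralizer_singleton_iff.2 rfl))
    have hr₂ := key hr hz hzr (hle₂ (Subgroup.mem_centralizer_singleton_iff.2 hyz.symm))
    obtain ⟨g, rfl⟩ := CfsgLib.CN.MinOdd.exists_conj_of_dvd hG hCN hq hH₁ hH₂ hq₁ hq₂
    rw [Subgroup.card_map_of_injective (MulAut.conj g).injective] at hr₂
    by_cases hpr : p = r
    · subst hpr
      exact ⟨x, x, hx, hx, hxp, hxp, rfl⟩
    haveI := Fact.mk hp
    haveI := Fact.mk hr
    obtain ⟨a, ha⟩ := exists_prime_orderOf_dvd_card' (G := H₁) p hp₁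
    obtain ⟨b, hb⟩ := exists_prime_orderOf_dvd_card' (G := H₁) r hr₂
    rw [← Subgroup.orderOf_coe] at ha hb
    refine ⟨a, b, ?_, ?_, ?_, ?_, (CfsgLib.CN.commute_of_mem hH₁.1 a.2 b.2 ?_).eq⟩
    · intro e; rw [e, orderOf_one] at ha; exact hp.ne_one ha.symm
    · intro e; rw [e, orderOf_one] at hb; exact hr.ne_one hb.symm
    · exact IsPGroup.of_card (n := 1) (by rw [Nat.card_zpowers, ha, pow_one])
    · exact IsPGroup.of_card (n := 1) (by rw [Nat.card_zpowers, hb, pow_one])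
    · rw [ha, hb]; exact (Nat.coprime_primes hp hr).2 hpr

end Cfsg.Agent.S1483
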