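import Cfsg.Statements.S1484
import Cfsg.Agent.CN.MinSimpleOdd
import Mathlib.Tactic

set_option autoImplicit false
open Cfsg
open scoped commutatorElement

namespace Cfsg.Agent.S1484

/-- Let G be a minimal simple group of odd order in which every non-identity element has nilpotent centralizer, and M₁, …, M_k maximal subgroups, pairwise non-conjugate, such that every maximal subgroup is conjugate to some M_i. Let H_i be the largest normal nilpotent Hall subgroup of M_i. Then the orders of the H_i are pairwise coprime, their product is the order of G, and every element of G is conjugate to an element of some H_i. -/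
theorem result {G : Type*} [Group G] [Finite G] (hG : Cfsg.IsMinSimpleOddOrder G) (hCN : Cfsg.IsCNGroup G) (k : ℕ) (Mrep : Fin k → Subgroup G) (hmax : ∀ i, IsCoatom (Mrep i))
    (hnc : ∀ i j, i ≠ j → ∀ g : G, Mrep j ≠ (Mrep i).map (MulAut.conj g).toMonoidHom) (hall : ∀ M : Subgroup G, IsCoatom M → ∃ i, ∃ g : G, M = (Mrep i).map (MulAut.conj g).toMonoidHom) :
    (∀ i j, i ≠ j → (Nat.card (Cfsg.fittingHallOf (Mrep i))).Coprime (Nat.card (Cfsg.fittingHallOf (Mrep j)))) ∧
      ∏ i, Nat.card (Cfsg.fittingHallOf (Mrep i)) = Nat.card G ∧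
      ∀ x : G, ∃ i, ∃ g : G, g * x * g⁻¹ ∈ Cfsg.fittingHallOf (Mrep i) := by
  have hF : ∀ i, Cfsg.fittingHallOf (Mrep i) = Cfsg.fittingOf (Mrep i) :=
    fun i => CfsgLib.CN.MinOdd.fittingHallOf_eq hG hCN (hmax i)
  have hmn : ∀ i, CfsgLib.CN.MinOdd.MaxNil (Cfsg.fittingOf (Mrep i)) :=
    fun i => (CfsgLib.CN.MinOdd.frobenius_maximal hG hCN (hmax i)).1
  -- every maximal nilpotent subgroup is conjugate to one of the kernels
  have hcover : ∀ H : Subgroup G, CfsgLib.CN.MinOdd.MaxNil H →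
      ∃ i, ∃ g : G, H = (Cfsg.fittingOf (Mrep i)).map (MulAut.conj g).toMonoidHom := by
    intro H hH
    obtain ⟨M, hM, hN, -⟩ := CfsgLib.CN.MinOdd.eq_fittingOf hG hCN hH
    obtain ⟨i, g, hg⟩ := hall M hM
    refine ⟨i, g, ?_⟩
    obtain ⟨M', hM', hN', hH'⟩ := CfsgLib.CN.MinOdd.eq_fittingOf hG hCN (CfsgLib.CN.MinOdd.maxNil_map (hmn i) g)
    rw [← Subgroup.map_equiv_normalizer_eq, (CfsgLib.CN.MinOdd.frobenius_maximal hG hCN (hmax i)).2.2.1] at hN'
    obtain ⟨M'', hM'', hN'', hH''⟩ := CfsgLib.CN.MinOdd.eq_fittingOf hG hCN hH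
    rw [hH', hH'', ← hN', ← hN'', hN, hg]
  have hco : ∀ i j, i ≠ j → (Nat.card (Cfsg.fittingOf (Mrep i))).Coprime (Nat.card (Cfsg.fittingOf (Mrep j))) := by
    intro i j hij
    by_contra hn
    obtain ⟨p, hp, hd, hd'⟩ := Nat.Prime.not_coprime_iff_dvd.1 hn
    obtain ⟨g, hg⟩ := CfsgLib.CN.MinOdd.exists_conj_of_dvd hG hCN hp (hmn i) (hmn j) hd hd'
    refine hnc i j hij g ?_
    have h := congrArg (fun X : Subgroup G => Subgroup.normalizer (X : Set G)) hg
    simp only [← Subgroup.map_equiv_normalizer_eq] at h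
    rwa [(CfsgLib.CN.MinOdd.frobenius_maximal hG hCN (hmax i)).2.2.1,
      (CfsgLib.CN.MinOdd.frobenius_maximal hG hCN (hmax j)).2.2.1] at h
  simp only [hF]
  refine ⟨hco, Nat.dvd_antisymm ?_ ?_, fun x => ?_⟩
  · refine Finset.prod_dvd_of_isRelPrime (fun i _ j _ hij => Nat.coprime_iff_isRelPrime.1 (hco i j hij)) fun i _ => Subgroup.card_subgroup_dvd_card _
  · rw [Nat.dvd_iff_prime_pow_dvd_dvd]
    intro p n hp hd
    rcases Nat.eq_zero_or_pos n with rfl | hn
    · simp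
    haveI := Fact.mk hp
    obtain ⟨S⟩ : Nonempty (Sylow p G) := inferInstance
    obtain ⟨M, hM, hSM⟩ := CfsgLib.CN.MinOdd.exists_kernel_sylow hG hCN ((dvd_pow_self p hn.ne').trans hd) S
    obtain ⟨i, g, hg⟩ := hcover _ (CfsgLib.CN.MinOdd.frobenius_maximal hG hCN hM).1
    refine dvd_trans ?_ (Finset.dvd_prod_of_mem _ (Finset.mem_univ i))
    refine (Nat.dvd_trans ?_ (Subgroup.card_dvd_of_le hSM)).trans
      (by rw [hg, Subgroup.card_map_of_injective (MulAut.conj g).injective])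
    exact S.pow_dvd_card_of_pow_dvd_card hd
  · obtain ⟨L, hle, hL⟩ := CfsgLib.CN.MinOdd.exists_maxNil_le hG hCN (CfsgLib.CN.MinOdd.isNilpotent_zpowers x)
    obtain ⟨i, g, rfl⟩ := hcover L hL
    obtain ⟨y, hy, hyx⟩ := hle (Subgroup.mem_zpowers x)
    refine ⟨i, g⁻¹, ?_⟩
    rw [← hyx]
    simpa [mul_assoc] using hy

end Cfsg.Agent.S1484
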