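import Cfsg.Statements.S1522
import Cfsg.Agent.S1521
import Cfsg.Agent.OddCoh.Layers

set_option autoImplicit false
open Cfsg

namespace Cfsg.Agent.S1522

open scoped commutatorElement
open CfsgLib.CharBasics CfsgLib.Exceptional

/-- A constituent of a character with `z` in the kernel has `z` in its kernel. -/
theorem constituent_kernel {X : Type*} [Group X] [Finite X] {χ ψ : X → ℂ} (hχ : Cfsg.IsCharacter X χ)
    (hψ : Cfsg.IsCharacter X ψ) {z : X} (h : (χ + ψ) z = (χ + ψ) 1) : χ z = χ 1 := by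
  have h1 := (Complex.re_le_norm _).trans (norm_le hχ z)
  have h2 := (Complex.re_le_norm _).trans (norm_le hψ z)
  have h3 := congrArg Complex.re h
  simp only [Pi.add_apply, Complex.add_re, apply_one hχ, apply_one hψ, Complex.natCast_re] at h3
  rw [apply_one hχ]
  have hre : (χ z).re = Cfsg.charDegree χ := by linarith
  have hn : ‖χ z‖ ^ 2 ≤ (Cfsg.charDegree χ : ℝ) ^ 2 := pow_le_pow_left₀ (norm_nonneg _) (norm_le hχ z) 2
  rw [← Complex.normSq_eq_norm_sq, Complex.normSq_apply, hre] at hn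
  have him : (χ z).im = 0 := by nlinarith [mul_self_nonneg (χ z).im]
  exact Complex.ext (by simpa using hre) (by simpa using him)

/-- Let K be a nilpotent normal subgroup of the finite group L of odd order with [K,K] < K < L and L/[K,K] a Frobenius group with kernel K/[K,K] (elements of K outside [K,K] are centralised modulo [K,K] only from inside K); let (S, τ, R) be a coherence system from L to G with S the functions induced from non-principal irreducible characters of K. Let Z be a nontrivial normal subgroup of L contained in the centre of K, and suppose every member of S outside S(Z) is an irreducible character of L. Then S minus S(Z) is the set of irreducible characters χ of L with χ z ≠ χ 1 for some z ∈ Z, and it is coherent. -/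
theorem result {L : Type*} [Group L] [Fintype L] {G : Type*} [Group G] [Fintype G] (K : Subgroup L) [hK : K.Normal] (hsolv : Group.IsSolvable K) (τ : (L → ℂ) → (G → ℂ)) (R : (L → ℂ) → Finset (G → ℂ)) (hS : Cfsg.IsCoherenceSystem (Cfsg.inducedIrrAbove K ⊥) τ R) (hodd : Odd (Nat.card L)) (hnil : Group.IsNilpotent K) (hH₁K : ⁅K, K⁆ < K) (hKL : K < ⊤) (hfrob : ∀ k ∈ K, k ∉ ⁅K, K⁆ → ∀ x : L, x * k * x⁻¹ * k⁻¹ ∈ ⁅K, K⁆ → x ∈ K) (Z : Subgroup L) [Z.Normal] (hZ1 : Z ≠ ⊥) (hZK : Z ≤ K) (hZc : ∀ z ∈ Z, ∀ k ∈ K, z * k = k * z) (hirr : ∀ χ ∈ Cfsg.inducedIrrAbove K ⊥ \ Cfsg.inducedIrrAbove K Z, Cfsg.IsIrrCharacter L χ) : Cfsg.inducedIrrAbove K ⊥ \ Cfsg.inducedIrrAbove K Z = {χ | Cfsg.IsIrrCharacter L χ ∧ ∃ z ∈ Z, χ z ≠ χ 1} ∧ Cfsg.IsCoherent (Cfsg.inducedIrrAbove K ⊥ \ Cfsg.inducedIrrAbove K Z) {1}ᶜ τ := by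
  classical
  haveI := Fintype.ofFinite K
  haveI : Fintype (Cfsg.IrrCharacter K) := Fintype.ofFinite _
  set S := Cfsg.inducedIrrAbove K (⊥ : Subgroup L) with hSdef
  set U : Set (L → ℂ) := S \ Cfsg.inducedIrrAbove K Z with hU
  have hcen := CfsgLib.OddCoh.subgroupOf_le_center K Z hZc
  set T := Finset.univ.filter fun θ : Cfsg.IrrCharacter K => Rel (Z.subgroupOf K) (θ : K → ℂ) with hT
  have hrelne : ∀ θ ∈ T, (θ : K → ℂ) ≠ fun _ => 1 := fun θ hθ h => by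
    obtain ⟨k, -, hk⟩ := (Finset.mem_filter.1 hθ).2
    exact hk (by rw [h])
  have hUirr : ∀ θ ∈ T, Cfsg.indFun K (θ : K → ℂ) ∈ U := fun θ hθ => by
    refine ⟨⟨θ, θ.2, hrelne θ hθ, fun a ha => ?_, rfl⟩, ?_⟩
    · rw [Subgroup.mem_bot] at ha
      rw [show a = 1 from Subtype.ext ha]
    · rintro ⟨θ', hθ', -, hk, he⟩
      have hr := (CfsgLib.OddCoh.rel_indFun_iff K Z hZK hZc θ).2 (Finset.mem_filter.1 hθ).2
      rw [he] at hr
      obtain ⟨k, hk', hne⟩ := (CfsgLib.OddCoh.rel_indFun_iff K Z hZK hZc ⟨θ', hθ'⟩).1 hr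
      exact hne (hk k (Subgroup.mem_subgroupOf.1 hk'))
  have hUmem : ∀ φ ∈ U, ∃ θ ∈ T, φ = Cfsg.indFun K (θ : K → ℂ) := by
    rintro φ ⟨⟨θ, hθ, hne, -, rfl⟩, hn⟩
    refine ⟨⟨θ, hθ⟩, Finset.mem_filter.2 ⟨Finset.mem_univ _, ?_⟩, rfl⟩
    by_contra h
    exact hn ⟨θ, hθ, hne, fun a ha => not_rel h (Subgroup.mem_subgroupOf.2 ha), rfl⟩
  refine ⟨?_, ?_⟩
  · ext χ
    constructor
    · intro hχ
      refine ⟨hirr χ hχ, ?_⟩
      obtain ⟨θ, hθ, rfl⟩ := hUmem χ hχ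
      exact (CfsgLib.OddCoh.rel_indFun_iff K Z hZK hZc θ).2 (Finset.mem_filter.1 hθ).2
    · rintro ⟨hχ, z, hz, hne⟩
      obtain ⟨θ, hθ⟩ := exists_restrict_constituent K ⟨χ, hχ⟩
      rw [← classInner_indFun K _ (isClassFunction (isCharacter_of_irr hχ))] at hθ
      have hθT : θ ∈ T := by
        refine Finset.mem_filter.2 ⟨Finset.mem_univ _, ?_⟩
        rw [← CfsgLib.OddCoh.rel_indFun_iff K Z hZK hZc θ]
        by_contra h
        obtain ⟨ψ, hψ, heq⟩ := split_constituent (isCharacter_indFun K (isCharacter_of_irr θ.2)) ⟨χ, hχ⟩ hθ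
        refine hne (constituent_kernel (isCharacter_of_irr hχ) hψ ?_)
        have := not_rel h hz
        rw [heq] at this
        exact this
      have h1 := hUirr θ hθT
      have h2 : Cfsg.indFun K (θ : K → ℂ) = χ := by
        by_contra h
        exact hθ (classInner_ne (hirr _ h1) hχ h)
      exact h2 ▸ h1
  have hUne : ∃ φ, φ ∈ U := by
    have h := CfsgLib.OddCoh.sum_nontrivial_sq (Z.subgroupOf K) hcen
    haveI : Nontrivial (Z.subgroupOf K) := by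
      rw [Subgroup.nontrivial_iff_ne_bot]
      intro hb
      refine hZ1 ((Subgroup.eq_bot_iff_forall _).2 fun z hz => ?_)
      have := (Subgroup.eq_bot_iff_forall _).1 hb ⟨z, hZK hz⟩ (Subgroup.mem_subgroupOf.2 hz)
      exact congrArg Subtype.val this
    have := Finite.one_lt_card (α := Z.subgroupOf K)
    by_contra hc
    push Not at hc
    rw [Finset.sum_eq_zero fun θ _ => by
      rw [if_neg]
      exact fun hr => hc _ (hUirr θ (Finset.mem_filter.2 ⟨Finset.mem_univ _, hr⟩))] at h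
    rcases mul_eq_zero.1 h.symm with h0 | h0
    · exact Subgroup.index_ne_zero_of_finite h0
    · omega
  have hUS : U ⊆ S := Set.sdiff_subset
  have hUconj : ∀ φ ∈ U, Cfsg.conjFun φ ∈ U := fun φ hφ => ⟨hS.conj_mem φ hφ.1, fun h => hφ.2 (by
    have := CfsgLib.InducedAbove.conj_mem K Z h
    rwa [show Cfsg.conjFun (Cfsg.conjFun φ) = φ from funext fun x => by simp [Cfsg.conjFun]] at this)⟩
  by_cases hpp : ∃ p m : ℕ, p.Prime ∧ (⊥ : Subgroup L).relIndex K = p ^ m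
  swap
  · haveI := hnil
    have hc := Cfsg.Agent.S1521.result K hsolv τ R hS hodd ⊥ bot_le (Group.nilpotent_quotient_of_nilpotent _)
      ⁅K, K⁆ (sup_bot_eq _).symm hH₁K hKL hfrob (Or.inr (Or.inr (Or.inl hpp)))
    obtain ⟨-, τ₁, hτ₁, hag⟩ := hc
    have hspan : Cfsg.zspan U ⊆ Cfsg.zspan S := Submodule.span_mono hUS
    obtain ⟨χ, hχ⟩ := hUne
    exact ⟨⟨χ - Cfsg.conjFun χ, mem_on_one.2 ⟨sub_mem (S := Submodule ℤ (L → ℂ)) (Submodule.subset_span hχ)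
        (Submodule.subset_span (hUconj χ hχ)), by simp [conjFun_apply_one (hS.isCharacter χ (hUS hχ))]⟩,
      sub_ne_zero.2 (hS.conj_ne χ (hUS hχ)).symm⟩, τ₁,
      ⟨fun α h β h' => hτ₁.1 α (hspan h) β (hspan h'), fun α h m => hτ₁.2.1 α (hspan h) m,
        fun α h β h' => hτ₁.2.2.1 α (hspan h) β (hspan h'), fun α h => hτ₁.2.2.2 α (hspan h)⟩,
      fun α h => hag α ⟨hspan h.1, h.2⟩⟩
  obtain ⟨p, m, hp, hpm⟩ := hpp
  rw [Subgroup.relIndex_bot_left] at hpm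
  haveI := Fact.mk hp
  have hpK : IsPGroup p K := IsPGroup.of_card hpm
  set e := K.index with he
  have he0 : 0 < e := Nat.pos_of_ne_zero Subgroup.index_ne_zero_of_finite
  have hH1 : 1 < ⁅K, K⁆.relIndex K := Nat.lt_of_le_of_ne (Nat.pos_of_ne_zero Subgroup.index_ne_zero_of_finite)
    (fun h => hH₁K.not_ge (Subgroup.relIndex_eq_one.1 h.symm))
  have hcop : Nat.Coprime p e := by
    rw [hp.coprime_iff_not_dvd]
    intro hpe
    have h1 : p ∣ ⁅K, K⁆.relIndex K - 1 := hpe.trans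
      (Cfsg.Agent.S1521.index_dvd_sub_one K ⁅K, K⁆ K le_rfl hH₁K.le le_rfl hfrob)
    obtain ⟨i, -, hi⟩ := (Nat.dvd_prime_pow hp).1
      (hpm ▸ Subgroup.index_dvd_card (⁅K, K⁆.subgroupOf K))
    have h2 : p ∣ ⁅K, K⁆.relIndex K := by
      rw [Subgroup.relIndex, hi]
      exact dvd_pow_self p (by rintro rfl; rw [Subgroup.relIndex, hi] at hH1; simp at hH1)
    have h3 := Nat.dvd_sub h2 h1
    rw [Nat.sub_sub_self hH1.le] at h3
    exact hp.not_dvd_one h3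
  have hp2 : p ≠ 2 := by
    rintro rfl
    have h1 : Odd (Nat.card K) := hodd.of_dvd_nat (Subgroup.card_subgroup_dvd_card K)
    rw [hpm] at h1
    rcases m with _ | m
    · rw [pow_zero] at hpm
      exact hH₁K.ne (le_antisymm hH₁K.le (by
        rw [(Subgroup.card_eq_one.1 hpm)]; exact bot_le))
    · exact Nat.not_odd_iff_even.2 (by rw [pow_succ]; exact even_two.mul_left _) h1
  set U' := ((CfsgLib.InducedAbove.finite K ⊥).subset hUS).toFinset with hU'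
  have hUU : (↑U' : Set (L → ℂ)) = U := Set.Finite.coe_toFinset _
  have hmem : ∀ φ, φ ∈ U' ↔ φ ∈ U := fun φ => Set.Finite.mem_toFinset _
  set d : (L → ℂ) → ℕ := fun φ => Cfsg.charDegree φ with hd
  set pd : (L → ℂ) → ℕ := fun φ => d φ / e with hpd
  have hdeg : ∀ θ : Cfsg.IrrCharacter K, d (Cfsg.indFun K (θ : K → ℂ)) = e * Cfsg.charDegree (θ : K → ℂ) :=
    fun θ => charDegree_indFun K (isCharacter_of_irr θ.2)
  have hdS : ∀ φ ∈ U', φ 1 = (d φ : ℂ) := fun φ h => apply_one (hS.isCharacter φ (hUS ((hmem φ).1 h)))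
  have hdpd : ∀ φ ∈ U', d φ = e * pd φ ∧ ∃ i, pd φ = p ^ i := fun φ h => by
    obtain ⟨θ, -, rfl⟩ := hUmem φ ((hmem φ).1 h)
    have h1 : pd (Cfsg.indFun K (θ : K → ℂ)) = Cfsg.charDegree (θ : K → ℂ) := by
      simp only [hpd]
      rw [hdeg, Nat.mul_div_cancel_left _ he0]
    refine ⟨by rw [h1, hdeg], ?_⟩
    obtain ⟨i, -, hi⟩ := (Nat.dvd_prime_pow hp).1 (hpm ▸ degree_dvd θ)
    exact ⟨i, h1.trans hi⟩
  have hiso : Cfsg.IsLinearIsometryOn (Cfsg.zspanOn (↑U' : Set (L → ℂ)) {1}ᶜ) τ := by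
    rw [hUU]; exact isometry_mono hS.isometry (zspanOn_mono hUS _)
  have hiso1 : ∀ α ∈ Cfsg.zspanOn (↑U' : Set (L → ℂ)) {1}ᶜ, τ α 1 = 0 := by
    rw [hUU]; exact fun α hα => hS.map_one α (zspanOn_mono hUS _ hα)
  obtain ⟨φ₀, hφ₀⟩ := hUne
  obtain ⟨ψ, hψ, hmin⟩ := Finset.exists_min_image U' pd ⟨φ₀, (hmem _).2 hφ₀⟩
  set T₀ := U'.filter fun φ => pd φ = pd ψ with hT₀
  have hψ0 : ψ ∈ T₀ := Finset.mem_filter.2 ⟨hψ, rfl⟩
  have hT₀sub : T₀ ⊆ U' := Finset.filter_subset _ _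
  have hT₀2 : 1 < T₀.card := by
    have h1 : Cfsg.conjFun ψ ∈ U' := (hmem _).2 (hUconj ψ ((hmem _).1 hψ))
    refine Finset.one_lt_card.2 ⟨_, Finset.mem_filter.2 ⟨h1, ?_⟩, ψ, hψ0,
      hS.conj_ne ψ (hUS ((hmem _).1 hψ))⟩
    have h2 : d (Cfsg.conjFun ψ) = d ψ := by
      have h3 := conjFun_apply_one (hS.isCharacter ψ (hUS ((hmem _).1 hψ)))
      rw [hdS _ h1, hdS _ hψ] at h3
      exact_mod_cast h3
    simp only [hpd, h2]
  have hmono : (↑T₀ : Set (L → ℂ)) ⊆ ↑U' := Finset.coe_subset.2 hT₀sub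
  have hUirr' : ∀ φ ∈ U', Cfsg.IsIrrCharacter L φ := fun φ h => hirr φ ((hmem φ).1 h)
  have hcoh₀ := CfsgLib.OddCoh.coherent_equal T₀ (fun φ h => hUirr' φ (hT₀sub h)) hT₀2 (e * pd ψ)
    (fun φ h => by rw [hdS φ (hT₀sub h), (hdpd φ (hT₀sub h)).1, (Finset.mem_filter.1 h).2])
    τ (isometry_mono hiso (zspanOn_mono hmono _)) (fun α hα => hiso1 α (zspanOn_mono hmono _ hα))
  rw [← hUU]
  refine CfsgLib.OddCoh.coherent_extend U' T₀ hT₀sub hUirr' d hdS τ hiso hiso1 hcoh₀ ψ hψ0 ?_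
  intro χ hχ hχ0
  obtain ⟨hdψ, a, ha⟩ := hdpd ψ hψ
  obtain ⟨hdχ, i, hi⟩ := hdpd χ hχ
  have hai : a < i := by
    have h1 := hmin χ hχ
    have h2 : pd χ ≠ pd ψ := fun h => hχ0 (Finset.mem_filter.2 ⟨hχ, h⟩)
    exact (Nat.pow_lt_pow_iff_right hp.one_lt).1 (by rw [← ha, ← hi]; omega)
  refine ⟨by rw [hdψ, hdχ, ha, hi]; exact Nat.mul_dvd_mul_left _ (Nat.pow_dvd_pow p hai.le), ?_⟩
  obtain ⟨θ₀, hθ₀, hθχ⟩ := hUmem χ ((hmem χ).1 hχ)
  have hθ₀d : Cfsg.charDegree (θ₀ : K → ℂ) = p ^ i := by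
    have := hdeg θ₀
    rw [← hθχ, hdχ, hi] at this
    exact (Nat.eq_of_mul_eq_mul_left he0 this).symm
  set W := U'.filter fun φ => d φ < d χ with hW
  set Q := ∑ θ : Cfsg.IrrCharacter K, (if Rel (Z.subgroupOf K) (θ : K → ℂ) ∧
      Cfsg.charDegree (θ : K → ℂ) < p ^ i then Cfsg.charDegree (θ : K → ℂ) ^ 2 else 0) with hQ
  have hsum : ∑ φ ∈ W, d φ ^ 2 = e * Q := by
    set T' := T.filter fun θ : Cfsg.IrrCharacter K => Cfsg.charDegree (θ : K → ℂ) < p ^ i with hT'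
    have hQT : Q = ∑ θ ∈ T', Cfsg.charDegree (θ : K → ℂ) ^ 2 := by
      rw [hQ, hT', hT, Finset.filter_filter, Finset.sum_filter]
    have hmaps : ∀ θ ∈ T', Cfsg.indFun K (θ : K → ℂ) ∈ W := fun θ hθ => by
      obtain ⟨h1, h2⟩ := Finset.mem_filter.1 hθ
      refine Finset.mem_filter.2 ⟨(hmem _).2 (hUirr θ h1), ?_⟩
      rw [hdeg, hdχ, hi]
      exact Nat.mul_lt_mul_of_pos_left h2 he0
    rw [hQT, ← Finset.sum_fiberwise_of_maps_to hmaps, Finset.mul_sum]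
    refine Finset.sum_congr rfl fun φ hφ => ?_
    obtain ⟨hφ1, hφ2⟩ := Finset.mem_filter.1 hφ
    have hφU := (hmem φ).1 hφ1
    have h := CfsgLib.InducedAbove.sq_eq_fibre K hS.orthogonal (hUS hφU) (n := 1)
      (by rw [classInner_self (hUirr' φ hφ1), Nat.cast_one])
    rw [one_mul] at h
    rw [show d φ ^ 2 = _ from h]
    congr 1
    refine Finset.sum_congr ?_ fun _ _ => rfl
    ext θ
    simp only [Finset.mem_filter, Finset.mem_univ, true_and, hT', hT]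
    constructor
    · rintro ⟨h1, h2⟩
      refine ⟨⟨?_, ?_⟩, h2⟩
      · obtain ⟨θ', hθ', he'⟩ := hUmem φ hφU
        rw [← CfsgLib.OddCoh.rel_indFun_iff K Z hZK hZc θ, h2, he',
          CfsgLib.OddCoh.rel_indFun_iff K Z hZK hZc θ']
        exact (Finset.mem_filter.1 hθ').2
      · rw [← h2, hdeg, hdχ, hi] at hφ2
        exact Nat.lt_of_mul_lt_mul_left hφ2
    · rintro ⟨⟨h1, -⟩, h2⟩
      exact ⟨hrelne θ (Finset.mem_filter.2 ⟨Finset.mem_univ _, h1⟩), h2⟩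
  have hsum' : ∑ φ ∈ W, d φ ^ 2 = e ^ 2 * ∑ φ ∈ W, pd φ ^ 2 := by
    rw [Finset.mul_sum]
    exact Finset.sum_congr rfl fun φ hφ => by rw [(hdpd φ (Finset.mem_filter.1 hφ).1).1, mul_pow]
  set Q' := ∑ φ ∈ W, pd φ ^ 2
  have hQQ : Q = e * Q' := Nat.eq_of_mul_eq_mul_left he0 (by rw [← hsum, hsum']; ring)
  have hdiv := CfsgLib.OddCoh.sq_dvd_below (Z.subgroupOf K) hcen hpK θ₀
  rw [hθ₀d, ← hQ, hQQ] at hdiv
  have hdQ : (p ^ i) ^ 2 ∣ Q' := by
    refine Nat.Coprime.dvd_of_dvd_mul_left ?_ hdiv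
    exact Nat.Coprime.pow_left _ (Nat.Coprime.pow_left _ hcop)
  have hQpos : 0 < Q' := by
    have hm : ψ ∈ W := Finset.mem_filter.2 ⟨hψ, by
      rw [hdψ, hdχ, ha, hi]
      exact Nat.mul_lt_mul_of_pos_left (Nat.pow_lt_pow_right hp.one_lt hai) he0⟩
    exact lt_of_lt_of_le (by rw [ha]; exact pow_pos (pow_pos hp.pos _) _)
      (Finset.single_le_sum (f := fun φ => pd φ ^ 2) (fun _ _ => Nat.zero_le _) hm)
  have hQle := Nat.le_of_dvd hQpos hdQ
  have h3a : 3 * p ^ a ≤ p ^ i := by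
    calc 3 * p ^ a ≤ p * p ^ a := Nat.mul_le_mul_right _ (by have := hp.two_le; omega)
      _ = p ^ (a + 1) := by rw [pow_succ]; ring
      _ ≤ p ^ i := Nat.pow_le_pow_right hp.pos hai
  calc 2 * d ψ * d χ = e ^ 2 * (2 * p ^ a * p ^ i) := by rw [hdψ, hdχ, ha, hi]; ring
    _ < e ^ 2 * Q' := by
        refine Nat.mul_lt_mul_of_pos_left ?_ (by positivity)
        have : 0 < p ^ i := pow_pos hp.pos _
        have : 0 < p ^ a := pow_pos hp.pos _
        nlinarith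
    _ = ∑ φ ∈ W, d φ ^ 2 := hsum'.symm
    _ ≤ _ := Finset.sum_le_sum_of_subset (Finset.monotone_filter_right _ fun _ _ h => Or.inr h)

end Cfsg.Agent.S1522
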