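import Cfsg.Statements.S1524
import Cfsg.Agent.OddCoh.Main

set_option autoImplicit false
open Cfsg

namespace Cfsg.Agent.S1524

/-- Let G be a finite group and H ≤ L subgroups with L of odd order, H ≠ ⊥ nilpotent and normal in L with a nontrivial complement W₁ in L (H ⊓ W₁ = ⊥, H ⊔ W₁ = L) acting on H without non-identity fixed points (L is a Frobenius group with kernel H), and suppose the underlying set of H is a TI-subset of G whose normaliser is L. Let S be the set of functions on L induced from the non-principal irreducible characters of H. Then (S, L minus 1, induction to G) is coherent. -/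
theorem result {G : Type*} [Group G] [Fintype G] (H L W₁ : Subgroup G) [Fintype L] (hodd : Odd (Nat.card L)) (hHL : H ≤ L) (hW₁L : W₁ ≤ L) (hH1 : H ≠ ⊥) (hW1 : W₁ ≠ ⊥) (hnil : Group.IsNilpotent H) (hHn : ∀ x ∈ L, ∀ h ∈ H, x * h * x⁻¹ ∈ H) (hinf : H ⊓ W₁ = ⊥) (hsup : H ⊔ W₁ = L) (hfpf : ∀ w ∈ W₁, w ≠ 1 → ∀ h ∈ H, w * h = h * w → h = 1) (hTI : Cfsg.IsTISubset (H : Set G)) (hN : Subgroup.normalizer (H : Set G) = L) : Cfsg.IsCoherent (Cfsg.inducedIrrAbove (H.subgroupOf L) ⊥) {1}ᶜ (fun α : L → ℂ => Cfsg.indFun L α) := by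
  classical
  subst hN
  have hnorm : W₁ ≤ Subgroup.normalizer (H : Set G) := hW₁L
  have hC : ∀ k ∈ H, k ≠ 1 → Subgroup.centralizer ({k} : Set G) ≤ H := by
    intro k hk hk1 x hx
    rw [Subgroup.mem_centralizer_singleton_iff] at hx
    have hxL : x ∈ Subgroup.normalizer (H : Set G) := by
      by_contra hxL
      refine hk1 (hTI x hxL k hk ?_)
      rw [show x * k * x⁻¹ = k by rw [hx]; group]
      exact hk
    rw [← hsup] at hxL
    open scoped Pointwise in
    have hmem : x ∈ ((H : Set G) * (W₁ : Set G)) := by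
      rw [← Subgroup.coe_mul_of_right_le_normalizer_left H W₁ hnorm]
      exact hxL
    obtain ⟨a, ha, w, hw, rfl⟩ := Set.mem_mul.1 hmem
    by_cases hw1 : w = 1
    · rw [hw1, mul_one]; exact ha
    exfalso
    have hwH : ∀ h ∈ H, w * h * w⁻¹ ∈ H := fun h hh => ((Subgroup.mem_normalizer_iff.1 (hnorm hw)) h).1 hh
    let f : H → H := fun h => ⟨(h : G)⁻¹ * (w * h * w⁻¹), H.mul_mem (H.inv_mem h.2) (hwH h h.2)⟩
    have hf : Function.Injective f := fun u v he => by
      have he' : (u : G)⁻¹ * (w * u * w⁻¹) = (v : G)⁻¹ * (w * v * w⁻¹) := congrArg Subtype.val he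
      have hc : w * ((u : G) * (v : G)⁻¹) = ((u : G) * (v : G)⁻¹) * w := by
        calc w * ((u : G) * (v : G)⁻¹) = (u : G) * ((u : G)⁻¹ * (w * u * w⁻¹)) * (w * (v : G)⁻¹ * w⁻¹) * w := by group
          _ = (u : G) * ((v : G)⁻¹ * (w * v * w⁻¹)) * (w * (v : G)⁻¹ * w⁻¹) * w := by rw [he']
          _ = ((u : G) * (v : G)⁻¹) * w := by group
      exact Subtype.ext (mul_inv_eq_one.1 (hfpf w hw hw1 _ (H.mul_mem u.2 (H.inv_mem v.2)) hc))
    obtain ⟨h, hh⟩ := (Finite.injective_iff_surjective.1 hf) ⟨a, ha⟩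
    have hh' : (h : G)⁻¹ * (w * h * w⁻¹) = a := congrArg Subtype.val hh
    have hk' : (h : G) * k * (h : G)⁻¹ ∈ H := H.mul_mem (H.mul_mem h.2 hk) (H.inv_mem h.2)
    refine hk1 (conj_eq_one_iff.1 (hfpf w hw hw1 _ hk' ?_))
    rw [← hh'] at hx
    calc w * ((h : G) * k * (h : G)⁻¹) = (h : G) * (((h : G)⁻¹ * (w * h * w⁻¹)) * w * k) * (h : G)⁻¹ := by group
      _ = (h : G) * (k * (((h : G)⁻¹ * (w * h * w⁻¹)) * w)) * (h : G)⁻¹ := by rw [hx]
      _ = (h : G) * k * (h : G)⁻¹ * w := by group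
  have hlt : H < Subgroup.normalizer (H : Set G) := lt_of_le_of_ne hHL fun he => hW1 (by
    rw [eq_bot_iff, ← hinf]
    exact le_inf (he ▸ hW₁L) le_rfl)
  have hHodd : Odd (Nat.card H) := hodd.of_dvd_nat (Subgroup.card_dvd_of_le hHL)
  have heodd : Odd (H.subgroupOf (Subgroup.normalizer (H : Set G))).index :=
    hodd.of_dvd_nat (Subgroup.index_dvd_card _)
  have hset : Cfsg.inducedIrrAbove (H.subgroupOf (Subgroup.normalizer (H : Set G))) ⊥ =
      {χ | Cfsg.IsIrrCharacter _ χ ∧ CfsgLib.Exceptional.Rel (H.subgroupOf (Subgroup.normalizer (H : Set G))) χ} := by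
    have hC' := CfsgLib.Exceptional.centralizer_le_in_normalizer H hC
    haveI := Fintype.ofFinite (H.subgroupOf (Subgroup.normalizer (H : Set G)))
    ext χ
    constructor
    · rintro ⟨θ, hθ, hne, -, rfl⟩
      exact CfsgLib.FeitCoh.induced_irr _ hC' hθ hne
    · rintro ⟨hχ, hr⟩
      obtain ⟨θ, hθ, hind⟩ := Cfsg.Agent.S1528.result _ hC' χ hχ hr
      refine ⟨θ, hθ, ?_, fun a ha => ?_, hind⟩
      · rintro rfl
        obtain ⟨k, hk, hne⟩ := hr
        apply hne
        rw [hind]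
        simp only [Cfsg.indFun]
        congr 1
        refine Finset.sum_congr rfl fun x _ => ?_
        have hc := (inferInstance : (H.subgroupOf (Subgroup.normalizer (H : Set G))).Normal).conj_mem k hk x⁻¹
        rw [inv_inv] at hc
        rw [mul_one, inv_mul_cancel, ← Subgroup.coe_one (H.subgroupOf (Subgroup.normalizer (H : Set G))),
          CfsgLib.CharBasics.extendByZero_coe, CfsgLib.CharBasics.extendByZero_coe _ _ ⟨_, hc⟩]
      · rw [Subgroup.mem_bot] at ha
        rw [show a = 1 from Subtype.ext ha]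
  rw [hset]
  refine CfsgLib.OddCoh.coherent_ti H hTI hC hH1 hlt (fun he => ?_) fun h2 => ?_
  · rw [he] at hHodd
    exact Nat.not_odd_iff_even.2 (heodd.add_one) hHodd
  · exfalso
    haveI : Nontrivial H := (Subgroup.nontrivial_iff_ne_bot _).2 hH1
    obtain ⟨n, hn⟩ := IsPGroup.iff_card.1 h2
    rw [hn] at hHodd
    have := Finite.one_lt_card (α := H)
    rw [hn] at this
    rcases n with _ | n
    · simp at this
    · exact Nat.not_odd_iff_even.2 (by rw [pow_succ]; exact even_two.mul_left _) hHodd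

end Cfsg.Agent.S1524
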