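import Cfsg.Statements.S1532
import Cfsg.Agent.OddCoh.Main

set_option autoImplicit false
open Cfsg

namespace Cfsg.Agent.S1532

/-- Let G be a finite group, p an odd prime and P a Sylow p-subgroup that is non-abelian, whose underlying set is a TI-subset of G, with P properly contained in its set normaliser N and C_G(x) ≤ P for every non-identity x ∈ P. Let Z be a nontrivial subgroup of the centre of P normalised by N. Then the set of irreducible characters χ of N with χ z ≠ χ 1 for some z ∈ Z is coherent for the map induced by induction from N to G. -/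
theorem result {G : Type*} [Group G] [Fintype G] (p : ℕ) [Fact p.Prime] (hp : p ≠ 2) (P : Sylow p G) (hna : ¬ IsMulCommutative (P : Subgroup G)) (hTI : Cfsg.IsTISubset ((P : Subgroup G) : Set G)) (hlt : (P : Subgroup G) < Subgroup.normalizer ((P : Subgroup G) : Set G)) (hC : ∀ k ∈ (P : Subgroup G), k ≠ 1 → Subgroup.centralizer ({k} : Set G) ≤ (P : Subgroup G)) [Fintype ↥(Subgroup.normalizer ((P : Subgroup G) : Set G))] (Z : Subgroup G) (hZ1 : Z ≠ ⊥) (hZP : ∀ z ∈ Z, z ∈ (P : Subgroup G) ∧ ∀ y ∈ (P : Subgroup G), z * y = y * z) (hZn : ∀ x ∈ Subgroup.normalizer ((P : Subgroup G) : Set G), ∀ z ∈ Z, x * z * x⁻¹ ∈ Z) : Cfsg.IsCoherent {χ : ↥(Subgroup.normalizer ((P : Subgroup G) : Set G)) → ℂ | Cfsg.IsIrrCharacter ↥(Subgroup.normalizer ((P : Subgroup G) : Set G)) χ ∧ ∃ z : ↥(Subgroup.normalizer ((P : Subgroup G) : Set G)), (z : G) ∈ Z ∧ χ z ≠ χ 1} {1}ᶜ (fun α => Cfsg.indFun (Subgroup.normalizer ((P : Subgroup G) : Set G)) α) := by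
  classical
  have hC' := CfsgLib.Exceptional.centralizer_le_in_normalizer (P : Subgroup G) hC
  haveI : (Z.subgroupOf (Subgroup.normalizer ((P : Subgroup G) : Set G))).Normal := ⟨fun w hw x => Subgroup.mem_subgroupOf.2 (hZn x x.2 w (Subgroup.mem_subgroupOf.1 hw))⟩
  have hZK : Z.subgroupOf (Subgroup.normalizer ((P : Subgroup G) : Set G)) ≤ (P : Subgroup G).subgroupOf (Subgroup.normalizer ((P : Subgroup G) : Set G)) := fun x hx =>
    Subgroup.mem_subgroupOf.2 (hZP _ (Subgroup.mem_subgroupOf.1 hx)).1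
  have hZc : ∀ z ∈ Z.subgroupOf (Subgroup.normalizer ((P : Subgroup G) : Set G)), ∀ k ∈ (P : Subgroup G).subgroupOf (Subgroup.normalizer ((P : Subgroup G) : Set G)), z * k = k * z := fun z hz k hk =>
    Subtype.ext ((hZP _ hz).2 _ hk)
  have hne : Z.subgroupOf (Subgroup.normalizer ((P : Subgroup G) : Set G)) ≠ ⊥ := fun h => hZ1 ((Subgroup.eq_bot_iff_forall _).2 fun z hz => congrArg Subtype.val
    ((Subgroup.eq_bot_iff_forall _).1 h ⟨z, Subgroup.le_normalizer (hZP z hz).1⟩ (Subgroup.mem_subgroupOf.2 hz)))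
  obtain ⟨hτ, hτ1⟩ := CfsgLib.OddCoh.ind_isometry (P : Subgroup G) hTI hC
    (S := {χ : ↥(Subgroup.normalizer ((P : Subgroup G) : Set G)) → ℂ | Cfsg.IsIrrCharacter ↥(Subgroup.normalizer ((P : Subgroup G) : Set G)) χ ∧ CfsgLib.Exceptional.Rel (Z.subgroupOf (Subgroup.normalizer ((P : Subgroup G) : Set G))) χ})
    (fun χ h => ⟨h.1, CfsgLib.OddCoh.rel_mono _ _ hZK h.2⟩)
  exact CfsgLib.OddCoh.coherent_top _ hC' _ hZK hZc (CfsgLib.OddCoh.odd_local (P : Subgroup G) hC hp P.2 hna) hp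
    (P.2.of_equiv (Subgroup.subgroupOfEquivOfLe Subgroup.le_normalizer).symm) hne _ hτ hτ1

end Cfsg.Agent.S1532
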