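import Cfsg.Statements.S1534
import Cfsg.Agent.OddCoh.Main

set_option autoImplicit false
open Cfsg

namespace Cfsg.Agent.S1534

/-- Let G be a finite group and K a nontrivial nilpotent subgroup whose underlying set is a TI-subset of G, properly contained in its set normaliser N, with C_G(k) ≤ K for every non-identity k ∈ K; let e be the index of K in N and S the set of irreducible characters χ of N with χ k ≠ χ 1 for some k ∈ K. Then one of: S has exactly one member, Nat.card K = e + 1 and K is an elementary abelian p-group for some prime p; or K is a Sylow 2-subgroup of G (Nat.card K is the largest power of 2 dividing Nat.card G) and [K : [K,K]] < 4e²; or (S, N minus 1, induction to G) is coherent. -/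
theorem result {G : Type*} [Group G] [Fintype G] (K : Subgroup G) (hK1 : K ≠ ⊥) (hnil : Group.IsNilpotent K) (hTI : Cfsg.IsTISubset (K : Set G)) (hlt : K < Subgroup.normalizer (K : Set G)) (hC : ∀ k ∈ K, k ≠ 1 → Subgroup.centralizer ({k} : Set G) ≤ K) [Fintype ↥(Subgroup.normalizer (K : Set G))] : (Nat.card {χ : ↥(Subgroup.normalizer (K : Set G)) → ℂ // Cfsg.IsIrrCharacter ↥(Subgroup.normalizer (K : Set G)) χ ∧ ∃ k : ↥(Subgroup.normalizer (K : Set G)), (k : G) ∈ K ∧ χ k ≠ χ 1} = 1 ∧ Nat.card K = (K.subgroupOf (Subgroup.normalizer (K : Set G))).index + 1 ∧ ∃ p : ℕ, p.Prime ∧ Cfsg.IsElementaryAbelian p K) ∨ (Nat.card K = 2 ^ (Nat.card G).factorization 2 ∧ (⁅K, K⁆.subgroupOf K).index < 4 * (K.subgroupOf (Subgroup.normalizer (K : Set G))).index ^ 2) ∨ Cfsg.IsCoherent {χ : ↥(Subgroup.normalizer (K : Set G)) → ℂ | Cfsg.IsIrrCharacter ↥(Subgroup.normalizer (K : Set G)) χ ∧ ∃ k : ↥(Subgroup.normalizer (K : Set G)), (k : G) ∈ K ∧ χ k ≠ χ 1} {1}ᶜ (fun α => Cfsg.indFun (Subgroup.normalizer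 (K : Set G)) α) := by
  classical
  set e := (K.subgroupOf (Subgroup.normalizer (K : Set G))).index with he'
  by_cases he : Nat.card K = e + 1
  · left
    obtain ⟨⟨q, hq, -, hel⟩, hone⟩ := CfsgLib.OddCoh.transitive_case K hnil hC hK1 he
    exact ⟨hone, he, q, hq, hel⟩
  right
  by_cases h2 : IsPGroup 2 K ∧ ¬ IsMulCommutative K ∧ Nat.card (Abelianization K) ≤ 4 * e ^ 2 + 1
  swap
  · right
    exact CfsgLib.OddCoh.coherent_ti K hTI hC hK1 hlt he fun ha hb => not_le.1 fun hc => h2 ⟨ha, hb, hc⟩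
  left
  obtain ⟨h2K, hna, hle⟩ := h2
  haveI := Fact.mk Nat.prime_two
  have hC' := CfsgLib.Exceptional.centralizer_le_in_normalizer K hC
  have hcard : Nat.card (K.subgroupOf (Subgroup.normalizer (K : Set G))) = Nat.card K :=
    Nat.card_congr (Subgroup.subgroupOfEquivOfLe Subgroup.le_normalizer).toEquiv
  have hcop := CfsgLib.FeitCoh.coprime_index (K.subgroupOf (Subgroup.normalizer (K : Set G))) hC'
  rw [hcard, ← he'] at hcop
  -- `K` is a Sylow subgroup
  obtain ⟨Q, hKQ⟩ := h2K.exists_le_sylow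
  haveI : Group.IsNilpotent (Q : Subgroup G) := Q.2.isNilpotent
  haveI : Nontrivial K := (Subgroup.nontrivial_iff_ne_bot _).2 hK1
  have hKeq : K = Q := by
    obtain ⟨⟨z, hz⟩, hz1⟩ := Subgroup.ne_bot_iff_exists_ne_one.1 (CfsgLib.PReduced.inf_center_ne_bot h2K
      (N := (⊤ : Subgroup K)) top_ne_bot)
    haveI : Nontrivial (Q : Subgroup G) := (Subgroup.nontrivial_iff_ne_bot _).2 fun h => hK1 (le_bot_iff.1 (h ▸ hKQ))
    obtain ⟨⟨w, hw⟩, hw1⟩ := Subgroup.ne_bot_iff_exists_ne_one.1 (CfsgLib.PReduced.inf_center_ne_bot Q.2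
      (N := (⊤ : Subgroup (Q : Subgroup G))) top_ne_bot)
    -- a central element of `Q` lies in `K`
    have hwK : (w : G) ∈ K := hC _ z.2 (fun e => hz1 (Subtype.ext (Subtype.ext e)))
      (Subgroup.mem_centralizer_singleton_iff.2
        (congrArg Subtype.val (Subgroup.mem_center_iff.1 hw.2 ⟨z, hKQ z.2⟩)).symm)
    refine le_antisymm hKQ fun q hq => hC _ hwK (fun e => hw1 (Subtype.ext (Subtype.ext e))) ?_
    exact Subgroup.mem_centralizer_singleton_iff.2 (congrArg Subtype.val (Subgroup.mem_center_iff.1 hw.2 ⟨q, hq⟩))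
  refine ⟨?_, ?_⟩
  · rw [hKeq]
    exact Q.card_eq_multiplicity
  · rw [CfsgLib.OddCoh.index_commutator_eq]
    rcases lt_or_ge (Nat.card (Abelianization K)) (4 * e ^ 2) with h | h
    · exact h
    exfalso
    obtain ⟨n, hn⟩ := IsPGroup.iff_card.1 h2K
    obtain ⟨m, hm, hm'⟩ := (Nat.dvd_prime_pow Nat.prime_two).1 (hn ▸ CfsgLib.Exceptional.card_abelianization_dvd ↥K)
    have hn0 : n ≠ 0 := fun h0 => by
      rw [h0, pow_zero] at hn
      have := Finite.one_lt_card (α := K)
      omega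
    have he1 : 1 < e := by
      rcases Nat.lt_or_ge 1 e with h1 | h1
      · exact h1
      · exfalso
        have : e = 1 := le_antisymm h1 (Nat.pos_of_ne_zero Subgroup.index_ne_zero_of_finite)
        exact hlt.not_ge fun x hx => Subgroup.mem_subgroupOf.1
          ((Subgroup.index_eq_one.1 this).symm ▸ Subgroup.mem_top (⟨x, hx⟩ : ↥(Subgroup.normalizer (K : Set G))))
    have hm0 : m ≠ 0 := fun h0 => by
      rw [h0, pow_zero] at hm'
      have : 4 * 1 ≤ 4 * e ^ 2 := Nat.mul_le_mul_left _ (Nat.one_le_pow _ _ (by omega))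
      omega
    have heven : 2 ∣ Nat.card (Abelianization K) := hm' ▸ dvd_pow_self 2 hm0
    have heq : Nat.card (Abelianization K) = 4 * e ^ 2 := by omega
    have hed : e ∣ Nat.card K := by
      refine dvd_trans ?_ (CfsgLib.Exceptional.card_abelianization_dvd ↥K)
      rw [heq]; exact Dvd.intro_left _ (by ring : 4 * e * e = 4 * e ^ 2)
    exact he1.ne' (Nat.Coprime.eq_one_of_dvd hcop.symm hed)

end Cfsg.Agent.S1534
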