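import Cfsg.Statements.S1896
import Cfsg.Agent.MetaTwo.Aut
import Cfsg.Agent.RankOneP.Basic

set_option autoImplicit false
open Cfsg

namespace Cfsg.Agent.S1896

section Aux

variable {X : Type*} [Group X] [Finite X]

/-- the subgroup generated by the squares -/
def sq (X : Type*) [Group X] : Subgroup X := Subgroup.closure {y | ∃ x : X, x * x = y}

omit [Finite X] in
theorem sq_mem (x : X) : x * x ∈ sq X := Subgroup.subset_closure ⟨x, rfl⟩

omit [Finite X] in
theorem sq_le_ker {H : Type*} [Group H] (f : X →* H) (h : ∀ x, f (x * x) = 1) : sq X ≤ f.ker := by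
  rw [sq, Subgroup.closure_le]
  rintro _ ⟨x, rfl⟩
  exact h x

omit [Finite X] in
theorem sq_map (σ : MulAut X) {x : X} (hx : x ∈ sq X) : σ x ∈ sq X := by
  have h : (sq X).map σ.toMonoidHom ≤ sq X := by
    rw [sq, MonoidHom.map_closure, Subgroup.closure_le]
    rintro _ ⟨_, ⟨y, rfl⟩, rfl⟩
    exact Subgroup.subset_closure ⟨σ y, by simp⟩
  exact h ⟨x, hx, rfl⟩

omit [Finite X] in
theorem sq_normal : (sq X).Normal := ⟨fun x hx g => by
  have := sq_map (MulAut.conj g) hx
  rwa [MulAut.conj_apply] at this⟩

omit [Finite X] in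
theorem decomposition (N : Subgroup X) [N.Normal] (hN : IsCyclic N) (hQ : IsCyclic (X ⧸ N)) :
    ∃ a b : X, Subgroup.zpowers a = N ∧ ∀ x : X, ∃ i j : ℤ, x = a ^ i * b ^ j := by
  obtain ⟨a, ha⟩ := Subgroup.isCyclic_iff_exists_zpowers_eq_top N |>.mp hN
  obtain ⟨q, hq⟩ := hQ.exists_generator
  obtain ⟨b, rfl⟩ := QuotientGroup.mk_surjective q
  refine ⟨a, b, ha, fun x => ?_⟩
  obtain ⟨j, hj⟩ := Subgroup.mem_zpowers_iff.mp (hq (x : X ⧸ N))
  rw [← QuotientGroup.mk_zpow, QuotientGroup.eq] at hj
  have h1 : b ^ j * ((b ^ j)⁻¹ * x) * (b ^ j)⁻¹ ∈ N := Subgroup.Normal.conj_mem inferInstance _ hj _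
  rw [← ha] at h1
  obtain ⟨i, hi⟩ := Subgroup.mem_zpowers_iff.mp h1
  exact ⟨i, j, by rw [hi]; group⟩

/-- `σ` moves every element outside the subgroup of squares, and its translates generate. -/
theorem moves (hX : IsPGroup 2 X) {a b : X} (hgen : ∀ x : X, ∃ i j : ℤ, x = a ^ i * b ^ j)
    {σ : MulAut X} (hodd : Odd (orderOf σ)) (hσ1 : σ ≠ 1) {u : X} (hu : u ∉ sq X) :
    u⁻¹ * σ u ∉ sq X ∧ σ u ∉ sq X ∧
      ∀ x, x ∈ sq X ∨ u⁻¹ * x ∈ sq X ∨ (σ u)⁻¹ * x ∈ sq X ∨ (u * σ u)⁻¹ * x ∈ sq X := by
  classical
  haveI := sq_normal (X := X)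
  haveI : Fintype (X ⧸ sq X) := Fintype.ofFinite _
  let q : X →* X ⧸ sq X := QuotientGroup.mk' (sq X)
  have hq : Function.Surjective q := QuotientGroup.mk'_surjective _
  have hq1 : ∀ x, q x = 1 ↔ x ∈ sq X := fun x => QuotientGroup.eq_one_iff x
  have hsq : ∀ v : X ⧸ sq X, v * v = 1 := fun v => by
    obtain ⟨x, rfl⟩ := hq v
    rw [← map_mul, hq1]; exact sq_mem x
  have hinv : ∀ v : X ⧸ sq X, v⁻¹ = v := fun v => inv_eq_of_mul_eq_one_right (hsq v)
  have hcomm : ∀ v w : X ⧸ sq X, v * w = w * v := fun v w => by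
    calc v * w = (v * w)⁻¹ := (hinv _).symm
      _ = w * v := by rw [mul_inv_rev, hinv, hinv]
  have hcov : ∀ v : X ⧸ sq X, v ∈ ({1, q a, q b, q a * q b} : Finset (X ⧸ sq X)) := by
    intro v
    obtain ⟨x, rfl⟩ := hq v
    obtain ⟨i, j, rfl⟩ := hgen x
    have hz : ∀ (w : X ⧸ sq X) (k : ℤ), w ^ k = 1 ∨ w ^ k = w := by
      intro w k
      rcases Int.even_or_odd k with ⟨c, rfl⟩ | ⟨c, rfl⟩
      · left; rw [← two_mul, zpow_mul, zpow_two, hsq, one_zpow]
      · right; rw [zpow_add, zpow_mul, zpow_two, hsq, one_zpow, one_mul, zpow_one]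
    rw [map_mul, map_zpow, map_zpow]
    rcases hz (q a) i with e | e <;> rcases hz (q b) j with e' | e' <;> simp [e, e']
  have hcard : Fintype.card (X ⧸ sq X) ≤ 4 :=
    (Finset.card_le_card (fun v _ => hcov v)).trans Finset.card_le_four
  have hfour : ∀ v w : X ⧸ sq X, v ≠ 1 → w ≠ 1 → v ≠ w → ∀ y, y = 1 ∨ y = v ∨ y = w ∨ y = v * w := by
    intro v w hv hw hvw y
    have h4 : ({1, v, w, v * w} : Finset (X ⧸ sq X)).card = 4 := by
      have h1 : v * w ≠ 1 := fun e => hvw (by rw [eq_inv_of_mul_eq_one_left e, hinv])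
      have h2 : v * w ≠ v := fun e => hw (mul_eq_left.mp e)
      have h3 : v * w ≠ w := fun e => hv (mul_eq_right.mp e)
      rw [Finset.card_insert_of_notMem (by simp [Ne.symm hv, Ne.symm hw, Ne.symm h1]),
        Finset.card_insert_of_notMem (by simp [hvw, Ne.symm h2]),
        Finset.card_insert_of_notMem (by simp [Ne.symm h3]), Finset.card_singleton]
    have huniv := Finset.eq_univ_of_card _ (le_antisymm (Finset.card_le_univ _) (h4 ▸ hcard))
    have := Finset.mem_univ y
    rw [← huniv] at this
    simpa using this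
  have hτ : ∀ x, q x = 1 → q (σ x) = 1 := fun x hx => (hq1 _).mpr (sq_map σ ((hq1 x).mp hx))
  have hcongr : ∀ x y, q x = q y → q (σ x) = q (σ y) := fun x y e => by
    have h := hτ (x⁻¹ * y) (by rw [map_mul, map_inv, e, inv_mul_cancel])
    rw [map_mul, map_inv, map_mul, map_inv] at h
    exact inv_mul_eq_one.mp h
  have hfix : ∀ x, q x ≠ 1 → q (σ x) ≠ q x := by
    intro x hx hfx
    obtain ⟨t, ht⟩ : ∃ t, q (σ t) ≠ q t := by
      by_contra hcon
      push Not at hcon
      refine hσ1 (CfsgLib.MetaTwo.eq_one_of_trivial_frattini hX hodd fun t => ?_)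
      have h1 : q (σ t * t⁻¹) = 1 := by rw [map_mul, map_inv, hcon, mul_inv_cancel]
      haveI : Fact (Nat.Prime 2) := ⟨Nat.prime_two⟩
      have hle : sq X ≤ frattini X := by
        rw [sq, Subgroup.closure_le]
        rintro _ ⟨y, rfl⟩
        show y * y ∈ frattini X
        rw [← pow_two]
        exact CfsgLib.PGroup.pow_mem_frattini hX y
      exact hle ((hq1 _).mp h1)
    have hσinj : ∀ y, q (σ y) = 1 → q y = 1 := by
      intro y hy
      have : ∀ n : ℕ, q ((σ ^ (n + 1)) y) = 1 := by
        intro n
        induction n with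
        | zero => rwa [zero_add, pow_one]
        | succ n ih => rw [pow_succ' σ (n + 1), MulAut.mul_apply]; exact hτ _ ih
      have h1 := this (orderOf σ - 1)
      rwa [Nat.sub_add_cancel (orderOf_pos σ), pow_orderOf_eq_one, MulAut.one_apply] at h1
    have ht1 : q t ≠ 1 := fun e => ht (by rw [hτ t e, e])
    have hxt : q x ≠ q t := fun e => ht (by rw [← hcongr x t e, hfx, e])
    rcases hfour (q x) (q t) hx ht1 hxt (q (σ t)) with e | e | e | e
    · exact ht1 (hσinj t e)
    · have h2 : q (σ (x⁻¹ * t)) = 1 := by rw [map_mul, map_inv, map_mul, map_inv, hfx, e, inv_mul_cancel]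
      have := hσinj _ h2
      rw [map_mul, map_inv] at this
      exact hxt (inv_mul_eq_one.mp this)
    · exact ht e
    · have key : ∀ k : ℕ, q ((σ ^ (2 * k)) t) = q t ∧ q ((σ ^ (2 * k + 1)) t) = q (σ t) := by
        intro k
        induction k with
        | zero => simp
        | succ k ih =>
          have h2 : q ((σ ^ (2 * (k + 1))) t) = q t := by
            rw [show 2 * (k + 1) = (2 * k + 1) + 1 by ring, pow_succ' σ, MulAut.mul_apply,
              hcongr _ (σ t) ih.2, hcongr (σ t) (x * t) (by rw [e, map_mul]), map_mul, map_mul, hfx, e,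
              ← mul_assoc, hsq, one_mul]
          refine ⟨h2, ?_⟩
          rw [pow_succ' σ, MulAut.mul_apply]
          exact hcongr _ _ h2
      obtain ⟨k, hk⟩ := hodd
      have := (key k).2
      rw [← hk, pow_orderOf_eq_one, MulAut.one_apply] at this
      exact ht this.symm
  have hu' : q u ≠ 1 := fun e => hu ((hq1 u).mp e)
  have hne := hfix u hu'
  have hσu : q (σ u) ≠ 1 := by
    intro e
    have : ∀ n : ℕ, q ((σ ^ (n + 1)) u) = 1 := by
      intro n
      induction n with
      | zero => rwa [zero_add, pow_one]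
      | succ n ih => rw [pow_succ' σ (n + 1), MulAut.mul_apply]; exact hτ _ ih
    have h1 := this (orderOf σ - 1)
    rw [Nat.sub_add_cancel (orderOf_pos σ), pow_orderOf_eq_one, MulAut.one_apply] at h1
    exact hu' h1
  refine ⟨fun h => hne ?_, fun h => hσu ((hq1 _).mpr h), fun x => ?_⟩
  · have := (hq1 _).mpr h
    rw [map_mul, map_inv] at this
    exact (inv_mul_eq_one.mp this).symm
  · have conv' : ∀ y, q x = q y → y⁻¹ * x ∈ sq X := fun y e =>
      (hq1 _).mp (by rw [map_mul, map_inv, e, inv_mul_cancel])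
    rcases hfour (q u) (q (σ u)) hu' hσu (Ne.symm hne) (q x) with e | e | e | e
    · exact Or.inl ((hq1 x).mp e)
    · exact Or.inr (Or.inl (conv' u e))
    · exact Or.inr (Or.inr (Or.inl (conv' _ e)))
    · exact Or.inr (Or.inr (Or.inr (conv' _ (by rw [e, map_mul]))))

theorem no_invariant_hom (hX : IsPGroup 2 X) {a b : X} (hgen : ∀ x : X, ∃ i j : ℤ, x = a ^ i * b ^ j)
    {σ : MulAut X} (hodd : Odd (orderOf σ)) (hσ1 : σ ≠ 1) {H : Type*} [Group H] (f : X →* H)
    (hsq : ∀ x, f (x * x) = 1) (hinv : ∀ x, f (σ x) = f x) (u : X) : f u = 1 := by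
  by_contra hu
  have hker := sq_le_ker f hsq
  have hu' : u ∉ sq X := fun h => hu (hker h)
  obtain ⟨h1, -, hcov⟩ := moves hX hgen hodd hσ1 hu'
  have huu : f u * f u = 1 := by rw [← map_mul, hsq]
  have hui : (f u)⁻¹ = f u := inv_eq_of_mul_eq_one_right huu
  obtain ⟨-, -, hcov'⟩ := moves hX hgen hodd hσ1 hu'
  -- `σ² u` is congruent to `u σu`
  rcases hcov (σ (σ u)) with h | h | h | h
  · have := hker h
    rw [MonoidHom.mem_ker, hinv, hinv] at this
    exact hu this
  · -- `σ² u ≡ u`, impossible for odd order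
    obtain ⟨-, hσu, -⟩ := moves hX hgen hodd hσ1 hu'
    haveI := sq_normal (X := X)
    have key : ∀ k : ℕ, u⁻¹ * (σ ^ (2 * k)) u ∈ sq X := by
      intro k
      induction k with
      | zero => simp
      | succ k ih =>
        have h' := sq_map σ (sq_map σ ih)
        rw [map_mul, map_mul, map_inv, map_inv] at h'
        have e : (σ ^ (2 * (k + 1))) u = σ (σ ((σ ^ (2 * k)) u)) := by
          rw [show 2 * (k + 1) = 2 * k + 1 + 1 by ring, pow_succ', pow_succ']; rfl
        have := (sq X).mul_mem h h'
        rw [mul_assoc, mul_inv_cancel_left] at this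
        rwa [e]
    obtain ⟨k, hk⟩ := hodd
    have h2 := key (k + 1)
    rw [show 2 * (k + 1) = 1 + (2 * k + 1) by ring, ← hk, pow_add, pow_orderOf_eq_one, mul_one,
      pow_one] at h2
    exact h1 h2
  · have := sq_map σ.symm h
    rw [map_mul, map_inv, MulEquiv.symm_apply_apply, MulEquiv.symm_apply_apply] at this
    exact h1 this
  · have := hker h
    simp only [MonoidHom.mem_ker, map_mul, map_inv, hinv, huu, inv_one, one_mul] at this
    exact hu this

/-- the structure of a finite abelian 2-group `A`, image of `X` compatible with `σ`. -/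
theorem homocyclic (hX : IsPGroup 2 X) {a b : X} (hgen : ∀ x : X, ∃ i j : ℤ, x = a ^ i * b ^ j)
    {σ : MulAut X} (hodd : Odd (orderOf σ)) (hσ1 : σ ≠ 1)
    {A : Type*} [CommGroup A] [Finite A] (π : X →* A) (hπ : Function.Surjective π)
    (hker : ∀ x, π x = 1 → π (σ x) = 1) :
    ∃ n : ℕ, Nonempty (A ≃* Multiplicative (ZMod (2 ^ n)) × Multiplicative (ZMod (2 ^ n))) ∧
      (∀ x : A, x ^ 2 ^ n = 1) ∧ orderOf (π a) = 2 ^ n ∧ Nat.card A = 2 ^ n * 2 ^ n := by
  classical
  haveI : Fact (Nat.Prime 2) := ⟨Nat.prime_two⟩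
  have hA : IsPGroup 2 A := hX.of_surjective π hπ
  obtain ⟨u', hu'⟩ := Monoid.exists_orderOf_eq_exponent (Monoid.ExponentExists.of_finite (G := A))
  obtain ⟨n, hn⟩ := IsPGroup.iff_orderOf.mp hA u'
  obtain ⟨u, rfl⟩ := hπ u'
  set m := 2 ^ n with hm
  have hexp : ∀ x : A, x ^ m = 1 := fun x => by
    rw [← hn, hu']; exact Monoid.pow_exponent_eq_one x
  haveI : NeZero m := ⟨by positivity⟩
  have hindep : ∀ i j : ℤ, π u ^ i * π (σ u) ^ j = 1 → (m : ℤ) ∣ i ∧ (m : ℤ) ∣ j := by
    have hσo : orderOf (π (σ u)) = m := by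
      refine Nat.dvd_antisymm (orderOf_dvd_of_pow_eq_one (hexp _)) ?_
      rw [← hn]
      refine orderOf_dvd_of_pow_eq_one ?_
      have h : π (σ u ^ orderOf (π (σ u))) = 1 := by rw [map_pow, pow_orderOf_eq_one]
      have hback : ∀ y, π (σ y) = 1 → π y = 1 := by
        intro y hy
        have : ∀ k : ℕ, π ((σ ^ (k + 1)) y) = 1 := by
          intro k
          induction k with
          | zero => rwa [zero_add, pow_one]
          | succ k ih => rw [pow_succ' σ (k + 1), MulAut.mul_apply]; exact hker _ ih
        have h1 := this (orderOf σ - 1)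
        rwa [Nat.sub_add_cancel (orderOf_pos σ), pow_orderOf_eq_one, MulAut.one_apply] at h1
      have := hback (u ^ orderOf (π (σ u))) (by rw [map_pow σ]; exact h)
      rwa [map_pow] at this
    intro i j hij
    have hj : (m : ℤ) ∣ j → (m : ℤ) ∣ i := fun hj => by
      rw [← hσo, orderOf_dvd_iff_zpow_eq_one] at hj
      rw [hj, mul_one, ← orderOf_dvd_iff_zpow_eq_one, hn] at hij
      exact hij
    by_cases hjd : (m : ℤ) ∣ j
    · exact ⟨hj hjd, hjd⟩
    exfalso
    rcases Nat.eq_zero_or_pos n with h0 | hpos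
    · exact hjd (by rw [hm, h0]; simp)
    set h := 2 ^ (n - 1) with hhdef
    have hm2 : m = h * 2 := by rw [hhdef, ← pow_succ, hm, Nat.sub_add_cancel hpos]
    -- the involution `v` is common
    set w := π (σ u) ^ j with hw
    have hwu : w ∈ Subgroup.zpowers (π u) := ⟨-i, by show π u ^ (-i) = w; rw [zpow_neg]; exact inv_eq_of_mul_eq_one_right hij⟩
    have hw1 : w ≠ 1 := fun e => hjd (by rw [← hσo]; exact orderOf_dvd_iff_zpow_eq_one.mpr e)
    have hcom : π u ^ h = π (σ u) ^ h := by
      obtain ⟨r, hr⟩ := IsPGroup.iff_orderOf.mp hA w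
      rcases r with _ | r
      · exact absurd (orderOf_eq_one_iff.mp (by rw [hr, pow_zero])) hw1
      set t := w ^ 2 ^ r with ht
      have hto : orderOf t = 2 := by
        rw [ht, orderOf_pow' _ (pow_ne_zero _ two_ne_zero), hr, Nat.gcd_eq_right (pow_dvd_pow 2 r.le_succ),
          pow_succ, Nat.mul_div_cancel_left _ (pow_pos two_pos r)]
      have hinvo : ∀ g : A, orderOf g = m → t ∈ Subgroup.zpowers g → g ^ h = t := by
        intro g hg htg
        have hgo : orderOf (g ^ h) = 2 := by
          rw [orderOf_pow' _ (by positivity), hg, Nat.gcd_eq_right ⟨2, hm2⟩, hm2,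
            Nat.mul_div_cancel_left _ (by positivity)]
        have hz := CfsgLib.RankOneP.zpowers_eq_of_orderOf_eq
          (a := (⟨t, htg⟩ : Subgroup.zpowers g)) (b := ⟨g ^ h, Subgroup.pow_mem _ (Subgroup.mem_zpowers g) _⟩)
          (by rw [Subgroup.orderOf_mk, Subgroup.orderOf_mk, hto, hgo])
        have hmem : (⟨g ^ h, Subgroup.pow_mem _ (Subgroup.mem_zpowers g) _⟩ : Subgroup.zpowers g) ∈
            Subgroup.zpowers (⟨t, htg⟩ : Subgroup.zpowers g) := by rw [hz]; exact Subgroup.mem_zpowers _
        obtain ⟨k, hk⟩ := Subgroup.mem_zpowers_iff.mp hmem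
        have hk' : t ^ k = g ^ h := congrArg Subtype.val hk
        rcases Int.even_or_odd k with ⟨c, rfl⟩ | ⟨c, rfl⟩
        · exfalso
          rw [← two_mul, zpow_mul, zpow_ofNat, ← hto, pow_orderOf_eq_one, one_zpow] at hk'
          rw [← hk', orderOf_one] at hgo
          norm_num at hgo
        · rw [zpow_add, zpow_mul, zpow_ofNat, ← hto, pow_orderOf_eq_one, one_zpow, one_mul, zpow_one] at hk'
          exact hk'.symm
      rw [hinvo _ hn (Subgroup.pow_mem _ hwu _),
        hinvo _ hσo (Subgroup.pow_mem _ (Subgroup.zpow_mem _ (Subgroup.mem_zpowers _) j) _)]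
    -- the map `x ↦ x ^ h` is `σ`-invariant
    let f : X →* A := (powMonoidHom h).comp π
    have hfsq : ∀ x, f (x * x) = 1 := fun x => by
      show (π (x * x)) ^ h = 1
      rw [map_mul, ← pow_two, ← pow_mul, mul_comm, ← hm2]; exact hexp _
    have hu1 : f u ≠ 1 := by
      intro e
      have := Nat.le_of_dvd (by positivity) (orderOf_dvd_of_pow_eq_one (show π u ^ h = 1 from e))
      rw [hn, hm2] at this
      have : 0 < h := by positivity
      omega
    have hus : u ∉ sq X := fun hh => hu1 (sq_le_ker f hfsq hh)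
    have hfu : f (σ u) = f u := hcom.symm
    have hσσ : f (σ (σ u)) = f (σ u) := by
      have e : π (u ^ h * (σ u ^ h)⁻¹) = 1 := by rw [map_mul, map_inv, map_pow, map_pow, hcom, mul_inv_cancel]
      have := hker _ e
      rw [map_mul, map_inv, map_pow, map_pow, map_mul, map_inv, map_pow, map_pow, mul_inv_eq_one] at this
      exact this.symm
    refine hu1 (no_invariant_hom hX hgen hodd hσ1 f hfsq (fun x => ?_) u)
    have hfs : ∀ y ∈ sq X, f (σ y) = f y := fun y hy => by
      rw [MonoidHom.mem_ker.mp (sq_le_ker f hfsq hy), MonoidHom.mem_ker.mp (sq_le_ker f hfsq (sq_map σ hy))]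
    have hsplit : ∀ g : X, f (σ g) = f g → g⁻¹ * x ∈ sq X → f (σ x) = f x := fun g hg hx => by
      have := hfs _ hx
      rw [map_mul, map_mul, map_mul, map_inv, map_inv, map_inv, hg] at this
      exact mul_left_cancel this
    rcases (moves hX hgen hodd hσ1 hus).2.2 x with hx | hx | hx | hx
    · exact hfs x hx
    · exact hsplit u hfu hx
    · exact hsplit (σ u) hσσ hx
    · exact hsplit (u * σ u) (by rw [map_mul, map_mul, map_mul, hfu, hσσ, hfu]) hx
  -- the isomorphism
  let φ : Multiplicative (ZMod m) × Multiplicative (ZMod m) →* A :=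
    MonoidHom.mk' (fun c => π u ^ (Multiplicative.toAdd c.1).val * π (σ u) ^ (Multiplicative.toAdd c.2).val)
      (fun c d => by
        have key : ∀ (g : A) (x y : ZMod m), g ^ (x + y).val = g ^ x.val * g ^ y.val := fun g x y => by
          rw [← pow_add]
          exact pow_eq_pow_of_modEq (by rw [ZMod.val_add]; exact Nat.mod_modEq _ _) (hexp g)
        simp only [Prod.fst_mul, Prod.snd_mul, toAdd_mul, key]
        rw [mul_mul_mul_comm])
  have hφ : Function.Injective φ := by
    rw [injective_iff_map_eq_one]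
    rintro ⟨c, d⟩ h
    have h' : π u ^ ((Multiplicative.toAdd c).val : ℤ) * π (σ u) ^ ((Multiplicative.toAdd d).val : ℤ) = 1 := by
      rw [zpow_natCast, zpow_natCast]; exact h
    obtain ⟨h1, h2⟩ := hindep _ _ h'
    have e : ∀ x : Multiplicative (ZMod m), (m : ℤ) ∣ ((Multiplicative.toAdd x).val : ℤ) → x = 1 := fun x hx => by
      have hx' : m ∣ (Multiplicative.toAdd x).val := Int.natCast_dvd_natCast.mp hx
      have := Nat.eq_zero_of_dvd_of_lt hx' (ZMod.val_lt _)
      exact (toAdd_eq_zero (x := x)).mp ((ZMod.val_eq_zero _).mp this)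
    exact Prod.ext (e c h1) (e d h2)
  have hlow : m * m ≤ Nat.card A := by
    have := Nat.card_le_card_of_injective φ hφ
    rwa [Nat.card_prod, Nat.card_congr Multiplicative.toAdd, Nat.card_zmod] at this
  let ψ : Subgroup.zpowers (π a) × Subgroup.zpowers (π b) → A := fun c => (c.1 : A) * c.2
  have hψ : Function.Surjective ψ := fun y => by
    obtain ⟨x, rfl⟩ := hπ y
    obtain ⟨i, j, rfl⟩ := hgen x
    exact ⟨(⟨π a ^ i, i, rfl⟩, ⟨π b ^ j, j, rfl⟩), by simp [ψ, map_zpow]⟩
  have hup := Nat.card_le_card_of_surjective ψ hψ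
  rw [Nat.card_prod, Nat.card_zpowers, Nat.card_zpowers] at hup
  have ha' : orderOf (π a) ≤ m := Nat.le_of_dvd (by positivity) (orderOf_dvd_of_pow_eq_one (hexp _))
  have hb' : orderOf (π b) ≤ m := Nat.le_of_dvd (by positivity) (orderOf_dvd_of_pow_eq_one (hexp _))
  have hmpos : 0 < m := by positivity
  have hcard : Nat.card A = m * m := le_antisymm (hup.trans (Nat.mul_le_mul ha' hb')) hlow
  have hbij : Function.Bijective φ := hφ.bijective_of_nat_card_le (by
    rw [Nat.card_prod, Nat.card_congr Multiplicative.toAdd, Nat.card_zmod, hcard])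
  refine ⟨n, ⟨(MulEquiv.ofBijective φ hbij).symm⟩, hexp, le_antisymm ha' ?_, hcard⟩
  by_contra hlt
  push Not at hlt
  have : orderOf (π a) * orderOf (π b) < m * m :=
    lt_of_le_of_lt (Nat.mul_le_mul_left _ hb') (Nat.mul_lt_mul_of_pos_right hlt hmpos)
  omega

end Aux

/-- A finite metacyclic 2-group whose automorphism group is not a 2-group is isomorphic to the quaternion group of order 8 or to a homocyclic abelian group Z_{2^n} × Z_{2^n}. -/
theorem result {X : Type*} [Group X] [Finite X] (hX : IsPGroup 2 X)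
    (hm : Cfsg.IsMetacyclic X) (hA : ¬ IsPGroup 2 (MulAut X)) :
    Nonempty (X ≃* QuaternionGroup 2) ∨
      ∃ n : ℕ, Nonempty (X ≃* Multiplicative (ZMod (2 ^ n)) × Multiplicative (ZMod (2 ^ n))) := by
  haveI : Fact (Nat.Prime 2) := ⟨Nat.prime_two⟩
  -- an automorphism of odd order
  obtain ⟨σ, hodd, hσ1⟩ : ∃ σ : MulAut X, Odd (orderOf σ) ∧ σ ≠ 1 := by
    by_contra hcon
    push Not at hcon
    refine hA (IsPGroup.iff_card.mpr ⟨_, Nat.eq_prime_pow_of_unique_prime_dvd Nat.card_pos.ne' ?_⟩)
    intro q hq hd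
    by_contra h2
    haveI := Fact.mk hq
    obtain ⟨τ, hτ⟩ := exists_prime_orderOf_dvd_card' q hd
    have := hcon τ (hτ ▸ hq.odd_of_ne_two h2)
    rw [this, orderOf_one] at hτ
    exact hq.one_lt.ne hτ
  obtain ⟨N, hNn, hN, hQ⟩ := hm
  haveI := hNn
  obtain ⟨a, b, haN, hgen⟩ := decomposition N hN hQ
  have hab : ∀ x, (QuotientGroup.mk' (commutator X)) x = 1 → (QuotientGroup.mk' (commutator X)) (σ x) = 1 := by
    intro x hx
    rw [QuotientGroup.mk'_apply, QuotientGroup.eq_one_iff] at hx ⊢
    exact (Subgroup.characteristic_iff_map_le.mp (inferInstance : (commutator X).Characteristic) σ)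
      ⟨x, hx, rfl⟩
  letI : CommGroup (X ⧸ commutator X) :=
    { (inferInstance : Group (X ⧸ commutator X)) with
      mul_comm := fun x y => by
        obtain ⟨x, rfl⟩ := QuotientGroup.mk_surjective x
        obtain ⟨y, rfl⟩ := QuotientGroup.mk_surjective y
        rw [← QuotientGroup.mk_mul, ← QuotientGroup.mk_mul, QuotientGroup.eq, mul_inv_rev,
          commutator_def]
        have := Subgroup.commutator_mem_commutator (Subgroup.mem_top y⁻¹) (Subgroup.mem_top x⁻¹)
        simpa [commutatorElement_def, mul_assoc] using this }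
  obtain ⟨n, ⟨e⟩, hexp, hoa, hcardA⟩ := homocyclic hX hgen hodd hσ1
    (QuotientGroup.mk' (commutator X)) (QuotientGroup.mk'_surjective _) hab
  by_cases habel : commutator X = ⊥
  · refine Or.inr ⟨n, ⟨MulEquiv.trans ?_ e⟩⟩
    exact MulEquiv.ofBijective (QuotientGroup.mk' (commutator X))
      ⟨(injective_iff_map_eq_one _).mpr fun x hx => by
        rw [QuotientGroup.mk'_apply, QuotientGroup.eq_one_iff, habel, Subgroup.mem_bot] at hx
        exact hx, QuotientGroup.mk'_surjective _⟩
  left
  -- nonabelian
  have hXN : commutator X ≤ N := by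
    rw [commutator_def, Subgroup.commutator_le]
    intro x _ y _
    rw [← QuotientGroup.eq_one_iff, ← QuotientGroup.mk'_apply N, map_commutatorElement,
      commutatorElement_eq_one_iff_commute]
    haveI := hQ
    exact mul_comm' _ _
  set m := 2 ^ n with hm
  set z := a ^ m with hz
  have hzmem : z ∈ commutator X := by
    rw [← QuotientGroup.eq_one_iff, hz, QuotientGroup.mk_pow]; exact hexp _
  have hXz : ∀ x ∈ commutator X, ∃ k : ℤ, x = z ^ k := by
    intro x hx
    have hxN := hXN hx
    rw [← haN] at hxN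
    obtain ⟨i, rfl⟩ := Subgroup.mem_zpowers_iff.mp hxN
    have : ((QuotientGroup.mk' (commutator X)) a) ^ i = 1 := by
      rw [← map_zpow, QuotientGroup.mk'_apply, QuotientGroup.eq_one_iff]; exact hx
    rw [← orderOf_dvd_iff_zpow_eq_one, hoa] at this
    obtain ⟨k, rfl⟩ := this
    exact ⟨k, by rw [hz, ← zpow_natCast, ← zpow_mul]⟩
  have hz1 : z ≠ 1 := fun e' => habel ((Subgroup.eq_bot_iff_forall _).mpr fun x hx => by
    obtain ⟨k, rfl⟩ := hXz x hx; rw [e', one_zpow])
  obtain ⟨r, hr⟩ := IsPGroup.iff_orderOf.mp hX z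
  have hr0 : r ≠ 0 := fun h => hz1 (orderOf_eq_one_iff.mp (by rw [hr, h, pow_zero]))
  -- `σ` centralizes the derived subgroup
  have hσz : σ z = z := by
    have hm2 : σ z ∈ commutator X :=
      (Subgroup.characteristic_iff_map_le.mp (inferInstance : (commutator X).Characteristic) σ) ⟨z, hzmem, rfl⟩
    obtain ⟨k, hk⟩ := hXz _ hm2
    have hpow : ∀ l : ℕ, (σ ^ l) z = z ^ (k ^ l) := by
      intro l
      induction l with
      | zero => simp
      | succ l ih => rw [pow_succ' σ, MulAut.mul_apply, ih, map_zpow, hk, ← zpow_mul, pow_succ']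
    have h1 := hpow (orderOf σ)
    rw [pow_orderOf_eq_one, MulAut.one_apply] at h1
    rw [hk]
    -- an odd-order unit modulo a power of two is one
    have hk1 : ((k : ZMod (2 ^ r))) ^ orderOf σ = 1 := by
      have : z ^ ((k ^ orderOf σ) - 1) = 1 := by rw [zpow_sub, zpow_one, ← h1, mul_inv_cancel]
      rw [← orderOf_dvd_iff_zpow_eq_one, hr] at this
      have := (ZMod.intCast_zmod_eq_zero_iff_dvd _ _).mpr this
      push_cast at this
      exact sub_eq_zero.mp this
    have hk' : (k : ZMod (2 ^ r)) = 1 := by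
      haveI : NeZero (2 ^ r) := ⟨by positivity⟩
      have hu : IsUnit (k : ZMod (2 ^ r)) := IsUnit.of_pow_eq_one hk1 (orderOf_pos σ).ne'
      obtain ⟨u, hu⟩ := hu
      have hu1 : u ^ orderOf σ = 1 := Units.ext (by rw [Units.val_pow_eq_pow_val, hu, hk1]; rfl)
      have hc : orderOf u ∣ 2 ^ (r - 1) := by
        refine orderOf_dvd_natCard u |>.trans ?_
        rw [Nat.card_eq_fintype_card, ZMod.card_units_eq_totient,
          Nat.totient_prime_pow Nat.prime_two (Nat.pos_of_ne_zero hr0)]
        simp
      have hg := Nat.dvd_gcd (orderOf_dvd_of_pow_eq_one hu1) hc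
      rw [Nat.Coprime.gcd_eq_one (((Nat.coprime_two_left.mpr hodd).pow_left (r - 1)).symm),
        Nat.dvd_one, orderOf_eq_one_iff] at hg
      rw [← hu, hg]; rfl
    have : (2 ^ r : ℤ) ∣ k - 1 := by
      have h0 : ((k - 1 : ℤ) : ZMod (2 ^ r)) = 0 := by push_cast; rw [hk', sub_self]
      have := (ZMod.intCast_zmod_eq_zero_iff_dvd _ _).mp h0
      exact_mod_cast this
    have h2 : z ^ (k - 1) = 1 := by rw [← orderOf_dvd_iff_zpow_eq_one, hr]; exact_mod_cast this
    rwa [zpow_sub, zpow_one, mul_inv_eq_one] at h2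
  have hσfix : ∀ x ∈ commutator X, σ x = x := fun x hx => by
    obtain ⟨k, rfl⟩ := hXz x hx; rw [map_zpow, hσz]
  have hn1 : n = 1 := by
    rcases Nat.lt_trichotomy n 1 with h | h | h
    · exfalso
      have h0 : n = 0 := by omega
      have : a ∈ commutator X := by
        rw [← QuotientGroup.eq_one_iff]
        have := hexp (a : X ⧸ commutator X)
        rwa [hm, h0, pow_zero, pow_one] at this
      have hbm : b ∈ commutator X := by
        rw [← QuotientGroup.eq_one_iff]
        have := hexp (b : X ⧸ commutator X)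
        rwa [hm, h0, pow_zero, pow_one] at this
      -- everything is abelian
      refine habel ?_
      rw [commutator_def, Subgroup.commutator_eq_bot_iff_le_centralizer]
      intro x _
      rw [Subgroup.mem_centralizer_iff]
      intro y _
      have hcen : ∀ w : X, ∃ k : ℤ, w = z ^ k := fun w => by
        obtain ⟨i, j, rfl⟩ := hgen w
        exact hXz _ ((commutator X).mul_mem ((commutator X).zpow_mem this i) ((commutator X).zpow_mem hbm j))
      obtain ⟨i, rfl⟩ := hcen x
      obtain ⟨j, rfl⟩ := hcen y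
      exact ((Commute.refl z).zpow_zpow _ _).eq
    · exact h
    · exfalso
      -- `x ↦ x ^ m` modulo `⟨z²⟩`
      haveI hD : (Subgroup.zpowers (z * z)).Normal := by
        constructor
        intro w hw g
        obtain ⟨k, rfl⟩ := Subgroup.mem_zpowers_iff.mp hw
        obtain ⟨l, hl⟩ := hXz _ ((inferInstance : (commutator X).Normal).conj_mem z hzmem g)
        refine Subgroup.mem_zpowers_iff.mpr ⟨l * k, ?_⟩
        rw [← conj_zpow, zpow_mul]
        congr 1
        calc (z * z) ^ l = z ^ l * z ^ l := (Commute.refl z).mul_zpow l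
          _ = (g * z * g⁻¹) * (g * z * g⁻¹) := by rw [hl]
          _ = g * (z * z) * g⁻¹ := by group
      let q := QuotientGroup.mk' (Subgroup.zpowers (z * z))
      have hq2 : q z * q z = 1 := by
        rw [← map_mul, QuotientGroup.mk'_apply, QuotientGroup.eq_one_iff]; exact Subgroup.mem_zpowers _
      have hqz : q z ≠ 1 := by
        rw [Ne, QuotientGroup.mk'_apply, QuotientGroup.eq_one_iff]
        intro hmem
        obtain ⟨k, hk⟩ := Subgroup.mem_zpowers_iff.mp hmem
        have h0 : z ^ (2 * k - 1) = 1 := by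
          rw [zpow_sub, zpow_one, mul_inv_eq_one, zpow_mul, zpow_two, hk]
        rw [← orderOf_dvd_iff_zpow_eq_one, hr] at h0
        have h2d : (2 : ℤ) ∣ 2 * k - 1 := dvd_trans (by exact_mod_cast dvd_pow_self 2 hr0) h0
        omega
      have hcase : ∀ x ∈ commutator X, q x = 1 ∨ q x = q z := by
        intro x hx
        obtain ⟨k, rfl⟩ := hXz x hx
        rw [map_zpow]
        rcases Int.even_or_odd k with ⟨c, rfl⟩ | ⟨c, rfl⟩
        · left; rw [← two_mul, zpow_mul, zpow_two, hq2, one_zpow]
        · right; rw [zpow_add, zpow_mul, zpow_two, hq2, one_zpow, one_mul, zpow_one]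
      have hzc : ∀ g, q g * q z = q z * q g := by
        intro g
        rcases hcase _ ((inferInstance : (commutator X).Normal).conj_mem z hzmem g) with h1 | h1
        · rw [map_mul, map_mul, map_inv, mul_inv_eq_one, mul_eq_left] at h1
          exact absurd h1 hqz
        · rw [map_mul, map_mul, map_inv, mul_inv_eq_iff_eq_mul] at h1
          exact h1
      -- commutation up to `q z`
      have hcomm : ∀ x y, q x * q y = q y * q x ∨ q x * q y = q z * (q y * q x) := by
        intro x y
        have hmem : x * y * x⁻¹ * y⁻¹ ∈ commutator X := by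
          rw [commutator_def]
          exact Subgroup.commutator_mem_commutator (Subgroup.mem_top x) (Subgroup.mem_top y)
        rcases hcase _ hmem with h1 | h1
        · left
          rw [map_mul, map_mul, map_mul, map_inv, map_inv, mul_inv_eq_one, mul_inv_eq_iff_eq_mul] at h1
          exact h1
        · right
          rw [map_mul, map_mul, map_mul, map_inv, map_inv, mul_inv_eq_iff_eq_mul, mul_inv_eq_iff_eq_mul] at h1
          rw [h1, mul_assoc]
      have hsqc : ∀ x y, (q x * q x) * q y = q y * (q x * q x) := by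
        intro x y
        rcases hcomm x y with h1 | h1
        · rw [mul_assoc, h1, ← mul_assoc, h1, mul_assoc]
        · calc q x * q x * q y = q x * (q z * (q y * q x)) := by rw [mul_assoc, h1]
            _ = q z * (q x * q y) * q x := by
                rw [← mul_assoc, hzc x]; group
            _ = (q z * q z) * (q y * q x * q x) := by rw [h1]; group
            _ = q y * (q x * q x) := by rw [hq2, one_mul, mul_assoc]
      have hfour : ∀ x y, (q x * q y) ^ 4 = q x ^ 4 * q y ^ 4 := by
        intro x y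
        have hxx : Commute (q x * q x) (q y * q y) := by
          show q x * q x * (q y * q y) = q y * q y * (q x * q x)
          rw [← mul_assoc, hsqc, mul_assoc, hsqc, ← mul_assoc]
        have e2 : (q x * q y) * (q x * q y) = q x * q x * (q y * q y) ∨
            (q x * q y) * (q x * q y) = q z * (q x * q x * (q y * q y)) := by
          rcases hcomm y x with h1 | h1
          · left
            calc q x * q y * (q x * q y) = q x * (q y * q x) * q y := by group
              _ = q x * (q x * q y) * q y := by rw [h1]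
              _ = _ := by group
          · right
            calc q x * q y * (q x * q y) = q x * (q y * q x) * q y := by group
              _ = (q x * q z) * (q x * q y) * q y := by rw [h1]; group
              _ = (q z * q x) * (q x * q y) * q y := by rw [hzc x]
              _ = _ := by group
        have h4 : (q x * q y) ^ 4 = ((q x * q y) * (q x * q y)) * ((q x * q y) * (q x * q y)) := by
          simp [pow_succ, mul_assoc]
        have hgoal : q x * q x * (q y * q y) * (q x * q x * (q y * q y)) = q x ^ 4 * q y ^ 4 := by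
          rw [hxx.symm.mul_mul_mul_comm]
          simp [pow_succ, mul_assoc]
        rcases e2 with e2 | e2
        · rw [h4, e2, hgoal]
        · have hcz : Commute (q z) (q x * q x * (q y * q y)) := by
            show q z * (q x * q x * (q y * q y)) = q x * q x * (q y * q y) * q z
            rw [show q x * q x * (q y * q y) = q (x * x * (y * y)) by simp only [map_mul]]
            exact (hzc _).symm
          rw [h4, e2, hcz.symm.mul_mul_mul_comm, hq2, one_mul, hgoal]
      obtain ⟨c, hc⟩ : 4 ∣ m := ⟨2 ^ (n - 2), by rw [hm, show (4 : ℕ) = 2 ^ 2 by norm_num, ← pow_add]; congr 1; omega⟩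
      have h4c : ∀ x y, q x ^ 4 * q y = q y * q x ^ 4 := fun x y => by
        have : q x ^ 4 = (q x * q x) * (q x * q x) := by simp [pow_succ, mul_assoc]
        rw [this, mul_assoc, hsqc, ← mul_assoc, hsqc, mul_assoc]
      let f : X →* X ⧸ Subgroup.zpowers (z * z) := MonoidHom.mk' (fun x => q x ^ m) (fun x y => by
        show q (x * y) ^ m = q x ^ m * q y ^ m
        rw [map_mul, hc, pow_mul, pow_mul, pow_mul, hfour]
        have hcm : Commute (q x ^ 4) (q y ^ 4) :=
          Commute.pow_right (show q x ^ 4 * q y = q y * q x ^ 4 from h4c x y) 4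
        exact hcm.mul_pow c)
      have hfm : ∀ x, x ^ m ∈ commutator X := fun x => by
        rw [← QuotientGroup.eq_one_iff, QuotientGroup.mk_pow]; exact hexp _
      have hfsq : ∀ x, f (x * x) = 1 := fun x => by
        show q (x * x) ^ m = 1
        rw [map_mul, (Commute.refl (q x)).mul_pow, ← map_pow]
        rcases hcase _ (hfm x) with h1 | h1 <;> rw [h1]
        · exact one_mul 1
        · exact hq2
      have hfinv : ∀ x, f (σ x) = f x := fun x => by
        show q (σ x) ^ m = q x ^ m
        rw [← map_pow q, ← map_pow q, ← map_pow σ, hσfix _ (hfm x)]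
      have := no_invariant_hom hX hgen hodd hσ1 f hfsq hfinv a
      rw [show f a = q a ^ m from rfl, ← map_pow] at this
      exact hqz this
  subst hn1
  simp only [hm, pow_one] at hz hcardA hoa hexp
  -- squares lie in the derived subgroup
  have hsqle : sq X ≤ commutator X := by
    rw [sq, Subgroup.closure_le]
    rintro _ ⟨x, rfl⟩
    show x * x ∈ commutator X
    rw [← QuotientGroup.eq_one_iff, QuotientGroup.mk_mul, ← pow_two]
    exact hexp _
  have haS : a ∉ sq X := fun h => by
    have := (QuotientGroup.eq_one_iff a).mpr (hsqle h)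
    rw [QuotientGroup.mk'_apply, this, orderOf_one] at hoa
    norm_num at hoa
  obtain ⟨-, -, hcov⟩ := moves hX hgen hodd hσ1 haS
  set c := σ a with hcdef
  have hcz : c * c = z := by
    rw [hcdef, ← map_mul, ← hσz, hz, pow_two]
  have haz : a * a = z := by rw [hz, pow_two]
  -- `z` is central and every element is a short word
  have hword : ∀ x : X, ∃ k : ℤ, x = z ^ k ∨ x = a * z ^ k ∨ x = c * z ^ k ∨ x = a * c * z ^ k := by
    intro x
    rcases hcov x with h | h | h | h <;> obtain ⟨k, hk⟩ := hXz _ (hsqle h) <;> refine ⟨k, ?_⟩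
    · exact Or.inl hk
    · exact Or.inr (Or.inl (by rw [← hk, mul_inv_cancel_left]))
    · exact Or.inr (Or.inr (Or.inl (by rw [← hk, mul_inv_cancel_left])))
    · exact Or.inr (Or.inr (Or.inr (by rw [← hk, mul_inv_cancel_left])))
  have hzc : ∀ x, Commute z x := by
    have hza : Commute z a := by rw [← haz]; exact (Commute.refl a).mul_left (Commute.refl a)
    have hzc' : Commute z c := by rw [← hcz]; exact (Commute.refl c).mul_left (Commute.refl c)
    have hzk : ∀ k : ℤ, Commute z (z ^ k) := fun k => (Commute.refl z).zpow_right k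
    intro x
    obtain ⟨k, rfl | rfl | rfl | rfl⟩ := hword x
    · exact hzk k
    · exact hza.mul_right (hzk k)
    · exact hzc'.mul_right (hzk k)
    · exact (hza.mul_right hzc').mul_right (hzk k)
  have hzk : ∀ (k : ℤ) x, Commute (z ^ k) x := fun k x => (hzc x).zpow_left k
  obtain ⟨l, hl⟩ := hXz (a * c * a⁻¹ * c⁻¹) (by
    rw [commutator_def]
    exact Subgroup.commutator_mem_commutator (Subgroup.mem_top a) (Subgroup.mem_top c))
  have hac : a * c = z ^ l * (c * a) := by rw [← hl]; group
  have hl2 : z ^ l * z ^ l = 1 := by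
    have h1 : a * a * c = z ^ l * z ^ l * (c * (a * a)) := by
      calc a * a * c = a * (z ^ l * (c * a)) := by rw [mul_assoc, hac]
        _ = z ^ l * (a * c) * a := by
          rw [← mul_assoc, (hzk l a).symm.eq]; group
        _ = z ^ l * z ^ l * (c * (a * a)) := by rw [hac]; group
    rw [haz, (hzc c).eq] at h1
    exact (mul_eq_right.mp h1.symm)
  -- the derived subgroup has order two
  have hz2 : z * z = 1 := by
    haveI hKn : (Subgroup.zpowers (z ^ l)).Normal := ⟨fun w hw g => by
      obtain ⟨k, rfl⟩ := Subgroup.mem_zpowers_iff.mp hw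
      rw [← (((hzk l g)).zpow_left k).eq, mul_inv_cancel_right]
      exact Subgroup.zpow_mem _ (Subgroup.mem_zpowers _) k⟩
    let q := QuotientGroup.mk' (Subgroup.zpowers (z ^ l))
    have hqac : Commute (q a) (q c) := by
      show q a * q c = q c * q a
      have : q (z ^ l) = 1 := (QuotientGroup.eq_one_iff _).mpr (Subgroup.mem_zpowers _)
      rw [← map_mul, hac, map_mul, this, one_mul, map_mul]
    have hqz : ∀ x, Commute (q z) (q x) := fun x => (hzc x).map q
    have hall : ∀ x y : X, Commute (q x) (q y) := by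
      have h1 : ∀ x, Commute (q a) (q x) ∧ Commute (q c) (q x) := by
        intro x
        have hk : ∀ k : ℤ, Commute (q a) (q (z ^ k)) ∧ Commute (q c) (q (z ^ k)) := fun k =>
          ⟨((hzk k a).map q).symm, ((hzk k c).map q).symm⟩
        obtain ⟨k, rfl | rfl | rfl | rfl⟩ := hword x
        · exact hk k
        · exact ⟨by rw [map_mul]; exact (Commute.refl _).mul_right (hk k).1,
            by rw [map_mul]; exact hqac.symm.mul_right (hk k).2⟩
        · exact ⟨by rw [map_mul]; exact hqac.mul_right (hk k).1,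
            by rw [map_mul]; exact (Commute.refl _).mul_right (hk k).2⟩
        · exact ⟨by rw [map_mul, map_mul]; exact ((Commute.refl _).mul_right hqac).mul_right (hk k).1,
            by rw [map_mul, map_mul]; exact (hqac.symm.mul_right (Commute.refl _)).mul_right (hk k).2⟩
      intro x y
      have hk : ∀ k : ℤ, Commute (q (z ^ k)) (q y) := fun k => (hzk k y).map q
      obtain ⟨k, rfl | rfl | rfl | rfl⟩ := hword x
      · exact hk k
      · rw [map_mul]; exact (h1 y).1.mul_left (hk k)
      · rw [map_mul]; exact (h1 y).2.mul_left (hk k)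
      · rw [map_mul, map_mul]; exact ((h1 y).1.mul_left (h1 y).2).mul_left (hk k)
    have hle : commutator X ≤ Subgroup.zpowers (z ^ l) := by
      rw [commutator_def, Subgroup.commutator_le]
      intro x _ y _
      rw [← QuotientGroup.eq_one_iff, ← QuotientGroup.mk'_apply, map_commutatorElement,
        commutatorElement_eq_one_iff_commute]
      exact hall x y
    obtain ⟨k, hk⟩ := Subgroup.mem_zpowers_iff.mp (hle hzmem)
    rw [← hk, ← (Commute.refl (z ^ l)).mul_zpow, hl2, one_zpow]
  have hzcases : ∀ x ∈ commutator X, x = 1 ∨ x = z := fun x hx => by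
    obtain ⟨k, rfl⟩ := hXz x hx
    rcases Int.even_or_odd k with ⟨d, rfl⟩ | ⟨d, rfl⟩
    · left; rw [← two_mul, zpow_mul, zpow_two, hz2, one_zpow]
    · right; rw [zpow_add, zpow_mul, zpow_two, hz2, one_zpow, one_mul, zpow_one]
  have hcardX' : Nat.card (commutator X) = 2 := by
    have : commutator X = Subgroup.zpowers z := le_antisymm (fun x hx => by
      obtain ⟨k, rfl⟩ := hXz x hx
      exact Subgroup.zpow_mem _ (Subgroup.mem_zpowers _) k) (Subgroup.zpowers_le.mpr hzmem)
    rw [this, Nat.card_zpowers, orderOf_eq_prime (by rw [pow_two, hz2]) hz1]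
  have hcardX : Nat.card X = 8 := by
    rw [Subgroup.card_eq_card_quotient_mul_card_subgroup (commutator X), hcardA, hcardX']
  -- a single involution
  have hinvol : ∀ x : X, x * x = 1 → x = 1 ∨ x = z := by
    intro x hx
    -- the three nontrivial cosets are moved into one another by `σ`
    have hsqz : ∀ (g : X) (k : ℤ), g * g = z → (g * z ^ k) * (g * z ^ k) = z := fun g k hg => by
      rw [(hzk k g).mul_mul_mul_comm, hg, ← (Commute.refl z).mul_zpow, hz2, one_zpow, mul_one]
    have hac2 : (a * c) * (a * c) = z := by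
      have hd2 : σ c * σ c = z := by rw [← map_mul, hcz, hσz]
      have hback : ∀ y, σ y ∈ commutator X → y ∈ commutator X := fun y hy => by
        have := (Subgroup.characteristic_iff_map_le.mp (inferInstance : (commutator X).Characteristic) σ.symm)
          ⟨σ y, hy, rfl⟩
        rwa [MulEquiv.coe_toMonoidHom, MulEquiv.symm_apply_apply] at this
      have haS' : a ∉ commutator X := fun h => by
        have := (QuotientGroup.eq_one_iff a).mpr h
        rw [QuotientGroup.mk'_apply, this, orderOf_one] at hoa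
        norm_num at hoa
      obtain ⟨h1, hcS, -⟩ := moves hX hgen hodd hσ1 haS
      obtain ⟨h1', -, -⟩ := moves hX hgen hodd hσ1 hcS
      have hsqeq : commutator X ≤ sq X := fun w hw => by
        rcases hzcases w hw with rfl | rfl
        · exact Subgroup.one_mem _
        · exact haz ▸ sq_mem a
      rcases hcov (σ c) with h | h | h | h
      · exact absurd (hback a (hback c (hsqle h))) haS'
      · exfalso
        -- `σ²` fixes the coset of `a`, hence so does `σ`
        haveI := sq_normal (X := X)
        have key : ∀ k : ℕ, a⁻¹ * (σ ^ (2 * k)) a ∈ sq X := by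
          intro k
          induction k with
          | zero => simp
          | succ k ih =>
            have h' := sq_map σ (sq_map σ ih)
            rw [map_mul, map_mul, map_inv, map_inv] at h'
            have e' : (σ ^ (2 * (k + 1))) a = σ (σ ((σ ^ (2 * k)) a)) := by
              rw [show 2 * (k + 1) = 2 * k + 1 + 1 by ring, pow_succ', pow_succ']; rfl
            have := (sq X).mul_mem h h'
            rw [hcdef, mul_assoc, mul_inv_cancel_left] at this
            rwa [e']
        obtain ⟨k, hk⟩ := hodd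
        have h2 := key (k + 1)
        rw [show 2 * (k + 1) = 1 + (2 * k + 1) by ring, ← hk, pow_add, pow_orderOf_eq_one, mul_one,
          pow_one] at h2
        exact h1 h2
      · exact absurd h h1'
      · rcases hzcases _ (hsqle h) with e' | e' <;> rw [inv_mul_eq_iff_eq_mul] at e'
        · rw [mul_one] at e'; rw [← e']; exact hd2
        · have := hsqz (a * c) 1
          rw [zpow_one, ← e'] at this
          by_cases hh : (a * c) * (a * c) = z
          · exact hh
          exfalso
          apply hh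
          rw [← hd2, e', (hzc (a * c)).mul_mul_mul_comm, hz2, mul_one]
    obtain ⟨k, rfl | rfl | rfl | rfl⟩ := hword x
    · exact hzcases _ (Subgroup.zpow_mem _ hzmem k)
    · exact absurd ((hsqz a k haz).symm.trans hx) hz1
    · exact absurd ((hsqz c k hcz).symm.trans hx) hz1
    · exact absurd ((hsqz (a * c) k hac2).symm.trans hx) hz1
  have hu : CfsgLib.RankOneP.UniqueOrderP 2 X := by
    intro x y hx hy hx1
    rw [pow_two] at hx hy
    rcases hinvol y hy with rfl | rfl
    · exact Subgroup.one_mem _
    · rcases hinvol x hx with h | h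
      · exact absurd h hx1
      · rw [h]; exact Subgroup.mem_zpowers _
  rcases CfsgLib.RankOneP.isCyclic_or_quaternion hX hu with hc | ⟨-, k, -, ⟨e'⟩⟩
  · exfalso
    refine habel ?_
    rw [commutator_def, Subgroup.commutator_eq_bot_iff_le_centralizer]
    intro x _
    rw [Subgroup.mem_centralizer_iff]
    intro y _
    haveI := hc
    exact mul_comm' y x
  · haveI : NeZero (2 ^ k) := ⟨by positivity⟩
    have h8 := Nat.card_congr e'.toEquiv
    rw [hcardX, Nat.card_eq_fintype_card, QuaternionGroup.card] at h8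
    have : 2 ^ k = 2 := by omega
    exact ⟨this ▸ e'⟩

end Cfsg.Agent.S1896
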