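import Cfsg.Statements.S1907
import Cfsg.Agent.PCore.Basic
import Cfsg.Agent.Transfer.Frobenius

set_option autoImplicit false
open Cfsg

namespace Cfsg.Agent.S1907

/-- Let P be a Sylow p-subgroup of a finite group G, H = P ∩ O_{p',p}(G), N = N_G(H) and D = O_{p'}(G). (a) If y is an element of p-power order of N and d ∈ D with d⁻¹ y d ∈ N, then d = d₁ d₂ with d₁ ∈ C_D(y) and d₂ ∈ C_D(H). (b) Two elements of P that are conjugate in G are conjugate in N. -/
theorem result {G : Type*} [Group G] [Finite G] {p : ℕ} [Fact p.Prime] (P : Sylow p G) :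
    (∀ y ∈ Subgroup.normalizer (((P : Subgroup G) ⊓ Cfsg.pPrimePCore p G : Subgroup G) : Set G), (∃ k : ℕ, orderOf y = p ^ k) →
      ∀ d ∈ Cfsg.pPrimeCore p G, d⁻¹ * y * d ∈ Subgroup.normalizer (((P : Subgroup G) ⊓ Cfsg.pPrimePCore p G : Subgroup G) : Set G) →
        ∃ d₁ ∈ Cfsg.pPrimeCore p G ⊓ Subgroup.centralizer ({y} : Set G),
          ∃ d₂ ∈ Cfsg.pPrimeCore p G ⊓ Subgroup.centralizer (((P : Subgroup G) ⊓ Cfsg.pPrimePCore p G : Subgroup G) : Set G), d = d₁ * d₂) ∧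
    ∀ x y : G, x ∈ (P : Subgroup G) → y ∈ (P : Subgroup G) → IsConj x y →
      ∃ n ∈ Subgroup.normalizer (((P : Subgroup G) ⊓ Cfsg.pPrimePCore p G : Subgroup G) : Set G), n * x * n⁻¹ = y := by
  have hp : p.Prime := Fact.out
  set D := Cfsg.pPrimeCore p G with hDdef
  set K := Cfsg.pPrimePCore p G with hKdef
  set H : Subgroup G := (P : Subgroup G) ⊓ K with hH
  set N := Subgroup.normalizer (H : Set G) with hN
  haveI hDn : D.Normal := Subgroup.sSup_normal _ (fun _ h => h.1)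
  haveI hKn : K.Normal := CfsgLib.PCore.pPrimePCore_normal p G
  have hDp : ¬ p ∣ Nat.card D := CfsgLib.PCore.not_dvd_card_pPrimeCore p G
  have hbot : ∀ z ∈ D, z ∈ (P : Subgroup G) → z = 1 := by
    intro z hz hzP
    obtain ⟨k, hk⟩ := P.isPGroup'.exists_card_eq
    have h1 : orderOf z ∣ (Nat.card D).gcd (p ^ k) :=
      Nat.dvd_gcd (Subgroup.orderOf_dvd_natCard D hz) (hk ▸ Subgroup.orderOf_dvd_natCard _ hzP)
    rw [((((Nat.Prime.coprime_iff_not_dvd hp).2 hDp).pow_left k).symm).gcd_eq_one, Nat.dvd_one, orderOf_eq_one_iff] at h1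
    exact h1
  -- `D ∩ N` centralises `H`
  have hcen : ∀ c ∈ D, c ∈ N → c ∈ Subgroup.centralizer (H : Set G) := by
    intro c hc hcN
    rw [Subgroup.mem_centralizer_iff]
    intro h hh
    have h1 : h * c * h⁻¹ * c⁻¹ ∈ D := mul_mem (hDn.conj_mem c hc h) (inv_mem hc)
    have h2 : h * c * h⁻¹ * c⁻¹ ∈ H := by
      rw [show h * c * h⁻¹ * c⁻¹ = h * (c * h⁻¹ * c⁻¹) by group]
      exact H.mul_mem hh ((Subgroup.mem_normalizer_iff.1 hcN _).1 (H.inv_mem hh))
    have h3 := hbot _ h1 h2.1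
    exact mul_inv_eq_iff_eq_mul.1 (mul_inv_eq_one.1 h3)
  have ha : ∀ y ∈ N, (∃ k : ℕ, orderOf y = p ^ k) → ∀ d ∈ D, d⁻¹ * y * d ∈ N →
      ∃ d₁ ∈ D ⊓ Subgroup.centralizer ({y} : Set G), ∃ d₂ ∈ D ⊓ Subgroup.centralizer (H : Set G), d = d₁ * d₂ := by
    intro y hy hyp d hd hd'
    obtain ⟨k, hk⟩ := hyp
    set y' := d⁻¹ * y * d with hy'
    set C := D ⊓ N with hC
    -- the twisted action of `y` on `C`
    have hstep : ∀ c ∈ C, y * c * y'⁻¹ ∈ C := by
      intro c hc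
      have h1 : y * y'⁻¹ ∈ C := by
        refine ⟨?_, N.mul_mem hy (N.inv_mem hd')⟩
        rw [hy', show y * (d⁻¹ * y * d)⁻¹ = (y * d⁻¹ * y⁻¹) * d by group]
        exact mul_mem (hDn.conj_mem _ (inv_mem hd) y) hd
      rw [show y * c * y'⁻¹ = (y * c * y⁻¹) * (y * y'⁻¹) by group]
      exact mul_mem (show y * c * y⁻¹ ∈ C from ⟨hDn.conj_mem c hc.1 y, N.mul_mem (N.mul_mem hy hc.2) (N.inv_mem hy)⟩) h1
    let f : C → C := fun c => ⟨y * c * y'⁻¹, hstep c c.2⟩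
    have hfinj : Function.Injective f := fun a b h => Subtype.ext (mul_left_cancel (mul_right_cancel (congrArg Subtype.val h)))
    let φ : Equiv.Perm C := Equiv.ofBijective f (Finite.injective_iff_bijective.1 hfinj)
    have hφ : ∀ (n : ℕ) (c : C), (((φ ^ n) c : C) : G) = y ^ n * c * (y' ^ n)⁻¹ := by
      intro n c
      induction n with
      | zero => simp
      | succ n ih =>
        rw [pow_succ', Equiv.Perm.mul_apply]
        show y * (((φ ^ n) c : C) : G) * y'⁻¹ = _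
        rw [ih, pow_succ' y, pow_succ' y']
        group
    have hord : φ ^ p ^ k = 1 := by
      refine Equiv.ext fun c => Subtype.ext ?_
      have h1 : y ^ p ^ k = 1 := hk ▸ pow_orderOf_eq_one y
      have h2 : y' ^ p ^ k = 1 := by
        rw [hy', show d⁻¹ * y * d = d⁻¹ * y * d⁻¹⁻¹ by group, conj_pow, h1]
        group
      rw [hφ, h1, h2, one_mul, inv_one, mul_one]
      rfl
    have hgrp : IsPGroup p (Subgroup.zpowers φ) := by
      obtain ⟨j, -, hj⟩ := (Nat.dvd_prime_pow hp).1 (orderOf_dvd_of_pow_eq_one hord)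
      exact IsPGroup.of_card (n := j) (by rw [Nat.card_zpowers, hj])
    have hCp : ¬ p ∣ Nat.card C := fun h => hDp (h.trans (Subgroup.card_dvd_of_le inf_le_left))
    obtain ⟨c, hc⟩ := hgrp.nonempty_fixed_point_of_prime_not_dvd_card C hCp
    have hfix : y * (c : G) * y'⁻¹ = c := congrArg Subtype.val (hc ⟨φ, Subgroup.mem_zpowers φ⟩)
    refine ⟨d * (c : G)⁻¹, ⟨D.mul_mem hd (D.inv_mem c.2.1), ?_⟩, c, ⟨c.2.1, hcen c c.2.1 c.2.2⟩, by group⟩
    refine Subgroup.mem_centralizer_singleton_iff.2 ?_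
    have h1 : y * (c : G) = c * y' := mul_inv_eq_iff_eq_mul.1 hfix
    rw [hy'] at h1
    calc d * (c : G)⁻¹ * y = d * ((c : G)⁻¹ * (y * c)) * (c : G)⁻¹ := by group
      _ = _ := by rw [h1]; group
  refine ⟨ha, fun x y hx hy hxy => ?_⟩
  have hPN : (P : Subgroup G) ≤ N := by
    have hPinv : ∀ q ∈ (P : Subgroup G), ∀ h ∈ H, q * h * q⁻¹ ∈ H := fun q hq h hh =>
      ⟨(P : Subgroup G).mul_mem ((P : Subgroup G).mul_mem hq hh.1) ((P : Subgroup G).inv_mem hq), hKn.conj_mem h hh.2 q⟩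
    intro q hq
    rw [hN, Subgroup.mem_normalizer_iff]
    exact fun h => ⟨hPinv q hq h, fun hh => by simpa [mul_assoc] using hPinv q⁻¹ (inv_mem hq) _ hh⟩
  obtain ⟨T, hT⟩ := CfsgLib.Transfer.exists_sylow_map_eq_inf P K
  have hsup := CfsgLib.PCore.sylow_pPrimePCore_sup T
  rw [show (T : Subgroup K).map K.subtype = H from hT] at hsup
  have hfr := Sylow.normalizer_sup_eq_top T
  rw [show (T : Subgroup K).map K.subtype = H from hT] at hfr
  obtain ⟨g, hg⟩ := isConj_iff.1 hxy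
  have hgm : g ∈ D ⊔ N := by
    have : g ∈ Subgroup.normalizer (H : Set G) ⊔ K := by rw [hfr]; trivial
    refine (sup_le le_sup_right ?_ : Subgroup.normalizer (H : Set G) ⊔ K ≤ D ⊔ N) this
    exact le_of_eq_of_le hsup.symm (sup_le_sup_left Subgroup.le_normalizer D)
  obtain ⟨d, hd, n, hn, rfl⟩ := Subgroup.mem_sup_of_normal_left.1 hgm
  have hy' : d⁻¹ * y * d = n * x * n⁻¹ := by rw [← hg]; group
  have hyp : ∃ k : ℕ, orderOf y = p ^ k := by
    obtain ⟨k, hk⟩ := IsPGroup.iff_orderOf.1 P.isPGroup' ⟨y, hy⟩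
    exact ⟨k, by rw [← hk, Subgroup.orderOf_mk]⟩
  obtain ⟨d₁, hd₁, d₂, hd₂, rfl⟩ := ha y (hPN hy) hyp d hd (hy' ▸ mul_mem (mul_mem hn (hPN hx)) (inv_mem hn))
  refine ⟨d₂ * n, mul_mem (Subgroup.centralizer_le_normalizer _ hd₂.2) hn, ?_⟩
  have h5 : d₁ * y = y * d₁ := Subgroup.mem_centralizer_singleton_iff.1 hd₁.2
  calc d₂ * n * x * (d₂ * n)⁻¹ = d₂ * (n * x * n⁻¹) * d₂⁻¹ := by group
    _ = d₁⁻¹ * (y * d₁) := by rw [← hy']; group
    _ = y := by rw [← h5]; group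

end Cfsg.Agent.S1907
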