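import Cfsg.Statements.S1910
import Cfsg.Agent.Tightly.Pair
import Cfsg.Agent.ConjFunctor.Basic
import Cfsg.Agent.Transfer.Frobenius
import Mathlib.Tactic

set_option autoImplicit false
open Cfsg
open scoped commutatorElement

namespace Cfsg.Agent.S1910

open scoped Pointwise

theorem max_of_idx {G : Type*} [Group G] [Finite G] {T T' Z : Subgroup G} (hi : ¬ 2 ∣ T.relIndex Z) (hT' : IsPGroup 2 T')
    (h : T ≤ T') (hZ : T' ≤ Z) : T' = T := by
  refine le_antisymm ?_ h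
  obtain ⟨n, hn⟩ := hT'.exists_card_eq
  have h1 : T.relIndex T' ∣ 2 ^ n := hn ▸ Subgroup.index_dvd_card (T.subgroupOf T')
  obtain ⟨k, -, hk⟩ := (Nat.dvd_prime_pow Nat.prime_two).1 h1
  rcases Nat.eq_zero_or_pos k with hk0 | hk0
  · exact Subgroup.relIndex_eq_one.1 (by rw [hk, hk0, pow_zero])
  · exact absurd ((dvd_pow_self 2 hk0.ne').trans (hk ▸ ⟨T'.relIndex Z, (Subgroup.relIndex_mul_relIndex T T' Z h hZ).symm⟩)) hi

/-- The trace of a Sylow subgroup of an overgroup on a normal subgroup. -/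
theorem idx_inf {G : Type*} [Group G] [Finite G] {S X H : Subgroup G} (hXH : X ≤ H) (hn : H ≤ Subgroup.normalizer (X : Set G))
    (hSH : S ≤ H) (hS : IsPGroup 2 S) (hidx : ¬ 2 ∣ S.relIndex H) : ¬ 2 ∣ (S ⊓ X).relIndex X := by
  haveI : (X.subgroupOf H).Normal := Subgroup.normal_subgroupOf_of_le_normalizer hn
  haveI : Fact (Nat.Prime 2) := ⟨Nat.prime_two⟩
  let P : Sylow 2 ↥H := (hS.of_equiv (Subgroup.subgroupOfEquivOfLe hSH).symm).toSylow hidx
  obtain ⟨R, hR⟩ := CfsgLib.Transfer.exists_sylow_map_eq_inf P (X.subgroupOf H)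
  rw [Subgroup.inf_relIndex_right, ← Subgroup.relIndex_subgroupOf (H := S) hXH, ← Subgroup.inf_relIndex_right]
  have h1 : ((P : Subgroup ↥H) ⊓ X.subgroupOf H).subgroupOf (X.subgroupOf H) = R := by
    rw [← hR]
    exact Subgroup.comap_map_eq_self_of_injective (Subgroup.subtype_injective _) _
  show ¬ 2 ∣ (((P : Subgroup ↥H) ⊓ X.subgroupOf H).subgroupOf (X.subgroupOf H)).index
  rw [h1]
  exact R.not_dvd_index


/-- Let Q be a tightly embedded subgroup of a finite group G, g an element outside N_G(Q), T a nontrivial Sylow 2-subgroup of Q^g ∩ N_G(Q), and S a Sylow 2-subgroup of QT containing T. Then T ∩ Q = 1, and N_S(T) is the direct product of T and N_S(T) ∩ Q, with N_S(T) ∩ Q isomorphic to T. -/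
theorem result {G : Type*} [Group G] [Finite G] (Q : Subgroup G) (hQ : Cfsg.IsTightlyEmbedded Q)
    (g : G) (hg : g ∉ Subgroup.normalizer (Q : Set G))
    (T : Subgroup G) (hT1 : T ≠ ⊥) (hT : T ≤ Q.map (MulAut.conj g).toMonoidHom ⊓ Subgroup.normalizer (Q : Set G))
    (hTsyl : IsPGroup 2 T ∧ ¬ 2 ∣ T.relIndex (Q.map (MulAut.conj g).toMonoidHom ⊓ Subgroup.normalizer (Q : Set G)))
    (S : Subgroup G) (hTS : T ≤ S) (hS : S ≤ Q ⊔ T) (hSsyl : IsPGroup 2 S ∧ ¬ 2 ∣ S.relIndex (Q ⊔ T)) :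
    T ⊓ Q = ⊥ ∧
      T ⊓ (S ⊓ Subgroup.normalizer (T : Set G) ⊓ Q) = ⊥ ∧
      ⁅T, S ⊓ Subgroup.normalizer (T : Set G) ⊓ Q⁆ = ⊥ ∧
      T ⊔ (S ⊓ Subgroup.normalizer (T : Set G) ⊓ Q) = S ⊓ Subgroup.normalizer (T : Set G) ∧
      Nonempty (↥(S ⊓ Subgroup.normalizer (T : Set G) ⊓ Q) ≃* T) := by
  set Y := Q.map (MulAut.conj g).toMonoidHom with hY
  set 𝒬 : Set (Subgroup G) := Set.range fun x : G => Q.map (MulAut.conj x).toMonoidHom with h𝒬
  have hcj : ∀ (A : Subgroup G) (a b : G), (A.map (MulAut.conj a).toMonoidHom).map (MulAut.conj b).toMonoidHom =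
      A.map (MulAut.conj (b * a)).toMonoidHom := by
    intro A a b
    rw [Subgroup.map_map]
    congr 1
    ext y
    simp [mul_assoc]
  have hclosed : ∀ A ∈ 𝒬, ∀ b : G, A.map (MulAut.conj b).toMonoidHom ∈ 𝒬 := by
    rintro _ ⟨a, rfl⟩ b
    exact ⟨b * a, (hcj Q a b).symm⟩
  have hid : ∀ A : Subgroup G, A.map (MulAut.conj (1 : G)).toMonoidHom = A := fun A => by ext; simp
  have hQmem : Q ∈ 𝒬 := ⟨1, hid Q⟩
  have hnorm : ∀ a : G, a ∈ Subgroup.normalizer (Q : Set G) → Q.map (MulAut.conj a).toMonoidHom = Q := fun a ha =>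
    Subgroup.mem_normalizer_iff_map_conj_eq.1 ha
  have hodd : ∀ A ∈ 𝒬, ∀ B ∈ 𝒬, A ≠ B → Odd (Nat.card ↥(A ⊓ B)) := by
    rintro _ ⟨a, rfl⟩ _ ⟨b, rfl⟩ hne
    have h1 : a⁻¹ * b ∉ Subgroup.normalizer (Q : Set G) := fun hm => hne (by
      have h2 := congrArg (Subgroup.map (MulAut.conj a).toMonoidHom) (hnorm _ hm)
      rw [hcj, mul_inv_cancel_left] at h2
      exact h2.symm)
    have h3 := hQ.2 _ h1
    have h4 : (Q ⊓ Q.map (MulAut.conj (a⁻¹ * b)).toMonoidHom).map (MulAut.conj a).toMonoidHom =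
        Q.map (MulAut.conj a).toMonoidHom ⊓ Q.map (MulAut.conj b).toMonoidHom := by
      rw [Subgroup.map_inf _ _ _ (MulEquiv.injective _), hcj, mul_inv_cancel_left]
    show Odd (Nat.card ↥(Q.map (MulAut.conj a).toMonoidHom ⊓ Q.map (MulAut.conj b).toMonoidHom))
    rwa [← h4, Subgroup.card_map_of_injective (MulEquiv.injective _)]
  have hne : Q ≠ Y := fun e => hg (Subgroup.mem_normalizer_iff_map_conj_eq.2 e.symm)
  have hpair : CfsgLib.Tightly.IsPair 𝒬 Q Y := ⟨hQmem, ⟨g, rfl⟩, hne, hodd, hclosed⟩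
  have hpair' : CfsgLib.Tightly.IsPair 𝒬 Y Q := ⟨⟨g, rfl⟩, hQmem, hne.symm, hodd, hclosed⟩
  have hcard : Nat.card Y = Nat.card Q := Subgroup.card_map_of_injective (MulEquiv.injective _)
  haveI : Fact (Nat.Prime 2) := ⟨Nat.prime_two⟩
  -- Sylow subgroups of `A` and of a conjugate are isomorphic
  have hsyl : ∀ (A : Subgroup G) (e : G) (R T' : Subgroup G), IsPGroup 2 R → R ≤ A → ¬ 2 ∣ R.relIndex A → IsPGroup 2 T' →
      T' ≤ A.map (MulAut.conj e).toMonoidHom → Nat.card T' = Nat.card R → Nonempty (R ≃* T') := by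
    intro A e R T' hR hRA hRi hT' hT'A hc
    set T₂ := T'.map (MulAut.conj e⁻¹).toMonoidHom with hT₂
    have hT₂A : T₂ ≤ A := by
      refine (Subgroup.map_mono hT'A).trans ?_
      rw [hcj, inv_mul_cancel, hid]
    have hc₂ : Nat.card T₂ = Nat.card R := (Subgroup.card_map_of_injective (MulEquiv.injective _)).trans hc
    have hi₂ : ¬ 2 ∣ T₂.relIndex A := by
      have e1 := Subgroup.relIndex_mul_relIndex ⊥ R A bot_le hRA
      have e2 := Subgroup.relIndex_mul_relIndex ⊥ T₂ A bot_le hT₂A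
      rw [Subgroup.relIndex_bot_left, Subgroup.relIndex_bot_left] at e1 e2
      rw [hc₂, ← e1] at e2
      rwa [Nat.eq_of_mul_eq_mul_left Nat.card_pos e2]
    obtain ⟨k, -, hk⟩ := CfsgLib.ConjFunctor.exists_conj_eq hRA hR hRi hT₂A (hT'.map _) hi₂
    exact ⟨((T'.equivMapOfInjective (MulAut.conj e⁻¹).toMonoidHom (MulEquiv.injective _)).trans
      ((T₂.equivMapOfInjective (MulAut.conj k⁻¹).toMonoidHom (MulEquiv.injective _)).trans
        (MulEquiv.subgroupCongr hk))).symm⟩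
  set Z := Y ⊓ Subgroup.normalizer (Q : Set G) with hZ
  set R := S ⊓ Q with hR
  have hTQn : T ≤ Subgroup.normalizer (Q : Set G) := hT.trans inf_le_right
  have hH : Q ⊔ T ≤ Subgroup.normalizer (Q : Set G) := sup_le Subgroup.le_normalizer hTQn
  have hRi : ¬ 2 ∣ R.relIndex Q := idx_inf le_sup_left hH hS hSsyl.1 hSsyl.2
  have hTR : T ≤ Subgroup.normalizer (R : Set G) := fun t ht => Subgroup.mem_normalizer_fintype fun y hy =>
    ⟨S.mul_mem (S.mul_mem (hTS ht) hy.1) (S.inv_mem (hTS ht)), (Subgroup.mem_normalizer_iff.1 (hTQn ht) y).1 hy.2⟩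
  obtain ⟨hTQ, hUY, hUC, hle, hiso⟩ := CfsgLib.Tightly.half hpair hTsyl.1 hT1 hT
    (fun T' h1 h2 h3 => max_of_idx hTsyl.2 h1 h3 h2) (hSsyl.1.to_le inf_le_left) inf_le_right hRi hTR hcard
    fun T' h1 h2 h3 => hsyl Q g R T' (hSsyl.1.to_le inf_le_left) inf_le_right hRi h1 h2 h3
  have hU : S ⊓ Subgroup.normalizer (T : Set G) ⊓ Q = R ⊓ Subgroup.normalizer (T : Set G) := inf_right_comm _ _ _
  rw [hU]
  set U := R ⊓ Subgroup.normalizer (T : Set G) with hUdef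
  refine ⟨hTQ, le_bot_iff.1 ((inf_le_inf_left _ (inf_le_left.trans inf_le_right)).trans hTQ.le), ?_,
    le_antisymm (sup_le (le_inf hTS Subgroup.le_normalizer) (inf_le_inf_right _ inf_le_left)) ?_, hiso ?_⟩
  · rw [Subgroup.commutator_comm, Subgroup.commutator_eq_bot_iff_le_centralizer]
    exact hUC
  · rintro s ⟨hs, hsN⟩
    have h : s ∈ ((T : Set G) * (Q : Set G)) := by
      rw [← Subgroup.coe_mul_of_left_le_normalizer_right T Q hTQn, sup_comm]
      exact hS hs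
    obtain ⟨t, ht, q, hq, rfl⟩ := h
    refine Subgroup.mul_mem _ (Subgroup.mem_sup_left ht) (Subgroup.mem_sup_right ⟨⟨?_, hq⟩, ?_⟩)
    · simpa using S.mul_mem (S.inv_mem (hTS ht)) hs
    · simpa using mul_mem (inv_mem (Subgroup.le_normalizer ht)) hsN
  refine le_antisymm ?_ hle
  -- the reverse inequality, by symmetry
  have hUZ : U ≤ Q ⊓ Subgroup.normalizer (Y : Set G) := le_inf (inf_le_left.trans inf_le_right) hUY
  have hUp : IsPGroup 2 U := hSsyl.1.to_le (inf_le_left.trans inf_le_left)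
  set Z' := Q ⊓ Subgroup.normalizer (Y : Set G) with hZ'
  obtain ⟨W, hW⟩ := (hUp.of_equiv (Subgroup.subgroupOfEquivOfLe hUZ).symm).exists_le_sylow
  set U₀ := (W : Subgroup ↥Z').map Z'.subtype with hU₀
  have hU₀Z : U₀ ≤ Z' := Subgroup.map_subtype_le _
  have hUU₀ : U ≤ U₀ := fun u hu => ⟨⟨u, hUZ hu⟩, hW hu, rfl⟩
  have hU₀i : ¬ 2 ∣ U₀.relIndex Z' := by
    rw [Subgroup.relIndex, hU₀, Subgroup.subgroupOf, Subgroup.comap_map_eq_self_of_injective Z'.subtype_injective]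
    exact W.not_dvd_index
  have hU₀p : IsPGroup 2 U₀ := W.isPGroup'.map _
  have hU₀ne : U₀ ≠ ⊥ := fun e => by
    have h1 : Nat.card T ≤ 1 := by
      refine hle.trans ?_
      rw [← Subgroup.card_bot (G := G)]
      exact Subgroup.card_le_of_le (hUU₀.trans e.le)
    exact hT1 (Subgroup.eq_bot_of_card_le T h1)
  -- a `U₀`-invariant Sylow subgroup of `Y`
  set H := Y ⊔ U₀ with hHdef
  obtain ⟨P, hP⟩ := (hU₀p.of_equiv (Subgroup.subgroupOfEquivOfLe (le_sup_right : U₀ ≤ H)).symm).exists_le_sylow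
  set S' := (P : Subgroup ↥H).map H.subtype with hS'
  have hS'i : ¬ 2 ∣ S'.relIndex H := by
    rw [Subgroup.relIndex, hS', Subgroup.subgroupOf, Subgroup.comap_map_eq_self_of_injective H.subtype_injective]
    exact P.not_dvd_index
  have hHn : H ≤ Subgroup.normalizer (Y : Set G) := sup_le Subgroup.le_normalizer (hU₀Z.trans inf_le_right)
  have hR'p : IsPGroup 2 ↥(S' ⊓ Y) := (P.isPGroup'.map _).to_le inf_le_left
  have hU₀S : U₀ ≤ S' := fun u hu => ⟨⟨u, Subgroup.mem_sup_right hu⟩, hP hu, rfl⟩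
  have hR'i : ¬ 2 ∣ (S' ⊓ Y).relIndex Y := idx_inf le_sup_left hHn (Subgroup.map_subtype_le _) (P.isPGroup'.map _) hS'i
  have hYQ : Y.map (MulAut.conj g⁻¹).toMonoidHom = Q := by
    rw [hY, hcj, inv_mul_cancel, hid]
  obtain ⟨-, hVQ, -, hle', -⟩ := CfsgLib.Tightly.half hpair' hU₀p hU₀ne hU₀Z
    (fun T' h1 h2 h3 => max_of_idx hU₀i h1 h3 h2) hR'p inf_le_right hR'i
    (fun u hu => Subgroup.mem_normalizer_fintype fun y hy => ⟨S'.mul_mem (S'.mul_mem (hU₀S hu) hy.1) (S'.inv_mem (hU₀S hu)),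
      (Subgroup.mem_normalizer_iff.1 (hHn (Subgroup.mem_sup_right hu)) y).1 hy.2⟩)
    hcard.symm fun T' h1 h2 h3 => hsyl Y g⁻¹ _ T' hR'p inf_le_right hR'i h1 (hYQ.symm ▸ h2) h3
  refine (Subgroup.card_le_of_le hUU₀).trans (hle'.trans ?_)
  obtain ⟨k, -, hk⟩ := CfsgLib.ConjFunctor.exists_conj_into hT hTsyl.1 hTsyl.2
    (le_inf (inf_le_left.trans inf_le_right) hVQ) (hR'p.to_le inf_le_left)
  rw [← CfsgLib.GroupAlperin.card_cj _ k]
  exact Subgroup.card_le_of_le hk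

end Cfsg.Agent.S1910
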