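import Cfsg.Statements.S1915
import Cfsg.Agent.FourGroupRankOne.Basic
-- import your own Cfsg.Agent.* helpers here

set_option autoImplicit false
open Cfsg

namespace Cfsg.Agent.S1915

/-- Let A be a semisimple subgroup (A = E(A)) of a finite group and U a Klein four-group normalizing A. If the subgroup of A generated by the normalizers N_A(V) of the nontrivial subgroups V of U has 2-rank exactly 1, then A has 2-rank exactly 1. -/
theorem result {G : Type*} [Group G] [Finite G] (A : Subgroup G) (hA : Cfsg.layer ↥A = ⊤)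
    (U : Subgroup G) (hU : IsKleinFour U) (hUA : U ≤ Subgroup.normalizer (A : Set G))
    (hΓ : Cfsg.PRankLE 2 1 ↥(⨆ V : {V : Subgroup G // V ≤ U ∧ V ≠ ⊥}, A ⊓ Subgroup.normalizer ((V : Subgroup G) : Set G)) ∧
      ¬ Cfsg.PRankLE 2 0 ↥(⨆ V : {V : Subgroup G // V ≤ U ∧ V ≠ ⊥}, A ⊓ Subgroup.normalizer ((V : Subgroup G) : Set G))) :
    Cfsg.PRankLE 2 1 A ∧ ¬ Cfsg.PRankLE 2 0 A := by
  classical
  haveI : Fact (Nat.Prime 2) := ⟨Nat.prime_two⟩
  have hperf : commutator ↥A = ⊤ := by
    have h := CfsgLib.Components.commutator_layer (G := ↥A)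
    rwa [hA] at h
  have hU2 : ∀ u ∈ U, u * u = 1 := fun u hu => by
    have h := Monoid.pow_exponent_eq_one (⟨u, hu⟩ : U)
    rw [hU.exponent_two, pow_two] at h
    exact congrArg Subtype.val h
  have hpair : ∃ u ∈ U, ∃ v ∈ U, u ≠ 1 ∧ v ≠ 1 ∧ u ≠ v := by
    haveI := Fintype.ofFinite U
    have hc : 2 < (Finset.univ : Finset U).card := by
      rw [Finset.card_univ, ← Nat.card_eq_fintype_card, hU.card_four]; norm_num
    obtain ⟨a, ha⟩ := Finset.exists_mem_ne (by omega : 1 < (Finset.univ : Finset U).card) (1 : U)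
    obtain ⟨b, hb, hb'⟩ : ∃ b : U, b ≠ 1 ∧ b ≠ a := by
      by_contra hcon
      push Not at hcon
      have hsub : (Finset.univ : Finset U) ⊆ {1, a} := fun b _ => by
        by_cases hb : b = 1
        · simp [hb]
        · simp [hcon b hb]
      have := Finset.card_le_card hsub
      have := Finset.card_le_two (a := (1 : U)) (b := a)
      omega
    exact ⟨a, a.2, b, b.2, fun e => ha.2 (Subtype.ext e), fun e => hb (Subtype.ext e), fun e => hb' (Subtype.ext e.symm)⟩
  set Γ : Subgroup G := ⨆ V : {V : Subgroup G // V ≤ U ∧ V ≠ ⊥},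
    A ⊓ Subgroup.normalizer ((V : Subgroup G) : Set G) with hΓdef
  have hΓA : Γ ≤ A := iSup_le fun V => inf_le_left
  have hmem : ∀ u ∈ U, u ≠ 1 → ∀ a ∈ A, u * a = a * u → a ∈ Γ := by
    intro u hu hu1 a ha hua
    refine le_iSup (fun V : {V : Subgroup G // V ≤ U ∧ V ≠ ⊥} =>
      A ⊓ Subgroup.normalizer ((V : Subgroup G) : Set G))
      ⟨Subgroup.zpowers u, Subgroup.zpowers_le.2 hu, Subgroup.zpowers_ne_bot.2 hu1⟩ ⟨ha, ?_⟩
    refine Subgroup.centralizer_le_normalizer _ (Subgroup.mem_centralizer_iff.2 fun b hb => ?_)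
    obtain ⟨i, rfl⟩ := Subgroup.mem_zpowers_iff.1 hb
    exact ((show Commute u a from hua).zpow_left i).eq
  have hone : ∀ u ∈ U, u ≠ 1 → ∀ a ∈ A, ∀ b ∈ A, a * a = 1 → b * b = 1 → a ≠ 1 → b ≠ 1 → u * a = a * u →
      u * b = b * u → a * b = b * a → a = b := by
    intro u hu hu1 a ha b hb haa hbb ha1 hb1 hua hub hab
    by_contra hne
    set a' : Γ := ⟨a, hmem u hu hu1 a ha hua⟩
    set b' : Γ := ⟨b, hmem u hu hu1 b hb hub⟩
    have hcases : ∀ c ∈ Subgroup.closure ({a', b'} : Set Γ), c = 1 ∨ c = a' ∨ c = b' ∨ c = a' * b' := fun c hc =>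
      CfsgLib.FourGroupRankOne.mem_cases (Subtype.ext haa : a' * a' = 1) (Subtype.ext hbb : b' * b' = 1)
        (Subtype.ext hab : a' * b' = b' * a') hc
    have hcomm : Commute a' b' := Subtype.ext hab
    haveI : IsMulCommutative (Subgroup.closure ({a', b'} : Set Γ)) := by
      refine ⟨⟨fun c d => Subtype.ext ?_⟩⟩
      show (c : Γ) * d = d * c
      rcases hcases c c.2 with e | e | e | e <;> rcases hcases d d.2 with e' | e' | e' | e' <;> rw [e, e'] <;>
        first
          | exact (Commute.one_left _).eq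
          | exact (Commute.one_right _).eq
          | exact (Commute.refl _).eq
          | exact hcomm.eq
          | exact hcomm.symm.eq
          | exact ((Commute.refl a').mul_right hcomm).eq
          | exact (hcomm.symm.mul_right (Commute.refl b')).eq
          | exact ((Commute.refl a').mul_left hcomm.symm).eq
          | exact (hcomm.mul_left (Commute.refl b')).eq
    have hsq : ∀ c ∈ Subgroup.closure ({a', b'} : Set Γ), c ^ 2 = 1 := fun c hc => by
      rw [pow_two]
      rcases hcases c hc with e | e | e | e <;> rw [e]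
      · exact one_mul 1
      · exact Subtype.ext haa
      · exact Subtype.ext hbb
      · rw [hcomm.symm.mul_mul_mul_comm, (Subtype.ext haa : a' * a' = 1), (Subtype.ext hbb : b' * b' = 1), mul_one]
    have hle := hΓ.1 _ inferInstance hsq
    let f : Fin 3 → Subgroup.closure ({a', b'} : Set Γ) :=
      ![1, ⟨a', Subgroup.subset_closure (Or.inl rfl)⟩, ⟨b', Subgroup.subset_closure (Or.inr rfl)⟩]
    have h1 : a' ≠ 1 := fun e => ha1 (congrArg Subtype.val e)
    have h2 : b' ≠ 1 := fun e => hb1 (congrArg Subtype.val e)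
    have h3 : a' ≠ b' := fun e => hne (congrArg Subtype.val e)
    have hf : Function.Injective f := by
      intro i j hij
      have hij' := congrArg (Subtype.val) hij
      fin_cases i <;> fin_cases j <;> first
        | rfl
        | exact absurd hij' h1 | exact absurd hij'.symm h1
        | exact absurd hij' h2 | exact absurd hij'.symm h2
        | exact absurd hij' h3 | exact absurd hij'.symm h3
    have := Nat.card_le_card_of_injective f hf
    rw [Nat.card_eq_fintype_card, Fintype.card_fin] at this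
    omega
  have hUp : IsPGroup 2 U := fun u => ⟨1, Subtype.ext (by rw [pow_one, pow_two]; exact hU2 u u.2)⟩
  obtain ⟨S, hcap, hUS⟩ := CfsgLib.LargeEx.Struct.exists_invariant_sylow hUp hUA
  have huniq := CfsgLib.FourGroupRankOne.unique_involution A U hperf hU2 hpair hUA hone S hUS
    (fun x hx => by obtain ⟨_, h⟩ := hcap x x.2 hx; exact h)
  refine ⟨fun E hEc hE2 => ?_, fun h0 => hΓ.2 fun E hEc hE2 => ?_⟩
  · obtain ⟨Q, hQ⟩ := (show IsPGroup 2 E from fun e => ⟨1, Subtype.ext (by rw [pow_one]; exact hE2 e e.2)⟩).exists_le_sylow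
    obtain ⟨g, hg⟩ := MulAction.exists_smul_eq ↥A Q S
    have htoS : ∀ e ∈ E, g * e * g⁻¹ ∈ (S : Subgroup ↥A) := fun e he => by
      rw [← hg]; exact ⟨e, hQ he, rfl⟩
    have heq : ∀ a ∈ E, ∀ b ∈ E, a ≠ 1 → b ≠ 1 → a = b := by
      intro a ha b hb ha1 hb1
      have hsq : ∀ c ∈ E, g * c * g⁻¹ * (g * c * g⁻¹) = 1 := fun c hc => by
        rw [show g * c * g⁻¹ * (g * c * g⁻¹) = g * c ^ 2 * g⁻¹ by rw [pow_two]; group, hE2 c hc]; group
      have h := huniq _ (htoS a ha) _ (htoS b hb) (hsq a ha) (hsq b hb)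
        (fun e => ha1 (by rwa [conj_eq_one_iff] at e)) (fun e => hb1 (by rwa [conj_eq_one_iff] at e))
      exact mul_left_cancel (mul_right_cancel h)
    by_contra hlt
    rw [not_le, pow_one] at hlt
    haveI := Fintype.ofFinite E
    rw [Nat.card_eq_fintype_card, Fintype.two_lt_card_iff] at hlt
    obtain ⟨a, b, c, hab, hac, hbc⟩ := hlt
    by_cases ha : (a : ↥A) = 1
    · exact hbc (Subtype.ext (heq _ b.2 _ c.2 (fun e => hab (Subtype.ext (ha.trans e.symm)))
        (fun e => hac (Subtype.ext (ha.trans e.symm)))))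
    by_cases hb : (b : ↥A) = 1
    · exact hac (Subtype.ext (heq _ a.2 _ c.2 ha (fun e => hbc (Subtype.ext (hb.trans e.symm)))))
    exact hab (Subtype.ext (heq _ a.2 _ b.2 ha hb))
  · haveI := hEc
    haveI : IsMulCommutative (E.map (Subgroup.inclusion hΓA)) := by
      refine ⟨⟨fun a b => Subtype.ext ?_⟩⟩
      obtain ⟨_, a, ha, rfl⟩ := a
      obtain ⟨_, b, hb, rfl⟩ := b
      show Subgroup.inclusion hΓA a * Subgroup.inclusion hΓA b = Subgroup.inclusion hΓA b * Subgroup.inclusion hΓA a
      rw [← map_mul, ← map_mul]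
      exact congrArg _ (congrArg Subtype.val (mul_comm' (⟨a, ha⟩ : E) ⟨b, hb⟩))
    have h := h0 (E.map (Subgroup.inclusion hΓA)) inferInstance (by
      rintro _ ⟨a, ha, rfl⟩
      rw [← map_pow, hE2 a ha, map_one])
    rwa [Subgroup.card_map_of_injective (Subgroup.inclusion_injective hΓA)] at h


end Cfsg.Agent.S1915
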