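import Cfsg.Statements.S1921
import Mathlib.Tactic
import Cfsg.Agent.Components.Basic

set_option autoImplicit false
open Cfsg
open scoped commutatorElement

namespace Cfsg.Agent.S1921

/-- Let a be an involution of a finite group H and L a component of H with a L a⁻¹ ≠ L; put M = ⟨L, aLa⁻¹⟩ and let J be the subgroup generated by the elements x · a x a⁻¹ with x ∈ L (the diagonal). Then every element of M outside J·Z(M) generates M together with J. -/
theorem result {H : Type*} [Group H] [Finite H] (a : H) (ha : orderOf a = 2) (L : Subgroup H) (hL : Cfsg.IsComponent L)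
    (hLa : L.map (MulAut.conj a).toMonoidHom ≠ L) (x : H) (hxM : x ∈ L ⊔ L.map (MulAut.conj a).toMonoidHom)
    (hxJ : x ∉ Subgroup.closure {y : H | ∃ l ∈ L, y = l * (a * l * a⁻¹)} ⊔
      ((L ⊔ L.map (MulAut.conj a).toMonoidHom) ⊓ Subgroup.centralizer ((L ⊔ L.map (MulAut.conj a).toMonoidHom : Subgroup H) : Set H))) :
    Subgroup.closure {y : H | ∃ l ∈ L, y = l * (a * l * a⁻¹)} ⊔ Subgroup.zpowers x = L ⊔ L.map (MulAut.conj a).toMonoidHom := by
  classical
  set L' := L.map (MulAut.conj a).toMonoidHom with hL'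
  set M := L ⊔ L' with hM
  set J := Subgroup.closure {y : H | ∃ l ∈ L, y = l * (a * l * a⁻¹)} with hJ
  set X := J ⊔ Subgroup.zpowers x with hX
  have hL'c : Cfsg.IsComponent L' := CfsgLib.Components.isComponent_conj hL a
  have hcomm : ∀ l ∈ L, ∀ m ∈ L', l * m = m * l := fun l hl m hm =>
    (Subgroup.mem_centralizer_iff.mp (Subgroup.commutator_eq_bot_iff_le_centralizer.mp
      (CfsgLib.Components.components_commute hL hL'c (Ne.symm hLa)) hl) m hm).symm
  have hconj : ∀ l ∈ L, a * l * a⁻¹ ∈ L' := fun l hl => ⟨l, hl, rfl⟩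
  have hJM : J ≤ M := (Subgroup.closure_le _).mpr (by
    rintro y ⟨l, hl, rfl⟩
    exact Subgroup.mul_mem_sup hl (hconj l hl))
  have hle : X ≤ M := sup_le hJM (Subgroup.zpowers_le.mpr hxM)
  refine le_antisymm hle ?_
  have hn : ((X ⊓ L).subgroupOf L).Normal := by
    refine Subgroup.normal_subgroupOf_of_le_normalizer fun l hl => ?_
    refine Subgroup.mem_normalizer_fintype fun y hy => ⟨?_, L.mul_mem (L.mul_mem hl hy.2) (L.inv_mem hl)⟩
    set j := l * (a * l * a⁻¹) with hj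
    have hjX : j ∈ X := (le_sup_left : J ≤ X) (Subgroup.subset_closure ⟨l, hl, rfl⟩)
    have e : l * y * l⁻¹ = j * y * j⁻¹ := by
      have h1 := hcomm y hy.2 _ (hconj l hl)
      rw [hj]
      calc l * y * l⁻¹ = l * (y * (a * l * a⁻¹)) * (a * l * a⁻¹)⁻¹ * l⁻¹ := by group
        _ = l * ((a * l * a⁻¹) * y) * (a * l * a⁻¹)⁻¹ * l⁻¹ := by rw [h1]
        _ = _ := by group
    show l * y * l⁻¹ ∈ X
    rw [e]
    exact X.mul_mem (X.mul_mem hjX hy.1) (X.inv_mem hjX)
  rcases CfsgLib.Components.quasisimple_normal hL.2 hn with h | h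
  · exfalso
    apply hxJ
    have hxM' : x ∈ ((L ⊔ L' : Subgroup H) : Set H) := hxM
    rw [Subgroup.coe_mul_of_left_le_normalizer_right _ _ ((fun l hl =>
      Subgroup.centralizer_le_normalizer _ (Subgroup.mem_centralizer_iff.mpr fun m hm => (hcomm l hl m hm).symm)) :
      L ≤ Subgroup.normalizer (L' : Set H))] at hxM'
    obtain ⟨l1, hl1, _, ⟨l2, hl2, rfl⟩, hx⟩ := Set.mem_mul.mp hxM'
    set j := l2 * (a * l2 * a⁻¹) with hj
    have hjJ : j ∈ J := Subgroup.subset_closure ⟨l2, hl2, rfl⟩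
    have hz : x * j⁻¹ = l1 * l2⁻¹ := by
      rw [← hx, hj]
      show l1 * (a * l2 * a⁻¹) * (l2 * (a * l2 * a⁻¹))⁻¹ = l1 * l2⁻¹
      group
    have hzX : l1 * l2⁻¹ ∈ X := hz ▸ X.mul_mem ((le_sup_right : Subgroup.zpowers x ≤ X) (Subgroup.mem_zpowers x))
      (X.inv_mem ((le_sup_left : J ≤ X) hjJ))
    have hzL : l1 * l2⁻¹ ∈ L := L.mul_mem hl1 (L.inv_mem hl2)
    have hzc := Subgroup.mem_center_iff.mp (h (x := ⟨_, hzL⟩) ⟨hzX, hzL⟩)
    have hzM : l1 * l2⁻¹ ∈ Subgroup.centralizer ((M : Subgroup H) : Set H) := by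
      have hle : M ≤ Subgroup.centralizer ({l1 * l2⁻¹} : Set H) := sup_le
        (fun l hl => Subgroup.mem_centralizer_singleton_iff.mpr (congrArg Subtype.val (hzc ⟨l, hl⟩)))
        (fun m hm => Subgroup.mem_centralizer_singleton_iff.mpr (hcomm _ hzL m hm).symm)
      exact Subgroup.mem_centralizer_iff.mpr fun m hm => Subgroup.mem_centralizer_singleton_iff.mp (hle hm)
    have hxe : x = (l1 * l2⁻¹) * j := by rw [← hz, inv_mul_cancel_right]
    rw [hxe]
    exact mul_mem (Subgroup.mem_sup_right ⟨(le_sup_left : L ≤ M) hzL, hzM⟩) (Subgroup.mem_sup_left hjJ)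
  · have hLX : L ≤ X := (Subgroup.subgroupOf_eq_top.mp h).trans inf_le_left
    refine sup_le hLX ?_
    rintro _ ⟨l, hl, rfl⟩
    have h1 := X.mul_mem (X.inv_mem (hLX hl)) ((le_sup_left : J ≤ X) (Subgroup.subset_closure ⟨l, hl, rfl⟩))
    rwa [inv_mul_cancel_left] at h1

end Cfsg.Agent.S1921
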