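import Cfsg.Statements.S1922
import Cfsg.Agent.IsolatedPoint.Parity
import Cfsg.Agent.ConjFunctor.Basic
import Mathlib.Tactic

set_option autoImplicit false
open Cfsg
open scoped commutatorElement

namespace Cfsg.Agent.S1922

/-- Let z be an involution of a finite group G and H a proper subgroup such that z lies in gHg⁻¹ exactly when g ∈ H. Then the following are equivalent: (1) for every conjugate t ≠ z of z commuting with z, the product zt lies in gHg⁻¹ exactly when g ∈ H; (2) z lies in the centre of some Sylow 2-subgroup of G, and for every conjugate t ≠ z of z commuting with z, the centralizer of zt is contained in H. -/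
theorem result {G : Type*} [Group G] [Finite G] (z : G) (hz : orderOf z = 2) (H : Subgroup G) (hH : H ≠ ⊤)
    (h0 : ∀ g : G, z ∈ H.map (MulAut.conj g).toMonoidHom ↔ g ∈ H) :
    (∀ t : G, IsConj z t → t ≠ z → t * z = z * t → ∀ g : G, z * t ∈ H.map (MulAut.conj g).toMonoidHom ↔ g ∈ H) ↔
      ((∃ P : Sylow 2 G, z ∈ (Subgroup.center ↥(P : Subgroup G)).map (P : Subgroup G).subtype) ∧
        ∀ t : G, IsConj z t → t ≠ z → t * z = z * t → Subgroup.centralizer ({z * t} : Set G) ≤ H) := by
  haveI : Fact (Nat.Prime 2) := ⟨Nat.prime_two⟩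
  have hzH : z ∈ H := by simpa using (h0 1).2 H.one_mem
  have hcl : ∀ c : G, c * z = z * c → c ∈ H := fun c hc => (h0 c).1 ⟨z, hzH, by simp [hc]⟩
  constructor
  · intro h1
    refine ⟨CfsgLib.IsolatedPoint.exists_sylow_central hH hz h0 h1, fun t ht hne hcomm c hc => ?_⟩
    have h2 : z * t ∈ H := by simpa using (h1 t ht hne hcomm 1).2 H.one_mem
    exact (h1 t ht hne hcomm c).1 ⟨z * t, h2, by simp [Subgroup.mem_centralizer_singleton_iff.1 hc]⟩
  · rintro ⟨⟨P, hP⟩, h2⟩ t ht hne hcomm g
    obtain ⟨⟨z', hz'P⟩, hz'c, hz'⟩ := hP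
    simp only [Subgroup.coe_subtype] at hz'
    subst hz'
    have hcen : ∀ a ∈ (P : Subgroup G), a * z' = z' * a := fun a ha =>
      congrArg Subtype.val (Subgroup.mem_center_iff.1 hz'c ⟨a, ha⟩)
    have htH : t ∈ H := hcl t hcomm
    have haH : z' * t ∈ H := H.mul_mem hzH htH
    have hPH : (P : Subgroup G) ≤ H := fun a ha => hcl a (hcen a ha)
    constructor
    · intro hg
      obtain ⟨a', ha'H, ha'⟩ := hg
      simp only [MulEquiv.coe_toMonoidHom, MulAut.conj_apply] at ha'
      have h2a : (z' * t) * (z' * t) = 1 := by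
        have ht2 : t * t = 1 := by
          obtain ⟨c, rfl⟩ := isConj_iff.1 ht
          calc c * z' * c⁻¹ * (c * z' * c⁻¹) = c * (z' * z') * c⁻¹ := by group
            _ = 1 := by rw [← pow_two, ← hz, pow_orderOf_eq_one]; group
        calc (z' * t) * (z' * t) = z' * (t * z') * t := by group
          _ = (z' * z') * (t * t) := by rw [hcomm]; group
          _ = 1 := by rw [← pow_two, ← hz, pow_orderOf_eq_one, ht2, mul_one]
      have ha'2 : a' * a' = 1 := by
        rw [← ha'] at h2a
        calc a' * a' = g⁻¹ * (g * a' * g⁻¹ * (g * a' * g⁻¹)) * g := by group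
          _ = 1 := by rw [h2a]; group
      have hp : IsPGroup 2 (Subgroup.zpowers a') := fun y => ⟨1, by
        obtain ⟨k, hk⟩ := Subgroup.mem_zpowers_iff.1 y.2
        apply Subtype.ext
        rw [Subgroup.coe_pow, ← hk, Subgroup.coe_one, pow_one, pow_two, ← Commute.mul_zpow (Commute.refl a'), ha'2, one_zpow]⟩
      obtain ⟨h, hh, hhP⟩ := CfsgLib.ConjFunctor.exists_conj_into hPH P.isPGroup'
        (fun h => P.not_dvd_index (h.trans (Subgroup.relIndex_dvd_index_of_le hPH)))
        (Subgroup.zpowers_le.2 ha'H) hp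
      have h3 := hhP (CfsgLib.ConjFunctor.conj_mem_cj (g := h) (Subgroup.mem_zpowers a'))
      have h4 : (g * h) * z' * (g * h)⁻¹ ∈ Subgroup.centralizer ({z' * t} : Set G) := by
        rw [Subgroup.mem_centralizer_singleton_iff, ← ha']
        calc g * h * z' * (g * h)⁻¹ * (g * a' * g⁻¹) = g * h * (z' * (h⁻¹ * a' * h)) * h⁻¹ * g⁻¹ := by group
          _ = g * h * ((h⁻¹ * a' * h) * z') * h⁻¹ * g⁻¹ := by rw [hcen _ h3]
          _ = _ := by group
      have h5 : g * h ∈ H := by
        have := H.inv_mem ((h0 (g * h)⁻¹).1 ⟨_, h2 t ht hne hcomm h4, by simp [mul_assoc]⟩)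
        simpa using this
      simpa using H.mul_mem h5 (H.inv_mem hh)
    · intro hg
      exact ⟨g⁻¹ * (z' * t) * g, H.mul_mem (H.mul_mem (H.inv_mem hg) haH) hg, by simp [mul_assoc]⟩

end Cfsg.Agent.S1922
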