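import Cfsg.Statements.S1944
import Cfsg.Agent.S1907
import Cfsg.Agent.PCore.Basic
-- import your own Cfsg.Agent.* helpers here

set_option autoImplicit false
open Cfsg

namespace Cfsg.Agent.S1944

/-- Let S be a Sylow p-subgroup of the finite group G and suppose that the centre Z(S) lies in O_{p',p}(G). The elements of S each of which is its only G-conjugate in S form a subgroup W of Z(S); W is then a direct factor of Z(S): there is a subgroup K of Z(S) with W ∩ K = 1 and WK = Z(S). -/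
theorem result {G : Type*} [Group G] [Finite G] {p : ℕ} [Fact p.Prime] (S : Sylow p G)
    (hZ : ((S : Subgroup G) ⊓ Subgroup.centralizer ((S : Subgroup G) : Set G)) ≤ Cfsg.pPrimePCore p G) :
    ∃ W K : Subgroup G, (∀ x : G, x ∈ W ↔ (x ∈ (S : Subgroup G) ∧ ∀ g : G, g * x * g⁻¹ ∈ (S : Subgroup G) → g * x * g⁻¹ = x)) ∧
      K ≤ ((S : Subgroup G) ⊓ Subgroup.centralizer ((S : Subgroup G) : Set G)) ∧ W ⊓ K = ⊥ ∧ W ⊔ K = ((S : Subgroup G) ⊓ Subgroup.centralizer ((S : Subgroup G) : Set G)) := by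
  classical
  haveI hKn : (Cfsg.pPrimePCore p G).Normal := CfsgLib.PCore.pPrimePCore_normal p G
  set Z : Subgroup G := (S : Subgroup G) ⊓ Subgroup.centralizer ((S : Subgroup G) : Set G) with hZdef
  set H : Subgroup G := (S : Subgroup G) ⊓ Cfsg.pPrimePCore p G with hH
  set N : Subgroup G := Subgroup.normalizer (H : Set G) with hN
  set V : Subgroup G := H ⊓ Subgroup.centralizer (H : Set G) with hV
  have hSN : (S : Subgroup G) ≤ N := by
    intro s hs
    refine Subgroup.mem_normalizer_fintype fun h hh => ⟨?_, hKn.conj_mem h hh.2 s⟩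
    exact (S : Subgroup G).mul_mem ((S : Subgroup G).mul_mem hs hh.1) ((S : Subgroup G).inv_mem hs)
  have hfus := (Cfsg.Agent.S1907.result S).2
  have hWiff : ∀ x : G, x ∈ Z ⊓ Subgroup.centralizer (N : Set G) ↔
      (x ∈ (S : Subgroup G) ∧ ∀ g : G, g * x * g⁻¹ ∈ (S : Subgroup G) → g * x * g⁻¹ = x) := by
    intro x
    constructor
    · rintro ⟨⟨hxS, -⟩, hxN⟩
      refine ⟨hxS, fun g hg => ?_⟩
      obtain ⟨n, hn, hnx⟩ := hfus x (g * x * g⁻¹) hxS hg (isConj_iff.2 ⟨g, rfl⟩)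
      rw [← hnx, Subgroup.mem_centralizer_iff.1 hxN n hn, mul_inv_cancel_right]
    · rintro ⟨hxS, hx⟩
      have hxZ : x ∈ Z := ⟨hxS, Subgroup.mem_centralizer_iff.2 fun s hs => mul_inv_eq_iff_eq_mul.1
        (hx s ((S : Subgroup G).mul_mem ((S : Subgroup G).mul_mem hs hxS) ((S : Subgroup G).inv_mem hs)))⟩
      refine ⟨hxZ, Subgroup.mem_centralizer_iff.2 fun n hn => mul_inv_eq_iff_eq_mul.1 (hx n ?_)⟩
      exact ((Subgroup.mem_normalizer_iff.1 hn x).1 (show x ∈ H from ⟨hxS, hZ hxZ⟩)).1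
  refine ⟨Z ⊓ Subgroup.centralizer (N : Set G), ?_⟩
  haveI hVc : IsMulCommutative V := ⟨⟨fun a b => Subtype.ext
    (Subgroup.mem_centralizer_iff.1 b.2.2 a a.2.1)⟩⟩
  letI : CommGroup V := { (inferInstance : Group V) with mul_comm := fun a b => hVc.is_comm.comm a b }
  have hVn : ∀ n ∈ N, ∀ v ∈ V, n * v * n⁻¹ ∈ V := by
    intro n hn v hv
    refine ⟨(Subgroup.mem_normalizer_iff.1 hn v).1 hv.1, Subgroup.mem_centralizer_iff.2 fun h hh => ?_⟩
    have := Subgroup.mem_centralizer_iff.1 hv.2 _ ((Subgroup.mem_normalizer_iff.1 (N.inv_mem hn) h).1 hh)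
    calc h * (n * v * n⁻¹) = n * ((n⁻¹ * h * n⁻¹⁻¹) * v) * n⁻¹ := by group
      _ = n * (v * (n⁻¹ * h * n⁻¹⁻¹)) * n⁻¹ := by rw [this]
      _ = n * v * n⁻¹ * h := by group
  have hZV : Z ≤ V := fun z hz => ⟨⟨hz.1, hZ hz⟩,
    Subgroup.mem_centralizer_iff.2 fun h hh => Subgroup.mem_centralizer_iff.1 hz.2 h hh.1⟩
  let φ : N → (V →* V) := fun n =>
    { toFun := fun v => ⟨(n : G) * v * (n : G)⁻¹, hVn n n.2 v v.2⟩
      map_one' := Subtype.ext (by simp)
      map_mul' := fun a b => Subtype.ext (by simp [mul_assoc]) }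
  set S' := (S : Subgroup G).subgroupOf N with hS'
  haveI := Fintype.ofFinite (N ⧸ S')
  let T : V →* V := ∏ q : N ⧸ S', φ q.out
  have hcop : (Nat.card V).Coprime (Nat.card (N ⧸ S')) := by
    obtain ⟨i, hi⟩ := IsPGroup.iff_card.1 (S.2.to_le (inf_le_left.trans inf_le_left) : IsPGroup p V)
    rw [hi]
    refine Nat.Coprime.pow_left i ((Fact.out : p.Prime).coprime_iff_not_dvd.2 fun h => ?_)
    refine S.not_dvd_index (h.trans ?_)
    exact Subgroup.relIndex_dvd_index_of_le hSN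
  -- an element fixed by the Sylow subgroup: its conjugates depend only on the coset
  have hwd : ∀ v : V, (v : G) ∈ Z → ∀ a b : N, (QuotientGroup.mk a : N ⧸ S') = QuotientGroup.mk b →
      φ a v = φ b v := by
    intro v hv a b hab
    rw [QuotientGroup.eq, hS', Subgroup.mem_subgroupOf] at hab
    have h1 := Subgroup.mem_centralizer_iff.1 hv.2 _ hab
    refine Subtype.ext ?_
    show (a : G) * v * (a : G)⁻¹ = (b : G) * v * (b : G)⁻¹
    rw [Subgroup.coe_mul, Subgroup.coe_inv] at h1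
    calc (a : G) * v * (a : G)⁻¹ = a * (v * ((a : G)⁻¹ * b)) * (b : G)⁻¹ := by group
      _ = a * (((a : G)⁻¹ * b) * v) * (b : G)⁻¹ := by rw [h1]
      _ = _ := by group
  have hTfix : ∀ v : V, (v : G) ∈ Z → ∀ n : N, φ n (T v) = T v := by
    intro v hv n
    show φ n ((∏ q : N ⧸ S', φ q.out) v) = (∏ q : N ⧸ S', φ q.out) v
    rw [MonoidHom.finsetProd_apply, map_prod]
    refine Fintype.prod_equiv (MulAction.toPerm n) _ _ fun q => ?_
    show φ n (φ q.out v) = φ (n • q).out v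
    rw [← hwd v hv (n * q.out) (n • q).out (by
      rw [QuotientGroup.out_eq']
      exact congrArg (n • ·) (QuotientGroup.out_eq' q))]
    exact Subtype.ext (by simp [φ, mul_assoc])
  have hTW : ∀ w : V, (∀ n : N, φ n w = w) → T w = w ^ Nat.card (N ⧸ S') := by
    intro w hw
    show (∏ q : N ⧸ S', φ q.out) w = _
    rw [MonoidHom.finsetProd_apply, Finset.prod_congr rfl (fun q _ => hw q.out), Finset.prod_const,
      Finset.card_univ, Nat.card_eq_fintype_card]
  have hfixW : ∀ w : V, (∀ n : N, φ n w = w) → (w : G) ∈ Z ⊓ Subgroup.centralizer (N : Set G) := by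
    intro w hw
    have hcn : ∀ n ∈ N, n * (w : G) = w * n := fun n hn =>
      mul_inv_eq_iff_eq_mul.1 (congrArg Subtype.val (hw ⟨n, hn⟩))
    exact ⟨⟨w.2.1.1, Subgroup.mem_centralizer_iff.2 fun s hs => hcn s (hSN hs)⟩,
      Subgroup.mem_centralizer_iff.2 hcn⟩
  refine ⟨(T.ker ⊓ Z.subgroupOf V).map V.subtype, hWiff, ?_, ?_, ?_⟩
  · rintro _ ⟨v, hv, rfl⟩; exact hv.2
  · rw [eq_bot_iff]
    rintro _ ⟨⟨-, hxN⟩, v, ⟨hvT, hvZ⟩, rfl⟩
    have hw : ∀ n : N, φ n v = v := fun n => Subtype.ext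
      (mul_inv_eq_iff_eq_mul.2 (Subgroup.mem_centralizer_iff.1 hxN n n.2))
    have h1 : v ^ Nat.card (N ⧸ S') = 1 := (hTW v hw).symm.trans hvT
    have h2 : v = 1 := orderOf_eq_one_iff.1 (Nat.eq_one_of_dvd_coprimes hcop
      (orderOf_dvd_natCard v) (orderOf_dvd_of_pow_eq_one h1))
    simp [h2]
  · refine le_antisymm (sup_le inf_le_left ?_) fun z hz => ?_
    · rintro _ ⟨v, hv, rfl⟩; exact hv.2
    set v : V := ⟨z, hZV hz⟩ with hv
    obtain ⟨w, hw⟩ : ∃ w : V, w ^ Nat.card (N ⧸ S') = T v :=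
      ⟨(powCoprime hcop).symm (T v), (powCoprime hcop).apply_symm_apply _⟩
    have hwfix : ∀ n : N, φ n w = w := fun n => (powCoprime hcop).injective (by
      show φ n w ^ Nat.card (N ⧸ S') = w ^ Nat.card (N ⧸ S')
      rw [← map_pow, hw]; exact hTfix v hz n)
    have hwW := hfixW w hwfix
    have h1 : (w⁻¹ * v : V) ∈ T.ker ⊓ Z.subgroupOf V := ⟨by
      show T (w⁻¹ * v) = 1
      rw [map_mul, map_inv, hTW w hwfix, hw, inv_mul_cancel],
      Z.mul_mem (Z.inv_mem hwW.1) hz⟩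
    have : z = (w : G) * ((w⁻¹ * v : V) : G) := by simp [hv]
    rw [this]
    exact Subgroup.mul_mem_sup hwW ⟨_, h1, rfl⟩

end Cfsg.Agent.S1944
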