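import Cfsg.Statements.S1949
import Cfsg.Agent.PGroup.SmallExponent
import Cfsg.Agent.PGroup.ChermakDelgado
import Cfsg.Agent.Transfer.Residual

set_option autoImplicit false
open Cfsg
open scoped commutatorElement

namespace Cfsg.Agent.S1949

/-- Let P be a finite p-group and G a group of automorphisms of P containing the inner automorphisms. Then there is a G-invariant subgroup D of P, contained in the subgroup generated by the elements x⁻¹α(x) with x in P and α in O^p(G), of exponent dividing p when p is odd and dividing 4 when p = 2, with [D, P] ≤ Z(D), such that every automorphism in G of order prime to p that fixes D elementwise is the identity; moreover every maximal abelian subgroup A of D is normal in P and every automorphism in G fixing A elementwise has p-power order. -/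
theorem result {P : Type*} [Group P] [Finite P] {p : ℕ} [Fact p.Prime] (hP : IsPGroup p P)
    (G : Subgroup (MulAut P)) (hG : Cfsg.Inn P ≤ G) :
    ∃ D : Subgroup P,
      (∀ α ∈ G, D.map α.toMonoidHom = D) ∧
      D ≤ Subgroup.closure {y : P | ∃ α ∈ Cfsg.pResidual p ↥G, ∃ x : P, y = x⁻¹ * (α : MulAut P) x} ∧
      (∀ d ∈ D, d ^ p = 1 ∨ (p = 2 ∧ d ^ 4 = 1)) ∧
      ⁅D, (⊤ : Subgroup P)⁆ ≤ D ⊓ Subgroup.centralizer (D : Set P) ∧
      (∀ α ∈ G, (orderOf α).Coprime p → (∀ d ∈ D, α d = d) → α = 1) ∧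
      ∀ A : Subgroup P, A ≤ D → IsMulCommutative ↥A →
        (∀ B : Subgroup P, A ≤ B → B ≤ D → IsMulCommutative ↥B → B = A) →
        A.Normal ∧ ∀ α ∈ G, (∀ a ∈ A, α a = a) → ∃ k : ℕ, orderOf α = p ^ k := by
  classical
  set R : Subgroup ↥G := Cfsg.pResidual p ↥G with hR
  haveI : R.Normal := CfsgLib.Transfer.pResidual_normal
  set K := Subgroup.closure {y : P | ∃ α ∈ R, ∃ x : P, y = x⁻¹ * (α : MulAut P) x} with hK
  have hΓ : ∀ g : P, MulAut.conj g ∈ G := fun g => hG ⟨g, rfl⟩
  obtain ⟨H, hH⟩ := CfsgLib.PGroup.exists_critical hP G hΓ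
  have hKinv : ∀ α ∈ G, ∀ y ∈ K, α y ∈ K := by
    intro α hα y hy
    induction hy using Subgroup.closure_induction with
    | mem z hz =>
      obtain ⟨β, hβ, x, rfl⟩ := hz
      refine Subgroup.subset_closure ⟨⟨α, hα⟩ * β * ⟨α, hα⟩⁻¹, Subgroup.Normal.conj_mem inferInstance _ hβ _, α x, ?_⟩
      simp
    | one => simp
    | mul a b _ _ h1 h2 => rw [map_mul]; exact K.mul_mem h1 h2
    | inv a _ h1 => rw [map_inv]; exact K.inv_mem h1
  have hcl : ∀ x ∈ H, ∀ y ∈ H, ⁅x, y⁆ ∈ Subgroup.centralizer (H : Set P) := fun x hx y _ =>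
    (hH.commutator_le (Subgroup.commutator_mem_commutator hx (Subgroup.mem_top y))).2
  set D := CfsgLib.PGroup.smallSubgroup H (H ⊓ K) hH.pow_mem hcl inf_le_left with hD
  have hDH : D ≤ H := fun x hx => hx.1.1
  have hDinv : ∀ α ∈ G, ∀ x ∈ D, α x ∈ D := fun α hα x hx =>
    ⟨⟨hH.invariant α hα x hx.1.1, hKinv α hα x hx.1.2⟩, by rw [← map_pow, hx.2, map_one]⟩
  have hDn : D.Normal := ⟨fun x hx g => by simpa using hDinv _ (hΓ g) x hx⟩
  have hHn : H.Normal := ⟨fun x hx g => by simpa using hH.invariant _ (hΓ g) x hx⟩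
  have hfix : ∀ α ∈ G, (orderOf α).Coprime p → (∀ d ∈ D, α d = d) → α = 1 := by
    intro α hα hco hd
    have h1 : ∀ x ∈ H ⊓ K, α x = x :=
      CfsgLib.PGroup.fixes_of_fixes_small hP hH.pow_mem hcl inf_le_left hco
        (fun x hx => ⟨hH.invariant α hα x hx.1, hKinv α hα x hx.2⟩) (fun x hx hxq => hd x ⟨hx, hxq⟩)
    refine CfsgLib.PGroup.eq_one_of_fixes_selfCentralizing hP hH.centralizer_le hco fun x hx => ?_
    refine CfsgLib.PGroup.apply_eq_of_diff_fixed hP hco (h1 _ ⟨H.mul_mem (H.inv_mem hx) (hH.invariant α hα x hx), ?_⟩)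
    refine Subgroup.subset_closure ⟨⟨α, hα⟩, CfsgLib.Transfer.mem_pResidual_of_coprime ?_, x, rfl⟩
    rwa [Subgroup.orderOf_mk]
  have hDD : ⁅D, (⊤ : Subgroup P)⁆ ≤ D ⊓ Subgroup.centralizer (D : Set P) := by
    refine le_inf (Subgroup.commutator_le_left _ _) ?_
    exact ((Subgroup.commutator_mono hDH le_rfl).trans hH.commutator_le).trans
      (inf_le_right.trans (Subgroup.centralizer_le (SetLike.coe_subset_coe.mpr hDH)))
  refine ⟨D, fun α hα => le_antisymm (Subgroup.map_le_iff_le_comap.mpr fun x hx => hDinv α hα x hx)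
    fun x hx => ⟨α⁻¹ x, hDinv _ (G.inv_mem hα) x hx, by simp⟩, fun x hx => hx.1.2, ?_, hDD, hfix, ?_⟩
  · intro d hd
    have := hd.2
    unfold CfsgLib.PGroup.smallExp at this
    split at this
    · exact Or.inr ⟨‹_›, this⟩
    · exact Or.inl this
  · intro A hAD hA hmax
    have hZA : D ⊓ Subgroup.centralizer (D : Set P) ≤ A := by
      have hle : A ⊔ (D ⊓ Subgroup.centralizer (D : Set P)) ≤ D := sup_le hAD inf_le_left
      have hab : IsMulCommutative ↥(A ⊔ (D ⊓ Subgroup.centralizer (D : Set P))) := by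
        rw [← Subgroup.le_centralizer_iff_isMulCommutative, CfsgLib.PGroup.centralizer_sup_eq]
        refine le_inf (sup_le (Subgroup.le_centralizer_iff_isMulCommutative.mpr hA)
          (inf_le_right.trans (Subgroup.centralizer_le (SetLike.coe_subset_coe.mpr hAD)))) ?_
        exact (Subgroup.le_centralizer_iff.mp inf_le_right).trans' hle
      exact le_sup_right.trans (hmax _ le_sup_left hle hab).le
    have hAn : A.Normal := ⟨fun a ha g => by
      have e : g * a * g⁻¹ = ⁅a, g⁆⁻¹ * a := by simp [commutatorElement_def, mul_assoc]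
      rw [e]
      exact A.mul_mem (A.inv_mem (hZA (hDD (Subgroup.commutator_mem_commutator (hAD ha) (Subgroup.mem_top g))))) ha⟩
    refine ⟨hAn, fun α hα hαA => ?_⟩
    obtain ⟨a, b, rfl, -, ⟨k, hk⟩, hb, -, hbz⟩ := CfsgLib.Transfer.exists_pPart_mul (p := p) α
    suffices hb1 : b = 1 by exact ⟨k, by rw [hb1, mul_one, hk]⟩
    obtain ⟨i, hi⟩ := Subgroup.mem_zpowers_iff.mp hbz
    have hbG : b ∈ G := hi ▸ G.zpow_mem hα i
    have hbA : ∀ x ∈ A, b x = x := by
      intro x hx
      have hle : Subgroup.zpowers (a * b) ≤ MulAction.stabilizer (MulAut P) x :=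
        Subgroup.zpowers_le.mpr (hαA x hx)
      exact hle hbz
    refine hfix b hbG hb fun d hd => CfsgLib.PGroup.apply_eq_of_diff_fixed hP hb (hbA _ ?_)
    set c := d⁻¹ * b d with hc
    have hcD : c ∈ D := D.mul_mem (D.inv_mem hd) (hDinv b hbG d hd)
    have hcA : c ∈ Subgroup.centralizer (A : Set P) := by
      refine Subgroup.mem_centralizer_iff.mpr fun h hh => ?_
      have h1 : b (d * h * d⁻¹) = d * h * d⁻¹ := hbA _ (hAn.conj_mem h hh d)
      rw [map_mul, map_mul, map_inv, hbA h hh] at h1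
      calc h * c = d⁻¹ * ((d * h * d⁻¹) * b d) := by rw [hc]; simp [mul_assoc]
        _ = d⁻¹ * (b d * h * (b d)⁻¹ * b d) := by rw [h1]
        _ = c * h := by rw [hc]; simp [mul_assoc]
    have hab : IsMulCommutative ↥(A ⊔ Subgroup.zpowers c) := by
      rw [← Subgroup.le_centralizer_iff_isMulCommutative, CfsgLib.PGroup.centralizer_sup_eq]
      have h1 : Subgroup.zpowers c ≤ Subgroup.centralizer (A : Set P) := Subgroup.zpowers_le.mpr hcA
      have hzc : IsMulCommutative ↥(Subgroup.zpowers c) := inferInstance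
      exact le_inf (sup_le (Subgroup.le_centralizer_iff_isMulCommutative.mpr hA) h1)
        (sup_le (Subgroup.le_centralizer_iff.mp h1) (Subgroup.le_centralizer_iff_isMulCommutative.mpr hzc))
    exact (hmax _ le_sup_left (sup_le hAD (Subgroup.zpowers_le.mpr hcD)) hab).le
      (Subgroup.mem_sup_right (Subgroup.mem_zpowers c))

end Cfsg.Agent.S1949
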