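import Cfsg.Statements.S1953
import Cfsg.Agent.SL2Free.Constrained
import Cfsg.Agent.Signalizer.Grow
import Cfsg.Agent.CoprimeAction.Basic

set_option autoImplicit false
open Cfsg
open CfsgLib.GroupAlperin CfsgLib.StableConstrained

namespace Cfsg.Agent.S1953

universe u

variable {G : Type u} [Group G] [Finite G] {p : ℕ} [hp : Fact p.Prime]

omit hp in
theorem free_of [Fact p.Prime] (hfree : ∀ Q : Subgroup G, IsPGroup p ↥Q → ¬ ∃ (H K : Subgroup G) (_ : (K.subgroupOf H).Normal),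
    Subgroup.centralizer (Q : Set G) ≤ K ∧ K ≤ H ∧ H ≤ Subgroup.normalizer (Q : Set G) ∧
    Nonempty ((↥H ⧸ K.subgroupOf H) ≃* Matrix.SpecialLinearGroup (Fin 2) (ZMod p))) :
    CfsgLib.SL2Free.Free p G := by
  rintro Q hQ ⟨X, f, hX, hf, hC⟩
  set C := Subgroup.centralizer (Q : Set G) with hCdef
  have hNC : Subgroup.normalizer (Q : Set G) ≤ Subgroup.normalizer (C : Set G) :=
    CfsgLib.Components.normalizer_le_normalizer_centralizer Q
  set H := X ⊔ C with hH
  have hHC : H ≤ Subgroup.normalizer (C : Set G) := sup_le (hX.trans hNC) Subgroup.le_normalizer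
  set K := f.ker.map X.subtype ⊔ C with hK
  have hKH : K ≤ H := sup_le ((Subgroup.map_subtype_le _).trans le_sup_left) le_sup_right
  have hXK : X ≤ Subgroup.normalizer (K : Set G) := fun x hx => by
    rw [Subgroup.mem_normalizer_iff_map_conj_eq, hK, Subgroup.map_sup,
      Subgroup.mem_normalizer_iff_map_conj_eq.1 (hNC (hX hx))]
    congr 1
    rw [← Subgroup.mem_normalizer_iff_map_conj_eq]
    refine Subgroup.le_normalizer_map X.subtype ⟨⟨x, hx⟩, ?_, rfl⟩
    rw [Subgroup.normalizer_eq_top]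
    exact Subgroup.mem_top _
  haveI hn : (K.subgroupOf H).Normal :=
    Subgroup.normal_subgroupOf_of_le_normalizer (sup_le hXK ((le_sup_right : C ≤ K).trans Subgroup.le_normalizer))
  refine hfree Q hQ ⟨H, K, hn, le_sup_right, hKH, sup_le hX (Subgroup.centralizer_le_normalizer _), ?_⟩
  let φ : X →* ↥H ⧸ K.subgroupOf H :=
    (QuotientGroup.mk' _).comp (Subgroup.inclusion (le_sup_left : X ≤ H))
  have hφ : Function.Surjective φ := by
    intro z
    obtain ⟨⟨h, hh⟩, rfl⟩ := QuotientGroup.mk'_surjective _ z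
    obtain ⟨x, hx, c, hc, rfl⟩ := CfsgLib.CoprimeAction.exists_mul_of_mem_sup (hX.trans hNC) hh
    refine ⟨⟨x, hx⟩, QuotientGroup.eq.2 ?_⟩
    show x⁻¹ * (x * c) ∈ K
    rw [inv_mul_cancel_left]
    exact (le_sup_right : C ≤ K) hc
  have hker : φ.ker = f.ker := by
    ext x
    rw [MonoidHom.mem_ker, MonoidHom.mem_ker]
    show (QuotientGroup.mk (Subgroup.inclusion (le_sup_left : X ≤ H) x) : ↥H ⧸ K.subgroupOf H) = 1 ↔ _
    rw [QuotientGroup.eq_one_iff]
    show (x : G) ∈ K ↔ _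
    constructor
    · intro hxK
      obtain ⟨_, ⟨k, hk, rfl⟩, c, hc, hkc⟩ := CfsgLib.CoprimeAction.exists_mul_of_mem_sup
        ((Subgroup.map_subtype_le _).trans (hX.trans hNC)) hxK
      have hcX : c ∈ X := by
        have := X.mul_mem (X.inv_mem k.2) x.2
        simp only [Subgroup.coe_subtype] at hkc
        rwa [← hkc, inv_mul_cancel_left] at this
      rw [show x = k * ⟨c, hcX⟩ from Subtype.ext hkc.symm, map_mul, MonoidHom.mem_ker.1 hk, hC ⟨c, hcX⟩ hc, one_mul]
    · exact fun hx => (le_sup_left : _ ≤ K) ⟨x, hx, rfl⟩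
  exact ⟨((QuotientGroup.quotientKerEquivOfSurjective φ hφ).symm.trans
    (QuotientGroup.quotientMulEquivOfEq hker)).trans (QuotientGroup.quotientKerEquivOfSurjective f hf)⟩

/-- In `X` normalized by `N ⊇ P` no `p`-subgroup is larger than `P ⊓ X`. -/
theorem card_le_inf (P : Sylow p G) {X N R : Subgroup G} (hPN : (P : Subgroup G) ≤ N) (hXN : X ≤ N)
    (hNX : N ≤ Subgroup.normalizer (X : Set G)) (hR : R ≤ X) (hRp : IsPGroup p R) :
    Nat.card R ≤ Nat.card ((P : Subgroup G) ⊓ X : Subgroup G) := by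
  obtain ⟨W, hW⟩ := (hRp.of_equiv (Subgroup.subgroupOfEquivOfLe (hR.trans hXN)).symm).exists_le_sylow
  obtain ⟨n, hn⟩ := MulAction.exists_smul_eq N (P.subtype hPN) W
  have hle : R.map (MulAut.conj (n : G)⁻¹).toMonoidHom ≤ (P : Subgroup G) ⊓ X := by
    rintro _ ⟨r, hr, rfl⟩
    refine ⟨?_, ?_⟩
    · have h1 : (⟨r, hXN (hR hr)⟩ : N) ∈ (W : Subgroup N) := hW hr
      rw [← hn] at h1
      rw [Sylow.coe_subgroup_smul, Subgroup.mem_pointwise_smul_iff_inv_smul_mem, ← map_inv, MulAut.smul_def,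
        MulAut.conj_apply] at h1
      exact h1
    · exact (Subgroup.mem_normalizer_iff.1 (hNX (N.inv_mem n.2)) r).1 (hR hr)
  calc Nat.card R = Nat.card (R.map (MulAut.conj (n : G)⁻¹).toMonoidHom) :=
        (Subgroup.card_map_of_injective (MulAut.conj (n : G)⁻¹).injective).symm
    _ ≤ _ := Subgroup.card_le_of_le hle

/-- A `p`-subgroup of `P` containing `Q ∩ C` inside `C` lies in `Q ∩ C` when this is Sylow in `C`. -/
theorem le_of_sylow {Q C R' : Subgroup G} (R : Sylow p C) (hR : (R : Subgroup C).map C.subtype = Q ⊓ C)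
    (hle : Q ⊓ C ≤ R') (hR'C : R' ≤ C) (hR'p : IsPGroup p R') : R' ≤ Q ⊓ C := by
  obtain ⟨W, hW⟩ := (hR'p.of_equiv (Subgroup.subgroupOfEquivOfLe hR'C).symm).exists_le_sylow
  refine (Subgroup.eq_of_le_of_card_ge hle ?_).ge
  calc Nat.card R' = Nat.card (R'.subgroupOf C) := (Nat.card_congr (Subgroup.subgroupOfEquivOfLe hR'C).toEquiv).symm
    _ ≤ Nat.card (W : Subgroup C) := Subgroup.card_le_of_le hW
    _ = Nat.card (R : Subgroup C) := by rw [W.card_eq_multiplicity, R.card_eq_multiplicity]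
    _ = _ := by rw [← hR, Subgroup.card_subtype]

/-- A normal `p`-subgroup extension of a subgroup normal in fusion is normal in fusion. -/
theorem ctrl_enlarge (P : Sylow p G) {Q X : Subgroup G} (hQ : Ctrl (P : Subgroup G) Q)
    (hQc : (P : Subgroup G) ⊓ Subgroup.centralizer (Q : Set G) ≤ Q)
    (hXN : X ≤ Subgroup.normalizer (Q : Set G))
    (hNX : Subgroup.normalizer (Q : Set G) ≤ Subgroup.normalizer (X : Set G))
    (hX : Q ⊔ Subgroup.centralizer (Q : Set G) ⊔ ((P : Subgroup G) ⊓ X) = X) :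
    Ctrl (P : Subgroup G) ((P : Subgroup G) ⊓ X) := by
  classical
  set N := Subgroup.normalizer (Q : Set G) with hN
  set C := Subgroup.centralizer (Q : Set G) with hC
  set Y := (P : Subgroup G) ⊓ X with hY
  have hPN : (P : Subgroup G) ≤ N := hQ.le_normalizer
  have hNC : N ≤ Subgroup.normalizer (C : Set G) := CfsgLib.Components.normalizer_le_normalizer_centralizer Q
  have hQY : Q ≤ Y := le_inf hQ.1 ((le_sup_left.trans le_sup_left).trans hX.le)
  refine ⟨inf_le_left, fun T g hT hg => ?_⟩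
  obtain ⟨c, hc, n, hn, rfl⟩ := hQ.2 T g hT hg
  -- `n` moves `Y` by an element of `X`
  have hYN : Y ≤ N := inf_le_left.trans hPN
  haveI : Fact p.Prime := hp
  have hconj : ∃ c1 ∈ C, ∃ n' ∈ Subgroup.normalizer (Y : Set G), n = c1 * n' := by
    obtain ⟨W, hW⟩ := ((P.isPGroup'.to_le inf_le_left : IsPGroup p Y).of_equiv
      (Subgroup.subgroupOfEquivOfLe (inf_le_right : Y ≤ X)).symm).exists_le_sylow
    have hWeq : (W : Subgroup X) = Y.subgroupOf X := by
      refine (Subgroup.eq_of_le_of_card_ge hW ?_).symm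
      rw [Nat.card_congr (Subgroup.subgroupOfEquivOfLe (inf_le_right : Y ≤ X)).toEquiv, ← Subgroup.card_subtype]
      exact card_le_inf P hPN hXN hNX (Subgroup.map_subtype_le _) (W.isPGroup'.map X.subtype)
    have hYn : IsPGroup p (cj Y n) := (P.isPGroup'.to_le inf_le_left).map _
    have hYnX : cj Y n ≤ X := by
      rintro _ ⟨y, hy, rfl⟩
      exact (Subgroup.mem_normalizer_iff.1 (hNX (N.inv_mem hn)) y).1 hy.2
    obtain ⟨V, hV⟩ := (hYn.of_equiv (Subgroup.subgroupOfEquivOfLe hYnX).symm).exists_le_sylow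
    obtain ⟨x, hx⟩ := MulAction.exists_smul_eq X W V
    obtain ⟨a, ha, y, hy, hay⟩ := CfsgLib.CoprimeAction.exists_mul_of_mem_sup
      (A := Y) (K := Q ⊔ C) (x := (x : G)) (fun y hy => by
        rw [Subgroup.mem_normalizer_iff_map_conj_eq, Subgroup.map_sup,
          Subgroup.mem_normalizer_iff_map_conj_eq.1 (hYN hy), Subgroup.mem_normalizer_iff_map_conj_eq.1 (hNC (hYN hy))])
      (by rw [sup_comm, hX]; exact x.2)
    obtain ⟨c0, hc0, q, hq, hcq⟩ := CfsgLib.CoprimeAction.exists_mul_of_mem_sup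
      (A := C) (K := Q) (x := y) (Subgroup.centralizer_le_normalizer _) (by rwa [sup_comm])
    -- `n x` normalizes `Y`
    have hWV : ∀ v ∈ Y, ((n * (x : G))⁻¹ * v * (n * (x : G))) ∈ Y := by
      intro v hv
      have hm : n⁻¹ * v * n ∈ cj Y n := mem_cj.2 (by simpa [mul_assoc] using hv)
      have h1 : (⟨n⁻¹ * v * n, hYnX hm⟩ : X) ∈ (V : Subgroup X) := hV hm
      rw [← hx, Sylow.coe_subgroup_smul, Subgroup.mem_pointwise_smul_iff_inv_smul_mem, ← map_inv, MulAut.smul_def,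
        MulAut.conj_apply, hWeq, inv_inv] at h1
      have h2 : (x : G)⁻¹ * (n⁻¹ * v * n) * (x : G) ∈ Y := h1
      simpa [mul_assoc] using h2
    have hnx : n * (x : G) ∈ Subgroup.normalizer (Y : Set G) := by
      rw [← inv_inv (n * (x : G))]
      refine inv_mem (Subgroup.mem_normalizer_fintype fun v hv => ?_)
      rw [inv_inv]
      exact hWV v hv
    have hmN : n * (x : G) * q⁻¹ ∈ N := N.mul_mem (N.mul_mem hn (hXN x.2)) (N.inv_mem (Subgroup.le_normalizer hq))
    refine ⟨(n * (x : G) * q⁻¹) * c0⁻¹ * (n * (x : G) * q⁻¹)⁻¹,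
      (Subgroup.mem_normalizer_iff.1 (hNC hmN) _).1 (C.inv_mem hc0), n * (x : G) * q⁻¹ * a⁻¹,
      mul_mem (mul_mem hnx (Subgroup.le_normalizer (inv_mem (hQY hq)))) (Subgroup.le_normalizer (inv_mem ha)), ?_⟩
    rw [← hay, ← hcq]
    group
  obtain ⟨c1, hc1, n', hn', rfl⟩ := hconj
  -- a normal `p`-complement of `C`
  obtain ⟨Wc, hWc⟩ := ((P.isPGroup'.to_le inf_le_left : IsPGroup p ((P : Subgroup G) ⊓ C : Subgroup G)).of_equiv
    (Subgroup.subgroupOfEquivOfLe inf_le_right).symm).exists_le_sylow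
  have hWceq : (Wc : Subgroup C) = ((P : Subgroup G) ⊓ C).subgroupOf C := by
    refine (Subgroup.eq_of_le_of_card_ge hWc ?_).symm
    rw [Nat.card_congr (Subgroup.subgroupOfEquivOfLe (inf_le_right : (P : Subgroup G) ⊓ C ≤ C)).toEquiv,
      ← Subgroup.card_subtype]
    exact card_le_inf P hPN (Subgroup.centralizer_le_normalizer _) hNC (Subgroup.map_subtype_le _)
      (Wc.isPGroup'.map C.subtype)
  have hWz : ∀ w ∈ (Wc : Subgroup C), (w : G) ∈ Q := fun w hw => by
    rw [hWceq] at hw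
    exact hQc hw
  have hcen : Subgroup.normalizer ((Wc : Subgroup C) : Set C) ≤ Subgroup.centralizer ((Wc : Subgroup C) : Set C) :=
    fun z _ => Subgroup.mem_centralizer_iff.2 fun w hw =>
      Subtype.ext (Subgroup.mem_centralizer_iff.1 z.2 (w : G) (hWz w hw))
  set φ := MonoidHom.transferSylow Wc hcen with hφ
  have hcompl := MonoidHom.ker_transferSylow_isComplement' Wc hcen
  obtain ⟨⟨k, w⟩, hkw⟩ := hcompl.2 ⟨c1, hc1⟩
  have hkw' : ((k : C) : G) * ((w : C) : G) = c1 := congrArg Subtype.val hkw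
  set K := φ.ker.map C.subtype with hK
  have hKp : ∀ z ∈ K, (orderOf z).Coprime p := by
    rintro _ ⟨z, hz, rfl⟩
    rw [Subgroup.coe_subtype, Subgroup.orderOf_coe]
    exact Nat.Coprime.symm ((hp.out.coprime_iff_not_dvd).2 fun hd =>
      MonoidHom.not_dvd_card_ker_transferSylow Wc hcen
        (hd.trans (by rw [← Subgroup.orderOf_mk z hz]; exact orderOf_dvd_natCard _)))
  have hPK : ∀ s ∈ N, ∀ z ∈ K, s * z * s⁻¹ ∈ K := by
    intro s hs z hz
    have hzC : z ∈ C := Subgroup.map_subtype_le _ hz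
    refine ⟨⟨s * z * s⁻¹, (Subgroup.mem_normalizer_iff.1 (hNC hs) z).1 hzC⟩, ?_, rfl⟩
    show φ _ = 1
    obtain ⟨j, hj⟩ := IsPGroup.iff_orderOf.1 Wc.isPGroup' (φ ⟨s * z * s⁻¹, (Subgroup.mem_normalizer_iff.1 (hNC hs) z).1 hzC⟩)
    refine orderOf_eq_one_iff.1 (Nat.eq_one_of_dvd_coprimes ((hKp z hz).pow_right j) ?_ hj.dvd)
    refine (orderOf_map_dvd φ _).trans ?_
    rw [Subgroup.orderOf_mk, ← MulAut.conj_apply, MulEquiv.orderOf_eq]
  set kk : G := ((k : C) : G) with hkk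
  have hkK : kk ∈ K := ⟨(k : C), k.2, rfl⟩
  set m2 : G := ((w : C) : G) * n' with hm2
  have hm2Y : m2 ∈ Subgroup.normalizer (Y : Set G) :=
    mul_mem (Subgroup.le_normalizer (hQY (hWz w w.2))) hn'
  have hPY : (P : Subgroup G) ≤ Subgroup.normalizer (Y : Set G) := fun s hs => by
    rw [Subgroup.mem_normalizer_iff_map_conj_eq, hY, Subgroup.map_inf _ _ _ (MulAut.conj s).injective,
      Subgroup.mem_normalizer_iff_map_conj_eq.1 (Subgroup.le_normalizer hs),
      Subgroup.mem_normalizer_iff_map_conj_eq.1 (hNX (hPN hs))]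
  set T' := cj T kk with hT'
  have hT'Y : T' ≤ Subgroup.normalizer (Y : Set G) := by
    rintro _ ⟨s, hs, rfl⟩
    have h1 : m2⁻¹ * (kk⁻¹ * s * kk) * m2 ∈ (P : Subgroup G) := by
      refine hg (mem_cj.2 ?_)
      rw [← hkw']
      have e : c * (kk * ((w : C) : G) * n') * (m2⁻¹ * (kk⁻¹ * s * kk) * m2) * (c * (kk * ((w : C) : G) * n'))⁻¹ =
          c * s * c⁻¹ := by rw [hm2]; group
      rw [e, (Subgroup.mem_centralizer_iff.1 hc s hs).symm, mul_inv_cancel_right]
      exact hs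
    have h2 := mul_mem (mul_mem hm2Y (hPY h1)) (inv_mem hm2Y)
    simpa [mul_assoc] using h2
  set L := K ⊓ Subgroup.normalizer (Y : Set G) with hL
  have hTL : T ≤ Subgroup.normalizer (L : Set G) := fun s hs => Subgroup.mem_normalizer_fintype fun z hz =>
    ⟨hPK s (hPN (hT hs)) z hz.1, mul_mem (mul_mem (hPY (hT hs)) hz.2) ((Subgroup.normalizer (Y : Set G)).inv_mem (hPY (hT hs)))⟩
  set M := T ⊔ L with hM
  have hTp : IsPGroup p T := P.isPGroup'.to_le hT
  have hT'M : T' ≤ M := by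
    intro u hu
    obtain ⟨s, hs, rfl⟩ := hu
    have hu' : kk⁻¹ * s * kk ∈ Subgroup.normalizer (Y : Set G) := by
      have := hT'Y (⟨s, hs, rfl⟩ : (MulAut.conj kk⁻¹).toMonoidHom s ∈ T')
      simpa using this
    have h1 : s⁻¹ * (kk⁻¹ * s * kk) ∈ L := by
      refine ⟨?_, mul_mem ((Subgroup.normalizer (Y : Set G)).inv_mem (hPY (hT hs))) hu'⟩
      have := K.mul_mem (hPK s⁻¹ (N.inv_mem (hPN (hT hs))) _ (K.inv_mem hkK)) hkK
      simpa [mul_assoc] using this
    have h2 := M.mul_mem ((le_sup_left : T ≤ M) hs) ((le_sup_right : L ≤ M) h1)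
    simpa [mul_assoc] using h2
  -- `T` is a Sylow subgroup of `T ⊔ L`
  have htriv : ∀ z ∈ K, ∀ (D : Subgroup G), IsPGroup p D → z ∈ D → z = 1 := fun z hz D hD hzD => by
    obtain ⟨j, hj⟩ := IsPGroup.iff_orderOf.1 hD ⟨z, hzD⟩
    rw [Subgroup.orderOf_mk] at hj
    exact orderOf_eq_one_iff.1 (Nat.eq_one_of_dvd_coprimes ((hKp z hz).pow_right j) dvd_rfl hj.dvd)
  obtain ⟨W, hW⟩ := (hTp.of_equiv (Subgroup.subgroupOfEquivOfLe (le_sup_left : T ≤ M)).symm).exists_le_sylow
  obtain ⟨W', hW'⟩ := (((hTp.map _ : IsPGroup p T')).of_equiv (Subgroup.subgroupOfEquivOfLe hT'M).symm).exists_le_sylow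
  have hWT : ∀ z ∈ (W : Subgroup M), (z : G) ∈ T := by
    intro z hz
    obtain ⟨s, hs, l, hl, hsl⟩ := CfsgLib.CoprimeAction.exists_mul_of_mem_sup hTL z.2
    have hl1 : l = 1 := by
      refine htriv l hl.1 ((W : Subgroup M).map M.subtype) (W.isPGroup'.map _) ?_
      refine ⟨(⟨s, (le_sup_left : T ≤ M) hs⟩ : M)⁻¹ * z, (W : Subgroup M).mul_mem ((W : Subgroup M).inv_mem (hW hs)) hz, ?_⟩
      show s⁻¹ * (z : G) = l
      rw [← hsl, inv_mul_cancel_left]
    rw [← hsl, hl1, mul_one]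
    exact hs
  obtain ⟨x, hx⟩ := MulAction.exists_smul_eq M W' W
  obtain ⟨t0, ht0, l, hl, hxl⟩ := CfsgLib.CoprimeAction.exists_mul_of_mem_sup hTL x.2
  have hTT' : ∀ s ∈ T, l * (kk⁻¹ * s * kk) * l⁻¹ ∈ T := by
    intro s hs
    have hu : kk⁻¹ * s * kk ∈ T' := ⟨s, hs, by simp⟩
    have h1 : (x * ⟨kk⁻¹ * s * kk, hT'M hu⟩ * x⁻¹ : M) ∈ (W : Subgroup M) := by
      rw [← hx, Sylow.coe_subgroup_smul, Subgroup.mem_pointwise_smul_iff_inv_smul_mem, ← map_inv, MulAut.smul_def,
        MulAut.conj_apply]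
      have e : x⁻¹ * (x * ⟨kk⁻¹ * s * kk, hT'M hu⟩ * x⁻¹) * x⁻¹⁻¹ = ⟨kk⁻¹ * s * kk, hT'M hu⟩ := by group
      rw [e]
      exact hW' hu
    have h2 : (x : G) * (kk⁻¹ * s * kk) * (x : G)⁻¹ ∈ T := hWT _ h1
    rw [← hxl] at h2
    have h3 := T.mul_mem (T.mul_mem (T.inv_mem ht0) h2) ht0
    simpa [mul_assoc] using h3
  have hc' : kk * l⁻¹ ∈ Subgroup.centralizer (T : Set G) := Subgroup.mem_centralizer_iff.2 fun s hs => by
    have h1 : s⁻¹ * (l * (kk⁻¹ * s * kk) * l⁻¹) = 1 := by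
      refine htriv _ ?_ T hTp (T.mul_mem (T.inv_mem hs) (hTT' s hs))
      have := K.mul_mem (hPK s⁻¹ (N.inv_mem (hPN (hT hs))) _ (K.mul_mem hl.1 (K.inv_mem hkK)))
        (K.mul_mem hkK (K.inv_mem hl.1))
      simpa [mul_assoc] using this
    have h2 := inv_mul_eq_one.1 h1
    calc s * (kk * l⁻¹) = kk * l⁻¹ * (l * (kk⁻¹ * s * kk) * l⁻¹) := by group
      _ = _ := by rw [← h2]
  refine ⟨c * (kk * l⁻¹), mul_mem hc hc', l * m2, mul_mem hl.2 hm2Y, ?_⟩
  rw [← hkw', hm2]
  group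

/-- Let p be an odd prime and P a Sylow p-subgroup of the finite group G, and suppose that for no p-subgroup Q of G does N_G(Q)/C_G(Q) have a section isomorphic to SL₂(p). Call a subgroup Q of P centric-radical when Z(Q) is a Sylow p-subgroup of C_G(Q) and the only normal subgroup X of N_G(Q) containing Q·C_G(Q) such that the index of Q·C_G(Q) in X is a power of p is Q·C_G(Q) itself (that is, N_G(Q)/Q·C_G(Q) has no nontrivial normal p-subgroup). Then there is a centric-radical subgroup Q of P contained in every centric-radical subgroup of P; it is normal in P, and N_G(Q) controls strong fusion in P: whenever a subgroup A of P has g A g⁻¹ ≤ P, the element g is a product h c with h in N_G(Q) and c centralizing A. -/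
theorem result {G : Type*} [Group G] [Finite G] {p : ℕ} [Fact p.Prime] (hp : p ≠ 2) (P : Sylow p G)
    (hfree : ∀ Q : Subgroup G, IsPGroup p ↥Q → ¬ ∃ (H K : Subgroup G) (_ : (K.subgroupOf H).Normal),
      Subgroup.centralizer (Q : Set G) ≤ K ∧ K ≤ H ∧ H ≤ Subgroup.normalizer (Q : Set G) ∧
      Nonempty ((↥H ⧸ K.subgroupOf H) ≃* Matrix.SpecialLinearGroup (Fin 2) (ZMod p)))
    (cr : Subgroup G → Prop)
    (hcr : ∀ Q : Subgroup G, cr Q ↔ (Q ≤ (P : Subgroup G) ∧
      (∃ R : Sylow p ↥(Subgroup.centralizer (Q : Set G)),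
        (R : Subgroup ↥(Subgroup.centralizer (Q : Set G))).map (Subgroup.centralizer (Q : Set G)).subtype = Q ⊓ Subgroup.centralizer (Q : Set G)) ∧
      ∀ X : Subgroup G, X ≤ Subgroup.normalizer (Q : Set G) →
        (∀ n ∈ Subgroup.normalizer (Q : Set G), X.map (MulAut.conj n).toMonoidHom = X) →
        Q ⊔ Subgroup.centralizer (Q : Set G) ≤ X → (∃ k : ℕ, (Q ⊔ Subgroup.centralizer (Q : Set G)).relIndex X = p ^ k) →
        X = Q ⊔ Subgroup.centralizer (Q : Set G))) :
    ∃ Q : Subgroup G, cr Q ∧ (∀ R : Subgroup G, cr R → Q ≤ R) ∧ (∀ x ∈ (P : Subgroup G), Q.map (MulAut.conj x).toMonoidHom = Q) ∧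
      ∀ A : Subgroup G, A ≤ (P : Subgroup G) → ∀ g : G, A.map (MulAut.conj g).toMonoidHom ≤ (P : Subgroup G) →
        ∃ h ∈ Subgroup.normalizer (Q : Set G), ∃ c ∈ Subgroup.centralizer (A : Set G), g = h * c := by
  have hp' : Fact p.Prime := inferInstance
  classical
  have hf := free_of hfree
  obtain ⟨Q0, hQ0, hQ0c⟩ := CfsgLib.SL2Free.constr hp _ G rfl hf P
  obtain ⟨Q, hQ, hmax⟩ := Set.exists_max_image {Q : Subgroup G | Ctrl (P : Subgroup G) Q}
    (fun Q => Nat.card Q) (Set.toFinite _) ⟨Q0, hQ0⟩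
  have hle : ∀ R : Subgroup G, Ctrl (P : Subgroup G) R → R ≤ Q := fun R hR => by
    have h1 := hmax _ (hQ.sup hR)
    rw [Subgroup.eq_of_le_of_card_ge (le_sup_left : Q ≤ Q ⊔ R) h1]
    exact le_sup_right
  have hQc : (P : Subgroup G) ⊓ Subgroup.centralizer (Q : Set G) ≤ Q :=
    (inf_le_inf_left _ (Subgroup.centralizer_le (by exact hle Q0 hQ0))).trans (hQ0c.trans (hle Q0 hQ0))
  have hPN := hQ.le_normalizer
  have hNC := CfsgLib.Components.normalizer_le_normalizer_centralizer Q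
  refine ⟨Q, (hcr Q).2 ⟨hQ.1, ?_, ?_⟩, ?_, fun x hx => Subgroup.mem_normalizer_iff_map_conj_eq.1 (hPN hx), ?_⟩
  · -- `Z(Q)` is Sylow in `C(Q)`
    set C := Subgroup.centralizer (Q : Set G)
    obtain ⟨W, hW⟩ := ((P.isPGroup'.to_le inf_le_left : IsPGroup p ((P : Subgroup G) ⊓ C : Subgroup G)).of_equiv
      (Subgroup.subgroupOfEquivOfLe inf_le_right).symm).exists_le_sylow
    have hWeq : (W : Subgroup C) = ((P : Subgroup G) ⊓ C).subgroupOf C := by
      refine (Subgroup.eq_of_le_of_card_ge hW ?_).symm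
      rw [Nat.card_congr (Subgroup.subgroupOfEquivOfLe (inf_le_right : (P : Subgroup G) ⊓ C ≤ C)).toEquiv,
        ← Subgroup.card_subtype]
      exact card_le_inf P hPN (Subgroup.centralizer_le_normalizer _) hNC (Subgroup.map_subtype_le _)
        (W.isPGroup'.map C.subtype)
    refine ⟨W, ?_⟩
    rw [hWeq, Subgroup.subgroupOf_map_subtype, inf_assoc, inf_idem]
    exact le_antisymm (le_inf hQc inf_le_right) (inf_le_inf_right _ hQ.1)
  · -- radical
    intro X hXN hXn hXge hXidx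
    obtain ⟨k, hk⟩ := hXidx
    set A := Q ⊔ Subgroup.centralizer (Q : Set G) with hA
    have hNX : Subgroup.normalizer (Q : Set G) ≤ Subgroup.normalizer (X : Set G) := fun n hn =>
      Subgroup.mem_normalizer_iff_map_conj_eq.2 (hXn n hn)
    set Y := (P : Subgroup G) ⊓ X with hY
    have hX : A ⊔ Y = X := by
      have hle' : A ⊔ Y ≤ X := sup_le hXge inf_le_right
      refine le_antisymm hle' (Subgroup.relIndex_eq_one.1 ?_)
      obtain ⟨W, hW⟩ := ((P.isPGroup'.to_le inf_le_left : IsPGroup p Y).of_equiv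
        (Subgroup.subgroupOfEquivOfLe (inf_le_right : Y ≤ X)).symm).exists_le_sylow
      have hWeq : (W : Subgroup X) = Y.subgroupOf X := by
        refine (Subgroup.eq_of_le_of_card_ge hW ?_).symm
        rw [Nat.card_congr (Subgroup.subgroupOfEquivOfLe (inf_le_right : Y ≤ X)).toEquiv, ← Subgroup.card_subtype]
        exact card_le_inf P hPN hXN hNX (Subgroup.map_subtype_le _) (W.isPGroup'.map X.subtype)
      have h1 : (A ⊔ Y).relIndex X ∣ p ^ k := hk ▸ Subgroup.relIndex_dvd_of_le_left X le_sup_left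
      have h2 : (A ⊔ Y).relIndex X ∣ (W : Subgroup X).index := by
        rw [hWeq]; exact Subgroup.relIndex_dvd_of_le_left X le_sup_right
      exact Nat.eq_one_of_dvd_coprimes ((hp'.out.coprime_iff_not_dvd.2 W.not_dvd_index).pow_left k) h1 h2
    have hYQ : Y ≤ Q := hle Y (ctrl_enlarge P hQ hQc hXN hNX hX)
    rw [← hX]
    exact sup_eq_left.2 (hYQ.trans le_sup_left)
  · -- least
    intro R hR
    obtain ⟨hRP, hRC', hrad⟩ := (hcr R).1 hR
    by_contra hnot
    refine CfsgLib.Signalizer.exists_mem_normalizer_of_lt (P.isPGroup'.to_le (sup_le hRP hQ.1))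
      (left_lt_sup.2 hnot) fun w hw => ?_
    obtain ⟨hw1, hw2⟩ := hw
    obtain ⟨r, hr, q, hq, rfl⟩ := CfsgLib.CoprimeAction.exists_mul_of_mem_sup (hRP.trans hPN) hw1
    set NR := Subgroup.normalizer (R : Set G) with hNR
    set CR := Subgroup.centralizer (R : Set G) with hCR
    have hqN : q ∈ NR := by
      have := NR.mul_mem (NR.inv_mem (Subgroup.le_normalizer hr)) hw2
      rwa [← mul_assoc, inv_mul_cancel, one_mul] at this
    refine R.mul_mem hr ?_
    set A := R ⊔ CR with hA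
    set B := Q ⊓ NR with hB
    have hAN : A ≤ NR := sup_le Subgroup.le_normalizer (Subgroup.centralizer_le_normalizer _)
    have hNA : ∀ n ∈ NR, n ∈ Subgroup.normalizer (A : Set G) := fun n hn => by
      rw [Subgroup.mem_normalizer_iff_map_conj_eq, hA, Subgroup.map_sup,
        Subgroup.mem_normalizer_iff_map_conj_eq.1 hn,
        Subgroup.mem_normalizer_iff_map_conj_eq.1 (CfsgLib.Components.normalizer_le_normalizer_centralizer R hn)]
    set X := A ⊔ B with hX
    have hBA : B ≤ Subgroup.normalizer (A : Set G) := fun b hb => hNA b hb.2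
    have hXinv : ∀ n ∈ NR, X.map (MulAut.conj n).toMonoidHom = X := by
      intro n hn
      have h1 : cj R n ≤ (P : Subgroup G) := (cj_eq_self hn).le.trans hRP
      obtain ⟨c, hc, m, hm, rfl⟩ := hQ.2 R n hRP h1
      have hmR : m ∈ NR := by
        have := mul_mem (inv_mem (Subgroup.centralizer_le_normalizer _ hc)) hn
        rwa [inv_mul_cancel_left] at this
      refine Subgroup.mem_normalizer_iff_map_conj_eq.1 ?_
      refine mul_mem (Subgroup.le_normalizer ((le_sup_left : A ≤ X) ((le_sup_right : CR ≤ A) hc))) ?_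
      rw [Subgroup.mem_normalizer_iff_map_conj_eq, hX, Subgroup.map_sup, hB,
        Subgroup.map_inf _ _ _ (MulAut.conj m).injective, Subgroup.mem_normalizer_iff_map_conj_eq.1 hm,
        Subgroup.mem_normalizer_iff_map_conj_eq.1 (Subgroup.le_normalizer hmR),
        Subgroup.mem_normalizer_iff_map_conj_eq.1 (hNA m hmR)]
    have hidx : ∃ k : ℕ, A.relIndex X = p ^ k := by
      haveI : (A.subgroupOf X).Normal :=
        Subgroup.normal_subgroupOf_of_le_normalizer (sup_le Subgroup.le_normalizer hBA)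
      let ψ : B →* ↥X ⧸ A.subgroupOf X := (QuotientGroup.mk' _).comp (Subgroup.inclusion (le_sup_right : B ≤ X))
      have hψ : Function.Surjective ψ := by
        intro z
        obtain ⟨⟨z, hz⟩, rfl⟩ := QuotientGroup.mk'_surjective _ z
        obtain ⟨b, hb, a, ha, hba⟩ := CfsgLib.CoprimeAction.exists_mul_of_mem_sup (A := B) (K := A) hBA
          (by rwa [sup_comm])
        refine ⟨⟨b, hb⟩, QuotientGroup.eq.2 ?_⟩
        show b⁻¹ * z ∈ A
        rw [← hba, inv_mul_cancel_left]; exact ha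
      exact IsPGroup.iff_card.1 (((P.isPGroup'.to_le (inf_le_left.trans hQ.1) : IsPGroup p B)).of_surjective ψ hψ)
    have hXA := hrad X (sup_le hAN inf_le_right) hXinv le_sup_left hidx
    have hqA : q ∈ A := hXA.le ((le_sup_right : B ≤ X) ⟨hq, hqN⟩)
    obtain ⟨r', hr', c, hc, hrc⟩ := CfsgLib.CoprimeAction.exists_mul_of_mem_sup
      (A := R) (K := CR) (Subgroup.le_normalizer.trans (CfsgLib.Components.normalizer_le_normalizer_centralizer R)) hqA
    have hcP : c ∈ (P : Subgroup G) := by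
      have := (P : Subgroup G).mul_mem ((P : Subgroup G).inv_mem (hRP hr')) (hQ.1 hq)
      rwa [← hrc, inv_mul_cancel_left] at this
    obtain ⟨RC, hRC⟩ := hRC'
    have hcR : c ∈ R ⊓ CR := le_of_sylow RC hRC (inf_le_inf_right _ hRP) inf_le_right
      (P.isPGroup'.to_le inf_le_left) ⟨hcP, hc⟩
    rw [← hrc]
    exact R.mul_mem hr' hcR.1
  · -- control
    intro A hA g hg
    obtain ⟨c, hc, n, hn, hgn⟩ := hQ.2 A g⁻¹ hA (by rw [cj, inv_inv]; exact hg)
    exact ⟨n⁻¹, inv_mem hn, c⁻¹, inv_mem hc, by rw [← inv_inv g, hgn, mul_inv_rev]⟩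

end Cfsg.Agent.S1953
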