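import Cfsg.Statements.S2060
import Cfsg.Agent.MathieuOut.Cards
import Cfsg.Agent.MathieuOut.Data11

set_option autoImplicit false
open Cfsg

namespace Cfsg.Agent.S2060

/-- The outer automorphism group of the Mathieu group M₁₁ (the stabiliser of a dodecad and one of its points in the automorphism group of the length-24 binary code) is trivial: every automorphism is inner. -/
theorem result : Nat.card (Cfsg.Out ↥Cfsg.Spor.M11) = 1 := by
  have hK : CfsgLib.Golay.fixGroup CfsgLib.MathieuOut.D11.cert.fixd = Cfsg.Spor.M11 :=
    CfsgLib.MathieuTwo.K11_eq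
  have hW := CfsgLib.MathieuTwo.witness11
  rw [← hK] at hW ⊢
  refine CfsgLib.MathieuOut.card_out_one CfsgLib.MathieuOut.D11.ok ?_ (by decide +kernel) (by decide +kernel)
    hW (CfsgLib.MathieuOut.central_eq_of_closedOk CfsgLib.MathieuTwo.D11.group_ok CfsgLib.MathieuTwo.D11.closed_ok) (by decide +kernel)
  rw [hK]
  exact CfsgLib.MathieuOut.card_M11

end Cfsg.Agent.S2060
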