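import Cfsg.Statements.S2061
import Cfsg.Agent.MathieuOut.Cards
import Cfsg.Agent.MathieuOut.Data12

set_option autoImplicit false
open Cfsg

namespace Cfsg.Agent.S2061

/-- The outer automorphism group of the Mathieu group M₁₂ (the stabiliser of a dodecad in the automorphism group of the length-24 binary code) has order 2. -/
theorem result : Nat.card (Cfsg.Out ↥Cfsg.Spor.M12) = 2 := by
  have hK : CfsgLib.Golay.fixGroup CfsgLib.MathieuOut.D12.cert.fixd = Cfsg.Spor.M12 :=
    CfsgLib.MathieuTwo.K12_eq
  have hW := CfsgLib.MathieuTwo.witness12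
  rw [← hK] at hW ⊢
  refine CfsgLib.MathieuOut.card_out_two CfsgLib.MathieuOut.D12.ok ?_ (by decide +kernel) (by decide +kernel)
    hW (CfsgLib.MathieuOut.central_eq_of_closedOk CfsgLib.MathieuTwo.D12.group_ok CfsgLib.MathieuTwo.D12.closed_ok) CfsgLib.MathieuOut.D12.outer_ok
  rw [hK]
  exact CfsgLib.MathieuOut.card_M12

end Cfsg.Agent.S2061
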