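import Cfsg.Statements.S2062
import Cfsg.Agent.MathieuOut.Cards
import Cfsg.Agent.MathieuOut.Data22

set_option autoImplicit false
open Cfsg

namespace Cfsg.Agent.S2062

/-- The outer automorphism group of the Mathieu group M₂₂ (the permutations in the automorphism group of the length-24 binary code that fix each of two given points) has order 2. -/
theorem result : Nat.card (Cfsg.Out ↥Cfsg.Spor.M22) = 2 := by
  have hK : CfsgLib.Golay.fixGroup CfsgLib.MathieuOut.D22.cert.fixd = Cfsg.Spor.M22 :=
    CfsgLib.MathieuTwo.K22_eq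
  have hW := CfsgLib.MathieuTwo.witness22
  rw [← hK] at hW ⊢
  refine CfsgLib.MathieuOut.card_out_two CfsgLib.MathieuOut.D22.ok ?_ (by decide +kernel) (by decide +kernel)
    hW (CfsgLib.MathieuOut.central_eq_of_closedOk CfsgLib.MathieuTwo.D22.group_ok CfsgLib.MathieuTwo.D22.closed_ok) CfsgLib.MathieuOut.D22.outer_ok
  rw [hK]
  exact CfsgLib.MathieuOut.card_M22

end Cfsg.Agent.S2062
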