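import Cfsg.Statements.S2064
import Cfsg.Agent.MathieuOut.Cards
import Cfsg.Agent.MathieuOut.Data24

set_option autoImplicit false
open Cfsg

namespace Cfsg.Agent.S2064

/-- The outer automorphism group of the Mathieu group M₂₄ (the automorphism group of the length-24 binary code) is trivial: every automorphism is inner. -/
theorem result : Nat.card (Cfsg.Out ↥Cfsg.M24) = 1 := by
  have hK : CfsgLib.Golay.fixGroup CfsgLib.MathieuOut.D24.cert.fixd = Cfsg.M24 :=
    CfsgLib.MathieuTwo.K24_eq
  have hW := CfsgLib.MathieuTwo.witness24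
  rw [← hK] at hW ⊢
  refine CfsgLib.MathieuOut.card_out_one CfsgLib.MathieuOut.D24.ok ?_ (by decide +kernel) (by decide +kernel)
    hW (CfsgLib.MathieuOut.central_eq_of_closedOk CfsgLib.MathieuTwo.D24.group_ok CfsgLib.MathieuTwo.D24.closed_ok) (by decide +kernel)
  rw [hK]
  exact CfsgLib.MathieuOut.card_M24'

end Cfsg.Agent.S2064
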