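import Cfsg.Statements.S2247
-- import your own Cfsg.Agent.* helpers here
import Cfsg.Agent.Sz.Model

set_option autoImplicit false
open Cfsg

namespace Cfsg.Agent.S2247

/-- In the Suzuki group with q = 2^(2m+1), m ≥ 1 (realised as the stabiliser in SL₄ of the Suzuki–Tits ovoid), the normalizer of a Sylow 2-subgroup P is a maximal subgroup and is the only maximal subgroup containing P. -/
theorem result {F : Type*} [Field F] [Fintype F] {m : ℕ} (hm : 1 ≤ m) (hF : Fintype.card F = 2 ^ (2 * m + 1)) (P : Sylow 2 ↥(Cfsg.Sz F m)) :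
    IsCoatom (Subgroup.normalizer ((P : Subgroup ↥(Cfsg.Sz F m)) : Set ↥(Cfsg.Sz F m))) ∧
    ∀ M : Subgroup ↥(Cfsg.Sz F m), IsCoatom M → (P : Subgroup ↥(Cfsg.Sz F m)) ≤ M → M = Subgroup.normalizer ((P : Subgroup ↥(Cfsg.Sz F m)) : Set ↥(Cfsg.Sz F m)) := by
  have h := (⟨hm, hF⟩ : CfsgLib.Sz.Hyp F m)
  have : Fact (Nat.Prime 2) := ⟨Nat.prime_two⟩
  let e := CfsgLib.Sz.equivModel h
  obtain ⟨y, hy⟩ := CfsgLib.Sz.exists_conj_sylow h (P.mapSurjective (f := e.toMonoidHom) e.surjective)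
  let f : ↥(Cfsg.Sz F m) ≃* CfsgLib.Sz.G F m := e.trans (MulAut.conj y⁻¹)
  have hPf : (P : Subgroup ↥(Cfsg.Sz F m)).map f.toMonoidHom = CfsgLib.Sz.Usub h := by
    have hy' : (P : Subgroup ↥(Cfsg.Sz F m)).map e.toMonoidHom = (CfsgLib.Sz.Usub h).map (MulAut.conj y).toMonoidHom := hy
    rw [show f.toMonoidHom = (MulAut.conj y⁻¹).toMonoidHom.comp e.toMonoidHom from rfl, ← Subgroup.map_map, hy',
      Subgroup.map_map]
    convert Subgroup.map_id (CfsgLib.Sz.Usub h) using 2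
    ext x
    simp [mul_assoc]
  have hNf : (Subgroup.normalizer ((P : Subgroup ↥(Cfsg.Sz F m)) : Set ↥(Cfsg.Sz F m))).map f.toMonoidHom = CfsgLib.Sz.borel h := by
    rw [Subgroup.map_equiv_normalizer_eq, hPf, CfsgLib.Sz.normalizer_Usub h]
  have hco : ∀ M : Subgroup ↥(Cfsg.Sz F m), IsCoatom (M.map f.toMonoidHom) ↔ IsCoatom M := fun M =>
    f.mapSubgroup.isCoatom_iff M
  refine ⟨(hco _).1 (by rw [hNf]; exact CfsgLib.Sz.borel_coatom h), fun M hM hPM => ?_⟩
  apply Subgroup.map_injective (f := f.toMonoidHom) f.injective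
  rw [hNf]
  exact CfsgLib.Sz.coatom_unique h ((hco M).2 hM) (by rw [← hPf]; exact Subgroup.map_mono hPM)

end Cfsg.Agent.S2247
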