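import Cfsg.Statements.S2249
import Mathlib
import Cfsg.Agent.GLBlockMono
import Cfsg.Agent.H29.Signs

set_option autoImplicit false
open Cfsg

namespace Cfsg.Agent.S2249

open Matrix
open CfsgLib.GLBlockMono
open scoped Classical

variable {F : Type*} [Field F] [Fintype F] {n : ℕ}

theorem exists_normal {C : Type*} [Fintype C] {cls : Fin n → C} (hc : Function.Surjective cls)
    (h2 : (2 : F) ≠ 0)
    (hle : (Nat.card (GL (Fin n) F)).factorization 2 ≤ (Nat.card (mono F cls)).factorization 2)
    (S : Sylow 2 (GL (Fin n) F)) :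
    ∃ E : Subgroup ↥(S : Subgroup (GL (Fin n) F)), E.Normal ∧ Cfsg.IsElementaryAbelian 2 E ∧
      2 ^ Fintype.card C ≤ Nat.card ↥E := by
  haveI : Fact (Nat.Prime 2) := ⟨Nat.prime_two⟩
  obtain ⟨P⟩ : Nonempty (Sylow 2 (mono F cls)) := inferInstance
  set P0 := (P : Subgroup (mono F cls)).map (mono F cls).subtype with hP0
  have hP0c : Nat.card P0 = 2 ^ (Nat.card (GL (Fin n) F)).factorization 2 := by
    rw [hP0, Subgroup.card_map_of_injective (Subgroup.subtype_injective _), P.card_eq_multiplicity]
    refine congrArg _ (le_antisymm ?_ hle)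
    exact (Nat.factorization_le_iff_dvd Nat.card_pos.ne' Nat.card_pos.ne').2 (Subgroup.card_subgroup_dvd_card _) 2
  set S0 := Sylow.ofCard P0 hP0c
  set D := (signs (F := F) (cls := cls)).range with hD
  have hDsq : ∀ x ∈ D, x ^ 2 = 1 := by
    rintro _ ⟨s, rfl⟩
    rw [← map_pow, show s ^ 2 = 1 from funext fun c => Int.units_sq _, map_one]
  have hDM : D ≤ mono F cls := by rintro _ ⟨s, rfl⟩; exact signs_mem s
  have hconj : ∀ g ∈ mono F cls, ∀ x ∈ D, g * x * g⁻¹ ∈ D := by
    rintro g hg _ ⟨s, rfl⟩
    obtain ⟨t, ht⟩ := signs_conj g hg s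
    exact ⟨t, ht.symm⟩
  haveI : (D.subgroupOf (mono F cls)).Normal := ⟨fun x hx g => hconj g g.2 x hx⟩
  have hDP : D.subgroupOf (mono F cls) ≤ P := IsPGroup.le_sylow_of_normal (fun x => ⟨1, by
    rw [pow_one]; exact Subtype.ext (Subtype.ext (hDsq _ x.2))⟩) P
  have hDS : D ≤ P0 := fun x hx => ⟨⟨x, hDM hx⟩, hDP hx, rfl⟩
  have hS0M : P0 ≤ mono F cls := Subgroup.map_subtype_le _
  obtain ⟨g, hg⟩ := MulAction.exists_smul_eq (GL (Fin n) F) S0 S
  have hS : (S : Subgroup (GL (Fin n) F)) = P0.map (MulAut.conj g).toMonoidHom := by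
    rw [← hg, Sylow.coe_subgroup_smul]
    rfl
  set D' := D.map (MulAut.conj g).toMonoidHom with hD'
  have hD'S : D' ≤ S := by rw [hS]; exact Subgroup.map_mono hDS
  refine ⟨D'.subgroupOf S, ⟨fun x hx s => ?_⟩, ⟨⟨⟨fun x y => ?_⟩⟩, fun x hx => ?_⟩, ?_⟩
  · obtain ⟨d, hd, hdx⟩ := (hx : (x : GL (Fin n) F) ∈ D')
    obtain ⟨t, ht, hts⟩ := (hS ▸ s.2 : (s : GL (Fin n) F) ∈ P0.map (MulAut.conj g).toMonoidHom)
    refine ⟨t * d * t⁻¹, hconj t (hS0M ht) d hd, ?_⟩
    show _ = (s : GL (Fin n) F) * x * (s : GL (Fin n) F)⁻¹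
    rw [map_mul, map_mul, map_inv, hdx, hts]
    rfl
  · obtain ⟨_, ⟨a, rfl⟩, hax⟩ := Subgroup.mem_subgroupOf.1 x.2
    obtain ⟨_, ⟨b, rfl⟩, hby⟩ := Subgroup.mem_subgroupOf.1 y.2
    refine Subtype.ext (Subtype.ext ?_)
    show x.1.1 * y.1.1 = y.1.1 * x.1.1
    rw [← hax, ← hby, ← map_mul, ← map_mul, ← map_mul, ← map_mul, mul_comm]
  · obtain ⟨d, hd, hdx⟩ := (hx : (x : GL (Fin n) F) ∈ D')
    refine Subtype.ext ?_
    rw [Subgroup.coe_pow, show (x : GL (Fin n) F) = (MulAut.conj g).toMonoidHom d from hdx.symm, ← map_pow, hDsq d hd, map_one]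
    rfl
  · rw [Nat.card_congr (Subgroup.subgroupOfEquivOfLe hD'S).toEquiv, hD',
      Subgroup.card_map_of_injective (MulAut.conj g).injective, hD,
      ← Nat.card_congr (MonoidHom.ofInjective (signs_injective (F := F) hc h2)).toEquiv, Nat.card_fun,
      Nat.card_eq_fintype_card, Nat.card_eq_fintype_card, Fintype.card_units_int]

theorem upper (h2 : (2 : F) ≠ 0) (S : Sylow 2 (GL (Fin n) F))
    (E : Subgroup ↥(S : Subgroup (GL (Fin n) F))) (hEn : E.Normal)
    (hE : Cfsg.IsElementaryAbelian 2 E) :
    ∃ (C : Type) (_ : Fintype C) (cls : Fin n → C), Function.Surjective cls ∧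
      Nat.card ↥E ≤ 2 ^ Fintype.card C ∧
      (Nat.card (GL (Fin n) F)).factorization 2 ≤ (Nat.card (mono F cls)).factorization 2 := by
  haveI : Fact (Nat.Prime 2) := ⟨Nat.prime_two⟩
  set E' := E.map (S : Subgroup (GL (Fin n) F)).subtype with hE'
  let ρ : GL (Fin n) F →* Matrix (Fin n) (Fin n) F := Units.coeHom _
  have hT : (ρ '' (E' : Set (GL (Fin n) F))).Finite := (Set.toFinite _).image _
  have hsq : ∀ a ∈ ρ '' (E' : Set (GL (Fin n) F)), a * a = 1 := by
    rintro _ ⟨_, ⟨e, he, rfl⟩, rfl⟩
    rw [← map_mul, ← map_mul, ← sq, hE.2 e he, map_one, map_one]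
  have hcomm : ∀ a ∈ ρ '' (E' : Set (GL (Fin n) F)), ∀ b ∈ ρ '' (E' : Set (GL (Fin n) F)), a * b = b * a := by
    rintro _ ⟨_, ⟨e, he, rfl⟩, rfl⟩ _ ⟨_, ⟨f, hf, rfl⟩, rfl⟩
    haveI := hE.1
    have := congrArg Subtype.val (mul_comm' (⟨e, he⟩ : E) ⟨f, hf⟩)
    rw [← map_mul, ← map_mul, ← map_mul, ← map_mul]
    exact congrArg (fun z : ↥(S : Subgroup (GL (Fin n) F)) => ρ ((S : Subgroup (GL (Fin n) F)).subtype z)) this
  obtain ⟨b, hb⟩ := H29.Signs.exists_eigenbasis h2 _ hT hsq hcomm
  let cls0 : Fin n → ↥E' → Bool := fun i a => H29.Signs.sign ρ E' b a i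
  let k := Fintype.card (Set.range cls0)
  let en : Set.range cls0 ≃ Fin k := Fintype.equivFin _
  let cls : Fin n → Fin k := en ∘ Set.rangeFactorization cls0
  have hc : Function.Surjective cls := en.surjective.comp Set.rangeFactorization_surjective
  refine ⟨Fin k, inferInstance, cls, hc, ?_, ?_⟩
  · rw [Nat.card_congr (E.equivMapOfInjective (S : Subgroup (GL (Fin n) F)).subtype
      (Subgroup.subtype_injective _)).toEquiv]
    refine (Nat.card_le_card_of_injective (fun (a : E') (c : Fin k) => (en.symm c).1 a) ?_).trans (le_of_eq ?_)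
    · intro a a' h
      refine H29.Signs.sign_injective ρ Units.val_injective E' b hb (funext fun i => ?_)
      have := congrFun h (cls i)
      simpa [cls, cls0] using this
    · rw [Nat.card_fun]; simp
  · let Φ : Matrix (Fin n) (Fin n) F ≃ₐ[F] Matrix (Fin n) (Fin n) F :=
      Matrix.toLinAlgEquiv'.trans (LinearMap.toMatrixAlgEquiv b)
    let Ψ : GL (Fin n) F ≃* GL (Fin n) F := Units.mapEquiv Φ.toMulEquiv
    have hΦ : ∀ M j i, Φ M j i = b.repr (M *ᵥ b i) j := fun M j i => by
      simp [Φ, LinearMap.toMatrixAlgEquiv_apply, Matrix.toLinAlgEquiv'_apply]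
    let ε : ↥E' → Fin n → F := fun a i => if cls0 i a then 1 else -1
    have hεe : ∀ (a : E') i, ρ a *ᵥ b i = ε a i • b i := by
      intro a i
      by_cases h : ρ (a : GL (Fin n) F) *ᵥ b i = b i
      · simp [ε, cls0, H29.Signs.sign, h]
      · rcases hb i _ ⟨a, a.2, rfl⟩ with h1 | h1
        · exact absurd h1 h
        · simp [ε, cls0, H29.Signs.sign, h, h1]
    have hΦd : ∀ a : E', Φ (ρ a) = diagonal (ε a) := by
      intro a; ext j i
      rw [hΦ, hεe, map_smul, Finsupp.smul_apply, smul_eq_mul, b.repr_self, diagonal_apply,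
        Finsupp.single_apply]
      by_cases hji : j = i
      · subst hji; simp
      · simp [hji, Ne.symm hji]
    have hpm : (1 : F) ≠ -1 := fun h => h2 (by linear_combination h)
    suffices h : (S : Subgroup (GL (Fin n) F)).map Ψ.toMonoidHom ≤ mono F cls by
      have h1 := Subgroup.card_dvd_of_le h
      rw [← Nat.card_congr ((S : Subgroup (GL (Fin n) F)).equivMapOfInjective Ψ.toMonoidHom Ψ.injective).toEquiv,
        S.card_eq_multiplicity] at h1
      exact (Nat.Prime.pow_dvd_iff_le_factorization Nat.prime_two Nat.card_pos.ne').1 h1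
    rintro _ ⟨g, hg, rfl⟩
    have hcj : ∀ a : E', g⁻¹ * (a : GL (Fin n) F) * g ∈ E' := by
      rintro ⟨_, e, he, rfl⟩
      refine ⟨(⟨g, hg⟩ : ↥(S : Subgroup (GL (Fin n) F)))⁻¹ * e * ⟨g, hg⟩, ?_, rfl⟩
      simpa using hEn.conj_mem e he (⟨g, hg⟩ : ↥(S : Subgroup (GL (Fin n) F)))⁻¹
    let σ : ↥E' → ↥E' := fun a => ⟨_, hcj a⟩
    have hσ : Function.Surjective σ := by
      refine Finite.surjective_of_injective fun a a' h => Subtype.ext ?_
      have := congrArg Subtype.val h
      simpa [σ] using this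
    let τ : (↥E' → Bool) → ↥E' → Bool := fun χ a => χ (σ a)
    set G : Matrix (Fin n) (Fin n) F := Φ (ρ g) with hG
    have hrel : ∀ i j, G j i ≠ 0 → cls0 j = τ (cls0 i) := by
      intro i j hne
      funext a
      have h1 : diagonal (ε a) * G = G * diagonal (ε (σ a)) := by
        rw [← hΦd, ← hΦd, hG, ← map_mul, ← map_mul, ← map_mul, ← map_mul]
        congr 2
        simp [σ, mul_assoc]
      have h3 := congrFun (congrFun h1 j) i
      rw [diagonal_mul, mul_diagonal, mul_comm] at h3
      have h4 : ε a j = ε (σ a) i := mul_left_cancel₀ hne h3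
      simp only [ε, τ] at h4 ⊢
      cases hA : cls0 j a <;> cases hB : cls0 i (σ a) <;> simp [hA, hB] at h4 ⊢
      · exact hpm h4.symm
      · exact hpm h4
    have hrange : ∀ χ : Set.range cls0, τ χ.1 ∈ Set.range cls0 := by
      rintro ⟨_, i, rfl⟩
      obtain ⟨j, hj⟩ := exists_ne_zero (Ψ g) i
      exact ⟨j, hrel i j hj⟩
    let τ' : Set.range cls0 → Set.range cls0 := fun χ => ⟨τ χ.1, hrange χ⟩
    have hτ : Function.Bijective τ' := by
      refine Finite.injective_iff_bijective.1 fun χ χ' h => Subtype.ext ?_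
      exact hσ.injective_comp_right (congrArg Subtype.val h)
    refine ⟨en.permCongr (Equiv.ofBijective τ' hτ), fun i j hne => ?_⟩
    show en _ = en ((Equiv.ofBijective τ' hτ) (en.symm (en _)))
    rw [Equiv.symm_apply_apply]
    exact congrArg en (Subtype.ext (hrel i j hne))

/-- The normal 2-rank of the general linear group over a finite field of odd order q: for n ≥ 1 and S a Sylow 2-subgroup of GL_n(F), the largest rank of an elementary abelian subgroup of S that is normal in S equals n when q ≡ 1 (mod 4) and ⌊(n + 1)/2⌋ when q ≡ 3 (mod 4). -/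
theorem result {F : Type*} [Field F] [Fintype F] {q : ℕ} (hF : Fintype.card F = q) (hodd : Odd q) (n : ℕ) (hn : 1 ≤ n) (S : Sylow 2 (Matrix.GeneralLinearGroup (Fin n) F)) :
    (q % 4 = 1 → ((∃ E : Subgroup ↥(S : Subgroup (Matrix.GeneralLinearGroup (Fin n) F)), E.Normal ∧ Cfsg.IsElementaryAbelian 2 E ∧ 2 ^ (n) ≤ Nat.card ↥E) ∧
      ∀ E : Subgroup ↥(S : Subgroup (Matrix.GeneralLinearGroup (Fin n) F)), E.Normal → Cfsg.IsElementaryAbelian 2 E → Nat.card ↥E ≤ 2 ^ (n))) ∧
    (q % 4 = 3 → ((∃ E : Subgroup ↥(S : Subgroup (Matrix.GeneralLinearGroup (Fin n) F)), E.Normal ∧ Cfsg.IsElementaryAbelian 2 E ∧ 2 ^ ((n + 1) / 2) ≤ Nat.card ↥E) ∧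
      ∀ E : Subgroup ↥(S : Subgroup (Matrix.GeneralLinearGroup (Fin n) F)), E.Normal → Cfsg.IsElementaryAbelian 2 E → Nat.card ↥E ≤ 2 ^ ((n + 1) / 2))) := by
  classical
  subst hF
  haveI : Fact (Nat.Prime 2) := ⟨Nat.prime_two⟩
  have h2 : (2 : F) ≠ 0 := by
    have : ringChar F ≠ 2 := fun h => by
      have := FiniteField.even_card_iff_char_two.mp h
      rcases hodd with ⟨c, hc⟩; omega
    exact Ring.two_ne_zero this
  have hfa := factorization_GL (F := F) hodd n
  rw [factorization_GL_two hodd] at hfa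
  constructor <;> intro hq
  · have hb : (Fintype.card F + 1).factorization 2 = 1 := by
      refine le_antisymm ?_ ((Nat.Prime.pow_dvd_iff_le_factorization Nat.prime_two (by omega)).1 (by omega))
      by_contra hlt
      have := (Nat.Prime.pow_dvd_iff_le_factorization Nat.prime_two (n := Fintype.card F + 1) (k := 2)
        (by omega)).2 (by omega)
      omega
    rw [hb] at hfa
    refine ⟨?_, fun E hEn hE => ?_⟩
    · have hc : Function.Surjective (id : Fin n → Fin n) := Function.surjective_id
      have hd : ∀ c, dim (id : Fin n → Fin n) c = 1 := fun c => by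
        simp [dim]
      have hst : stab (id : Fin n → Fin n) = ⊤ := eq_top_iff.2 fun π _ c => by rw [hd, hd]
      have := exists_normal hc h2 ?_ S
      · simpa using this
      rw [factorization_mono hc, hst, Nat.card_congr Subgroup.topEquiv.toEquiv, Nat.card_perm, Nat.card_fin,
        Finset.sum_congr rfl fun c _ => by rw [hd c], Finset.sum_const, Finset.card_univ, Fintype.card_fin,
        smul_eq_mul]
      have h1 := factorization_GL (F := F) hodd 1
      simp only [show (1 : ℕ) / 2 = 0 from rfl, mul_zero, add_zero, one_mul, Nat.factorial_one,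
        Nat.factorization_one, Finsupp.zero_apply] at h1
      rw [h1]
      nlinarith
    · obtain ⟨C, _, cls, hc, hcard, -⟩ := upper h2 S E hEn hE
      refine hcard.trans (Nat.pow_le_pow_right (by norm_num) ?_)
      simpa using Fintype.card_le_of_surjective cls hc
  · have ha : (Fintype.card F - 1).factorization 2 = 1 := by
      refine le_antisymm ?_ ((Nat.Prime.pow_dvd_iff_le_factorization Nat.prime_two (by omega)).1 (by omega))
      by_contra hlt
      have := (Nat.Prime.pow_dvd_iff_le_factorization Nat.prime_two (n := Fintype.card F - 1) (k := 2)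
        (by omega)).2 (by omega)
      omega
    refine ⟨?_, fun E hEn hE => ?_⟩
    · let cls : Fin n → Fin ((n + 1) / 2) := fun i => ⟨i / 2, by omega⟩
      have hc : Function.Surjective cls := fun c =>
        ⟨⟨2 * (c : ℕ), by omega⟩, Fin.ext (by show 2 * (c : ℕ) / 2 = c; omega)⟩
      have hd : ∀ c, dim cls c = min 2 (n - 2 * (c : ℕ)) := fun c => by
        rw [← Nat.card_fin (min 2 (n - 2 * (c : ℕ)))]
        exact Nat.card_congr
          { toFun := fun x => ⟨(x.1 : ℕ) - 2 * c, by
              have h1 : (x.1 : ℕ) / 2 = c := congrArg Fin.val x.2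
              have := x.1.2
              omega⟩
            invFun := fun y => ⟨⟨2 * (c : ℕ) + y, by omega⟩, Fin.ext (by
              show (2 * (c : ℕ) + y) / 2 = c; omega)⟩
            left_inv := fun x => by
              have h1 : (x.1 : ℕ) / 2 = c := congrArg Fin.val x.2
              apply Subtype.ext; apply Fin.ext
              show 2 * (c : ℕ) + ((x.1 : ℕ) - 2 * c) = x.1
              omega
            right_inv := fun y => Fin.ext (by show 2 * (c : ℕ) + y - 2 * c = y; omega) }
      have := exists_normal hc h2 ?_ S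
      · simpa using this
      rw [factorization_mono hc]
      have hstab : (n / 2).factorial.factorization 2 ≤ (Nat.card (stab cls)).factorization 2 := by
        let p : Fin ((n + 1) / 2) → Prop := fun c => (c : ℕ) < n / 2
        have hle : (Equiv.Perm.ofSubtype (p := p)).range ≤ stab cls := by
          rintro _ ⟨π, rfl⟩ c
          by_cases h : p c
          · have h' : (Equiv.Perm.ofSubtype π) c = (π ⟨c, h⟩ : Fin ((n + 1) / 2)) :=
              Equiv.Perm.ofSubtype_apply_coe π ⟨c, h⟩
            have hq' : ((π ⟨c, h⟩).1 : ℕ) < n / 2 := (π ⟨c, h⟩).2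
            have hc' : (c : ℕ) < n / 2 := h
            rw [h', hd, hd]
            omega
          · rw [Equiv.Perm.ofSubtype_apply_of_not_mem π h]
        have h1 := Subgroup.card_dvd_of_le hle
        rw [← Nat.card_congr (MonoidHom.ofInjective Equiv.Perm.ofSubtype_injective).toEquiv, Nat.card_perm,
          show Nat.card {c // p c} = n / 2 from (Nat.card_congr
            { toFun := fun x => (⟨(x.1 : ℕ), x.2⟩ : Fin (n / 2))
              invFun := fun y => ⟨⟨(y : ℕ), by omega⟩, y.2⟩
              left_inv := fun x => rfl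
              right_inv := fun y => rfl }).trans (Nat.card_fin _)] at h1
        exact (Nat.factorization_le_iff_dvd (Nat.factorial_pos _).ne' Nat.card_pos.ne').2 h1 2
      have hsum : (n / 2) * (2 * (Fintype.card F - 1).factorization 2 + (Fintype.card F + 1).factorization 2) +
          n % 2 ≤ ∑ c, (Nat.card (GL (Fin (dim cls c)) F)).factorization 2 := by
        have hval : ∀ c, (Nat.card (GL (Fin (dim cls c)) F)).factorization 2 =
            if (c : ℕ) < n / 2 then 2 * (Fintype.card F - 1).factorization 2 +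
              (Fintype.card F + 1).factorization 2 else 1 := fun c => by
          rw [hd c]
          split
          · rw [show min 2 (n - 2 * (c : ℕ)) = 2 by omega, factorization_GL_two hodd]
          · rw [show min 2 (n - 2 * (c : ℕ)) = 1 by omega]
            have h1 := factorization_GL (F := F) hodd 1
            simp only [show (1 : ℕ) / 2 = 0 from rfl, mul_zero, add_zero, one_mul, Nat.factorial_one,
              Nat.factorization_one, Finsupp.zero_apply] at h1
            omega
        rw [Finset.sum_congr rfl fun c _ => hval c,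
          Fin.sum_univ_eq_sum_range (fun m => if m < n / 2 then 2 * (Fintype.card F - 1).factorization 2 +
            (Fintype.card F + 1).factorization 2 else 1),
          show (n + 1) / 2 = n / 2 + n % 2 by omega, Finset.sum_range_add,
          Finset.sum_congr rfl fun m hm => if_pos (Finset.mem_range.1 hm),
          Finset.sum_congr rfl fun m (_ : m ∈ Finset.range (n % 2)) => if_neg (show ¬ n / 2 + m < n / 2 by omega)]
        simp
      have hnf : n.factorial.factorization 2 = n / 2 + (n / 2).factorial.factorization 2 := by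
        rw [Nat.factorization_def _ Nat.prime_two, Nat.factorization_def _ Nat.prime_two]
        conv_lhs => rw [← Nat.div_add_mod n 2]
        rw [padicValNat_factorial_mul_add _ (Nat.mod_lt n (by norm_num)), padicValNat_factorial_mul]
        ring
      rw [ha] at hfa hsum
      have hn2 := Nat.div_add_mod n 2
      nlinarith
    · obtain ⟨C, _, cls, hc, hcard, hle⟩ := upper h2 S E hEn hE
      exact hcard.trans (Nat.pow_le_pow_right (by norm_num) (card_classes_le hc hodd hq hle))

end Cfsg.Agent.S2249
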