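import Cfsg.Statements.S4624
import Cfsg.Agent.Sylow2Ab.Basic
import Cfsg.Agent.S0261
import Cfsg.Agent.SL2.Basic
import Cfsg.Agent.SpGeom.Order
import Cfsg.Agent.H29.SpDegree.Blocks

set_option autoImplicit false
open Cfsg

namespace Cfsg.Agent.S4624

open Matrix CfsgLib.H29.SpDegree

variable {F : Type*} [Field F] {n : ℕ}

/-- The permutation matrix of `σ`. -/
def pm (σ : Equiv.Perm (Fin n)) : Matrix (Fin n) (Fin n) F := Matrix.of fun i j => if σ j = i then 1 else 0

theorem pm_one : (pm 1 : Matrix (Fin n) (Fin n) F) = 1 := by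
  ext i j
  by_cases h : i = j
  · subst h; simp [pm]
  · simp [pm, h, Ne.symm h]

theorem pm_mul (σ τ : Equiv.Perm (Fin n)) : (pm (σ * τ) : Matrix (Fin n) (Fin n) F) = pm σ * pm τ := by
  ext i k
  rw [Matrix.mul_apply, Finset.sum_eq_single (τ k)]
  · simp only [pm, Matrix.of_apply, if_true, mul_one, Equiv.Perm.mul_apply]
    congr 1
  · intro j _ hj
    simp [pm, Ne.symm hj]
  · simp

theorem pm_transpose (σ : Equiv.Perm (Fin n)) : (pm σ : Matrix (Fin n) (Fin n) F)ᵀ = pm σ⁻¹ := by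
  ext i j
  show (if σ i = j then (1 : F) else 0) = if σ⁻¹ j = i then 1 else 0
  refine if_congr ?_ rfl rfl
  rw [Equiv.Perm.inv_eq_iff_eq]
  exact eq_comm

theorem pm_diagonal (σ : Equiv.Perm (Fin n)) (f : Fin n → F) :
    pm σ * diagonal f * pm σ⁻¹ = diagonal fun i => f (σ.symm i) := by
  ext i k
  rw [Matrix.mul_apply, Finset.sum_eq_single (σ.symm k)]
  · rw [mul_diagonal]
    by_cases h : i = k
    · subst h
      rw [diagonal_apply_eq]
      simp [pm, Equiv.Perm.inv_def]
    · simp [pm, h, Ne.symm h, Equiv.Perm.inv_def]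
  · intro j _ hj
    simp [pm, Equiv.Perm.inv_def, Ne.symm hj]
  · simp

/-- Permutations of the hyperbolic pairs. -/
def permHom : Equiv.Perm (Fin n) →* symplecticGroup (Fin n) F :=
  MonoidHom.mk' (fun σ => ⟨fromBlocks (pm σ) 0 0 (pm σ), by
    rw [SymplecticGroup.mem_iff, J, fromBlocks_transpose, fromBlocks_multiply, fromBlocks_multiply]
    simp [pm_transpose, ← pm_mul, pm_one]⟩) fun a b => Subtype.ext (by
      show fromBlocks (pm (a * b)) 0 0 (pm (a * b)) = fromBlocks (pm a) 0 0 (pm a) * fromBlocks (pm b) 0 0 (pm b)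
      simp [fromBlocks_multiply, pm_mul])

theorem permHom_conj (σ : Equiv.Perm (Fin n)) (z : Fin n → SpecialLinearGroup (Fin 2) F) :
    permHom σ * blockHom z * (permHom σ)⁻¹ = blockHom (fun i => z (σ.symm i)) := by
  rw [← map_inv]
  refine Subtype.ext ?_
  show fromBlocks (pm σ) 0 0 (pm σ) * blockMat z * fromBlocks (pm σ⁻¹) 0 0 (pm σ⁻¹) = blockMat _
  simp [blockMat, fromBlocks_multiply, pm_diagonal]

theorem eq_one_of_block (σ : Equiv.Perm (Fin n)) (z : Fin n → SpecialLinearGroup (Fin 2) F)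
    (h : permHom σ = blockHom z) : σ = 1 ∧ z = 1 := by
  have hσ : σ = 1 := by
    refine Equiv.ext fun j => ?_
    by_contra hj
    have h1 := congrFun (congrFun (congrArg Subtype.val h) (Sum.inl (σ j))) (Sum.inl j)
    change fromBlocks (pm σ) 0 0 (pm σ) (Sum.inl (σ j)) (Sum.inl j) = blockMat z (Sum.inl (σ j)) (Sum.inl j) at h1
    simp only [blockMat, fromBlocks_apply₁₁, diagonal_apply_ne _ (show σ j ≠ j from hj)] at h1
    simp [pm] at h1
  refine ⟨hσ, blockHom_injective ?_⟩
  rw [← h, hσ, map_one, map_one]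

theorem factorization_card_Sp_le {F : Type*} [Field F] [Fintype F] (hF : Odd (Fintype.card F)) (n : ℕ)
    (Q : Sylow 2 (SpecialLinearGroup (Fin 2) F)) {a : ℕ} (ha : Nat.card Q = 2 ^ a) :
    (Nat.card (symplecticGroup (Fin n) F)).factorization 2 ≤ n * a + n.factorial.factorization 2 := by
  haveI : Fact (Nat.Prime 2) := ⟨Nat.prime_two⟩
  set q := Fintype.card F with hq
  have hq1 : 1 < q := Fintype.one_lt_card
  have hq2 : ¬ 2 ∣ q := fun h => Nat.not_odd_iff_even.2 (even_iff_two_dvd.2 h) hF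
  have hv : ∀ i : ℕ, (q ^ (2 * (i + 1)) - 1).factorization 2 =
      (q ^ 2 - 1).factorization 2 + (i + 1).factorization 2 := by
    intro i
    have h1 := padicValNat.pow_two_sub_pow (x := q) (y := 1) hq1 (by
      obtain ⟨t, ht⟩ := hF; exact ⟨t, by omega⟩) hq2 (n := 2 * (i + 1)) (by omega) ⟨i + 1, by ring⟩
    have h2 := padicValNat.pow_two_sub_pow (x := q) (y := 1) hq1 (by
      obtain ⟨t, ht⟩ := hF; exact ⟨t, by omega⟩) hq2 (n := 2) (by omega) ⟨1, rfl⟩
    rw [one_pow, padicValNat.mul (by omega) (by omega), padicValNat.self (by norm_num)] at h1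
    rw [one_pow, padicValNat.self (by norm_num)] at h2
    rw [Nat.factorization_def _ Nat.prime_two, Nat.factorization_def _ Nat.prime_two,
      Nat.factorization_def _ Nat.prime_two]
    omega
  have hqf : q.factorization 2 = 0 := Nat.factorization_eq_zero_of_not_dvd hq2
  have ha' : a = (q ^ 2 - 1).factorization 2 := by
    have h := Q.card_eq_multiplicity
    rw [ha] at h
    rw [Nat.pow_right_injective le_rfl h, CfsgLib.SL2.card_SL2, Nat.factorization_mul (by omega) (by
      have : 1 < Fintype.card F ^ 2 := Nat.one_lt_pow (by omega) hq1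
      omega)]
    simp [hqf, ← hq]
  rw [CfsgLib.SpGeom.card_Sp, ← hq]
  have hpos : ∀ i ∈ Finset.range n, q ^ (2 * (i + 1)) - 1 ≠ 0 := fun i _ => by
    have : 1 < q ^ (2 * (i + 1)) := Nat.one_lt_pow (by omega) hq1
    omega
  rw [Nat.factorization_mul (pow_ne_zero _ (by omega)) (Finset.prod_ne_zero_iff.2 hpos),
    Nat.factorization_prod hpos, Nat.factorization_pow, ha']
  simp only [Finsupp.add_apply, Finsupp.smul_apply, Finsupp.finsetSum_apply, hqf, smul_zero, zero_add, hv,
    Finset.sum_add_distrib, Finset.sum_const, Finset.card_range, smul_eq_mul, mul_zero, zero_add]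
  refine Nat.add_le_add_left ?_ _
  rw [← Finset.prod_range_add_one_eq_factorial, Nat.factorization_prod (fun i _ => by omega),
    Finsupp.finsetSum_apply]

theorem neg_one_mem_sylow {F : Type*} [Field F] [Fintype F] (Q : Sylow 2 (SpecialLinearGroup (Fin 2) F)) :
    (-1 : SpecialLinearGroup (Fin 2) F) ∈ (Q : Subgroup (SpecialLinearGroup (Fin 2) F)) := by
  haveI : Fact (Nat.Prime 2) := ⟨Nat.prime_two⟩
  have hp : IsPGroup 2 (Subgroup.zpowers (-1 : SpecialLinearGroup (Fin 2) F)) := by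
    intro g
    obtain ⟨m, hm⟩ := g.2
    refine ⟨1, Subtype.ext ?_⟩
    rw [Subgroup.coe_pow, ← hm, pow_one, ← zpow_natCast, ← _root_.zpow_mul, mul_comm, _root_.zpow_mul, zpow_natCast,
      sq, neg_mul_neg, one_mul, _root_.one_zpow]
    rfl
  haveI : (Subgroup.zpowers (-1 : SpecialLinearGroup (Fin 2) F)).Normal := by
    constructor
    rintro _ ⟨m, rfl⟩ g
    refine ⟨m, ?_⟩
    show (-1 : SpecialLinearGroup (Fin 2) F) ^ m = g * (-1) ^ m * g⁻¹
    rw [((Commute.neg_one_right g).zpow_right m).eq, mul_inv_cancel_right]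
  obtain ⟨k, hk⟩ := hp.exists_le_sylow
  obtain ⟨g, rfl⟩ := MulAction.exists_smul_eq (SpecialLinearGroup (Fin 2) F) k Q
  exact ⟨-1, hk (Subgroup.mem_zpowers _), by simp⟩

/-- A Sylow `2`-subgroup: planes times a Sylow `2`-subgroup of the permutations. -/
theorem exists_sylow_prod {F : Type*} [Field F] [Fintype F] (hF : Odd (Fintype.card F)) (n : ℕ)
    (Q : Sylow 2 (SpecialLinearGroup (Fin 2) F)) (T : Subgroup (Equiv.Perm (Fin n))) (hTp : IsPGroup 2 T)
    (hTc : Nat.card T = 2 ^ n.factorial.factorization 2) :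
    ∃ P : Sylow 2 (symplecticGroup (Fin n) F),
      (Subgroup.pi Set.univ fun _ => (Q : Subgroup _)).map (blockHom (F := F) (n := n)) ⊔ T.map permHom ≤ (P : Subgroup _) ∧
      (P : Subgroup _) ≤ (Subgroup.pi Set.univ fun _ => (Q : Subgroup _)).map (blockHom (F := F) (n := n)) ⊔ T.map permHom := by
  classical
  haveI : Fact (Nat.Prime 2) := ⟨Nat.prime_two⟩
  set PI : Subgroup (Fin n → SpecialLinearGroup (Fin 2) F) := Subgroup.pi Set.univ fun _ => (Q : Subgroup _)
  set A := PI.map (blockHom (F := F) (n := n)) with hA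
  set B := T.map (permHom (F := F) (n := n)) with hB
  obtain ⟨a, ha⟩ := IsPGroup.iff_card.1 Q.2
  have hPic : Nat.card PI = 2 ^ (n * a) := by
    rw [Nat.card_congr ({ toFun := fun z i => ⟨z.1 i, z.2 i (Set.mem_univ i)⟩
                          invFun := fun z => ⟨fun i => z i, fun i _ => (z i).2⟩
                          left_inv := fun z => rfl
                          right_inv := fun z => rfl } : PI ≃ (Fin n → ↥(Q : Subgroup _))),
      Nat.card_fun, ha, Nat.card_fin, ← pow_mul, mul_comm]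
  have hpA : IsPGroup 2 A := (IsPGroup.of_card hPic).map _
  have hnorm : B ≤ Subgroup.normalizer (A : Set (symplecticGroup (Fin n) F)) := by
    rintro _ ⟨σ, -, rfl⟩
    rw [Subgroup.mem_normalizer_iff_map_conj_eq]
    refine Subgroup.eq_of_le_of_card_ge ?_ (Subgroup.card_map_of_injective (MulAut.conj _).injective).ge
    rintro _ ⟨_, ⟨z, hz, rfl⟩, rfl⟩
    show permHom σ * blockHom z * (permHom σ)⁻¹ ∈ A
    rw [permHom_conj]
    exact Subgroup.mem_map_of_mem _ fun i _ => hz _ (Set.mem_univ _)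
  obtain ⟨P, hP⟩ := (hpA.to_sup_of_normal_left' (hTp.map _) hnorm).exists_le_sylow
  refine ⟨P, hP, le_of_eq (Subgroup.eq_of_le_of_card_ge hP ?_).symm⟩
  rw [P.card_eq_multiplicity]
  refine le_trans (Nat.pow_le_pow_right two_pos (factorization_card_Sp_le hF n Q ha)) ?_
  rw [pow_add, ← hPic, ← hTc]
  rw [← Nat.card_prod]
  refine Nat.card_le_card_of_injective (fun q : PI × T => (⟨blockHom (q.1 : Fin n → _) * permHom (q.2 : Equiv.Perm (Fin n)),
    Subgroup.mul_mem_sup (Subgroup.mem_map_of_mem _ q.1.2) (Subgroup.mem_map_of_mem _ q.2.2)⟩ :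
      ↥(A ⊔ B : Subgroup _))) ?_
  intro q q' h
  have h' := congrArg Subtype.val h
  have h2 : permHom (F := F) ((q.2 : Equiv.Perm (Fin n)) * (q'.2 : Equiv.Perm (Fin n))⁻¹) =
      blockHom ((q.1 : Fin n → SpecialLinearGroup (Fin 2) F)⁻¹ * (q'.1 : Fin n → SpecialLinearGroup (Fin 2) F)) := by
    rw [map_mul, map_inv, map_mul, map_inv, eq_inv_mul_iff_mul_eq, ← mul_assoc, mul_inv_eq_iff_eq_mul]
    exact h'
  obtain ⟨h3, h4⟩ := eq_one_of_block _ _ h2
  rw [mul_inv_eq_one] at h3
  rw [inv_mul_eq_one] at h4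
  exact Prod.ext (Subtype.ext h4) (Subtype.ext h3)

/-- Let F be a finite field of odd order and n ≥ 1. A Sylow 2-subgroup P of the symplectic group Sp_{2n}(F) has P/P' elementary abelian: the square of every element of P lies in the derived subgroup of P. -/
theorem result {F : Type*} [Field F] [Fintype F] (hF : Odd (Fintype.card F)) (n : ℕ) (hn : 1 ≤ n) (P : Sylow 2 (Matrix.symplecticGroup (Fin n) F)) :
    ∀ x : (P : Subgroup (Matrix.symplecticGroup (Fin n) F)), x ^ 2 ∈ commutator (P : Subgroup (Matrix.symplecticGroup (Fin n) F)) := by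
  classical
  haveI : Fact (Nat.Prime 2) := ⟨Nat.prime_two⟩
  obtain ⟨Q⟩ : Nonempty (Sylow 2 (SpecialLinearGroup (Fin 2) F)) := inferInstance
  obtain ⟨k, hk, ⟨e⟩⟩ := Cfsg.Agent.S0261.result hF Q
  obtain ⟨S, hSg, hSp, hSc⟩ := Cfsg.Agent.S4623.exists_gen 2 n
  set PI : Subgroup (Fin n → SpecialLinearGroup (Fin 2) F) := Subgroup.pi Set.univ fun _ => (Q : Subgroup _)
  set A := PI.map (blockHom (F := F) (n := n)) with hA
  set B := S.map (permHom (F := F) (n := n)) with hB
  have hgA : CfsgLib.Sylow2Ab.GenSq A := by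
    have he : A = ⨆ i, (Q : Subgroup _).map ((blockHom (F := F) (n := n)).comp
        (MonoidHom.mulSingle (fun _ : Fin n => SpecialLinearGroup (Fin 2) F) i)) := by
      apply le_antisymm
      · rw [hA, Subgroup.map_le_iff_le_comap]
        intro z hz
        refine Subgroup.pi_mem_of_mulSingle_mem z fun i => ?_
        exact Subgroup.mem_iSup_of_mem i ⟨z i, hz i (Set.mem_univ i), rfl⟩
      · refine iSup_le fun i => ?_
        rintro _ ⟨q, hq, rfl⟩
        refine Subgroup.mem_map_of_mem _ fun j _ => ?_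
        rw [MonoidHom.mulSingle_apply]
        by_cases h : j = i
        · subst h; rw [Pi.mulSingle_eq_same]; exact hq
        · rw [Pi.mulSingle_eq_of_ne h]; exact (Q : Subgroup (SpecialLinearGroup (Fin 2) F)).one_mem
    rw [he]
    exact CfsgLib.Sylow2Ab.genSq_iSup fun i =>
      CfsgLib.Sylow2Ab.genSq_map (CfsgLib.Sylow2Ab.genSq_of_quaternion hk e) _
  have hgB : CfsgLib.Sylow2Ab.GenSq B :=
    CfsgLib.Sylow2Ab.genSq_map (CfsgLib.Sylow2Ab.genSq_of_genP hSg) _
  obtain ⟨a, ha⟩ := IsPGroup.iff_card.1 Q.2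
  have hPic : Nat.card PI = 2 ^ (n * a) := by
    rw [Nat.card_congr ({ toFun := fun z i => ⟨z.1 i, z.2 i (Set.mem_univ i)⟩
                          invFun := fun z => ⟨fun i => z i, fun i _ => (z i).2⟩
                          left_inv := fun z => rfl
                          right_inv := fun z => rfl } : PI ≃ (Fin n → ↥(Q : Subgroup _))),
      Nat.card_fun, ha, Nat.card_fin, ← pow_mul, mul_comm]
  have hpA : IsPGroup 2 A := (IsPGroup.of_card hPic).map _
  have hnorm : B ≤ Subgroup.normalizer (A : Set (symplecticGroup (Fin n) F)) := by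
    rintro _ ⟨σ, -, rfl⟩
    rw [Subgroup.mem_normalizer_iff_map_conj_eq]
    refine Subgroup.eq_of_le_of_card_ge ?_ (Subgroup.card_map_of_injective (MulAut.conj _).injective).ge
    rintro _ ⟨_, ⟨z, hz, rfl⟩, rfl⟩
    show permHom σ * blockHom z * (permHom σ)⁻¹ ∈ A
    rw [permHom_conj]
    exact Subgroup.mem_map_of_mem _ fun i _ => hz _ (Set.mem_univ _)
  have hp : IsPGroup 2 (A ⊔ B : Subgroup _) := hpA.to_sup_of_normal_left' (hSp.map _) hnorm
  refine CfsgLib.Sylow2Ab.sylow_prop (CfsgLib.Sylow2Ab.genSq_sup hgA hgB) hp ?_ P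
  have h1 : Nat.card PI * Nat.card S ≤ Nat.card (A ⊔ B : Subgroup _) := by
    rw [← Nat.card_prod]
    refine Nat.card_le_card_of_injective (fun q : PI × S => (⟨blockHom (q.1 : Fin n → _) * permHom (q.2 : Equiv.Perm (Fin n)),
      Subgroup.mul_mem_sup (Subgroup.mem_map_of_mem _ q.1.2) (Subgroup.mem_map_of_mem _ q.2.2)⟩ :
        ↥(A ⊔ B : Subgroup _))) ?_
    intro q q' h
    have h' := congrArg Subtype.val h
    have h2 : permHom (F := F) ((q.2 : Equiv.Perm (Fin n)) * (q'.2 : Equiv.Perm (Fin n))⁻¹) =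
        blockHom ((q.1 : Fin n → SpecialLinearGroup (Fin 2) F)⁻¹ * (q'.1 : Fin n → SpecialLinearGroup (Fin 2) F)) := by
      rw [map_mul, map_inv, map_mul, map_inv, eq_inv_mul_iff_mul_eq, ← mul_assoc, mul_inv_eq_iff_eq_mul]
      exact h'
    obtain ⟨h3, h4⟩ := eq_one_of_block _ _ h2
    rw [mul_inv_eq_one] at h3
    rw [inv_mul_eq_one] at h4
    exact Prod.ext (Subtype.ext h4) (Subtype.ext h3)
  refine le_trans ?_ h1
  rw [hPic, hSc, ← pow_add]
  refine Nat.pow_le_pow_right two_pos ?_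
  exact factorization_card_Sp_le hF n Q ha

end Cfsg.Agent.S4624
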