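import Cfsg.Statements.S2272
import Cfsg.Agent.TraceClass.Basic

set_option autoImplicit false
open Cfsg

namespace Cfsg.Agent.S2272

/-- Let F be a finite field and d ≥ 3, and let a, b be non-identity elements of PSL_d(F). Then the product of the conjugacy classes of a and b is not a single conjugacy class: there are conjugates a′ of a and b′ of b such that a′b′ is not conjugate to ab. -/
theorem result {F : Type*} [Field F] [Fintype F] (d : ℕ) (hd : 3 ≤ d)
    (a b : Matrix.ProjectiveSpecialLinearGroup (Fin d) F) (ha : a ≠ 1) (hb : b ≠ 1) :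
    ∃ g h : Matrix.ProjectiveSpecialLinearGroup (Fin d) F, ¬ IsConj (a * b) (g * a * g⁻¹ * (h * b * h⁻¹)) := by
  classical
  by_contra hcon
  push Not at hcon
  obtain ⟨A, rfl⟩ := QuotientGroup.mk'_surjective (Subgroup.center (Matrix.SpecialLinearGroup (Fin d) F)) a
  obtain ⟨B, rfl⟩ := QuotientGroup.mk'_surjective (Subgroup.center (Matrix.SpecialLinearGroup (Fin d) F)) b
  set π := QuotientGroup.mk' (Subgroup.center (Matrix.SpecialLinearGroup (Fin d) F)) with hπ
  have hns : ∀ C : Matrix.SpecialLinearGroup (Fin d) F, π C ≠ 1 → CfsgLib.TraceClass.NS C.1 := by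
    rintro C hC ⟨c, hc⟩
    refine hC ((QuotientGroup.eq_one_iff C).mpr (Subgroup.mem_center_iff.mpr fun X => Subtype.ext ?_))
    show X.1 * C.1 = C.1 * X.1
    rw [hc]; simp
  have htr : ∀ g : Matrix.SpecialLinearGroup (Fin d) F, ∃ μ : F, μ ≠ 0 ∧
      (A * (g * B * g⁻¹)).1.trace = μ * (A * B).1.trace := by
    intro g
    obtain ⟨c, hc⟩ := isConj_iff.mp (hcon 1 (π g))
    obtain ⟨w, rfl⟩ := QuotientGroup.mk'_surjective _ c
    have e : π (w * (A * B) * w⁻¹) = π (A * (g * B * g⁻¹)) := by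
      simpa [map_mul, map_inv, hπ] using hc
    obtain ⟨z, hz, hze⟩ := (QuotientGroup.mk'_eq_mk' _).mp e
    obtain ⟨μ, hμ, hμz⟩ := Matrix.SpecialLinearGroup.mem_center_iff.mp hz
    refine ⟨μ, ?_, ?_⟩
    · rintro rfl
      rw [Fintype.card_fin, zero_pow (by omega)] at hμ
      exact zero_ne_one hμ
    · rw [← hze, Matrix.SpecialLinearGroup.coe_mul, ← hμz, Matrix.SpecialLinearGroup.coe_mul,
        Matrix.SpecialLinearGroup.coe_mul, Matrix.scalar_apply,
        ← Matrix.smul_one_eq_diagonal, Matrix.mul_smul, mul_one, Matrix.trace_smul, smul_eq_mul,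
        Matrix.trace_mul_cycle, ← Matrix.SpecialLinearGroup.coe_mul, inv_mul_cancel,
        Matrix.SpecialLinearGroup.coe_one, one_mul]
  have hA := hns A ha
  have hB := hns B hb
  obtain ⟨g₁, g₂, h1, h2⟩ : ∃ g₁ g₂ : Matrix.SpecialLinearGroup (Fin d) F,
      (A * (g₁ * B * g₁⁻¹)).1.trace = 0 ∧ (A * (g₂ * B * g₂⁻¹)).1.trace ≠ 0 := by
    by_cases hq : CfsgLib.TraceClass.Quad B.1
    · obtain ⟨g₁, g₂, h1, h2⟩ := CfsgLib.TraceClass.values_of_quad hd B A hB hA hq
      have e : ∀ g : Matrix.SpecialLinearGroup (Fin d) F,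
          (A * (g⁻¹ * B * g⁻¹⁻¹)).1.trace = (B * (g * A * g⁻¹)).1.trace := by
        intro g
        rw [inv_inv, show A * (g⁻¹ * B * g) = g⁻¹ * (g * A * g⁻¹ * B) * g by group,
          Matrix.SpecialLinearGroup.coe_mul, Matrix.SpecialLinearGroup.coe_mul,
          Matrix.trace_mul_cycle, ← Matrix.SpecialLinearGroup.coe_mul, mul_inv_cancel,
          Matrix.SpecialLinearGroup.coe_one, one_mul, Matrix.SpecialLinearGroup.coe_mul,
          Matrix.trace_mul_comm, ← Matrix.SpecialLinearGroup.coe_mul]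
      exact ⟨g₁⁻¹, g₂⁻¹, by rw [e]; exact h1, by rw [e]; exact h2⟩
    · exact CfsgLib.TraceClass.values_of_not_quad hd A B hA hq
  obtain ⟨μ₁, hμ₁, e1⟩ := htr g₁
  obtain ⟨μ₂, -, e2⟩ := htr g₂
  rw [h1, zero_eq_mul] at e1
  exact h2 (by rw [e2, e1.resolve_left hμ₁, mul_zero])

end Cfsg.Agent.S2272
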