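import Cfsg.Statements.S2277
import Mathlib
import Cfsg.Agent.CoprimeAction.Invariant
import Cfsg.Agent.OddFix.Irreducible
-- import your own Cfsg.Agent.* helpers here

set_option autoImplicit false
open Cfsg

namespace Cfsg.Agent.S2277

open scoped Pointwise commutatorElement
/-- The factorisation in an invariant subgroup. -/
theorem factor {G : Type*} [Group G] [Finite G] {p : ℕ} [Fact p.Prime] (P : Sylow p G) (M : Subgroup G)
    (hcop : (Nat.card M).Coprime p) (hPM : (P : Subgroup G) ≤ Subgroup.normalizer (M : Set G))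
    {x c d : G} (hx : x ∈ M) (hc : c ∈ P) (hd : d ∈ P)
    (hK : IsPGroup p ↥(Subgroup.closure ({x * c * x⁻¹, d} : Set G))) :
    ∃ y ∈ M, y * d = d * y ∧ (y⁻¹ * x) * c = c * (y⁻¹ * x) := by
  let H : Subgroup G := (P : Subgroup G) ⊔ M
  have hle : (P : Subgroup G) ≤ H := le_sup_left
  have hKH : Subgroup.closure ({x * c * x⁻¹, d} : Set G) ≤ H := by
    rw [Subgroup.closure_le]
    rintro z (rfl | rfl)
    · exact mul_mem (mul_mem (Subgroup.mem_sup_right hx) (hle hc)) (inv_mem (Subgroup.mem_sup_right hx))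
    · exact hle hd
  obtain ⟨S, hS⟩ := (hK.comap_of_injective H.subtype H.subtype_injective).exists_le_sylow
  obtain ⟨g, hg⟩ := MulAction.exists_smul_eq H (P.subtype hle) S
  have hgH : (g : G) ∈ H := g.2
  have hgc : (g : G) ∈ ((M : Set G) * ((P : Subgroup G) : Set G)) := by
    rw [← Subgroup.coe_mul_of_right_le_normalizer_left M (P : Subgroup G) hPM, sup_comm]
    exact hgH
  obtain ⟨m, hm, q, hq, hmq⟩ := hgc
  have hbot : M ⊓ (P : Subgroup G) = ⊥ := by
    obtain ⟨k, hk⟩ := IsPGroup.iff_card.1 P.isPGroup'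
    exact Subgroup.inf_eq_bot_of_coprime (by rw [hk]; exact hcop.pow_right k)
  have key : ∀ z ∈ Subgroup.closure ({x * c * x⁻¹, d} : Set G), m⁻¹ * z * m ∈ P := by
    intro z hz
    have h1 : (⟨z, hKH hz⟩ : H) ∈ S := hS hz
    rw [← hg] at h1
    obtain ⟨w, hw, hwe⟩ := h1
    have h2 : (g : G) * (w : G) * (g : G)⁻¹ = z := congrArg Subtype.val hwe
    have h3 : (w : G) ∈ P := hw
    rw [← h2, ← hmq, show m⁻¹ * (m * q * w * (m * q)⁻¹) * m = q * w * q⁻¹ by group]
    exact mul_mem (mul_mem hq h3) (inv_mem hq)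
  have hone : ∀ u ∈ M, ∀ t : G, t ∈ P → u * t * u⁻¹ ∈ P → u * t = t * u := by
    intro u hu t ht hut
    have h1 : u * t * u⁻¹ * t⁻¹ ∈ M ⊓ (P : Subgroup G) := by
      refine Subgroup.mem_inf.2 ⟨?_, mul_mem hut (inv_mem ht)⟩
      rw [mul_assoc, mul_assoc, ← mul_assoc t]
      exact mul_mem hu (CfsgLib.CoprimeAction.conj_mem hPM ht (inv_mem hu))
    rw [hbot, Subgroup.mem_bot, mul_inv_eq_one, mul_inv_eq_iff_eq_mul] at h1
    exact h1
  refine ⟨m, hm, ?_, ?_⟩
  · have h1 := hone m⁻¹ (inv_mem hm) d hd (by simpa using key d (Subgroup.subset_closure (by simp)))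
    calc m * d = m * (d * m⁻¹) * m := by group
      _ = d * m := by rw [← h1]; group
  · refine hone (m⁻¹ * x) (mul_mem (inv_mem hm) hx) c hc ?_
    have := key (x * c * x⁻¹) (Subgroup.subset_closure (by simp))
    rwa [show m⁻¹ * (x * c * x⁻¹) * m = m⁻¹ * x * c * (m⁻¹ * x)⁻¹ by group] at this


/-- Let p ≥ 3 be prime and G a finite group with a Sylow p-subgroup P and a normal p-complement N (N normal, of order prime to p, with NP = G). Suppose P is generated by a subset C and also by a subset D, and that ⟨x c x⁻¹, d⟩ is a p-group for all x ∈ N, c ∈ C, d ∈ D. Then P centralizes N, so that G = N × P. -/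
theorem result {G : Type*} [Group G] [Finite G] (p : ℕ) [Fact p.Prime] (hp3 : 3 ≤ p) (P : Sylow p G)
    (N : Subgroup G) [N.Normal] (hN : (Nat.card N).Coprime p) (hNP : N ⊔ (P : Subgroup G) = ⊤)
    (C D : Set G) (hC : Subgroup.closure C = (P : Subgroup G)) (hD : Subgroup.closure D = (P : Subgroup G))
    (h : ∀ x ∈ N, ∀ c ∈ C, ∀ d ∈ D, IsPGroup p ↥(Subgroup.closure ({x * c * x⁻¹, d} : Set G))) :
    ⁅(P : Subgroup G), N⁆ = ⊥ := by
  classical
  have hp : p.Prime := Fact.out
  have hCP : ∀ c ∈ C, c ∈ P := fun c hc => show c ∈ (P : Subgroup G) from hC ▸ Subgroup.subset_closure hc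
  have hDP : ∀ d ∈ D, d ∈ P := fun d hd => show d ∈ (P : Subgroup G) from hD ▸ Subgroup.subset_closure hd
  suffices main : ∀ (n : ℕ) (M : Subgroup G), M ≤ N → (P : Subgroup G) ≤ Subgroup.normalizer (M : Set G) →
      Nat.card M = n → (P : Subgroup G) ≤ Subgroup.centralizer (M : Set G) by
    rw [Subgroup.commutator_eq_bot_iff_le_centralizer]
    exact main _ N le_rfl (le_trans le_top (Subgroup.normalizer_eq_top N).ge) rfl
  intro n
  induction n using Nat.strong_induction_on with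
  | _ n ih =>
  intro M hMN hPM hn
  by_contra hne
  have hMp : (Nat.card M).Coprime p := hN.coprime_dvd_left (Subgroup.card_dvd_of_le hMN)
  have hcopPM : (Nat.card (P : Subgroup G)).Coprime (Nat.card M) := by
    obtain ⟨k, hk⟩ := IsPGroup.iff_card.1 P.isPGroup'
    rw [hk]
    exact (hMp.pow_right k).symm
  haveI : Group.IsNilpotent (P : Subgroup G) := P.isPGroup'.isNilpotent
  have hsmall : ∀ W : Subgroup G, W < M → (P : Subgroup G) ≤ Subgroup.normalizer (W : Set G) →
      (P : Subgroup G) ≤ Subgroup.centralizer (W : Set G) := fun W hW hPW =>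
    ih _ (hn ▸ lt_of_le_of_ne (Subgroup.card_le_of_le hW.le)
      (fun e => hW.ne (Subgroup.eq_of_le_of_card_ge hW.le e.ge))) W (hW.le.trans hMN) hPW rfl
  have hMP : ⁅M, (P : Subgroup G)⁆ = M := by
    by_contra h
    refine hne (CfsgLib.CoprimeAction.le_centralizer_of_chain
      (hcopPM.coprime_dvd_right (Subgroup.card_dvd_of_le (CfsgLib.CoprimeAction.commutator_le_of_normalizer hPM)))
      (hsmall _ (lt_of_le_of_ne (CfsgLib.CoprimeAction.commutator_le_of_normalizer hPM) h)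
        (CfsgLib.CoprimeAction.le_normalizer_commutator hPM)) le_rfl)
  -- `M` is nilpotent
  have hder : ⁅M, M⁆ ≠ M := by
    intro hperf
    by_cases hsyl : ∀ r : ℕ, r.Prime → Nat.card M ≠ r ^ (Nat.card M).factorization r
    · have hM : M ≤ M ⊓ Subgroup.centralizer ((P : Subgroup G) : Set G) := by
        refine (Subgroup.eq_of_le_of_card_ge inf_le_left (Nat.le_of_dvd Nat.card_pos ?_)).ge
        rw [← Nat.factorization_prime_le_iff_dvd Nat.card_pos.ne' Nat.card_pos.ne']
        intro r hr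
        haveI := Fact.mk hr
        obtain ⟨R, hR⟩ := CfsgLib.CoprimeAction.exists_invariant_sylow hPM hcopPM (Or.inl inferInstance) r
        have hcard := CfsgLib.CoprimeAction.card_sylow_map R
        have hlt : (R : Subgroup M).map M.subtype < M := lt_of_le_of_ne (Subgroup.map_subtype_le _)
          fun e => hsyl r hr (by rw [← hcard, e])
        have hcen : (R : Subgroup M).map M.subtype ≤ M ⊓ Subgroup.centralizer ((P : Subgroup G) : Set G) :=
          le_inf hlt.le (Subgroup.le_centralizer_iff.1 (hsmall _ hlt hR))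
        have := Subgroup.card_dvd_of_le hcen
        rw [hcard] at this
        exact (hr.pow_dvd_iff_le_factorization Nat.card_pos.ne').1 this
      exact hne (Subgroup.le_centralizer_iff.1 (hM.trans inf_le_right))
    · push Not at hsyl
      obtain ⟨r, hr, hcard⟩ := hsyl
      haveI := Fact.mk hr
      haveI : Group.IsNilpotent M := (IsPGroup.of_card hcard).isNilpotent
      haveI : Nontrivial M := by
        rw [Subgroup.nontrivial_iff_ne_bot]
        intro e
        exact hne (by rw [e, Subgroup.centralizer_eq_top_iff_subset.2 (by simp)]; exact le_top)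
      exact (Group.IsSolvable.commutator_lt_top_of_nontrivial M).ne (by
        apply Subgroup.map_injective M.subtype_injective
        rw [Subgroup.map_subtype_commutator, hperf, ← MonoidHom.range_eq_map, Subgroup.range_subtype])
  -- a maximal invariant subgroup
  obtain ⟨W, ⟨hW1, hW2, hW3⟩, hWmax⟩ := (Set.toFinite {W : Subgroup G | ⁅M, M⁆ ≤ W ∧ W < M ∧
      (P : Subgroup G) ≤ Subgroup.normalizer (W : Set G)}).exists_maximal ⟨⁅M, M⁆, le_rfl,
        lt_of_le_of_ne (Subgroup.commutator_le_self M) hder, fun q hq => by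
          rw [Subgroup.mem_normalizer_iff_map_conj_eq, Subgroup.map_commutator,
            Subgroup.mem_normalizer_iff_map_conj_eq.1 (hPM hq)]⟩
  let W' : Subgroup M := W.subgroupOf M
  haveI : W'.Normal := ⟨fun w hw m => by
    have h1 : ⁅(m : G), (w : G)⁆ ∈ W := hW1 (Subgroup.commutator_mem_commutator m.2 w.2)
    have h2 := mul_mem h1 hw
    simpa [commutatorElement_def, W', Subgroup.mem_subgroupOf] using h2⟩
  let _ : CommGroup (M ⧸ W') :=
    { (inferInstance : Group (M ⧸ W')) with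
      mul_comm := fun a b => by
        induction a using QuotientGroup.induction_on with
        | _ a =>
        induction b using QuotientGroup.induction_on with
        | _ b =>
        rw [← QuotientGroup.mk_mul, ← QuotientGroup.mk_mul, QuotientGroup.eq]
        have h1 : ⁅((b : G))⁻¹, ((a : G))⁻¹⁆ ∈ W := hW1 (Subgroup.commutator_mem_commutator (inv_mem b.2) (inv_mem a.2))
        show ((a : G) * b)⁻¹ * ((b : G) * a) ∈ W
        simpa [commutatorElement_def, mul_assoc] using h1 }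
  have hPW : ∀ (q : (P : Subgroup G)) (m : M), (q : G) * m * (q : G)⁻¹ ∈ M := fun q m =>
    CfsgLib.CoprimeAction.conj_mem hPM q.2 m.2
  let φ : ↥(P : Subgroup G) → M →* M := fun q =>
    { toFun := fun m => ⟨_, hPW q m⟩
      map_one' := Subtype.ext (by simp)
      map_mul' := fun a b => Subtype.ext (by simp [mul_assoc]) }
  have hφW : ∀ q, W' ≤ W'.comap (φ q) := fun q m hm => CfsgLib.CoprimeAction.conj_mem hW3 q.2 hm
  let ψ : ↥(P : Subgroup G) → (M ⧸ W') →* (M ⧸ W') := fun q => QuotientGroup.map W' W' (φ q) (hφW q)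
  have hψmk : ∀ q (m : M), ψ q (m : M ⧸ W') = ((φ q m : M) : M ⧸ W') := fun q m => rfl
  have hψmul : ∀ q r v, ψ q (ψ r v) = ψ (q * r) v := fun q r v => by
    induction v using QuotientGroup.induction_on with
    | _ m =>
      rw [hψmk, hψmk, hψmk]
      exact congrArg _ (Subtype.ext (show (q : G) * ((r : G) * m * (r : G)⁻¹) * (q : G)⁻¹ = ((q : G) * r) * m * ((q : G) * r)⁻¹ by group))
  have hψone : ∀ v, ψ 1 v = v := fun v => by
    induction v using QuotientGroup.induction_on with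
    | _ m => rw [hψmk]; exact congrArg _ (Subtype.ext (by simp [φ]))
  let ρ₀ : (P : Subgroup G) →* MulAut (M ⧸ W') :=
    { toFun := fun q =>
        { toFun := ψ q, invFun := ψ q⁻¹
          left_inv := fun v => by rw [hψmul, inv_mul_cancel, hψone]
          right_inv := fun v => by rw [hψmul, mul_inv_cancel, hψone]
          map_mul' := map_mul (ψ q) }
      map_one' := MulEquiv.ext hψone
      map_mul' := fun q r => MulEquiv.ext fun v => (hψmul q r v).symm }
  haveI : Nontrivial (M ⧸ W') := QuotientGroup.nontrivial_iff.2 fun h =>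
    hW2.ne (le_antisymm hW2.le (Subgroup.subgroupOf_eq_top.1 h))
  haveI : Nontrivial ρ₀.range := by
    rw [Subgroup.nontrivial_iff_ne_bot]
    intro h
    refine hW2.not_ge ?_
    rw [← hMP, Subgroup.commutator_le]
    intro m hm q hq
    have h1 : ρ₀ ⟨q, hq⟩ (((⟨m, hm⟩ : M)⁻¹ : M) : M ⧸ W') = (((⟨m, hm⟩ : M)⁻¹ : M) : M ⧸ W') := by
      rw [MonoidHom.range_eq_bot_iff.1 h]
      rfl
    have h2 : ((φ ⟨q, hq⟩ (⟨m, hm⟩ : M)⁻¹ : M) : M ⧸ W') = (((⟨m, hm⟩ : M)⁻¹ : M) : M ⧸ W') := h1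
    have h3 : (q * m⁻¹ * q⁻¹)⁻¹ * m⁻¹ ∈ W := (QuotientGroup.eq (s := W')).1 h2
    have h4 := inv_mem h3
    rw [commutatorElement_def]
    simpa [mul_assoc] using h4
  have hcopV : (Nat.card (M ⧸ W')).Coprime p :=
    hMp.coprime_dvd_left (Subgroup.card_quotient_dvd_card W')
  have hirr : ∀ U : Subgroup (M ⧸ W'), (∀ q : ρ₀.range, ∀ v ∈ U, (ρ₀.range.subtype q) v ∈ U) → U = ⊥ ∨ U = ⊤ := by
    intro U hU
    by_contra hcon
    push Not at hcon
    let X : Subgroup G := (U.comap (QuotientGroup.mk' W')).map M.subtype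
    have hWX : W ≤ X := fun w hw => by
      refine ⟨⟨w, hW2.le hw⟩, ?_, rfl⟩
      show ((⟨w, hW2.le hw⟩ : M) : M ⧸ W') ∈ U
      rw [(QuotientGroup.eq_one_iff _).2 (show (⟨w, hW2.le hw⟩ : M) ∈ W' from hw)]
      exact one_mem U
    have hXM : X < M := lt_of_le_of_ne (Subgroup.map_subtype_le _) fun e => hcon.2 (by
      rw [eq_top_iff]
      intro v _
      induction v using QuotientGroup.induction_on with
      | _ m =>
        obtain ⟨m', hm', e'⟩ := (e.symm ▸ m.2 : (m : G) ∈ X)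
        rw [← Subtype.ext e']
        exact hm')
    have hXn : (P : Subgroup G) ≤ Subgroup.normalizer (X : Set G) := by
      rw [Subgroup.le_normalizer_iff]
      rintro q hq _ ⟨m, hm, rfl⟩
      exact ⟨φ ⟨q, hq⟩ m, hU ⟨ρ₀ ⟨q, hq⟩, ⟨q, hq⟩, rfl⟩ _ hm, rfl⟩
    have hXW := hWmax ⟨hW1.trans hWX, hXM, hXn⟩ hWX
    refine hcon.1 ((Subgroup.eq_bot_iff_forall _).2 fun v hv => ?_)
    induction v using QuotientGroup.induction_on with
    | _ m => exact (QuotientGroup.eq_one_iff _).2 (hXW ⟨m, hv, rfl⟩ : (m : G) ∈ W)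
  obtain ⟨M₁, hM₁, hfix⟩ := CfsgLib.OddFix.exists_small_fix ρ₀.range.subtype (by omega : p ≠ 2)
    (P.isPGroup'.of_surjective ρ₀.rangeRestrict ρ₀.rangeRestrict_surjective) hcopV ρ₀.range.subtype_injective hirr
  have hout : ∀ (S : Set G), Subgroup.closure S = (P : Subgroup G) →
      ∃ c ∈ S, ∃ hc : c ∈ (P : Subgroup G), ρ₀.rangeRestrict ⟨c, hc⟩ ∉ M₁ := by
    intro S hS
    by_contra hcon
    push Not at hcon
    refine hM₁ (eq_top_iff.2 fun q _ => ?_)
    obtain ⟨⟨a, ha⟩, rfl⟩ := ρ₀.rangeRestrict_surjective q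
    have h1 : (P : Subgroup G) ≤ (M₁.comap ρ₀.rangeRestrict).map (P : Subgroup G).subtype := by
      conv_lhs => rw [← hS]
      rw [Subgroup.closure_le]
      exact fun c hc => ⟨⟨c, hS ▸ Subgroup.subset_closure hc⟩, hcon c hc _, rfl⟩
    obtain ⟨a', ha', e⟩ := h1 ha
    rw [show (⟨a, ha⟩ : (P : Subgroup G)) = a' from Subtype.ext e.symm]
    exact ha'
  obtain ⟨c, hcC, hcP, hc⟩ := hout C hC
  obtain ⟨d, hdD, hdP, hd⟩ := hout D hD
  let Fc := CfsgLib.OddFix.fix ρ₀.range.subtype (ρ₀.rangeRestrict ⟨c, hcP⟩)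
  let Fd := CfsgLib.OddFix.fix ρ₀.range.subtype (ρ₀.rangeRestrict ⟨d, hdP⟩)
  have hsurj : Function.Surjective (fun uv : Fd × Fc => (uv.1 : M ⧸ W') * uv.2) := by
    intro v
    induction v using QuotientGroup.induction_on with
    | _ x =>
      obtain ⟨y, hy, hyd, hyc⟩ := factor P M hMp hPM x.2 hcP hdP (h x (hMN x.2) c hcC d hdD)
      refine ⟨⟨⟨((⟨y, hy⟩ : M) : M ⧸ W'), ?_⟩, ⟨(((⟨y, hy⟩ : M)⁻¹ * x : M) : M ⧸ W'), ?_⟩⟩, ?_⟩
      · show ((φ ⟨d, hdP⟩ ⟨y, hy⟩ : M) : M ⧸ W') = _
        exact congrArg _ (Subtype.ext (show d * y * d⁻¹ = y by rw [← hyd, mul_inv_cancel_right]))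
      · show ((φ ⟨c, hcP⟩ ((⟨y, hy⟩ : M)⁻¹ * x) : M) : M ⧸ W') = _
        exact congrArg _ (Subtype.ext (show c * (y⁻¹ * x) * c⁻¹ = y⁻¹ * x by rw [← hyc, mul_inv_cancel_right]))
      · show ((⟨y, hy⟩ : M) : M ⧸ W') * _ = _
        rw [← QuotientGroup.mk_mul, mul_inv_cancel_left]
  have h1 := Nat.card_le_card_of_surjective _ hsurj
  rw [Nat.card_prod] at h1
  have hV : 1 < Nat.card (M ⧸ W') := Finite.one_lt_card
  have h2 : Nat.card (M ⧸ W') ^ p ≤ Nat.card (M ⧸ W') ^ 2 := by
    calc Nat.card (M ⧸ W') ^ p ≤ (Nat.card Fd * Nat.card Fc) ^ p := Nat.pow_le_pow_left h1 p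
      _ = Nat.card Fd ^ p * Nat.card Fc ^ p := mul_pow _ _ _
      _ ≤ Nat.card (M ⧸ W') * Nat.card (M ⧸ W') := Nat.mul_le_mul (hfix _ hd) (hfix _ hc)
      _ = _ := (pow_two _).symm
  have := (Nat.pow_le_pow_iff_right hV).1 h2
  omega

end Cfsg.Agent.S2277
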