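import Cfsg.Statements.S2307
import Cfsg.Agent.Clifford.PrincipalSeriesSL
import Cfsg.Agent.Clifford.Basic

set_option autoImplicit false
open Cfsg

namespace Cfsg.Agent.S2307

/-- Over a finite field F with q elements, q odd, let α be the multiplicative character of F of order 2. The character of SL₂ induced from the linear character b ↦ α(b₁₁) of the upper triangular subgroup is the sum of two distinct irreducible characters, each of degree (q + 1)/2, which are conjugate under GL₂: some fixed element of GL₂ conjugates the one into the other. -/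
theorem result {F : Type*} [Field F] [Fintype F] [DecidableEq F] (hodd : Odd (Fintype.card F)) (α : MulChar F ℂ)
    (hα : α ^ 2 = 1) (hα1 : α ≠ 1) :
    ∃ χ₁ χ₂ : Matrix.SpecialLinearGroup (Fin 2) F → ℂ, Cfsg.IsIrrCharacter (Matrix.SpecialLinearGroup (Fin 2) F) χ₁ ∧ Cfsg.IsIrrCharacter (Matrix.SpecialLinearGroup (Fin 2) F) χ₂ ∧ χ₁ ≠ χ₂ ∧
      Cfsg.indFun ((Cfsg.upperTriangularGL 2 F).comap Matrix.SpecialLinearGroup.toGL) (fun b => α (((b : Matrix.SpecialLinearGroup (Fin 2) F) : Matrix (Fin 2) (Fin 2) F) 0 0)) = χ₁ + χ₂ ∧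
      χ₁ 1 = (((Fintype.card F + 1) / 2 : ℕ) : ℂ) ∧ χ₂ 1 = (((Fintype.card F + 1) / 2 : ℕ) : ℂ) ∧
      ∃ x : Matrix.GeneralLinearGroup (Fin 2) F, ∀ g h : Matrix.SpecialLinearGroup (Fin 2) F,
        Matrix.SpecialLinearGroup.toGL h = x * Matrix.SpecialLinearGroup.toGL g * x⁻¹ → χ₂ h = χ₁ g := by
  classical
  have := Fintype.ofFinite (CfsgLib.PrincipalSeries.slBorel F)
  have := Fintype.ofFinite (Cfsg.upperTriangularGL 2 F)
  set I := Cfsg.indFun (CfsgLib.PrincipalSeries.slBorel F) (CfsgLib.PrincipalSeries.slChar α) with hIdef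
  change ∃ χ₁ χ₂ : Matrix.SpecialLinearGroup (Fin 2) F → ℂ, _ ∧ _ ∧ _ ∧ I = χ₁ + χ₂ ∧ _
  have hIc : Cfsg.IsCharacter _ I :=
    CfsgLib.CharBasics.isCharacter_indFun _ (CfsgLib.Clifford.isCharacter_of_hom (CfsgLib.PrincipalSeries.slHom α))
  have hnorm : Cfsg.classInner I I = 2 := by
    rw [hIdef, CfsgLib.PrincipalSeries.inner_sl, if_pos rfl, ← sq, if_pos hα]
    norm_num
  obtain ⟨r, f, hf, hdec⟩ := CfsgLib.CharBasics.exists_decomp hIc
  have hcount : (∑ i, ∑ j, if f i = f j then (1 : ℕ) else 0) = 2 := by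
    rw [← Nat.cast_inj (R := ℂ), Nat.cast_ofNat, ← hnorm, hdec, CfsgLib.CharBasics.classInner_sum_left]
    push_cast
    refine Finset.sum_congr rfl fun i _ => ?_
    rw [CfsgLib.CharBasics.classInner_sum_right]
    refine Finset.sum_congr rfl fun j _ => ?_
    split_ifs with h
    · rw [← h, CfsgLib.CharBasics.classInner_self (hf i)]
    · rw [CfsgLib.CharBasics.classInner_ne (hf i) (hf j) h]
  have hr : r = 2 ∧ ∀ i j, i ≠ j → f i ≠ f j := by
    have h1 : ∀ i, 1 ≤ ∑ j, if f i = f j then (1 : ℕ) else 0 := fun i =>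
      le_of_eq_of_le (by rw [if_pos rfl]) (Finset.single_le_sum (f := fun j => if f i = f j then (1 : ℕ) else 0)
        (fun j _ => Nat.zero_le _) (Finset.mem_univ i))
    have h2 : r ≤ 2 := by
      rw [← hcount]
      refine le_of_eq_of_le ?_ (Finset.sum_le_sum fun i _ => h1 i)
      simp
    rcases r with _ | _ | _ | r
    · simp at hcount
    · simp [Fin.eq_zero] at hcount
    · refine ⟨rfl, fun i j hij hfe => ?_⟩
      have h3 : f 0 = f 1 := by fin_cases i <;> fin_cases j <;> first | exact absurd rfl hij | exact hfe | exact hfe.symm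
      rw [Fin.sum_univ_two, Fin.sum_univ_two, Fin.sum_univ_two, if_pos rfl, if_pos h3, if_pos h3.symm, if_pos rfl] at hcount
      norm_num at hcount
    · omega
  obtain ⟨rfl, hdist⟩ := hr
  rw [Fin.sum_univ_two] at hdec
  refine ⟨f 0, f 1, hf 0, hf 1, hdist 0 1 (by decide), hdec, ?_⟩
  -- view the special linear group as a normal subgroup
  let ι : Matrix.SpecialLinearGroup (Fin 2) F →* Matrix.GeneralLinearGroup (Fin 2) F := Matrix.SpecialLinearGroup.toGL
  let N : Subgroup (Matrix.GeneralLinearGroup (Fin 2) F) := ι.range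
  haveI : N.Normal := by
    refine ⟨fun n hn x => ?_⟩
    obtain ⟨s, rfl⟩ := hn
    refine ⟨⟨((x * ι s * x⁻¹ : Matrix.GeneralLinearGroup (Fin 2) F) : Matrix (Fin 2) (Fin 2) F), ?_⟩, Units.ext rfl⟩
    rw [Units.val_mul, Units.val_mul, Matrix.det_mul, Matrix.det_mul, mul_comm (Matrix.det _), mul_assoc,
      ← Matrix.det_mul, ← Units.val_mul, mul_inv_cancel, Units.val_one, Matrix.det_one, mul_one]
    exact s.det_coe
  have := Fintype.ofFinite N
  let E : Matrix.SpecialLinearGroup (Fin 2) F ≃* N := MonoidHom.ofInjective Matrix.SpecialLinearGroup.toGL_injective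
  have hEcoe : ∀ s, ((E s : N) : Matrix.GeneralLinearGroup (Fin 2) F) = ι s := fun s => rfl
  set χ := Cfsg.indFun (Cfsg.upperTriangularGL 2 F) (CfsgLib.PrincipalSeries.borelChar α 1) with hχdef
  have hχ : Cfsg.IsIrrCharacter _ χ := by
    refine CfsgLib.CharBasics.isIrr_of_norm_one (CfsgLib.CharBasics.isCharacter_indFun _
      (CfsgLib.PrincipalSeries.isCharacter_borelChar α 1)) ?_
    have h := CfsgLib.PrincipalSeries.inner_principal α 1 α 1
    rw [if_pos ⟨rfl, rfl⟩, if_neg (fun h => hα1 h.1), add_zero] at h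
    exact h
  have hne : ∀ i, Cfsg.classInner (fun n : N => χ n) (fun n => f i (E.symm n)) ≠ 0 := by
    intro i
    rw [← CfsgLib.Clifford.classInner_comp_equiv E (fun n : N => χ n) (fun n => f i (E.symm n))]
    have h1 : (fun s => χ ((E s : N) : Matrix.GeneralLinearGroup (Fin 2) F)) = I := funext fun s => by
      rw [hEcoe]; exact CfsgLib.PrincipalSeries.indFun_borel_toGL α s
    simp only [MulEquiv.symm_apply_apply, h1, hdec, CfsgLib.CharBasics.classInner_add_left]
    change Cfsg.classInner (f 0) (f i) + Cfsg.classInner (f 1) (f i) ≠ 0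
    obtain rfl | rfl : i = 0 ∨ i = 1 := by fin_cases i <;> simp
    · rw [CfsgLib.CharBasics.classInner_self (hf 0), CfsgLib.CharBasics.classInner_ne (hf 1) (hf 0) (hdist 1 0 (by decide)), add_zero]
      exact one_ne_zero
    · rw [CfsgLib.CharBasics.classInner_ne (hf 0) (hf 1) (hdist 0 1 (by decide)), zero_add]
      exact (CfsgLib.CharBasics.classInner_self (hf 1)).trans_ne one_ne_zero
  have hirr : ∀ i, Cfsg.IsIrrCharacter N (fun n => f i (E.symm n)) := fun i =>
    CfsgLib.Clifford.isIrrCharacter_comp (hf i) E.symm.toMonoidHom E.symm.surjective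
  obtain ⟨x, hx⟩ := CfsgLib.Clifford.constituent_conj hχ (hirr 0) (hirr 1) (hne 0) (hne 1)
  have hx' : ∀ (h g : Matrix.SpecialLinearGroup (Fin 2) F), ι g = x * ι h * x⁻¹ → f 1 h = f 0 g := by
    intro h g hg
    have h1 := congrFun hx (E h)
    rw [CfsgLib.Clifford.conjFun_apply, MulEquiv.symm_apply_apply] at h1
    rw [h1]
    refine congrArg (f 0) ?_
    rw [MulEquiv.symm_apply_eq]
    refine Subtype.ext ?_
    change x * ι h * x⁻¹ = ι g
    exact hg.symm
  have heq1 : f 1 1 = f 0 1 := hx' 1 1 (by simp)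
  have hidx : (CfsgLib.PrincipalSeries.slBorel F).index = Fintype.card F + 1 := by
    let R : Option F → Matrix.SpecialLinearGroup (Fin 2) F := fun o => o.elim 1
      (fun c => ⟨!![c, -1; 1, 0], by simp [Matrix.det_fin_two]⟩)
    have hRn : ((R none : Matrix.SpecialLinearGroup (Fin 2) F) : Matrix (Fin 2) (Fin 2) F) = 1 := rfl
    have hRs : ∀ c, ((R (some c) : Matrix.SpecialLinearGroup (Fin 2) F) : Matrix (Fin 2) (Fin 2) F) = !![c, -1; 1, 0] :=
      fun c => rfl
    have hD : ∀ u v : Matrix.SpecialLinearGroup (Fin 2) F,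
        (QuotientGroup.mk u : Matrix.SpecialLinearGroup (Fin 2) F ⧸ CfsgLib.PrincipalSeries.slBorel F) = QuotientGroup.mk v ↔
          (u : Matrix (Fin 2) (Fin 2) F) 0 0 * (v : Matrix (Fin 2) (Fin 2) F) 1 0 -
            (u : Matrix (Fin 2) (Fin 2) F) 1 0 * (v : Matrix (Fin 2) (Fin 2) F) 0 0 = 0 := by
      intro u v
      rw [QuotientGroup.eq, CfsgLib.PrincipalSeries.mem_slBorel_iff]
      simp [Matrix.SpecialLinearGroup.coe_mul, Matrix.SpecialLinearGroup.coe_inv, Matrix.adjugate_fin_two,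
        Matrix.mul_apply, Fin.sum_univ_two]
      constructor <;> intro h <;> linear_combination h
    rw [Subgroup.index, ← Fintype.card_option, ← Nat.card_eq_fintype_card]
    refine (Nat.card_eq_of_bijective (fun o => (QuotientGroup.mk (R o) :
      Matrix.SpecialLinearGroup (Fin 2) F ⧸ CfsgLib.PrincipalSeries.slBorel F)) ⟨fun o o' h => ?_, fun c => ?_⟩).symm
    · have h' := (hD _ _).mp h
      rcases o with _ | c <;> rcases o' with _ | c'
      · rfl
      · exact absurd h' (by simp [hRn, hRs])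
      · exact absurd h' (by simp [hRn, hRs])
      · simp [hRn, hRs] at h'; exact congrArg some (by linear_combination h')
    · obtain ⟨u, rfl⟩ := QuotientGroup.mk_surjective c
      by_cases hc : (u : Matrix (Fin 2) (Fin 2) F) 1 0 = 0
      · exact ⟨none, (hD _ _).mpr (by simp [hRn, hc])⟩
      · exact ⟨some ((u : Matrix (Fin 2) (Fin 2) F) 0 0 / (u : Matrix (Fin 2) (Fin 2) F) 1 0),
          (hD _ _).mpr (by simp [hRn, hRs]; field_simp; ring)⟩
  have hI1 : f 0 1 + f 0 1 = ((Fintype.card F + 1 : ℕ) : ℂ) := by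
    rw [← hidx]
    nth_rewrite 2 [← heq1]
    rw [← Pi.add_apply, ← hdec, hIdef, CfsgLib.CharBasics.indFun_apply_one]
    simp [CfsgLib.PrincipalSeries.slChar]
  have hhalf : f 0 1 = (((Fintype.card F + 1) / 2 : ℕ) : ℂ) := by
    obtain ⟨k, hk⟩ := hodd
    rw [hk] at hI1 ⊢
    rw [show (2 * k + 1 + 1) / 2 = k + 1 by omega]
    push_cast at hI1 ⊢
    linear_combination hI1 / 2
  refine ⟨hhalf, heq1.trans hhalf, x⁻¹, fun g h hgh => hx' h g ?_⟩
  rw [show ι h = _ from hgh]
  change Matrix.SpecialLinearGroup.toGL g = _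
  group

end Cfsg.Agent.S2307
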