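import Cfsg.Statements.S2319
import Cfsg.Agent.HeckeCenter.Chev
import Cfsg.Agent.Chev.Inst
import Cfsg.Agent.Chev.PoincareB2
import Cfsg.Agent.Chev.PoincareG2
import Cfsg.Agent.Chev.PoincareD4
import Cfsg.Agent.Chev.PoincareF4
import Cfsg.Agent.Chev.PoincareE6
import Cfsg.Agent.Chev.PoincareE7
import Cfsg.Agent.Chev.PoincareE8
-- import your own Cfsg.Agent.* helpers here

set_option autoImplicit false
open Cfsg

namespace Cfsg.Agent.S2319

/-- In a Chevalley group of type G₂, B₂, D₄, F₄, E₆, E₇ or E₈ over a finite field, the number of distinct irreducible constituents of the permutation character on the cosets of B = UH equals the number of conjugacy classes (equivalently, of irreducible characters) of the Weyl group, the Coxeter group of the type with nodes numbered as the fundamental roots. -/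
theorem result {F : Type*} [Field F] [Fintype F]
    (dw : Cfsg.Lie.ChevalleyDatum × (Σ n : ℕ, CoxeterMatrix (Fin n)))
    (hdw : dw ∈ [(Cfsg.Lie.chevG2, ⟨2, CoxeterMatrix.G₂⟩), (Cfsg.Lie.chevB2, ⟨2, CoxeterMatrix.B 2⟩), (Cfsg.Lie.chevD4, ⟨4, Cfsg.Lie.coxeterD4⟩), (Cfsg.Lie.chevF4, ⟨4, CoxeterMatrix.F₄⟩),
      (Cfsg.Lie.chevE6, ⟨6, CoxeterMatrix.E₆⟩), (Cfsg.Lie.chevE7, ⟨7, CoxeterMatrix.E₇⟩), (Cfsg.Lie.chevE8, ⟨8, CoxeterMatrix.E₈⟩)]) :
    Nat.card {χ : Cfsg.IrrCharacter ↥(dw.1.group F) //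
      ∃ φ : ↥(dw.1.group F) → ℂ, Cfsg.IsCharacter ↥(dw.1.group F) φ ∧
        Cfsg.fixedPointCharacter ((dw.1.borelSubgroup F).subgroupOf (dw.1.group F)) = (χ : ↥(dw.1.group F) → ℂ) + φ} =
      Nat.card (ConjClasses dw.2.2.Group) := by
  simp only [List.mem_cons, List.not_mem_nil, or_false] at hdw
  rcases hdw with rfl | rfl | rfl | rfl | rfl | rfl | rfl
  · exact CfsgLib.HeckeCenter.chev_card_constituents CfsgLib.Chev.sysG2 CfsgLib.Chev.PoincareG2.rank_eq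
      CfsgLib.Chev.PoincareG2.cart_ok CoxeterMatrix.G₂
      (Mf := fun i j => if h : i < 2 ∧ j < 2 then (CoxeterMatrix.G₂ ⟨i, h.1⟩ ⟨j, h.2⟩) else 0)
      (fun i j => by rw [dif_pos ⟨i.2, j.2⟩]) (by decide +kernel)
  · exact CfsgLib.HeckeCenter.chev_card_constituents CfsgLib.Chev.sysB2 CfsgLib.Chev.PoincareB2.rank_eq
      CfsgLib.Chev.PoincareB2.cart_ok (CoxeterMatrix.B 2)
      (Mf := fun i j => if h : i < 2 ∧ j < 2 then ((CoxeterMatrix.B 2) ⟨i, h.1⟩ ⟨j, h.2⟩) else 0)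
      (fun i j => by rw [dif_pos ⟨i.2, j.2⟩]) (by decide +kernel)
  · exact CfsgLib.HeckeCenter.chev_card_constituents CfsgLib.Chev.sysD4 CfsgLib.Chev.PoincareD4.rank_eq
      CfsgLib.Chev.PoincareD4.cart_ok Cfsg.Lie.coxeterD4
      (Mf := fun i j => if h : i < 4 ∧ j < 4 then (Cfsg.Lie.coxeterD4 ⟨i, h.1⟩ ⟨j, h.2⟩) else 0)
      (fun i j => by rw [dif_pos ⟨i.2, j.2⟩]) (by decide +kernel)
  · exact CfsgLib.HeckeCenter.chev_card_constituents CfsgLib.Chev.sysF4 CfsgLib.Chev.PoincareF4.rank_eq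
      CfsgLib.Chev.PoincareF4.cart_ok CoxeterMatrix.F₄
      (Mf := fun i j => if h : i < 4 ∧ j < 4 then (CoxeterMatrix.F₄ ⟨i, h.1⟩ ⟨j, h.2⟩) else 0)
      (fun i j => by rw [dif_pos ⟨i.2, j.2⟩]) (by decide +kernel)
  · exact CfsgLib.HeckeCenter.chev_card_constituents CfsgLib.Chev.sysE6 CfsgLib.Chev.PoincareE6.rank_eq
      CfsgLib.Chev.PoincareE6.cart_ok CoxeterMatrix.E₆
      (Mf := fun i j => if h : i < 6 ∧ j < 6 then (CoxeterMatrix.E₆ ⟨i, h.1⟩ ⟨j, h.2⟩) else 0)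
      (fun i j => by rw [dif_pos ⟨i.2, j.2⟩]) (by decide +kernel)
  · exact CfsgLib.HeckeCenter.chev_card_constituents CfsgLib.Chev.sysE7 CfsgLib.Chev.PoincareE7.rank_eq
      CfsgLib.Chev.PoincareE7.cart_ok CoxeterMatrix.E₇
      (Mf := fun i j => if h : i < 7 ∧ j < 7 then (CoxeterMatrix.E₇ ⟨i, h.1⟩ ⟨j, h.2⟩) else 0)
      (fun i j => by rw [dif_pos ⟨i.2, j.2⟩]) (by decide +kernel)
  · exact CfsgLib.HeckeCenter.chev_card_constituents CfsgLib.Chev.sysE8 CfsgLib.Chev.PoincareE8.rank_eq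
      CfsgLib.Chev.PoincareE8.cart_ok CoxeterMatrix.E₈
      (Mf := fun i j => if h : i < 8 ∧ j < 8 then (CoxeterMatrix.E₈ ⟨i, h.1⟩ ⟨j, h.2⟩) else 0)
      (fun i j => by rw [dif_pos ⟨i.2, j.2⟩]) (by decide +kernel)

end Cfsg.Agent.S2319
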