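import Cfsg.Statements.S2418
import Cfsg.Agent.Chev.CoxeterCenter
import Cfsg.Agent.Chev.Inst
import Cfsg.Agent.Chev.PoincareG2
import Cfsg.Agent.Chev.PoincareB2
import Cfsg.Agent.Chev.PoincareD4
import Cfsg.Agent.Chev.PoincareF4
import Cfsg.Agent.Chev.PoincareE6
import Cfsg.Agent.Chev.PoincareE7
import Cfsg.Agent.Chev.PoincareE8


set_option autoImplicit false
open Cfsg

namespace Cfsg.Agent.S2418

/-- The weights of a minuscule module of E₆. -/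
def orbitE6 : List (List ℤ) :=
  [[1, 0, 0, 0, 0, 0],
    [-1, 0, 1, 0, 0, 0],
    [0, 0, -1, 1, 0, 0],
    [0, 1, 0, -1, 1, 0],
    [0, -1, 0, 0, 1, 0],
    [0, 1, 0, 0, -1, 1],
    [0, -1, 0, 1, -1, 1],
    [0, 1, 0, 0, 0, -1],
    [0, 0, 1, -1, 0, 1],
    [0, -1, 0, 1, 0, -1],
    [1, 0, -1, 0, 0, 1],
    [0, 0, 1, -1, 1, -1],
    [-1, 0, 0, 0, 0, 1],
    [1, 0, -1, 0, 1, -1],
    [0, 0, 1, 0, -1, 0],
    [-1, 0, 0, 0, 1, -1],
    [1, 0, -1, 1, -1, 0],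
    [-1, 0, 0, 1, -1, 0],
    [1, 1, 0, -1, 0, 0],
    [-1, 1, 1, -1, 0, 0],
    [1, -1, 0, 0, 0, 0],
    [-1, -1, 1, 0, 0, 0],
    [0, 1, -1, 0, 0, 0],
    [0, -1, -1, 1, 0, 0],
    [0, 0, 0, -1, 1, 0],
    [0, 0, 0, 0, -1, 1],
    [0, 0, 0, 0, 0, -1]]

/-- For the Coxeter groups of types B₂, G₂, D₄, F₄, E₇, E₈ the centre has order 2 (the element acting as −1 on the root system) and is generated by a power of the Coxeter element `s₁ s₂ ⋯ s_l`; the Coxeter group of type E₆ has trivial centre. -/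
theorem result (c : (Σ n : ℕ, CoxeterMatrix (Fin n)) × ℕ)
    (hc : c ∈ [(⟨2, CoxeterMatrix.B 2⟩, 2), (⟨2, CoxeterMatrix.G₂⟩, 2), (⟨4, Cfsg.Lie.coxeterD4⟩, 2), (⟨4, CoxeterMatrix.F₄⟩, 2),
      (⟨6, CoxeterMatrix.E₆⟩, 1), (⟨7, CoxeterMatrix.E₇⟩, 2), (⟨8, CoxeterMatrix.E₈⟩, 2)]) :
    Nat.card (Subgroup.center c.1.2.Group) = c.2 ∧
      Subgroup.center c.1.2.Group ≤ Subgroup.zpowers ((List.finRange c.1.1).map c.1.2.simple).prod := by
  simp only [List.mem_cons, List.not_mem_nil, or_false] at hc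
  rcases hc with rfl | rfl | rfl | rfl | rfl | rfl | rfl
  · exact CfsgLib.Chev.sysB2.center_coxeter_two CfsgLib.Chev.PoincareB2.rank_eq (by norm_num)
      CfsgLib.Chev.PoincareB2.cart_ok _ (Mf := fun i j =>
        if h : i < 2 ∧ j < 2 then ((CoxeterMatrix.B 2) ⟨i, h.1⟩ ⟨j, h.2⟩) else 0)
      (fun i j => by rw [dif_pos ⟨i.2, j.2⟩]) (by decide +kernel)
      (by unfold CfsgLib.Chev.ConnOK; decide +kernel) (K := 2) (by decide +kernel)
  · exact CfsgLib.Chev.sysG2.center_coxeter_two CfsgLib.Chev.PoincareG2.rank_eq (by norm_num)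
      CfsgLib.Chev.PoincareG2.cart_ok _ (Mf := fun i j =>
        if h : i < 2 ∧ j < 2 then ((CoxeterMatrix.G₂) ⟨i, h.1⟩ ⟨j, h.2⟩) else 0)
      (fun i j => by rw [dif_pos ⟨i.2, j.2⟩]) (by decide +kernel)
      (by unfold CfsgLib.Chev.ConnOK; decide +kernel) (K := 3) (by decide +kernel)
  · exact CfsgLib.Chev.sysD4.center_coxeter_two CfsgLib.Chev.PoincareD4.rank_eq (by norm_num)
      CfsgLib.Chev.PoincareD4.cart_ok _ (Mf := fun i j =>
        if h : i < 4 ∧ j < 4 then ((Cfsg.Lie.coxeterD4) ⟨i, h.1⟩ ⟨j, h.2⟩) else 0)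
      (fun i j => by rw [dif_pos ⟨i.2, j.2⟩]) (by decide +kernel)
      (by unfold CfsgLib.Chev.ConnOK; decide +kernel) (K := 3) (by decide +kernel)
  · exact CfsgLib.Chev.sysF4.center_coxeter_two CfsgLib.Chev.PoincareF4.rank_eq (by norm_num)
      CfsgLib.Chev.PoincareF4.cart_ok _ (Mf := fun i j =>
        if h : i < 4 ∧ j < 4 then ((CoxeterMatrix.F₄) ⟨i, h.1⟩ ⟨j, h.2⟩) else 0)
      (fun i j => by rw [dif_pos ⟨i.2, j.2⟩]) (by decide +kernel)
      (by unfold CfsgLib.Chev.ConnOK; decide +kernel) (K := 6) (by decide +kernel)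
  · have h := CfsgLib.Chev.sysE6.center_coxeter_one CfsgLib.Chev.PoincareE6.rank_eq
      CfsgLib.Chev.PoincareE6.cart_ok (CoxeterMatrix.E₆) (Mf := fun i j =>
        if h : i < 6 ∧ j < 6 then ((CoxeterMatrix.E₆) ⟨i, h.1⟩ ⟨j, h.2⟩) else 0)
      (fun i j => by rw [dif_pos ⟨i.2, j.2⟩]) (by decide +kernel)
      (by unfold CfsgLib.Chev.ConnOK; decide +kernel) (O := orbitE6) (by decide +kernel)
    refine ⟨?_, ?_⟩
    · show Nat.card (Subgroup.center (CoxeterMatrix.E₆).Group) = 1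
      rw [h]; exact Subgroup.card_bot
    · exact h.le.trans bot_le
  · exact CfsgLib.Chev.sysE7.center_coxeter_two CfsgLib.Chev.PoincareE7.rank_eq (by norm_num)
      CfsgLib.Chev.PoincareE7.cart_ok _ (Mf := fun i j =>
        if h : i < 7 ∧ j < 7 then ((CoxeterMatrix.E₇) ⟨i, h.1⟩ ⟨j, h.2⟩) else 0)
      (fun i j => by rw [dif_pos ⟨i.2, j.2⟩]) (by decide +kernel)
      (by unfold CfsgLib.Chev.ConnOK; decide +kernel) (K := 9) (by decide +kernel)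
  · exact CfsgLib.Chev.sysE8.center_coxeter_two CfsgLib.Chev.PoincareE8.rank_eq (by norm_num)
      CfsgLib.Chev.PoincareE8.cart_ok _ (Mf := fun i j =>
        if h : i < 8 ∧ j < 8 then ((CoxeterMatrix.E₈) ⟨i, h.1⟩ ⟨j, h.2⟩) else 0)
      (fun i j => by rw [dif_pos ⟨i.2, j.2⟩]) (by decide +kernel)
      (by unfold CfsgLib.Chev.ConnOK; decide +kernel) (K := 15) (by decide +kernel)

end Cfsg.Agent.S2418
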