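import Cfsg.Statements.S2477
import Mathlib

set_option autoImplicit false
set_option synthInstance.maxSize 4000
set_option synthInstance.maxHeartbeats 400000
set_option maxHeartbeats 1000000
open Cfsg

namespace Cfsg.Agent.S2477

/-- The set of element orders of the alternating group of degree 10 is {1, 2, 3, 4, 5, 6, 7, 8, 9, 10, 12, 15, 21}. -/
theorem result : Set.range (orderOf : alternatingGroup (Fin 10) → ℕ) = {1, 2, 3, 4, 5, 6, 7, 8, 9, 10, 12, 15, 21} := by
  let U : List (ℕ × ℕ × ℕ × ℕ × ℕ × ℕ × ℕ × ℕ × ℕ) :=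
    (List.range 6).product ((List.range 4).product ((List.range 3).product ((List.range 3).product
      ((List.range 2).product ((List.range 2).product ((List.range 2).product ((List.range 2).product
        (List.range 2))))))))
  have hle0 : U.all (fun ⟨c2, c3, c4, c5, c6, c7, c8, c9, c10⟩ =>
      decide (10 < 2 * c2 + 3 * c3 + 4 * c4 + 5 * c5 + 6 * c6 + 7 * c7 + 8 * c8 + 9 * c9 + 10 * c10) ||
      decide ((c2 + c4 + c6 + c8 + c10) % 2 = 1) ||
      [1, 2, 3, 4, 5, 6, 7, 8, 9, 10, 12, 15, 21].contains
        (Multiset.replicate c2 2 + Multiset.replicate c3 3 + Multiset.replicate c4 4 + Multiset.replicate c5 5 +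
          Multiset.replicate c6 6 + Multiset.replicate c7 7 + Multiset.replicate c8 8 + Multiset.replicate c9 9 +
          Multiset.replicate c10 10).lcm) = true := by
    decide +kernel
  have hle : ∀ c2 < 6, ∀ c3 < 4, ∀ c4 < 3, ∀ c5 < 3, ∀ c6 < 2, ∀ c7 < 2, ∀ c8 < 2, ∀ c9 < 2, ∀ c10 < 2,
      2 * c2 + 3 * c3 + 4 * c4 + 5 * c5 + 6 * c6 + 7 * c7 + 8 * c8 + 9 * c9 + 10 * c10 ≤ 10 →
      Even (c2 + c4 + c6 + c8 + c10) →
      (Multiset.replicate c2 2 + Multiset.replicate c3 3 + Multiset.replicate c4 4 + Multiset.replicate c5 5 +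
        Multiset.replicate c6 6 + Multiset.replicate c7 7 + Multiset.replicate c8 8 + Multiset.replicate c9 9 +
        Multiset.replicate c10 10).lcm ∈ ({1, 2, 3, 4, 5, 6, 7, 8, 9, 10, 12, 15, 21} : Finset ℕ) := by
    intro c2 h2 c3 h3 c4 h4 c5 h5 c6 h6 c7 h7 c8 h8 c9 h9 c10 h10 hs he
    have h := List.all_eq_true.mp hle0 (c2, c3, c4, c5, c6, c7, c8, c9, c10) (by simp [U]; omega)
    simp only [Bool.or_eq_true, decide_eq_true_eq, List.contains_iff_mem] at h
    rw [Nat.even_iff] at he
    rcases h with (h | h) | h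
    · omega
    · omega
    · simpa using h
  have hw : ∀ k ∈ ({1, 2, 3, 4, 5, 6, 7, 8, 9, 10, 12, 15, 21} : Finset ℕ), ∃ g : Equiv.Perm (Fin 10),
      Equiv.Perm.sign g = 1 ∧ orderOf g = k := by
    have h : ∀ (g : Equiv.Perm (Fin 10)) (k : ℕ), 0 < k → g ^ k = 1 →
        (∀ m < k, 0 < m → g ^ m ≠ 1) → orderOf g = k := fun g k hk h1 h2 =>
      (orderOf_eq_iff hk).mpr ⟨h1, h2⟩
    intro k hk
    fin_cases hk
    · exact ⟨1, map_one _, orderOf_one⟩
    · exact ⟨List.formPerm [0, 1] * List.formPerm [2, 3], by decide +kernel, h _ 2 (by norm_num) (by decide +kernel) (by decide +kernel)⟩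
    · exact ⟨List.formPerm [0, 1, 2], by decide +kernel, h _ 3 (by norm_num) (by decide +kernel) (by decide +kernel)⟩
    · exact ⟨List.formPerm [0, 1, 2, 3] * List.formPerm [4, 5], by decide +kernel, h _ 4 (by norm_num) (by decide +kernel) (by decide +kernel)⟩
    · exact ⟨List.formPerm [0, 1, 2, 3, 4], by decide +kernel, h _ 5 (by norm_num) (by decide +kernel) (by decide +kernel)⟩
    · exact ⟨List.formPerm [0, 1, 2, 3, 4, 5] * List.formPerm [6, 7], by decide +kernel, h _ 6 (by norm_num) (by decide +kernel) (by decide +kernel)⟩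
    · exact ⟨List.formPerm [0, 1, 2, 3, 4, 5, 6], by decide +kernel, h _ 7 (by norm_num) (by decide +kernel) (by decide +kernel)⟩
    · exact ⟨List.formPerm [0, 1, 2, 3, 4, 5, 6, 7] * List.formPerm [8, 9], by decide +kernel, h _ 8 (by norm_num) (by decide +kernel) (by decide +kernel)⟩
    · exact ⟨List.formPerm [0, 1, 2, 3, 4, 5, 6, 7, 8], by decide +kernel, h _ 9 (by norm_num) (by decide +kernel) (by decide +kernel)⟩
    · exact ⟨List.formPerm [0, 1, 2, 3, 4] * List.formPerm [5, 6] * List.formPerm [7, 8], by decide +kernel, h _ 10 (by norm_num) (by decide +kernel) (by decide +kernel)⟩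
    · exact ⟨List.formPerm [0, 1, 2, 3] * List.formPerm [4, 5] * List.formPerm [6, 7, 8], by decide +kernel, h _ 12 (by norm_num) (by decide +kernel) (by decide +kernel)⟩
    · exact ⟨List.formPerm [0, 1, 2, 3, 4] * List.formPerm [5, 6, 7], by decide +kernel, h _ 15 (by norm_num) (by decide +kernel) (by decide +kernel)⟩
    · exact ⟨List.formPerm [0, 1, 2, 3, 4, 5, 6] * List.formPerm [7, 8, 9], by decide +kernel, h _ 21 (by norm_num) (by decide +kernel) (by decide +kernel)⟩
  ext k
  constructor
  · rintro ⟨⟨g, hg⟩, rfl⟩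
    rw [Subgroup.orderOf_mk, ← Equiv.Perm.lcm_cycleType]
    set c := g.cycleType with hc
    have h2 : ∀ x ∈ c, 2 ≤ x := fun x hx => Equiv.Perm.two_le_of_mem_cycleType hx
    have hsum : c.sum ≤ 10 := by
      rw [hc, Equiv.Perm.sum_cycleType]
      exact (Finset.card_le_univ _).trans (by simp)
    have hev : Even (c.sum + Multiset.card c) := by
      have hs := Equiv.Perm.mem_alternatingGroup.mp hg
      rw [Equiv.Perm.sign_of_cycleType, neg_one_pow_eq_one_iff_even (by decide)] at hs
      exact hs
    have hmem : ∀ x ∈ c, x ≤ 10 := fun x hx => (Multiset.le_sum_of_mem hx).trans hsum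
    have heq : c = Multiset.replicate (c.count 2) 2 + Multiset.replicate (c.count 3) 3 + Multiset.replicate (c.count 4) 4 +
        Multiset.replicate (c.count 5) 5 + Multiset.replicate (c.count 6) 6 + Multiset.replicate (c.count 7) 7 +
        Multiset.replicate (c.count 8) 8 + Multiset.replicate (c.count 9) 9 + Multiset.replicate (c.count 10) 10 := by
      ext k
      simp only [Multiset.count_add, Multiset.count_replicate]
      by_cases hk : k ∈ c
      · have := h2 k hk
        have := hmem k hk
        interval_cases k <;> simp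
      · rw [Multiset.count_eq_zero_of_notMem hk]
        have : ∀ m, (if m = k then c.count m else 0) = 0 := fun m => by
          split
          · next h => rw [h, Multiset.count_eq_zero_of_notMem hk]
          · rfl
        simp [this]
    rw [heq] at hsum hev
    simp only [Multiset.sum_add, Multiset.sum_replicate, Multiset.card_add, Multiset.card_replicate, smul_eq_mul] at hsum hev
    rw [heq]
    have := hle (c.count 2) (by omega) (c.count 3) (by omega) (c.count 4) (by omega) (c.count 5) (by omega)
      (c.count 6) (by omega) (c.count 7) (by omega) (c.count 8) (by omega) (c.count 9) (by omega)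
      (c.count 10) (by omega) (by omega) (by
        rw [Nat.even_iff] at hev ⊢
        omega)
    simpa using this
  · intro hk
    obtain ⟨g, hg, ho⟩ := hw k (by simpa using hk)
    exact ⟨⟨g, Equiv.Perm.mem_alternatingGroup.mpr hg⟩, by rw [Subgroup.orderOf_mk, ho]⟩

end Cfsg.Agent.S2477
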