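import Cfsg.Statements.S2650
import Cfsg.Agent.Golay.Cocode23

set_option autoImplicit false
open Cfsg

namespace Cfsg.Agent.S2650

open CfsgLib.Golay CfsgLib.Golay.Cocode23

/-- An element of order four. -/
def ga : List ℕ := [7, 1, 12, 3, 2, 6, 13, 0, 21, 18, 4, 8, 10, 17, 11, 19, 16, 5, 9, 20, 22, 14, 15, 23]
/-- An involution. -/
def gb : List ℕ := [0, 16, 10, 3, 5, 4, 6, 9, 20, 7, 2, 11, 13, 12, 15, 14, 1, 17, 18, 22, 8, 21, 19, 23]

theorem ga_valid : validTab ga = true := by decide +kernel
theorem gb_valid : validTab gb = true := by decide +kernel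
theorem ga_mem : permOf ga ∈ Spor.M23 := mem_M23_of_tab ga_valid (by decide +kernel) (by decide +kernel)
theorem gb_mem : permOf gb ∈ Spor.M23 := mem_M23_of_tab gb_valid (by decide +kernel) (by decide +kernel)

theorem T_step {g : List ℕ} (hv : validTab g = true) {m r : ℕ} (hm : m < 2048)
    (h : (actTab g (encM m) >>> 1) % 2 ^ 11 = r) : T (permOf g) (vec m) = vec r := by
  rw [T_vec hv hm, ← h]
  funext i
  simp only [vec, Nat.testBit_mod_two_pow, i.isLt, decide_true, Bool.true_and]

theorem rel_one : permOf gb * permOf gb = 1 := by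
  refine Equiv.ext fun p => idx_injective (Fin.ext ?_)
  simp only [Equiv.Perm.mul_apply, idx_permOf gb_valid, Equiv.Perm.one_apply]
  revert p
  decide +kernel

theorem rel_two : permOf gb * permOf ga * permOf ga = permOf ga * permOf ga * permOf gb := by
  refine Equiv.ext fun p => idx_injective (Fin.ext ?_)
  simp only [Equiv.Perm.mul_apply, idx_permOf ga_valid, idx_permOf gb_valid]
  revert p
  decide +kernel

theorem rel_three : permOf ga * permOf gb * permOf ga * permOf gb * permOf ga
    = permOf gb * permOf ga * permOf gb := by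
  refine Equiv.ext fun p => idx_injective (Fin.ext ?_)
  simp only [Equiv.Perm.mul_apply, idx_permOf ga_valid, idx_permOf gb_valid]
  revert p
  decide +kernel

theorem no_complement (H : Subgroup Ext) (hi : H ⊓ proj.ker = ⊥) : H ⊔ proj.ker ≠ ⊤ := by
  intro hs
  have pick : ∀ s : ↥Spor.M23, ∃ h ∈ H, h.σ = s := by
    intro s
    obtain ⟨g, rfl⟩ := proj_surjective s
    obtain ⟨y, hy, x, hx, rfl⟩ := Subgroup.mem_sup_of_normal_right.1 (hs ▸ Subgroup.mem_top g)
    refine ⟨y, hy, ?_⟩
    show proj y = proj (y * x)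
    rw [map_mul, MonoidHom.mem_ker.1 hx, mul_one]
  have uniq : ∀ u ∈ H, ∀ v ∈ H, u.σ.1 = v.σ.1 → u = v := by
    intro u hu v hv h
    have hm : u⁻¹ * v ∈ H ⊓ proj.ker := by
      refine ⟨H.mul_mem (H.inv_mem hu) hv, MonoidHom.mem_ker.2 ?_⟩
      rw [map_mul, map_inv, inv_mul_eq_one]
      exact Subtype.ext h
    rw [hi, Subgroup.mem_bot, inv_mul_eq_one] at hm
    exact hm
  obtain ⟨A, hAH, hA'⟩ := pick ⟨permOf ga, ga_mem⟩
  obtain ⟨B, hBH, hB'⟩ := pick ⟨permOf gb, gb_mem⟩
  have hA : A.σ.1 = permOf ga := congrArg Subtype.val hA'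
  have hB : B.σ.1 = permOf gb := congrArg Subtype.val hB'
  have e1 : B * B = 1 := uniq _ (H.mul_mem hBH hBH) _ H.one_mem (by
    simp only [mul_σ, one_σ, Subgroup.coe_mul, Subgroup.coe_one, hA, hB, rel_one])
  have e2 : B * A * A = A * A * B :=
    uniq _ (H.mul_mem (H.mul_mem hBH hAH) hAH) _ (H.mul_mem (H.mul_mem hAH hAH) hBH) (by
      simp only [mul_σ, Subgroup.coe_mul, hA, hB, rel_two])
  have e3 : A * B * A * B * A = B * A * B :=
    uniq _ (H.mul_mem (H.mul_mem (H.mul_mem (H.mul_mem hAH hBH) hAH) hBH) hAH) _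
      (H.mul_mem (H.mul_mem hBH hAH) hBH) (by simp only [mul_σ, Subgroup.coe_mul, hA, hB, rel_three])
  have tA_1289 : T (permOf ga) (vec 1289) = vec 147 := T_step ga_valid (by norm_num) (by decide +kernel)
  have tA_1808 : T (permOf ga) (vec 1808) = vec 232 := T_step ga_valid (by norm_num) (by decide +kernel)
  have tA_2 : T (permOf ga) (vec 2) = vec 1104 := T_step ga_valid (by norm_num) (by decide +kernel)
  have tA_206 : T (permOf ga) (vec 206) = vec 1046 := T_step ga_valid (by norm_num) (by decide +kernel)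
  have tA_384 : T (permOf ga) (vec 384) = vec 1296 := T_step ga_valid (by norm_num) (by decide +kernel)
  have tA_4 : T (permOf ga) (vec 4) = vec 788 := T_step ga_valid (by norm_num) (by decide +kernel)
  have tA_64 : T (permOf ga) (vec 64) = vec 1808 := T_step ga_valid (by norm_num) (by decide +kernel)
  have tA_641 : T (permOf ga) (vec 641) = vec 1625 := T_step ga_valid (by norm_num) (by decide +kernel)
  have tA_788 : T (permOf ga) (vec 788) = vec 1084 := T_step ga_valid (by norm_num) (by decide +kernel)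
  have tB_1046 : T (permOf gb) (vec 1046) = vec 1548 := T_step gb_valid (by norm_num) (by decide +kernel)
  have tB_1104 : T (permOf gb) (vec 1104) = vec 1289 := T_step gb_valid (by norm_num) (by decide +kernel)
  have tB_147 : T (permOf gb) (vec 147) = vec 648 := T_step gb_valid (by norm_num) (by decide +kernel)
  have tB_16 : T (permOf gb) (vec 16) = vec 137 := T_step gb_valid (by norm_num) (by decide +kernel)
  have tB_2 : T (permOf gb) (vec 2) = vec 641 := T_step gb_valid (by norm_num) (by decide +kernel)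
  have tB_4 : T (permOf gb) (vec 4) = vec 4 := T_step gb_valid (by norm_num) (by decide +kernel)
  have tB_64 : T (permOf gb) (vec 64) = vec 384 := T_step gb_valid (by norm_num) (by decide +kernel)
  have tB_788 : T (permOf gb) (vec 788) = vec 206 := T_step gb_valid (by norm_num) (by decide +kernel)
  have r0 : B.f (vec 641) + B.f (vec 2) = 0 := by
    have h := congrArg (fun t => Ext.f t (vec 2)) e1
    simp only [mul_f, one_f, hA, hB] at h
    simp only [tB_2] at h
    linear_combination h
  have r1 : B.f (vec 137) + B.f (vec 16) = 0 := by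
    have h := congrArg (fun t => Ext.f t (vec 16)) e1
    simp only [mul_f, one_f, hA, hB] at h
    simp only [tB_16] at h
    linear_combination h
  have r2 : B.f (vec 1084) + A.f (vec 788) + A.f (vec 4) = A.f (vec 788) + A.f (vec 4) + B.f (vec 4) := by
    have h := congrArg (fun t => Ext.f t (vec 4)) e2
    simp only [mul_f, one_f, hA, hB] at h
    simp only [tA_4, tA_788, tB_4] at h
    linear_combination h
  have r3 : B.f (vec 232) + A.f (vec 1808) + A.f (vec 64) = A.f (vec 1296) + A.f (vec 384) + B.f (vec 64) := by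
    have h := congrArg (fun t => Ext.f t (vec 64)) e2
    simp only [mul_f, one_f, hA, hB] at h
    simp only [tA_64, tA_1808, tB_64, tA_384] at h
    linear_combination h
  have r4 : A.f (vec 648) + B.f (vec 147) + A.f (vec 1289) + B.f (vec 1104) + A.f (vec 2) = B.f (vec 1625) + A.f (vec 641) + B.f (vec 2) := by
    have h := congrArg (fun t => Ext.f t (vec 2)) e3
    simp only [mul_f, one_f, hA, hB] at h
    simp only [tA_2, tB_1104, tA_1289, tB_147, tB_2, tA_641] at h
    linear_combination h
  have r5 : A.f (vec 1548) + B.f (vec 1046) + A.f (vec 206) + B.f (vec 788) + A.f (vec 4) = B.f (vec 788) + A.f (vec 4) + B.f (vec 4) := by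
    have h := congrArg (fun t => Ext.f t (vec 4)) e3
    simp only [mul_f, one_f, hA, hB] at h
    simp only [tA_4, tB_788, tA_206, tB_1046, tB_4] at h
    linear_combination h
  have sA0 : A.f (vec 64) + A.f (vec 1808) = A.f (vec 1872) + (1 : ZMod 2) :=
    f_step A hA ga_valid _ _ (by norm_num) (by norm_num) (by decide +kernel)
  have sA1 : A.f (vec 1872) + A.f (vec 384) = A.f (vec 1744) + (0 : ZMod 2) :=
    f_step A hA ga_valid _ _ (by norm_num) (by norm_num) (by decide +kernel)
  have sA2 : A.f (vec 1744) + A.f (vec 1296) = A.f (vec 960) + (0 : ZMod 2) :=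
    f_step A hA ga_valid _ _ (by norm_num) (by norm_num) (by decide +kernel)
  have sA3 : A.f (vec 960) + A.f (vec 2) = A.f (vec 962) + (0 : ZMod 2) :=
    f_step A hA ga_valid _ _ (by norm_num) (by norm_num) (by decide +kernel)
  have sA4 : A.f (vec 962) + A.f (vec 1289) = A.f (vec 1739) + (0 : ZMod 2) :=
    f_step A hA ga_valid _ _ (by norm_num) (by norm_num) (by decide +kernel)
  have sA5 : A.f (vec 1739) + A.f (vec 648) = A.f (vec 1091) + (0 : ZMod 2) :=
    f_step A hA ga_valid _ _ (by norm_num) (by norm_num) (by decide +kernel)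
  have sA6 : A.f (vec 1091) + A.f (vec 641) = A.f (vec 1730) + (1 : ZMod 2) :=
    f_step A hA ga_valid _ _ (by norm_num) (by norm_num) (by decide +kernel)
  have sA7 : A.f (vec 1730) + A.f (vec 206) = A.f (vec 1548) + (1 : ZMod 2) :=
    f_step A hA ga_valid _ _ (by norm_num) (by norm_num) (by decide +kernel)
  have sA8 : A.f (vec 1548) + A.f (vec 1548) = A.f (vec 0) + (0 : ZMod 2) :=
    f_step A hA ga_valid _ _ (by norm_num) (by norm_num) (by decide +kernel)
  have zA : A.f (vec 0) = 0 := by rw [vec_zero]; exact f_zero A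
  have sB0 : B.f (vec 641) + B.f (vec 16) = B.f (vec 657) + (1 : ZMod 2) :=
    f_step B hB gb_valid _ _ (by norm_num) (by norm_num) (by decide +kernel)
  have sB1 : B.f (vec 657) + B.f (vec 137) = B.f (vec 536) + (1 : ZMod 2) :=
    f_step B hB gb_valid _ _ (by norm_num) (by norm_num) (by decide +kernel)
  have sB2 : B.f (vec 536) + B.f (vec 1084) = B.f (vec 1572) + (0 : ZMod 2) :=
    f_step B hB gb_valid _ _ (by norm_num) (by norm_num) (by decide +kernel)
  have sB3 : B.f (vec 1572) + B.f (vec 232) = B.f (vec 1740) + (0 : ZMod 2) :=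
    f_step B hB gb_valid _ _ (by norm_num) (by norm_num) (by decide +kernel)
  have sB4 : B.f (vec 1740) + B.f (vec 64) = B.f (vec 1676) + (1 : ZMod 2) :=
    f_step B hB gb_valid _ _ (by norm_num) (by norm_num) (by decide +kernel)
  have sB5 : B.f (vec 1676) + B.f (vec 1104) = B.f (vec 732) + (0 : ZMod 2) :=
    f_step B hB gb_valid _ _ (by norm_num) (by norm_num) (by decide +kernel)
  have sB6 : B.f (vec 732) + B.f (vec 147) = B.f (vec 591) + (1 : ZMod 2) :=
    f_step B hB gb_valid _ _ (by norm_num) (by norm_num) (by decide +kernel)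
  have sB7 : B.f (vec 591) + B.f (vec 1625) = B.f (vec 1046) + (0 : ZMod 2) :=
    f_step B hB gb_valid _ _ (by norm_num) (by norm_num) (by decide +kernel)
  have sB8 : B.f (vec 1046) + B.f (vec 1046) = B.f (vec 0) + (0 : ZMod 2) :=
    f_step B hB gb_valid _ _ (by norm_num) (by norm_num) (by decide +kernel)
  have zB : B.f (vec 0) = 0 := by rw [vec_zero]; exact f_zero B
  have hcontra : (1 : ZMod 2) = 0 := by
    linear_combination r0 + r1 + r2 + r3 + r4 + r5 + sA0 + sA1 + sA2 + sA3 + sA4 + sA5 + sA6 + sA7 + sA8 + zA + sB0 + sB1 + sB2 + sB3 + sB4 + sB5 + sB6 + sB7 + sB8 + zB + (-1 : ZMod 2) * z2 (B.f (vec 641)) + (-1 : ZMod 2) * z2 (B.f (vec 137)) + (-1 : ZMod 2) * z2 (B.f (vec 16)) + (-1 : ZMod 2) * z2 (B.f (vec 1084)) + (1 : ZMod 2) * z2 (B.f (vec 4)) + (-1 : ZMod 2) * z2 (B.f (vec 232)) + (-1 : ZMod 2) * z2 (A.f (vec 1808)) + (-1 : ZMod 2) * z2 (A.f (vec 64)) + (-1 : ZMod 2) * z2 (A.f (vec 648)) + (-1 : ZMod 2) * z2 (B.f (vec 147)) + (-1 : ZMod 2) * z2 (A.f (vec 1289)) + (-1 : ZMod 2) * z2 (B.f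 (vec 1104)) + (-1 : ZMod 2) * z2 (A.f (vec 2)) + (-1 : ZMod 2) * z2 (A.f (vec 1548)) + (-1 : ZMod 2) * z2 (B.f (vec 1046)) + (-1 : ZMod 2) * z2 (A.f (vec 206)) + (4 : ZMod 2) * z2 1
  exact one_ne_zero hcontra


/-- A non-split extension of the Mathieu group M₂₃ by its cocode module exists. There is a finite group E with a normal subgroup N, an isomorphism φ from E/N onto M₂₃ = `Spor.M23` (the stabiliser of the extra point `none` in M₂₄ acting on the 24 points `GolayPt`), and a surjective additive homomorphism θ from the binary words on `GolayPt` onto N whose kernel consists of the words of the Golay code `golayCode` and their translates by the unit vector at `none` (so N is elementary abelian of order 2¹¹), such that θ carries the coordinate permutation w ↦ w ∘ σ⁻¹, σ = φ(gN), to conjugation by g on N — and such that N has no complement in E. -/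
theorem result :
    ∃ (E : Type) (_ : Group E) (_ : Finite E) (N : Subgroup E) (_ : N.Normal)
      (φ : E ⧸ N ≃* ↥Cfsg.Spor.M23) (θ : (Cfsg.GolayPt → ZMod 2) →+ Additive ↥N),
      Function.Surjective θ ∧
      (∀ w : Cfsg.GolayPt → ZMod 2, θ w = 0 ↔ (w ∈ Cfsg.golayCode ∨ w + Pi.single none 1 ∈ Cfsg.golayCode)) ∧
      (∀ (g : E) (w : Cfsg.GolayPt → ZMod 2),
        ((θ (w ∘ ⇑(((φ (QuotientGroup.mk g) : ↥Cfsg.Spor.M23) : Equiv.Perm Cfsg.GolayPt)⁻¹))).toMul : E)
          = g * ((θ w).toMul : E) * g⁻¹) ∧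
      ∀ H : Subgroup E, H ⊓ N = ⊥ → H ⊔ N ≠ ⊤ := by
  refine ⟨Ext, inferInstance, inferInstance, proj.ker, inferInstance,
    QuotientGroup.quotientKerEquivOfSurjective proj proj_surjective, theta, theta_surjective,
    theta_eq_zero, fun g w => ?_, no_complement⟩
  exact theta_conj g w

end Cfsg.Agent.S2650
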