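import Cfsg.Statements.S2651
import Cfsg.Agent.M23Coh.CocodeModel
import Cfsg.Agent.M23Coh.Baer

set_option autoImplicit false
open Cfsg

namespace Cfsg.Agent.S2651

/-- The non-split extension of the Mathieu group M₂₃ by its cocode module is unique. Suppose E and E' are finite groups, each with a normal subgroup (N, N'), an isomorphism of the quotient onto M₂₃ = `Spor.M23`, and a surjective additive homomorphism from the binary words on the 24 points `GolayPt` onto the normal subgroup with kernel the Golay code `golayCode` together with its translate by the unit vector at the extra point `none`, intertwining the coordinate permutation w ↦ w ∘ σ⁻¹ (σ the image of gN) with conjugation by g; and suppose that in each group the normal subgroup has no complement. Then E and E' are isomorphic. -/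
theorem result
    {E : Type*} [Group E] [Finite E] (N : Subgroup E) [hN : N.Normal]
    (φ : E ⧸ N ≃* ↥Cfsg.Spor.M23) (θ : (Cfsg.GolayPt → ZMod 2) →+ Additive ↥N)
    (hsurj : Function.Surjective θ)
    (hker : ∀ w : Cfsg.GolayPt → ZMod 2, θ w = 0 ↔ (w ∈ Cfsg.golayCode ∨ w + Pi.single none 1 ∈ Cfsg.golayCode))
    (hθ : ∀ (g : E) (w : Cfsg.GolayPt → ZMod 2),
      ((θ (w ∘ ⇑(((φ (QuotientGroup.mk g) : ↥Cfsg.Spor.M23) : Equiv.Perm Cfsg.GolayPt)⁻¹))).toMul : E)
        = g * ((θ w).toMul : E) * g⁻¹)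
    (hns : ∀ H : Subgroup E, H ⊓ N = ⊥ → H ⊔ N ≠ ⊤)
    {E' : Type*} [Group E'] [Finite E'] (N' : Subgroup E') [hN' : N'.Normal]
    (φ' : E' ⧸ N' ≃* ↥Cfsg.Spor.M23) (θ' : (Cfsg.GolayPt → ZMod 2) →+ Additive ↥N')
    (hsurj' : Function.Surjective θ')
    (hker' : ∀ w : Cfsg.GolayPt → ZMod 2, θ' w = 0 ↔ (w ∈ Cfsg.golayCode ∨ w + Pi.single none 1 ∈ Cfsg.golayCode))
    (hθ' : ∀ (g : E') (w : Cfsg.GolayPt → ZMod 2),
      ((θ' (w ∘ ⇑(((φ' (QuotientGroup.mk g) : ↥Cfsg.Spor.M23) : Equiv.Perm Cfsg.GolayPt)⁻¹))).toMul : E')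
        = g * ((θ' w).toMul : E') * g⁻¹)
    (hns' : ∀ H : Subgroup E', H ⊓ N' = ⊥ → H ⊔ N' ≠ ⊤) :
    Nonempty (E ≃* E') := by
  obtain ⟨X, hX⟩ := CfsgLib.M23Coh.exists_cocodeData N φ θ hsurj hker hθ
  obtain ⟨X', hX'⟩ := CfsgLib.M23Coh.exists_cocodeData N' φ' θ' hsurj' hker' hθ'
  have hP := CfsgLib.M23Coh.CocodeData.cert_ok
  have hg : CfsgLib.M23Coh.okGens CfsgLib.M23Coh.CocodeData.cert.P.gens = true := by
    simp only [CfsgLib.M23Coh.Pres.ok, Bool.and_eq_true] at hP; exact hP.1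
  obtain ⟨L, hL⟩ := CfsgLib.M23Coh.exists_lift X hg
  obtain ⟨L', hL'⟩ := CfsgLib.M23Coh.exists_lift X' hg
  have hone : ∀ z : ZMod 2, z ≠ 0 → z = 1 := by decide
  have h1 := hone _ fun h => by
    obtain ⟨H, a, b⟩ := CfsgLib.M23Coh.exists_complement X hP CfsgLib.M23Coh.CocodeData.cert_rows
      CfsgLib.M23Coh.CocodeData.cert_sol CfsgLib.M23Coh.CocodeData.cert_nf hL h
    exact hns H (hX ▸ a) (hX ▸ b)
  have h2 := hone _ fun h => by
    obtain ⟨H, a, b⟩ := CfsgLib.M23Coh.exists_complement X' hP CfsgLib.M23Coh.CocodeData.cert_rows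
      CfsgLib.M23Coh.CocodeData.cert_sol CfsgLib.M23Coh.CocodeData.cert_nf hL' h
    exact hns' H (hX' ▸ a) (hX' ▸ b)
  obtain ⟨hL'', hsum⟩ := CfsgLib.M23Coh.relX_sum X X' hP hL hL'
  haveI : Finite (↥(CfsgLib.M23Coh.fibre X X') ⧸ CfsgLib.M23Coh.anti X X') := inferInstance
  obtain ⟨H, a, b⟩ := CfsgLib.M23Coh.exists_complement (CfsgLib.M23Coh.sumData X X') hP
    CfsgLib.M23Coh.CocodeData.cert_rows CfsgLib.M23Coh.CocodeData.cert_sol CfsgLib.M23Coh.CocodeData.cert_nf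
    hL'' (by rw [funext hsum, CfsgLib.M23Coh.ev_add, h1, h2]; rfl)
  exact CfsgLib.M23Coh.nonempty_mulEquiv X X' H a b

end Cfsg.Agent.S2651
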