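import Cfsg.Statements.S2803
import Cfsg.Agent.PReduced.Basic

set_option autoImplicit false
open Cfsg

namespace Cfsg.Agent.S2803

open Subgroup CfsgLib.PReduced in
/-- The three assertions, with `Y` the largest `p`-reduced normal subgroup. -/
theorem aux {L : Type*} [Group L] [Finite L] {p : ℕ} [Fact p.Prime]
    (hchar : centralizer (Cfsg.pCore p L : Set L) ≤ Cfsg.pCore p L) (T : Sylow p L) (Y : Subgroup L)
    (hY : Cfsg.IsPReducedNormal p Y ∧ ∀ V : Subgroup L, Cfsg.IsPReducedNormal p V → V ≤ Y) (TL : Subgroup L)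
    (hTL : TL = (T : Subgroup L) ⊓ centralizer (Y : Set L)) :
    (∀ g : L, ∃ a ∈ normalizer (TL : Set L), ∃ c ∈ centralizer (Y : Set L), g = a * c) ∧
      (Cfsg.pCore p ↥(normalizer (TL : Set L))).map (normalizer (TL : Set L)).subtype = TL ∧
      Y = Cfsg.omegaOne p (TL ⊓ centralizer (TL : Set L)) := by
  obtain ⟨hYr, hYmax⟩ := hY
  obtain ⟨hYn, hYe, hYD⟩ := isPReducedNormal_iff.mp hYr
  set C := centralizer (Y : Set L) with hC
  set N := normalizer (TL : Set L) with hN
  obtain ⟨P, hP⟩ := exists_sylow_inf T C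
  have hPmap : (P : Subgroup C).map C.subtype = TL := by
    rw [hP, hTL, Subgroup.map_subgroupOf_eq_of_le inf_le_right]
  have hfr : N ⊔ C = ⊤ := by
    have := Sylow.normalizer_sup_eq_top P
    rwa [hPmap] at this
  have hTLC : TL ≤ C := hTL ▸ inf_le_right
  have hTLp : IsPGroup p TL := hTL ▸ T.isPGroup'.to_le inf_le_left
  have hTN : (T : Subgroup L) ≤ N := by
    intro x hx
    rw [hN, hTL, Subgroup.mem_normalizer_iff]
    intro y
    simp only [Subgroup.mem_inf]
    refine and_congr ?_ ?_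
    · constructor
      · intro hy
        exact mul_mem (mul_mem hx hy) (inv_mem hx)
      · intro hy
        simpa [mul_assoc] using mul_mem (mul_mem (inv_mem hx) hy) hx
    · constructor
      · intro hy
        exact Subgroup.Normal.conj_mem inferInstance _ hy _
      · intro hy
        simpa [mul_assoc] using Subgroup.Normal.conj_mem (H := C) inferInstance _ hy x⁻¹
  -- subgroups of `N` normalized by `N` with `p`-power image modulo `C` lie in `C`
  have hkill : ∀ D : Subgroup L, D ≤ N → N ≤ normalizer (D : Set L) → PowMem p D C → D ≤ C := by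
    intro D hDN hDn hpm
    have hn : (D ⊔ C).Normal := by
      rw [← Subgroup.normalizer_eq_top_iff, eq_top_iff, ← hfr]
      refine sup_le (fun g hg => ?_) (le_trans le_sup_right Subgroup.le_normalizer)
      have hgC : g ∈ normalizer (C : Set L) := by rw [Subgroup.normalizer_eq_top]; exact Subgroup.mem_top g
      exact normalizer_inf_le_normalizer_sup D C ⟨hDn hg, hgC⟩
    have hDC : D ≤ normalizer (C : Set L) := by rw [Subgroup.normalizer_eq_top]; exact le_top
    exact le_sup_left.trans (hYD _ hn (powMem_sup_left hDC hpm))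
  have hcore : Cfsg.pCoreOf p N = TL := by
    apply le_antisymm
    · have h1 : Cfsg.pCoreOf p N ≤ C :=
        hkill _ (pCoreOf_le N) (le_normalizer_pCoreOf N) (powMem_of_isPGroup (isPGroup_pCoreOf N) C)
      have h2 : TL ≤ Cfsg.pCoreOf p N := le_pCoreOf Subgroup.le_normalizer le_rfl hTLp
      have h3 := P.is_maximal' ((isPGroup_pCoreOf N).of_equiv (Subgroup.subgroupOfEquivOfLe h1).symm)
        (fun x hx => h2 (hPmap ▸ Subgroup.mem_map_of_mem C.subtype hx))
      intro x hx
      rw [← hPmap]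
      exact ⟨⟨x, h1 hx⟩, h3 ▸ (hx : (⟨x, h1 hx⟩ : C) ∈ (Cfsg.pCoreOf p N).subgroupOf C), rfl⟩
    · exact le_pCoreOf Subgroup.le_normalizer le_rfl hTLp
  refine ⟨fun g => ?_, hcore, ?_⟩
  · have : g ∈ N ⊔ C := hfr ▸ Subgroup.mem_top g
    obtain ⟨a, ha, c, hc, rfl⟩ := Subgroup.mem_sup_of_normal_right.mp this
    exact ⟨a, ha, c, hc, rfl⟩
  set W := Cfsg.omegaOne p (TL ⊓ centralizer (TL : Set L)) with hW
  have hWle : W ≤ TL ⊓ centralizer (TL : Set L) := (Subgroup.closure_le _).mpr fun x hx => hx.1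
  have hYW : Y ≤ W := by
    intro y hy
    refine Subgroup.subset_closure ⟨⟨?_, ?_⟩, hYe.2 y hy⟩
    · rw [hTL]
      exact ⟨pCore_le_sylow T (le_pCore hYn (isPGroup_of_isElementaryAbelian hYe) hy),
        le_centralizer_self hYe hy⟩
    · exact (Subgroup.le_centralizer_iff.mp hTLC) hy
  refine le_antisymm hYW ?_
  have hWc : W ≤ centralizer (W : Set L) :=
    (hWle.trans inf_le_right).trans (Subgroup.centralizer_le (hWle.trans inf_le_left))
  have hWe : Cfsg.IsElementaryAbelian p W :=
    isElementaryAbelian_of hWc le_rfl Subgroup.subset_closure fun x hx => hx.2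
  have hWN : W ≤ N := (hWle.trans inf_le_left).trans Subgroup.le_normalizer
  have hNW : N ≤ normalizer (W : Set L) := by
    have key : ∀ g ∈ N, ∀ x ∈ W, g * x * g⁻¹ ∈ W := by
      intro g hg x hx
      refine Subgroup.closure_induction (p := fun x _ => g * x * g⁻¹ ∈ W) ?_ (by simp) ?_ ?_ hx
      · rintro y ⟨⟨hy1, hy2⟩, hy3⟩
        refine Subgroup.subset_closure ⟨⟨(Subgroup.mem_normalizer_iff.mp hg y).mp hy1, ?_⟩, ?_⟩
        · show g * y * g⁻¹ ∈ centralizer (TL : Set L)
          rw [Subgroup.mem_centralizer_iff]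
          intro z hz
          have hz' := Subgroup.mem_centralizer_iff.mp hy2 (g⁻¹ * z * g)
            (by simpa using (Subgroup.mem_normalizer_iff.mp (inv_mem hg) z).mp hz)
          calc z * (g * y * g⁻¹) = g * (g⁻¹ * z * g * y) * g⁻¹ := by group
            _ = g * (y * (g⁻¹ * z * g)) * g⁻¹ := by rw [hz']
            _ = g * y * g⁻¹ * z := by group
        · rw [conj_pow, hy3, mul_one, mul_inv_cancel]
      · intro a b _ _ ha hb
        simpa [mul_assoc] using mul_mem ha hb
      · intro a _ ha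
        simpa [mul_assoc] using inv_mem ha
    intro g hg
    rw [Subgroup.mem_normalizer_iff]
    exact fun x => ⟨key g hg x, fun h => by simpa [mul_assoc] using key g⁻¹ (inv_mem hg) _ h⟩
  -- `W` is `p`-reduced in `N`
  have hX : W ≤ Cfsg.largestPReducedOf p N := by
    refine le_largestPReducedOf hWN hNW hWe fun D hDN hDn hpm => ?_
    have hDC : D ≤ C := hkill D hDN hDn (powMem_mono hpm le_rfl (Subgroup.centralizer_le hYW))
    have hTW : TL ≤ centralizer (W : Set L) := Subgroup.le_centralizer_iff.mp (hWle.trans inf_le_right)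
    have hidx : ¬ p ∣ TL.relIndex (N ⊓ C) := by
      intro h
      have h1 : TL.relIndex C = (P : Subgroup C).index := by
        rw [hP, Subgroup.relIndex, hTL]
      have h2 := Subgroup.relIndex_mul_relIndex TL (N ⊓ C) C (le_inf Subgroup.le_normalizer hTLC) inf_le_right
      exact P.not_dvd_index (h1 ▸ h2 ▸ dvd_mul_of_dvd_left h _)
    intro d hd
    obtain ⟨k, hk⟩ := hpm d hd
    haveI : (TL.subgroupOf (N ⊓ C)).Normal := Subgroup.normal_subgroupOf_of_le_normalizer inf_le_left
    have hm : d ^ TL.relIndex (N ⊓ C) ∈ TL :=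
      Subgroup.mem_subgroupOf.mp (by
        simpa using Subgroup.pow_index_mem (TL.subgroupOf (N ⊓ C)) ⟨d, hDN hd, hDC hd⟩)
    have hcop : Nat.Coprime (p ^ k) (TL.relIndex (N ⊓ C)) :=
      Nat.Coprime.pow_left _ ((Fact.out : p.Prime).coprime_iff_not_dvd.mpr hidx)
    have : d ^ Nat.gcd (p ^ k) (TL.relIndex (N ⊓ C)) ∈ centralizer (W : Set L) := by
      rw [← zpow_natCast, Nat.gcd_eq_gcd_ab, zpow_add, zpow_mul, zpow_mul, zpow_natCast, zpow_natCast]
      exact mul_mem (zpow_mem hk _) (zpow_mem (hTW hm) _)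
    rwa [hcop.gcd_eq_one, pow_one] at this
  have hnc := isPReducedNormal_normalClosure hchar T N hTN _ (isPReducedNormal_largestPReduced p N)
  exact hX.trans ((Subgroup.subset_normalClosure).trans (hYmax _ hnc))

/-- Let L be a finite group and p a prime with C_L(O_p(L)) ≤ O_p(L), T a Sylow p-subgroup, and Y the largest p-reduced normal subgroup of L. Put T_L = C_T(Y) and L_T = N_L(T_L). Then L = L_T · C_L(Y) (elementwise), T_L = O_p(L_T), and Y = Ω₁(Z(T_L)). -/
theorem result {L : Type*} [Group L] [Finite L] {p : ℕ} [Fact p.Prime] (hchar : Subgroup.centralizer (Cfsg.pCore p L : Set L) ≤ Cfsg.pCore p L) (T : Sylow p L) (Y : Subgroup L) (hY : (Cfsg.IsPReducedNormal p Y ∧ ∀ V : Subgroup L, Cfsg.IsPReducedNormal p V → V ≤ Y)) (TL : Subgroup L) (hTL : TL = (T : Subgroup L) ⊓ Subgroup.centralizer (Y : Set L)) : (∀ g : L, ∃ a ∈ Subgroup.normalizer (TL : Set L), ∃ c ∈ Subgroup.centralizer (Y : Set L), g = a * c) ∧ (Cfsg.pCore p ↥(Subgroup.normalizer (TL : Set L))).map (Subgroup.normalizer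 (TL : Set L)).subtype = TL ∧ Y = Cfsg.omegaOne p (TL ⊓ Subgroup.centralizer (TL : Set L)) := by
  exact aux hchar T Y hY TL hTL

end Cfsg.Agent.S2803
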