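import Cfsg.Statements.S2804
import Cfsg.Agent.PReduced.CharP
import Cfsg.Agent.PReduced.CommutatorAction
import Cfsg.Agent.Subnormal.BaerSuzuki
import Mathlib

set_option autoImplicit false
open Cfsg

namespace Cfsg.Agent.S2804

open Subgroup CfsgLib.PReduced
open scoped commutatorElement

variable {L : Type*} [Group L] [Finite L] {p : ℕ} [Fact p.Prime]

omit [Fact p.Prime] in
theorem cyclic_comm_eq (V : Subgroup L) [V.Normal] [Fact p.Prime] (hV : Cfsg.IsElementaryAbelian p V) {x : L}
    (hx : (orderOf x).Coprime p) : ⁅⁅V, zpowers x⁆, zpowers x⁆ = ⁅V, zpowers x⁆ := by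
  obtain ⟨k, hk⟩ := IsPGroup.iff_card.mp (isPGroup_of_isElementaryAbelian hV)
  haveI := hV.1
  exact CfsgLib.CoprimeAction.commutator_commutator_eq (by rw [normalizer_eq_top_iff.mpr inferInstance]; exact le_top)
    (by rw [Nat.card_zpowers, hk]; exact hx.pow_right k)
    (Or.inr (by haveI := (isPGroup_of_isElementaryAbelian hV).isNilpotent; infer_instance))

theorem comm_le (V : Subgroup L) [V.Normal] (hV : Cfsg.IsElementaryAbelian p V) (K : Subgroup L) (hK : K.IsSubnormal) :
    ∀ x ∈ K, (orderOf x).Coprime p → ⁅V, zpowers x⁆ ≤ K := by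
  induction hK with
  | top => exact fun _ _ _ => le_top
  | step M K hle hsub hN ih =>
    intro x hx hco
    have hn : K ≤ normalizer (M : Set L) := (normal_subgroupOf_iff_le_normalizer hle).mp hN
    rw [← cyclic_comm_eq V hV hco, commutator_comm]
    exact (commutator_mono (zpowers_le.mpr hx) (ih x (hle hx) hco)).trans
      (CfsgLib.PCore.commutator_le_of_le_normalizer hn)

/-- Let L be a finite group and p a prime with C_L(O_p(L)) ≤ O_p(L), V a p-reduced normal subgroup of L and K a subnormal subgroup of L. Then [V, O^p(K)] is contained in K and is a p-reduced normal subgroup of K, where O^p(K) is the subgroup of K generated by its elements of order prime to p. -/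
theorem result {L : Type*} [Group L] [Finite L] {p : ℕ} [Fact p.Prime] (hchar : Subgroup.centralizer (Cfsg.pCore p L : Set L) ≤ Cfsg.pCore p L) (V : Subgroup L) (hV : Cfsg.IsPReducedNormal p V) (K : Subgroup L) (hK : K.IsSubnormal) : ⁅V, (Cfsg.pResidual p ↥K).map K.subtype⁆ ≤ K ∧ Cfsg.IsPReducedNormal p ((⁅V, (Cfsg.pResidual p ↥K).map K.subtype⁆).subgroupOf K) := by
  obtain ⟨hn, hel, hD⟩ := isPReducedNormal_iff.mp hV
  haveI := hn
  set R := (Cfsg.pResidual p ↥K).map K.subtype with hR
  have hRK : R ≤ K := map_subtype_le _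
  have hVn : ∀ X : Subgroup L, X ≤ normalizer (V : Set L) := fun X => by
    rw [normalizer_eq_top_iff.mpr hn]; exact le_top
  have hcR : ∀ x ∈ R, ∀ v ∈ V, ⁅v, x⁆ ∈ K := by
    rintro _ ⟨y, hy, rfl⟩
    induction hy using closure_induction with
    | mem y hy =>
      intro v hv
      exact comm_le V hel K hK (y : L) y.2 (by rw [orderOf_coe]; exact hy)
        (commutator_mem_commutator hv (mem_zpowers _))
    | one => intro v _; simp
    | mul a b _ _ ha hb =>
      intro v hv
      rw [show K.subtype (a * b) = (a : L) * (b : L) from rfl,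
        show ⁅v, (a : L) * (b : L)⁆ = ⁅v, (a : L)⁆ * ((a : L) * ⁅v, (b : L)⁆ * (a : L)⁻¹) by
          simp only [commutatorElement_def]; group]
      exact mul_mem (ha v hv) (mul_mem (mul_mem a.2 (hb v hv)) (inv_mem a.2))
    | inv a _ ha =>
      intro v hv
      rw [show K.subtype a⁻¹ = (a : L)⁻¹ from rfl,
        show ⁅v, (a : L)⁻¹⁆ = (a : L)⁻¹ * ⁅v, (a : L)⁆⁻¹ * (a : L) by simp only [commutatorElement_def]; group]
      exact mul_mem (mul_mem (inv_mem a.2) (inv_mem (ha v hv))) a.2
  have hWK : ⁅V, R⁆ ≤ K := commutator_le.mpr fun v hv x hx => hcR x hx v hv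
  refine ⟨hWK, isPReducedNormal_iff.mpr ⟨?_, ?_, ?_⟩⟩
  · haveI : (Cfsg.pResidual p ↥K).Characteristic := by
      rw [characteristic_iff_map_le]
      intro φ
      rw [Cfsg.pResidual, MonoidHom.map_closure, closure_le]
      rintro _ ⟨g, hg, rfl⟩
      exact subset_closure (show Nat.Coprime (orderOf (φ g)) p by rw [MulEquiv.orderOf_eq]; exact hg)
    exact normal_subgroupOf_of_le_normalizer
      (CfsgLib.PCore.le_normalizer_commutator (hVn K) (le_normalizer_map_subtype K _))
  · have hWV : ⁅V, R⁆ ≤ V := commutator_le_left V R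
    refine ⟨⟨⟨fun a b => Subtype.ext (Subtype.ext ?_)⟩⟩, fun a ha => Subtype.ext ?_⟩
    · exact mem_centralizer_iff.mp (le_centralizer_self hel (hWV (mem_subgroupOf.mp b.2))) _
        (hWV (mem_subgroupOf.mp a.2))
    · exact hel.2 _ (hWV (mem_subgroupOf.mp ha))
  · intro D hDn hpm
    have hc : ∀ d : ↥K, d ∈ centralizer ((⁅V, R⁆.subgroupOf K : Subgroup ↥K) : Set ↥K) →
        (d : L) ∈ centralizer ((⁅V, R⁆ : Subgroup L) : Set L) := fun d hd => mem_centralizer_iff.mpr fun w hw =>
      congrArg Subtype.val (mem_centralizer_iff.mp hd ⟨w, hWK hw⟩ hw)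
    -- elements of order prime to `p` centralize `V`
    have hpp : ∀ d ∈ D, (orderOf d).Coprime p → (d : L) ∈ centralizer (V : Set L) := by
      intro d hd hco
      obtain ⟨k, hk⟩ := hpm d hd
      obtain ⟨n, hn'⟩ := exists_pow_eq_self_of_coprime (x := d) (n := p ^ k) (hco.symm.pow_left k)
      have hdW : (d : L) ∈ centralizer ((⁅V, R⁆ : Subgroup L) : Set L) := hc d (hn' ▸ pow_mem hk n)
      have hco' : (orderOf (d : L)).Coprime p := by rwa [orderOf_coe]
      have h1 : ⁅V, zpowers (d : L)⁆ ≤ ⁅V, R⁆ :=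
        commutator_mono le_rfl (zpowers_le.mpr ⟨d, subset_closure hco, rfl⟩)
      have h2 : ⁅⁅V, zpowers (d : L)⁆, zpowers (d : L)⁆ = ⊥ :=
        commutator_eq_bot_iff_le_centralizer.mpr (h1.trans (le_centralizer_iff.mp (zpowers_le.mpr hdW)))
      rw [cyclic_comm_eq V hel hco', commutator_comm] at h2
      exact commutator_eq_bot_iff_le_centralizer.mp h2 (mem_zpowers _)
    let π := QuotientGroup.mk' (centralizer (V : Set L))
    have hp : IsPGroup p ((D.map K.subtype).map π) := by
      rintro ⟨_, _, ⟨d, hd, rfl⟩, rfl⟩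
      obtain ⟨k, m, hm, hkm⟩ := Nat.exists_eq_pow_mul_and_not_dvd (orderOf_pos d).ne' p (Fact.out : p.Prime).ne_one
      refine ⟨k, Subtype.ext ?_⟩
      show (π (d : L)) ^ p ^ k = 1
      rw [← map_pow, ← Subgroup.coe_pow]
      refine (QuotientGroup.eq_one_iff _).mpr (hpp _ (pow_mem hd _) ?_)
      rw [orderOf_pow_of_dvd (pow_ne_zero _ (Fact.out : p.Prime).ne_zero) (by rw [hkm]; exact dvd_mul_right _ _),
        hkm, Nat.mul_div_cancel_left _ (pow_pos (Fact.out : p.Prime).pos _)]
      exact ((Fact.out : p.Prime).coprime_iff_not_dvd.mpr hm).symm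
    have hsn : (D.map K.subtype).IsSubnormal := IsSubnormal.step _ K (map_subtype_le _) hK (by
      rw [← comap_subtype, comap_map_eq_self_of_injective K.subtype_injective]; exact hDn)
    have hle := CfsgLib.Subnormal.le_pCore_of_isSubnormal
      (IsSubnormal.map (f := π) (QuotientGroup.mk'_surjective _) hsn) hp
    obtain ⟨_, _, _, hcore⟩ := hV
    rw [hcore, le_bot_iff, Subgroup.map_eq_bot_iff, QuotientGroup.ker_mk'] at hle
    intro d hd
    refine mem_centralizer_iff.mpr fun w hw => Subtype.ext ?_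
    exact mem_centralizer_iff.mp (hle (mem_map_of_mem K.subtype hd)) _ (commutator_le_left V R (mem_subgroupOf.mp hw))

end Cfsg.Agent.S2804
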