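import Cfsg.Statements.S2806
import Mathlib
import Cfsg.Agent.ResidualJoin.Sylow
import Cfsg.Agent.S2805

set_option autoImplicit false
open Cfsg

namespace Cfsg.Agent.S2806

open Subgroup CfsgLib.PReduced Cfsg.Agent.S2805

/-- Kieler's lemma for groups of local characteristic `p`: subnormal subgroups of order divisible
by `p` need no global hypothesis. -/
theorem kieler {H : Type*} [Group H] [Finite H] {p : ℕ} [Fact p.Prime]
    (hH : Cfsg.IsOfLocalCharacteristic p H) (T : Sylow p H) {L : Subgroup H} (hL : L.IsSubnormal)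
    (hne : (T : Subgroup H) ⊓ L ≠ ⊥) :
    L ⊓ centralizer (omegaZ p (T : Subgroup H) : Set H) =
      L ⊓ centralizer (omegaZ p ((T : Subgroup H) ⊓ L) : Set H) := by
  induction hL with
  | top => rw [inf_top_eq]
  | step M K hle hK hn ih =>
    set S := (T : Subgroup H) ⊓ K
    set S0 := (T : Subgroup H) ⊓ M
    have hS0S : S0 ≤ S := inf_le_inf_left _ hle
    have heq := ih (fun h => hne (le_bot_iff.1 (h ▸ hS0S)))
    have hKn : K ≤ normalizer (M : Set H) := (normal_subgroupOf_iff_le_normalizer hle).mp hn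
    have hSp : IsPGroup p S := T.isPGroup'.to_le inf_le_left
    have hS0n : S ≤ normalizer (S0 : Set H) := fun s hs =>
      inf_normalizer_le_normalizer_inf ⟨le_normalizer (mem_inf.1 hs).1, hKn (mem_inf.1 hs).2⟩
    obtain ⟨z, hz, hzp, hzS⟩ := exists_central_of_normalized S hSp hS0S hS0n hne
    set C0 := centralizer (zpowers z : Set H)
    have hzp' : IsPGroup p (zpowers z) := IsPGroup.of_card (n := 1) (by rw [Nat.card_zpowers, hzp, pow_one])
    have hzne : zpowers z ≠ ⊥ := by
      rw [Ne, zpowers_eq_bot]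
      intro h
      rw [h, orderOf_one] at hzp
      exact (Fact.out : p.Prime).ne_one hzp.symm
    have hC0 : CharPOf p C0 := ((charPOf_iff _).2 (hH.2 _ hzp' hzne)).of_normal
      (centralizer_le_normalizer _) (normalizer_le_normalizer_centralizer _)
    have hchar : ∀ X : Subgroup H, X.IsSubnormal → CharPOf p (X ⊓ C0) := by
      intro X hX
      induction hX with
      | top => rwa [top_inf_eq]
      | step A B hAB _ hAn ihB =>
        refine ihB.of_normal (inf_le_inf_right _ hAB) fun g hg => ?_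
        exact inf_normalizer_le_normalizer_inf
          ⟨(normal_subgroupOf_iff_le_normalizer hAB).mp hAn (mem_inf.1 hg).1, le_normalizer (mem_inf.1 hg).2⟩
    have hSC : S ≤ C0 := fun s hs => mem_centralizer_iff.2 fun y hy => by
      obtain ⟨i, rfl⟩ := mem_zpowers_iff.1 hy
      exact ((Commute.zpow_right (hzS s hs) i) : Commute s (z ^ i)).eq.symm
    set K1 := K ⊓ C0
    set M1 := M ⊓ C0
    have hSyl : IsSyl p S K1 := by
      refine ⟨le_inf inf_le_right hSC, hSp, fun hd => ?_⟩
      have h1 : ¬ p ∣ (T : Subgroup H).relIndex K := CfsgLib.Hall.Struct.sylow_inf_normal K hK T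
      rw [← inf_relIndex_right] at h1
      exact h1 (hd.trans (Dvd.intro _ (relIndex_mul_relIndex S K1 K (le_inf inf_le_right hSC) inf_le_left)))
    have hS01 : S ⊓ M1 = S0 := by
      refine le_antisymm (le_inf (inf_le_left.trans inf_le_left) (inf_le_right.trans inf_le_left))
        (le_inf hS0S (le_inf inf_le_right (hS0S.trans hSC)))
    have h2 := step hSyl (hchar K hK) (inf_le_inf_right _ hle)
      (fun g hg => inf_normalizer_le_normalizer_inf ⟨hKn (mem_inf.1 hg).1, le_normalizer (mem_inf.1 hg).2⟩)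
    rw [hS01] at h2
    have hzom : ∀ R : Subgroup H, R ≤ S → z ∈ R → centralizer (omegaZ p R : Set H) ≤ C0 := by
      intro R hR hzR
      refine centralizer_le ?_
      show zpowers z ≤ omegaZ p R
      exact zpowers_le.2 (mem_omegaZ.2 ⟨hzR, mem_centralizer_iff.2 fun r hr => hzS r (hR hr),
        hzp ▸ pow_orderOf_eq_one z⟩)
    calc M ⊓ centralizer (omegaZ p (T : Subgroup H) : Set H)
        = M ⊓ (K ⊓ centralizer (omegaZ p (T : Subgroup H) : Set H)) := by
          rw [← inf_assoc, inf_eq_left.mpr hle]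
      _ = M ⊓ centralizer (omegaZ p S : Set H) := by rw [heq, ← inf_assoc, inf_eq_left.mpr hle]
      _ = M1 ⊓ centralizer (omegaZ p S : Set H) := by
          rw [inf_assoc, inf_eq_right.mpr (hzom S le_rfl (hS0S hz))]
      _ = M1 ⊓ centralizer (omegaZ p S0 : Set H) := h2
      _ = M ⊓ centralizer (omegaZ p S0 : Set H) := by
          rw [inf_assoc, inf_eq_right.mpr (hzom S0 hS0S hz)]

theorem mem_of_index_coprime {H : Type*} [Group H] [Finite H] {p : ℕ} [hp : Fact p.Prime] {X : Subgroup H}
    (hX : X.IsSubnormal) : ¬ p ∣ X.index → ∀ x : H, (∃ k, orderOf x = p ^ k) → x ∈ X := by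
  induction hX with
  | top => exact fun _ x _ => mem_top x
  | step A B hle _ hn ih =>
    intro hd x hx
    have hmul := relIndex_mul_index hle
    have hxB := ih (fun h => hd (h.trans (Dvd.intro_left _ hmul))) x hx
    haveI := hn
    have hpow : x ^ A.relIndex B ∈ A := Subgroup.pow_index_mem (A.subgroupOf B) (⟨x, hxB⟩ : B)
    obtain ⟨k, hk⟩ := hx
    obtain ⟨m, hm⟩ := exists_pow_eq_self_of_coprime (x := x) (n := A.relIndex B)
      (hk ▸ (((hp.out.coprime_iff_not_dvd).2 fun h => hd (h.trans (Dvd.intro _ hmul))).pow_left k).symm)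
    rw [← hm]; exact pow_mem hpow m


/-- Let H be a finite group of local characteristic p, T a Sylow p-subgroup, and L₁, L₂ subnormal subgroups of H generating the subgroup L. Then the point stabilizer of L with respect to T ∩ L is generated by the point stabilizers of L₁ and L₂ with respect to T ∩ L₁ and T ∩ L₂ (point stabilizer of X w.r.t. R: the subgroup generated by the p-elements of X centralizing Ω₁(Z(R))). -/
theorem result {H : Type*} [Group H] [Finite H] {p : ℕ} [Fact p.Prime] (hH : Cfsg.IsOfLocalCharacteristic p H) (T : Sylow p H) (L₁ L₂ : Subgroup H) (h₁ : L₁.IsSubnormal) (h₂ : L₂.IsSubnormal) : Cfsg.pointStabilizer p (L₁ ⊔ L₂) ((T : Subgroup H) ⊓ (L₁ ⊔ L₂)) = Cfsg.pointStabilizer p L₁ ((T : Subgroup H) ⊓ L₁) ⊔ Cfsg.pointStabilizer p L₂ ((T : Subgroup H) ⊓ L₂) := by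
  set L := L₁ ⊔ L₂ with hLdef
  have hL : L.IsSubnormal := CfsgLib.Subnormal.isSubnormal_sup h₁ h₂
  set Z := omegaZ p (T : Subgroup H)
  let P : Subgroup H → Subgroup H := fun X => Subgroup.closure
    {x : H | x ∈ X ⊓ centralizer (Z : Set H) ∧ ∃ k : ℕ, orderOf x = p ^ k}
  have hP : ∀ X : Subgroup H, X.IsSubnormal →
      Cfsg.pointStabilizer p X ((T : Subgroup H) ⊓ X) = P X := by
    intro X hX
    by_cases hne : (T : Subgroup H) ⊓ X = ⊥
    · have h1 : ∀ x ∈ X, (∃ k : ℕ, orderOf x = p ^ k) → x = 1 := by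
        intro x hx hk
        have hT : ¬ p ∣ ((T : Subgroup H) ⊓ X).relIndex X := by
          rw [inf_relIndex_right]; exact CfsgLib.Hall.Struct.sylow_inf_normal X hX T
        rw [hne, relIndex_bot_left] at hT
        obtain ⟨k, hk⟩ := hk
        rcases k with _ | k
        · exact orderOf_eq_one_iff.1 (by simpa using hk)
        · exact absurd ((dvd_pow_self p k.succ_ne_zero).trans (hk ▸ X.orderOf_dvd_natCard hx)) hT
      apply le_antisymm <;> refine (closure_le _).2 fun x hx => ?_ <;>
        rw [h1 x (mem_inf.1 hx.1).1 hx.2] <;> exact one_mem _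
    · show Subgroup.closure _ = Subgroup.closure _
      rw [show X ⊓ centralizer (omegaZ p ((T : Subgroup H) ⊓ X) : Set H) = X ⊓ centralizer (Z : Set H) from
        (kieler hH T hX hne).symm]
  rw [hP L hL, hP L₁ h₁, hP L₂ h₂]
  have hmono : ∀ X Y : Subgroup H, X ≤ Y → P X ≤ P Y := fun X Y h =>
    closure_mono fun x hx => ⟨mem_inf.2 ⟨h (mem_inf.1 hx.1).1, (mem_inf.1 hx.1).2⟩, hx.2⟩
  refine le_antisymm ?_ (sup_le (hmono _ _ le_sup_left) (hmono _ _ le_sup_right))
  set C := L ⊓ centralizer (Z : Set H) with hC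
  have hPle : ∀ X : Subgroup H, P X ≤ X ⊓ centralizer (Z : Set H) := fun X => (closure_le _).2 fun x hx => hx.1
  have hsn : ∀ X : Subgroup H, X.IsSubnormal → X ≤ L → ((P X).subgroupOf C).IsSubnormal := by
    intro X hX hXL
    have hn : X ⊓ centralizer (Z : Set H) ≤ normalizer (P X : Set H) := by
      intro g hg
      refine mem_normalizer_fintype fun x hx => ?_
      have : P X ≤ (P X).comap (MulAut.conj g).toMonoidHom := (closure_le _).2 fun y hy => subset_closure
        ⟨mul_mem (mul_mem hg hy.1) (inv_mem hg), by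
          obtain ⟨k, hk⟩ := hy.2
          exact ⟨k, by rw [← hk]; exact orderOf_injective (MulAut.conj g).toMonoidHom (MulAut.conj g).injective y⟩⟩
      exact this hx
    refine Subgroup.IsSubnormal.step _ ((X ⊓ centralizer (Z : Set H)).subgroupOf C) (comap_mono (hPle X)) ?_
      (normal_subgroupOf_of_le_normalizer ((comap_mono hn).trans (le_normalizer_comap _)))
    rw [show (X ⊓ centralizer (Z : Set H)).subgroupOf C = X.subgroupOf C by
      ext y; simp only [mem_subgroupOf, mem_inf]; exact ⟨fun h => h.1, fun h => ⟨h, (mem_inf.1 y.2).2⟩⟩]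
    exact hX.subgroupOf
  set R := P L₁ ⊔ P L₂
  have hTC : (T : Subgroup H) ≤ centralizer (Z : Set H) := fun t ht => mem_centralizer_iff.2 fun z hz =>
    (mem_centralizer_iff.1 (mem_omegaZ.1 hz).2.1 t ht).symm
  have hTR : (T : Subgroup H) ⊓ L ≤ R := by
    refine (CfsgLib.ResidualJoin.sylow_inf_sup T h₁ h₂).trans (sup_le_sup ?_ ?_) <;>
    · intro t ht
      obtain ⟨k, hk⟩ := IsPGroup.iff_orderOf.1 T.isPGroup' ⟨t, (mem_inf.1 ht).1⟩
      exact subset_closure ⟨mem_inf.2 ⟨(mem_inf.1 ht).2, hTC (mem_inf.1 ht).1⟩, k, by rw [← hk, orderOf_mk]⟩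
  have hRC : R ≤ C := sup_le ((hPle _).trans (inf_le_inf_right _ le_sup_left))
    ((hPle _).trans (inf_le_inf_right _ le_sup_right))
  have hRs : (R.subgroupOf C).IsSubnormal := by
    rw [subgroupOf_sup (le_sup_left.trans hRC) (le_sup_right.trans hRC)]
    exact CfsgLib.Subnormal.isSubnormal_sup (hsn _ h₁ le_sup_left) (hsn _ h₂ le_sup_right)
  have hidx : ¬ p ∣ (R.subgroupOf C).index := by
    intro hd
    have h1 : ¬ p ∣ ((T : Subgroup H) ⊓ L).relIndex L := by
      rw [inf_relIndex_right]; exact CfsgLib.Hall.Struct.sylow_inf_normal L hL T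
    have hTLC : (T : Subgroup H) ⊓ L ≤ C := le_inf inf_le_right (inf_le_left.trans hTC)
    have h2 : R.relIndex C ∣ ((T : Subgroup H) ⊓ L).relIndex C := relIndex_dvd_of_le_left _ hTR
    exact h1 (hd.trans (h2.trans (Dvd.intro _ (relIndex_mul_relIndex _ C L hTLC inf_le_left))))
  refine (closure_le _).2 fun x hx => ?_
  exact mem_of_index_coprime hRs hidx (⟨x, hx.1⟩ : C) (by
    obtain ⟨k, hk⟩ := hx.2
    exact ⟨k, by rw [orderOf_mk, hk]⟩)

end Cfsg.Agent.S2806
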