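import Cfsg.Statements.S2809
import Cfsg.Agent.PCore.AxB
import Cfsg.Agent.PCore.Descent

set_option autoImplicit false
open Cfsg

namespace Cfsg.Agent.S2809

/-- Let H be a finite group, p a prime, R a p-subgroup of H with C_H(R) ≤ R, and L a subgroup of N_H(R) acting nilpotently on R (some iterated commutator [R, L, …, L] is trivial). Then L is a p-group. -/
theorem result {H : Type*} [Group H] [Finite H] {p : ℕ} [Fact p.Prime] (R : Subgroup H) (hR : IsPGroup p ↥R) (hC : Subgroup.centralizer (R : Set H) ≤ R) (L : Subgroup H) (hL : L ≤ Subgroup.normalizer (R : Set H)) (hnil : ∃ n : ℕ, Cfsg.iterCommutator R L n = ⊥) : IsPGroup p ↥L := by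
  obtain ⟨n, hn⟩ := hnil
  have hle : ∀ i, Cfsg.iterCommutator R L i ≤ R := fun i => by
    induction i with
    | zero => exact le_rfl
    | succ i ih =>
      exact (Subgroup.commutator_mono ih le_rfl).trans (CfsgLib.PCore.commutator_le_of_le_normalizer hL)
  refine CfsgLib.PCore.isPGroup_of_forall_coprime L fun x hx hcop => ?_
  obtain ⟨a, ha⟩ := IsPGroup.iff_card.mp hR
  have hco : (Nat.card (Subgroup.zpowers x)).Coprime (Nat.card R) := by
    rw [Nat.card_zpowers, ha]
    exact Nat.Coprime.pow_right a hcop
  have key : ∀ j, j ≤ n → Subgroup.zpowers x ≤ Subgroup.centralizer (Cfsg.iterCommutator R L (n - j) : Set H) := by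
    intro j
    induction j with
    | zero =>
      intro _
      rw [Nat.sub_zero, hn]
      exact Subgroup.le_centralizer_iff.mp bot_le
    | succ j ih =>
      intro hj
      have hc : ⁅Cfsg.iterCommutator R L (n - (j + 1)), Subgroup.zpowers x⁆ ≤ Cfsg.iterCommutator R L (n - j) := by
        rw [show n - j = n - (j + 1) + 1 by omega]
        exact Subgroup.commutator_mono le_rfl (Subgroup.zpowers_le.mpr hx)
      exact CfsgLib.PCore.le_centralizer_of_stabilizes hco (hc.trans (hle _))
        (hc.trans (Subgroup.le_centralizer_iff.mp (ih (by omega))))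
  have h0 := key n le_rfl
  rw [Nat.sub_self] at h0
  have hxR : x ∈ R := hC (h0 (Subgroup.mem_zpowers x))
  have : orderOf x = 1 := Nat.Coprime.eq_one_of_dvd (Nat.Coprime.pow_right a hcop)
    (ha ▸ Subgroup.orderOf_dvd_natCard R hxR)
  exact orderOf_eq_one_iff.mp this

end Cfsg.Agent.S2809
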