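import Cfsg.Statements.S2810
import Cfsg.Agent.PCore.AxB
import Cfsg.Agent.PCore.Descent
import Cfsg.Agent.PReduced.Basic

set_option autoImplicit false
open Cfsg

namespace Cfsg.Agent.S2810

/-- Let H be a finite group of characteristic p and L a subgroup of H centralizing every factor of some H-invariant chain 1 = A₀ ≤ A₁ ≤ … ≤ Aₙ = O_p(H) of normal subgroups (that is, [A_{i+1}, L] ≤ Aᵢ for each i). Then L ≤ O_p(H). -/
theorem result {H : Type*} [Group H] [Finite H] {p : ℕ} [Fact p.Prime] (hchar : Subgroup.centralizer (Cfsg.pCore p H : Set H) ≤ Cfsg.pCore p H) (L : Subgroup H) (n : ℕ) (A : Fin (n + 1) → Subgroup H) (h0 : A 0 = ⊥) (hn : A (Fin.last n) = Cfsg.pCore p H) (hmono : Monotone A) (hnorm : ∀ i, (A i).Normal) (hcent : ∀ i : Fin n, ⁅A i.succ, L⁆ ≤ A i.castSucc) : L ≤ Cfsg.pCore p H := by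
  let D : Subgroup H := ⨅ i : Fin n, (letI := hnorm i.castSucc; Cfsg.sectionKernel (A i.succ) (A i.castSucc))
  have hmem : ∀ g : H, g ∈ D ↔ ∀ i : Fin n, ∀ a ∈ A i.succ, a * g * a⁻¹ * g⁻¹ ∈ A i.castSucc := by
    intro g
    simp only [D, Subgroup.mem_iInf]
    refine forall_congr' fun i => ?_
    have := hnorm i.castSucc
    simp only [Cfsg.sectionKernel, Subgroup.mem_comap, Subgroup.mem_centralizer_iff, Subgroup.coe_map,
      Set.forall_mem_image, SetLike.mem_coe]
    refine forall₂_congr fun a _ => ?_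
    rw [← QuotientGroup.eq_one_iff (N := A i.castSucc)]
    show _ ↔ (QuotientGroup.mk' (A i.castSucc)) (a * g * a⁻¹ * g⁻¹) = 1
    rw [map_mul, map_mul, map_mul, map_inv, map_inv, mul_inv_eq_one, mul_inv_eq_iff_eq_mul]
  have hDn : D.Normal := Subgroup.normal_iInf_normal fun i => by
    have := hnorm i.castSucc
    have := hnorm i.succ
    have := Subgroup.Normal.map (hnorm i.succ) _ (QuotientGroup.mk'_surjective (A i.castSucc))
    exact Subgroup.Normal.comap inferInstance _
  have hLD : L ≤ D := fun g hg => (hmem g).mpr fun i a ha => hcent i (Subgroup.commutator_mem_commutator ha hg)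
  have hDp : IsPGroup p D := by
    refine CfsgLib.PCore.isPGroup_of_forall_coprime D fun x hx hcop => ?_
    obtain ⟨a, ha⟩ := IsPGroup.iff_card.mp (CfsgLib.PReduced.isPGroup_pCore p H)
    have hco : (Nat.card (Subgroup.zpowers x)).Coprime (Nat.card (Cfsg.pCore p H)) := by
      rw [Nat.card_zpowers, ha]
      exact Nat.Coprime.pow_right a hcop
    have key : ∀ i : Fin (n + 1), Subgroup.zpowers x ≤ Subgroup.centralizer (A i : Set H) := by
      intro i
      induction i using Fin.induction with
      | zero =>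
        rw [h0]
        exact Subgroup.le_centralizer_iff.mp bot_le
      | succ i ih =>
        have hc : ⁅A i.succ, Subgroup.zpowers x⁆ ≤ A i.castSucc := Subgroup.commutator_le.mpr fun b hb c hc =>
          (hmem c).mp ((Subgroup.zpowers_le.mpr hx) hc) i b hb
        exact CfsgLib.PCore.le_centralizer_of_stabilizes hco
          (hc.trans (hn ▸ hmono (Fin.le_last _))) (hc.trans (Subgroup.le_centralizer_iff.mp ih))
    have h1 := key (Fin.last n) (Subgroup.mem_zpowers x)
    rw [hn] at h1
    exact orderOf_eq_one_iff.mp (Nat.Coprime.eq_one_of_dvd (Nat.Coprime.pow_right a hcop)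
      (ha ▸ Subgroup.orderOf_dvd_natCard _ (hchar h1)))
  exact hLD.trans (CfsgLib.PReduced.le_pCore hDn hDp)

end Cfsg.Agent.S2810
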