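import Cfsg.Statements.S2812
import Cfsg.Agent.PReduced.FStarAction

set_option autoImplicit false
open Cfsg

namespace Cfsg.Agent.S2812

open Subgroup CfsgLib.PReduced

theorem hyp_of {G : Type*} [Group G] [Finite G] {p : ℕ} [Fact p.Prime] (H : Subgroup G) (hO : Cfsg.pCore p ↥H = ⊥)
    (Y : Subgroup G) (hY : IsPGroup p ↥Y) (L : Subgroup G)
    (hLF : L ≤ (Cfsg.generalizedFittingSubgroup ↥H).map H.subtype) (hLsn : (L.subgroupOf H).IsSubnormal)
    (hYL : Y ≤ normalizer (L : Set G)) : FStarAct.Hyp p L Y := by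
  have hLH : L ≤ H := hLF.trans (map_subtype_le _)
  set LH := L.subgroupOf H with hLHdef
  let e : ↥LH ≃* ↥L := subgroupOfEquivOfLe hLH
  have hLF' : LH ≤ Cfsg.generalizedFittingSubgroup ↥H := by
    intro x hx
    obtain ⟨y, hy, hyx⟩ := hLF hx
    rwa [show x = y from Subtype.ext hyx.symm]
  refine ⟨hYL, hY, ?_, ?_⟩
  · have h1 : Cfsg.pCore p ↥LH = ⊥ := by
      refine le_bot_iff.mp fun x hx => ?_
      have h2 := CfsgLib.Components.subnormal_le_pCore (p := p)
        (CfsgLib.Components.subnormal_map_subtype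
          (H := Cfsg.pCore p ↥LH) (haveI := CfsgLib.Components.pCore_characteristic (G := ↥LH) p
            (inferInstance : (Cfsg.pCore p ↥LH).Normal).isSubnormal) hLsn)
        ((CfsgLib.Components.pCore_isPGroup p).map _) ⟨x, hx, rfl⟩
      rw [hO, mem_bot] at h2
      exact mem_bot.mpr (Subtype.ext h2)
    rw [← CfsgLib.PCore.map_pCore_equiv e, h1, Subgroup.map_bot]
  · refine CfsgLib.Components.generalizedFitting_map_equiv e ?_
    refine CfsgLib.Components.generalizedFitting_map_equiv (subgroupOfEquivOfLe hLF') ?_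
    exact CfsgLib.Components.generalizedFitting_eq_top_of_subnormal
      CfsgLib.Components.generalizedFitting_generalizedFitting
      (CfsgLib.Components.subnormal_subgroupOf hLsn _)

/-- Let H be a subgroup of the finite group G with O_p(H) = 1, Y a p-subgroup of G normalizing H, and L a subgroup of the generalized Fitting subgroup F*(H) that is subnormal in H and normalized by Y. Then L = [L, Y]·C_L(Y) and [L, Y] = [L, Y, Y]. -/
theorem result {G : Type*} [Group G] [Finite G] {p : ℕ} [Fact p.Prime] (H : Subgroup G) (hO : Cfsg.pCore p ↥H = ⊥) (Y : Subgroup G) (hY : IsPGroup p ↥Y) (hYH : Y ≤ Subgroup.normalizer (H : Set G)) (L : Subgroup G) (hLF : L ≤ (Cfsg.generalizedFittingSubgroup ↥H).map H.subtype) (hLsn : (L.subgroupOf H).IsSubnormal) (hYL : Y ≤ Subgroup.normalizer (L : Set G)) : ⁅L, Y⁆ ⊔ (L ⊓ Subgroup.centralizer (Y : Set G)) = L ∧ ⁅L, Y⁆ = ⁅⁅L, Y⁆, Y⁆ := by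
  have h := hyp_of H hO Y hY L hLF hLsn hYL
  exact ⟨FStarAct.sup_eq h, (FStarAct.comm_eq h).symm⟩

end Cfsg.Agent.S2812
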