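import Cfsg.Statements.S2813
import Cfsg.Agent.PReduced.Basic
import Cfsg.Agent.PReduced.Hom

set_option autoImplicit false
open Cfsg

namespace Cfsg.Agent.S2813

/-- Let K be a subgroup of the finite group H with O_p(K) = 1 and Y a p-subgroup of N_H(K) with [K, Y, Y] = 1. Then [K, Y] = 1. -/
theorem result {H : Type*} [Group H] [Finite H] {p : ℕ} [Fact p.Prime] (K : Subgroup H) (hO : Cfsg.pCore p ↥K = ⊥) (Y : Subgroup H) (hY : IsPGroup p ↥Y) (hYK : Y ≤ Subgroup.normalizer (K : Set H)) (hq : ⁅⁅K, Y⁆, Y⁆ = ⊥) : ⁅K, Y⁆ = ⊥ := by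
  open Subgroup in
  have hgen : ∀ k ∈ K, ∀ y ∈ Y, k * y * k⁻¹ * y⁻¹ ∈ ⁅K, Y⁆ := fun k hk y hy => commutator_mem_commutator hk hy
  open Subgroup in
  have hcy : ∀ c ∈ ⁅K, Y⁆, ∀ y ∈ Y, c * y = y * c := fun c hc y hy =>
    (mem_centralizer_iff.mp (commutator_eq_bot_iff_le_centralizer.mp hq hc) y hy).symm
  open Subgroup in
  have hCK : ⁅K, Y⁆ ≤ K := commutator_le.mpr fun k hk y hy => by
    rw [commutatorElement_def, show k * y * k⁻¹ * y⁻¹ = k * (y * k⁻¹ * y⁻¹) by group]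
    exact mul_mem hk ((mem_normalizer_iff.mp (hYK hy) _).mp (inv_mem hk))
  open Subgroup in
  have hCn : ∀ k' ∈ K, ∀ c ∈ ⁅K, Y⁆, k' * c * k'⁻¹ ∈ ⁅K, Y⁆ := by
    intro k' hk' c hc
    refine closure_induction (p := fun c _ => k' * c * k'⁻¹ ∈ ⁅K, Y⁆) ?_ (by simp) ?_ ?_
      (Subgroup.commutator_def K Y ▸ hc)
    · rintro _ ⟨k, hk, y, hy, rfl⟩
      rw [commutatorElement_def, show k' * (k * y * k⁻¹ * y⁻¹) * k'⁻¹ =
        ((k' * k) * y * (k' * k)⁻¹ * y⁻¹) * (k' * y * k'⁻¹ * y⁻¹)⁻¹ by group]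
      exact mul_mem (hgen _ (mul_mem hk' hk) y hy) (inv_mem (hgen _ hk' y hy))
    · intro a b _ _ ha hb
      simpa [mul_assoc] using mul_mem ha hb
    · intro a _ ha
      simpa [mul_assoc] using inv_mem ha
  open Subgroup in
  have hab : ∀ a ∈ ⁅K, Y⁆, ∀ b ∈ ⁅K, Y⁆, a * b = b * a := by
    intro a ha b hb
    have hle : ⁅K, Y⁆ ≤ centralizer ({a} : Set H) := commutator_le.mpr fun k hk y hy => by
      rw [commutatorElement_def, mem_centralizer_singleton_iff]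
      have h1 := hcy _ (hCn k⁻¹ (inv_mem hk) a ha) y hy
      have h2 : a * (k * y * k⁻¹) = k * y * k⁻¹ * a := by
        calc a * (k * y * k⁻¹) = k * (k⁻¹ * a * k⁻¹⁻¹ * y) * k⁻¹ := by group
          _ = k * (y * (k⁻¹ * a * k⁻¹⁻¹)) * k⁻¹ := by rw [h1]
          _ = k * y * k⁻¹ * a := by group
      have h3 : a * y⁻¹ = y⁻¹ * a := hcy a ha _ (inv_mem hy)
      rw [mul_assoc (k * y * k⁻¹), ← h3, ← mul_assoc, ← h2, mul_assoc]
    exact (mem_centralizer_singleton_iff.mp (hle hb)).symm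
  open Subgroup in
  have hp' : IsPGroup p ↥⁅K, Y⁆ := by
    rw [Subgroup.commutator_def]
    refine CfsgLib.PReduced.isPGroup_closure_of_commute (by rw [← Subgroup.commutator_def]; exact hab) ?_
    rintro _ ⟨k, hk, y, hy, rfl⟩
    obtain ⟨j, hj⟩ := hY ⟨y, hy⟩
    have hyj : y ^ p ^ j = 1 := by simpa using congrArg Subtype.val hj
    refine ⟨j, ?_⟩
    rw [commutatorElement_def]
    have hc := hcy _ (hgen k hk y hy) y hy
    have h : (k * y * k⁻¹ * y⁻¹) ^ p ^ j * y ^ p ^ j = k * y ^ p ^ j * k⁻¹ := by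
      rw [← Commute.mul_pow hc, inv_mul_cancel_right, conj_pow]
    simpa [hyj] using h
  open Subgroup CfsgLib.PReduced in
  exact le_bot_iff.mp (fun c hc => by
    have := le_pCoreOf (p := p) hCK (fun k hk => mem_normalizer_iff.mpr fun c =>
      ⟨fun hc => hCn k hk c hc, fun hc => by simpa [mul_assoc] using hCn k⁻¹ (inv_mem hk) _ hc⟩) hp' hc
    rwa [Cfsg.pCoreOf, hO, Subgroup.map_bot] at this)

end Cfsg.Agent.S2813
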