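import Cfsg.Statements.S2814
import Cfsg.Agent.Subnormal.BaerSuzuki
import Cfsg.Agent.Transfer.Residual
import Mathlib
import Cfsg.Agent.Subnormal.Basic

set_option autoImplicit false
open Cfsg

namespace Cfsg.Agent.S2814

open scoped commutatorElement

private theorem left_le_normalizer {G : Type*} [Group G] [Finite G] (R A : Subgroup G) :
    R ≤ Subgroup.normalizer ((⁅R, A⁆ : Subgroup G) : Set G) := by
  intro r hr
  rw [Subgroup.mem_normalizer_iff_map_conj_eq]
  refine Subgroup.eq_of_le_of_card_ge ?_ ((Subgroup.card_map_of_injective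
    (f := ((MulAut.conj r : MulAut G) : G →* G)) (MulAut.conj r).injective).ge)
  rw [Subgroup.map_le_iff_le_comap, Subgroup.commutator_le]
  intro s hs a ha
  change r * ⁅s, a⁆ * r⁻¹ ∈ ⁅R, A⁆
  have e : r * ⁅s, a⁆ * r⁻¹ = ⁅r * s, a⁆ * (⁅r, a⁆)⁻¹ := by
    simp only [commutatorElement_def]; group
  rw [e]
  exact mul_mem (Subgroup.commutator_mem_commutator (mul_mem hr hs) ha)
    (inv_mem (Subgroup.commutator_mem_commutator hr ha))

private theorem isSubnormal_of_nilpotent {G : Type*} [Group G] [Finite G] [Group.IsNilpotent G] :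
    ∀ A : Subgroup G, A.IsSubnormal := by
  intro A
  induction A using WellFoundedGT.induction with
  | _ A ih =>
    rcases eq_or_ne A ⊤ with rfl | hA
    · exact Subgroup.IsSubnormal.top
    · have hlt := Group.normalizerCondition_of_isNilpotent A (lt_top_iff_ne_top.2 hA)
      exact Subgroup.IsSubnormal.step _ _ Subgroup.le_normalizer (ih _ hlt)
        ((Subgroup.normal_subgroupOf_iff_le_normalizer Subgroup.le_normalizer).2 le_rfl)

/-- Let A be a subgroup of the finite group H and K the subnormal closure of A (intersection of the subnormal subgroups containing A). Then K is the normal closure of A inside K and N_H(A) ≤ N_H(K); K = A·O^p(K), O^p(K) being generated by the elements of K of order prime to p; and if A is a p-group, O^p(K) = [O^p(K), A]. -/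
theorem result {H : Type*} [Group H] [Finite H] {p : ℕ} [Fact p.Prime] (A : Subgroup H) (K : Subgroup H) (hK : K = Cfsg.subnormalClosure A) : (Subgroup.normalClosure ((A.subgroupOf K : Subgroup ↥K) : Set ↥K)).map K.subtype = K ∧ Subgroup.normalizer (A : Set H) ≤ Subgroup.normalizer (K : Set H) ∧ A ⊔ (Cfsg.pResidual p ↥K).map K.subtype = K ∧ (IsPGroup p ↥A → ⁅(Cfsg.pResidual p ↥K).map K.subtype, A⁆ = (Cfsg.pResidual p ↥K).map K.subtype) := by
  classical
  have hKsn : K.IsSubnormal ∧ A ≤ K ∧ ∀ L : Subgroup H, A ≤ L → L.IsSubnormal → K ≤ L := by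
    subst hK
    refine ⟨?_, le_sInf fun L hL => hL.1, fun L h1 h2 => sInf_le ⟨h1, h2⟩⟩
    have key : ∀ s : Finset (Subgroup H), (∀ L ∈ s, L.IsSubnormal) → (s.inf id).IsSubnormal := by
      intro s
      induction s using Finset.induction with
      | empty => intro _; simp
      | insert L s _ ih =>
        intro h
        rw [Finset.inf_insert, id]
        exact (h L (Finset.mem_insert_self L s)).inf (ih fun M hM => h M (Finset.mem_insert_of_mem hM))
    have := key (Set.toFinite {K : Subgroup H | A ≤ K ∧ K.IsSubnormal}).toFinset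
      (fun L hL => ((Set.Finite.mem_toFinset _).1 hL).2)
    rwa [Finset.inf_id_eq_sInf, Set.Finite.coe_toFinset] at this
  obtain ⟨hsn, hAK, hmin⟩ := hKsn
  have hminN : ∀ L : Subgroup K, L.IsSubnormal → A.subgroupOf K ≤ L → L.map K.subtype = K := by
    intro L hL hAL
    refine le_antisymm (Subgroup.map_subtype_le L) (hmin _ ?_ (hL.trans' hsn))
    conv_lhs => rw [← Subgroup.map_subgroupOf_eq_of_le hAK]
    exact Subgroup.map_mono hAL
  have hmap : ∀ L : Subgroup K, L.map K.subtype = K → L = ⊤ := by
    intro L hL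
    apply Subgroup.map_injective K.subtype_injective
    rw [hL, ← MonoidHom.range_eq_map, Subgroup.range_subtype]
  haveI hRn := CfsgLib.Transfer.pResidual_normal (p := p) (G := K)
  set R := Cfsg.pResidual p K with hR
  have hsupR : A.subgroupOf K ⊔ R = ⊤ := by
    refine hmap _ (hminN _ ?_ le_sup_left)
    have hq : IsPGroup p (K ⧸ R) := CfsgLib.Transfer.isPGroup_quotient_pResidual
    have hqn := hq.isNilpotent
    have h1 : ((A.subgroupOf K).map (QuotientGroup.mk' R)).IsSubnormal :=
      isSubnormal_of_nilpotent _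
    have := h1.comap (QuotientGroup.mk' R)
    rwa [Subgroup.comap_map_eq, QuotientGroup.ker_mk'] at this
  have hj : A ⊔ R.map K.subtype = K := by
    conv_lhs => rw [← Subgroup.map_subgroupOf_eq_of_le hAK, ← Subgroup.map_sup, hsupR]
    rw [← MonoidHom.range_eq_map, Subgroup.range_subtype]
  refine ⟨?_, ?_, hj, fun hAp => ?_⟩
  · exact hminN _ (Subgroup.Normal.isSubnormal inferInstance) Subgroup.le_normalClosure
  · intro g hg
    rw [← CfsgLib.Subnormal.conj_eq_self_iff] at hg ⊢
    refine (Subgroup.eq_of_le_of_card_ge (hmin _ ?_ (CfsgLib.Subnormal.isSubnormal_conj hsn g)) ?_).symm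
    · rw [← hg]; exact Subgroup.map_mono hAK
    · rw [Subgroup.card_map_of_injective (f := (MulAut.conj g).toMonoidHom) (MulAut.conj g).injective]
  · set C : Subgroup K := ⁅R, A.subgroupOf K⁆ with hC
    have e1 : ⁅R.map K.subtype, A⁆ = C.map K.subtype := by
      rw [hC, Subgroup.map_commutator, Subgroup.map_subgroupOf_eq_of_le hAK]
    rw [e1]
    congr 1
    have hCR : C ≤ R := Subgroup.commutator_le_left R (A.subgroupOf K)
    haveI hCn : C.Normal := by
      rw [← Subgroup.normalizer_eq_top_iff, eq_top_iff, ← hsupR, sup_le_iff]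
      refine ⟨?_, left_le_normalizer _ _⟩
      rw [hC, Subgroup.commutator_comm]
      exact left_le_normalizer _ _
    refine le_antisymm hCR ?_
    have hAC : C ⊔ A.subgroupOf K = ⊤ := by
      refine hmap _ (hminN _ (Subgroup.Normal.isSubnormal ?_) le_sup_right)
      have hcomm : (A.subgroupOf K).map (QuotientGroup.mk' C) ≤
          Subgroup.centralizer ((R.map (QuotientGroup.mk' C) : Subgroup (K ⧸ C)) : Set (K ⧸ C)) := by
        rw [← Subgroup.commutator_eq_bot_iff_le_centralizer, ← Subgroup.map_commutator,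
          Subgroup.map_eq_bot_iff, QuotientGroup.ker_mk', Subgroup.commutator_comm]
      have hnA : ((A.subgroupOf K).map (QuotientGroup.mk' C)).Normal := by
        rw [← Subgroup.normalizer_eq_top_iff, eq_top_iff,
          ← Subgroup.map_top_of_surjective _ (QuotientGroup.mk'_surjective C), ← hsupR, Subgroup.map_sup,
          sup_le_iff]
        refine ⟨Subgroup.le_normalizer, ?_⟩
        refine le_trans ?_ (Subgroup.centralizer_le_normalizer _)
        exact Subgroup.le_centralizer_iff.1 hcomm
      have := hnA.comap (QuotientGroup.mk' C)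
      rwa [Subgroup.comap_map_eq, QuotientGroup.ker_mk', sup_comm] at this
    rw [hR]
    refine CfsgLib.Transfer.pResidual_le_of_isPGroup_quotient C ?_
    refine (hAp.comap_subtype (K := K)).of_surjective ((QuotientGroup.mk' C).comp (A.subgroupOf K).subtype) ?_
    intro q
    obtain ⟨x, rfl⟩ := QuotientGroup.mk_surjective q
    obtain ⟨c, hc, a, ha, rfl⟩ := (Subgroup.mem_sup_of_normal_left (x := x)).1 (hAC ▸ Subgroup.mem_top x)
    exact ⟨⟨a, ha⟩, by
      change (a : K ⧸ C) = _
      rw [QuotientGroup.mk_mul, (QuotientGroup.eq_one_iff c).2 hc, one_mul]⟩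

end Cfsg.Agent.S2814
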