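import Cfsg.Statements.S2815
import Cfsg.Agent.PReduced.FStarAction
import Cfsg.Agent.Transfer.Residual
import Mathlib.GroupTheory.Nilpotent

set_option autoImplicit false
open Cfsg

namespace Cfsg.Agent.S2815

open Subgroup CfsgLib.PReduced
open scoped commutatorElement

/-- Let H be a finite group and p a prime dividing its order with O_p(H) = 1, and suppose K = O^p(H) (generated by the elements of order prime to p) is quasisimple. Then K = F*(H); for every nontrivial p-subgroup Y of H, K = [K, Y] and K lies in the subgroup generated by the K-conjugates of Y; every normal subgroup of H not containing K has order prime to p; and H is p-irreducible. -/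
theorem result {H : Type*} [Group H] [Finite H] {p : ℕ} [Fact p.Prime] (hp : p ∣ Nat.card H) (hO : Cfsg.pCore p H = ⊥) (hq : Cfsg.IsQuasisimple ↥(Cfsg.pResidual p H)) : Cfsg.pResidual p H = Cfsg.generalizedFittingSubgroup H ∧ (∀ Y : Subgroup H, IsPGroup p ↥Y → Y ≠ ⊥ → ⁅Cfsg.pResidual p H, Y⁆ = Cfsg.pResidual p H ∧ Cfsg.pResidual p H ≤ ⨆ k : ↥(Cfsg.pResidual p H), Y.map (MulAut.conj (k : H)).toMonoidHom) ∧ (∀ C : Subgroup H, C.Normal → ¬ Cfsg.pResidual p H ≤ C → (Nat.card ↥C).Coprime p) ∧ Cfsg.IsPIrreducible p H := by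
  set K := Cfsg.pResidual p H with hK
  haveI hKn : K.Normal := CfsgLib.Transfer.pResidual_normal
  have hKc : Cfsg.IsComponent K := ⟨hKn.isSubnormal, hq⟩
  have hperf := CfsgLib.Components.quasisimple_commutator hq
  haveI := CfsgLib.Components.fittingSubgroup_normal (G := H)
  have heq : K = Cfsg.generalizedFittingSubgroup H := by
    refine le_antisymm ((CfsgLib.Components.component_le_layer hKc).trans
      CfsgLib.Components.layer_le_generalizedFittingSubgroup) (sup_le (sSup_le fun L hL => ?_) ?_)
    · haveI : Group.IsNilpotent (H ⧸ K) := (CfsgLib.Transfer.isPGroup_quotient_pResidual (p := p) (G := H)).isNilpotent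
      have h1 : ⁅L.map (QuotientGroup.mk' K), L.map (QuotientGroup.mk' K)⁆ = L.map (QuotientGroup.mk' K) := by
        rw [← Subgroup.map_commutator, CfsgLib.Components.quasisimple_commutator hL.2]
      set M := L.map (QuotientGroup.mk' K) with hM
      by_contra hle
      have hne : Nontrivial ↥M := (nontrivial_iff_ne_bot _).mpr fun e => hle (by
        rwa [hM, Subgroup.map_eq_bot_iff, QuotientGroup.ker_mk'] at e)
      haveI := hne
      have hlt := IsSolvable.commutator_lt_top_of_nontrivial ↥M
      refine hlt.ne (Subgroup.map_injective M.subtype_injective ?_)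
      rw [Subgroup.map_subtype_commutator, h1, ← MonoidHom.range_eq_map, range_subtype]
    · intro x hx
      exact subset_closure (Nat.Coprime.coprime_dvd_left (Subgroup.orderOf_dvd_natCard _ hx)
        (FStarAct.fitting_coprime hO))
  have hcentral : ∀ C : Subgroup H, K ≤ normalizer (C : Set H) → ¬ K ≤ C → C ≤ normalizer (K : Set H) →
      ⁅C, K⁆ ≤ C → ⁅C, K⁆ = ⊥ := by
    intro C hKC hnle hCK hle
    haveI : (C.subgroupOf K).Normal := normal_subgroupOf_of_le_normalizer hKC
    rcases CfsgLib.Components.quasisimple_normal hq (inferInstance : (C.subgroupOf K).Normal) with h1 | h1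
    · have h2 : ⁅⁅C, K⁆, K⁆ = ⊥ := by
        rw [commutator_eq_bot_iff_le_centralizer]
        intro x hx
        have hxK : x ∈ K := by
          have := CfsgLib.CoprimeAction.commutator_le_of_normalizer hCK (by rwa [commutator_comm] at hx : x ∈ ⁅K, C⁆)
          exact this
        have hxc := mem_center_iff.mp (h1 (show (⟨x, hxK⟩ : K) ∈ _ from hle hx))
        exact fun k hk => congrArg Subtype.val (hxc ⟨k, hk⟩)
      have h3 : ⁅⁅K, K⁆, C⁆ = ⊥ :=
        commutator_commutator_eq_bot_of_rotate (by rw [commutator_comm K C]; exact h2) h2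
      rwa [hperf, commutator_comm] at h3
    · exact absurd (subgroupOf_eq_top.mp h1) hnle
  have part3 : ∀ C : Subgroup H, C.Normal → ¬ K ≤ C → (Nat.card ↥C).Coprime p := by
    intro C hC hnle
    have h0 : ⁅C, K⁆ = ⊥ := hcentral C le_normalizer_of_normal hnle le_normalizer_of_normal
      (commutator_le_left C K)
    refine CfsgLib.PCore.coprime_of_not_dvd fun hd => ?_
    obtain ⟨⟨x, hx⟩, hxo⟩ := exists_prime_orderOf_dvd_card' p hd
    rw [← Subgroup.orderOf_coe] at hxo
    change orderOf x = p at hxo
    have hx1 : x = 1 := FStarAct.eq_one_of_centralizes_fstar hO (k := 1)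
      (by rw [pow_one, ← hxo]; exact pow_orderOf_eq_one x) fun f hf =>
      mem_centralizer_iff.mp ((commutator_eq_bot_iff_le_centralizer.mp h0) hx) f (heq ▸ hf)
    rw [hx1, orderOf_one] at hxo
    exact (Fact.out : p.Prime).ne_one hxo.symm
  refine ⟨heq, fun Y hY hYne => ?_, part3, ?_, ?_⟩
  · have hYK : Y ≤ normalizer (K : Set H) := le_normalizer_of_normal
    have hn := CfsgLib.CoprimeAction.self_le_normalizer_commutator (K := K) (A := Y)
    have hle : ⁅K, Y⁆ ≤ K := CfsgLib.CoprimeAction.commutator_le_of_normalizer hYK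
    have hKY : ⁅K, Y⁆ = K := by
      refine le_antisymm hle ?_
      by_contra hnle
      have h0 : ⁅⁅K, Y⁆, K⁆ = ⊥ := hcentral _ hn hnle le_normalizer_of_normal
        (by rw [commutator_comm]; exact CfsgLib.CoprimeAction.commutator_le_of_normalizer hn |>.trans' (commutator_comm _ _).le)
      have h3 : ⁅⁅K, K⁆, Y⁆ = ⊥ :=
        commutator_commutator_eq_bot_of_rotate h0 (by rw [commutator_comm Y K]; exact h0)
      rw [hperf, commutator_eq_bot_iff_le_centralizer] at h3
      refine hYne ((eq_bot_iff_forall _).mpr fun y hy => ?_)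
      obtain ⟨k, hk⟩ := hY ⟨y, hy⟩
      exact FStarAct.eq_one_of_centralizes_fstar hO (by simpa using congrArg Subtype.val hk) fun f hf =>
        (mem_centralizer_iff.mp (h3 (heq ▸ hf)) y hy).symm
    refine ⟨hKY, ?_⟩
    conv_lhs => rw [← hKY]
    rw [commutator_le]
    intro k hk y hy
    rw [commutatorElement_def]
    refine mul_mem (mem_iSup_of_mem ⟨k, hk⟩ ⟨y, hy, rfl⟩) (inv_mem (mem_iSup_of_mem 1 ⟨y, hy, ?_⟩))
    simp
  · intro hclosed
    obtain ⟨P⟩ : Nonempty (Sylow p H) := inferInstance
    have h1 := CfsgLib.PCore.le_pCore (hclosed P) P.isPGroup'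
    rw [hO, le_bot_iff] at h1
    exact P.ne_bot_of_dvd_card hp h1
  · intro N hN hnc
    by_contra hnle
    refine hnc fun P => ?_
    have hP : (P : Subgroup ↥N) = ⊥ := by
      obtain ⟨n, hn⟩ := IsPGroup.iff_card.mp P.isPGroup'
      have h1 : p ^ n ∣ Nat.card ↥N := hn ▸ Subgroup.card_subgroup_dvd_card _
      exact Subgroup.card_eq_one.mp (hn.trans (Nat.eq_one_of_dvd_coprimes (((part3 N hN hnle)).pow_right n) h1 dvd_rfl))
    rw [hP]
    infer_instance

end Cfsg.Agent.S2815
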