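import Cfsg.Statements.S2816
import Cfsg.Agent.PReduced.FStarAction

set_option autoImplicit false
open Cfsg

namespace Cfsg.Agent.S2816

open Subgroup CfsgLib.PReduced

/-- `F*(K) ≤ F*(H)` for a subnormal subgroup `K`. -/
theorem fstar_map_le {H : Type*} [Group H] [Finite H] {K : Subgroup H} (hK : K.IsSubnormal) :
    (Cfsg.generalizedFittingSubgroup ↥K).map K.subtype ≤ Cfsg.generalizedFittingSubgroup H := by
  rw [Cfsg.generalizedFittingSubgroup, Subgroup.map_sup]
  exact sup_le_sup (CfsgLib.Components.layer_map_subtype_le hK) (CfsgLib.Components.fitting_map_le hK)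

/-- `F*(H) ∩ K ≤ F*(K)` for a subnormal subgroup `K`. -/
theorem fstar_inf_le {H : Type*} [Group H] [Finite H] {K : Subgroup H} (hK : K.IsSubnormal) :
    Cfsg.generalizedFittingSubgroup H ⊓ K ≤ (Cfsg.generalizedFittingSubgroup ↥K).map K.subtype := by
  haveI := CfsgLib.Components.generalizedFittingSubgroup_normal (G := H)
  set F := Cfsg.generalizedFittingSubgroup H
  set X' := F.subgroupOf K with hX'
  haveI : X'.Normal := (inferInstance : F.Normal).subgroupOf K
  have htop : Cfsg.generalizedFittingSubgroup ↥X' = ⊤ := by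
    have h1 : Cfsg.generalizedFittingSubgroup ↥(K.subgroupOf F) = ⊤ :=
      CfsgLib.Components.generalizedFitting_eq_top_of_subnormal
        CfsgLib.Components.generalizedFitting_generalizedFitting (CfsgLib.Components.subnormal_subgroupOf hK F)
    let e : ↥(K.subgroupOf F) ≃* ↥X' :=
      { toFun := fun x => ⟨⟨((x : F) : H), x.2⟩, (x : F).2⟩
        invFun := fun x => ⟨⟨((x : K) : H), x.2⟩, (x : K).2⟩
        left_inv := fun x => rfl
        right_inv := fun x => rfl
        map_mul' := fun x y => rfl }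
    exact CfsgLib.Components.generalizedFitting_map_equiv e h1
  intro x hx
  have h2 := CfsgLib.Components.generalizedFitting_inf_eq X'
  rw [htop, ← MonoidHom.range_eq_map, range_subtype, inf_eq_right] at h2
  exact ⟨⟨x, hx.2⟩, h2 hx.1, rfl⟩

/-- Let H be a finite group and p a prime with O_p(H) = 1, and Y a p-subgroup of H. Then for every subnormal subgroup K of H containing Y, [F*(H), Y] = [F*(K), Y] = [F*(K), Y, Y]; and if Y₀ ≤ Y with [F*(H), Y, Y₀] = 1 then Y₀ = 1 (in particular [F*(H), Y] = 1 forces Y = 1). -/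
theorem result {H : Type*} [Group H] [Finite H] {p : ℕ} [Fact p.Prime] (hO : Cfsg.pCore p H = ⊥) (Y : Subgroup H) (hY : IsPGroup p ↥Y) : (∀ K : Subgroup H, K.IsSubnormal → Y ≤ K → ⁅Cfsg.generalizedFittingSubgroup H, Y⁆ = ⁅(Cfsg.generalizedFittingSubgroup ↥K).map K.subtype, Y⁆ ∧ ⁅(Cfsg.generalizedFittingSubgroup ↥K).map K.subtype, Y⁆ = ⁅⁅(Cfsg.generalizedFittingSubgroup ↥K).map K.subtype, Y⁆, Y⁆) ∧ (∀ Y₀ : Subgroup H, Y₀ ≤ Y → ⁅⁅Cfsg.generalizedFittingSubgroup H, Y⁆, Y₀⁆ = ⊥ → Y₀ = ⊥) := by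
  have h := FStarAct.hyp_fstar hO hY
  set D := ⁅Cfsg.generalizedFittingSubgroup H, Y⁆ with hD
  have hDD : ⁅D, Y⁆ = D := FStarAct.comm_eq h
  refine ⟨fun K hK hYK => ?_, fun Y₀ hY₀ h0 => ?_⟩
  · have hDK : ∀ K : Subgroup H, K.IsSubnormal → Y ≤ K → D ≤ K := by
      intro K hK
      induction hK with
      | top => exact fun _ => le_top
      | step A B hle _ hn ih =>
        intro hYA
        rw [← hDD, commutator_le]
        intro d hd y hy
        have h1 : d * y * d⁻¹ ∈ A := by
          have := hn.conj_mem ⟨y, hle (hYA hy)⟩ (hYA hy) ⟨d, ih (hYA.trans hle) hd⟩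
          exact this
        exact A.mul_mem h1 (A.inv_mem (hYA hy))
    have hle : ⁅(Cfsg.generalizedFittingSubgroup ↥K).map K.subtype, Y⁆ = D := by
      refine le_antisymm (commutator_mono (fstar_map_le hK) le_rfl) ?_
      conv_lhs => rw [← hDD]
      refine commutator_mono (le_trans (le_inf ?_ (hDK K hK hYK)) (fstar_inf_le hK)) le_rfl
      exact CfsgLib.CoprimeAction.commutator_le_of_normalizer h.YL
    exact ⟨hle.symm, by rw [hle, hDD]⟩
  · refine (eq_bot_iff_forall _).mpr fun x hx => ?_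
    obtain ⟨k, hk⟩ := hY ⟨x, hY₀ hx⟩
    have hk' : x ^ p ^ k = 1 := by simpa using congrArg Subtype.val hk
    refine FStarAct.eq_one_of_centralizes_fstar hO hk' fun f hf => ?_
    obtain ⟨d, hd, c, hc, rfl⟩ := FStarAct.exists_mul h hf
    have h1 : x * d = d * x :=
      (mem_centralizer_iff.mp ((commutator_eq_bot_iff_le_centralizer.mp h0) hd) x hx)
    have h2 : x * c = c * x := mem_centralizer_iff.mp hc.2 x (hY₀ hx)
    exact (Commute.mul_left (Commute.symm h1) (Commute.symm h2)).eq

end Cfsg.Agent.S2816
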