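import Cfsg.Statements.S2817
import Cfsg.Agent.PReduced.FStarAction
import Cfsg.Agent.Components.Fixed

set_option autoImplicit false
open Cfsg

namespace Cfsg.Agent.S2817

open Subgroup CfsgLib.PReduced
open scoped commutatorElement

/-- Let H be a finite group and p a prime with O_p(H) = 1, Q a p-subgroup of H, L = [F*(H), Q], and F the largest normal subgroup of F*(H) centralized by Q (a normal subgroup of F*(H) centralized by Q and containing every such). Then F = C_{F*(H)}(LQ); L = [L, Q]; L ∩ F ≤ Φ(L); every p-subgroup B of N_H(Q) with [L, B] ≤ F satisfies [L, B] = 1; and C_H(FL) has order prime to p. -/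
theorem result {H : Type*} [Group H] [Finite H] {p : ℕ} [Fact p.Prime] (hO : Cfsg.pCore p H = ⊥) (Q : Subgroup H) (hQ : IsPGroup p ↥Q) (L : Subgroup H) (hL : L = ⁅Cfsg.generalizedFittingSubgroup H, Q⁆) (F : Subgroup H) (hF : F ≤ Cfsg.generalizedFittingSubgroup H ∧ Cfsg.generalizedFittingSubgroup H ≤ Subgroup.normalizer (F : Set H) ∧ Q ≤ Subgroup.centralizer (F : Set H) ∧ ∀ N : Subgroup H, N ≤ Cfsg.generalizedFittingSubgroup H → Cfsg.generalizedFittingSubgroup H ≤ Subgroup.normalizer (N : Set H) → Q ≤ Subgroup.centralizer (N : Set H) → N ≤ F) : F = Cfsg.generalizedFittingSubgroup H ⊓ Subgroup.centralizer ((L ⊔ Q : Subgroup H) : Set H) ∧ ⁅L, Q⁆ = L ∧ L ⊓ F ≤ (frattini ↥L).map L.subtype ∧ (∀ B : Subgroup H, IsPGroup p ↥B → B ≤ Subgroup.normalizer (Q : Set H) → ⁅L, B⁆ ≤ F → ⁅L, B⁆ = ⊥) ∧ (Nat.card ↥(Subgroup.centralizer ((F ⊔ L : Subgroup H) : Set H))).Coprime p := by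
  obtain ⟨hFle, hFn, hFQ, hFmax⟩ := hF
  haveI hFSn := CfsgLib.Components.generalizedFittingSubgroup_normal (G := H)
  set FS := Cfsg.generalizedFittingSubgroup H with hFS
  have hH : FStarAct.Hyp p FS Q := FStarAct.hyp_fstar hO hQ
  have hLFS : L ≤ FS := hL ▸ CfsgLib.CoprimeAction.commutator_le_of_normalizer hH.YL
  have hLn : FS ≤ normalizer (L : Set H) := hL ▸ CfsgLib.CoprimeAction.self_le_normalizer_commutator
  have hLQ : ⁅L, Q⁆ = L := hL ▸ FStarAct.comm_eq hH
  have hQL : Q ≤ normalizer (L : Set H) := hL ▸ CfsgLib.CoprimeAction.le_normalizer_commutator hH.YL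
  have hFL : ⁅L, F⁆ = ⊥ := by
    rw [hL]
    refine commutator_commutator_eq_bot_of_rotate ?_ ?_
    · rw [commutator_comm Q F, (commutator_eq_bot_iff_le_centralizer).mpr (le_centralizer_iff.mp hFQ),
        commutator_bot_left]
    · refine le_bot_iff.mp (le_trans (commutator_mono ?_ le_rfl)
        (le_bot_iff.mpr ((commutator_eq_bot_iff_le_centralizer).mpr (le_centralizer_iff.mp hFQ))))
      exact CfsgLib.CoprimeAction.commutator_le_of_normalizer hFn
  have hFC : F ≤ centralizer ((L ⊔ Q : Subgroup H) : Set H) :=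
    le_centralizer_iff.mp (sup_le (commutator_eq_bot_iff_le_centralizer.mp hFL) hFQ)
  have hEF : FS ⊓ centralizer ((L ⊔ Q : Subgroup H) : Set H) ≤ F := by
    refine hFmax _ inf_le_left ?_ ?_
    · intro f hf
      rw [← FStarAct.sup_eq hH, ← hL] at hf
      refine SetLike.le_def.mp (sup_le ?_ ?_) hf
      · intro l hl
        refine mem_normalizer_iff.mpr fun e => ?_
        have key : ∀ e ∈ FS ⊓ centralizer ((L ⊔ Q : Subgroup H) : Set H), ∀ l ∈ L, l * e * l⁻¹ = e := by
          intro e he l hl
          rw [(mem_centralizer_iff.mp he.2 l (mem_sup_left hl)), mul_inv_cancel_right]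
        refine ⟨fun he => by rwa [key e he l hl], fun he => ?_⟩
        have h1 := key _ he l⁻¹ (inv_mem hl)
        rw [show l⁻¹ * (l * e * l⁻¹) * l⁻¹⁻¹ = e by group] at h1
        rw [h1]
        exact he
      · intro c hc
        have hcn : c ∈ normalizer ((L ⊔ Q : Subgroup H) : Set H) := by
          refine normalizer_inf_le_normalizer_sup L Q ⟨hLn hc.1, ?_⟩
          exact centralizer_le_normalizer _ hc.2
        refine mem_normalizer_iff.mpr fun e => ?_
        simp only [Subgroup.mem_inf]
        exact and_congr (mem_normalizer_iff.mp (le_normalizer hc.1) e)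
          (mem_normalizer_iff.mp (normalizer_le_normalizer_centralizer _ hcn) e)
    · exact le_centralizer_iff.mp (inf_le_right.trans (centralizer_le (le_sup_right : Q ≤ L ⊔ Q)))
  have hFeq : F = FS ⊓ centralizer ((L ⊔ Q : Subgroup H) : Set H) := le_antisymm (le_inf hFle hFC) hEF
  -- facts about `L ∩ F`
  have hLhyp : ∀ z, z ∈ L → z ∈ F → ∀ l ∈ L, l * z = z * l := fun z _ hz l hl =>
    mem_centralizer_iff.mp (hFC hz) l (mem_sup_left hl)
  have hcopL : ∀ z : L, (∀ l ∈ L, l * (z : H) = z * l) → (orderOf z).Coprime p := by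
    intro z hz
    refine CfsgLib.PCore.coprime_of_not_dvd fun hd => ?_
    set w := (z : H) ^ (orderOf z / p) with hw
    have hwo : orderOf w = p := by
      rw [hw, ← Subgroup.orderOf_coe z, orderOf_pow_orderOf_div (orderOf_pos _).ne']
      rwa [Subgroup.orderOf_coe]
    have hw1 : w = 1 := by
      refine FStarAct.eq_one_of_centralizes_fstar hO (k := 1) (by rw [pow_one, ← hwo, pow_orderOf_eq_one]) ?_
      -- `w` is central in `L`; it lies in the fitting subgroup
      intro f hf
      have hwL : w ∈ L := pow_mem z.2 _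
      have hwc : ∀ l ∈ L, l * w = w * l := fun l hl => (Commute.pow_right (show Commute l (z : H) from hz l hl) _).eq
      have hsn : (zpowers (⟨w, hwL⟩ : L)).map L.subtype ≤ Cfsg.pCore p H := by
        refine CfsgLib.Components.subnormal_le_pCore ?_ ((IsPGroup.of_card (n := 1) ?_).map _)
        · refine CfsgLib.Components.subnormal_map_subtype (H := zpowers (⟨w, hwL⟩ : L)) ?_ ?_
          · refine (show (zpowers (⟨w, hwL⟩ : L)).Normal from ⟨fun x hx g => ?_⟩).isSubnormal
            obtain ⟨i, rfl⟩ := mem_zpowers_iff.mp hx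
            have : Commute g (⟨w, hwL⟩ : L) := Subtype.ext (hwc g g.2)
            rw [(this.zpow_right i).eq, mul_inv_cancel_right]
            exact zpow_mem (mem_zpowers _) i
          · exact CfsgLib.Components.subnormal_of_normal_le hLFS hLn hFSn.isSubnormal
        · rw [Nat.card_zpowers, pow_one, ← Subgroup.orderOf_coe]
          exact hwo
      have : w ∈ Cfsg.pCore p H := hsn ⟨⟨w, hwL⟩, mem_zpowers _, rfl⟩
      rw [hO, mem_bot] at this
      rw [this, mul_one, one_mul]
    rw [hw1, orderOf_one] at hwo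
    exact (Fact.out : p.Prime).ne_one hwo.symm
  have hmemD : ∀ z : L, (z : H) ∈ F → z ∈ commutator ↥L := fun z hz =>
    FStarAct.mem_commutator_of_fixed hQL hQ hLQ
      (fun y hy => mem_centralizer_iff.mp (hFC hz) y (mem_sup_right hy))
      (hcopL z (hLhyp z z.2 hz))
  refine ⟨hFeq, hLQ, ?_, ?_, ?_⟩
  · intro z hz
    refine ⟨⟨z, hz.1⟩, ?_, rfl⟩
    show _ ∈ Order.radical (Subgroup ↥L)
    rw [Order.radical, mem_iInf]
    intro Mx
    refine mem_iInf.mpr fun hMx => ?_
    by_contra hzM
    set z' : L := ⟨z, hz.1⟩ with hz'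
    have hzc : z' ∈ center ↥L := mem_center_iff.mpr fun l => Subtype.ext (hLhyp z hz.1 hz.2 l l.2)
    haveI : (zpowers z').Normal := ⟨fun x hx g => by
      rw [mem_center_iff.mp ((zpowers_le.mpr hzc) hx) g, mul_inv_cancel_right]; exact hx⟩
    have htop : Mx ⊔ zpowers z' = ⊤ := hMx.2 _ (lt_of_le_of_ne le_sup_left fun e =>
      hzM (e ▸ mem_sup_right (mem_zpowers z')))
    have hcle : commutator ↥L ≤ Mx := by
      rw [_root_.commutator_def, commutator_le]
      intro a _ b _
      have ha : a ∈ Mx ⊔ zpowers z' := htop ▸ mem_top a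
      have hb : b ∈ Mx ⊔ zpowers z' := htop ▸ mem_top b
      rw [mem_sup_of_normal_right] at ha hb
      obtain ⟨m, hm, u, hu, rfl⟩ := ha
      obtain ⟨m', hm', u', hu', rfl⟩ := hb
      have hu1 := mem_center_iff.mp ((zpowers_le.mpr hzc) hu)
      have hu2 := mem_center_iff.mp ((zpowers_le.mpr hzc) hu')
      have e : ⁅m * u, m' * u'⁆ = ⁅m, m'⁆ := by
        calc ⁅m * u, m' * u'⁆ = m * (u * (m' * u')) * (u⁻¹ * m⁻¹) * (u'⁻¹ * m'⁻¹) := by
              simp only [commutatorElement_def, mul_inv_rev, mul_assoc]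
          _ = m * ((m' * u') * u) * (u⁻¹ * m⁻¹) * (u'⁻¹ * m'⁻¹) := by rw [hu1 (m' * u')]
          _ = m * m' * (u' * m⁻¹) * (u'⁻¹ * m'⁻¹) := by group
          _ = m * m' * (m⁻¹ * u') * (u'⁻¹ * m'⁻¹) := by rw [hu2 m⁻¹]
          _ = ⁅m, m'⁆ := by simp only [commutatorElement_def]; group
      rw [e]
      exact Mx.mul_mem (Mx.mul_mem (Mx.mul_mem hm hm') (Mx.inv_mem hm)) (Mx.inv_mem hm')
    exact hzM (hcle (hmemD z' hz.2))
  · intro B hB hBQ hLB
    have hBL : B ≤ normalizer (L : Set H) := by
      intro b hb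
      rw [hL, mem_normalizer_iff_map_conj_eq, Subgroup.map_commutator,
        mem_normalizer_iff_map_conj_eq.mp (hBQ hb)]
      congr 1
      exact mem_normalizer_iff_map_conj_eq.mp (le_normalizer_of_normal (mem_top b))
    have hcent : ∀ x ∈ ⁅L, B⁆, ∀ l ∈ L, l * x = x * l := fun x hx l hl =>
      mem_centralizer_iff.mp (hFC (hLB hx)) l (mem_sup_left hl)
    have hrot : ⁅⁅L, L⁆, B⁆ = ⊥ := by
      have h2 : ⁅⁅L, B⁆, L⁆ = ⊥ := commutator_eq_bot_iff_le_centralizer.mpr fun x hx =>
        mem_centralizer_iff.mpr fun l hl => hcent x hx l hl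
      exact commutator_commutator_eq_bot_of_rotate h2 (by rw [commutator_comm B L]; exact h2)
    rw [← le_bot_iff, commutator_le]
    intro l hl b hb
    set z := ⁅l, b⁆ with hz
    have hzB : z ∈ ⁅L, B⁆ := commutator_mem_commutator hl hb
    have hzL : z ∈ L := CfsgLib.CoprimeAction.commutator_le_of_normalizer hBL hzB
    have hzD : z ∈ ⁅L, L⁆ := by
      rw [← map_subtype_commutator]
      exact ⟨⟨z, hzL⟩, hmemD ⟨z, hzL⟩ (hLB hzB), rfl⟩
    have hbz : b * z = z * b := (mem_centralizer_iff.mp ((commutator_eq_bot_iff_le_centralizer.mp hrot) hzD) b hb)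
    have hbl : b * l * b⁻¹ = z⁻¹ * l := by rw [hz, commutatorElement_def]; group
    have hpow : ∀ n : ℕ, b ^ n * l * (b ^ n)⁻¹ = z⁻¹ ^ n * l := by
      intro n
      induction n with
      | zero => simp
      | succ n ih =>
        have hcb : b * z⁻¹ ^ n = z⁻¹ ^ n * b := ((show Commute b z from hbz).inv_right.pow_right n).eq
        rw [pow_succ', show b * b ^ n * l * (b * b ^ n)⁻¹ = b * (b ^ n * l * (b ^ n)⁻¹) * b⁻¹ by group, ih,
          ← mul_assoc, hcb, mul_assoc (z⁻¹ ^ n), mul_assoc (z⁻¹ ^ n), hbl, ← mul_assoc, ← pow_succ]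
    obtain ⟨k, hk⟩ := hB ⟨b, hb⟩
    have hk' : b ^ p ^ k = 1 := by simpa using congrArg Subtype.val hk
    have hzk : z ^ p ^ k = 1 := by
      have := hpow (p ^ k)
      rw [hk', one_mul, inv_one, mul_one, inv_pow, eq_comm, mul_eq_right, inv_eq_one] at this
      exact this
    refine mem_bot.mpr ?_
    have h1 := hcopL ⟨z, hzL⟩ (hcent z hzB)
    have h2 : (⟨z, hzL⟩ : L) = 1 := orderOf_eq_one_iff.mp (Nat.eq_one_of_dvd_coprimes (h1.pow_right k) dvd_rfl
      (orderOf_dvd_of_pow_eq_one (Subtype.ext (by simpa using hzk))))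
    exact congrArg Subtype.val h2
  · refine CfsgLib.PCore.coprime_of_not_dvd fun hd => ?_
    obtain ⟨⟨x, hx⟩, hxo⟩ := exists_prime_orderOf_dvd_card' p hd
    rw [← Subgroup.orderOf_coe] at hxo
    change orderOf x = p at hxo
    have hxp : x ^ p ^ 1 = 1 := by rw [pow_one, ← hxo]; exact pow_orderOf_eq_one x
    have hcF : ∀ f ∈ F, x * f = f * x := fun f hf => (mem_centralizer_iff.mp hx f (mem_sup_left hf)).symm
    have hcL : ∀ l ∈ L, x * l = l * x := fun l hl => (mem_centralizer_iff.mp hx l (mem_sup_right hl)).symm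
    -- the layer
    have hlay : Cfsg.layer H ≤ centralizer ({x} : Set H) := by
      refine sSup_le fun K hK => ?_
      have hKFS : K ≤ FS := (CfsgLib.Components.component_le_layer hK).trans CfsgLib.Components.layer_le_generalizedFittingSubgroup
      have hLsn : L.IsSubnormal := CfsgLib.Components.subnormal_of_normal_le hLFS hLn hFSn.isSubnormal
      rcases CfsgLib.Components.component_le_or_commute hK hLsn with h1 | h1
      · exact fun k hk => mem_centralizer_singleton_iff.mpr (hcL k (h1 hk)).symm
      · -- `K` commutes with `L`; then it is centralized by `Q`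
        have hKQ : K ≤ centralizer (Q : Set H) := by
          rcases FStarAct.component_dichotomy hH
            (CfsgLib.Components.isComponent_subgroupOf' hK hKFS) with h2 | h2
          · exfalso
            rw [map_subgroupOf_eq_of_le hKFS, ← hL] at h2
            exact CfsgLib.Components.quasisimple_not_commute_self hK.2
              (le_bot_iff.mp ((commutator_mono le_rfl h2).trans h1.le))
          · rwa [map_subgroupOf_eq_of_le hKFS] at h2
        have hKF : K ≤ F := hEF.trans' (le_inf hKFS (le_centralizer_iff.mp (sup_le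
          (le_centralizer_iff.mp (commutator_eq_bot_iff_le_centralizer.mp h1)) (le_centralizer_iff.mp hKQ))))
        exact fun k hk => mem_centralizer_singleton_iff.mpr (hcF k (hKF hk)).symm
    -- the Fitting subgroup
    haveI := CfsgLib.Components.fittingSubgroup_normal (G := H)
    set R := Cfsg.fittingSubgroup H with hR
    have hRFS : R ≤ FS := CfsgLib.Components.fittingSubgroup_le_generalizedFittingSubgroup
    have hcR : (Nat.card R).Coprime p := FStarAct.fitting_coprime hO
    obtain ⟨n, hn⟩ := IsPGroup.iff_card.mp hQ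
    haveI := hQ.isNilpotent
    set R₁ := L ⊓ R with hR₁
    set C' := R ⊓ centralizer (R₁ : Set H) with hC'
    have hQC' : Q ≤ normalizer (C' : Set H) := by
      intro q hq
      refine mem_normalizer_iff.mpr fun e => ?_
      simp only [hC', Subgroup.mem_inf]
      refine and_congr (mem_normalizer_iff.mp (le_normalizer_of_normal (H := R) (mem_top q)) e)
        (mem_normalizer_iff.mp (normalizer_le_normalizer_centralizer _ ?_) e)
      refine mem_normalizer_iff.mpr fun e => ?_
      simp only [hR₁, Subgroup.mem_inf]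
      exact and_congr (mem_normalizer_iff.mp (hQL hq) e)
        (mem_normalizer_iff.mp (le_normalizer_of_normal (H := R) (mem_top q)) e)
    have hC'x : C' ≤ centralizer ({x} : Set H) := by
      rw [← CfsgLib.CoprimeAction.commutator_sup_centralizer hQC'
        (by rw [hn]; exact (Nat.Coprime.coprime_dvd_left (card_dvd_of_le inf_le_left) hcR |>.pow_right n).symm)
        (Or.inl inferInstance)]
      refine sup_le ?_ ?_
      · intro d hd
        have : d ∈ L := hL ▸ commutator_mono (inf_le_left.trans hRFS) le_rfl hd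
        exact mem_centralizer_singleton_iff.mpr (hcL d this).symm
      · intro c hc
        refine mem_centralizer_singleton_iff.mpr (hcF c (hEF ⟨hRFS hc.1.1, ?_⟩)).symm
        have hcLc : ∀ l ∈ L, l * c = c * l := by
          intro l hl
          suffices L ≤ centralizer ({c} : Set H) from mem_centralizer_singleton_iff.mp (this hl)
          rw [hL, commutator_le]
          intro f hf q hq
          rw [hFS, Cfsg.generalizedFittingSubgroup, ← SetLike.mem_coe, mul_normal] at hf
          obtain ⟨e, he, r, hr, rfl⟩ := hf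
          have h3 : ⁅e * r, q⁆ = e * ⁅r, q⁆ * e⁻¹ * ⁅e, q⁆ := by simp only [commutatorElement_def]; group
          have hec : ∀ e ∈ Cfsg.layer H, e ∈ centralizer ({c} : Set H) := fun e he =>
            mem_centralizer_singleton_iff.mpr
              (mem_centralizer_iff.mp (CfsgLib.Components.layer_le_centralizer_fitting he) c hc.1.1).symm
          have hr1 : ⁅r, q⁆ ∈ centralizer ({c} : Set H) := by
            have hrq : ⁅r, q⁆ ∈ R₁ := ⟨hL ▸ commutator_mem_commutator (hRFS hr) hq,
              CfsgLib.CoprimeAction.commutator_le_of_normalizer le_normalizer_of_normal (commutator_mem_commutator hr hq)⟩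
            exact mem_centralizer_singleton_iff.mpr (mem_centralizer_iff.mp hc.1.2 _ hrq)
          have he1 : ⁅e, q⁆ ∈ centralizer ({c} : Set H) := by
            haveI := CfsgLib.Components.layer_normal (G := H)
            exact hec _ (CfsgLib.CoprimeAction.commutator_le_of_normalizer le_normalizer_of_normal
              (commutator_mem_commutator he hq))
          rw [h3]
          exact mul_mem (mul_mem (mul_mem (hec e he) hr1) (inv_mem (hec e he))) he1
        refine mem_centralizer_iff.mpr fun g hg => ?_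
        have : L ⊔ Q ≤ centralizer ({c} : Set H) := sup_le
          (fun l hl => mem_centralizer_singleton_iff.mpr (hcLc l hl))
          (fun q hq => mem_centralizer_singleton_iff.mpr (mem_centralizer_iff.mp hc.2 q hq))
        exact mem_centralizer_singleton_iff.mp (this hg)
    have hRx : ∀ r ∈ R, r * x = x * r := by
      intro r hr
      set d := r⁻¹ * (x * r * x⁻¹) with hd
      have hdR : d ∈ R := R.mul_mem (R.inv_mem hr) ((inferInstance : R.Normal).conj_mem r hr x)
      have hdC : d ∈ C' := by
        refine ⟨hdR, mem_centralizer_iff.mpr fun m hm => ?_⟩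
        have hrm : r * m * r⁻¹ ∈ L := (mem_normalizer_iff.mp (hLn (hRFS hr)) m).mp hm.1
        have e1 : x * (r * m * r⁻¹) * x⁻¹ = r * m * r⁻¹ := by rw [hcL _ hrm, mul_inv_cancel_right]
        have e2 : x * (r * m * r⁻¹) * x⁻¹ = (x * r * x⁻¹) * m * (x * r * x⁻¹)⁻¹ := by
          calc x * (r * m * r⁻¹) * x⁻¹ = x * r * (x⁻¹ * (x * m)) * r⁻¹ * x⁻¹ := by group
            _ = x * r * (x⁻¹ * (m * x)) * r⁻¹ * x⁻¹ := by rw [hcL m hm.1]
            _ = _ := by group
        rw [e1] at e2
        calc m * d = r⁻¹ * (r * m * r⁻¹) * (x * r * x⁻¹) := by rw [hd]; group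
          _ = d * m := by rw [e2, hd]; group
      have hxd : x * d = d * x := (mem_centralizer_singleton_iff.mp (hC'x hdC)).symm
      have hpow : ∀ k : ℕ, x ^ k * r * (x ^ k)⁻¹ = r * d ^ k := by
        intro k
        induction k with
        | zero => simp
        | succ k ih =>
          have hcd : x * d ^ k = d ^ k * x := ((show Commute x d from hxd).pow_right k).eq
          rw [pow_succ', show x * x ^ k * r * (x * x ^ k)⁻¹ = x * (x ^ k * r * (x ^ k)⁻¹) * x⁻¹ by group, ih,
            show x * (r * d ^ k) * x⁻¹ = x * r * x⁻¹ * (x * d ^ k * x⁻¹) by group, hcd, mul_inv_cancel_right,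
            show x * r * x⁻¹ = r * d by rw [hd]; group, mul_assoc, ← pow_succ']
      have hdk : d ^ (p ^ 1) = 1 := by
        have := hpow (p ^ 1)
        rw [hxp, one_mul, inv_one, mul_one, left_eq_mul] at this
        exact this
      have hd1 : d = 1 := orderOf_eq_one_iff.mp (Nat.eq_one_of_dvd_coprimes (hcR.pow_right 1)
        (Subgroup.orderOf_dvd_natCard R hdR) (orderOf_dvd_of_pow_eq_one hdk))
      calc r * x = r * d * x := by rw [hd1, mul_one]
        _ = x * r := by rw [hd]; group
    have hx1 : x = 1 := by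
      refine FStarAct.eq_one_of_centralizes_fstar hO hxp fun f hf => ?_
      refine mem_centralizer_singleton_iff.mp ((sup_le hlay (fun r hr => mem_centralizer_singleton_iff.mpr (hRx r hr)) :
        Cfsg.layer H ⊔ R ≤ centralizer ({x} : Set H)) hf)
    rw [hx1, orderOf_one] at hxo
    exact (Fact.out : p.Prime).ne_one hxo.symm

end Cfsg.Agent.S2817
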