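import Cfsg.Statements.S2818
import Cfsg.Agent.PReduced.Hom

set_option autoImplicit false
open Cfsg

namespace Cfsg.Agent.S2818

/-- Let P be a finite p-subgroup of a group G and H a subgroup of N_G(P) with [P, H] ≤ Ω₁(Z(P)) (the elements of order dividing p in the centre of P). Then H centralizes the Frattini subgroup of P. -/
theorem result {G : Type*} [Group G] [Finite G] {p : ℕ} [Fact p.Prime] (P : Subgroup G) (hP : IsPGroup p ↥P) (H : Subgroup G) (hH : H ≤ Subgroup.normalizer (P : Set G)) (h : ⁅P, H⁆ ≤ Cfsg.omegaOne p (P ⊓ Subgroup.centralizer (P : Set G))) : ⁅(frattini ↥P).map P.subtype, H⁆ = ⊥ := by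
  open Subgroup in
  rw [commutator_eq_bot_iff_le_centralizer]
  open Subgroup in
  have hA : ∀ x ∈ P, ∀ g ∈ H, x * g * x⁻¹ * g⁻¹ ∈ P ⊓ centralizer (P : Set G) ∧
      (x * g * x⁻¹ * g⁻¹) ^ p = 1 := by
    intro x hx g hg
    have hm := h (commutator_mem_commutator hx hg)
    rw [commutatorElement_def] at hm
    refine closure_induction (p := fun a _ => a ∈ P ⊓ centralizer (P : Set G) ∧ a ^ p = 1) (fun a ha => ha)
      ⟨one_mem _, one_pow p⟩ ?_ ?_ hm
    · rintro a b _ _ ⟨ha, ha'⟩ ⟨hb, hb'⟩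
      exact ⟨mul_mem ha hb, by rw [Commute.mul_pow (mem_centralizer_iff.mp hb.2 a ha.1), ha', hb', one_mul]⟩
    · rintro a _ ⟨ha, ha'⟩
      exact ⟨inv_mem ha, by rw [inv_pow, ha', inv_one]⟩
  rintro _ ⟨x, hx, rfl⟩
  rw [Subgroup.mem_centralizer_iff]
  intro g hg
  let f : ↥P →* G :=
    { toFun := fun y => (y : G) * g * (y : G)⁻¹ * g⁻¹
      map_one' := by simp
      map_mul' := fun a b => by
        have hc := Subgroup.mem_centralizer_iff.mp (hA b b.2 g hg).1.2 a a.2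
        have hc' := Subgroup.mem_centralizer_iff.mp (hA b b.2 g hg).1.2 _ (hA a a.2 g hg).1.1
        show (a : G) * b * g * ((a : G) * b)⁻¹ * g⁻¹ = _
        rw [hc']
        calc (a : G) * b * g * ((a : G) * b)⁻¹ * g⁻¹
            = ((a : G) * ((b : G) * g * (b : G)⁻¹ * g⁻¹)) * g * (a : G)⁻¹ * g⁻¹ := by group
          _ = (((b : G) * g * (b : G)⁻¹ * g⁻¹) * (a : G)) * g * (a : G)⁻¹ * g⁻¹ := by rw [hc]
          _ = _ := by group }
  have := CfsgLib.PReduced.frattini_le_of_exponent (p := p) f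
    (fun a b => (Subgroup.mem_centralizer_iff.mp (hA b b.2 g hg).1.2 _ (hA a a.2 g hg).1.1))
    (fun a => (hA a a.2 g hg).2) hx
  have h' : (x : G) * g * (x : G)⁻¹ * g⁻¹ = 1 := this
  rw [mul_inv_eq_one, mul_inv_eq_iff_eq_mul] at h'
  exact h'.symm

end Cfsg.Agent.S2818
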