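import Cfsg.Statements.S2819
import Cfsg.Agent.PReduced.Hom
import Cfsg.Agent.PReduced.Basic
import Cfsg.Agent.PCore.AxB
import Mathlib.GroupTheory.Abelianization.Defs

set_option autoImplicit false
open Cfsg

namespace Cfsg.Agent.S2819

open Subgroup CfsgLib.PReduced in
/-- Elements of the normal closure of `Y` stabilize the chain `Φ(P) ≥ P' ≥ 1`. -/
theorem aux {G : Type*} [Group G] [Finite G] {p : ℕ} [Fact p.Prime] (P : Subgroup G) (hP : IsPGroup p ↥P)
    (H : Subgroup G) (hH : H ≤ normalizer (P : Set G)) (Y : Subgroup G) (hYH : Y ≤ H)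
    (hYc : Y ≤ centralizer ((⁅P, P⁆ : Subgroup G) : Set G)) (hel : Cfsg.IsElementaryAbelian p ⁅P, Y⁆) :
    ((Subgroup.normalClosure ((Y.subgroupOf H : Subgroup ↥H) : Set ↥H)).map H.subtype) ≤
      centralizer ((⁅P, P⁆ : Subgroup G) : Set G) ∧
    ⁅(frattini ↥P).map P.subtype, (Subgroup.normalClosure ((Y.subgroupOf H : Subgroup ↥H) : Set ↥H)).map H.subtype⁆
      ≤ ⁅P, P⁆ := by
  set Φ := (frattini ↥P).map P.subtype with hΦ
  have hPn : H ≤ normalizer ((⁅P, P⁆ : Subgroup G) : Set G) := CfsgLib.PCore.le_normalizer_commutator hH hH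
  have hPP : P ≤ normalizer ((⁅P, P⁆ : Subgroup G) : Set G) :=
    CfsgLib.PCore.le_normalizer_commutator le_normalizer le_normalizer
  have hΦn : H ≤ normalizer (Φ : Set G) := by
    intro h hh
    have key : ∀ g ∈ normalizer (P : Set G), Φ.map (MulAut.conj g).toMonoidHom ≤ Φ := by
      intro g hg
      let e : ↥P ≃* ↥P := (MulEquiv.subgroupMap (MulAut.conj g) P).trans
        (MulEquiv.subgroupCongr (mem_normalizer_iff_map_conj_eq.mp hg))
      have hmap := Subgroup.characteristic_iff_map_le.mp (frattini_characteristic (G := ↥P)) e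
      rintro _ ⟨_, ⟨x, hx, rfl⟩, rfl⟩
      exact ⟨e x, hmap ⟨x, hx, rfl⟩, rfl⟩
    rw [mem_normalizer_iff]
    intro x
    refine ⟨fun hx => key h (hH hh) ⟨x, hx, rfl⟩, fun hx => ?_⟩
    have := key h⁻¹ (inv_mem (hH hh)) ⟨_, hx, rfl⟩
    simpa [MulAut.conj_apply, mul_assoc] using this
  let D : Subgroup G :=
    { carrier := {g | g ∈ normalizer (Φ : Set G) ⊓ normalizer ((⁅P, P⁆ : Subgroup G) : Set G) ∧
        g ∈ centralizer ((⁅P, P⁆ : Subgroup G) : Set G) ∧ ∀ x ∈ Φ, x * g * x⁻¹ * g⁻¹ ∈ ⁅P, P⁆}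
      one_mem' := ⟨one_mem _, one_mem _, fun x _ => by simp⟩
      mul_mem' := by
        rintro a b ⟨ha1, ha2, ha3⟩ ⟨hb1, hb2, hb3⟩
        refine ⟨mul_mem ha1 hb1, mul_mem ha2 hb2, fun x hx => ?_⟩
        have h1 := mul_mem (ha3 x hx) ((mem_normalizer_iff.mp ha1.2 _).mp (hb3 x hx))
        simpa [mul_assoc] using h1
      inv_mem' := by
        rintro a ⟨ha1, ha2, ha3⟩
        refine ⟨inv_mem ha1, inv_mem ha2, fun x hx => ?_⟩
        have h1 := (mem_normalizer_iff.mp (inv_mem ha1.2) _).mp (inv_mem (ha3 x hx))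
        simpa [mul_assoc] using h1 }
  have hYD : ∀ y ∈ Y, y ∈ D := by
    intro y hy
    refine ⟨⟨hΦn (hYH hy), hPn (hYH hy)⟩, hYc hy, ?_⟩
    -- the subgroup of `P` on which `y` acts trivially modulo `P'`
    let E : Subgroup ↥P :=
      { carrier := {x | (x : G) * y * (x : G)⁻¹ * y⁻¹ ∈ ⁅P, P⁆}
        one_mem' := by simp
        mul_mem' := by
          intro a b ha hb
          have h1 := mul_mem ((mem_normalizer_iff.mp (hPP a.2) _).mp hb) ha
          simpa [mul_assoc] using h1
        inv_mem' := by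
          intro a ha
          have h1 := (mem_normalizer_iff.mp (hPP (inv_mem a.2)) _).mp (inv_mem ha)
          simpa [mul_assoc] using h1 }
    have hEc : _root_.commutator ↥P ≤ E := by
      intro x hx
      have hx' : (x : G) ∈ ⁅P, P⁆ := map_subtype_commutator P ▸ mem_map_of_mem P.subtype hx
      show (x : G) * y * (x : G)⁻¹ * y⁻¹ ∈ ⁅P, P⁆
      rw [mem_centralizer_iff.mp (hYc hy) _ hx', mul_inv_cancel_right, mul_inv_cancel]
      exact one_mem _
    haveI : E.Normal := ⟨fun x hx g => by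
      have := mul_mem (hEc (commutator_mem_commutator (mem_top g) (mem_top x))) hx
      simpa [commutatorElement_def] using this⟩
    have hpow : ∀ x : ↥P, x ^ p ∈ E := by
      intro x
      have hyP : y * (x : G) * y⁻¹ ∈ P := (mem_normalizer_iff.mp (hH (hYH hy)) _).mp x.2
      let c : ↥P := x * (⟨y * (x : G) * y⁻¹, hyP⟩ : ↥P)⁻¹
      have hcp : c ^ p = 1 := Subtype.ext (by
        have h1 := hel.2 _ (commutator_mem_commutator x.2 hy)
        simpa [c, commutatorElement_def, mul_assoc] using h1)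
      have hker : x ^ p * ((⟨y * (x : G) * y⁻¹, hyP⟩ : ↥P) ^ p)⁻¹ ∈ (Abelianization.of (G := ↥P)).ker := by
        rw [MonoidHom.mem_ker, map_mul, map_inv, map_pow, map_pow, ← inv_pow, ← mul_pow, ← map_inv, ← map_mul,
          ← map_pow]
        show Abelianization.of (c ^ p) = 1
        rw [hcp, map_one]
      rw [Abelianization.ker_of] at hker
      have h1 := map_subtype_commutator P ▸ mem_map_of_mem P.subtype hker
      show ((x ^ p : ↥P) : G) * y * ((x ^ p : ↥P) : G)⁻¹ * y⁻¹ ∈ ⁅P, P⁆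
      simp only [Subgroup.coe_subtype, Subgroup.coe_mul, Subgroup.coe_inv, SubmonoidClass.coe_pow, conj_pow] at h1 ⊢
      simpa [mul_assoc] using h1
    intro x hx
    obtain ⟨x', hx', rfl⟩ := hx
    have := frattini_le_of_exponent (p := p) (QuotientGroup.mk' E)
      (fun a b => by
        rw [← map_mul, ← map_mul, QuotientGroup.mk'_apply, QuotientGroup.mk'_apply, QuotientGroup.eq]
        refine hEc ?_
        rw [commutator_def]
        simpa [commutatorElement_def, mul_assoc] using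
          commutator_mem_commutator (mem_top b⁻¹) (mem_top a⁻¹))
      (fun a => by rw [← map_pow, QuotientGroup.mk'_apply, QuotientGroup.eq_one_iff]; exact hpow a) hx'
    rw [QuotientGroup.mk'_apply, QuotientGroup.eq_one_iff] at this
    exact this
  have hNYD : (Subgroup.normalClosure ((Y.subgroupOf H : Subgroup ↥H) : Set ↥H)).map H.subtype ≤ D := by
    rw [Subgroup.map_le_iff_le_comap]
    refine (closure_le _).mpr ?_
    intro x hx
    obtain ⟨a, ha, hax⟩ := Group.mem_conjugatesOfSet_iff.mp hx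
    obtain ⟨g, rfl⟩ := isConj_iff.mp hax
    obtain ⟨h1, h2, h3⟩ := hYD a ha
    refine ⟨mul_mem (mul_mem ⟨hΦn g.2, hPn g.2⟩ h1) (inv_mem ⟨hΦn g.2, hPn g.2⟩),
      (mem_normalizer_iff.mp (normalizer_le_normalizer_centralizer _ (hPn g.2)) _).mp h2, fun x hx => ?_⟩
    have hx' : (g : G)⁻¹ * x * g ∈ Φ := by simpa using (mem_normalizer_iff.mp (inv_mem (hΦn g.2)) x).mp hx
    have := (mem_normalizer_iff.mp (hPn g.2) _).mp (h3 _ hx')
    simpa [mul_assoc] using this
  exact ⟨fun g hg => (hNYD hg).2.1, commutator_le.mpr fun x hx g hg => (hNYD hg).2.2 x hx⟩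

/-- Let P be a finite p-subgroup of a group G, H a subgroup of N_G(P), and Y a subgroup of H centralizing the derived subgroup P' such that [P, Y] is elementary abelian. Then O^p(⟨Y^H⟩), the subgroup of the normal closure of Y in H generated by its elements of order prime to p, centralizes the Frattini subgroup of P. -/
theorem result {G : Type*} [Group G] [Finite G] {p : ℕ} [Fact p.Prime] (P : Subgroup G) (hP : IsPGroup p ↥P) (H : Subgroup G) (hH : H ≤ Subgroup.normalizer (P : Set G)) (Y : Subgroup G) (hYH : Y ≤ H) (hYc : Y ≤ Subgroup.centralizer ((⁅P, P⁆ : Subgroup G) : Set G)) (hel : Cfsg.IsElementaryAbelian p ⁅P, Y⁆) (NY : Subgroup G) (hNY : NY = (Subgroup.normalClosure ((Y.subgroupOf H : Subgroup ↥H) : Set ↥H)).map H.subtype) : (Cfsg.pResidual p ↥NY).map NY.subtype ≤ Subgroup.centralizer (((frattini ↥P).map P.subtype : Subgroup G) : Set G) := by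
  subst hNY
  obtain ⟨h1, h2⟩ := aux P hP H hH Y hYH hYc hel
  obtain ⟨b, hb⟩ := IsPGroup.iff_card.mp (hP.to_le (Subgroup.commutator_le.mpr fun a ha c hc =>
    mul_mem (mul_mem (mul_mem ha hc) (inv_mem ha)) (inv_mem hc) : ⁅P, P⁆ ≤ P))
  rw [Subgroup.map_le_iff_le_comap]
  refine (Subgroup.closure_le _).mpr fun w hw => ?_
  have hco : (Nat.card (Subgroup.zpowers (w : G))).Coprime (Nat.card (⁅P, P⁆ : Subgroup G)) := by
    rw [Nat.card_zpowers, Subgroup.orderOf_coe, hb]
    exact Nat.Coprime.pow_right b hw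
  have hc := (Subgroup.commutator_mono le_rfl (Subgroup.zpowers_le.mpr w.2)).trans h2
  exact CfsgLib.PCore.le_centralizer_of_stabilizes hco hc
    (hc.trans (Subgroup.le_centralizer_iff.mp (Subgroup.zpowers_le.mpr (h1 w.2)))) (Subgroup.mem_zpowers _)

end Cfsg.Agent.S2819
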