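import Cfsg.Statements.S2823
import Cfsg.Agent.PReduced.Average
import Cfsg.Agent.PReduced.Basic
import Cfsg.Agent.Transfer.Residual
import Cfsg.Agent.PCore.AxB
import Cfsg.Agent.S2821

set_option autoImplicit false
open Cfsg

namespace Cfsg.Agent.S2823

open Subgroup CfsgLib.PReduced in
/-- The two identities for `Z_L`. -/
theorem aux {H : Type*} [Group H] [Finite H] {p : ℕ} [Fact p.Prime] (T : Sylow p H) (L : Subgroup H)
    (hTL : (T : Subgroup H) ≤ L) (hL : centralizer (Cfsg.pCore p ↥L : Set ↥L) ≤ Cfsg.pCore p ↥L) :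
    Cfsg.sylowCenterClosure p L = Cfsg.omegaOne p (L ⊓ centralizer (L : Set H)) ⊔
        ⁅Cfsg.sylowCenterClosure p L, (Cfsg.pResidual p ↥L).map L.subtype⁆ ∧
      ⁅Cfsg.sylowCenterClosure p L, L⁆ = ⁅Cfsg.sylowCenterClosure p L, (Cfsg.pResidual p ↥L).map L.subtype⁆ := by
  set Z := Cfsg.sylowCenterClosure p L with hZ
  set R := (Cfsg.pResidual p ↥L).map L.subtype with hR
  haveI hres := CfsgLib.Transfer.pResidual_normal (p := p) (G := ↥L)
  have hRL : R ≤ L := map_subtype_le _
  have hLR : L ≤ normalizer (R : Set H) := le_normalizer_map_subtype L _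
  have hZY : Z ≤ Cfsg.largestPReducedOf p L := iSup_le fun S => Cfsg.Agent.S2821.sylowCenter_le L hL S
  have hZe := isElementaryAbelian_largestPReducedOf (p := p) L
  haveI hZc : IsMulCommutative Z := ⟨⟨fun a b => Subtype.ext
    (mem_centralizer_iff.mp (le_centralizer_self hZe (hZY b.2)) a (hZY a.2))⟩⟩
  -- `L` normalizes `Z`
  have hLZ : L ≤ normalizer (Z : Set H) := by
    haveI : (Z.subgroupOf L).Normal := by
      refine ⟨fun z hz l => ?_⟩
      let e : H →* H := (MulAut.conj (l : H)).toMonoidHom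
      have hle : Z ≤ Z.comap e := by
        refine iSup_le fun S => (closure_le _).mpr ?_
        rintro x ⟨⟨⟨s, hs, rfl⟩, hxc⟩, hxp⟩
        refine mem_iSup_of_mem (l • S) (subset_closure ⟨⟨⟨l * s * l⁻¹, ?_, rfl⟩, ?_⟩, ?_⟩)
        · rw [SetLike.mem_coe, Sylow.coe_subgroup_smul, mem_pointwise_smul_iff_inv_smul_mem]
          show (MulAut.conj l)⁻¹ • (l * s * l⁻¹) ∈ (S : Subgroup L)
          rw [← map_inv]
          rw [SetLike.mem_coe] at hs
          simpa [MulAut.smul_def, MulAut.conj_apply, mul_assoc, SetLike.mem_coe] using hs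
        · refine mem_centralizer_iff.mpr ?_
          rintro _ ⟨w, hw, rfl⟩
          rw [Sylow.coe_subgroup_smul] at hw
          obtain ⟨w', hw', rfl⟩ := hw
          have := mem_centralizer_iff.mp hxc _ ⟨w', hw', rfl⟩
          show (l : H) * (w' : H) * (l : H)⁻¹ * ((l : H) * (s : H) * (l : H)⁻¹) =
            (l : H) * (s : H) * (l : H)⁻¹ * ((l : H) * (w' : H) * (l : H)⁻¹)
          simp only [coe_subtype] at this
          calc (l : H) * (w' : H) * (l : H)⁻¹ * ((l : H) * (s : H) * (l : H)⁻¹) = (l : H) * ((w' : H) * (s : H)) * (l : H)⁻¹ := by group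
            _ = (l : H) * ((s : H) * (w' : H)) * (l : H)⁻¹ := by rw [this]
            _ = _ := by group
        · show ((l : H) * (s : H) * (l : H)⁻¹) ^ p = 1
          rw [conj_pow]
          simp only [coe_subtype] at hxp
          rw [hxp, mul_one, mul_inv_cancel]
      exact hle hz
    have hZL : Z ≤ L := hZY.trans (largestPReducedOf_le L)
    have h := le_normalizer_map_subtype L (Z.subgroupOf L)
    rwa [map_subgroupOf_eq_of_le hZL] at h
  have hZL : Z ≤ L := hZY.trans (largestPReducedOf_le L)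
  have hcom : ⁅Z, R⁆ ≤ Z := CfsgLib.PCore.commutator_le_of_le_normalizer (hRL.trans hLZ)
  have hcent : ∀ z ∈ Cfsg.omegaOne p (L ⊓ centralizer (L : Set H)), z ∈ centralizer (L : Set H) := fun z hz =>
    ((closure_le _).mpr (fun y (hy : y ∈ L ⊓ centralizer (L : Set H) ∧ y ^ p = 1) => hy.1.2) :
      Cfsg.omegaOne p (L ⊓ centralizer (L : Set H)) ≤ centralizer (L : Set H)) hz
  have hsplit : Z = Cfsg.omegaOne p (L ⊓ centralizer (L : Set H)) ⊔ ⁅Z, R⁆ := by
    refine le_antisymm (iSup_le fun S => (closure_le _).mpr ?_) (sup_le ((closure_le _).mpr ?_) hcom)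
    · intro y hy
      have hyZ : y ∈ Z := mem_iSup_of_mem S (subset_closure hy)
      obtain ⟨⟨-, hyc⟩, -⟩ := hy
      set S' := (S : Subgroup L).map L.subtype with hS'
      have hidx : (S'.relIndex R).Coprime p := by
        obtain ⟨P, hP⟩ := exists_sylow_inf S (Cfsg.pResidual p ↥L)
        rw [Nat.coprime_comm, (Fact.out : p.Prime).coprime_iff_not_dvd, hS', hR,
          relIndex_map_map_of_injective _ _ L.subtype_injective, relIndex, ← inf_subgroupOf_right, ← hP]
        exact P.not_dvd_index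
      have hfix : ∀ t ∈ S', t * y * t⁻¹ = y := fun t ht => by
        rw [mem_centralizer_iff.mp hyc t ht, mul_inv_cancel_right]
      obtain ⟨c, hc, d, hd, rfl, hcR, hcg⟩ := average_split Z R S' (fun a ha => hZe.2 a (hZY ha))
        (hRL.trans hLZ) hidx hyZ (fun t ht => hfix t ht.2)
      refine mul_mem (mem_sup_left (subset_closure ⟨⟨hZL hc, ?_⟩, hZe.2 c (hZY hc)⟩)) (mem_sup_right hd)
      have hct : S' ≤ centralizer ({c} : Set H) := fun t ht => by
        rw [mem_centralizer_singleton_iff]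
        refine mul_inv_eq_iff_eq_mul.mp (hcg t ?_ (hfix t ht))
        have htL : t ∈ L := map_subtype_le _ ht
        exact ⟨⟨hLR htL, inf_normalizer_le_normalizer_inf ⟨hLR htL, le_normalizer ht⟩⟩, hLZ htL⟩
      have hLeq : L = R ⊔ S' := by
        rw [hR, hS', ← Subgroup.map_sup, CfsgLib.Transfer.pResidual_sup_sylow S, ← MonoidHom.range_eq_map,
          range_subtype]
      have hLc : L ≤ centralizer ({c} : Set H) := by
        rw [hLeq]
        refine sup_le (fun r hr => ?_) hct
        rw [mem_centralizer_singleton_iff]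
        exact mem_centralizer_iff.mp hcR r hr
      exact mem_centralizer_iff.mpr fun l hl => mem_centralizer_singleton_iff.mp (hLc hl)
    · rintro z ⟨⟨hzL, hzc⟩, hzp⟩
      refine mem_iSup_of_mem (T.subtype hTL) (subset_closure ⟨⟨?_, ?_⟩, hzp⟩)
      · have hz : zpowers z ≤ (T : Subgroup H) := by
          have hp' : IsPGroup p (zpowers z) := by
            intro w
            obtain ⟨i, hi⟩ := mem_zpowers_iff.mp w.2
            exact ⟨1, Subtype.ext (by
              rw [pow_one, SubmonoidClass.coe_pow, ← hi, ← zpow_natCast, ← zpow_mul, mul_comm, zpow_mul,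
                zpow_natCast, hzp, one_zpow, Subgroup.coe_one])⟩
          refine (le_pCoreOf (zpowers_le.mpr hzL) ?_ hp').trans (pCoreOf_le_sylow T hTL)
          intro l hl
          rw [mem_normalizer_iff_map_conj_eq, MonoidHom.map_zpowers]
          congr 1
          show l * z * l⁻¹ = z
          rw [mem_centralizer_iff.mp hzc l hl, mul_inv_cancel_right]
        rw [Sylow.coe_subtype, map_subgroupOf_eq_of_le hTL]
        exact hz (mem_zpowers z)
      · exact centralizer_le (map_subtype_le _) hzc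
  refine ⟨hsplit, le_antisymm ?_ (commutator_mono le_rfl hRL)⟩
  refine commutator_le.mpr fun z hz l hl => ?_
  have hn : Cfsg.omegaOne p (L ⊓ centralizer (L : Set H)) ≤ normalizer ((⁅Z, R⁆ : Subgroup H) : Set H) :=
    ((closure_le _).mpr fun y hy => CfsgLib.PCore.le_normalizer_commutator hLZ hLR hy.1.1)
  rw [hsplit, ← SetLike.mem_coe, coe_mul_of_left_le_normalizer_right _ _ hn] at hz
  obtain ⟨c, hc, d, hd, rfl⟩ := hz
  have hl' : l * d⁻¹ * l⁻¹ ∈ ⁅Z, R⁆ :=
    (mem_normalizer_iff.mp (CfsgLib.PCore.le_normalizer_commutator hLZ hLR hl) _).mp (inv_mem hd)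
  have hdl : d * (l * d⁻¹ * l⁻¹) ∈ ⁅Z, R⁆ := mul_mem hd hl'
  have hmem : d * (l * d⁻¹ * l⁻¹) ∈ L := mul_mem (hZL (hcom hd))
    (mul_mem (mul_mem hl (inv_mem (hZL (hcom hd)))) (inv_mem hl))
  rw [commutatorElement_def]
  have hcl : c * l = l * c := (mem_centralizer_iff.mp (hcent c hc) l hl).symm
  have hcd : d * (l * d⁻¹ * l⁻¹) * c = c * (d * (l * d⁻¹ * l⁻¹)) := mem_centralizer_iff.mp (hcent c hc) _ hmem
  have e : c * d * l * (c * d)⁻¹ * l⁻¹ = d * (l * d⁻¹ * l⁻¹) := by
    calc c * d * l * (c * d)⁻¹ * l⁻¹ = c * d * l * d⁻¹ * (c⁻¹ * l⁻¹) := by group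
      _ = c * d * l * d⁻¹ * (l * c)⁻¹ := by group
      _ = c * d * l * d⁻¹ * (c * l)⁻¹ := by rw [hcl]
      _ = c * (d * (l * d⁻¹ * l⁻¹)) * c⁻¹ := by group
      _ = _ := by rw [← hcd, mul_inv_cancel_right]
  rw [e]
  exact hdl

/-- Let H be a finite group, p a prime, T a Sylow p-subgroup and L a subgroup of characteristic p containing T; let Z_L be the subgroup generated by the Ω₁(Z(S)) over the Sylow p-subgroups S of L and O^p(L) the subgroup generated by the elements of L of order prime to p. Then Z_L = Ω₁(Z(L))·[Z_L, O^p(L)] and [Z_L, L] = [Z_L, O^p(L)]. -/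
theorem result {H : Type*} [Group H] [Finite H] {p : ℕ} [Fact p.Prime] (T : Sylow p H) (L : Subgroup H) (hTL : (T : Subgroup H) ≤ L) (hL : Subgroup.centralizer (Cfsg.pCore p ↥L : Set ↥L) ≤ Cfsg.pCore p ↥L) : Cfsg.sylowCenterClosure p L = (Cfsg.omegaOne p (L ⊓ Subgroup.centralizer ((L : Subgroup H) : Set H))) ⊔ ⁅Cfsg.sylowCenterClosure p L, (Cfsg.pResidual p ↥L).map L.subtype⁆ ∧ ⁅Cfsg.sylowCenterClosure p L, L⁆ = ⁅Cfsg.sylowCenterClosure p L, (Cfsg.pResidual p ↥L).map L.subtype⁆ := by
  exact aux T L hTL hL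

end Cfsg.Agent.S2823
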