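import Cfsg.Statements.S2825
import Cfsg.Agent.PReduced.CharP
import Cfsg.Agent.PReduced.PIrreducible
import Cfsg.Agent.S2804
import Mathlib

set_option autoImplicit false
open Cfsg

namespace Cfsg.Agent.S2825

open Subgroup CfsgLib.PReduced

variable {G : Type*} [Group G] [Finite G] {p : ℕ} [Fact p.Prime]

omit [Finite G] in
theorem elab_comm {W : Subgroup G} (hW : Cfsg.IsElementaryAbelian p W) {a b : G} (ha : a ∈ W) (hb : b ∈ W) :
    a * b = b * a :=
  mem_centralizer_iff.mp (le_centralizer_self hW hb) a ha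

omit [Finite G] in
theorem coprime_fix {W : Subgroup G} (hW : Cfsg.IsElementaryAbelian p W) {x v : G}
    (hco : (orderOf x).Coprime p) (ht : x * v * x⁻¹ * v⁻¹ ∈ W)
    (hc : x * (x * v * x⁻¹ * v⁻¹) * x⁻¹ = x * v * x⁻¹ * v⁻¹) : x * v * x⁻¹ = v := by
  set u := x * v * x⁻¹ * v⁻¹ with hu
  have key : ∀ n : ℕ, x ^ n * v * (x ^ n)⁻¹ = u ^ n * v := by
    intro n
    induction n with
    | zero => simp
    | succ n ih =>
      calc x ^ (n + 1) * v * (x ^ (n + 1))⁻¹ = x * (x ^ n * v * (x ^ n)⁻¹) * x⁻¹ := by rw [pow_succ']; group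
        _ = (x * u * x⁻¹) ^ n * (x * v * x⁻¹) := by rw [ih, conj_pow]; group
        _ = u ^ (n + 1) * v := by
          rw [hc, pow_succ, mul_assoc (u ^ n) u v]
          congr 1
          exact (inv_mul_cancel_right (x * v * x⁻¹) v).symm
  have h1 := key (orderOf x)
  rw [pow_orderOf_eq_one, inv_one, mul_one, one_mul] at h1
  have h2 : u ^ orderOf x = 1 := mul_eq_right.mp h1.symm
  have h3 : orderOf u = 1 :=
    Nat.eq_one_of_dvd_coprimes hco (orderOf_dvd_of_pow_eq_one h2) (orderOf_dvd_of_pow_eq_one (hW.2 u ht))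
  rw [orderOf_eq_one_iff] at h3
  exact mul_inv_eq_one.mp h3

/-- Thompson's lemma for actions on a module. -/
theorem fix_step {W D : Subgroup G} (hW : Cfsg.IsElementaryAbelian p W) (hDW : D ≤ normalizer (W : Set G))
    (hD : PowMem p D (centralizer (W : Set G))) {x : G} (hxW : x ∈ normalizer (W : Set G))
    (hco : (orderOf x).Coprime p) (hcomm : ∀ d ∈ D, x * d * x⁻¹ * d⁻¹ ∈ centralizer (W : Set G))
    (hfix : x ∈ centralizer ((W ⊓ centralizer (D : Set G) : Subgroup G) : Set G)) : x ∈ centralizer (W : Set G) := by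
  set F := W ⊓ centralizer ({x} : Set G) with hF
  suffices h : W ≤ F from mem_centralizer_iff.mpr fun w hw => (mem_centralizer_singleton_iff.mp (h hw).2)
  by_contra hle
  have hcw : ∀ c ∈ centralizer (W : Set G), ∀ w ∈ W, c * w * c⁻¹ = w := fun c hc w hw =>
    mul_inv_eq_iff_eq_mul.mpr (mem_centralizer_iff.mp hc w hw).symm
  have hxd : ∀ d ∈ D, ∀ w ∈ W, x * (d * w * d⁻¹) * x⁻¹ = d * (x * w * x⁻¹) * d⁻¹ := by
    intro d hd w hw
    have hw' : d * (x * w * x⁻¹) * d⁻¹ ∈ W :=
      (mem_normalizer_iff.mp (hDW hd) _).mp ((mem_normalizer_iff.mp hxW w).mp hw)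
    calc x * (d * w * d⁻¹) * x⁻¹
        = (x * d * x⁻¹ * d⁻¹) * (d * (x * w * x⁻¹) * d⁻¹) * (x * d * x⁻¹ * d⁻¹)⁻¹ := by group
      _ = _ := hcw _ (hcomm d hd) _ hw'
  have hWF : W ≤ normalizer (F : Set G) := fun w hw => by
    refine centralizer_le_normalizer _ (mem_centralizer_iff.mpr fun f hf => ?_)
    exact elab_comm hW hf.1 hw
  have hDF : D ≤ normalizer (F : Set G) := by
    have key : ∀ d ∈ D, ∀ f ∈ F, d * f * d⁻¹ ∈ F := fun d hd f hf => by
      refine ⟨(mem_normalizer_iff.mp (hDW hd) f).mp hf.1, ?_⟩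
      have h := hxd d hd f hf.1
      rw [mul_inv_eq_iff_eq_mul.mpr (mem_centralizer_singleton_iff.mp hf.2).symm] at h
      exact mem_centralizer_singleton_iff.mpr (mul_inv_eq_iff_eq_mul.mp h).symm
    intro d hd
    refine mem_normalizer_iff.mpr fun f => ⟨key d hd f, fun h => ?_⟩
    simpa [mul_assoc] using key d⁻¹ (inv_mem hd) _ h
  obtain ⟨P⟩ : Nonempty (Sylow p D) := inferInstance
  set PG := (P : Subgroup D).map D.subtype with hPG
  have hPD : PG ≤ D := map_subtype_le _
  set S := PG ⊔ W with hS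
  have hSp : IsPGroup p S :=
    (P.isPGroup'.map _).to_sup_of_normal_right' (isPGroup_of_isElementaryAbelian hW) (hPD.trans hDW)
  set N := normalizer (F : Set G) with hN
  have hSN : S ≤ N := sup_le (hPD.trans hDF) hWF
  let π := QuotientGroup.mk' (F.subgroupOf N)
  have hne : (W.subgroupOf N).map π ≠ ⊥ := by
    intro e
    rw [Subgroup.map_eq_bot_iff, QuotientGroup.ker_mk'] at e
    exact hle fun w hw => mem_subgroupOf.mp (e (show (⟨w, hWF hw⟩ : N) ∈ W.subgroupOf N from hw))
  haveI : (W.subgroupOf S).Normal :=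
    normal_subgroupOf_of_le_normalizer (sup_le (hPD.trans hDW) le_normalizer)
  obtain ⟨z, hz, hzp, hzc⟩ := exists_central_of_normalized ((S.subgroupOf N).map π)
    ((hSp.of_equiv (subgroupOfEquivOfLe hSN).symm).map _)
    (map_mono fun a ha => mem_subgroupOf.mpr ((le_sup_right : W ≤ S) (mem_subgroupOf.mp ha)))
    (by
      refine (map_mono ?_).trans (le_normalizer_map π)
      intro a ha
      refine mem_normalizer_iff.mpr fun b => ?_
      rw [mem_subgroupOf, mem_subgroupOf]
      exact mem_normalizer_iff.mp ((sup_le (hPD.trans hDW) le_normalizer : S ≤ normalizer (W : Set G))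
        (mem_subgroupOf.mp ha)) (b : G)) hne
  obtain ⟨⟨v, hvN⟩, hv, rfl⟩ := hz
  rw [SetLike.mem_coe, mem_subgroupOf] at hv
  have hvF : v ∉ F := fun h => (Fact.out : p.Prime).ne_one (by
    rw [← hzp, (QuotientGroup.eq_one_iff _).mpr (show (⟨v, hvN⟩ : N) ∈ F.subgroupOf N from h) |> fun e =>
      (show π ⟨v, hvN⟩ = 1 from e), orderOf_one])
  -- every element of `D` moves `v` within `F`
  have hPv : ∀ d ∈ PG, d * v * d⁻¹ * v⁻¹ ∈ F := by
    intro d hd
    have h := hzc (π ⟨d, hSN ((le_sup_left : PG ≤ S) hd)⟩)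
      (mem_map_of_mem π (mem_subgroupOf.mpr ((le_sup_left : PG ≤ S) hd)))
    rw [← mul_inv_eq_iff_eq_mul, ← mul_inv_eq_one, ← map_mul, ← map_inv, ← map_mul, ← map_inv, ← map_mul] at h
    exact mem_subgroupOf.mp ((QuotientGroup.eq_one_iff _).mp h)
  have hDv : ∀ d ∈ D, d * v * d⁻¹ * v⁻¹ ∈ F := by
    intro d hd
    haveI : ((centralizer (W : Set G)).subgroupOf D).Normal :=
      normal_subgroupOf_of_le_normalizer (hDW.trans (normalizer_le_normalizer_centralizer W))
    obtain ⟨t, ht, c, hc, he⟩ := exists_mul_of_powMem P (C := (centralizer (W : Set G)).subgroupOf D) (D := ⊤) le_top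
      (fun e _ => by
        obtain ⟨k, hk⟩ := hD e e.2
        exact ⟨k, mem_subgroupOf.mpr (by rwa [SubmonoidClass.coe_pow])⟩) (d := ⟨d, hd⟩) (mem_top _)
    have he' : d = (t : G) * (c : G) := congrArg Subtype.val he
    rw [he', show (t : G) * (c : G) * v * ((t : G) * (c : G))⁻¹ = (t : G) * ((c : G) * v * (c : G)⁻¹) * (t : G)⁻¹
      by group, hcw _ (mem_subgroupOf.mp hc) v hv]
    exact hPv _ (mem_map_of_mem _ ht.1)
  set u := x * v * x⁻¹ * v⁻¹ with hu
  have hxv : x * v * x⁻¹ ∈ W := (mem_normalizer_iff.mp hxW v).mp hv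
  have huW : u ∈ W := mul_mem hxv (inv_mem hv)
  have huD : u ∈ centralizer (D : Set G) := by
    refine mem_centralizer_iff.mpr fun d hd => mul_inv_eq_iff_eq_mul.mp ?_
    obtain ⟨f, hf, hfd⟩ : ∃ f ∈ F, d * v * d⁻¹ = f * v := ⟨_, hDv d hd, by group⟩
    have hxf : x * f * x⁻¹ = f := mul_inv_eq_iff_eq_mul.mpr (mem_centralizer_singleton_iff.mp hf.2).symm
    calc d * u * d⁻¹ = (d * (x * v * x⁻¹) * d⁻¹) * (d * v * d⁻¹)⁻¹ := by rw [hu]; group
      _ = (x * (f * v) * x⁻¹) * (f * v)⁻¹ := by rw [← hxd d hd v hv, hfd]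
      _ = (x * f * x⁻¹) * u * f⁻¹ := by rw [hu]; group
      _ = u := by rw [hxf, elab_comm hW hf.1 huW, mul_assoc, mul_inv_cancel, mul_one]
  have hxu : x * u * x⁻¹ = u := mul_inv_eq_iff_eq_mul.mpr (mem_centralizer_iff.mp hfix u ⟨huW, huD⟩).symm
  exact hvF ⟨hv, mem_centralizer_singleton_iff.mpr (mul_inv_eq_iff_eq_mul.mp (coprime_fix hW hco huW hxu)).symm⟩

/-- A subgroup all whose elements of order prime to `p` centralize `W` is a p-group modulo `C(W)`. -/
theorem powMem_of_coprime {D C : Subgroup G} (h : ∀ x ∈ D, (orderOf x).Coprime p → x ∈ C) : PowMem p D C := by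
  intro d hd
  obtain ⟨k, m, hm, hkm⟩ := Nat.exists_eq_pow_mul_and_not_dvd (orderOf_pos d).ne' p (Fact.out : p.Prime).ne_one
  refine ⟨k, h _ (pow_mem hd _) ?_⟩
  rw [orderOf_pow_of_dvd (pow_ne_zero _ (Fact.out : p.Prime).ne_zero) (by rw [hkm]; exact dvd_mul_right _ _), hkm,
    Nat.mul_div_cancel_left _ (pow_pos (Fact.out : p.Prime).pos _)]
  exact ((Fact.out : p.Prime).coprime_iff_not_dvd.mpr hm).symm

/-- The centralizer in a normal subgroup of the largest p-reduced subgroup of the group. -/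
theorem inf_centralizer_le_of_normal {K M : Subgroup G} (hMK : M ≤ K) (hn : K ≤ normalizer (M : Set G)) :
    M ⊓ centralizer (Cfsg.largestPReducedOf p K : Set G) ≤ centralizer (Cfsg.largestPReducedOf p M : Set G) := by
  set Y := Cfsg.largestPReducedOf p M with hY
  have hKY : K ≤ normalizer (Y : Set G) := by
    intro k hk
    have hle : Y.map (MulAut.conj k).toMonoidHom ≤ Y := by
      refine le_largestPReducedOf ?_ ?_ (isElementaryAbelian_map _ (isElementaryAbelian_largestPReducedOf M)) ?_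
      · rintro _ ⟨y, hy, rfl⟩
        exact (mem_normalizer_iff.mp (hn hk) y).mp (largestPReducedOf_le M hy)
      · intro m hm
        rw [mem_normalizer_iff]
        intro y
        rw [mem_map_equiv, mem_map_equiv, MulAut.conj_symm_apply, MulAut.conj_symm_apply,
          show k⁻¹ * (m * y * m⁻¹) * k = (k⁻¹ * m * k) * (k⁻¹ * y * k) * (k⁻¹ * m * k)⁻¹ by group]
        exact mem_normalizer_iff.mp (le_normalizer_largestPReducedOf M
          (by simpa using (mem_normalizer_iff.mp (inv_mem (hn hk)) m).mp hm)) _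
      · intro D hD hMD hpm d hd
        set e := (MulAut.conj k⁻¹).toMonoidHom with he
        have hD' : D.map e ≤ M := by
          rintro _ ⟨a, ha, rfl⟩
          simpa [he] using (mem_normalizer_iff.mp (inv_mem (hn hk)) a).mp (hD ha)
        have hc : ∀ a : G, a ∈ centralizer ((Y.map (MulAut.conj k).toMonoidHom : Subgroup G) : Set G) ↔
            k⁻¹ * a * k ∈ centralizer (Y : Set G) := by
          intro a
          simp only [mem_centralizer_iff]
          constructor
          · intro h y hy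
            have h' := h (k * y * k⁻¹) ⟨y, hy, rfl⟩
            calc y * (k⁻¹ * a * k) = k⁻¹ * ((k * y * k⁻¹) * a) * k := by group
              _ = k⁻¹ * a * k * y := by rw [h']; group
          · rintro h _ ⟨y, hy, rfl⟩
            show k * y * k⁻¹ * a = a * (k * y * k⁻¹)
            calc k * y * k⁻¹ * a = k * (y * (k⁻¹ * a * k)) * k⁻¹ := by group
              _ = a * (k * y * k⁻¹) := by rw [h y hy]; group
        have h1 := le_centralizer_largestPReducedOf (p := p) hD' (fun m hm => by
            rw [mem_normalizer_iff]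
            intro a
            rw [he, mem_map_equiv, mem_map_equiv, MulAut.conj_symm_apply, MulAut.conj_symm_apply,
              show k⁻¹⁻¹ * (m * a * m⁻¹) * k⁻¹ = (k * m * k⁻¹) * (k⁻¹⁻¹ * a * k⁻¹) * (k * m * k⁻¹)⁻¹ by group]
            exact mem_normalizer_iff.mp (hMD ((mem_normalizer_iff.mp (hn hk) m).mp hm)) _)
          (by
            rintro _ ⟨a, ha, rfl⟩
            obtain ⟨j, hj⟩ := hpm a ha
            refine ⟨j, ?_⟩
            rw [← map_pow]
            simpa [he] using (hc _).mp hj)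
        exact (hc d).mpr (by simpa [he] using h1 (mem_map_of_mem e hd))
    rw [mem_normalizer_iff_map_conj_eq]
    exact Subgroup.eq_of_le_of_card_ge hle (card_map_of_injective (f := (MulAut.conj k).toMonoidHom)
      (MulAut.conj k).injective).ge
  intro x hx
  suffices hgoal : ∀ n : ℕ, ∀ W : Subgroup G, Nat.card W = n → W ≤ Y → K ≤ normalizer (W : Set G) →
      M ⊓ centralizer (W : Set G) ≤ centralizer (Y : Set G) →
      M ⊓ centralizer (Cfsg.largestPReducedOf p K : Set G) ≤ centralizer (Y : Set G) from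
    hgoal _ Y rfl le_rfl hKY inf_le_right hx
  intro n
  induction n using Nat.strong_induction_on with
  | _ n ih =>
    intro W hcard hWY hKW hC
    have hYel := isElementaryAbelian_largestPReducedOf (p := p) M
    have hWel : Cfsg.IsElementaryAbelian p W :=
      ⟨⟨⟨fun a b => Subtype.ext (elab_comm hYel (hWY a.2) (hWY b.2))⟩⟩, fun a ha => hYel.2 a (hWY ha)⟩
    have hKC : K ≤ normalizer (centralizer (W : Set G) : Set G) := hKW.trans (normalizer_le_normalizer_centralizer W)
    by_cases hW : ∀ D : Subgroup G, D ≤ K → K ≤ normalizer (D : Set G) → PowMem p D (centralizer (W : Set G)) →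
        D ≤ centralizer (W : Set G)
    · refine le_trans (inf_le_inf_left _ (centralizer_le ?_)) hC
      exact le_largestPReducedOf ((hWY.trans (largestPReducedOf_le M)).trans hMK) hKW hWel hW
    · push Not at hW
      obtain ⟨D, hDK, hKD, hpm, hDC⟩ := hW
      set W' := W ⊓ centralizer (D : Set G) with hW'
      have hlt : W' < W := lt_of_le_of_ne inf_le_left fun e =>
        hDC (le_centralizer_iff.mp (inf_eq_left.mp e))
      -- `D ⊓ M` centralizes `W`
      have hDM : D ⊓ M ≤ centralizer (W : Set G) := by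
        have h1 : D ⊓ M ≤ centralizer (Y : Set G) := by
          refine le_centralizer_largestPReducedOf inf_le_right (fun m hm =>
            inf_normalizer_le_normalizer_inf ⟨hKD (hMK hm), le_normalizer hm⟩) (powMem_of_coprime fun y hy hco => ?_)
          obtain ⟨j, hj⟩ := hpm y hy.1
          obtain ⟨i, hi⟩ := exists_pow_eq_self_of_coprime (x := y) (n := p ^ j) (hco.symm.pow_left j)
          exact hC ⟨hy.2, hi ▸ pow_mem hj i⟩
        exact h1.trans (centralizer_le hWY)
      refine ih _ (hcard ▸ lt_of_le_of_ne (card_le_of_le hlt.le) fun e =>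
        hlt.ne (Subgroup.eq_of_le_of_card_ge hlt.le e.ge)) W' rfl (inf_le_left.trans hWY) ?_ ?_
      · exact fun k hk => inf_normalizer_le_normalizer_inf
          ⟨hKW hk, normalizer_le_normalizer_centralizer D (hKD hk)⟩
      · refine le_centralizer_largestPReducedOf inf_le_left (fun m hm => ?_) (powMem_of_coprime fun y hy hco => ?_)
        · refine inf_normalizer_le_normalizer_inf ⟨le_normalizer hm, normalizer_le_normalizer_centralizer _ ?_⟩
          exact inf_normalizer_le_normalizer_inf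
            ⟨hKW (hMK hm), normalizer_le_normalizer_centralizer D (hKD (hMK hm))⟩
        · refine hC ⟨hy.1, fix_step hWel (hDK.trans hKW) hpm (hKW (hMK hy.1)) hco (fun d hd => hDM ⟨?_, ?_⟩) hy.2⟩
          · exact D.mul_mem ((mem_normalizer_iff.mp (hKD (hMK hy.1)) d).mp hd) (D.inv_mem hd)
          · have h2 := (mem_normalizer_iff.mp (hn (hDK hd)) y⁻¹).mp (M.inv_mem (mem_inf.mp hy).1)
            simpa [mul_assoc] using M.mul_mem (mem_inf.mp hy).1 h2

/-- Let L be a subnormal subgroup of the finite group H, p a prime, Y_H and Y_L the largest p-reduced normal subgroups. Then Y_H ∩ L = Y_H ∩ Y_L and this subgroup is a p-reduced normal subgroup of L; C_L(Y_L) = C_L(Y_H) = C_L(Y_H ∩ L); and if O^p(H) ≤ L, then [Y_L, L] = 1 if and only if [Y_H, H] = 1. -/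
theorem result {H : Type*} [Group H] [Finite H] {p : ℕ} [Fact p.Prime] (L : Subgroup H) (hL : L.IsSubnormal) : Cfsg.largestPReduced p H ⊓ L = Cfsg.largestPReduced p H ⊓ (Cfsg.largestPReducedOf p L) ∧ Cfsg.IsPReducedNormal p ((Cfsg.largestPReduced p H ⊓ L).subgroupOf L) ∧ L ⊓ Subgroup.centralizer ((Cfsg.largestPReducedOf p L : Subgroup H) : Set H) = L ⊓ Subgroup.centralizer (Cfsg.largestPReduced p H : Set H) ∧ L ⊓ Subgroup.centralizer (Cfsg.largestPReduced p H : Set H) = L ⊓ Subgroup.centralizer ((Cfsg.largestPReduced p H ⊓ L : Subgroup H) : Set H) ∧ (Cfsg.pResidual p H ≤ L → (⁅(Cfsg.largestPReducedOf p L), L⁆ = ⊥ ↔ ⁅Cfsg.largestPReduced p H, (⊤ : Subgroup H)⁆ = ⊥)) := by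
  set Y := Cfsg.largestPReduced p H with hY
  obtain ⟨hYn, hYel, hYD⟩ := isPReducedNormal_iff.mp (isPReducedNormal_largestPReduced p H)
  haveI := hYn
  -- elements of order prime to `p` of `L` centralizing `Y ⊓ L` centralize `Y`
  have hp' : ∀ x ∈ L, (orderOf x).Coprime p → x ∈ centralizer ((Y ⊓ L : Subgroup H) : Set H) →
      x ∈ centralizer (Y : Set H) := by
    intro x hx hco hc
    have h1 : ⁅Y, zpowers x⁆ ≤ Y ⊓ L :=
      le_inf (commutator_le_left Y _) (Cfsg.Agent.S2804.comm_le Y hYel L hL x hx hco)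
    have h2 : ⁅⁅Y, zpowers x⁆, zpowers x⁆ = ⊥ :=
      commutator_eq_bot_iff_le_centralizer.mpr (h1.trans (le_centralizer_iff.mp (zpowers_le.mpr hc)))
    rw [Cfsg.Agent.S2804.cyclic_comm_eq Y hYel hco, commutator_comm] at h2
    exact commutator_eq_bot_iff_le_centralizer.mp h2 (mem_zpowers _)
  -- normal p-groups modulo `C(Y)` of `L`
  have hsub : ∀ D : Subgroup H, D ≤ L → L ≤ normalizer (D : Set H) → PowMem p D (centralizer (Y : Set H)) →
      D ≤ centralizer (Y : Set H) := by
    intro D hDL hLD hpm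
    let π := QuotientGroup.mk' (centralizer (Y : Set H))
    have hsn : D.IsSubnormal := IsSubnormal.step _ L hDL hL ((normal_subgroupOf_iff_le_normalizer hDL).mpr hLD)
    have hle := CfsgLib.Subnormal.le_pCore_of_isSubnormal
      (IsSubnormal.map (f := π) (QuotientGroup.mk'_surjective _) hsn) (powMem_iff_isPGroup_map.mp hpm)
    obtain ⟨_, _, _, hcore⟩ := isPReducedNormal_largestPReduced p H
    rw [hcore, le_bot_iff, Subgroup.map_eq_bot_iff, QuotientGroup.ker_mk'] at hle
    exact hle
  have hWn : L ≤ normalizer ((Y ⊓ L : Subgroup H) : Set H) := fun l hl =>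
    inf_normalizer_le_normalizer_inf ⟨by rw [normalizer_eq_top_iff.mpr hYn]; trivial, le_normalizer hl⟩
  have hWel : Cfsg.IsElementaryAbelian p (Y ⊓ L) :=
    ⟨⟨⟨fun a b => Subtype.ext (elab_comm hYel a.2.1 b.2.1)⟩⟩, fun a ha => hYel.2 a ha.1⟩
  have hWD : ∀ D : Subgroup H, D ≤ L → L ≤ normalizer (D : Set H) →
      PowMem p D (centralizer ((Y ⊓ L : Subgroup H) : Set H)) → D ≤ centralizer (Y : Set H) := by
    intro D hDL hLD hpm
    refine hsub D hDL hLD (powMem_of_coprime fun x hx hco => hp' x (hDL hx) hco ?_)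
    obtain ⟨j, hj⟩ := hpm x hx
    obtain ⟨i, hi⟩ := exists_pow_eq_self_of_coprime (x := x) (n := p ^ j) (hco.symm.pow_left j)
    exact hi ▸ pow_mem hj i
  have hWY : Y ⊓ L ≤ Cfsg.largestPReducedOf p L := le_largestPReducedOf inf_le_right hWn hWel
    fun D hDL hLD hpm => (hWD D hDL hLD hpm).trans (centralizer_le inf_le_left)
  have hCW : L ⊓ centralizer ((Y ⊓ L : Subgroup H) : Set H) ≤ centralizer (Y : Set H) :=
    hWD _ inf_le_left (fun l hl => inf_normalizer_le_normalizer_inf
      ⟨le_normalizer hl, normalizer_le_normalizer_centralizer _ (hWn hl)⟩)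
      fun x hx => ⟨0, by simpa using hx.2⟩
  have hkey : ∀ M : Subgroup H, M.IsSubnormal →
      M ⊓ centralizer (Y : Set H) ≤ centralizer (Cfsg.largestPReducedOf p M : Set H) := by
    intro M hM
    induction hM with
    | top =>
      rw [top_inf_eq]
      refine centralizer_le ?_
      rintro _ ⟨y, hy, rfl⟩
      refine le_largestPReduced ?_ (mem_map_of_mem _ hy)
      obtain ⟨hn1, he1, hD1⟩ := isPReducedNormal_iff.mp (isPReducedNormal_largestPReduced p ↥(⊤ : Subgroup H))
      refine isPReducedNormal_iff.mpr ⟨hn1.map _ (fun y => ⟨⟨y, mem_top _⟩, rfl⟩), isElementaryAbelian_map _ he1,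
        fun D hD hpm => le_centralizer_largestPReducedOf le_top (by rw [normalizer_eq_top_iff.mpr hD]) hpm⟩
    | step M K hle hsn hN ih =>
      exact (le_inf inf_le_left (le_trans (inf_le_inf_right _ hle) ih)).trans
        (inf_centralizer_le_of_normal hle ((normal_subgroupOf_iff_le_normalizer hle).mp hN))
  have h2 : L ⊓ centralizer (Y : Set H) = L ⊓ centralizer ((Y ⊓ L : Subgroup H) : Set H) :=
    le_antisymm (inf_le_inf_left _ (centralizer_le inf_le_left)) (le_inf inf_le_left hCW)
  have h1 : L ⊓ centralizer (Cfsg.largestPReducedOf p L : Set H) = L ⊓ centralizer (Y : Set H) :=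
    le_antisymm (h2 ▸ inf_le_inf_left _ (centralizer_le hWY)) (le_inf inf_le_left (hkey L hL))
  refine ⟨le_antisymm (le_inf inf_le_left hWY) (inf_le_inf_left _ (largestPReducedOf_le L)), ?_, h1, h2, fun hres => ?_⟩
  · refine isPReducedNormal_iff.mpr ⟨normal_subgroupOf_of_le_normalizer hWn, ⟨⟨⟨fun a b => ?_⟩⟩, ?_⟩, ?_⟩
    · exact Subtype.ext (Subtype.ext (elab_comm hYel (mem_subgroupOf.mp a.2).1 (mem_subgroupOf.mp b.2).1))
    · exact fun a ha => Subtype.ext (hYel.2 _ (mem_subgroupOf.mp ha).1)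
    · intro D hD hpm d hd
      have e : ((Y ⊓ L).subgroupOf L).map L.subtype = Y ⊓ L := map_subgroupOf_eq_of_le inf_le_right
      have hle : D.map L.subtype ≤ centralizer (Y : Set H) := hWD _ (map_subtype_le D) (le_normalizer_map_subtype L D)
        (by
          rintro _ ⟨a, ha, rfl⟩
          obtain ⟨j, hj⟩ := hpm a ha
          refine ⟨j, ?_⟩
          rw [← e, ← map_pow]
          exact (centralizer_map_subtype L _ _).mpr hj)
      refine (centralizer_map_subtype L _ d).mp ?_
      rw [e]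
      exact centralizer_le inf_le_left (hle (mem_map_of_mem _ hd))
  · rw [commutator_eq_bot_iff_le_centralizer, commutator_eq_bot_iff_le_centralizer, le_centralizer_iff,
      le_centralizer_iff (H := Y)]
    constructor
    · intro h
      have hLY : L ≤ centralizer (Y : Set H) := (le_inf le_rfl h).trans (h1.le.trans inf_le_right)
      refine hYD ⊤ inferInstance fun x _ => ?_
      obtain ⟨k, hk⟩ := exists_pow_mem_pResidual (p := p) x
      exact ⟨k, hLY (hres hk)⟩
    · intro h
      exact (le_inf le_rfl (le_top.trans h)).trans (h1.ge.trans inf_le_right)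

end Cfsg.Agent.S2825
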