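import Cfsg.Statements.S2826
import Cfsg.Agent.PReduced.Average
import Cfsg.Agent.PReduced.Basic
import Cfsg.Agent.Transfer.Residual
import Cfsg.Agent.PCore.AxB

set_option autoImplicit false
open Cfsg

namespace Cfsg.Agent.S2826

/-- Let H be a finite group of characteristic p, T a Sylow p-subgroup, and V a normal elementary abelian p-subgroup of H containing Ω₁(Z(T)). Then C_H(Ω₁(Z(T))) = C_H([V, O^p(H)] ∩ Ω₁(Z(T))), O^p(H) being generated by the elements of order prime to p. -/
theorem result {H : Type*} [Group H] [Finite H] {p : ℕ} [Fact p.Prime] (hH : Subgroup.centralizer (Cfsg.pCore p H : Set H) ≤ Cfsg.pCore p H) (T : Sylow p H) (V : Subgroup H) [V.Normal] (hV : Cfsg.IsElementaryAbelian p V) (hZV : (Cfsg.omegaOne p ((T : Subgroup H) ⊓ Subgroup.centralizer (((T : Subgroup H) : Subgroup H) : Set H))) ≤ V) : Subgroup.centralizer ((Cfsg.omegaOne p ((T : Subgroup H) ⊓ Subgroup.centralizer (((T : Subgroup H) : Subgroup H) : Set H))) : Set H) = Subgroup.centralizer (((⁅V, Cfsg.pResidual p H⁆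 ⊓ (Cfsg.omegaOne p ((T : Subgroup H) ⊓ Subgroup.centralizer (((T : Subgroup H) : Subgroup H) : Set H)))) : Subgroup H) : Set H) := by
  refine le_antisymm (Subgroup.centralizer_le inf_le_right) ?_
  intro x hx
  have hR : (Cfsg.pResidual p H).Normal := CfsgLib.Transfer.pResidual_normal
  haveI := hV.1
  obtain ⟨P, hP⟩ := CfsgLib.PReduced.exists_sylow_inf T (Cfsg.pResidual p H)
  have hidx : ((T : Subgroup H).relIndex (Cfsg.pResidual p H)).Coprime p := by
    rw [Nat.coprime_comm, (Fact.out : p.Prime).coprime_iff_not_dvd, Subgroup.relIndex,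
      ← Subgroup.inf_subgroupOf_right, ← hP]
    exact P.not_dvd_index
  have hVT : V ≤ (T : Subgroup H) :=
    (CfsgLib.PReduced.isPGroup_of_isElementaryAbelian hV).le_sylow_of_normal T
  rw [Subgroup.mem_centralizer_iff] at hx ⊢
  refine fun z hz => Subgroup.closure_induction (p := fun z _ => z * x = x * z) ?_ (by simp) ?_ ?_ hz
  · rintro y hy
    have hyV : y ∈ V := hZV (Subgroup.subset_closure hy)
    obtain ⟨⟨hyT, hyc⟩, -⟩ := hy
    have hfix : ∀ t ∈ (T : Subgroup H), t * y * t⁻¹ = y := fun t ht => by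
      rw [Subgroup.mem_centralizer_iff.mp hyc t ht, mul_inv_cancel_right]
    obtain ⟨c, hc, d, hd, rfl, hcR, hcg⟩ := CfsgLib.PReduced.average_split V (Cfsg.pResidual p H) T hV.2
      (by rw [Subgroup.normalizer_eq_top]; exact le_top) hidx hyV (fun t ht => hfix t ht.2)
    have hct : ∀ t ∈ (T : Subgroup H), t * c = c * t := fun t ht => by
      refine mul_inv_eq_iff_eq_mul.mp (hcg t ?_ (hfix t ht))
      refine ⟨⟨by rw [Subgroup.normalizer_eq_top]; exact Subgroup.mem_top t, ?_⟩,
        by rw [Subgroup.normalizer_eq_top]; exact Subgroup.mem_top t⟩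
      exact Subgroup.inf_normalizer_le_normalizer_inf
        ⟨by rw [Subgroup.normalizer_eq_top]; exact Subgroup.mem_top t, Subgroup.le_normalizer ht⟩
    have hcx : c * x = x * c := by
      have : Subgroup.zpowers c ≤ Subgroup.centralizer ((⊤ : Subgroup H) : Set H) := by
        rw [← CfsgLib.Transfer.pResidual_sup_sylow T]
        refine Subgroup.le_centralizer_iff.mp (sup_le (Subgroup.le_centralizer_iff.mp (Subgroup.zpowers_le.mpr hcR))
          (Subgroup.le_centralizer_iff.mp (Subgroup.zpowers_le.mpr ?_)))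
        exact Subgroup.mem_centralizer_iff.mpr hct
      exact (Subgroup.mem_centralizer_iff.mp (this (Subgroup.mem_zpowers c)) x (Subgroup.mem_top x)).symm
    have hdV : d ∈ V := by simpa using mul_mem (inv_mem hc) hyV
    have hdx : d * x = x * d := by
      refine hx d ⟨hd, Subgroup.subset_closure ⟨⟨hVT hdV, ?_⟩, hV.2 d hdV⟩⟩
      have h1 : c * d ∈ Subgroup.centralizer ((T : Subgroup H) : Set H) := hyc
      simpa using mul_mem (inv_mem (Subgroup.mem_centralizer_iff.mpr hct)) h1
    rw [mul_assoc, hdx, ← mul_assoc, hcx, mul_assoc]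
  · intro a b _ _ ha hb
    rw [mul_assoc, hb, ← mul_assoc, ha, mul_assoc]
  · intro a _ ha
    rw [inv_mul_eq_iff_eq_mul, ← mul_assoc, ha, mul_inv_cancel_right]

end Cfsg.Agent.S2826
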