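import Cfsg.Statements.S2827
import Cfsg.Agent.PReduced.PIrreducible
import Cfsg.Agent.CoprimeAction.Basic

set_option autoImplicit false
open Cfsg

namespace Cfsg.Agent.S2827

/-- Let H be a finite p-irreducible group (not p-closed, and O^p(H) lies in every normal subgroup that is not p-closed) and T a Sylow p-subgroup. Then H is generated by the conjugates of T and H = H'·T; O^p(H) ≤ H'; and for every normal subgroup Y of T not contained in O_p(H), O^p(H) = [O^p(H), Y] and O^p(H) is contained in the normal closure of Y in H. -/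
theorem result {H : Type*} [Group H] [Finite H] {p : ℕ} [Fact p.Prime] (hH : Cfsg.IsPIrreducible p H) (T : Sylow p H) : Subgroup.normalClosure ((T : Subgroup H) : Set H) = ⊤ ∧ commutator H ⊔ (T : Subgroup H) = ⊤ ∧ Cfsg.pResidual p H ≤ commutator H ∧ ∀ Y : Subgroup H, Y ≤ (T : Subgroup H) → (T : Subgroup H) ≤ Subgroup.normalizer (Y : Set H) → ¬ Y ≤ Cfsg.pCore p H → ⁅Cfsg.pResidual p H, Y⁆ = Cfsg.pResidual p H ∧ Cfsg.pResidual p H ≤ Subgroup.normalClosure (Y : Set H) := by
  open Subgroup CfsgLib.PReduced in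
  obtain ⟨hncl, hres⟩ := hH
  haveI hKn := CfsgLib.Transfer.pResidual_normal (p := p) (G := H)
  set K := Cfsg.pResidual p H with hK
  have hKT : K ⊔ (T : Subgroup H) = ⊤ := CfsgLib.Transfer.pResidual_sup_sylow T
  have h1 : Subgroup.normalClosure ((T : Subgroup H) : Set H) = ⊤ := by
    set N := Subgroup.normalClosure ((T : Subgroup H) : Set H) with hN
    have hTN : (T : Subgroup H) ≤ N := Subgroup.subset_normalClosure
    refine top_le_iff.mp (hKT.ge.trans (sup_le (hres N inferInstance fun hcl => hncl ?_) hTN))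
    rw [CfsgLib.PReduced.isPClosed_normal_iff] at hcl
    intro P
    obtain ⟨g, rfl⟩ := MulAction.exists_smul_eq H T P
    have he : (T : Subgroup H) = Cfsg.pCore p H := le_antisymm
      (fun x hx => hcl x (hTN hx) (CfsgLib.PReduced.exists_pow_eq_one_of_mem T.isPGroup' hx))
      (CfsgLib.PReduced.pCore_le_sylow T)
    haveI hTn : (T : Subgroup H).Normal := by rw [he]; infer_instance
    rw [Sylow.smul_eq_of_normal (h := hTn)]
    exact hTn
  have h2 : commutator H ⊔ (T : Subgroup H) = ⊤ := by
    haveI : (commutator H ⊔ (T : Subgroup H)).Normal := ⟨fun x hx g => by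
      have h := mul_mem (Subgroup.mem_sup_left (T := (T : Subgroup H))
        (Subgroup.commutator_mem_commutator (Subgroup.mem_top g) (Subgroup.mem_top x) : _ ∈ commutator H)) hx
      simpa [commutatorElement_def, commutator_def] using h⟩
    exact top_le_iff.mp (h1.ge.trans (Subgroup.normalClosure_le_normal (le_sup_right (a := commutator H))))
  refine ⟨h1, h2, ?_, fun Y hYT hTY hY => ?_⟩
  · refine CfsgLib.PReduced.pResidual_le_of_forall_pow_mem _ fun x => ?_
    obtain ⟨c, hc, t, ht, rfl⟩ := Subgroup.mem_sup_of_normal_left.mp (h2.ge (Subgroup.mem_top x))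
    obtain ⟨k, hk⟩ := CfsgLib.PReduced.exists_pow_eq_one_of_mem T.isPGroup' ht
    refine ⟨k, (QuotientGroup.eq_one_iff (N := commutator H) _).mp ?_⟩
    rw [QuotientGroup.mk_pow, QuotientGroup.mk_mul, (QuotientGroup.eq_one_iff c).mpr hc, one_mul,
      ← QuotientGroup.mk_pow, hk, QuotientGroup.mk_one]
  set C := ⁅K, Y⁆ with hC
  have hYK : Y ≤ Subgroup.normalizer (K : Set H) := by rw [Subgroup.normalizer_eq_top]; exact le_top
  haveI hCn : C.Normal := by
    refine Subgroup.normalizer_eq_top_iff.mp (top_le_iff.mp (hKT.ge.trans (sup_le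
      CfsgLib.CoprimeAction.self_le_normalizer_commutator ?_)))
    intro t ht
    rw [hC, Subgroup.mem_normalizer_iff_map_conj_eq, Subgroup.map_commutator,
      Subgroup.mem_normalizer_iff_map_conj_eq.mp (hTY ht),
      Subgroup.mem_normalizer_iff_map_conj_eq.mp (show t ∈ Subgroup.normalizer (K : Set H) by
        rw [Subgroup.normalizer_eq_top]; exact Subgroup.mem_top t)]
  set M := C ⊔ Y with hM
  haveI hMn : M.Normal := by
    refine Subgroup.normalizer_eq_top_iff.mp (top_le_iff.mp (hKT.ge.trans (sup_le (fun k hk => ?_) (fun t ht => ?_))))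
    · have key : ∀ k ∈ K, ∀ y ∈ M, k * y * k⁻¹ ∈ M := by
        intro k hk y hy
        obtain ⟨c, hc, y, hy', rfl⟩ := Subgroup.mem_sup_of_normal_left.mp hy
        have h3 := mul_mem (Subgroup.mem_sup_left (T := Y) (hCn.conj_mem c hc k))
          (mul_mem (Subgroup.mem_sup_left (T := Y) (Subgroup.commutator_mem_commutator hk hy'))
            (Subgroup.mem_sup_right (S := C) hy'))
        simpa [commutatorElement_def, mul_assoc] using h3
      rw [Subgroup.mem_normalizer_iff]
      exact fun y => ⟨key k hk y, fun h => by simpa [mul_assoc] using key k⁻¹ (inv_mem hk) _ h⟩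
    · exact CfsgLib.PReduced.normalizer_inf_le_normalizer_sup _ _ ⟨(show t ∈ Subgroup.normalizer (C : Set H) by
        rw [Subgroup.normalizer_eq_top]
        exact Subgroup.mem_top t), hTY ht⟩
  have hKM : K ≤ M := hres M inferInstance fun hcl => hY fun y hy =>
    (CfsgLib.PReduced.isPClosed_normal_iff M).mp hcl y (Subgroup.mem_sup_right hy)
      (CfsgLib.PReduced.exists_pow_eq_one_of_mem T.isPGroup' (hYT hy))
  refine ⟨le_antisymm (CfsgLib.CoprimeAction.commutator_le_of_normalizer hYK) ?_, hKM.trans (sup_le ?_ Subgroup.subset_normalClosure)⟩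
  · refine CfsgLib.PReduced.pResidual_le_trans hKM fun x hx => ?_
    obtain ⟨c, hc, y, hy, rfl⟩ := Subgroup.mem_sup_of_normal_left.mp hx
    obtain ⟨k, hk⟩ := CfsgLib.PReduced.exists_pow_eq_one_of_mem T.isPGroup' (hYT hy)
    refine ⟨k, (QuotientGroup.eq_one_iff (N := C) _).mp ?_⟩
    rw [QuotientGroup.mk_pow, QuotientGroup.mk_mul, (QuotientGroup.eq_one_iff c).mpr hc, one_mul,
      ← QuotientGroup.mk_pow, hk, QuotientGroup.mk_one]
  · refine Subgroup.commutator_le.mpr fun k _ y hy => ?_
    rw [commutatorElement_def]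
    exact mul_mem (Subgroup.normalClosure_normal.conj_mem y (Subgroup.subset_normalClosure hy) k)
      (inv_mem (Subgroup.subset_normalClosure hy))

end Cfsg.Agent.S2827
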