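import Cfsg.Statements.S2828
import Cfsg.Agent.PReduced.PIrreducible

set_option autoImplicit false
open Cfsg

namespace Cfsg.Agent.S2828

open Subgroup CfsgLib.PReduced in
/-- Normal subgroups containing the p-residual modulo `D`. -/
theorem residual_iff {H : Type*} [Group H] [Finite H] {p : ℕ} [Fact p.Prime] (D : Subgroup H) [D.Normal]
    (hD : IsPGroup p D) (N : Subgroup H) [N.Normal] :
    Cfsg.pResidual p (H ⧸ D) ≤ N.map (QuotientGroup.mk' D) ↔ Cfsg.pResidual p H ≤ N := by
  rw [← CfsgLib.Transfer.map_pResidual_eq (QuotientGroup.mk' D) (QuotientGroup.mk'_surjective D)]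
  refine ⟨fun h => ?_, fun h => map_mono h⟩
  refine pResidual_le_trans (M := N ⊔ D) ?_ fun x hx => ?_
  · have h1 := map_le_iff_le_comap.mp h
    rwa [comap_map_eq, QuotientGroup.ker_mk'] at h1
  · obtain ⟨n, hn, d, hd, rfl⟩ := mem_sup_of_normal_left.mp hx
    obtain ⟨k, hk⟩ := exists_pow_eq_one_of_mem hD hd
    refine ⟨k, (QuotientGroup.eq_one_iff (N := N) _).mp ?_⟩
    rw [QuotientGroup.mk_pow, QuotientGroup.mk_mul, (QuotientGroup.eq_one_iff n).mpr hn, one_mul,
      ← QuotientGroup.mk_pow, hk, QuotientGroup.mk_one]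

open Subgroup CfsgLib.PReduced in
/-- Both irreducibility properties modulo `D`. -/
theorem aux {H : Type*} [Group H] [Finite H] {p : ℕ} [Fact p.Prime] (D : Subgroup H) [D.Normal]
    (hD : IsPGroup p D) : (Cfsg.IsPIrreducible p H ↔ Cfsg.IsPIrreducible p (H ⧸ D)) ∧
      (Cfsg.IsStronglyPIrreducible p H ↔ Cfsg.IsStronglyPIrreducible p (H ⧸ D)) := by
  have hsurj := QuotientGroup.mk'_surjective D
  have hnm : ∀ N : Subgroup H, N.Normal → (N.map (QuotientGroup.mk' D)).Normal := fun N hN => hN.map _ hsurj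
  have hcl : Cfsg.IsPClosed p (H ⧸ D) ↔ Cfsg.IsPClosed p H := by
    rw [isPClosed_iff, isPClosed_iff]
    constructor
    · intro h x ⟨k, hk⟩
      exact (mem_pCore_quotient_iff D hD x).mp (h _ ⟨k, by rw [← map_pow, hk, map_one]⟩)
    · intro h q hq
      obtain ⟨x, rfl⟩ := hsurj q
      obtain ⟨a, -, hak, hax⟩ := exists_pElement_lift_mem (N := ⊤) (mem_top x) hq
      rw [← hax]
      exact (mem_pCore_quotient_iff D hD a).mpr (h a hak)
  have hcore : (Cfsg.pCore p (H ⧸ D)).comap (QuotientGroup.mk' D) = Cfsg.pCore p H := by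
    ext x
    exact mem_pCore_quotient_iff D hD x
  have hcm : ∀ N : Subgroup H, ⁅N.map (QuotientGroup.mk' D), (⊤ : Subgroup (H ⧸ D))⁆ ≤ Cfsg.pCore p (H ⧸ D) ↔
      ⁅N, (⊤ : Subgroup H)⁆ ≤ Cfsg.pCore p H := by
    intro N
    rw [← hcore, ← map_le_iff_le_comap, Subgroup.map_commutator, map_top_of_surjective _ hsurj]
  have hN : ∀ N : Subgroup (H ⧸ D), N = (N.comap (QuotientGroup.mk' D)).map (QuotientGroup.mk' D) :=
    fun N => (map_comap_eq_self_of_surjective hsurj N).symm
  constructor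
  · constructor
    · rintro ⟨h1, h2⟩
      refine ⟨fun h => h1 (hcl.mp h), fun N hNn hnc => ?_⟩
      haveI := hNn
      haveI := hnm _ (inferInstance : (N.comap (QuotientGroup.mk' D)).Normal)
      rw [hN N] at hnc ⊢
      exact (residual_iff D hD _).mpr (h2 _ inferInstance fun h => hnc ((isPClosed_map_iff D hD _).mpr h))
    · rintro ⟨h1, h2⟩
      refine ⟨fun h => h1 (hcl.mpr h), fun N hNn hnc => ?_⟩
      haveI := hNn
      haveI := hnm N hNn
      exact (residual_iff D hD N).mp (h2 _ inferInstance fun h => hnc ((isPClosed_map_iff D hD N).mp h))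
  · constructor
    · rintro ⟨h1, h2⟩
      refine ⟨fun h => h1 (hcl.mp h), fun N hNn hnc => ?_⟩
      haveI := hNn
      rw [hN N] at hnc ⊢
      exact (residual_iff D hD _).mpr (h2 _ inferInstance fun h => hnc ((hcm _).mpr h))
    · rintro ⟨h1, h2⟩
      refine ⟨fun h => h1 (hcl.mpr h), fun N hNn hnc => ?_⟩
      haveI := hNn
      exact (residual_iff D hD N).mp (h2 _ (hnm N hNn) fun h => hnc ((hcm N).mp h))

/-- Let H be a finite group, p a prime and D a normal p-subgroup of H. Then H is p-irreducible if and only if H/D is p-irreducible, and H is strongly p-irreducible if and only if H/D is strongly p-irreducible. -/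
theorem result {H : Type*} [Group H] [Finite H] {p : ℕ} [Fact p.Prime] (D : Subgroup H) [D.Normal] (hD : IsPGroup p ↥D) : (Cfsg.IsPIrreducible p H ↔ Cfsg.IsPIrreducible p (H ⧸ D)) ∧ (Cfsg.IsStronglyPIrreducible p H ↔ Cfsg.IsStronglyPIrreducible p (H ⧸ D)) := by
  exact aux D hD

end Cfsg.Agent.S2828
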