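import Cfsg.Statements.S2829
import Cfsg.Agent.PReduced.PIrreducible

set_option autoImplicit false
open Cfsg

namespace Cfsg.Agent.S2829

/-- Every strongly p-irreducible finite group is p-irreducible. -/
theorem result {H : Type*} [Group H] [Finite H] {p : ℕ} [Fact p.Prime] (hH : Cfsg.IsStronglyPIrreducible p H) : Cfsg.IsPIrreducible p H := by
  open Subgroup CfsgLib.PReduced in
  refine ⟨hH.1, fun N hN hnc => hH.2 N hN fun hle => hnc ?_⟩
  haveI := hN
  intro P
  have hO : (Cfsg.pCore p H).subgroupOf N ≤ (P : Subgroup N) := by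
    have h1 : IsPGroup p ↥((Cfsg.pCore p H).subgroupOf N) :=
      (CfsgLib.PReduced.isPGroup_pCore p H).comap_of_injective N.subtype N.subtype_injective
    exact h1.le_sylow_of_normal P
  refine ⟨fun x hx g => ?_⟩
  have h2 : g * x * g⁻¹ * x⁻¹ ∈ (P : Subgroup N) :=
    hO (hle (Subgroup.commutator_mem_commutator g.2 (Subgroup.mem_top (x : H))))
  simpa using mul_mem h2 hx

end Cfsg.Agent.S2829
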