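import Cfsg.Statements.S2830
import Cfsg.Agent.PReduced.PIrreducible

set_option autoImplicit false
open Cfsg

namespace Cfsg.Agent.S2830

/-- Let H act by conjugation on the elementary abelian p-subgroup V of a finite group G (H ≤ N(V)), with H p-irreducible and O^p(H) not centralizing V. Then C_H(V) is p-closed and C_T(V) ≤ O_p(H) for every p-subgroup T of H. If in addition O_p(H) centralizes V, then C_T(V) = T ∩ O_p(H) for every p-subgroup T of H, and V is p-reduced for H: O_p(H/C_H(V)) = 1. -/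
theorem result {G : Type*} [Group G] [Finite G] {p : ℕ} [Fact p.Prime] (V H : Subgroup G) (hV : Cfsg.IsElementaryAbelian p V) (hHV : H ≤ Subgroup.normalizer (V : Set G)) (hH : Cfsg.IsPIrreducible p ↥H) (hnc : ¬ (Cfsg.pResidual p ↥H).map H.subtype ≤ Subgroup.centralizer (V : Set G)) [hn : ((Subgroup.centralizer (V : Set G)).subgroupOf H).Normal] : Cfsg.IsPClosed p ↥(H ⊓ Subgroup.centralizer (V : Set G)) ∧ (∀ T : Subgroup G, T ≤ H → IsPGroup p ↥T → T ⊓ Subgroup.centralizer (V : Set G) ≤ Cfsg.pCoreOf p H) ∧ (Cfsg.pCoreOf p H ≤ Subgroup.centralizer (V : Set G) → (∀ T : Subgroup G, T ≤ H → IsPGroup p ↥T → T ⊓ Subgroup.centralizer (V : Set G) = T ⊓ Cfsg.pCoreOf p H) ∧ Cfsg.pCore p (↥H ⧸ (Subgroup.centralizer (V : Set G)).subgroupOf H) = ⊥) := by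
  open Subgroup CfsgLib.PReduced in
  set C := (Subgroup.centralizer (V : Set G)).subgroupOf H with hC
  set K := Cfsg.pResidual p ↥H with hK
  have hKC : ¬ K ≤ C := fun h => hnc (Subgroup.map_le_iff_le_comap.mpr h)
  have hCcl : Cfsg.IsPClosed p ↥C := by
    by_contra h
    exact hKC (hH.2 C hn h)
  have hcl' := (CfsgLib.PReduced.isPClosed_normal_iff C).mp hCcl
  have hT : ∀ T : Subgroup G, T ≤ H → IsPGroup p ↥T → T ⊓ Subgroup.centralizer (V : Set G) ≤ Cfsg.pCoreOf p H := by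
    intro T hTH hT x hx
    obtain ⟨k, hk⟩ := CfsgLib.PReduced.exists_pow_eq_one_of_mem hT hx.1
    exact ⟨⟨x, hTH hx.1⟩, hcl' _ hx.2 ⟨k, Subtype.ext hk⟩, rfl⟩
  refine ⟨?_, hT, fun hO => ⟨fun T hTH hTp => le_antisymm (le_inf inf_le_left (hT T hTH hTp))
    (le_inf inf_le_left (inf_le_right.trans hO)), ?_⟩⟩
  · rw [CfsgLib.PReduced.isPClosed_iff]
    rintro x ⟨k, hk⟩
    have h1 : ((Cfsg.pCoreOf p H).subgroupOf (H ⊓ Subgroup.centralizer (V : Set G))) ≤
        Cfsg.pCore p ↥(H ⊓ Subgroup.centralizer (V : Set G)) :=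
      CfsgLib.PReduced.le_pCore (Subgroup.normal_subgroupOf_of_le_normalizer
        (inf_le_left.trans (CfsgLib.PReduced.le_normalizer_pCoreOf H)))
        ((CfsgLib.PReduced.isPGroup_pCoreOf H).comap_of_injective _ (Subgroup.subtype_injective _))
    refine h1 ?_
    refine ⟨⟨(x : G), x.2.1⟩, hcl' _ x.2.2 ⟨k, Subtype.ext (congrArg Subtype.val hk :)⟩, rfl⟩
  · rw [eq_bot_iff]
    intro q hq
    obtain ⟨x, rfl⟩ := QuotientGroup.mk'_surjective C q
    set N := (Cfsg.pCore p (↥H ⧸ C)).comap (QuotientGroup.mk' C) with hN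
    have hpow : ∀ y ∈ N, ∃ k, y ^ p ^ k ∈ C := fun y hy => by
      obtain ⟨k, hk⟩ := CfsgLib.PReduced.exists_pow_eq_one_of_mem (CfsgLib.PReduced.isPGroup_pCore p (↥H ⧸ C)) hy
      rw [← map_pow] at hk
      exact ⟨k, (QuotientGroup.eq_one_iff _).mp hk⟩
    have hNcl : Cfsg.IsPClosed p ↥N := by
      by_contra h
      exact hKC (CfsgLib.PReduced.pResidual_le_trans (hH.2 N inferInstance h) hpow)
    obtain ⟨a, b, hab, -, ⟨k, hk⟩, hb, ha, hbz⟩ := CfsgLib.Transfer.exists_pPart_mul (p := p) x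
    have hxN : x ∈ N := hq
    have hbN : b ∈ N := (Subgroup.zpowers_le.mpr hxN) hbz
    have haN : a ∈ N := (Subgroup.zpowers_le.mpr hxN) ha
    have haC : a ∈ C := hO ⟨a, (CfsgLib.PReduced.isPClosed_normal_iff N).mp hNcl a haN
      ⟨k, hk ▸ pow_orderOf_eq_one a⟩, rfl⟩
    have hbC : b ∈ C := by
      obtain ⟨j, hj⟩ := hpow b hbN
      obtain ⟨i, hi⟩ := exists_pow_eq_self_of_coprime (x := b) (n := p ^ j) (hb.symm.pow_left j)
      exact hi ▸ pow_mem hj i
    rw [Subgroup.mem_bot, QuotientGroup.mk'_apply, QuotientGroup.eq_one_iff, hab]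
    exact mul_mem haC hbC

end Cfsg.Agent.S2830
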