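import Cfsg.Statements.S2831
import Cfsg.Agent.PReduced.PIrreducible

set_option autoImplicit false
open Cfsg

namespace Cfsg.Agent.S2831

/-- Let H be a finite group with Sylow p-subgroup T such that H is T-minimal (H is generated by the conjugates of T and T lies in exactly one maximal subgroup of H). Then H is p-irreducible: H is not p-closed and O^p(H) lies in every normal subgroup of H that is not p-closed. -/
theorem result {H : Type*} [Group H] [Finite H] {p : ℕ} [Fact p.Prime] (T : Sylow p H) (hmin : Cfsg.IsMinimalOver (T : Subgroup H)) : Cfsg.IsPIrreducible p H := by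
  open Subgroup CfsgLib.PReduced in
  obtain ⟨hgen, M, ⟨hM, hTM⟩, hu⟩ := hmin
  have hin : ∀ X : Subgroup H, X ≠ ⊤ → (T : Subgroup H) ≤ X → X ≤ M := fun X hX hTX => by
    obtain ⟨A, hA, hXA⟩ := (eq_top_or_exists_le_coatom X).resolve_left hX
    exact hu A ⟨hA, hTX.trans hXA⟩ ▸ hXA
  refine ⟨fun hcl => hM.1 (top_le_iff.mp ?_), fun N hN hnc => ?_⟩
  · haveI := hcl T
    exact hgen.ge.trans ((Subgroup.normalClosure_le_normal le_rfl).trans hTM)
  haveI := hN
  obtain ⟨P, hP⟩ := CfsgLib.PReduced.exists_sylow_inf T N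
  have hfr := Sylow.normalizer_sup_eq_top P
  rw [hP, Subgroup.map_subgroupOf_eq_of_le inf_le_right] at hfr
  set NP := Subgroup.normalizer (((T : Subgroup H) ⊓ N : Subgroup H) : Set H) with hNP
  have hTNP : (T : Subgroup H) ≤ NP := fun t ht => Subgroup.inf_normalizer_le_normalizer_inf
    ⟨Subgroup.le_normalizer ht, by rw [Subgroup.normalizer_eq_top]; exact Subgroup.mem_top t⟩
  have hNPne : NP ≠ ⊤ := by
    intro e
    refine hnc ((CfsgLib.PReduced.isPClosed_normal_iff N).mpr fun x hx hk => ?_)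
    haveI : ((T : Subgroup H) ⊓ N).Normal := Subgroup.normalizer_eq_top_iff.mp e
    obtain ⟨Q, hQ⟩ := ((CfsgLib.PReduced.isPGroup_zpowers_of_pow_eq_one hk).comap_of_injective N.subtype
      N.subtype_injective).exists_le_sylow
    haveI hPn : (P : Subgroup N).Normal := by rw [hP]; infer_instance
    obtain ⟨g, rfl⟩ := MulAction.exists_smul_eq N P Q
    rw [Sylow.smul_eq_of_normal (h := hPn)] at hQ
    have h1 := hQ (show (⟨x, hx⟩ : N) ∈ (Subgroup.zpowers x).comap N.subtype from Subgroup.mem_zpowers x)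
    rw [hP] at h1
    exact CfsgLib.PReduced.le_pCore inferInstance (T.isPGroup'.to_le inf_le_left) h1
  have hNT : N ⊔ (T : Subgroup H) = ⊤ := by
    by_contra hne
    exact hM.1 (top_le_iff.mp (hfr.ge.trans (sup_le (hin NP hNPne hTNP) (le_sup_left.trans (hin _ hne le_sup_right)))))
  refine CfsgLib.PReduced.pResidual_le_of_forall_pow_mem N fun x => ?_
  obtain ⟨c, hc, t, ht, rfl⟩ := Subgroup.mem_sup_of_normal_left.mp (hNT.ge (Subgroup.mem_top x))
  obtain ⟨k, hk⟩ := CfsgLib.PReduced.exists_pow_eq_one_of_mem T.isPGroup' ht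
  refine ⟨k, (QuotientGroup.eq_one_iff (N := N) _).mp ?_⟩
  rw [QuotientGroup.mk_pow, QuotientGroup.mk_mul, (QuotientGroup.eq_one_iff c).mpr hc, one_mul,
    ← QuotientGroup.mk_pow, hk, QuotientGroup.mk_one]

end Cfsg.Agent.S2831
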