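import Cfsg.Statements.S2832
import Cfsg.Agent.PReduced.PIrreducible

set_option autoImplicit false
open Cfsg

namespace Cfsg.Agent.S2832

/-- Let H be a finite group with Sylow p-subgroup T such that H is T-minimal (generated by the conjugates of T, with T in exactly one maximal subgroup), and let N be a normal subgroup of H. Then either H/N is a p-group or H/N is minimal over the image of T in the same sense. -/
theorem result {H : Type*} [Group H] [Finite H] {p : ℕ} [Fact p.Prime] (T : Sylow p H) (hmin : Cfsg.IsMinimalOver (T : Subgroup H)) (N : Subgroup H) [N.Normal] : IsPGroup p (H ⧸ N) ∨ Cfsg.IsMinimalOver ((T : Subgroup H).map (QuotientGroup.mk' N)) := by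
  open Subgroup CfsgLib.PReduced in
  obtain ⟨hgen, M, ⟨hM, hTM⟩, hu⟩ := hmin
  have hsurj := QuotientGroup.mk'_surjective N
  set π := QuotientGroup.mk' N with hπ
  by_cases htop : (T : Subgroup H).map π = ⊤
  · left
    have h1 := T.isPGroup'.map π
    rw [htop] at h1
    exact h1.of_equiv Subgroup.topEquiv
  right
  refine ⟨?_, ?_⟩
  · refine top_le_iff.mp ?_
    haveI : (Subgroup.normalClosure (((T : Subgroup H).map π : Subgroup (H ⧸ N)) : Set (H ⧸ N))).Normal := inferInstance
    have h1 : Subgroup.normalClosure ((T : Subgroup H) : Set H) ≤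
        (Subgroup.normalClosure (((T : Subgroup H).map π : Subgroup (H ⧸ N)) : Set (H ⧸ N))).comap π :=
      Subgroup.normalClosure_le_normal fun t ht => Subgroup.subset_normalClosure ⟨t, ht, rfl⟩
    rw [hgen, ← Subgroup.map_le_iff_le_comap, Subgroup.map_top_of_surjective π hsurj] at h1
    exact h1
  · obtain ⟨A, hA, hTA⟩ := (eq_top_or_exists_le_coatom _).resolve_left htop
    have hco : ∀ B : Subgroup (H ⧸ N), IsCoatom B → (T : Subgroup H).map π ≤ B → B.comap π = M := by
      intro B hB hTB
      refine hu _ ⟨⟨fun e => hB.1 (Subgroup.comap_injective hsurj (e.trans (Subgroup.comap_top π).symm)), ?_⟩,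
        Subgroup.map_le_iff_le_comap.mp hTB⟩
      intro X hX
      have hker : N ≤ X := (QuotientGroup.ker_mk' N).ge.trans ((MonoidHom.ker_le_comap π B).trans hX.le)
      have h2 : B < X.map π := by
        refine lt_of_le_of_ne ?_ fun e => hX.ne ?_
        · rw [← Subgroup.map_comap_eq_self_of_surjective hsurj B]
          exact Subgroup.map_mono hX.le
        · rw [e, Subgroup.comap_map_eq, QuotientGroup.ker_mk', sup_eq_left.mpr hker]
      have h3 := congrArg (Subgroup.comap π) (hB.2 _ h2)
      rwa [Subgroup.comap_map_eq, QuotientGroup.ker_mk', sup_eq_left.mpr hker, Subgroup.comap_top] at h3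
    exact ⟨A, ⟨hA, hTA⟩, fun B hB => Subgroup.comap_injective hsurj
      ((hco B hB.1 hB.2).trans (hco A hA hTA).symm)⟩

end Cfsg.Agent.S2832
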