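import Cfsg.Statements.S2833
import Mathlib.Tactic.Group

set_option autoImplicit false
open Cfsg

namespace Cfsg.Agent.S2833

/-- `[V, B] ≤ V` when `B` normalizes `V`. -/
theorem comm_le {G : Type*} [Group G] (V B : Subgroup G) (hB : B ≤ Subgroup.normalizer (V : Set G)) :
    ⁅V, B⁆ ≤ V :=
  Subgroup.commutator_le.mpr fun w hw x hx => by
    have h : w * (x * w⁻¹ * x⁻¹) ∈ V :=
      mul_mem hw ((Subgroup.mem_normalizer_iff.mp (hB hx) _).mp (inv_mem hw))
    simpa [commutatorElement_def, mul_assoc] using h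

/-- `V` normalizes `[V, B]`. -/
theorem conj_comm_mem {G : Type*} [Group G] (V B : Subgroup G) {v c : G} (hv : v ∈ V) (hc : c ∈ ⁅V, B⁆) :
    v * c * v⁻¹ ∈ ⁅V, B⁆ := by
  have hle : ⁅V, B⁆ ≤ (⁅V, B⁆).comap (MulAut.conj v).toMonoidHom := Subgroup.commutator_le.mpr fun a ha b hb => by
    have h1 : (v * a) * b * (v * a)⁻¹ * b⁻¹ * (v * b * v⁻¹ * b⁻¹)⁻¹ ∈ ⁅V, B⁆ :=
      mul_mem (Subgroup.commutator_mem_commutator (mul_mem hv ha) hb)
        (inv_mem (Subgroup.commutator_mem_commutator hv hb))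
    simpa [commutatorElement_def, MulAut.conj_apply, mul_assoc] using h1
  exact hle hc

/-- `[V, A ⊔ B] = [V, A] [V, B]` when `A` and `B` normalize `V`. -/
theorem comm_sup {G : Type*} [Group G] (V A B : Subgroup G) (hA : A ≤ Subgroup.normalizer (V : Set G))
    (hB : B ≤ Subgroup.normalizer (V : Set G)) : ⁅V, A ⊔ B⁆ = ⁅V, A⁆ ⊔ ⁅V, B⁆ := by
  refine le_antisymm ?_ (sup_le (Subgroup.commutator_mono le_rfl le_sup_left)
    (Subgroup.commutator_mono le_rfl le_sup_right))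
  set M := ⁅V, A⁆ ⊔ ⁅V, B⁆
  have hMV : M ≤ V := sup_le (comm_le V A hA) (comm_le V B hB)
  refine Subgroup.commutator_le.mpr fun v hv l hl => ?_
  rw [Subgroup.sup_eq_closure] at hl
  have : l ∈ Subgroup.normalizer (V : Set G) ∧ ∀ v ∈ V, v * l * v⁻¹ * l⁻¹ ∈ M := by
    refine Subgroup.closure_induction (p := fun l _ => l ∈ Subgroup.normalizer (V : Set G) ∧
      ∀ v ∈ V, v * l * v⁻¹ * l⁻¹ ∈ M) ?_ ⟨one_mem _, fun v _ => by simp⟩ ?_ ?_ hl
    · rintro x (hx | hx)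
      · exact ⟨hA hx, fun v hv => Subgroup.mem_sup_left (Subgroup.commutator_mem_commutator hv hx)⟩
      · exact ⟨hB hx, fun v hv => Subgroup.mem_sup_right (Subgroup.commutator_mem_commutator hv hx)⟩
    · rintro a b _ _ ⟨han, ha⟩ ⟨hbn, hb⟩
      refine ⟨mul_mem han hbn, fun v hv => ?_⟩
      have h2 := mul_mem (mul_mem (ha v hv) (inv_mem (ha _ (hMV (hb v hv))))) (hb v hv)
      simpa [mul_assoc] using h2
    · rintro a _ ⟨han, ha⟩
      refine ⟨inv_mem han, fun v hv => ?_⟩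
      have hv' : a⁻¹ * v * a ∈ V := by
        simpa using (Subgroup.mem_normalizer_iff.mp (inv_mem han) v).mp hv
      have h2 := inv_mem (ha _ hv')
      simpa [mul_assoc] using h2
  exact this.2 v hv

/-- Let V be a subgroup of a finite group G normalized by the subgroup L, let X ≤ L and g ∈ L with [V, X, X] = 1 and L generated by X and gXg⁻¹. Put W = [V, L]. Then W = [V, X]·[V, gXg⁻¹], C_W(X) = [V, X], and C_W(L) = [V, X] ∩ [V, gXg⁻¹]. -/
theorem result {G : Type*} [Group G] [Finite G] (V L : Subgroup G) (hLV : L ≤ Subgroup.normalizer (V : Set G)) (X : Subgroup G) (hX : X ≤ L) (g : G) (hg : g ∈ L) (hq : ⁅⁅V, X⁆, X⁆ = ⊥) (hgen : X ⊔ X.map (MulAut.conj g).toMonoidHom = L) (W : Subgroup G) (hW : W = ⁅V, L⁆) : ⁅V, X⁆ ⊔ ⁅V, X.map (MulAut.conj g).toMonoidHom⁆ = W ∧ W ⊓ Subgroup.centralizer (X : Set G) = ⁅V, X⁆ ∧ W ⊓ Subgroup.centralizer (L : Set G) = ⁅V, X⁆ ⊓ ⁅V, X.map (MulAut.conj g).toMonoidHom⁆ := by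
  subst hW
  have hXg : X.map (MulAut.conj g).toMonoidHom ≤ L := by
    rintro _ ⟨x, hx, rfl⟩
    exact mul_mem (mul_mem hg (hX hx)) (inv_mem hg)
  have hmap : (⁅V, X⁆).map (MulAut.conj g).toMonoidHom = ⁅V, X.map (MulAut.conj g).toMonoidHom⁆ := by
    rw [Subgroup.map_commutator]
    exact congrArg (fun A : Subgroup G => ⁅A, X.map (MulAut.conj g).toMonoidHom⁆) (Subgroup.mem_normalizer_iff_map_conj_eq.mp (hLV hg))
  have hsup : ⁅V, X⁆ ⊔ ⁅V, X.map (MulAut.conj g).toMonoidHom⁆ = ⁅V, L⁆ := by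
    rw [← comm_sup V _ _ (hX.trans hLV) (hXg.trans hLV), hgen]
  have hcX : ⁅V, X⁆ ≤ Subgroup.centralizer (X : Set G) := Subgroup.commutator_eq_bot_iff_le_centralizer.mp hq
  have hcXg : ⁅V, X.map (MulAut.conj g).toMonoidHom⁆ ≤
      Subgroup.centralizer ((X.map (MulAut.conj g).toMonoidHom : Subgroup G) : Set G) := by
    rw [← Subgroup.commutator_eq_bot_iff_le_centralizer, ← hmap, ← Subgroup.map_commutator, hq, Subgroup.map_bot]
  -- centralized by both conjugates means centralized by `L`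
  have hLc : ∀ b : G, b ∈ Subgroup.centralizer (X : Set G) →
      b ∈ Subgroup.centralizer ((X.map (MulAut.conj g).toMonoidHom : Subgroup G) : Set G) →
      b ∈ Subgroup.centralizer (L : Set G) := fun b h1 h2 => by
    rw [← hgen]
    exact Subgroup.le_centralizer_iff.mp (sup_le (Subgroup.le_centralizer_iff.mp (Subgroup.zpowers_le.mpr h1))
      (Subgroup.le_centralizer_iff.mp (Subgroup.zpowers_le.mpr h2))) (Subgroup.mem_zpowers b)
  have hn : ⁅V, X.map (MulAut.conj g).toMonoidHom⁆ ≤ Subgroup.normalizer ((⁅V, X⁆ : Subgroup G) : Set G) := by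
    intro b hb
    have hbV : b ∈ V := comm_le V _ (hXg.trans hLV) hb
    exact Subgroup.mem_normalizer_iff.mpr fun c => ⟨fun h => conj_comm_mem V X hbV h,
      fun h => by simpa [mul_assoc] using conj_comm_mem V X (inv_mem hbV) h⟩
  -- an element fixed by `L` is fixed by `g`
  have hfix : ∀ b ∈ Subgroup.centralizer (L : Set G), g * b * g⁻¹ = b := fun b hb => by
    rw [Subgroup.mem_centralizer_iff.mp hb g hg]
    group
  have hCX : ⁅V, L⁆ ⊓ Subgroup.centralizer (X : Set G) = ⁅V, X⁆ := by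
    refine le_antisymm ?_ (le_inf (Subgroup.commutator_mono le_rfl hX) hcX)
    intro w hw
    obtain ⟨hwW, hwX⟩ := Subgroup.mem_inf.mp hw
    rw [← hsup, ← SetLike.mem_coe, Subgroup.coe_mul_of_right_le_normalizer_left _ _ hn] at hwW
    obtain ⟨a, ha, b, hb, rfl⟩ := hwW
    refine mul_mem ha ?_
    have hbX : b ∈ Subgroup.centralizer (X : Set G) := by
      simpa using mul_mem (inv_mem (hcX ha)) hwX
    have hbL := hLc b hbX (hcXg hb)
    obtain ⟨c, hc, hcb⟩ := (hmap ▸ hb : b ∈ (⁅V, X⁆).map (MulAut.conj g).toMonoidHom)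
    have : c = b := (MulAut.conj g).injective (show g * c * g⁻¹ = g * b * g⁻¹ from hcb.trans (hfix b hbL).symm)
    exact this ▸ hc
  refine ⟨hsup, hCX, le_antisymm (fun w hw => ?_) fun w hw => ⟨?_, hLc w (hcX hw.1) (hcXg hw.2)⟩⟩
  · have h1 : w ∈ ⁅V, X⁆ := hCX ▸ ⟨hw.1, Subgroup.centralizer_le hX hw.2⟩
    exact ⟨h1, hmap ▸ ⟨w, h1, hfix w hw.2⟩⟩
  · exact hsup ▸ Subgroup.mem_sup_left hw.1

end Cfsg.Agent.S2833
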