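import Cfsg.Statements.S2834
import Cfsg.Agent.PReduced.PIrreducible
import Cfsg.Agent.Subnormal.Basic
import Mathlib.GroupTheory.Nilpotent

set_option autoImplicit false
open Cfsg

namespace Cfsg.Agent.S2834

open Subgroup CfsgLib.PReduced CfsgLib.Subnormal

variable {H : Type*} [Group H]

/-- `g X g⁻¹`. -/
abbrev mc (g : H) (X : Subgroup H) : Subgroup H := X.map (MulAut.conj g).toMonoidHom

/-- The subgroup generated by the conjugates of `A` contained in `X`. -/
def conjCore (A X : Subgroup H) : Subgroup H := sSup {B | B ≤ X ∧ ∃ g, B = mc g A}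

theorem le_conjCore {A X : Subgroup H} {g : H} (h : mc g A ≤ X) : mc g A ≤ conjCore A X :=
  le_sSup ⟨h, g, rfl⟩

theorem conjCore_le (A X : Subgroup H) : conjCore A X ≤ X := sSup_le fun _ h => h.1

theorem conjCore_mono (A : Subgroup H) {X Y : Subgroup H} (h : X ≤ Y) : conjCore A X ≤ conjCore A Y :=
  sSup_le fun _ hB => le_sSup ⟨hB.1.trans h, hB.2⟩

theorem mc_conjCore_le (A X : Subgroup H) (d : H) : mc d (conjCore A X) ≤ conjCore A (mc d X) := by
  rw [mc, map_le_iff_le_comap]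
  refine sSup_le fun B hB => ?_
  rw [← map_le_iff_le_comap]
  obtain ⟨hBX, g, rfl⟩ := hB
  exact le_sSup ⟨map_mono hBX, d * g, conj_conj A d g⟩

theorem mc_conjCore (A X : Subgroup H) (d : H) : mc d (conjCore A X) = conjCore A (mc d X) := by
  refine le_antisymm (mc_conjCore_le A X d) (le_conj_iff.mpr ((mc_conjCore_le A _ d⁻¹).trans ?_))
  rw [mc, conj_conj, inv_mul_cancel, conj_one]

theorem card_mc (g : H) (X : Subgroup H) : Nat.card (mc g X) = Nat.card X :=
  Subgroup.card_map_of_injective (MulAut.conj g).injective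

theorem mem_normalizer_of_mc_le [Finite H] {X : Subgroup H} {g : H} (h : mc g X ≤ X) :
    g ∈ normalizer (X : Set H) :=
  conj_eq_self_iff.mp (Subgroup.eq_of_le_of_card_ge h (card_mc g X).ge)

theorem exists_sylow_conj [Finite H] {p : ℕ} [Fact p.Prime] (T : Sylow p H) {Q : Subgroup H} (hQ : IsPGroup p Q) :
    ∃ c : H, Q ≤ mc c (T : Subgroup H) := by
  obtain ⟨P, hP⟩ := hQ.exists_le_sylow
  obtain ⟨c, rfl⟩ := MulAction.exists_smul_eq H T P
  exact ⟨c, hP⟩

/-- The properties of the subgroups among which one of maximal order is chosen. -/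
def Special (p : ℕ) (M A R : Subgroup H) : Prop :=
  IsPGroup p R ∧ R ≤ conjCore A R ∧ ∃ a b : H, mc a M ≠ mc b M ∧ R ≤ mc a M ∧ R ≤ mc b M

theorem Special.conj {p : ℕ} {M A R : Subgroup H} (h : Special p M A R) (d : H) : Special p M A (mc d R) := by
  obtain ⟨hp, hc, a, b, hne, ha, hb⟩ := h
  refine ⟨hp.map _, (map_mono hc).trans (mc_conjCore_le A R d), d * a, d * b, ?_, ?_, ?_⟩
  · intro e
    apply hne
    have := congrArg (mc d⁻¹) e
    simp only [mc, conj_conj, inv_mul_cancel_left] at this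
    exact this
  · rw [mc, mc, ← conj_conj]; exact map_mono ha
  · rw [mc, mc, ← conj_conj]; exact map_mono hb

theorem main_step [Finite H] {p : ℕ} [Fact p.Prime] (T : Sylow p H) {M A : Subgroup H}
    (hTM : (T : Subgroup H) ≤ M) (hMne : M ≠ ⊤)
    (huniq : ∀ (c : H) (X : Subgroup H), mc c (T : Subgroup H) ≤ X → X ≠ ⊤ → X ≤ mc c M)
    (hMmax : IsCoatom M) (hAT : A ≤ (T : Subgroup H)) (hA : ¬ A ≤ Cfsg.pCore p H)
    {R : Subgroup H} (hR : Special p M A R)
    (hmax : ∀ R' : Subgroup H, Special p M A R' → Nat.card R' ≤ Nat.card R) {a : H} (ha : R ≤ mc a M) :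
    ∃ g : H, mc g A ≤ mc a M ∧ mc g A ≤ normalizer (R : Set H) ∧ ¬ mc g A ≤ R ∧
      ∀ b : H, R ⊔ mc g A ≤ mc b M → mc b M = mc a M := by
  obtain ⟨hRp, hRc, a₁, a₂, hne, ha₁, ha₂⟩ := hR
  -- a Sylow subgroup of every conjugate of `M` over `R` containing `R`
  have hsyl : ∀ b : H, R ≤ mc b M → ∃ c : H, R ≤ mc c (T : Subgroup H) ∧ mc c M = mc b M := by
    intro b hb
    have h1 : mc b⁻¹ R ≤ M := le_conj_iff.mp hb
    obtain ⟨Q, hQ⟩ := ((hRp.map (MulAut.conj b⁻¹).toMonoidHom).comap_subtype (H := mc b⁻¹ R) (K := M)).exists_le_sylow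
    obtain ⟨m, rfl⟩ := MulAction.exists_smul_eq M (T.subtype hTM) Q
    refine ⟨b * (m : H), ?_, ?_⟩
    · intro x hx
      have h2 : b⁻¹ * x * b ∈ mc b⁻¹ R := mem_conj.mpr (by simpa [mul_assoc] using hx)
      obtain ⟨t, ht, hte⟩ := hQ (show (⟨_, h1 h2⟩ : M) ∈ (mc b⁻¹ R).subgroupOf M from h2)
      have hval : (m : H) * (t : H) * (m : H)⁻¹ = b⁻¹ * x * b := by simpa using congrArg Subtype.val hte
      refine mem_conj.mpr ?_
      have : (b * (m : H))⁻¹ * x * (b * (m : H)) = (t : H) := by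
        calc (b * (m : H))⁻¹ * x * (b * (m : H)) = (m : H)⁻¹ * (b⁻¹ * x * b) * (m : H) := by group
          _ = _ := by rw [← hval]; group
      rw [this]
      exact ht
    · rw [mc, mc, ← conj_conj M b, conj_eq_self_iff.mpr (le_normalizer m.2)]
  obtain ⟨c, hRc', hca⟩ := hsyl a ha
  by_contra hno
  push_neg at hno
  set P : Subgroup H := mc c (T : Subgroup H) with hPdef
  have hPp : IsPGroup p P := T.isPGroup'.map _
  have hPM : P ≤ mc a M := hca ▸ map_mono hTM
  have hin : ∀ g : H, mc g A ≤ P → mc g A ≤ normalizer (R : Set H) → mc g A ≤ R := by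
    intro g hgP hgN
    by_contra hgR
    obtain ⟨b, hb, hbne⟩ := hno g (hgP.trans hPM) hgN hgR
    have hpg : IsPGroup p (R ⊔ mc g A : Subgroup H) := hPp.to_le (sup_le hRc' hgP)
    have hcore : R ⊔ mc g A ≤ conjCore A (R ⊔ mc g A) :=
      sup_le (hRc.trans (conjCore_mono A le_sup_left)) (le_conjCore le_sup_right)
    have hs : Special p M A (R ⊔ mc g A) :=
      ⟨hpg, hcore, b, a, hbne, hb, (sup_le hRc' hgP).trans hPM⟩
    exact hgR (le_sup_right.trans_eq (Subgroup.eq_of_le_of_card_ge le_sup_left (hmax _ hs)).symm)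
  -- `P` normalizes `R`
  have hPN : P ≤ normalizer (R : Set H) := by
    set D : Subgroup H := P ⊓ normalizer (R : Set H) with hD
    have hDP : D ≤ P := inf_le_left
    have hstep : ∀ y ∈ P, y ∈ normalizer (D : Set H) → y ∈ D := by
      intro y hyP hyD
      refine ⟨hyP, mem_normalizer_of_mc_le ?_⟩
      refine (map_mono hRc).trans ((mc_conjCore_le A R y).trans (sSup_le ?_))
      rintro B ⟨hB, g, rfl⟩
      have hBD : mc g A ≤ D := by
        refine hB.trans ?_
        calc mc y R ≤ mc y D := map_mono (le_inf hRc' le_normalizer)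
          _ = D := conj_eq_self_iff.mpr hyD
      exact hin g (hBD.trans inf_le_left) (hBD.trans inf_le_right)
    have hnil : Group.IsNilpotent P := hPp.isNilpotent
    have htop : D.subgroupOf P = ⊤ := by
      by_contra hne'
      obtain ⟨y, hy, hyn⟩ := SetLike.exists_of_lt
        (Group.normalizerCondition_of_isNilpotent (D.subgroupOf P) (lt_top_iff_ne_top.mpr hne'))
      exact hyn (hstep y y.2 (normalizer_subgroupOf_map_le hDP ⟨y, hy, rfl⟩))
    exact (subgroupOf_eq_top.mp htop).trans inf_le_right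
  have hK : conjCore A P = R :=
    le_antisymm (sSup_le fun B ⟨hB, g, hg⟩ => hg ▸ hin g (hg ▸ hB) ((hg ▸ hB).trans hPN))
      (hRc.trans (conjCore_mono A hRc'))
  have hNtop : normalizer (R : Set H) ≠ ⊤ := by
    intro e
    haveI : R.Normal := normalizer_eq_top_iff.mp e
    refine hA fun x hx => ?_
    have h1 : c * x * c⁻¹ ∈ R := by
      rw [← hK]
      exact le_conjCore (map_mono hAT) ⟨x, hx, rfl⟩
    have h2 : x ∈ R := by simpa [mul_assoc] using (inferInstance : R.Normal).conj_mem _ h1 c⁻¹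
    exact CfsgLib.PReduced.le_pCore inferInstance hRp h2
  have hall : ∀ b : H, R ≤ mc b M → mc b M = mc a M := by
    intro b hb
    obtain ⟨c', hc', hcb⟩ := hsyl b hb
    have hP' : mc c' (T : Subgroup H) = mc (c' * c⁻¹) P := by
      rw [hPdef, mc, mc, mc, conj_conj, inv_mul_cancel_right]
    have hK' : conjCore A (mc c' (T : Subgroup H)) = mc (c' * c⁻¹) R := by rw [hP', ← mc_conjCore, hK]
    have hle : R ≤ mc (c' * c⁻¹) R := hK' ▸ hRc.trans (conjCore_mono A hc')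
    have hd : c' * c⁻¹ ∈ normalizer (R : Set H) :=
      conj_eq_self_iff.mp (Subgroup.eq_of_le_of_card_ge hle (card_mc _ _).le).symm
    have hP'N : mc c' (T : Subgroup H) ≤ normalizer (R : Set H) := by
      rw [hP']
      rintro - ⟨x, hx, rfl⟩
      exact (normalizer (R : Set H)).mul_mem ((normalizer (R : Set H)).mul_mem hd (hPN hx))
        ((normalizer (R : Set H)).inv_mem hd)
    obtain ⟨C, hC, hNC⟩ := (eq_top_or_exists_le_coatom (normalizer (R : Set H))).resolve_left hNtop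
    have h1 : C ≤ mc c M := huniq c C (hPN.trans hNC) hC.1
    have h2 : C ≤ mc c' M := huniq c' C (hP'N.trans hNC) hC.1
    have hne_top : ∀ z : H, mc z M ≠ ⊤ := by
      intro z e
      exact hMne (Subgroup.card_eq_iff_eq_top M |>.mp (by rw [← card_mc z M, e, Subgroup.card_top]))
    have e1 := (hC.le_iff_eq (hne_top c)).mp h1
    have e2 := (hC.le_iff_eq (hne_top c')).mp h2
    rw [← hcb, ← hca, e1, e2]
  exact hne ((hall a₁ ha₁).trans (hall a₂ ha₂).symm)

/-- The L-Lemma: let H be a finite group with Sylow p-subgroup T such that H is T-minimal (generated by the conjugates of T, T in exactly one maximal subgroup M), and let A ≤ T with A not contained in O_p(H). Then there is a subgroup L of H containing A·O_p(H) such that (a) A·O_p(L) lies in exactly one maximal subgroup L₀ of L, and L₀ = L ∩ gMg⁻¹ for some g ∈ H; (b) L = ⟨A, xAx⁻¹⟩·O_p(L) for every x ∈ L outside L₀. -/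
theorem result {H : Type*} [Group H] [Finite H] {p : ℕ} [Fact p.Prime] (T : Sylow p H) (hmin : Cfsg.IsMinimalOver (T : Subgroup H)) (M : Subgroup H) (hM : IsCoatom M ∧ (T : Subgroup H) ≤ M) (A : Subgroup H) (hAT : A ≤ (T : Subgroup H)) (hA : ¬ A ≤ Cfsg.pCore p H) : ∃ L : Subgroup H, A ⊔ Cfsg.pCore p H ≤ L ∧ ∃ L₀ : Subgroup H, A ⊔ (Cfsg.pCoreOf p L) ≤ L₀ ∧ L₀ < L ∧ (∀ X : Subgroup H, A ⊔ (Cfsg.pCoreOf p L) ≤ X → X < L → X ≤ L₀) ∧ (∃ g : H, L₀ = L ⊓ ((M : Subgroup H).map (MulAut.conj (g : H)).toMonoidHom)) ∧ ∀ x ∈ L, x ∉ L₀ → (A ⊔ ((A : Subgroup H).map (MulAut.conj (x : H)).toMonoidHom)) ⊔ (Cfsg.pCoreOf p L) = L := by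
  obtain ⟨hgen, M₀, hM₀, hM₀u⟩ := hmin
  obtain ⟨hMmax, hTM⟩ := hM
  have hMne : M ≠ ⊤ := hMmax.1
  have huniq : ∀ (c : H) (X : Subgroup H), mc c (T : Subgroup H) ≤ X → X ≠ ⊤ → X ≤ mc c M := by
    intro c X hcX hX
    obtain ⟨C, hC, hXC⟩ := (eq_top_or_exists_le_coatom X).resolve_left hX
    have h1 : (T : Subgroup H) ≤ mc c⁻¹ C := le_conj_iff.mpr (by rw [inv_inv]; exact hcX.trans hXC)
    have hco : IsCoatom (mc c⁻¹ C) := ((MulAut.conj c⁻¹).mapSubgroup.isCoatom_iff C).mpr hC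
    have e : mc c⁻¹ C = M := (hM₀u _ ⟨hco, h1⟩).trans (hM₀u _ ⟨hMmax, hTM⟩).symm
    refine hXC.trans (le_of_eq ?_)
    rw [← e, mc, mc, conj_conj, mul_inv_cancel, conj_one]
  have hnn : ¬ M.Normal := fun h =>
    hMne (top_le_iff.mp (hgen ▸ Subgroup.normalClosure_le_normal (N := M) hTM))
  have hNM : normalizer (M : Set H) = M := by
    rcases hMmax.le_iff.mp (le_normalizer (H := M)) with e | e
    · exact absurd (normalizer_eq_top_iff.mp e) hnn
    · exact e
  have hbot : Special p M A ⊥ := by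
    obtain ⟨g, hg⟩ : ∃ g : H, mc g M ≠ M := by
      by_contra! h
      exact hnn (normalizer_eq_top_iff.mp (eq_top_iff.mpr fun g _ => conj_eq_self_iff.mp (h g)))
    exact ⟨IsPGroup.of_bot, bot_le, g, 1, by rw [mc, mc, conj_one]; exact hg, bot_le, bot_le⟩
  obtain ⟨R, hR, hmax⟩ := Set.exists_max_image {R : Subgroup H | Special p M A R} (fun R => Nat.card R)
    (Set.toFinite _) ⟨⊥, hbot⟩
  obtain ⟨-, -, a₁, a₂, hne, ha₁, ha₂⟩ := id hR
  obtain ⟨g, hgM, hgN, -, hgu⟩ := main_step T hTM hMne huniq hMmax hAT hA hR hmax ha₁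
  -- conjugate back so that the new conjugate of `A` is `A`
  set R₀ : Subgroup H := mc g⁻¹ R with hR₀
  set M₁ : Subgroup H := mc (g⁻¹ * a₁) M with hM₁
  have hmax₀ : ∀ R' : Subgroup H, Special p M A R' → Nat.card R' ≤ Nat.card R₀ := by
    intro R' h'; rw [hR₀, card_mc]; exact hmax R' h'
  have hR₀M₁ : R₀ ≤ M₁ := by rw [hR₀, hM₁, mc, mc, ← conj_conj]; exact map_mono ha₁
  have hAM₁ : A ≤ M₁ := by
    rw [hM₁, mc, ← conj_conj]; exact le_conj_iff.mpr (by rw [inv_inv]; exact hgM)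
  have hAN : A ≤ normalizer (R₀ : Set H) := by
    intro x hx
    apply mem_normalizer_of_mc_le
    rw [hR₀, mc, mc, conj_conj]
    have h := conj_eq_self_iff.mpr (hgN ⟨x, hx, rfl⟩)
    calc R.map (MulAut.conj (x * g⁻¹)).toMonoidHom
        = (R.map (MulAut.conj (g * x * g⁻¹)).toMonoidHom).map (MulAut.conj g⁻¹).toMonoidHom := by
          rw [conj_conj]; congr 3; group
      _ ≤ _ := by
          refine le_of_eq ?_
          congr 1
  have hu₁ : ∀ b : H, R₀ ≤ mc b M → A ≤ mc b M → mc b M = M₁ := by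
    intro b hb hAb
    have e := hgu (g * b) (by
      rw [mc, mc, ← conj_conj]
      refine sup_le ?_ (map_mono hAb)
      have := map_mono (f := (MulAut.conj g).toMonoidHom) hb
      rwa [hR₀, mc, conj_conj, mul_inv_cancel, conj_one] at this)
    have := congrArg (mc g⁻¹) e
    simp only [mc, conj_conj, inv_mul_cancel_left] at this
    exact this
  have hR₀M₂ : R₀ ≤ mc (g⁻¹ * a₂) M := by rw [hR₀, mc, mc, ← conj_conj]; exact map_mono ha₂
  have hne₀ : mc (g⁻¹ * a₂) M ≠ M₁ := by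
    intro e
    apply hne
    have := congrArg (mc g) e
    simp only [hM₁, mc, conj_conj, mul_inv_cancel_left] at this
    exact this.symm
  obtain ⟨g₂, hg₂M, hg₂N, -, hg₂u⟩ := main_step T hTM hMne huniq hMmax hAT hA (hR.conj g⁻¹) hmax₀ hR₀M₂
  have hB₂ : ¬ mc g₂ A ≤ M₁ := fun h => hne₀ (hg₂u _ (sup_le hR₀M₁ h)).symm
  -- `O_p(H)`
  set O : Subgroup H := Cfsg.pCore p H with hO
  have hOn : O.Normal := inferInstance
  have hOT : ∀ b : H, O ≤ mc b (T : Subgroup H) := fun b =>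
    CfsgLib.PReduced.pCore_le_sylow (b • T)
  have hOM : ∀ b : H, O ≤ mc b M := fun b => (hOT b).trans (map_mono hTM)
  have hQp : IsPGroup p (R₀ ⊔ O : Subgroup H) :=
    (hR.conj g⁻¹).1.to_sup_of_normal_right (isPGroup_pCore p H)
  have hON : ∀ X : Subgroup H, X ≤ normalizer (R₀ : Set H) → X ≤ normalizer ((R₀ ⊔ O : Subgroup H) : Set H) := by
    intro X hX
    refine le_trans (le_inf hX ?_) (normalizer_inf_le_normalizer_sup R₀ O)
    rw [normalizer_eq_top_iff.mpr hOn]; exact le_top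
  let S : Set (Subgroup H) := {X | R₀ ⊔ O ⊔ A ≤ X ∧ X ≤ normalizer ((R₀ ⊔ O : Subgroup H) : Set H) ∧ ¬ X ≤ M₁}
  have hSne : S.Nonempty :=
    ⟨R₀ ⊔ O ⊔ A ⊔ mc g₂ A, le_sup_left, sup_le (sup_le le_normalizer (hON _ hAN)) (hON _ hg₂N),
      fun h => hB₂ (le_sup_right.trans h)⟩
  obtain ⟨L, ⟨hL1, hL2, hL3⟩, hLmin⟩ := Set.exists_min_image S (fun X => Nat.card X) (Set.toFinite _) hSne
  have hmin' : ∀ X : Subgroup H, R₀ ⊔ O ⊔ A ≤ X → X ≤ L → ¬ X ≤ M₁ → X = L := fun X h1 h2 h3 =>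
    Subgroup.eq_of_le_of_card_ge h2 (hLmin X ⟨h1, h2.trans hL2, h3⟩)
  have hAL : A ≤ L := le_sup_right.trans hL1
  have hQL : R₀ ⊔ O ≤ Cfsg.pCoreOf p L := le_pCoreOf (le_sup_left.trans hL1) hL2 hQp
  have hAp : IsPGroup p A := T.isPGroup'.to_le hAT
  have hsp : IsPGroup p (A ⊔ Cfsg.pCoreOf p L : Subgroup H) :=
    hAp.to_sup_of_normal_right' (isPGroup_pCoreOf L) (hAL.trans (le_normalizer_pCoreOf L))
  obtain ⟨d, hd⟩ := exists_sylow_conj T hsp
  have hdM : mc d M = M₁ := hu₁ d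
    (((le_sup_left.trans hQL).trans le_sup_right).trans (hd.trans (map_mono hTM)))
    (le_sup_left.trans (hd.trans (map_mono hTM)))
  have hsM₁ : A ⊔ Cfsg.pCoreOf p L ≤ M₁ := hdM ▸ hd.trans (map_mono hTM)
  have hsL : A ⊔ Cfsg.pCoreOf p L ≤ L := sup_le hAL (pCoreOf_le L)
  have hsQ : R₀ ⊔ O ⊔ A ≤ A ⊔ Cfsg.pCoreOf p L := sup_le (hQL.trans le_sup_right) le_sup_left
  refine ⟨L, sup_le hAL (le_sup_right.trans (le_sup_left.trans hL1)), L ⊓ M₁, le_inf hsL hsM₁,
    inf_lt_left.mpr hL3, ?_, ⟨g⁻¹ * a₁, rfl⟩, ?_⟩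
  · intro X hX hXL
    refine le_inf hXL.le ?_
    by_contra h
    exact hXL.ne (hmin' X (hsQ.trans hX) hXL.le h)
  · intro x hxL hx
    have hxM : x ∉ M₁ := fun h => hx ⟨hxL, h⟩
    refine hmin' _ (hsQ.trans (sup_le (le_sup_left.trans le_sup_left) le_sup_right)) ?_ ?_
    · refine sup_le (sup_le hAL ?_) (pCoreOf_le L)
      rintro - ⟨y, hy, rfl⟩
      exact L.mul_mem (L.mul_mem hxL (hAL hy)) (L.inv_mem hxL)
    · intro h
      apply hxM
      have hxA : A ≤ mc x⁻¹ M₁ := le_conj_iff.mpr (by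
        rw [inv_inv]; exact (le_sup_right.trans le_sup_left).trans h)
      have hxR : R₀ ≤ mc x⁻¹ M₁ := by
        have hfix : mc x⁻¹ (R₀ ⊔ O) = R₀ ⊔ O := conj_eq_self_iff.mpr (inv_mem (hL2 hxL))
        have h5 := map_mono (f := (MulAut.conj x⁻¹).toMonoidHom) ((hQL.trans le_sup_right).trans h)
        exact le_sup_left.trans (hfix.symm.le.trans h5)
      rw [hM₁, mc, mc, conj_conj] at hxA hxR
      have e := hu₁ _ hxR hxA
      have e' : mc x⁻¹ M₁ = M₁ := (conj_conj M x⁻¹ (g⁻¹ * a₁)).trans e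
      have hxn : x⁻¹ ∈ normalizer (M₁ : Set H) := conj_eq_self_iff.mp e'
      have hn : normalizer (M₁ : Set H) = M₁ := by
        have hN := Subgroup.map_equiv_normalizer_eq M (MulAut.conj (g⁻¹ * a₁))
        rw [hNM] at hN
        exact hN.symm
      rw [hn] at hxn
      exact inv_mem_iff.mp hxn

end Cfsg.Agent.S2834
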