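import Cfsg.Statements.S2835
import Cfsg.Agent.PReduced.Basic
import Mathlib.GroupTheory.Nilpotent

set_option autoImplicit false
open Cfsg

namespace Cfsg.Agent.S2835

/-- Let L be a finite group, L₀ a maximal subgroup, T a Sylow p-subgroup of L₀ and Y ≤ T, and suppose L is Y-minimal (generated by the conjugates of Y, with Y in exactly one maximal subgroup, necessarily L₀). Then N_L(T) ≤ L₀, O_p(L) ≤ L₀ and T is a Sylow p-subgroup of L; N_L(L₀) = L₀; L = ⟨Y, gYg⁻¹⟩ for each g ∈ L outside L₀; and if Y is abelian then Y ∩ gYg⁻¹ = C_Y(L) for each such g. -/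
theorem result {L : Type*} [Group L] [Finite L] {p : ℕ} [Fact p.Prime] (L₀ : Subgroup L) (hL₀ : IsCoatom L₀) (T : Sylow p ↥L₀) (Y : Subgroup L) (hYT : Y ≤ (T : Subgroup ↥L₀).map L₀.subtype) (hmin : Cfsg.IsMinimalOver Y) : Subgroup.normalizer (((T : Subgroup ↥L₀).map L₀.subtype : Subgroup L) : Set L) ≤ L₀ ∧ Cfsg.pCore p L ≤ L₀ ∧ (∃ P : Sylow p L, (P : Subgroup L) = (T : Subgroup ↥L₀).map L₀.subtype) ∧ Subgroup.normalizer (L₀ : Set L) = L₀ ∧ (∀ g : L, g ∉ L₀ → Y ⊔ Y.map (MulAut.conj g).toMonoidHom = ⊤) ∧ (IsMulCommutative ↥Y → ∀ g : L, g ∉ L₀ → Y ⊓ Y.map (MulAut.conj g).toMonoidHom = Y ⊓ Subgroup.center L) := by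
  open Subgroup in
  obtain ⟨hgen, M, hM, huniq⟩ := hmin
  open Subgroup in
  have hYL : Y ≤ L₀ := hYT.trans (map_subtype_le _)
  have hL : ∀ K : Subgroup L, K ≠ ⊤ → Y ≤ K → K ≤ L₀ := fun K hK hYK => by
    obtain ⟨N, hN, hKN⟩ := (eq_top_or_exists_le_coatom K).resolve_left hK
    exact (huniq L₀ ⟨hL₀, hYL⟩).trans (huniq N ⟨hN, hYK.trans hKN⟩).symm ▸ hKN
  have hnn : ∀ K : Subgroup L, K.Normal → K ≤ L₀ → ¬ Y ≤ K := fun K hK hKL hYK =>
    hL₀.1 (top_le_iff.mp ((hgen ▸ Subgroup.normalClosure_le_normal (N := K) hYK).trans hKL))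
  set T' := (T : Subgroup ↥L₀).map L₀.subtype with hT'
  have hTL : T' ≤ L₀ := Subgroup.map_subtype_le _
  have hN : Subgroup.normalizer (T' : Set L) ≤ L₀ := by
    refine hL _ (fun h => hnn T' (Subgroup.normalizer_eq_top_iff.mp h) hTL hYT) (hYT.trans Subgroup.le_normalizer)
  obtain ⟨P, hP⟩ := (T.isPGroup'.map L₀.subtype).exists_le_sylow
  have hPT : (P : Subgroup L) = T' := by
    refine le_antisymm ?_ hP
    by_contra hle
    haveI : Group.IsNilpotent ↥(P : Subgroup L) := P.isPGroup'.isNilpotent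
    have hlt : T'.subgroupOf (P : Subgroup L) < ⊤ :=
      lt_top_iff_ne_top.mpr fun h => hle (Subgroup.subgroupOf_eq_top.mp h)
    refine (Group.normalizerCondition_of_isNilpotent _ hlt).not_ge ?_
    intro x hx
    have hxN : (x : L) ∈ Subgroup.normalizer (T' : Set L) := by
      rw [Subgroup.mem_normalizer_iff]
      intro y
      refine ⟨fun hy => ?_, fun hy => ?_⟩
      · exact (Subgroup.mem_normalizer_iff.mp hx ⟨y, hP hy⟩).mp hy
      · have hyP : y ∈ (P : Subgroup L) := by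
          simpa [mul_assoc] using mul_mem (mul_mem (inv_mem x.2) (hP hy)) x.2
        exact (Subgroup.mem_normalizer_iff.mp hx ⟨y, hyP⟩).mpr hy
    -- `P ⊓ L₀` is a p-subgroup of `L₀` containing `T`
    have heq : ((P : Subgroup L).subgroupOf L₀) = (T : Subgroup ↥L₀) :=
      T.is_maximal' (P.isPGroup'.comap_of_injective L₀.subtype L₀.subtype_injective) fun t ht => hP ⟨t, ht, rfl⟩
    show (x : L) ∈ T'
    have : (⟨(x : L), hN hxN⟩ : ↥L₀) ∈ (P : Subgroup L).subgroupOf L₀ := x.2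
    exact ⟨_, heq ▸ this, rfl⟩
  have hnorm : Subgroup.normalizer (L₀ : Set L) = L₀ := by
    refine le_antisymm (hL _ (fun h => hnn L₀ (Subgroup.normalizer_eq_top_iff.mp h) le_rfl hYL)
      (hYL.trans Subgroup.le_normalizer)) Subgroup.le_normalizer
  have hjoin : ∀ g : L, g ∉ L₀ → Y ⊔ Y.map (MulAut.conj g).toMonoidHom = ⊤ := by
    intro g hg
    by_contra h
    have h1 := le_sup_right.trans (hL _ h le_sup_left)
    rw [Subgroup.map_le_iff_le_comap] at h1
    set K := L₀.comap (MulAut.conj g).toMonoidHom with hK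
    have hsurj : Function.Surjective (MulAut.conj g).toMonoidHom := (MulAut.conj g).surjective
    have hKt : K ≠ ⊤ := fun h2 => hL₀.1 (Subgroup.comap_injective hsurj (h2.trans (Subgroup.comap_top _).symm))
    have hle := hL K hKt h1
    have heq : K = L₀ := by
      refine Subgroup.eq_of_le_of_card_ge hle (le_of_eq ?_)
      conv_lhs => rw [← Subgroup.map_comap_eq_self_of_surjective hsurj L₀]
      exact Subgroup.card_map_of_injective (MulAut.conj g).injective
    refine hg (hnorm ▸ Subgroup.mem_normalizer_iff.mpr fun x => ?_)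
    conv_lhs => rw [← heq]
    rfl
  refine ⟨hN, ?_, ⟨P, hPT⟩, hnorm, hjoin, fun hab g hg => ?_⟩
  · exact (CfsgLib.PReduced.pCore_le_sylow P).trans (hPT ▸ hTL)
  · refine le_antisymm (fun x hx => ⟨hx.1, ?hfirst⟩) fun x hx => ⟨hx.1, x, hx.1, ?hsecond⟩
    case hfirst =>
      have hc : Y ⊔ Y.map (MulAut.conj g).toMonoidHom ≤ Subgroup.centralizer ({x} : Set L) := by
        refine sup_le (fun y hy => ?_) ?_
        · exact Subgroup.mem_centralizer_singleton_iff.mpr
            (congrArg Subtype.val (hab.is_comm.comm (⟨y, hy⟩ : Y) ⟨x, hx.1⟩))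
        · rintro _ ⟨y, hy, rfl⟩
          obtain ⟨w, hw, rfl⟩ := hx.2
          refine Subgroup.mem_centralizer_singleton_iff.mpr ?_
          rw [← map_mul, ← map_mul]
          exact congrArg (fun z : L => (MulAut.conj g).toMonoidHom z)
            (congrArg Subtype.val (hab.is_comm.comm (⟨y, hy⟩ : Y) ⟨w, hw⟩))
      rw [hjoin g hg] at hc
      exact Subgroup.mem_center_iff.mpr fun y => Subgroup.mem_centralizer_singleton_iff.mp (hc (Subgroup.mem_top y))
    case hsecond =>
      show g * x * g⁻¹ = x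
      rw [Subgroup.mem_center_iff.mp hx.2 g, mul_inv_cancel_right]

end Cfsg.Agent.S2835
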