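import Cfsg.Statements.S2836
import Cfsg.Agent.S2835
import Cfsg.Agent.PReduced.PIrreducible
import Mathlib.GroupTheory.Frattini

set_option autoImplicit false
open Cfsg

namespace Cfsg.Agent.S2836

open Subgroup in
/-- The image of a maximal subgroup containing the kernel. -/
theorem isCoatom_map_mk {L : Type*} [Group L] (O : Subgroup L) [O.Normal] {K : Subgroup L} (hK : IsCoatom K)
    (hOK : O ≤ K) : IsCoatom (K.map (QuotientGroup.mk' O)) := by
  have hback : (K.map (QuotientGroup.mk' O)).comap (QuotientGroup.mk' O) = K := by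
    rw [comap_map_eq, QuotientGroup.ker_mk', sup_eq_left.mpr hOK]
  refine ⟨fun e => hK.1 (by rw [← hback, e, comap_top]), fun X hX => ?_⟩
  refine comap_injective (QuotientGroup.mk'_surjective O) ((hK.2 _ ?_).trans (comap_top _).symm)
  rw [← hback]
  exact (comap_lt_comap_of_surjective (QuotientGroup.mk'_surjective O)).mpr hX

open Subgroup CfsgLib.PReduced in
/-- The structure of the core and the normal subgroups inside `L₀`. -/
theorem aux {L : Type*} [Group L] [Finite L] {p : ℕ} [Fact p.Prime] (L₀ : Subgroup L) (hL₀ : IsCoatom L₀)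
    (T : Sylow p ↥L₀) (Y : Subgroup L) (hYT : Y ≤ (T : Subgroup ↥L₀).map L₀.subtype) (hmin : Cfsg.IsMinimalOver Y) :
    (Cfsg.pCore p L ≤ L₀.normalCore ∧
      (L₀.normalCore).map (QuotientGroup.mk' (Cfsg.pCore p L)) = frattini (L ⧸ Cfsg.pCore p L) ∧
      Cfsg.IsPClosed p ↥(L₀.normalCore)) ∧ ∀ (N : Subgroup L) [N.Normal], N ≤ L₀ → Cfsg.IsPClosed p ↥N ∧
        Group.IsNilpotent (↥N ⧸ Cfsg.pCore p ↥N) ∧ (Nat.card (↥N ⧸ Cfsg.pCore p ↥N)).Coprime p := by
  obtain ⟨-, hO, ⟨P, hP⟩, hnorm, -, -⟩ := Cfsg.Agent.S2835.result L₀ hL₀ T Y hYT hmin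
  obtain ⟨hgen, M₀, hM₀, hu⟩ := hmin
  have hYP : Y ≤ (P : Subgroup L) := hP ▸ hYT
  have hPL : (P : Subgroup L) ≤ L₀ := hP ▸ map_subtype_le _
  have hin : ∀ X : Subgroup L, X ≠ ⊤ → Y ≤ X → X ≤ L₀ := fun X hX hYX => by
    obtain ⟨A, hA, hXA⟩ := (eq_top_or_exists_le_coatom X).resolve_left hX
    rw [(hu L₀ ⟨hL₀, hYP.trans hPL⟩).trans (hu A ⟨hA, hYX.trans hXA⟩).symm]
    exact hXA
  set O := Cfsg.pCore p L with hOdef
  set D := L₀.normalCore with hD
  have hDL : D ≤ L₀ := normalCore_le L₀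
  have hOD : O ≤ D := normal_le_normalCore.mpr hO
  set π := QuotientGroup.mk' O with hπ
  have hsurj := QuotientGroup.mk'_surjective O
  -- the Sylow subgroup of `D`
  obtain ⟨R, hR⟩ := exists_sylow_inf P D
  have hRn : ((P : Subgroup L) ⊓ D).Normal := by
    refine normalizer_eq_top_iff.mp ?_
    by_contra hne
    have hY : Y ≤ normalizer (((P : Subgroup L) ⊓ D : Subgroup L) : Set L) := fun y hy =>
      inf_normalizer_le_normalizer_inf ⟨le_normalizer (hYP hy), by rw [normalizer_eq_top]; exact mem_top y⟩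
    have h := Sylow.normalizer_sup_eq_top R
    rw [hR, map_subgroupOf_eq_of_le inf_le_right] at h
    exact hL₀.1 (top_le_iff.mp (h.ge.trans (sup_le (hin _ hne hY) hDL)))
  have hPDO : (P : Subgroup L) ⊓ D ≤ O := le_pCore hRn (P.isPGroup'.to_le inf_le_left)
  have helD : ∀ x ∈ D, (∃ k, x ^ p ^ k = 1) → x ∈ O := by
    intro x hx hk
    obtain ⟨R', hR'⟩ := ((isPGroup_zpowers_of_pow_eq_one hk).comap_of_injective D.subtype
      D.subtype_injective).exists_le_sylow
    haveI hRn' : (R : Subgroup D).Normal := by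
      haveI := hRn
      rw [hR]
      infer_instance
    obtain ⟨g, rfl⟩ := MulAction.exists_smul_eq D R R'
    rw [Sylow.smul_eq_of_normal (h := hRn')] at hR'
    have h1 := hR' (show (⟨x, hx⟩ : D) ∈ (zpowers x).comap D.subtype from mem_zpowers x)
    rw [hR] at h1
    exact hPDO h1
  have hDcl : Cfsg.IsPClosed p ↥D := (isPClosed_normal_iff D).mpr helD
  have hDp : ¬ p ∣ Nat.card ↥(D.map π) := by
    intro hd
    obtain ⟨⟨q, hq⟩, hqp⟩ := exists_prime_orderOf_dvd_card' p hd
    rw [orderOf_mk] at hqp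
    obtain ⟨x, hx, rfl⟩ := hq
    obtain ⟨a, ha, hak, hax⟩ := exists_pElement_lift_mem hx ⟨1, by rw [pow_one]; exact hqp ▸ pow_orderOf_eq_one _⟩
    have h1 : QuotientGroup.mk' O a = 1 := (QuotientGroup.eq_one_iff a).mpr (helD a ha hak)
    rw [← hax, h1, orderOf_one] at hqp
    exact (Fact.out : p.Prime).ne_one hqp.symm
  have hle1 : D.map π ≤ frattini (L ⧸ O) := by
    rw [frattini, Order.radical, le_iInf_iff]
    intro X
    rw [le_iInf_iff]
    intro hX
    by_contra hle
    set M := X.comap π with hMdef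
    have hM : IsCoatom M := by
      refine ⟨fun e => hX.1 (comap_injective hsurj (e.trans (comap_top _).symm)), fun Y' hY' => ?_⟩
      have hker : O ≤ Y' := (QuotientGroup.ker_mk' O).ge.trans ((MonoidHom.ker_le_comap π X).trans hY'.le)
      have h2 : X < Y'.map π := by
        refine lt_of_le_of_ne ?_ fun e => hY'.ne ?_
        · rw [← map_comap_eq_self_of_surjective hsurj X]
          exact map_mono hY'.le
        · rw [hMdef, e, comap_map_eq, QuotientGroup.ker_mk', sup_eq_left.mpr hker]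
      have h3 := congrArg (Subgroup.comap π) (hX.2 _ h2)
      rwa [comap_map_eq, QuotientGroup.ker_mk', sup_eq_left.mpr hker, comap_top] at h3
    have hDM : ¬ D ≤ M := fun h => hle (map_le_iff_le_comap.mpr h)
    have htop : M ⊔ D = ⊤ := hM.2 _ (lt_of_le_of_ne le_sup_left fun e => hDM (le_sup_right.trans e.ge))
    have hidx : ¬ p ∣ M.index := by
      intro hd
      refine hDp ?_
      have h1 : M.index ∣ O.relIndex D := by
        have e1 : D.relIndex M = D.index := by
          rw [← relIndex_top_right D, ← htop, relIndex_sup_right]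
        have e2 : (D ⊓ M).index = D.index * M.index := by
          rw [← relIndex_mul_index (inf_le_right : D ⊓ M ≤ M), inf_relIndex_right, e1]
        have e3 : (D ⊓ M).relIndex D = M.index := by
          have h := relIndex_mul_index (inf_le_left : D ⊓ M ≤ D)
          rw [e2, mul_comm D.index] at h
          exact Nat.eq_of_mul_eq_mul_right (Nat.pos_of_ne_zero index_ne_zero_of_finite) h
        rw [← e3]
        exact relIndex_dvd_of_le_left D (le_inf hOD ((QuotientGroup.ker_mk' O).ge.trans (MonoidHom.ker_le_comap π X)))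
      have h2 : O.relIndex D = Nat.card ↥(D.map π) := by
        rw [← relIndex_ker (K := D) π, QuotientGroup.ker_mk']
      exact hd.trans (h2 ▸ h1)
    obtain ⟨S⟩ : Nonempty (Sylow p M) := inferInstance
    obtain ⟨S', hS'⟩ : ∃ S' : Sylow p L, (S' : Subgroup L) = (S : Subgroup M).map M.subtype := by
      refine ⟨(S.isPGroup'.map M.subtype).toSylow ?_, rfl⟩
      rw [index_map_subtype]
      exact fun h => ((Fact.out : p.Prime).dvd_mul.mp h).elim S.not_dvd_index hidx
    obtain ⟨g, hg⟩ := MulAction.exists_smul_eq L S' P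
    have hYM : Y ≤ M.map (MulAut.conj g).toMonoidHom := by
      refine hYP.trans ?_
      rw [← hg, Sylow.coe_subgroup_smul, hS']
      exact map_mono (map_subtype_le _)
    have hMg : IsCoatom (M.map (MulAut.conj g).toMonoidHom) :=
      ((MulAut.conj g).mapSubgroup.isCoatom_iff M).mpr hM
    have hMgL : M.map (MulAut.conj g).toMonoidHom = L₀ :=
      (hu _ ⟨hMg, hYM⟩).trans (hu L₀ ⟨hL₀, hYP.trans hPL⟩).symm
    refine hDM fun d hd => ?_
    have h4 : g * d * g⁻¹ ∈ M.map (MulAut.conj g).toMonoidHom := by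
      rw [hMgL]
      exact hDL ((normalCore_normal L₀).conj_mem d hd g)
    obtain ⟨y, hy, hye⟩ := h4
    exact (MulAut.conj g).injective (hye : MulAut.conj g y = MulAut.conj g d) ▸ hy
  have hle2 : frattini (L ⧸ O) ≤ D.map π := by
    intro q hq
    obtain ⟨x, rfl⟩ := hsurj q
    refine ⟨x, fun g => ?_, rfl⟩
    have hc : IsCoatom (L₀.map (MulAut.conj g⁻¹).toMonoidHom) :=
      ((MulAut.conj g⁻¹).mapSubgroup.isCoatom_iff L₀).mpr hL₀
    have hOg : O ≤ L₀.map (MulAut.conj g⁻¹).toMonoidHom := fun o ho =>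
      ⟨g * o * g⁻¹, hO ((inferInstance : O.Normal).conj_mem o ho g), by simp [mul_assoc]⟩
    have h1 := frattini_le_coatom (isCoatom_map_mk O hc hOg) hq
    obtain ⟨y, hy, hxy⟩ := h1
    have h2 : x ∈ L₀.map (MulAut.conj g⁻¹).toMonoidHom := by
      have h3 : y⁻¹ * x ∈ O := QuotientGroup.eq.mp hxy
      simpa using mul_mem hy (hOg h3)
    obtain ⟨z, hz, hzx⟩ := h2
    rw [← hzx]
    simpa [mul_assoc] using hz
  have hfr := le_antisymm hle1 hle2
  refine ⟨⟨hOD, hfr, hDcl⟩, fun N hN hNL => ?_⟩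
  have hND : N ≤ D := normal_le_normalCore.mpr hNL
  have hNcl : Cfsg.IsPClosed p ↥N := (isPClosed_normal_iff N).mpr fun x hx hk => helD x (hND hx) hk
  refine ⟨hNcl, ?_⟩
  set f := π.comp N.subtype with hf
  have hker : f.ker = Cfsg.pCore p ↥N := by
    refine le_antisymm (le_pCore inferInstance ?_) fun x hx => ?_
    · have h : IsPGroup p ↥(O.comap N.subtype) := (isPGroup_pCore p L).comap_of_injective N.subtype N.subtype_injective
      refine h.to_le fun x hx => ?_
      exact (QuotientGroup.eq_one_iff (x : L)).mp hx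
    · exact (QuotientGroup.eq_one_iff (x : L)).mpr ((isPClosed_normal_iff N).mp hNcl x x.2
        (exists_pow_eq_one_of_mem ((isPGroup_pCore p ↥N).map N.subtype) ⟨x, hx, rfl⟩))
  have e : ↥N ⧸ Cfsg.pCore p ↥N ≃* f.range :=
    (QuotientGroup.quotientMulEquivOfEq hker.symm).trans (QuotientGroup.quotientKerEquivRange f)
  have hrange : f.range ≤ D.map π := by
    rintro _ ⟨x, rfl⟩
    exact ⟨x, hND x.2, rfl⟩
  have hnil : Group.IsNilpotent f.range := by
    haveI := frattini_nilpotent (G := L ⧸ O)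
    exact _root_.isNilpotent_of_ker_le_center (Subgroup.inclusion (hrange.trans hle1)) (by
      rw [(MonoidHom.ker_eq_bot_iff _).mpr (Subgroup.inclusion_injective _)]
      exact bot_le)
  refine ⟨_root_.isNilpotent_of_ker_le_center e.toMonoidHom (by
    rw [(MonoidHom.ker_eq_bot_iff _).mpr e.injective]
    exact bot_le), ?_⟩
  rw [Nat.card_congr e.toEquiv]
  exact Nat.Coprime.coprime_dvd_left (card_dvd_of_le hrange)
    ((Fact.out : p.Prime).coprime_iff_not_dvd.mpr hDp).symm

/-- Let L be a finite group, L₀ a maximal subgroup, T a Sylow p-subgroup of L₀, Y ≤ T, and suppose L is Y-minimal. Let D be the intersection of the conjugates of L₀ (the core of L₀). Then D contains O_p(L) and D/O_p(L) is the Frattini subgroup of L/O_p(L), so D is p-closed; and every normal subgroup N of L contained in L₀ is p-closed with N/O_p(N) a nilpotent group of order prime to p. -/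
theorem result {L : Type*} [Group L] [Finite L] {p : ℕ} [Fact p.Prime] (L₀ : Subgroup L) (hL₀ : IsCoatom L₀) (T : Sylow p ↥L₀) (Y : Subgroup L) (hYT : Y ≤ (T : Subgroup ↥L₀).map L₀.subtype) (hmin : Cfsg.IsMinimalOver Y) : (Cfsg.pCore p L ≤ L₀.normalCore ∧ (L₀.normalCore).map (QuotientGroup.mk' (Cfsg.pCore p L)) = frattini (L ⧸ Cfsg.pCore p L) ∧ Cfsg.IsPClosed p ↥(L₀.normalCore)) ∧ ∀ (N : Subgroup L) [N.Normal], N ≤ L₀ → Cfsg.IsPClosed p ↥N ∧ Group.IsNilpotent (↥N ⧸ Cfsg.pCore p ↥N) ∧ (Nat.card (↥N ⧸ Cfsg.pCore p ↥N)).Coprime p := by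
  exact aux L₀ hL₀ T Y hYT hmin

end Cfsg.Agent.S2836
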