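import Cfsg.Statements.S2837
import Cfsg.Agent.S2835
import Cfsg.Agent.PReduced.Hom
import Cfsg.Agent.PReduced.CharP
import Cfsg.Agent.CoprimeAction.Frattini

set_option autoImplicit false
open Cfsg

namespace Cfsg.Agent.S2837

open Subgroup CfsgLib.PReduced
open scoped commutatorElement

/-- An abelian subgroup normalized by `O` normalizes the joins of its intersection with `O` inside `O`. -/
theorem le_normalizer_join {L : Type*} [Group L] {O Y X : Subgroup L} [O.Normal] (hO : O ≤ normalizer (Y : Set L))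
    (hc : Y ≤ centralizer (Y : Set L)) (hX : X ≤ O) : Y ≤ normalizer (((O ⊓ Y) ⊔ X : Subgroup L) : Set L) := by
  have key : ∀ y ∈ Y, ∀ x ∈ (O ⊓ Y) ⊔ X, y * x * y⁻¹ ∈ (O ⊓ Y) ⊔ X := by
    intro y hy x hx
    have hxO : x ∈ O := sup_le inf_le_left hX hx
    have h1 : y * x * y⁻¹ * x⁻¹ ∈ O ⊓ Y := by
      refine ⟨O.mul_mem ((inferInstance : O.Normal).conj_mem x hxO y) (O.inv_mem hxO), ?_⟩
      rw [show y * x * y⁻¹ * x⁻¹ = y * (x * y⁻¹ * x⁻¹) by group]
      exact Y.mul_mem hy ((mem_normalizer_iff.mp (hO hxO) _).mp (Y.inv_mem hy))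
    simpa using mul_mem (mem_sup_left (T := X) h1) hx
  intro y hy
  refine mem_normalizer_iff.mpr fun x => ⟨key y hy x, fun h => ?_⟩
  simpa [mul_assoc] using key y⁻¹ (Y.inv_mem hy) _ h

/-- Let L be a finite group of characteristic p, L₀ a maximal subgroup, Y an elementary abelian p-subgroup of L₀ with L Y-minimal and O_p(L) ≤ N_L(Y). Put A = the normal closure of O_p(L) ∩ Y in L. Then for every g ∈ L outside L₀: Φ(A) = A' = [A ∩ Y, A] = [A ∩ Y, A ∩ gYg⁻¹] ≤ C_Y(L), and Y ∩ gYg⁻¹ = (A ∩ Y) ∩ (A ∩ gYg⁻¹) = C_Y(L) = C_A(L). -/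
theorem result {L : Type*} [Group L] [Finite L] {p : ℕ} [Fact p.Prime] (hchar : Subgroup.centralizer (Cfsg.pCore p L : Set L) ≤ Cfsg.pCore p L) (L₀ : Subgroup L) (hL₀ : IsCoatom L₀) (Y : Subgroup L) (hYL₀ : Y ≤ L₀) (hYel : Cfsg.IsElementaryAbelian p Y) (hmin : Cfsg.IsMinimalOver Y) (hOY : Cfsg.pCore p L ≤ Subgroup.normalizer (Y : Set L)) (A : Subgroup L) (hA : A = Subgroup.normalClosure (((Cfsg.pCore p L ⊓ Y : Subgroup L)) : Set L)) (g : L) (hg : g ∉ L₀) : (frattini ↥A).map A.subtype = ⁅A, A⁆ ∧ ⁅A, A⁆ = ⁅A ⊓ Y, A⁆ ∧ ⁅A ⊓ Y, A⁆ = ⁅A ⊓ Y, A ⊓ Y.map (MulAut.conj g).toMonoidHom⁆ ∧ ⁅A ⊓ Y, A⁆ ≤ Y ⊓ Subgroup.center L ∧ Y ⊓ Y.map (MulAut.conj g).toMonoidHom = Y ⊓ Subgroup.center L ∧ (A ⊓ Y) ⊓ (A ⊓ Y.map (MulAut.conj g).toMonoidHom) = Y ⊓ Subgroup.center L ∧ A ⊓ Subgroup.center L = Y ⊓ Subgroup.center L := by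
  obtain ⟨T, hT⟩ := ((isPGroup_of_isElementaryAbelian hYel).of_equiv
    (subgroupOfEquivOfLe hYL₀).symm).exists_le_sylow
  have hYT : Y ≤ (T : Subgroup ↥L₀).map L₀.subtype := by
    rw [← map_subgroupOf_eq_of_le hYL₀]
    exact map_mono hT
  obtain ⟨-, -, -, -, hgen, hcap⟩ := Cfsg.Agent.S2835.result L₀ hL₀ T Y hYT hmin
  have hcap := hcap hYel.1 g hg
  have hgen := hgen g hg
  set O := Cfsg.pCore p L with hOdef
  haveI hOn : O.Normal := by
    haveI := CfsgLib.PCore.pCore_characteristic p L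
    infer_instance
  set B := O ⊓ Y with hB
  set Y' := Y.map (MulAut.conj g).toMonoidHom with hY'
  set B' := B.map (MulAut.conj g).toMonoidHom with hB'
  have hc : Y ≤ centralizer (Y : Set L) := le_centralizer_self hYel
  have hB'eq : B' = O ⊓ Y' := by
    rw [hB', hB, Subgroup.map_inf _ _ _ (MulAut.conj g).injective]
    congr 1
    exact mem_normalizer_iff_map_conj_eq.mp (by rw [normalizer_eq_top]; exact mem_top g)
  have hc' : Y' ≤ centralizer (Y' : Set L) := le_centralizer_self (isElementaryAbelian_map _ hYel)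
  have hO' : O ≤ normalizer (Y' : Set L) := by
    refine le_trans ?_ (le_normalizer_map (MulAut.conj g).toMonoidHom)
    intro o ho
    exact ⟨g⁻¹ * o * g, hOY (by simpa using hOn.conj_mem o ho g⁻¹), by simp [mul_assoc]⟩
  have hn : B ⊔ B' = A := by
    have hnorm : (B ⊔ B').Normal := by
      refine normalizer_eq_top_iff.mp (top_le_iff.mp (hgen ▸ sup_le ?_ ?_))
      · exact le_normalizer_join hOY hc (hB'eq ▸ inf_le_left)
      · rw [sup_comm B B', hB'eq]
        exact le_normalizer_join hO' hc' inf_le_left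
    rw [hA]
    refine le_antisymm (sup_le subset_normalClosure ?_) (normalClosure_le_normal (N := B ⊔ B') (SetLike.coe_subset_coe.mpr le_sup_left))
    rintro _ ⟨b, hb, rfl⟩
    exact normalClosure_normal.conj_mem b (subset_normalClosure hb) g
  have hAO : A ≤ O := hn ▸ sup_le inf_le_left (hB'eq ▸ inf_le_left)
  have hAY : A ⊓ Y = B := le_antisymm (inf_le_inf_right _ hAO) (le_inf (hn ▸ le_sup_left) inf_le_right)
  have hAY' : A ⊓ Y' = B' :=
    le_antisymm ((inf_le_inf_right _ hAO).trans hB'eq.ge) (le_inf (hn ▸ le_sup_right) (hB'eq.le.trans inf_le_right))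
  -- central part
  have hZ : Y ⊓ center L ≤ O := le_trans (fun z hz => hz) (le_pCore (p := p) (N := Y ⊓ center L) ⟨fun z hz x => by
    rwa [mem_center_iff.mp hz.2 x, mul_inv_cancel_right]⟩ ((isPGroup_of_isElementaryAbelian hYel).to_le inf_le_left))
  have hBB : B ⊓ B' = Y ⊓ center L := by
    refine le_antisymm ?_ ?_
    · rw [← hcap]
      exact le_inf (inf_le_left.trans inf_le_right) (inf_le_right.trans (hB'eq.le.trans inf_le_right))
    · rw [hB'eq]
      exact le_inf (le_inf hZ inf_le_left) (le_inf hZ (hcap.ge.trans inf_le_right))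
  have hcomm : ⁅B, B'⁆ ≤ Y ⊓ center L := by
    rw [← hBB, hB'eq]
    refine le_inf (le_inf ?_ ?_) (le_inf ?_ ?_)
    · exact (commutator_mono inf_le_left inf_le_left).trans (commutator_le_left O O)
    · refine (commutator_mono inf_le_right inf_le_left).trans ?_
      exact CfsgLib.PCore.commutator_le_of_le_normalizer hOY
    · exact (commutator_mono inf_le_left inf_le_left).trans (commutator_le_left O O)
    · rw [commutator_comm]
      refine (commutator_mono inf_le_right inf_le_left).trans ?_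
      exact CfsgLib.PCore.commutator_le_of_le_normalizer hO'
  -- commutators
  set D := ⁅B, B'⁆ with hD
  haveI hDn : D.Normal := ⟨fun z hz x => by rwa [mem_center_iff.mp (hcomm hz).2 x, mul_inv_cancel_right]⟩
  let π := QuotientGroup.mk' D
  have hab : A.map π ≤ centralizer ((A.map π : Subgroup (L ⧸ D)) : Set (L ⧸ D)) := by
    have h12 : B.map π ≤ centralizer ((B'.map π : Subgroup (L ⧸ D)) : Set (L ⧸ D)) := by
      refine commutator_eq_bot_iff_le_centralizer.mp ?_
      rw [← map_commutator, Subgroup.map_eq_bot_iff, QuotientGroup.ker_mk']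
    have h11 : B.map π ≤ centralizer ((B.map π : Subgroup (L ⧸ D)) : Set (L ⧸ D)) := by
      refine commutator_eq_bot_iff_le_centralizer.mp ?_
      rw [← map_commutator, commutator_eq_bot_iff_le_centralizer.mpr ((inf_le_right.trans hc).trans
        (centralizer_le (inf_le_right : B ≤ Y))), Subgroup.map_bot]
    have h22 : B'.map π ≤ centralizer ((B'.map π : Subgroup (L ⧸ D)) : Set (L ⧸ D)) := by
      refine commutator_eq_bot_iff_le_centralizer.mp ?_
      rw [← map_commutator, commutator_eq_bot_iff_le_centralizer.mpr (((hB'eq.le.trans inf_le_right).trans hc').trans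
        (centralizer_le (hB'eq.le.trans inf_le_right : B' ≤ Y'))), Subgroup.map_bot]
    rw [← hn, Subgroup.map_sup]
    refine sup_le (le_centralizer_iff.mpr (sup_le h11 ?_)) (le_centralizer_iff.mpr (sup_le h12 h22))
    exact le_centralizer_iff.mp h12
  have hAA : ⁅A, A⁆ = D := by
    refine le_antisymm ?_ (commutator_mono (hn ▸ le_sup_left) (hn ▸ le_sup_right))
    have h := commutator_eq_bot_iff_le_centralizer.mpr hab
    rw [← map_commutator, Subgroup.map_eq_bot_iff, QuotientGroup.ker_mk'] at h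
    exact h
  have hBA : ⁅A ⊓ Y, A⁆ = D := by
    rw [hAY]
    exact le_antisymm ((commutator_mono (hn ▸ le_sup_left) le_rfl).trans hAA.le)
      (commutator_mono le_rfl (hn ▸ le_sup_right))
  refine ⟨?_, by rw [hAA, hBA], by rw [hBA, hAY, hAY'], hBA ▸ hcomm, hcap, by rw [hAY, hAY', hBB], ?_⟩
  · have hAp : IsPGroup p A := (isPGroup_pCore p L).to_le hAO
    refine le_antisymm ?_ ?_
    · rw [hAA]
      rintro _ ⟨x, hx, rfl⟩
      have hgenp : ∀ a ∈ A.map π, a ^ p = 1 := by
        have hc2 : ∀ a ∈ A.map π, ∀ b ∈ A.map π, Commute a b := fun a ha b hb => mem_centralizer_iff.mp (hab hb) a ha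
        have hle : A.map π ≤ closure {a | a ∈ A.map π ∧ a ^ p = 1} := by
          rw [← hn, Subgroup.map_sup]
          refine sup_le ?_ ?_
          · rintro _ ⟨b, hb, rfl⟩
            refine subset_closure ⟨?_, ?_⟩
            · rw [← Subgroup.map_sup]; exact mem_map_of_mem π (mem_sup_left hb)
            · rw [← map_pow, hYel.2 b hb.2, map_one]
          · rintro _ ⟨b, hb, rfl⟩
            refine subset_closure ⟨?_, ?_⟩
            · rw [← Subgroup.map_sup]; exact mem_map_of_mem π (mem_sup_right hb)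
            · rw [← map_pow, (isElementaryAbelian_map _ hYel).2 b (hB'eq.le hb).2, map_one]
        intro a ha
        refine (closure_induction (p := fun a _ => a ∈ A.map π ∧ a ^ p = 1) (fun _ h => h)
          ⟨one_mem _, one_pow p⟩ (fun a b _ _ ha hb => ⟨mul_mem ha.1 hb.1, by
            rw [(hc2 a ha.1 b hb.1).mul_pow, ha.2, hb.2, one_mul]⟩)
          (fun a _ ha => ⟨inv_mem ha.1, by rw [inv_pow, ha.2, inv_one]⟩) (hle ha)).2
      have h := frattini_le_of_exponent (π.comp A.subtype)
        (fun a b => mem_centralizer_iff.mp (hab (mem_map_of_mem π b.2)) _ (mem_map_of_mem π a.2))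
        (fun a => hgenp _ (mem_map_of_mem π a.2)) hx
      exact (QuotientGroup.eq_one_iff _).mp h
    · have e : (commutator ↥A).map A.subtype = ⁅A, A⁆ := by
        rw [_root_.commutator_def, Subgroup.map_commutator, ← MonoidHom.range_eq_map, Subgroup.range_subtype]
      rw [← e]
      exact map_mono (CfsgLib.CoprimeAction.commutator_le_frattini' hAp)
  · refine le_antisymm ?_ (le_inf ?_ inf_le_right)
    · intro z hz
      refine ⟨?_, hz.2⟩
      have hzA : z ∈ B ⊔ B' := hn.symm ▸ hz.1
      have hBn : B' ≤ normalizer (B : Set L) := by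
        rw [hB, hB'eq]
        exact fun x hx => inf_normalizer_le_normalizer_inf
          ⟨by rw [normalizer_eq_top]; exact mem_top x, hOY hx.1⟩
      rw [← SetLike.mem_coe, coe_mul_of_right_le_normalizer_left _ _ hBn] at hzA
      obtain ⟨b, hb, c, hc2, rfl⟩ := hzA
      have hcZ : c ∈ center L := by
        rw [mem_center_iff]
        intro x
        have hx : x ∈ Y ⊔ Y' := hgen.symm ▸ mem_top x
        refine mem_centralizer_singleton_iff.mp (?_ : x ∈ centralizer ({c} : Set L))
        refine (sup_le ?_ ?_ : Y ⊔ Y' ≤ centralizer ({c} : Set L)) hx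
        · intro y hy
          rw [mem_centralizer_singleton_iff]
          have h1 : y * b = b * y := mem_centralizer_iff.mp (hc hb.2) y hy
          have h2 : y * (b * c) = b * c * y := mem_center_iff.mp hz.2 y
          refine (mul_right_inj b).mp ?_
          rw [← mul_assoc, ← mul_assoc, ← h1, mul_assoc, h2]
        · intro y hy
          rw [mem_centralizer_singleton_iff]
          exact mem_centralizer_iff.mp (hc' (hB'eq.le hc2).2) y hy
      have hcY : c ∈ Y ⊓ Y' := by
        refine ⟨?_, (hB'eq.le hc2).2⟩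
        obtain ⟨w, hw, he⟩ := hc2
        have e : g⁻¹ * c * g = c := by rw [mul_assoc, ← mem_center_iff.mp hcZ g, inv_mul_cancel_left]
        rw [← e, ← he]
        simpa [mul_assoc] using hw.2
      exact Y.mul_mem hb.2 hcY.1
    · exact fun z hz => (le_inf hZ inf_le_left).trans (hn ▸ le_sup_left) hz

end Cfsg.Agent.S2837
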