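import Cfsg.Statements.S2838
import Cfsg.Agent.PReduced.WeaklyClosed

set_option autoImplicit false
open Cfsg

namespace Cfsg.Agent.S2838

/-- For a nontrivial p-subgroup Q of a finite group H the following are equivalent: Q is a weakly closed subgroup (it is the only H-conjugate of itself inside some Sylow p-subgroup containing it); Q = P for every conjugate P of Q with [Q, P] ≤ Q ∩ P; Q is normal in N_H(R) for every p-subgroup R of H containing Q. -/
theorem result {H : Type*} [Group H] [Finite H] {p : ℕ} [Fact p.Prime] (Q : Subgroup H) (hQp : IsPGroup p ↥Q) (hQ1 : Q ≠ ⊥) : (Cfsg.IsWeaklyClosedSubgroup p Q ↔ ∀ g : H, ⁅Q, ((Q : Subgroup H).map (MulAut.conj (g : H)).toMonoidHom)⁆ ≤ Q ⊓ ((Q : Subgroup H).map (MulAut.conj (g : H)).toMonoidHom) → ((Q : Subgroup H).map (MulAut.conj (g : H)).toMonoidHom) = Q) ∧ (Cfsg.IsWeaklyClosedSubgroup p Q ↔ ∀ R : Subgroup H, IsPGroup p ↥R → Q ≤ R → Subgroup.normalizer ((R : Subgroup H) : Set H) ≤ Subgroup.normalizer ((Q : Subgroup H) : Set H)) := by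
  open CfsgLib.PReduced in
  refine ⟨⟨fun h g hg => ?_, isWeaklyClosedSubgroup_of_commutator hQp⟩,
    ⟨fun h R hR hQR => CfsgLib.PReduced.normalizer_le_of_weaklyClosed h hR hQR,
      CfsgLib.PReduced.isWeaklyClosedSubgroup_of_normalizer hQp⟩⟩
  set Q' := Q.map (MulAut.conj g).toMonoidHom with hQ'
  have hn : Q' ≤ Subgroup.normalizer (Q : Set H) := by
    intro b hb
    rw [← Subgroup.inv_mem_iff]
    refine Subgroup.mem_normalizer_fintype fun a ha => ?_
    have h1 := (hg (Subgroup.commutator_mem_commutator (inv_mem ha) (inv_mem hb))).1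
    have h2 := mul_mem ha h1
    simpa [commutatorElement_def, mul_assoc] using h2
  exact CfsgLib.PReduced.conj_eq_of_le h ((hQp.map _).to_sup_of_normal_right' hQp hn) le_sup_right le_sup_left

end Cfsg.Agent.S2838
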