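import Cfsg.Statements.S2839
import Cfsg.Agent.PReduced.WeaklyClosed
import Cfsg.Agent.Transfer.Residual

set_option autoImplicit false
open Cfsg

namespace Cfsg.Agent.S2839

/-- Let Q be a nontrivial p-subgroup of the finite group H that is a weakly closed subgroup, K a subgroup containing Q and N a normal subgroup of H. Then Q is a weakly closed subgroup of K; every H-conjugate of Q contained in K is a K-conjugate of Q; N_K(Q) contains a Sylow p-subgroup of K; N = N_N(Q)·O^p(N); and QN/N is a weakly closed subgroup of H/N. -/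
theorem result {H : Type*} [Group H] [Finite H] {p : ℕ} [Fact p.Prime] (Q : Subgroup H) (hQp : IsPGroup p ↥Q) (hQ1 : Q ≠ ⊥) (hwc : Cfsg.IsWeaklyClosedSubgroup p Q) (K : Subgroup H) (hQK : Q ≤ K) (N' : Subgroup H) [N'.Normal] : Cfsg.IsWeaklyClosedSubgroup p (Q.subgroupOf K) ∧ (∀ g : H, ((Q : Subgroup H).map (MulAut.conj (g : H)).toMonoidHom) ≤ K → ∃ k ∈ K, ((Q : Subgroup H).map (MulAut.conj (g : H)).toMonoidHom) = ((Q : Subgroup H).map (MulAut.conj (k : H)).toMonoidHom)) ∧ Cfsg.IsParabolic p ((Subgroup.normalizer ((Q : Subgroup H) : Set H)).subgroupOf K) ∧ (N' ⊓ Subgroup.normalizer ((Q : Subgroup H) : Set H)) ⊔ (Cfsg.pResidual p ↥N').map N'.subtype = N' ∧ Cfsg.IsWeaklyClosedSubgroup p (Q.map (QuotientGroup.mk' N')) := by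
  open Subgroup CfsgLib.PReduced in
  obtain ⟨A, hA⟩ := (hQp.comap_of_injective K.subtype K.subtype_injective).exists_le_sylow
  set A' := (A : Subgroup ↥K).map K.subtype with hA'
  have hA'p : IsPGroup p A' := A.isPGroup'.map _
  have hQA : Q ≤ A' := fun x hx => ⟨⟨x, hQK hx⟩, hA hx, rfl⟩
  have hA'n : A' ≤ Subgroup.normalizer (Q : Set H) :=
    Subgroup.le_normalizer.trans (CfsgLib.PReduced.normalizer_le_of_weaklyClosed hwc hA'p hQA)
  refine ⟨⟨A, hA, fun k hk => ?_⟩, fun g hg => CfsgLib.PReduced.exists_conj_eq_of_le hQp hwc hQK hg,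
    ⟨A, fun x hx => hA'n ⟨x, hx, rfl⟩⟩, ?_, ?_⟩
  · refine Subgroup.map_injective K.subtype_injective ?_
    have hm : ((Q.subgroupOf K).map (MulAut.conj k).toMonoidHom).map K.subtype =
        Q.map (MulAut.conj (k : H)).toMonoidHom := by
      conv_rhs => rw [← Subgroup.map_subgroupOf_eq_of_le hQK]
      rw [Subgroup.map_map, Subgroup.map_map]
      rfl
    rw [hm, Subgroup.map_subgroupOf_eq_of_le hQK]
    exact CfsgLib.PReduced.conj_eq_of_le hwc hA'p hQA (hm ▸ Subgroup.map_mono hk)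
  · obtain ⟨T, hQT, hu⟩ := hwc
    have hTQ : (T : Subgroup H) ≤ Subgroup.normalizer (Q : Set H) :=
      Subgroup.le_normalizer.trans (CfsgLib.PReduced.normalizer_le_of_weaklyClosed ⟨T, hQT, hu⟩ T.isPGroup' hQT)
    obtain ⟨P, hP⟩ := CfsgLib.PReduced.exists_sylow_inf T N'
    refine le_antisymm (sup_le inf_le_left (Subgroup.map_subtype_le _)) ?_
    have h := congrArg (Subgroup.map N'.subtype) (CfsgLib.Transfer.pResidual_sup_sylow P)
    rw [Subgroup.map_sup, hP, ← MonoidHom.range_eq_map, Subgroup.range_subtype,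
      Subgroup.map_subgroupOf_eq_of_le inf_le_right, sup_comm] at h
    exact h.ge.trans (sup_le_sup_right (le_inf inf_le_right (inf_le_left.trans hTQ)) _)
  · obtain ⟨T, hQT, hu⟩ := id hwc
    refine ⟨T.mapSurjective (QuotientGroup.mk'_surjective N'), Subgroup.map_mono hQT, fun g hg => ?_⟩
    obtain ⟨g, rfl⟩ := QuotientGroup.mk'_surjective N' g
    have hmap : ∀ x : H, (Q.map (QuotientGroup.mk' N')).map (MulAut.conj (QuotientGroup.mk' N' x)).toMonoidHom =
        (Q.map (MulAut.conj x).toMonoidHom).map (QuotientGroup.mk' N') := by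
      intro x
      rw [Subgroup.map_map, Subgroup.map_map]
      rfl
    rw [hmap] at hg ⊢
    have hle : Q.map (MulAut.conj g).toMonoidHom ≤ N' ⊔ (T : Subgroup H) := by
      have h1 := Subgroup.map_le_iff_le_comap.mp hg
      rw [Sylow.coe_mapSurjective, Subgroup.comap_map_eq, QuotientGroup.ker_mk', sup_comm] at h1
      exact h1
    obtain ⟨k, hk, hke⟩ := CfsgLib.PReduced.exists_conj_eq_of_le hQp hwc (hQT.trans le_sup_right) hle
    obtain ⟨n, hn, t, ht, rfl⟩ := Subgroup.mem_sup_of_normal_left.mp hk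
    have htQ : Q.map (MulAut.conj t).toMonoidHom = Q := CfsgLib.Subnormal.conj_eq_self_iff.mpr
      (CfsgLib.PReduced.normalizer_le_of_weaklyClosed hwc T.isPGroup' hQT (Subgroup.le_normalizer ht))
    rw [hke, ← CfsgLib.Subnormal.conj_conj, htQ, ← hmap, (QuotientGroup.eq_one_iff n).mpr hn |> fun e =>
      (show QuotientGroup.mk' N' n = 1 from e), CfsgLib.Subnormal.conj_one]

end Cfsg.Agent.S2839
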