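import Cfsg.Statements.S2841
import Cfsg.Agent.PReduced.WeaklyClosed

set_option autoImplicit false
open Cfsg

namespace Cfsg.Agent.S2841

open scoped commutatorElement in
open Subgroup CfsgLib.PReduced in
/-- The second factorization. -/
theorem second {H : Type*} [Group H] [Finite H] {p : ℕ} [Fact p.Prime] (Q : Subgroup H) (hQp : IsPGroup p ↥Q)
    (hwc : Cfsg.IsWeaklyClosedSubgroup p Q) (N : Subgroup H) (hQN : Q ≤ normalizer (N : Set H)) :
    ∀ c ∈ ⁅N, Q⁆, ∃ a ∈ Q ⊓ ⁅N, Q⁆, ∃ b ∈ ⁅⁅N, Q⁆, Q⁆, c = a * b := by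
  set D := ⁅N, Q⁆ with hD
  set E := ⁅D, Q⁆ with hE
  have hND : N ≤ normalizer (D : Set H) := CfsgLib.CoprimeAction.self_le_normalizer_commutator
  have hQD : Q ≤ normalizer (D : Set H) := CfsgLib.CoprimeAction.le_normalizer_commutator hQN
  have hDE : D ≤ normalizer (E : Set H) := CfsgLib.CoprimeAction.self_le_normalizer_commutator
  have hsup : D ≤ (Q ⊓ D) ⊔ E := by
    refine commutator_le.mpr fun n hn q hq => ?_
    obtain ⟨a, ha, b, hb, rfl⟩ := exists_normalizer_mul_commutator hQp hwc hQN hn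
    have h1 : a * ⁅b, q⁆ * a⁻¹ ∈ E := by
      have haE : a ∈ normalizer (E : Set H) := by
        rw [hE, mem_normalizer_iff_map_conj_eq, Subgroup.map_commutator,
          mem_normalizer_iff_map_conj_eq.mp (hND ha.1), mem_normalizer_iff_map_conj_eq.mp ha.2]
      exact (mem_normalizer_iff.mp haE _).mp (commutator_mem_commutator hb hq)
    have h2 : ⁅a, q⁆ ∈ Q ⊓ D := by
      refine mem_inf.mpr ⟨?_, commutator_mem_commutator ha.1 hq⟩
      rw [commutatorElement_def]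
      exact mul_mem ((mem_normalizer_iff.mp ha.2 q).mp hq) (inv_mem hq)
    have h3 := mul_mem (mem_sup_right (S := Q ⊓ D) h1) (mem_sup_left (T := E) h2)
    simpa [commutatorElement_def, mul_assoc] using h3
  intro c hc
  have h4 := hsup hc
  rw [← SetLike.mem_coe, coe_mul_of_left_le_normalizer_right _ _ (inf_le_right.trans hDE)] at h4
  obtain ⟨a, ha, b, hb, rfl⟩ := h4
  exact ⟨a, ha, b, hb, rfl⟩

/-- Let Q be a nontrivial p-subgroup of the finite group H that is a weakly closed subgroup and N a normal subgroup of H. Then N = N_N(Q)·[N, Q] and [N, Q] = (Q ∩ [N, Q])·[N, Q, Q]. -/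
theorem result {H : Type*} [Group H] [Finite H] {p : ℕ} [Fact p.Prime] (Q : Subgroup H) (hQp : IsPGroup p ↥Q) (hQ1 : Q ≠ ⊥) (hwc : Cfsg.IsWeaklyClosedSubgroup p Q) (N' : Subgroup H) [N'.Normal] : (∀ n : H, n ∈ N' → ∃ a ∈ N' ⊓ Subgroup.normalizer ((Q : Subgroup H) : Set H), ∃ b ∈ ⁅N', Q⁆, n = a * b) ∧ (∀ c : H, c ∈ ⁅N', Q⁆ → ∃ a ∈ Q ⊓ ⁅N', Q⁆, ∃ b ∈ ⁅⁅N', Q⁆, Q⁆, c = a * b) := by
  have hQN : Q ≤ Subgroup.normalizer (N' : Set H) := by
    rw [Subgroup.normalizer_eq_top]; exact le_top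
  exact ⟨fun n hn => CfsgLib.PReduced.exists_normalizer_mul_commutator hQp hwc hQN hn, second Q hQp hwc N' hQN⟩

end Cfsg.Agent.S2841
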