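import Cfsg.Statements.S2842
import Cfsg.Agent.PReduced.Large
import Cfsg.Agent.PReduced.CommutatorAction

set_option autoImplicit false
open Cfsg

namespace Cfsg.Agent.S2842

/-- Let Q be a nontrivial p-subgroup of the finite group H that is a weakly closed subgroup with C_H(Q) ≤ Q, and Q ≤ L ≤ H. Suppose H has characteristic p, or more generally that C_H(y) has characteristic p for some nonidentity y ∈ C_{O_p(L)}(Q). Then [Q, C_H(O_p(L))] ≤ Q ∩ O_p(L), C_H(O_p(L)) is a p-group, and L has characteristic p. -/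
theorem result {H : Type*} [Group H] [Finite H] {p : ℕ} [Fact p.Prime] (Q : Subgroup H) (hQp : IsPGroup p ↥Q) (hQ1 : Q ≠ ⊥) (hwc : Cfsg.IsWeaklyClosedSubgroup p Q) (hCQ : Subgroup.centralizer ((Q : Subgroup H) : Set H) ≤ Q) (L : Subgroup H) (hQL : Q ≤ L) (hyp : Subgroup.centralizer (Cfsg.pCore p H : Set H) ≤ Cfsg.pCore p H ∨ ∃ y : H, y ≠ 1 ∧ y ∈ (Cfsg.pCoreOf p L) ⊓ Subgroup.centralizer ((Q : Subgroup H) : Set H) ∧ Subgroup.centralizer (Cfsg.pCore p ↥(Subgroup.centralizer ({y} : Set H)) : Set ↥(Subgroup.centralizer ({y} : Set H))) ≤ Cfsg.pCore p ↥(Subgroup.centralizer ({y} : Set H))) : ⁅Q, Subgroup.centralizer (((Cfsg.pCoreOf p L) : Subgroup H) : Set H)⁆ ≤ Q ⊓ (Cfsg.pCoreOf p L) ∧ IsPGroup p ↥(Subgroup.centralizer (((Cfsg.pCoreOf p L) : Subgroup H) : Set H)) ∧ Subgroup.centralizer (Cfsg.pCore p ↥L : Set ↥L) ≤ Cfsg.pCore p ↥L := by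
  open Subgroup CfsgLib.PReduced in
  set P := Cfsg.pCoreOf p L with hP
  set C := Subgroup.centralizer (P : Set H) with hC
  have hPp : IsPGroup p P := CfsgLib.PReduced.isPGroup_pCoreOf L
  have hchar : CfsgLib.PReduced.CharPOf p C := by
    rcases hyp with h | ⟨y, -, hy, hy'⟩
    · have h1 := (CfsgLib.PReduced.charPOf_top h).inf_centralizer le_top hPp
      rwa [top_inf_eq] at h1
    · refine CfsgLib.PReduced.CharPOf.centralizer_mono (A := Subgroup.zpowers y) (Subgroup.zpowers_le.mpr hy.1) hPp ?_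
      rw [Subgroup.zpowers_eq_closure, Subgroup.centralizer_closure]
      exact (CfsgLib.PReduced.charPOf_iff _).mpr hy'
  have hQC : Q ≤ Subgroup.normalizer (C : Set H) := (hQL.trans (CfsgLib.PReduced.le_normalizer_pCoreOf L)).trans
    (CfsgLib.PReduced.normalizer_le_normalizer_centralizer _)
  set O := Cfsg.pCoreOf p C with hO
  have hOp : IsPGroup p O := CfsgLib.PReduced.isPGroup_pCoreOf C
  have hQO : Q ≤ Subgroup.normalizer (O : Set H) :=
    hQC.trans (CfsgLib.PReduced.normalizer_le_normalizer_pCoreOf C)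
  have hLO : L ≤ Subgroup.normalizer (O : Set H) :=
    ((CfsgLib.PReduced.le_normalizer_pCoreOf L).trans (CfsgLib.PReduced.normalizer_le_normalizer_centralizer _)).trans
      (CfsgLib.PReduced.normalizer_le_normalizer_pCoreOf C)
  have hOQ : O ≤ Subgroup.normalizer (Q : Set H) := le_sup_right.trans (Subgroup.le_normalizer.trans
    (CfsgLib.PReduced.normalizer_le_of_weaklyClosed hwc (hQp.to_sup_of_normal_right' hOp hQO) le_sup_left))
  have hOL : O ⊓ L ≤ P := CfsgLib.PReduced.le_pCoreOf inf_le_right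
    (fun l hl => Subgroup.inf_normalizer_le_normalizer_inf ⟨hLO hl, Subgroup.le_normalizer hl⟩) (hOp.to_le inf_le_left)
  set D := ⁅C, Q⁆ with hD
  have hDC : D ≤ C := CfsgLib.PCore.commutator_le_of_le_normalizer hQC
  have hCD : C ≤ Subgroup.normalizer (D : Set H) := CfsgLib.CoprimeAction.self_le_normalizer_commutator
  set Z := Q ⊓ O with hZ
  have hZP : Z ≤ P := (le_inf inf_le_right (inf_le_left.trans hQL)).trans hOL
  have hCZ : C ≤ Subgroup.centralizer (Z : Set H) := Subgroup.centralizer_le hZP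
  have hDO : D ≤ O := by
    refine CfsgLib.PReduced.le_pCoreOf hDC hCD (CfsgLib.PCore.isPGroup_of_forall_coprime D fun x hx hco => ?_)
    refine hchar x (hDC hx) hco ?_
    -- `[D, O] ≤ Z`
    have hCO : C ≤ Subgroup.normalizer (O : Set H) := CfsgLib.PReduced.le_normalizer_pCoreOf C
    have hQZ : Q ≤ Subgroup.normalizer (Z : Set H) := fun q hq =>
      Subgroup.inf_normalizer_le_normalizer_inf ⟨Subgroup.le_normalizer hq, hQO hq⟩
    have hOZ : O ≤ Subgroup.normalizer (Z : Set H) := fun q hq =>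
      Subgroup.inf_normalizer_le_normalizer_inf ⟨hOQ hq, Subgroup.le_normalizer hq⟩
    have hCZn : C ≤ Subgroup.normalizer (Z : Set H) := hCZ.trans (Subgroup.centralizer_le_normalizer _)
    have hQO' : ⁅Q, O⁆ ≤ Z := le_inf (CfsgLib.PCore.commutator_le_of_le_normalizer hOQ)
      (by rw [Subgroup.commutator_comm]; exact CfsgLib.PCore.commutator_le_of_le_normalizer hQO)
    have h1 : ⁅⁅C, Q⁆, O⁆ ≤ Z := by
      refine CfsgLib.PReduced.commutator_rotate_le hQZ hOZ hCZn ?_ ?_
      · refine (Subgroup.commutator_mono hQO' le_rfl).trans ?_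
        rw [Subgroup.commutator_eq_bot_iff_le_centralizer.mpr (Subgroup.le_centralizer_iff.mp hCZ)]
        exact bot_le
      · refine (Subgroup.commutator_mono (CfsgLib.PCore.commutator_le_of_le_normalizer hCO) le_rfl).trans ?_
        rw [Subgroup.commutator_comm]
        exact hQO'
    have hxC : Subgroup.zpowers x ≤ C := Subgroup.zpowers_le.mpr (hDC hx)
    refine Subgroup.zpowers_le.mp (CfsgLib.PCore.le_centralizer_of_stabilizes (K := O) (Q := Z) ?_ ?_ ?_)
    · obtain ⟨k, hk⟩ := IsPGroup.iff_card.mp (hOp.to_le (inf_le_right : Z ≤ O))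
      rw [Nat.card_zpowers, hk]
      exact hco.pow_right k
    · rw [Subgroup.commutator_comm]
      exact (Subgroup.commutator_mono (Subgroup.zpowers_le.mpr hx) le_rfl).trans h1
    · refine le_trans ?_ (Subgroup.le_centralizer_iff.mp (hxC.trans hCZ))
      rw [Subgroup.commutator_comm]
      exact (Subgroup.commutator_mono (Subgroup.zpowers_le.mpr hx) le_rfl).trans h1
  have hCNQ : C ≤ Subgroup.normalizer (Q : Set H) := by
    intro c hc
    obtain ⟨a, ha, b, hb, rfl⟩ := CfsgLib.PReduced.exists_normalizer_mul_commutator hQp hwc hQC hc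
    exact mul_mem ha.2 (hOQ (hDO hb))
  have h1 : ⁅Q, C⁆ ≤ Q ⊓ P := by
    have h2 := CfsgLib.PCore.commutator_le_of_le_normalizer hCNQ
    refine le_inf h2 ?_
    refine le_trans (le_inf ?_ (h2.trans hQL)) hOL
    rw [Subgroup.commutator_comm]
    exact hDO
  have hCQ_le : Subgroup.centralizer (Q : Set H) ≤ Q := by assumption
  have hCp : IsPGroup p C := by
    refine CfsgLib.PCore.isPGroup_of_forall_coprime C fun x hx hco => ?_
    refine CfsgLib.PReduced.eq_one_of_mem_isPGroup hQp (hCQ_le (Subgroup.zpowers_le.mp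
      (CfsgLib.PCore.le_centralizer_of_stabilizes (K := Q) (Q := Q ⊓ P) ?_ ?_ ?_))) hco
    · obtain ⟨k, hk⟩ := IsPGroup.iff_card.mp (hQp.to_le (inf_le_left : Q ⊓ P ≤ Q))
      rw [Nat.card_zpowers, hk]
      exact hco.pow_right k
    · exact (Subgroup.commutator_mono le_rfl (Subgroup.zpowers_le.mpr hx)).trans h1
    · refine le_trans ?_ (Subgroup.le_centralizer_iff.mp ((Subgroup.zpowers_le.mpr hx : _ ≤ C).trans
        (Subgroup.centralizer_le (inf_le_right : Q ⊓ P ≤ P))))
      exact (Subgroup.commutator_mono le_rfl (Subgroup.zpowers_le.mpr hx)).trans h1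
  exact ⟨h1, hCp, (CfsgLib.PReduced.charPOf_iff L).mp (CfsgLib.PReduced.charPOf_of_isPGroup_centralizer hCp)⟩

end Cfsg.Agent.S2842
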