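import Cfsg.Statements.S2843
import Cfsg.Agent.PReduced.Large

set_option autoImplicit false
open Cfsg

namespace Cfsg.Agent.S2843

/-- Let Q be a nontrivial large p-subgroup of the finite group H, Q ≤ L ≤ H, and Y a nontrivial p-subgroup of H normalized by L. Let L° be the weak closure of Q in L (generated by the conjugates of Q inside L). Then L° equals the weak closure of Q in L·C_H(Y), and [L°, C_H(Y)] ≤ O_p(L°); in particular C_H(Y) normalizes L°. -/
theorem result {H : Type*} [Group H] [Finite H] {p : ℕ} [Fact p.Prime] (Q : Subgroup H) (hQp : IsPGroup p ↥Q) (hQ1 : Q ≠ ⊥) (hL : Cfsg.IsLarge Q) (L : Subgroup H) (hQL : Q ≤ L) (Y : Subgroup H) (hYp : IsPGroup p ↥Y) (hY1 : Y ≠ ⊥) (hLY : L ≤ Subgroup.normalizer ((Y : Subgroup H) : Set H)) : Cfsg.weakClosure Q L = Cfsg.weakClosure Q (L ⊔ Subgroup.centralizer ((Y : Subgroup H) : Set H)) ∧ ⁅Cfsg.weakClosure Q L, Subgroup.centralizer ((Y : Subgroup H) : Set H)⁆ ≤ (Cfsg.pCoreOf p (Cfsg.weakClosure Q L)) ∧ Subgroup.centralizer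 ((Y : Subgroup H) : Set H) ≤ Subgroup.normalizer (((Cfsg.weakClosure Q L) : Subgroup H) : Set H) := by
  open Subgroup CfsgLib.PReduced in
  set C := Subgroup.centralizer (Y : Set H) with hC
  set W := Cfsg.weakClosure Q L with hW
  have hLC : L ≤ Subgroup.normalizer (C : Set H) :=
    hLY.trans (CfsgLib.PReduced.normalizer_le_normalizer_centralizer Y)
  have hconj : ∀ g : H, Q.map (MulAut.conj g).toMonoidHom ≤ L →
      C ≤ Subgroup.normalizer ((Q.map (MulAut.conj g).toMonoidHom : Subgroup H) : Set H) := fun g hg =>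
    CfsgLib.PReduced.centralizer_le_normalizer_of_large (hQp.map _) (CfsgLib.PReduced.isLarge_map_conj hL g) hYp
      (hg.trans hLY) hY1
  have hCW : C ≤ Subgroup.normalizer (W : Set H) := by
    intro c hc
    rw [Subgroup.mem_normalizer_iff_map_conj_eq, hW, Cfsg.weakClosure, Subgroup.map_iSup]
    exact iSup_congr fun g => Subgroup.mem_normalizer_iff_map_conj_eq.mp (hconj g g.2 hc)
  have hWL : W ≤ L := iSup_le fun g => g.2
  refine ⟨le_antisymm (iSup_le fun g => le_iSup_of_le ⟨g, g.2.trans le_sup_left⟩ le_rfl) (iSup_le fun g => ?_), ?_, hCW⟩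
  · obtain ⟨k, hk, hke⟩ := CfsgLib.PReduced.exists_conj_eq_of_le hQp
      (CfsgLib.PReduced.isWeaklyClosedSubgroup_of_large hQp hQ1 hL) (hQL.trans le_sup_left) g.2
    rw [← SetLike.mem_coe, Subgroup.coe_mul_of_left_le_normalizer_right _ _ hLC] at hk
    obtain ⟨l, hl, c, hc, rfl⟩ := hk
    rw [hke, ← CfsgLib.Subnormal.conj_conj, CfsgLib.Subnormal.conj_eq_self_iff.mpr
      (show c ∈ Subgroup.normalizer (Q : Set H) by
        have h1 := hconj 1 (by rwa [CfsgLib.Subnormal.conj_one]) hc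
        rwa [CfsgLib.Subnormal.conj_one] at h1)]
    exact le_iSup (fun g : {g : H // Q.map (MulAut.conj g).toMonoidHom ≤ L} => Q.map (MulAut.conj (g : H)).toMonoidHom)
      ⟨l, (Subgroup.map_mono hQL).trans (CfsgLib.Subnormal.conj_eq_self_iff.mpr (Subgroup.le_normalizer hl)).le⟩
  · set O := Cfsg.pCoreOf p W with hO
    have hCO : C ≤ Subgroup.normalizer (O : Set H) :=
      hCW.trans (CfsgLib.PReduced.normalizer_le_normalizer_pCoreOf W)
    have hOC : Cfsg.pCoreOf p C ⊓ W ≤ O := CfsgLib.PReduced.le_pCoreOf inf_le_right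
      (fun w hw => Subgroup.inf_normalizer_le_normalizer_inf
        ⟨CfsgLib.PReduced.normalizer_le_normalizer_pCoreOf C (hLC (hWL hw)), Subgroup.le_normalizer hw⟩)
      ((CfsgLib.PReduced.isPGroup_pCoreOf C).to_le inf_le_left)
    have hgen : ∀ g : {g : H // Q.map (MulAut.conj g).toMonoidHom ≤ L},
        ⁅Q.map (MulAut.conj (g : H)).toMonoidHom, C⁆ ≤ O := by
      intro g
      set Q' := Q.map (MulAut.conj (g : H)).toMonoidHom with hQ'
      have h1 : ⁅Q', C⁆ ≤ Q' ⊓ C := le_inf (CfsgLib.PCore.commutator_le_of_le_normalizer (hconj g g.2)) (by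
        rw [Subgroup.commutator_comm]
        exact CfsgLib.PCore.commutator_le_of_le_normalizer (g.2.trans hLC))
      have h2 : Q' ⊓ C ≤ Cfsg.pCoreOf p C := CfsgLib.PReduced.le_pCoreOf inf_le_right
        (fun c hc => Subgroup.inf_normalizer_le_normalizer_inf ⟨hconj g g.2 hc, Subgroup.le_normalizer hc⟩)
        ((hQp.map _).to_le inf_le_left)
      exact h1.trans ((le_inf h2 (inf_le_left.trans (le_iSup (fun g : {g : H // Q.map (MulAut.conj g).toMonoidHom ≤ L} =>
        Q.map (MulAut.conj (g : H)).toMonoidHom) g))).trans hOC)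
    rw [Subgroup.commutator_le]
    intro x hx
    rw [hW, Cfsg.weakClosure] at hx
    refine (Subgroup.iSup_induction (fun g : {g : H // Q.map (MulAut.conj g).toMonoidHom ≤ L} =>
      Q.map (MulAut.conj (g : H)).toMonoidHom) (C := fun x => x ∈ W ∧ ∀ c ∈ C, x * c * x⁻¹ * c⁻¹ ∈ O) hx ?_ ?_ ?_).2
    · exact fun g y hy => ⟨le_iSup (fun g : {g : H // Q.map (MulAut.conj g).toMonoidHom ≤ L} =>
        Q.map (MulAut.conj (g : H)).toMonoidHom) g hy, fun c hc => by
          simpa [commutatorElement_def] using hgen g (Subgroup.commutator_mem_commutator hy hc)⟩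
    · exact ⟨one_mem _, fun c _ => by simp⟩
    · rintro a b ⟨ha, ha'⟩ ⟨hb, hb'⟩
      refine ⟨mul_mem ha hb, fun c hc => ?_⟩
      have h1 := mul_mem ((Subgroup.mem_normalizer_iff.mp (CfsgLib.PReduced.le_normalizer_pCoreOf W ha) _).mp (hb' c hc))
        (ha' c hc)
      simpa [mul_assoc] using h1

end Cfsg.Agent.S2843
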