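import Cfsg.Statements.S2844
import Cfsg.Agent.PReduced.Large

set_option autoImplicit false
open Cfsg

namespace Cfsg.Agent.S2844

/-- Let Q be a nontrivial large p-subgroup of the finite group H and Q• = O_p(N_H(Q)). Then for every g ∈ H outside N_H(Q): C_H(Q) ∩ C_H(gQg⁻¹) = 1, C_H(Q•) ∩ C_H(gQ•g⁻¹) = 1, Z(Q) ∩ Z(gQg⁻¹) = 1 and Z(Q•) ∩ Z(gQ•g⁻¹) = 1; moreover N_H(Q) = N_H(Q•) and Q• is large in H. -/
theorem result {H : Type*} [Group H] [Finite H] {p : ℕ} [Fact p.Prime] (Q : Subgroup H) (hQp : IsPGroup p ↥Q) (hQ1 : Q ≠ ⊥) (hL : Cfsg.IsLarge Q) (Qb : Subgroup H) (hQb : Qb = Cfsg.largeBullet p Q) : (∀ g : H, g ∉ Subgroup.normalizer ((Q : Subgroup H) : Set H) → Subgroup.centralizer ((Q : Subgroup H) : Set H) ⊓ Subgroup.centralizer ((((Q : Subgroup H).map (MulAut.conj (g : H)).toMonoidHom) : Subgroup H) : Set H) = ⊥ ∧ Subgroup.centralizer ((Qb : Subgroup H) : Set H) ⊓ Subgroup.centralizer ((((Qb : Subgroup H).map (MulAut.conj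 (g : H)).toMonoidHom) : Subgroup H) : Set H) = ⊥ ∧ (Q ⊓ Subgroup.centralizer ((Q : Subgroup H) : Set H)) ⊓ (((Q : Subgroup H).map (MulAut.conj (g : H)).toMonoidHom) ⊓ Subgroup.centralizer ((((Q : Subgroup H).map (MulAut.conj (g : H)).toMonoidHom) : Subgroup H) : Set H)) = ⊥ ∧ (Qb ⊓ Subgroup.centralizer ((Qb : Subgroup H) : Set H)) ⊓ (((Qb : Subgroup H).map (MulAut.conj (g : H)).toMonoidHom) ⊓ Subgroup.centralizer ((((Qb : Subgroup H).map (MulAut.conj (g : H)).toMonoidHom) : Subgroup H) : Set H)) = ⊥) ∧ Subgroup.normalizer ((Q : Subgroup H) : Set H) = Subgroup.normalizer ((Qb : Subgroup H) : Set H) ∧ Cfsg.IsLarge Qb := by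
  open Subgroup CfsgLib.PReduced in
  subst hQb
  set N := Subgroup.normalizer (Q : Set H) with hN
  set Qb := Cfsg.largeBullet p Q with hQb
  have hQle : Q ≤ Qb := CfsgLib.PReduced.le_pCoreOf Subgroup.le_normalizer le_rfl hQp
  have hbp : IsPGroup p Qb := CfsgLib.PReduced.isPGroup_pCoreOf N
  have hNeq : N = Subgroup.normalizer (Qb : Set H) := le_antisymm (CfsgLib.PReduced.le_normalizer_pCoreOf N)
    (CfsgLib.PReduced.normalizer_le_of_large hQ1 hL hbp hQle)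
  have hcb : Subgroup.centralizer (Qb : Set H) ≤ Subgroup.centralizer (Q : Set H) := Subgroup.centralizer_le hQle
  refine ⟨fun g hg => ?_, hNeq, ⟨hcb.trans (hL.1.trans hQle), fun U hU hU1 => hNeq ▸ hL.2 U (hU.trans hcb) hU1⟩⟩
  have h0 := CfsgLib.PReduced.centralizer_inf_conj_eq_bot hQp hQ1 hL hg
  refine ⟨h0, le_bot_iff.mp ((inf_le_inf hcb (Subgroup.centralizer_le (Subgroup.map_mono hQle))).trans h0.le),
    le_bot_iff.mp ((inf_le_inf inf_le_right inf_le_right).trans h0.le),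
    le_bot_iff.mp ((inf_le_inf inf_le_right inf_le_right).trans
      ((inf_le_inf hcb (Subgroup.centralizer_le (Subgroup.map_mono hQle))).trans h0.le))⟩

end Cfsg.Agent.S2844
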