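import Cfsg.Statements.S2845
import Cfsg.Agent.PReduced.Large

set_option autoImplicit false
open Cfsg

namespace Cfsg.Agent.S2845

/-- Let Q be a nontrivial large p-subgroup of the finite group H. Then for every subgroup L ≥ Q with O_p(L) ≠ 1, C_H(O_p(L)) is a p-group and L has characteristic p, and either the weak closure L° of Q in L equals Q or C_H(L°) = 1; for every subgroup R of H containing a Sylow p-subgroup of H with O_p(R) ≠ 1, C_H(O_p(R)) ≤ O_p(R); and H has parabolic characteristic p. -/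
theorem result {H : Type*} [Group H] [Finite H] {p : ℕ} [Fact p.Prime] (Q : Subgroup H) (hQp : IsPGroup p ↥Q) (hQ1 : Q ≠ ⊥) (hL : Cfsg.IsLarge Q) : (∀ L : Subgroup H, Q ≤ L → Cfsg.pCore p ↥L ≠ ⊥ → IsPGroup p ↥(Subgroup.centralizer (((Cfsg.pCoreOf p L) : Subgroup H) : Set H)) ∧ Subgroup.centralizer (Cfsg.pCore p ↥L : Set ↥L) ≤ Cfsg.pCore p ↥L ∧ (Cfsg.weakClosure Q L = Q ∨ Subgroup.centralizer (((Cfsg.weakClosure Q L) : Subgroup H) : Set H) = ⊥)) ∧ (∀ R : Subgroup H, Cfsg.IsParabolic p R → Cfsg.pCore p ↥R ≠ ⊥ → Subgroup.centralizer (((Cfsg.pCoreOf p R) : Subgroup H) : Set H) ≤ (Cfsg.pCoreOf p R)) ∧ Cfsg.IsOfParabolicCharacteristic p H := by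
  open Subgroup CfsgLib.PReduced in
  have hOf : ∀ L : Subgroup H, Cfsg.pCore p ↥L ≠ ⊥ → Cfsg.pCoreOf p L ≠ ⊥ := fun L h e =>
    h ((Subgroup.map_eq_bot_iff_of_injective _ L.subtype_injective).mp e)
  have h1 : ∀ L : Subgroup H, Q ≤ L → Cfsg.pCore p ↥L ≠ ⊥ →
      IsPGroup p ↥(Subgroup.centralizer ((Cfsg.pCoreOf p L : Subgroup H) : Set H)) ∧
      Subgroup.centralizer (Cfsg.pCore p ↥L : Set ↥L) ≤ Cfsg.pCore p ↥L ∧
      (Cfsg.weakClosure Q L = Q ∨ Subgroup.centralizer ((Cfsg.weakClosure Q L : Subgroup H) : Set H) = ⊥) := by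
    intro L hQL hne
    have hC := CfsgLib.PReduced.isPGroup_centralizer_pCoreOf_of_large hQp hL hQL (hOf L hne)
    refine ⟨hC, (CfsgLib.PReduced.charPOf_iff L).mp (CfsgLib.PReduced.charPOf_of_isPGroup_centralizer hC), ?_⟩
    have hQW : Q ≤ Cfsg.weakClosure Q L := le_trans (CfsgLib.Subnormal.conj_one Q).ge
      (le_iSup (fun g : {g : H // Q.map (MulAut.conj g).toMonoidHom ≤ L} => Q.map (MulAut.conj (g : H)).toMonoidHom)
        ⟨1, by rwa [CfsgLib.Subnormal.conj_one]⟩)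
    by_cases hg : ∃ g : H, Q.map (MulAut.conj g).toMonoidHom ≤ L ∧ g ∉ Subgroup.normalizer (Q : Set H)
    · obtain ⟨g, hgL, hgn⟩ := hg
      refine Or.inr (le_bot_iff.mp (le_trans ?_ (CfsgLib.PReduced.centralizer_inf_conj_eq_bot hQp hQ1 hL hgn).le))
      refine le_inf (Subgroup.centralizer_le ?_) (Subgroup.centralizer_le ?_)
      · exact hQW
      · exact le_iSup (fun g : {g : H // Q.map (MulAut.conj g).toMonoidHom ≤ L} => Q.map (MulAut.conj (g : H)).toMonoidHom) ⟨g, hgL⟩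
    · push Not at hg
      refine Or.inl (le_antisymm (iSup_le fun g => (CfsgLib.Subnormal.conj_eq_self_iff.mpr (hg g g.2)).le) ?_)
      exact hQW
  have h2 : ∀ R : Subgroup H, Cfsg.IsParabolic p R → Cfsg.pCore p ↥R ≠ ⊥ →
      Subgroup.centralizer ((Cfsg.pCoreOf p R : Subgroup H) : Set H) ≤ Cfsg.pCoreOf p R := by
    rintro R ⟨T, hT⟩ hne
    obtain ⟨T₀, hT₀⟩ := hQp.exists_le_sylow
    obtain ⟨g, hg⟩ := MulAction.exists_smul_eq H T₀ T
    have hQT : Q.map (MulAut.conj g).toMonoidHom ≤ (T : Subgroup H) := by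
      rw [← hg, Sylow.coe_subgroup_smul]
      exact Subgroup.map_mono hT₀
    set C := Subgroup.centralizer ((Cfsg.pCoreOf p R : Subgroup H) : Set H) with hC
    have hCp : IsPGroup p C := CfsgLib.PReduced.isPGroup_centralizer_pCoreOf_of_large (hQp.map _)
      (CfsgLib.PReduced.isLarge_map_conj hL g) (hQT.trans hT) (hOf R hne)
    have hRC : R ≤ Subgroup.normalizer (C : Set H) :=
      (CfsgLib.PReduced.le_normalizer_pCoreOf R).trans (CfsgLib.PReduced.normalizer_le_normalizer_centralizer _)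
    have hCR : C ≤ R :=
      ((le_sup_right : C ≤ (T : Subgroup H) ⊔ C).trans
        (T.is_maximal' (T.isPGroup'.to_sup_of_normal_right' hCp (hT.trans hRC)) le_sup_left).le).trans hT
    exact CfsgLib.PReduced.le_pCoreOf hCR hRC hCp
  refine ⟨h1, h2, fun R hR hR1 hpar => ?_⟩
  have hne : Cfsg.pCore p ↥(Subgroup.normalizer (R : Set H)) ≠ ⊥ := by
    intro e
    refine hR1 (le_bot_iff.mp ?_)
    refine (CfsgLib.PReduced.le_pCoreOf Subgroup.le_normalizer le_rfl hR).trans ?_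
    rw [Cfsg.pCoreOf, e, Subgroup.map_bot]
  exact (CfsgLib.PReduced.charPOf_iff _).mp (CfsgLib.PReduced.charPOf_of_isPGroup_centralizer
    ((CfsgLib.PReduced.isPGroup_pCoreOf _).to_le (h2 _ hpar hne)))

end Cfsg.Agent.S2845
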