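import Cfsg.Statements.S2846
import Cfsg.Agent.PReduced.BasicProperty
import Cfsg.Agent.S2843
import Cfsg.Agent.S2845

set_option autoImplicit false
open Cfsg

namespace Cfsg.Agent.S2846

open Subgroup CfsgLib.PReduced

/-- Let Q be a nontrivial large p-subgroup of the finite group H, S a Sylow p-subgroup containing Q, and L a subgroup containing S with O_p(L) ≠ 1 and C_H(O_p(L)) ≤ O_p(L). Then there are a subgroup M containing S having the basic property (M ∈ 𝔐_H, writing Y_X for the largest p-reduced normal subgroup of X and 𝓛_H for the set of subgroups X with O_p(X) ≠ 1 and C_H(O_p(X)) ≤ O_p(X): M ∈ 𝓛_H, M·C_H(Y_M) is the only maximal member of 𝓛_H containing M and its largest p-reduced normal subgroup is again Y_M, C_M(Y_M) is p-closed, and the image of C_M(Y_M) in M/O_p(M) lies in the Frattini subgroup of M/O_p(M)) and a subgroup L* with S ≤ L* ≤ M, O_p(L*) ≠ 1, C_H(O_p(L*)) ≤ O_p(L*), such that L·C_H(Y_L) = L*·C_H(Y_L),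 the weak closures of Q in L and in L* agree and lie in that of M, and Y_L = Y_{L*} ≤ Y_M. If moreover Q is not normal in L, then Q is normal in neither L* nor M. -/
theorem result {H : Type*} [Group H] [Finite H] {p : ℕ} [Fact p.Prime] (Q : Subgroup H) (hQp : IsPGroup p ↥Q) (hQ1 : Q ≠ ⊥) (hLg : Cfsg.IsLarge Q) (S : Sylow p H) (hQS : Q ≤ (S : Subgroup H)) (L : Subgroup H) (hSL : (S : Subgroup H) ≤ L) (hL : L ∈ Cfsg.charPSubgroups p H) : ∃ M Ls : Subgroup H, (S : Subgroup H) ≤ M ∧ Cfsg.IsInFrakM p M ∧ (S : Subgroup H) ≤ Ls ∧ Ls ≤ M ∧ Ls ∈ Cfsg.charPSubgroups p H ∧ L ⊔ Subgroup.centralizer (((Cfsg.largestPReducedOf p L) : Subgroup H) : Set H) = Ls ⊔ Subgroup.centralizer (((Cfsg.largestPReducedOf p L) : Subgroup H) : Set H) ∧ Cfsg.weakClosure Q L = Cfsg.weakClosure Q Ls ∧ Cfsg.weakClosure Q Ls ≤ Cfsg.weakClosure Q M ∧ (Cfsg.largestPReducedOf p L) = (Cfsg.largestPReducedOf p Ls) ∧ (Cfsg.largestPReducedOf p Ls) ≤ (Cfsg.largestPReducedOf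 p M) ∧ (¬ L ≤ Subgroup.normalizer ((Q : Subgroup H) : Set H) → ¬ Ls ≤ Subgroup.normalizer ((Q : Subgroup H) : Set H) ∧ ¬ M ≤ Subgroup.normalizer ((Q : Subgroup H) : Set H)) := by
  have hpar := (Cfsg.Agent.S2845.result Q hQp hQ1 hLg).2.2
  obtain ⟨M, Ls, hSM, hM, hSLs, hLsM, hLsm, hYeq, hYle, hfac⟩ := exists_basic hpar S L hSL hL
  set Y := Cfsg.largestPReducedOf p L with hY
  set C := centralizer (Y : Set H) with hC
  have hYp : IsPGroup p Y := isPGroup_of_isElementaryAbelian (isElementaryAbelian_largestPReducedOf L)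
  have hY1 : Y ≠ ⊥ := by
    intro e
    obtain ⟨-, -, -, h1, h2, -⟩ := Cfsg.Agent.S2821.result S L hSL (charP_of_mem hL) _ rfl
    have hne : (S : Subgroup H) ≠ ⊥ := fun e' => hQ1 (le_bot_iff.mp (hQS.trans e'.le))
    obtain ⟨z, hzS, hzp, hzc⟩ := exists_central_of_normalized (S : Subgroup H) S.isPGroup' le_rfl le_normalizer hne
    have hz : z ∈ Y := h2 (h1 (subset_closure ⟨⟨hzS, mem_centralizer_iff.mpr hzc⟩, hzp ▸ pow_orderOf_eq_one z⟩))
    rw [e, mem_bot] at hz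
    exact (Fact.out : p.Prime).ne_one (by rw [← hzp, hz, orderOf_one])
  have hW : Cfsg.weakClosure Q L = Cfsg.weakClosure Q Ls := by
    rw [(Cfsg.Agent.S2843.result Q hQp hQ1 hLg L (hQS.trans hSL) Y hYp hY1 (le_normalizer_largestPReducedOf L)).1,
      (Cfsg.Agent.S2843.result Q hQp hQ1 hLg Ls (hQS.trans hSLs) Y hYp hY1
        (hYeq ▸ le_normalizer_largestPReducedOf Ls)).1, hfac]
  have hwmono : Cfsg.weakClosure Q Ls ≤ Cfsg.weakClosure Q M :=
    iSup_le fun g => le_iSup_of_le ⟨g.1, g.2.trans hLsM⟩ le_rfl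
  refine ⟨M, Ls, hSM, hM, hSLs, hLsM, hLsm, hfac, hW, hwmono, hYeq, hYeq ▸ hYle, fun hn => ?_⟩
  have hLs : ¬ Ls ≤ normalizer (Q : Set H) := by
    intro hle
    have hQLs : Cfsg.weakClosure Q Ls = Q := by
      refine le_antisymm (iSup_le fun g => ?_) ?_
      · obtain ⟨k, hk, hke⟩ := exists_conj_eq_of_le hQp (isWeaklyClosedSubgroup_of_large hQp hQ1 hLg)
          (hQS.trans hSLs) g.2
        rw [hke, CfsgLib.Subnormal.conj_eq_self_iff.mpr (hle hk)]
      · refine le_iSup_of_le (⟨1, ?_⟩ : {g : H // Q.map (MulAut.conj g).toMonoidHom ≤ Ls}) ?_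
        · rw [CfsgLib.Subnormal.conj_one]; exact hQS.trans hSLs
        · rw [CfsgLib.Subnormal.conj_one]
    refine hn fun l hl => CfsgLib.Subnormal.conj_eq_self_iff.mp ?_
    have hle' : ∀ l' ∈ L, Q.map (MulAut.conj l').toMonoidHom ≤ Q := by
      intro l' hl'
      refine le_trans ?_ ((hW.trans hQLs).le)
      refine le_iSup_of_le (⟨l', ?_⟩ : {g : H // Q.map (MulAut.conj g).toMonoidHom ≤ L}) le_rfl
      rintro _ ⟨q, hq, rfl⟩
      exact L.mul_mem (L.mul_mem hl' (hSL (hQS hq))) (L.inv_mem hl')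
    refine le_antisymm (hle' l hl) fun q hq => ⟨l⁻¹ * q * l, ?_, by simp [mul_assoc]⟩
    simpa using hle' l⁻¹ (L.inv_mem hl) ⟨q, hq, rfl⟩
  exact ⟨hLs, fun h => hLs (hLsM.trans h)⟩

end Cfsg.Agent.S2846
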