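import Cfsg.Statements.S2848
import Cfsg.Agent.PReduced.Basic

set_option autoImplicit false
open Cfsg

namespace Cfsg.Agent.S2848

open Subgroup CfsgLib.PReduced in
/-- Conjugates of `O_p(M)` under `M ⬝ C(Y_M)` inside `S` coincide with `O_p(M)`. -/
theorem aux {G : Type*} [Group G] [Finite G] {p : ℕ} [Fact p.Prime] (S : Sylow p G) (M : Subgroup G)
    (hSM : (S : Subgroup G) ≤ M) (hM : Cfsg.IsInFrakM p M) :
    Cfsg.IsWeaklyClosedSubgroup p ((Cfsg.pCoreOf p M).subgroupOf
      (M ⊔ centralizer (Cfsg.largestPReducedOf p M : Set G))) := by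
  set Y := Cfsg.largestPReducedOf p M with hY
  set C := centralizer (Y : Set G) with hC
  set Md := M ⊔ C with hMd
  set O := Cfsg.pCoreOf p M with hO
  have hOS : O ≤ (S : Subgroup G) := pCoreOf_le_sylow S hSM
  have hMN : M ≤ normalizer (C : Set G) :=
    (le_normalizer_largestPReducedOf M).trans (normalizer_le_normalizer_centralizer Y)
  have hkey : (S : Subgroup G) ⊓ C ≤ O := by
    have h1 : (S : Subgroup G) ⊓ C ≤ Cfsg.pCoreOf p (M ⊓ C) :=
      le_pCoreOf_of_isPClosed hM.2.2.2.2.1 (inf_le_inf hSM le_rfl) (S.isPGroup'.to_le inf_le_left)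
    refine h1.trans (le_pCoreOf ((pCoreOf_le _).trans inf_le_left) ?_ (isPGroup_pCoreOf _))
    intro m hm
    exact normalizer_le_normalizer_pCoreOf _
      (Subgroup.inf_normalizer_le_normalizer_inf ⟨Subgroup.le_normalizer hm, hMN hm⟩)
  refine ⟨S.subtype (hSM.trans le_sup_left), fun x hx => hOS hx, fun g hg => ?_⟩
  refine Subgroup.eq_of_le_of_card_ge ?_ ?_
  · rintro _ ⟨x, hx, rfl⟩
    refine hkey ⟨hg ⟨x, hx, rfl⟩, ?_⟩
    have hgN : (g : G) ∈ normalizer (C : Set G) := sup_le hMN Subgroup.le_normalizer g.2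
    exact (Subgroup.mem_normalizer_iff.mp hgN _).mp (pCoreOf_le_centralizer M hx)
  · rw [Subgroup.card_map_of_injective (f := (MulAut.conj g).toMonoidHom) (MulAut.conj g).injective]

/-- Standing hypotheses: G a finite group, S a Sylow p-subgroup, Q a nontrivial large p-subgroup of G contained in S (C_G(Q) ≤ Q and N_G(U) ≤ N_G(Q) for all nontrivial U ≤ C_G(Q)), and M a subgroup containing S with the basic property (M ∈ 𝔐_G(S)); Y_M denotes the largest p-reduced normal subgroup of M and M† = M·C_G(Y_M). Then O_p(M) is a weakly closed subgroup of M† (for p): it is the only M†-conjugate of itself inside some Sylow p-subgroup of M† containing it. -/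
theorem result {G : Type*} [Group G] [Finite G] {p : ℕ} [Fact p.Prime] (S : Sylow p G) (Q : Subgroup G) (hQp : IsPGroup p ↥Q) (hQ1 : Q ≠ ⊥) (hQS : Q ≤ (S : Subgroup G)) (hQ : Cfsg.IsLarge Q) (M : Subgroup G) (hSM : (S : Subgroup G) ≤ M) (hM : Cfsg.IsInFrakM p M) : Cfsg.IsWeaklyClosedSubgroup p (((Cfsg.pCoreOf p M)).subgroupOf (M ⊔ Subgroup.centralizer (((Cfsg.largestPReducedOf p M) : Subgroup G) : Set G))) := by
  exact aux S M hSM hM

end Cfsg.Agent.S2848
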