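import Cfsg.Statements.S2849
import Cfsg.Agent.PReduced.Basic

set_option autoImplicit false
open Cfsg

namespace Cfsg.Agent.S2849

open Subgroup CfsgLib.PReduced in
/-- An asymmetric `Y` normalized by `R ⊇ Y` generates an elementary abelian normal closure in `N(R)`. -/
theorem aux {G : Type*} [Group G] {p : ℕ} (Y R : Subgroup G) (hY : Cfsg.IsElementaryAbelian p Y)
    (hasym : ¬ Cfsg.IsSymmetricIn Y) (hYR : Y ≤ R) (hRY : R ≤ normalizer (Y : Set G)) :
    Cfsg.IsElementaryAbelian p ((normalClosure ((Y.subgroupOf (normalizer (R : Set G)) :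
      Subgroup ↥(normalizer (R : Set G))) : Set ↥(normalizer (R : Set G)))).map
        (normalizer (R : Set G)).subtype) := by
  have key : ∀ n ∈ normalizer (R : Set G), Y.map (MulAut.conj n).toMonoidHom ≤ centralizer (Y : Set G) := by
    intro n hn
    by_contra h
    refine hasym ⟨n, fun h0 => h ?_, ?_⟩
    · exact Subgroup.le_centralizer_iff.mp (Subgroup.commutator_eq_bot_iff_le_centralizer.mp h0)
    · have hl : ∀ A B : Subgroup G, B ≤ normalizer (A : Set G) → ⁅A, B⁆ ≤ A := fun A B hAB =>
        Subgroup.commutator_le.mpr fun a ha b hb => by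
          rw [commutatorElement_def, show a * b * a⁻¹ * b⁻¹ = a * (b * a⁻¹ * b⁻¹) by group]
          exact mul_mem ha ((Subgroup.mem_normalizer_iff.mp (hAB hb) _).mp (inv_mem ha))
      refine le_inf (hl _ _ ?_) ((Subgroup.commutator_comm _ _).trans_le (hl _ _ ?_))
      · intro x hx
        refine hRY ?_
        obtain ⟨y, hy, rfl⟩ := hx
        exact (Subgroup.mem_normalizer_iff.mp hn y).mp (hYR hy)
      · intro y hy
        rw [Subgroup.mem_normalizer_iff_map_conj_eq, Subgroup.map_map]
        have hr : n⁻¹ * y * n ∈ R := by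
          simpa using (Subgroup.mem_normalizer_iff.mp (inv_mem hn) y).mp (hYR hy)
        have hfix := Subgroup.mem_normalizer_iff_map_conj_eq.mp (hRY hr)
        conv_rhs => rw [← hfix, Subgroup.map_map]
        congr 1
        ext x
        simp [MulAut.conj_apply, mul_assoc]
  set N := normalizer (R : Set G) with hN
  refine isElementaryAbelian_map _ (isElementaryAbelian_of ?_ le_rfl Subgroup.subset_closure ?_)
  · refine Subgroup.le_centralizer_iff.mp (Subgroup.normalClosure_le_normal ?_)
    refine Subgroup.le_centralizer_iff.mp (show normalClosure ((Y.subgroupOf N : Subgroup N) : Set N) ≤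
      centralizer ((Y.subgroupOf N : Subgroup N) : Set N) from (Subgroup.closure_le _).mpr ?_)
    intro x hx
    obtain ⟨a, ha, hax⟩ := Group.mem_conjugatesOfSet_iff.mp hx
    obtain ⟨g, rfl⟩ := isConj_iff.mp hax
    rw [SetLike.mem_coe, Subgroup.mem_centralizer_iff]
    intro b hb
    exact Subtype.ext (Subgroup.mem_centralizer_iff.mp (key g g.2 ⟨a, ha, rfl⟩) b hb)
  · intro x hx
    obtain ⟨a, ha, hax⟩ := Group.mem_conjugatesOfSet_iff.mp hx
    obtain ⟨g, rfl⟩ := isConj_iff.mp hax
    have : a ^ p = 1 := Subtype.ext (by simpa using hY.2 (a : G) ha)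
    rw [conj_pow, this, mul_one, mul_inv_cancel]

/-- Standing hypotheses: G a finite group, S a Sylow p-subgroup, Q a nontrivial large p-subgroup of G contained in S (C_G(Q) ≤ Q and N_G(U) ≤ N_G(Q) for all nontrivial U ≤ C_G(Q)), and M a subgroup containing S with the basic property (M ∈ 𝔐_G(S)); Y_M denotes the largest p-reduced normal subgroup of M and M† = M·C_G(Y_M). Suppose Y_M is asymmetric in G. Then for every subgroup R with Y_M ≤ R ≤ M†, the normal closure of Y_M in N_G(R) is elementary abelian. -/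
theorem result {G : Type*} [Group G] [Finite G] {p : ℕ} [Fact p.Prime] (S : Sylow p G) (Q : Subgroup G) (hQp : IsPGroup p ↥Q) (hQ1 : Q ≠ ⊥) (hQS : Q ≤ (S : Subgroup G)) (hQ : Cfsg.IsLarge Q) (M : Subgroup G) (hSM : (S : Subgroup G) ≤ M) (hM : Cfsg.IsInFrakM p M) (hasym : ¬ Cfsg.IsSymmetricIn (Cfsg.largestPReducedOf p M)) (R : Subgroup G) (hYR : (Cfsg.largestPReducedOf p M) ≤ R) (hRM : R ≤ (M ⊔ Subgroup.centralizer (((Cfsg.largestPReducedOf p M) : Subgroup G) : Set G))) : Cfsg.IsElementaryAbelian p ((Subgroup.normalClosure ((((Cfsg.largestPReducedOf p M)).subgroupOf (Subgroup.normalizer ((R : Subgroup G) : Set G)) : Subgroup ↥(Subgroup.normalizer ((R : Subgroup G) : Set G))) : Set ↥(Subgroup.normalizer ((R : Subgroup G) : Set G)))).map (Subgroup.normalizer ((R : Subgroup G) : Set G)).subtype) := by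
  refine aux _ R (CfsgLib.PReduced.isElementaryAbelian_largestPReducedOf M) hasym hYR (hRM.trans (sup_le ?_ ?_))
  · exact CfsgLib.PReduced.le_normalizer_largestPReducedOf M
  · exact Subgroup.centralizer_le_normalizer _

end Cfsg.Agent.S2849
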