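import Cfsg.Statements.S2850
import Cfsg.Agent.PReduced.Large
import Cfsg.Agent.S2848
import Cfsg.Agent.Subnormal.Basic

set_option autoImplicit false
open Cfsg

namespace Cfsg.Agent.S2850

open Subgroup CfsgLib.PReduced CfsgLib.Subnormal
open scoped commutatorElement

variable {G : Type*} [Group G]

/-- `g X g⁻¹`. -/
abbrev cj (g : G) (X : Subgroup G) : Subgroup G := X.map (MulAut.conj g).toMonoidHom

/-- The conjugates by `a` and by `b` normalize each other. -/
def Adj (O : Subgroup G) (a b : G) : Prop := ⁅cj a O, cj b O⁆ ≤ cj a O ⊓ cj b O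

/-- Two elements linked by a chain of length `n`. -/
def Linked (O : Subgroup G) : ℕ → G → G → Prop
  | 0, a, b => a = b
  | n + 1, a, b => ∃ c, Adj O a c ∧ Linked O n c b

theorem Adj.symm {O : Subgroup G} {a b : G} (h : Adj O a b) : Adj O b a := by
  unfold Adj at *; rwa [commutator_comm, inf_comm]

theorem Adj.translate {O : Subgroup G} {a b : G} (h : Adj O a b) (g : G) : Adj O (g * a) (g * b) := by
  have h1 := map_mono (f := (MulAut.conj g).toMonoidHom) h
  rw [map_commutator, map_inf _ _ _ (MulAut.conj g).injective, conj_conj, conj_conj] at h1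
  exact h1

theorem Linked.translate {O : Subgroup G} : ∀ {n : ℕ} {a b : G}, Linked O n a b → ∀ g, Linked O n (g * a) (g * b)
  | 0, _, _, h, g => congrArg (g * ·) h
  | _ + 1, _, _, ⟨c, h1, h2⟩, g => ⟨g * c, h1.translate g, Linked.translate h2 g⟩

theorem Linked.append {O : Subgroup G} : ∀ {n : ℕ} {a b c : G}, Linked O n a c → Adj O c b → Linked O (n + 1) a b
  | 0, _, b, _, h, h' => ⟨b, h ▸ h', rfl⟩
  | _ + 1, _, _, _, ⟨d, h1, h2⟩, h' => ⟨d, h1, Linked.append h2 h'⟩

theorem Linked.symm {O : Subgroup G} : ∀ {n : ℕ} {a b : G}, Linked O n a b → Linked O n b a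
  | 0, _, _, h => Eq.symm h
  | _ + 1, _, _, ⟨_, h1, h2⟩ => (Linked.symm h2).append h1.symm

theorem le_normalizer_of_commutator_le [Finite G] {A B : Subgroup G} (h : ⁅A, B⁆ ≤ B) :
    A ≤ normalizer (B : Set G) := by
  intro x hx
  refine conj_eq_self_iff.mp (Subgroup.eq_of_le_of_card_ge ?_
    (Subgroup.card_map_of_injective (MulAut.conj x).injective).ge)
  rintro _ ⟨y, hy, rfl⟩
  have h1 := B.mul_mem (h (commutator_mem_commutator hx hy)) hy
  simpa [commutatorElement_def, mul_assoc] using h1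

theorem conj_normalizer_le {O Y : Subgroup G} (h : normalizer (O : Set G) ≤ normalizer (Y : Set G)) (a : G) :
    normalizer ((cj a O : Subgroup G) : Set G) ≤ normalizer ((cj a Y : Subgroup G) : Set G) := by
  intro x hx
  have h1 := congrArg (cj a⁻¹) (conj_eq_self_iff.mpr hx)
  simp only [cj, conj_conj, inv_mul_cancel, conj_one] at h1
  have h2 := congrArg (cj a) (conj_eq_self_iff.mpr (h (conj_eq_self_iff.mp h1)))
  simp only [cj, conj_conj, mul_inv_cancel_left] at h2
  refine conj_eq_self_iff.mp ?_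
  rw [cj, conj_conj]
  exact h2

theorem weaklyClosed [Finite G] {p : ℕ} [Fact p.Prime] (S : Sylow p G) {Q : Subgroup G} (hQp : IsPGroup p Q)
    (hQS : Q ≤ (S : Subgroup G)) (hQ : Cfsg.IsLarge Q) (M : Subgroup G) (hSM : (S : Subgroup G) ≤ M)
    (hM : Cfsg.IsInFrakM p M) (hasym : ¬ Cfsg.IsSymmetricIn (Cfsg.largestPReducedOf p M)) :
    Cfsg.IsWeaklyClosedSubgroup p (Cfsg.pCoreOf p M) ∧
      normalizer (Cfsg.pCoreOf p M : Set G) ≤ M ⊔ centralizer (Cfsg.largestPReducedOf p M : Set G) := by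
  set Y := Cfsg.largestPReducedOf p M with hY
  set C := centralizer (Y : Set G) with hC
  set Md := M ⊔ C with hMd
  set O := Cfsg.pCoreOf p M with hO
  have hOC : O ≤ C := pCoreOf_le_centralizer M
  have hMY : M ≤ normalizer (Y : Set G) := le_normalizer_largestPReducedOf M
  have hMdY : Md ≤ normalizer (Y : Set G) := sup_le hMY (centralizer_le_normalizer _)
  -- overgroups
  have hover : ∀ W : Subgroup G, IsPGroup p W → W ≠ ⊥ → M ≤ normalizer (W : Set G) →
      normalizer (W : Set G) ≤ Md := by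
    intro W hW hWne hMW
    set X := normalizer (W : Set G) with hX
    have hWP : W ≤ Cfsg.pCoreOf p X := le_pCoreOf le_normalizer le_rfl hW
    have hPne : Cfsg.pCoreOf p X ≠ ⊥ := fun e => hWne (le_bot_iff.mp (e ▸ hWP))
    have hXm : X ∈ Cfsg.charPSubgroups p G := by
      refine ⟨fun e => hPne (by rw [Cfsg.pCoreOf, e, Subgroup.map_bot]), ?_⟩
      exact le_pCoreOf ((centralizer_le hWP).trans (centralizer_le_normalizer _))
        ((le_normalizer_pCoreOf X).trans (normalizer_le_normalizer_centralizer _))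
        (isPGroup_centralizer_pCoreOf_of_large hQp hQ (hQS.trans (hSM.trans hMW)) hPne)
    obtain ⟨Z, ⟨hZ, hXZ⟩, hmax⟩ := (Set.toFinite {Z | Z ∈ Cfsg.charPSubgroups p G ∧ X ≤ Z}).exists_maximal
      ⟨X, hXm, le_rfl⟩
    have hZm : Z ∈ Cfsg.maxCharPSubgroups p G :=
      ⟨hZ, fun A hA hZA => le_antisymm (hmax (y := A) ⟨hA, hXZ.trans hZA⟩ hZA) hZA⟩
    exact hXZ.trans (hM.2.2.1 Z hZm (hMW.trans hXZ)).le
  have hNO : normalizer (O : Set G) ≤ Md := by
    refine hover O (isPGroup_pCoreOf M) (fun e => hM.1.1 ?_) (le_normalizer_pCoreOf M)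
    exact (map_eq_bot_iff_of_injective _ M.subtype_injective).mp e
  -- `O` is a Sylow subgroup of `C`
  have hsyl : ∀ P : Subgroup G, IsPGroup p P → O ≤ P → P ≤ C → P = O := by
    intro P hP hOP hPC
    obtain ⟨P0, hP0⟩ := exists_sylow_inf_of_le S (hSM.trans le_sup_left : _ ≤ Md) (le_sup_right : C ≤ Md)
      (hMdY.trans (normalizer_le_normalizer_centralizer Y))
    have hkey : (S : Subgroup G) ⊓ C ≤ O := by
      refine (le_pCoreOf_of_isPClosed hM.2.2.2.2.1 (inf_le_inf hSM le_rfl) (S.isPGroup'.to_le inf_le_left)).trans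
        (le_pCoreOf ((pCoreOf_le _).trans inf_le_left) ?_ (isPGroup_pCoreOf _))
      intro m hm
      exact normalizer_le_normalizer_pCoreOf _ (Subgroup.inf_normalizer_le_normalizer_inf
        ⟨Subgroup.le_normalizer hm, normalizer_le_normalizer_centralizer Y (hMY hm)⟩)
    obtain ⟨P1, hP1⟩ := ((hP.of_equiv (subgroupOfEquivOfLe hPC).symm) : IsPGroup p (P.subgroupOf C)).exists_le_sylow
    refine (Subgroup.eq_of_le_of_card_ge hOP ?_).symm
    calc Nat.card P = Nat.card (P.subgroupOf C) := (Nat.card_congr (subgroupOfEquivOfLe hPC).toEquiv).symm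
      _ ≤ Nat.card (P1 : Subgroup C) := Subgroup.card_le_of_le hP1
      _ = Nat.card (P0 : Subgroup C) := by rw [Sylow.card_eq_multiplicity, Sylow.card_eq_multiplicity]
      _ = Nat.card ↥((S : Subgroup G) ⊓ C) := by
          rw [hP0]; exact Nat.card_congr (subgroupOfEquivOfLe inf_le_right).toEquiv
      _ ≤ Nat.card O := Subgroup.card_le_of_le hkey
  have hinO : ∀ A : Subgroup G, IsPGroup p A → A ≤ C → A ≤ normalizer (O : Set G) → A ≤ O := fun A hA hAC hAN =>
    (le_sup_left : A ≤ A ⊔ O).trans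
      (hsyl _ (hA.to_sup_of_normal_right' (isPGroup_pCoreOf M) hAN) le_sup_right (sup_le hAC hOC)).le
  have hYp : IsPGroup p Y := isPGroup_of_isElementaryAbelian (isElementaryAbelian_largestPReducedOf M)
  have hNOY : normalizer (O : Set G) ≤ normalizer (Y : Set G) := hNO.trans hMdY
  have hcone : ∀ X : Subgroup G, cj (1 : G) X = X := fun X => conj_one X
  -- the conjugates of `Y` in a component lie in `O`
  have hclaim : ∀ n : ℕ, ∀ b : G, Linked O n 1 b → cj b Y ≤ O := by
    intro n
    induction n with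
    | zero =>
      intro b h
      have h' : 1 = b := h
      subst h'
      rw [hcone]; exact largestPReducedOf_le_pCoreOf M
    | succ n ih =>
      have hstep : ∀ a b : G, Linked O (n + 1) a b → cj b Y ≤ normalizer ((cj a O : Subgroup G) : Set G) := by
        rintro a b ⟨c, h1, h2⟩
        have h3 := ih (c⁻¹ * b) (by simpa using h2.translate c⁻¹)
        have h4 : cj b Y ≤ cj c O := by
          have := map_mono (f := (MulAut.conj c).toMonoidHom) h3
          rwa [conj_conj, mul_inv_cancel_left] at this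
        refine h4.trans (le_normalizer_of_commutator_le ?_)
        rw [commutator_comm]
        exact h1.trans inf_le_left
      intro b hb
      have h1 := hstep 1 b hb
      rw [hcone] at h1
      have h2 : Y ≤ normalizer ((cj b Y : Subgroup G) : Set G) := by
        have := hstep b 1 hb.symm
        rw [hcone] at this
        exact this.trans (conj_normalizer_le hNOY b)
      have hb1 : cj b Y ≤ normalizer (Y : Set G) := h1.trans hNOY
      have hcm : ⁅Y, cj b Y⁆ = ⊥ := by
        by_contra hne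
        refine hasym ⟨b, hne, le_inf (CfsgLib.PCore.commutator_le_of_le_normalizer hb1) ?_⟩
        rw [commutator_comm]
        exact CfsgLib.PCore.commutator_le_of_le_normalizer h2
      refine hinO _ (hYp.map _) ?_ h1
      exact le_centralizer_iff.mp (commutator_eq_bot_iff_le_centralizer.mp hcm)
  refine ⟨isWeaklyClosedSubgroup_of_commutator (isPGroup_pCoreOf M) fun g hg => ?_, hNO⟩
  have hadj : Adj O 1 g := by unfold Adj; rw [hcone]; exact hg
  have hgY : g ∈ normalizer (Y : Set G) := by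
    by_cases hYne : Y = ⊥
    · rw [hYne, normalizer_eq_top]; exact mem_top g
    let W : Subgroup G := ⨆ b : {b : G // ∃ n, Linked O n 1 b}, cj (b : G) Y
    have hWO : W ≤ O := iSup_le fun b => let ⟨n, hn⟩ := b.2; hclaim n _ hn
    have hYW : Y ≤ W := (hcone Y).ge.trans
      (le_iSup (fun b : {b : G // ∃ n, Linked O n 1 b} => cj (b : G) Y) ⟨1, 0, rfl⟩)
    have hmove : ∀ x : G, Adj O 1 x → x ∈ normalizer (W : Set G) := by
      intro x hx
      refine conj_eq_self_iff.mp (Subgroup.eq_of_le_of_card_ge ?_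
        (Subgroup.card_map_of_injective (MulAut.conj x).injective).ge)
      rw [Subgroup.map_iSup]
      refine iSup_le fun b => ?_
      obtain ⟨n, hn⟩ := b.2
      rw [cj, conj_conj]
      exact le_iSup (fun b : {b : G // ∃ n, Linked O n 1 b} => cj (b : G) Y)
        ⟨x * b, n + 1, x, hx, by simpa using hn.translate x⟩
    have hMW : M ≤ normalizer (W : Set G) := by
      intro x hx
      refine hmove x ?_
      unfold Adj
      rw [hcone, show cj x O = O from conj_eq_self_iff.mpr (le_normalizer_pCoreOf M hx), inf_idem]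
      exact CfsgLib.PCore.commutator_le_of_le_normalizer le_normalizer
    exact hMdY (hover W ((isPGroup_pCoreOf M).to_le hWO) (fun e => hYne (le_bot_iff.mp (e ▸ hYW))) hMW (hmove g hadj))
  refine Subgroup.eq_of_le_of_card_ge (hinO _ ((isPGroup_pCoreOf M).map _) ?_ ?_)
    (Subgroup.card_map_of_injective (MulAut.conj g).injective).ge
  · rintro _ ⟨x, hx, rfl⟩
    exact (mem_normalizer_iff.mp (normalizer_le_normalizer_centralizer Y hgY) x).mp (hOC hx)
  · refine le_normalizer_of_commutator_le ?_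
    rw [commutator_comm]
    exact hg.trans inf_le_left

/-- Standing hypotheses: G a finite group, S a Sylow p-subgroup, Q a nontrivial large p-subgroup of G contained in S (C_G(Q) ≤ Q and N_G(U) ≤ N_G(Q) for all nontrivial U ≤ C_G(Q)), and M a subgroup containing S with the basic property (M ∈ 𝔐_G(S)); Y_M denotes the largest p-reduced normal subgroup of M and M† = M·C_G(Y_M). Suppose Y_M is asymmetric in G. Then N_G(L) ≤ N_G(O_p(M)) ≤ M† for every p-subgroup L containing O_p(M); O_p(M) is a weakly closed subgroup of G; for every subgroup L containing O_p(M), L ∩ M† contains a Sylow p-subgroup of L; and two elements of Y_M conjugate in G are conjugate in M. -/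
theorem result {G : Type*} [Group G] [Finite G] {p : ℕ} [Fact p.Prime] (S : Sylow p G) (Q : Subgroup G) (hQp : IsPGroup p ↥Q) (hQ1 : Q ≠ ⊥) (hQS : Q ≤ (S : Subgroup G)) (hQ : Cfsg.IsLarge Q) (M : Subgroup G) (hSM : (S : Subgroup G) ≤ M) (hM : Cfsg.IsInFrakM p M) (hasym : ¬ Cfsg.IsSymmetricIn (Cfsg.largestPReducedOf p M)) : (∀ L : Subgroup G, IsPGroup p ↥L → (Cfsg.pCoreOf p M) ≤ L → Subgroup.normalizer ((L : Subgroup G) : Set G) ≤ Subgroup.normalizer (((Cfsg.pCoreOf p M) : Subgroup G) : Set G) ∧ Subgroup.normalizer (((Cfsg.pCoreOf p M) : Subgroup G) : Set G) ≤ (M ⊔ Subgroup.centralizer (((Cfsg.largestPReducedOf p M) : Subgroup G) : Set G))) ∧ Cfsg.IsWeaklyClosedSubgroup p (Cfsg.pCoreOf p M) ∧ (∀ L : Subgroup G, (Cfsg.pCoreOf p M) ≤ L → Cfsg.IsParabolic p ((L ⊓ (M ⊔ Subgroup.centralizer (((Cfsg.largestPReducedOf p M) : Subgroup G) : Set G))).subgroupOf L)) ∧ (∀ x ∈ (Cfsg.largestPReducedOf p M), ∀ g : G, g * x * g⁻¹ ∈ (Cfsg.largestPReducedOf p M) → ∃ m ∈ M, m * x * m⁻¹ = g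 * x * g⁻¹) := by
  obtain ⟨hwc, hNO⟩ := weaklyClosed S hQp hQS hQ M hSM hM hasym
  refine ⟨fun L hL hOL => ⟨normalizer_le_of_weaklyClosed hwc hL hOL, hNO⟩, hwc, ?_, ?_⟩
  · intro L hOL
    have hOp : IsPGroup p ((Cfsg.pCoreOf p M).subgroupOf L) :=
      (isPGroup_pCoreOf M).of_equiv (subgroupOfEquivOfLe hOL).symm
    obtain ⟨P, hP⟩ := hOp.exists_le_sylow
    refine ⟨P, fun x hx => ⟨x.2, hNO (normalizer_le_of_weaklyClosed hwc (P.isPGroup'.map L.subtype)
      ?_ (le_normalizer ⟨x, hx, rfl⟩))⟩⟩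
    intro y hy
    exact ⟨⟨y, hOL hy⟩, hP hy, rfl⟩
  · intro x hx g hgx
    set O := Cfsg.pCoreOf p M with hO
    set y := g * x * g⁻¹ with hy
    set Cy := centralizer ({y} : Set G) with hCy
    have hcomm : ∀ z ∈ Cfsg.largestPReducedOf p M, ∀ o ∈ O, o * z = z * o := fun z hz o ho =>
      (mem_centralizer_iff.mp (pCoreOf_le_centralizer M ho) z hz).symm
    have hO1 : O ≤ Cy := fun o ho => mem_centralizer_singleton_iff.mpr (hcomm y hgx o ho)
    have hO2 : O.map (MulAut.conj g).toMonoidHom ≤ Cy := by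
      rintro _ ⟨o, ho, rfl⟩
      refine mem_centralizer_singleton_iff.mpr ?_
      show g * o * g⁻¹ * y = y * (g * o * g⁻¹)
      rw [hy]
      calc g * o * g⁻¹ * (g * x * g⁻¹) = g * (o * x) * g⁻¹ := by group
        _ = g * (x * o) * g⁻¹ := by rw [hcomm x hx o ho]
        _ = _ := by group
    obtain ⟨R, hR⟩ := (((isPGroup_pCoreOf M).of_equiv (subgroupOfEquivOfLe hO1).symm) :
      IsPGroup p (O.subgroupOf Cy)).exists_le_sylow
    obtain ⟨R', hR'⟩ := (((isPGroup_pCoreOf M).map _).of_equiv (subgroupOfEquivOfLe hO2).symm :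
      IsPGroup p ((O.map (MulAut.conj g).toMonoidHom).subgroupOf Cy)).exists_le_sylow
    obtain ⟨⟨c, hc⟩, hcR⟩ := MulAction.exists_smul_eq Cy R' R
    have hle : O.map (MulAut.conj (c * g)).toMonoidHom ≤ (R : Subgroup Cy).map Cy.subtype := by
      rw [← conj_conj]
      rintro _ ⟨z, hz, rfl⟩
      refine ⟨⟨c, hc⟩ * ⟨z, hO2 hz⟩ * ⟨c, hc⟩⁻¹, ?_, rfl⟩
      rw [← hcR, Sylow.coe_subgroup_smul]
      exact ⟨⟨z, hO2 hz⟩, hR' hz, rfl⟩
    have he := conj_eq_of_le hwc (R.isPGroup'.map Cy.subtype) (fun o ho => ⟨⟨o, hO1 ho⟩, hR ho, rfl⟩) hle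
    have hMd := hNO (conj_eq_self_iff.mp he)
    rw [← SetLike.mem_coe, coe_mul_of_left_le_normalizer_right _ _ ((le_normalizer_largestPReducedOf M).trans
      (normalizer_le_normalizer_centralizer _))] at hMd
    obtain ⟨m, hm, c', hc', hmc⟩ := hMd
    refine ⟨m, hm, ?_⟩
    have h1 : c' * x * c'⁻¹ = x := by
      rw [← mem_centralizer_iff.mp hc' x hx, mul_inv_cancel_right]
    have h2 : c * y * c⁻¹ = y := by
      rw [mem_centralizer_singleton_iff.mp hc, mul_inv_cancel_right]
    calc m * x * m⁻¹ = m * (c' * x * c'⁻¹) * m⁻¹ := by rw [h1]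
      _ = (m * c') * x * (m * c')⁻¹ := by group
      _ = (c * g) * x * (c * g)⁻¹ := by rw [← hmc]
      _ = c * y * c⁻¹ := by rw [hy]; group
      _ = y := h2

end Cfsg.Agent.S2850
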