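import Cfsg.Statements.S2851
import Cfsg.Agent.PReduced.Asym
import Cfsg.Agent.PReduced.FStarAction
import Cfsg.Agent.Components.Basic

set_option autoImplicit false
open Cfsg

namespace Cfsg.Agent.S2851

open Subgroup CfsgLib.PReduced CfsgLib.PReduced.Asym
open scoped commutatorElement

/-- `F*(X)` acts faithfully on p-subgroups it normalizes, if `O_p(X) = 1`. -/
theorem eq_bot_of_normalized {X : Type*} [Group X] [Finite X] {p : ℕ} [Fact p.Prime] (hO : Cfsg.pCore p X = ⊥)
    [(Cfsg.generalizedFittingSubgroup X).Normal] {P : Subgroup X} (hP : IsPGroup p P)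
    (hn : Cfsg.generalizedFittingSubgroup X ≤ normalizer (P : Set X)) : P = ⊥ := by
  set F := Cfsg.generalizedFittingSubgroup X with hF
  have h1 : P ⊓ F ≤ Cfsg.pCoreOf p F := le_pCoreOf inf_le_right
    (fun f hf => inf_normalizer_le_normalizer_inf ⟨hn hf, le_normalizer hf⟩) (hP.to_le inf_le_left)
  have h2 : Cfsg.pCoreOf p F = ⊥ := by
    refine le_bot_iff.mp (hO ▸ CfsgLib.PReduced.le_pCore ?_ (isPGroup_pCoreOf F))
    refine normalizer_eq_top_iff.mp (top_le_iff.mp (le_trans ?_ (normalizer_le_normalizer_pCoreOf F)))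
    rw [normalizer_eq_top]
  have h3 : ⁅P, F⁆ ≤ P ⊓ F := le_inf (CfsgLib.PCore.commutator_le_of_le_normalizer hn)
    ((commutator_comm P F).le.trans (CfsgLib.PCore.commutator_le_of_le_normalizer le_normalizer_of_normal))
  rw [eq_bot_iff]
  intro x hx
  obtain ⟨k, hk⟩ := exists_pow_eq_one_of_mem hP hx
  refine mem_bot.mpr (FStarAct.eq_one_of_centralizes_fstar hO hk fun f hf => ?_)
  have h4 := commutator_eq_bot_iff_le_centralizer.mp (le_bot_iff.mp (h2 ▸ h3.trans h1)) hx
  exact mem_centralizer_iff.mp h4 f hf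

/-- Standing hypotheses: G a finite group, S a Sylow p-subgroup, Q a nontrivial large p-subgroup of G contained in S, M a subgroup containing S with the basic property (M ∈ 𝔐_G(S)); Y_M the largest p-reduced normal subgroup of M and M† = M·C_G(Y_M). Let F be the preimage in M† of the generalized Fitting subgroup of M†/C_{M†}(Y_M). If Y_M is asymmetric in G and H is a subgroup of characteristic p containing F, then Y_M ≤ Y_H. -/
theorem result {G : Type*} [Group G] [Finite G] {p : ℕ} [Fact p.Prime] (S : Sylow p G) (Q : Subgroup G) (hQp : IsPGroup p ↥Q) (hQ1 : Q ≠ ⊥) (hQS : Q ≤ (S : Subgroup G)) (hQ : Cfsg.IsLarge Q) (M : Subgroup G) (hSM : (S : Subgroup G) ≤ M) (hM : Cfsg.IsInFrakM p M) (hasym : ¬ Cfsg.IsSymmetricIn (Cfsg.largestPReducedOf p M)) [hn : ((Subgroup.centralizer (((Cfsg.largestPReducedOf p M) : Subgroup G) : Set G)).subgroupOf (M ⊔ Subgroup.centralizer (((Cfsg.largestPReducedOf p M) : Subgroup G) : Set G))).Normal] (F : Subgroup G) (hF : F = ((Cfsg.generalizedFittingSubgroup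 (↥(M ⊔ Subgroup.centralizer (((Cfsg.largestPReducedOf p M) : Subgroup G) : Set G)) ⧸ (Subgroup.centralizer (((Cfsg.largestPReducedOf p M) : Subgroup G) : Set G)).subgroupOf (M ⊔ Subgroup.centralizer (((Cfsg.largestPReducedOf p M) : Subgroup G) : Set G)))).comap (QuotientGroup.mk' ((Subgroup.centralizer (((Cfsg.largestPReducedOf p M) : Subgroup G) : Set G)).subgroupOf (M ⊔ Subgroup.centralizer (((Cfsg.largestPReducedOf p M) : Subgroup G) : Set G))))).map ((M ⊔ Subgroup.centralizer (((Cfsg.largestPReducedOf p M) : Subgroup G) : Set G))).subtype) (H : Subgroup G) (hFH : F ≤ H) (hH : Subgroup.centralizer (Cfsg.pCore p ↥H : Set ↥H) ≤ Cfsg.pCore p ↥H) : (Cfsg.largestPReducedOf p M) ≤ Cfsg.largestPReducedOf p H := by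
  set Y := Cfsg.largestPReducedOf p M with hY
  set C := centralizer (Y : Set G) with hC
  set Md := M ⊔ C with hMd
  set Cb := C.subgroupOf Md with hCb
  set π := QuotientGroup.mk' Cb with hπ
  have h : Setting p S Q M := ⟨hQp, hQS, hQ, hSM, hM, hasym⟩
  haveI : (Cfsg.generalizedFittingSubgroup (↥Md ⧸ Cb)).Normal := by
    haveI := CfsgLib.Components.generalizedFittingSubgroup_characteristic (G := ↥Md ⧸ Cb)
    infer_instance
  have hcore : Cfsg.pCore p (↥Md ⧸ Cb) = ⊥ := by
    set D := ((Cfsg.pCore p (↥Md ⧸ Cb)).comap π).map Md.subtype with hD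
    have hDC : D ≤ C := by
      haveI : ((Cfsg.pCore p (↥Md ⧸ Cb)).comap π).Normal := (inferInstance : (Cfsg.pCore p (↥Md ⧸ Cb)).Normal).comap π
      have hY' : Cfsg.largestPReducedOf p Md = Y := hM.2.2.2.1.symm
      have := le_centralizer_largestPReducedOf (p := p) (L := Md) (D := D) (map_subtype_le _)
        (le_normalizer_map_subtype Md _) ?_
      · rwa [hY'] at this
      · rintro _ ⟨d, hd, rfl⟩
        obtain ⟨k, hk⟩ := exists_pow_eq_one_of_mem (isPGroup_pCore p (↥Md ⧸ Cb)) hd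
        refine ⟨k, ?_⟩
        rw [hY', ← map_pow]
        exact (QuotientGroup.eq_one_iff (N := Cb) _).mp (by rw [← map_pow] at hk; exact hk)
    rw [eq_bot_iff]
    intro q hq
    obtain ⟨a, rfl⟩ := QuotientGroup.mk'_surjective Cb q
    exact mem_bot.mpr ((QuotientGroup.eq_one_iff a).mpr (hDC ⟨a, hq, rfl⟩))
  have hFmem : ∀ a : Md, π a ∈ Cfsg.generalizedFittingSubgroup (↥Md ⧸ Cb) → (a : G) ∈ F := by
    intro a ha; rw [hF]; exact ⟨a, ha, rfl⟩
  have hFMd : F ≤ Md := by rw [hF]; exact map_subtype_le _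
  have hCF : C ≤ F := fun c hc => hFmem ⟨c, mem_sup_right hc⟩ (by
    rw [show π ⟨c, mem_sup_right hc⟩ = 1 from (QuotientGroup.eq_one_iff _).mpr hc]
    exact one_mem _)
  have hkill : ∀ D : Subgroup G, D ≤ Md → F ≤ normalizer (D : Set G) → PowMem p D C → D ≤ C := by
    intro D hDMd hn' hpow
    have hP : IsPGroup p ((D.subgroupOf Md).map π) := by
      rintro ⟨_, d, hd, rfl⟩
      obtain ⟨k, hk⟩ := hpow d hd
      refine ⟨k, Subtype.ext ?_⟩
      rw [SubmonoidClass.coe_pow, Subgroup.coe_one, ← map_pow]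
      exact (QuotientGroup.eq_one_iff (N := Cb) _).mpr (show ((d ^ p ^ k : Md) : G) ∈ C by simpa using hk)
    have hbot := eq_bot_of_normalized hcore hP (by
      intro q hq
      obtain ⟨a, rfl⟩ := QuotientGroup.mk'_surjective Cb q
      refine CfsgLib.Subnormal.conj_eq_self_iff.mp (Subgroup.eq_of_le_of_card_ge ?_
        (card_map_of_injective (MulAut.conj (π a)).injective).ge)
      rintro _ ⟨_, ⟨d, hd, rfl⟩, rfl⟩
      exact ⟨a * d * a⁻¹, (mem_normalizer_iff.mp (hn' (hFmem a hq)) d).mp hd,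
        by rw [map_mul, map_mul, map_inv]; rfl⟩)
    intro d hd
    exact (QuotientGroup.eq_one_iff (N := Cb) ⟨d, hDMd hd⟩).mp
      (mem_bot.mp (hbot ▸ (mem_map_of_mem π (show (⟨d, hDMd hd⟩ : Md) ∈ D.subgroupOf Md from hd))))
  have hOH : Cfsg.pCoreOf p M ≤ H := (pCoreOf_le_centralizer M).trans (hCF.trans hFH)
  have hUMd : Cfsg.pCoreOf p H ≤ Md := (h.pCoreOf_le_normalizer hOH).trans h.normalizer_le_dagger
  have hUC : Cfsg.pCoreOf p H ≤ C := hkill _ hUMd (hFH.trans (le_normalizer_pCoreOf H))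
    (powMem_of_isPGroup (isPGroup_pCoreOf H) _)
  have hYel := isElementaryAbelian_largestPReducedOf (p := p) M
  have hYH : Y ≤ H := (le_centralizer_self hYel).trans (hCF.trans hFH)
  set Y' := Y.subgroupOf H with hY'
  have hY'c : Y' ≤ centralizer (Cfsg.pCore p ↥H : Set ↥H) := fun y hy => mem_centralizer_iff.mpr fun u hu =>
    Subtype.ext (mem_centralizer_iff.mp (hUC ⟨u, hu, rfl⟩) y hy).symm
  set V := normalClosure (Y' : Set ↥H) with hV
  have hZ : V ≤ Cfsg.pCore p ↥H ⊓ centralizer (Cfsg.pCore p ↥H : Set ↥H) :=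
    normalClosure_le_normal fun y hy => ⟨hH (hY'c hy), hY'c hy⟩
  have hVe : Cfsg.IsElementaryAbelian p V := by
    refine isElementaryAbelian_of ((hZ.trans inf_le_right).trans (centralizer_le (hZ.trans inf_le_left)))
      (S := Group.conjugatesOfSet (Y' : Set ↥H)) le_rfl subset_closure ?_
    intro x hx
    obtain ⟨a, ha, hax⟩ := Group.mem_conjugatesOfSet_iff.mp hx
    obtain ⟨g, rfl⟩ := isConj_iff.mp hax
    rw [conj_pow, show a ^ p = 1 from Subtype.ext (by simpa using hYel.2 (a : G) ha), mul_one, mul_inv_cancel]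
  have hVr : Cfsg.IsPReducedNormal p V := by
    refine isPReducedNormal_iff.mpr ⟨normalClosure_normal, hVe, fun D hD hpm => ?_⟩
    haveI := hD
    haveI : V.Normal := normalClosure_normal
    obtain ⟨T, -, hT⟩ := h.exists_sylow hOH
    set D' := D ⊔ centralizer (V : Set ↥H) with hD'
    have hCY : ∀ x : ↥H, x ∈ centralizer (V : Set ↥H) → (x : G) ∈ C := fun x hx =>
      mem_centralizer_iff.mpr fun y hy =>
        congrArg Subtype.val (mem_centralizer_iff.mp hx ⟨y, hYH hy⟩ (subset_normalClosure hy))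
    have hpm' : PowMem p D' (centralizer (V : Set ↥H)) :=
      powMem_sup_left le_normalizer_of_normal hpm
    have hD0 : D'.map H.subtype ⊓ Md ≤ C := by
      refine hkill _ inf_le_right (fun f hf => inf_normalizer_le_normalizer_inf
        ⟨le_normalizer_map_subtype H D' (hFH hf), le_normalizer (hFMd hf)⟩) ?_
      rintro _ ⟨⟨d, hd, rfl⟩, -⟩
      obtain ⟨k, hk⟩ := hpm' d hd
      exact ⟨k, by rw [← map_pow]; exact hCY _ hk⟩
    have hDC : D ≤ centralizer (Y' : Set ↥H) := by
      intro d hd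
      obtain ⟨t, ht, c, hc, rfl⟩ := exists_mul_of_powMem T (le_sup_right : _ ≤ D') hpm' (mem_sup_left hd)
      have h1 : ((t * c : ↥H) : G) ∈ C :=
        mul_mem (hD0 ⟨⟨t, ht.2, rfl⟩, h.normalizer_le_dagger (hT ⟨t, ht.1, rfl⟩)⟩) (hCY c hc)
      exact mem_centralizer_iff.mpr fun y hy => Subtype.ext (mem_centralizer_iff.mp h1 y hy)
    exact le_centralizer_iff.mp (normalClosure_le_normal (N := centralizer (D : Set ↥H))
      (le_centralizer_iff.mp hDC))
  intro y hy
  exact ⟨⟨y, hYH hy⟩, le_largestPReduced hVr (subset_normalClosure hy), rfl⟩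

end Cfsg.Agent.S2851
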