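import Cfsg.Statements.S2852
import Cfsg.Agent.PReduced.Asym

set_option autoImplicit false
open Cfsg

namespace Cfsg.Agent.S2852

open Subgroup CfsgLib.PReduced CfsgLib.PReduced.Asym CfsgLib.Subnormal
open scoped commutatorElement

/-- A minimal subgroup over `O_p(M)` in a group of characteristic `p` is critical of characteristic `p`. -/
theorem exists_crit {G : Type*} [Group G] [Finite G] {p : ℕ} [Fact p.Prime] {S : Sylow p G} {Q M : Subgroup G}
    (h : Setting p S Q M) {L : Subgroup G} (hOL : Cfsg.pCoreOf p M ≤ L) (hL : CharPOf p L)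
    (hY : ¬ Cfsg.largestPReducedOf p M ≤ Cfsg.pCoreOf p L) : ∃ P : Subgroup G, Cfsg.IsInFrakH p M P := by
  obtain ⟨P, ⟨hPL, hOP, hYP⟩, hmin⟩ := (Set.toFinite {P : Subgroup G | P ≤ L ∧ Cfsg.pCoreOf p M ≤ P ∧
    ¬ Cfsg.largestPReducedOf p M ≤ Cfsg.pCoreOf p P}).exists_minimal ⟨L, le_rfl, hOL, hY⟩
  have hc : Crit p M P := ⟨hOP, hYP, fun X hOX hXP => by
    by_contra hYX
    exact hXP.not_ge (hmin (y := X) ⟨hXP.le.trans hPL, hOX, hYX⟩ hXP.le)⟩
  refine ⟨P, (charPOf_iff P).mp ?_, hc.hO, hc.hY, hc.hmin⟩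
  intro x hx hco hxc
  set U := Cfsg.pCoreOf p L with hU
  set O := Cfsg.pCoreOf p M with hO
  have hUO : U ≤ normalizer (O : Set G) := h.pCoreOf_le_normalizer hOL
  have hPU : P ≤ normalizer (U : Set G) := hPL.trans (le_normalizer_pCoreOf L)
  let K : Subgroup G :=
    { carrier := {g | g ∈ P ∧ ∀ u ∈ U, ⁅u, g⁆ ∈ P}
      one_mem' := ⟨one_mem P, fun u _ => by simp [one_mem]⟩
      mul_mem' := by
        rintro a b ⟨ha, ha'⟩ ⟨hb, hb'⟩
        refine ⟨mul_mem ha hb, fun u hu => ?_⟩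
        rw [show ⁅u, a * b⁆ = ⁅u, a⁆ * (a * ⁅u, b⁆ * a⁻¹) by simp only [commutatorElement_def]; group]
        exact P.mul_mem (ha' u hu) (P.mul_mem (P.mul_mem ha (hb' u hu)) (P.inv_mem ha))
      inv_mem' := by
        rintro a ⟨ha, ha'⟩
        refine ⟨inv_mem ha, fun u hu => ?_⟩
        rw [show ⁅u, a⁻¹⁆ = a⁻¹ * ⁅u, a⁆⁻¹ * a by simp only [commutatorElement_def]; group]
        exact P.mul_mem (P.mul_mem (P.inv_mem ha) (P.inv_mem (ha' u hu))) ha }
  have hOK : O ≤ K := fun o ho => ⟨hOP ho, fun u hu => hOP (by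
    rw [commutatorElement_def]
    exact mul_mem ((mem_normalizer_iff.mp (hUO hu) o).mp ho) (inv_mem ho))⟩
  have hKn : P ≤ normalizer (K : Set G) := by
    intro g hg
    refine conj_eq_self_iff.mp (Subgroup.eq_of_le_of_card_ge ?_
      (card_map_of_injective (MulAut.conj g).injective).ge)
    rintro _ ⟨c, ⟨hcP, hc'⟩, rfl⟩
    refine ⟨P.mul_mem (P.mul_mem hg hcP) (P.inv_mem hg), fun u hu => ?_⟩
    show ⁅u, g * c * g⁻¹⁆ ∈ P
    rw [show ⁅u, g * c * g⁻¹⁆ = g * ⁅g⁻¹ * u * g, c⁆ * g⁻¹ by simp only [commutatorElement_def]; group]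
    refine P.mul_mem (P.mul_mem hg (hc' _ ?_)) (P.inv_mem hg)
    simpa using (mem_normalizer_iff.mp (hPU (P.inv_mem hg)) u).mp hu
  have hPK : P ≤ K := hc.le_of_normalized hKn hOK
  have hzP : zpowers x ≤ P := zpowers_le.mpr hx
  have h1 : ⁅U, zpowers x⁆ ≤ U ⊓ P := le_inf
    (CfsgLib.PCore.commutator_le_of_le_normalizer (hzP.trans hPU))
    (commutator_le.mpr fun u hu z hz => (hPK (hzP hz)).2 u hu)
  have h2 : U ⊓ P ≤ Cfsg.pCoreOf p P := le_pCoreOf inf_le_right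
    (fun y hy => inf_normalizer_le_normalizer_inf ⟨hPU hy, le_normalizer hy⟩)
    ((isPGroup_pCoreOf L).to_le inf_le_left)
  obtain ⟨k, hk⟩ := IsPGroup.iff_card.mp ((isPGroup_pCoreOf L).to_le (inf_le_left : U ⊓ P ≤ U))
  refine hL x (hPL hx) hco (zpowers_le.mp (CfsgLib.PCore.le_centralizer_of_stabilizes (Q := U ⊓ P)
    (by rw [Nat.card_zpowers, hk]; exact hco.pow_right k) h1 ?_))
  exact h1.trans (le_centralizer_iff.mp ((zpowers_le.mpr hxc).trans (centralizer_le h2)))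

/-- Standing hypotheses: G a finite group, S a Sylow p-subgroup, Q a nontrivial large p-subgroup of G contained in S, M a subgroup containing S with the basic property (M ∈ 𝔐_G(S)); Y_M the largest p-reduced normal subgroup of M. If Y_M is char-p-tall and asymmetric in G, then some subgroup H of G lies in ℌ_G(O_p(M)): H has characteristic p, O_p(M) ≤ H, Y_M ≰ O_p(H), and Y_M ≤ O_p(P) for every proper subgroup P of H containing O_p(M). -/
theorem result {G : Type*} [Group G] [Finite G] {p : ℕ} [Fact p.Prime] (S : Sylow p G) (Q : Subgroup G) (hQp : IsPGroup p ↥Q) (hQ1 : Q ≠ ⊥) (hQS : Q ≤ (S : Subgroup G)) (hQ : Cfsg.IsLarge Q) (M : Subgroup G) (hSM : (S : Subgroup G) ≤ M) (hM : Cfsg.IsInFrakM p M) (htall : Cfsg.IsCharPTall p (Cfsg.largestPReducedOf p M)) (hasym : ¬ Cfsg.IsSymmetricIn (Cfsg.largestPReducedOf p M)) : ∃ H : Subgroup G, Cfsg.IsInFrakH p M H := by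
  have h : Setting p S Q M := ⟨hQp, hQS, hQ, hSM, hM, hasym⟩
  set Y := Cfsg.largestPReducedOf p M with hY
  set C := centralizer (Y : Set G) with hC
  set Md := M ⊔ C with hMd
  set O := Cfsg.pCoreOf p M with hO
  obtain ⟨T, L, hTL, hLchar, hYL⟩ := htall
  obtain ⟨P0, hP0⟩ := exists_sylow_inf_of_le S (hSM.trans le_sup_left : _ ≤ Md) (le_sup_right : C ≤ Md)
    ((dagger_le_normalizer M).trans (normalizer_le_normalizer_centralizer Y))
  obtain ⟨c, hc⟩ := MulAction.exists_smul_eq (↥C) T P0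
  have hOS : O ≤ (S : Subgroup G) ⊓ C := le_inf (pCoreOf_le_sylow S hSM) (pCoreOf_le_centralizer M)
  have hOL : O ≤ L.map (MulAut.conj (c : G)).toMonoidHom := by
    intro o ho
    have h1 : (⟨o, (hOS ho).2⟩ : C) ∈ ((c • T : Sylow p C) : Subgroup C) := by
      rw [hc, hP0]; exact hOS ho
    rw [Sylow.coe_subgroup_smul] at h1
    obtain ⟨t, ht, hte⟩ := h1
    exact ⟨t, hTL ⟨t, ht, rfl⟩, congrArg Subtype.val hte⟩
  refine exists_crit h hOL ((charPOf_iff L).mpr hLchar |>.map_conj _) fun hle => hYL ?_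
  intro y hy
  have hcy : (c : G) * y * (c : G)⁻¹ = y := by
    rw [← mem_centralizer_iff.mp c.2 y hy, mul_inv_cancel_right]
  have h2 : ((Cfsg.pCoreOf p (L.map (MulAut.conj (c : G)).toMonoidHom))).map
      (MulAut.conj (c : G)⁻¹).toMonoidHom ≤ Cfsg.pCoreOf p L := by
    have hm : (L.map (MulAut.conj (c : G)).toMonoidHom).map (MulAut.conj (c : G)⁻¹).toMonoidHom = L := by
      rw [conj_conj, inv_mul_cancel, conj_one]
    refine le_pCoreOf ((map_mono (pCoreOf_le _)).trans hm.le) ?_ ((isPGroup_pCoreOf _).map _)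
    calc L = (L.map (MulAut.conj (c : G)).toMonoidHom).map (MulAut.conj (c : G)⁻¹).toMonoidHom := hm.symm
      _ ≤ (normalizer (Cfsg.pCoreOf p (L.map (MulAut.conj (c : G)).toMonoidHom) : Set G)).map _ :=
          map_mono (le_normalizer_pCoreOf _)
      _ ≤ _ := le_normalizer_map _
  refine h2 ⟨y, hle hy, ?_⟩
  show (c : G)⁻¹ * y * ((c : G)⁻¹)⁻¹ = y
  rw [inv_inv]
  calc (c : G)⁻¹ * y * (c : G) = (c : G)⁻¹ * ((c : G) * y * (c : G)⁻¹) * (c : G) := by rw [hcy]
    _ = y := by group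

end Cfsg.Agent.S2852
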