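import Cfsg.Statements.S2853
import Cfsg.Agent.PReduced.Asym

set_option autoImplicit false
open Cfsg

namespace Cfsg.Agent.S2853

open Subgroup CfsgLib.PReduced CfsgLib.PReduced.Asym

/-- If a Sylow subgroup of `H` lies in `K ≤ H`, the Sylow subgroups of `K` are Sylow subgroups of `H`. -/
theorem exists_sylow_eq {G : Type*} [Group G] [Finite G] {p : ℕ} [Fact p.Prime] {H K : Subgroup G} (hKH : K ≤ H)
    (P0 : Sylow p H) (hP0 : (P0 : Subgroup H).map H.subtype ≤ K) (T : Sylow p K) :
    ∃ P : Sylow p H, (P : Subgroup H).map H.subtype = (T : Subgroup K).map K.subtype := by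
  have hTH : (T : Subgroup K).map K.subtype ≤ H := (map_subtype_le _).trans hKH
  obtain ⟨P, hP⟩ := ((T.isPGroup'.map K.subtype).of_equiv (subgroupOfEquivOfLe hTH).symm :
    IsPGroup p (((T : Subgroup K).map K.subtype).subgroupOf H)).exists_le_sylow
  obtain ⟨T0, hT0⟩ := ((P0.isPGroup'.map H.subtype).of_equiv (subgroupOfEquivOfLe hP0).symm :
    IsPGroup p (((P0 : Subgroup H).map H.subtype).subgroupOf K)).exists_le_sylow
  refine ⟨P, (Subgroup.eq_of_le_of_card_ge (fun x hx => show x ∈ (P : Subgroup H).map H.subtype from ⟨⟨x, hTH hx⟩, hP hx, rfl⟩) ?_).symm⟩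
  rw [card_map_of_injective H.subtype_injective, card_map_of_injective K.subtype_injective]
  calc Nat.card (P : Subgroup H) = Nat.card (P0 : Subgroup H) := by
        rw [Sylow.card_eq_multiplicity, Sylow.card_eq_multiplicity]
    _ = Nat.card (((P0 : Subgroup H).map H.subtype).subgroupOf K) := by
        rw [Nat.card_congr (subgroupOfEquivOfLe hP0).toEquiv, card_map_of_injective H.subtype_injective]
    _ ≤ Nat.card (T0 : Subgroup K) := card_le_of_le hT0
    _ = Nat.card (T : Subgroup K) := by rw [Sylow.card_eq_multiplicity, Sylow.card_eq_multiplicity]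

/-- Standing hypotheses: G a finite group, S a Sylow p-subgroup, Q a nontrivial large p-subgroup of G contained in S, M a subgroup containing S with the basic property (M ∈ 𝔐_G(S)); Y_M the largest p-reduced normal subgroup of M and M† = M·C_G(Y_M). Suppose Y_M is char-p-tall and asymmetric in G and H ∈ ℌ_G(O_p(M)). Then every Sylow p-subgroup of H ∩ M† is a Sylow p-subgroup of H; O_p(H) normalizes O_p(M) and Y_M; O^p(H) = [O^p(H), Y_M] and H = O^p(H)·O_p(M); O^p(H)·Y_M is the normal closure of Y_M in H; and H is the normal closure of O_p(M) in H. Here O^p(H) is the subgroup generated by the elements of H of order prime to p. -/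
theorem result {G : Type*} [Group G] [Finite G] {p : ℕ} [Fact p.Prime] (S : Sylow p G) (Q : Subgroup G) (hQp : IsPGroup p ↥Q) (hQ1 : Q ≠ ⊥) (hQS : Q ≤ (S : Subgroup G)) (hQ : Cfsg.IsLarge Q) (M : Subgroup G) (hSM : (S : Subgroup G) ≤ M) (hM : Cfsg.IsInFrakM p M) (htall : Cfsg.IsCharPTall p (Cfsg.largestPReducedOf p M)) (hasym : ¬ Cfsg.IsSymmetricIn (Cfsg.largestPReducedOf p M)) (H : Subgroup G) (hH : Cfsg.IsInFrakH p M H) (R : Subgroup G) (hR : R = (Cfsg.pResidual p ↥H).map H.subtype) : (∀ T : Sylow p ↥(H ⊓ (M ⊔ Subgroup.centralizer (((Cfsg.largestPReducedOf p M) : Subgroup G) : Set G))), ∃ P : Sylow p ↥H, ((P : Subgroup ↥H).map H.subtype) = (T : Subgroup ↥(H ⊓ (M ⊔ Subgroup.centralizer (((Cfsg.largestPReducedOf p M) : Subgroup G) : Set G)))).map (H ⊓ (M ⊔ Subgroup.centralizer (((Cfsg.largestPReducedOf p M) : Subgroup G) : Set G))).subtype) ∧ Cfsg.pCoreOf p H ≤ Subgroup.normalizer (((Cfsg.pCoreOf p M) : Subgroup G) : Set G) ⊓ Subgroup.normalizer (((Cfsg.largestPReducedOf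 p M) : Subgroup G) : Set G) ∧ ⁅R, (Cfsg.largestPReducedOf p M)⁆ = R ∧ R ⊔ (Cfsg.pCoreOf p M) = H ∧ R ⊔ (Cfsg.largestPReducedOf p M) = (Subgroup.normalClosure ((((Cfsg.largestPReducedOf p M)).subgroupOf H : Subgroup ↥H) : Set ↥H)).map H.subtype ∧ (Subgroup.normalClosure ((((Cfsg.pCoreOf p M)).subgroupOf H : Subgroup ↥H) : Set ↥H)).map H.subtype = H := by
  have h : Setting p S Q M := ⟨hQp, hQS, hQ, hSM, hM, hasym⟩
  have hc : Crit p M H := crit_of_frakH hH
  obtain ⟨P0, -, hP0⟩ := h.exists_sylow hc.hO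
  refine ⟨fun T => exists_sylow_eq inf_le_left P0
      (le_inf (map_subtype_le _) (hP0.trans h.normalizer_le_dagger)) T,
    le_inf (h.pCoreOf_le_normalizer hc.hO) ((h.pCoreOf_le_normalizer hc.hO).trans h.normalizer_le), ?_, ?_, ?_,
    hc.normalClosure_eq⟩
  · subst hR; exact hc.residual_commutator.1
  · subst hR; exact hc.residual_sup
  · subst hR; exact hc.residual_commutator.2

end Cfsg.Agent.S2853
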