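import Cfsg.Statements.S2854
import Cfsg.Agent.PReduced.Asym
import Cfsg.Agent.PReduced.CommutatorAction

set_option autoImplicit false
open Cfsg

namespace Cfsg.Agent.S2854

open Subgroup CfsgLib.PReduced CfsgLib.PReduced.Asym CfsgLib.Subnormal
open scoped commutatorElement

/-- A subgroup `X = H · O_p(X)` over a critical `H` is `p`-irreducible. -/
theorem irreducible {G : Type*} [Group G] [Finite G] {p : ℕ} [Fact p.Prime] {M H X : Subgroup G}
    (hc : Crit p M H) (hHX : H ≤ X) (hn : X ≤ normalizer (H : Set G))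
    (hres : (Cfsg.pResidual p ↥H).map H.subtype = (Cfsg.pResidual p ↥X).map X.subtype) :
    Cfsg.IsPIrreducible p ↥X := by
  set R := (Cfsg.pResidual p ↥H).map H.subtype with hR
  set Y := Cfsg.largestPReducedOf p M with hY
  set O := Cfsg.pCoreOf p M with hO
  set U := Cfsg.pCoreOf p H with hU
  have hYO : Y ≤ O := largestPReducedOf_le_pCoreOf M
  have hYH : Y ≤ H := hYO.trans hc.hO
  have hXU : X ≤ normalizer (U : Set G) := hn.trans (normalizer_le_normalizer_pCoreOf H)
  refine ⟨fun hcl => ?_, fun N hN hNc => ?_⟩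
  · refine hc.hY fun y hy => le_pCoreOf inf_le_right ?_ ((isPGroup_pCoreOf (p := p) X).to_le inf_le_left)
      (show y ∈ Cfsg.pCoreOf p X ⊓ H from ⟨le_pCoreOf_of_isPClosed hcl (hYH.trans hHX)
        (isPGroup_of_isElementaryAbelian (isElementaryAbelian_largestPReducedOf M)) hy, hYH hy⟩)
    exact fun x hx => inf_normalizer_le_normalizer_inf ⟨le_normalizer_pCoreOf X (hHX hx), le_normalizer hx⟩
  · set N' : Subgroup G := N.map X.subtype with hN'
    have hNX : N' ≤ X := map_subtype_le N
    have hXN : X ≤ normalizer (N' : Set G) := le_normalizer_map_subtype X N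
    by_contra hnle
    have hRN : ¬ R ≤ N' := by
      intro h
      apply hnle
      rw [hres] at h
      exact (map_subtype_le_map_subtype).mp h
    set W := N' ⊓ H with hW
    have hHW : H ≤ normalizer (W : Set G) := fun x hx =>
      inf_normalizer_le_normalizer_inf ⟨hXN (hHX hx), le_normalizer hx⟩
    set K := W ⊔ O with hK
    have hKlt : K < H := by
      refine lt_of_le_of_ne (sup_le inf_le_right hc.hO) fun e => hRN ?_
      exact (Cfsg.Agent.S2859.residualOf_le fun x hx hco => Cfsg.Agent.S2859.mem_of_coprime (hc.hO.trans hHW)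
        (isPGroup_pCoreOf M) (e.ge hx) hco).trans inf_le_left
    have hYK : Y ≤ Cfsg.pCoreOf p K := hc.hmin K le_sup_right hKlt
    -- `[W, Y] ≤ U`
    have hWY : ⁅W, Y⁆ ≤ U := by
      refine (le_inf ?_ (CfsgLib.PCore.commutator_le_of_le_normalizer (hYH.trans hHW))).trans
        ((le_pCoreOf inf_le_right ?_ ((isPGroup_pCoreOf K).to_le inf_le_left)).trans
          (pCoreOf_mono_of_normal inf_le_right hHW))
      · refine (commutator_mono le_rfl hYK).trans ?_
        rw [commutator_comm]
        exact CfsgLib.PCore.commutator_le_of_le_normalizer (le_sup_left.trans (le_normalizer_pCoreOf K))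
      · exact fun x hx => inf_normalizer_le_normalizer_inf
          ⟨le_normalizer_pCoreOf K (mem_sup_left hx), le_normalizer hx⟩
    have hRH : R ≤ H := map_subtype_le _
    -- `[W, R] ≤ U`
    have hWR : ⁅W, R⁆ ≤ U := by
      set C : Set G := {h | h ∈ H ∧ ∀ w ∈ W, ⁅w, h⁆ ∈ U} with hC
      have hUH : H ≤ normalizer (U : Set G) := hHX.trans hXU
      let Cs : Subgroup G :=
        { carrier := C
          one_mem' := ⟨one_mem H, fun w _ => by simp [one_mem]⟩
          mul_mem' := by
            rintro a b ⟨ha, ha'⟩ ⟨hb, hb'⟩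
            refine ⟨mul_mem ha hb, fun w hw => ?_⟩
            rw [show ⁅w, a * b⁆ = ⁅w, a⁆ * (a * ⁅w, b⁆ * a⁻¹) by simp only [commutatorElement_def]; group]
            exact mul_mem (ha' w hw) ((mem_normalizer_iff.mp (hUH ha) _).mp (hb' w hw))
          inv_mem' := by
            rintro a ⟨ha, ha'⟩
            refine ⟨inv_mem ha, fun w hw => ?_⟩
            rw [show ⁅w, a⁻¹⁆ = a⁻¹ * ⁅w, a⁆⁻¹ * (a⁻¹)⁻¹ by simp only [commutatorElement_def]; group]
            exact (mem_normalizer_iff.mp (hUH (inv_mem ha)) _).mp (inv_mem (ha' w hw)) }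
      have hYC : Y ≤ Cs := fun y hy => ⟨hYH hy, fun w hw => hWY (commutator_mem_commutator hw hy)⟩
      have hCn : H ≤ normalizer (Cs : Set G) := by
        intro h hh
        refine conj_eq_self_iff.mp (Subgroup.eq_of_le_of_card_ge ?_
          (card_map_of_injective (MulAut.conj h).injective).ge)
        rintro _ ⟨c, ⟨hcH, hc'⟩, rfl⟩
        refine ⟨mul_mem (mul_mem hh hcH) (inv_mem hh), fun w hw => ?_⟩
        show ⁅w, h * c * h⁻¹⁆ ∈ U
        rw [show ⁅w, h * c * h⁻¹⁆ = h * ⁅h⁻¹ * w * h, c⁆ * h⁻¹ by simp only [commutatorElement_def]; group]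
        refine (mem_normalizer_iff.mp (hUH hh) _).mp (hc' _ ?_)
        simpa using (mem_normalizer_iff.mp (hHW (inv_mem hh)) w).mp hw
      have hRY := hc.residual_commutator.2
      rw [commutator_le]
      intro w hw r hr
      have h1 : r ∈ (normalClosure ((Y.subgroupOf H : Subgroup H) : Set H)).map H.subtype :=
        hRY ▸ mem_sup_left hr
      obtain ⟨r', hr', rfl⟩ := h1
      haveI : (Cs.subgroupOf H).Normal := normal_subgroupOf_of_le_normalizer hCn
      have h2 : r' ∈ Cs.subgroupOf H :=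
        normalClosure_le_normal (N := Cs.subgroupOf H) (fun x hx => hYC hx) hr'
      exact h2.2 w hw
    -- three subgroups: `[N, R] ≤ U`
    have hNR : ⁅R, N'⁆ ≤ U := by
      have hRX : R ≤ X := hRH.trans hHX
      have hYX : Y ≤ X := hYH.trans hHX
      have h1 : ⁅Y, N'⁆ ≤ W := le_inf
        ((commutator_comm Y N').le.trans (CfsgLib.PCore.commutator_le_of_le_normalizer (hYX.trans hXN)))
        ((commutator_mono hYH le_rfl).trans (CfsgLib.PCore.commutator_le_of_le_normalizer (hNX.trans hn)))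
      have h2 : ⁅N', R⁆ ≤ W := le_inf (CfsgLib.PCore.commutator_le_of_le_normalizer (hRX.trans hXN))
        ((commutator_comm N' R).le.trans ((commutator_mono hRH le_rfl).trans
          (CfsgLib.PCore.commutator_le_of_le_normalizer (hNX.trans hn))))
      have h3 : ⁅⁅R, Y⁆, N'⁆ ≤ U := commutator_rotate_le (hYX.trans hXU) (hNX.trans hXU) (hRX.trans hXU)
        ((commutator_mono h1 le_rfl).trans hWR) ((commutator_mono h2 le_rfl).trans hWY)
      rwa [hc.residual_commutator.1] at h3
    -- `N` is p-closed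
    refine hNc fun P => ?_
    have hVle : (U.subgroupOf X).subgroupOf N ≤ (P : Subgroup N) := by
      haveI : (U.subgroupOf X).Normal := normal_subgroupOf_of_le_normalizer hXU
      refine (CfsgLib.PReduced.le_pCore inferInstance ?_).trans (CfsgLib.PReduced.pCore_le_sylow P)
      exact ((isPGroup_pCoreOf H).comap_of_injective X.subtype X.subtype_injective).comap_of_injective
        N.subtype N.subtype_injective
    refine normalizer_eq_top_iff.mp (top_le_iff.mp fun n _ => ?_)
    have hcop : ∀ b : N, (orderOf b).Coprime p → b ∈ normalizer ((P : Subgroup N) : Set N) := by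
      intro b hb
      refine conj_eq_self_iff.mp (Subgroup.eq_of_le_of_card_ge ?_
        (card_map_of_injective (MulAut.conj b).injective).ge)
      rintro _ ⟨x, hx, rfl⟩
      show b * x * b⁻¹ ∈ (P : Subgroup N)
      rw [show b * x * b⁻¹ = ⁅b, x⁆ * x by rw [commutatorElement_def]; group]
      refine mul_mem (hVle ?_) hx
      show ((⁅b, x⁆ : N) : G) ∈ U
      have hbR : ((b : X) : G) ∈ R := by
        rw [hres]
        exact Cfsg.Agent.S2859.mem_residualOf (b : X).2 (by
          rw [Subgroup.orderOf_coe, Subgroup.orderOf_coe]; exact hb)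
      exact hNR (commutator_mem_commutator hbR (mem_map_of_mem X.subtype x.2))
    have hPR : (P : Subgroup N) ⊔ Cfsg.pResidual p N ≤ normalizer ((P : Subgroup N) : Set N) :=
      sup_le le_normalizer ((closure_le _).mpr fun b hb => hcop b hb)
    haveI : (Cfsg.pResidual p N).Normal := CfsgLib.Transfer.pResidual_normal
    obtain ⟨t, ht, c, hc', rfl⟩ := CfsgLib.PReduced.exists_mul_of_powMem P (le_top : Cfsg.pResidual p N ≤ ⊤)
      (fun d _ => exists_pow_mem_pResidual d) (mem_top n)
    exact hPR (mul_mem (mem_sup_left ht.1) (mem_sup_right hc'))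

/-- Standing hypotheses: G a finite group, S a Sylow p-subgroup, Q a nontrivial large p-subgroup of G contained in S, M a subgroup containing S with the basic property (M ∈ 𝔐_G(S)); Y_M the largest p-reduced normal subgroup of M and M† = M·C_G(Y_M). Suppose Y_M is asymmetric in G, H ∈ ℌ_G(O_p(M)), and H ≤ N_G(gQg⁻¹) for some g ∈ G. Then gQg⁻¹ ≤ O_p(H·gQg⁻¹) ≤ N_G(O_p(M)) ≤ N_G(Y_M) = M†; H is normal in H·gQg⁻¹ with O^p(H) = O^p(H·gQg⁻¹); and H·gQg⁻¹ is p-irreducible. -/
theorem result {G : Type*} [Group G] [Finite G] {p : ℕ} [Fact p.Prime] (S : Sylow p G) (Q : Subgroup G) (hQp : IsPGroup p ↥Q) (hQ1 : Q ≠ ⊥) (hQS : Q ≤ (S : Subgroup G)) (hQ : Cfsg.IsLarge Q) (M : Subgroup G) (hSM : (S : Subgroup G) ≤ M) (hM : Cfsg.IsInFrakM p M) (hasym : ¬ Cfsg.IsSymmetricIn (Cfsg.largestPReducedOf p M)) (H : Subgroup G) (hH : Cfsg.IsInFrakH p M H) (g : G) (hHQ : H ≤ Subgroup.normalizer ((((Q : Subgroup G).map (MulAut.conj (g : G)).toMonoidHom) : Subgroup G) : Set G)) : ((Q : Subgroup G).map (MulAut.conj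 (g : G)).toMonoidHom) ≤ Cfsg.pCoreOf p (H ⊔ ((Q : Subgroup G).map (MulAut.conj (g : G)).toMonoidHom)) ∧ Cfsg.pCoreOf p (H ⊔ ((Q : Subgroup G).map (MulAut.conj (g : G)).toMonoidHom)) ≤ Subgroup.normalizer (((Cfsg.pCoreOf p M) : Subgroup G) : Set G) ∧ Subgroup.normalizer (((Cfsg.pCoreOf p M) : Subgroup G) : Set G) ≤ Subgroup.normalizer (((Cfsg.largestPReducedOf p M) : Subgroup G) : Set G) ∧ Subgroup.normalizer (((Cfsg.largestPReducedOf p M) : Subgroup G) : Set G) = (M ⊔ Subgroup.centralizer (((Cfsg.largestPReducedOf p M) : Subgroup G) : Set G)) ∧ (H.subgroupOf (H ⊔ ((Q : Subgroup G).map (MulAut.conj (g : G)).toMonoidHom))).Normal ∧ (Cfsg.pResidual p ↥H).map H.subtype = (Cfsg.pResidual p ↥(H ⊔ ((Q : Subgroup G).map (MulAut.conj (g : G)).toMonoidHom))).map (H ⊔ ((Q : Subgroup G).map (MulAut.conj (g : G)).toMonoidHom)).subtype ∧ Cfsg.IsPIrreducible p ↥(H ⊔ ((Q : Subgroup G).map (MulAut.conj (g : G)).toMonoidHom)) := by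
  have h : Setting p S Q M := ⟨hQp, hQS, hQ, hSM, hM, hasym⟩
  have hc : Crit p M H := crit_of_frakH hH
  set Qg := Q.map (MulAut.conj g).toMonoidHom with hQg
  set X := H ⊔ Qg with hX
  have hHX : H ≤ X := le_sup_left
  have hQX : Qg ≤ X := le_sup_right
  have hXQ : X ≤ normalizer (Qg : Set G) := sup_le hHQ le_normalizer
  have h1 : Qg ≤ Cfsg.pCoreOf p X := le_pCoreOf hQX hXQ (hQp.map _)
  have h2 : Cfsg.pCoreOf p X ≤ normalizer (Cfsg.pCoreOf p M : Set G) := h.pCoreOf_le_normalizer (hc.hO.trans hHX)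
  have hnH : X ≤ normalizer (H : Set G) := by
    refine sup_le le_normalizer fun q hq => ?_
    refine conj_eq_self_iff.mp (Subgroup.eq_of_le_of_card_ge ?_
      (card_map_of_injective (MulAut.conj q).injective).ge)
    conv_lhs => rw [← hc.normalClosure_eq]
    rw [Subgroup.map_map, map_le_iff_le_comap, normalClosure, closure_le]
    intro z hz
    obtain ⟨o, ho, hoz⟩ := Group.mem_conjugatesOfSet_iff.mp hz
    obtain ⟨a, rfl⟩ := isConj_iff.mp hoz
    show q * ((a : G) * (o : G) * (a : G)⁻¹) * q⁻¹ ∈ H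
    -- `q a = a q'` with `q'` in the conjugate of `Q`
    have hq' : (a : G)⁻¹ * q * (a : G) ∈ Qg := by
      simpa using (mem_normalizer_iff.mp (hHQ (H.inv_mem a.2)) q).mp hq
    have ho' : (a : G)⁻¹ * q * (a : G) * (o : G) * ((a : G)⁻¹ * q * (a : G))⁻¹ ∈ Cfsg.pCoreOf p M :=
      (mem_normalizer_iff.mp (h2 (h1 hq')) _).mp ho
    have := mul_mem (mul_mem a.2 (hc.hO ho')) (H.inv_mem a.2)
    simpa [mul_assoc] using this
  have hres : (Cfsg.pResidual p ↥H).map H.subtype = (Cfsg.pResidual p ↥X).map X.subtype := by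
    refine le_antisymm (Cfsg.Agent.S2859.residualOf_le fun x hx hco => Cfsg.Agent.S2859.mem_residualOf (hHX hx) hco)
      (Cfsg.Agent.S2859.residualOf_le fun x hx hco => ?_)
    have hQH : Qg ≤ normalizer (H : Set G) := hQX.trans hnH
    exact Cfsg.Agent.S2859.mem_residualOf (Cfsg.Agent.S2859.mem_of_coprime hQH (hQp.map _) hx hco) hco
  exact ⟨h1, h2, h.normalizer_le, h.normalizer_eq, normal_subgroupOf_of_le_normalizer hnH, hres,
    irreducible hc hHX hnH hres⟩

end Cfsg.Agent.S2854
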