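import Cfsg.Statements.S2860
import Cfsg.Agent.S2859
import Cfsg.Agent.PReduced.Large
import Cfsg.Agent.PReduced.FStarAction
import Cfsg.Agent.Components.PCompInternal

set_option autoImplicit false
open Cfsg

namespace Cfsg.Agent.S2860

open Subgroup CfsgLib.PReduced
open scoped commutatorElement
open Cfsg (IsQuasisimple)
open Cfsg.Agent.S2859 (residualOf_le mem_residualOf mem_of_coprime residual_commutator normalizer_le_weakClosure normalizer_le_residualOf)

/-- `p`-subgroups of a group generated by coprime elements meet it in the derived subgroup. -/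
theorem inf_le_derived {G : Type*} [Group G] [Finite G] {p : ℕ} [Fact p.Prime] (R : Subgroup G)
    (hres : (Cfsg.pResidual p ↥R).map R.subtype = R) {P : Subgroup G} (hP : IsPGroup p P) : P ⊓ R ≤ ⁅R, R⁆ := by
  have htop : Cfsg.pResidual p ↥R = ⊤ := by
    refine map_injective R.subtype_injective ?_
    rw [hres, ← MonoidHom.range_eq_map, range_subtype]
  rintro x ⟨hxP, hxR⟩
  have key : ∀ y ∈ Cfsg.pResidual p ↥R, (orderOf (Abelianization.of y)).Coprime p := by
    intro y hy
    induction hy using closure_induction with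
    | mem z hz => exact Nat.Coprime.coprime_dvd_left (orderOf_map_dvd _ z) hz
    | one => simp
    | mul a b _ _ ha hb =>
      rw [map_mul]
      exact Nat.Coprime.coprime_dvd_left (Commute.all _ _).orderOf_mul_dvd_mul_orderOf (ha.mul_left hb)
    | inv a _ ha => rw [map_inv, orderOf_inv]; exact ha
  obtain ⟨k, hk⟩ := hP ⟨x, hxP⟩
  have hk' : (⟨x, hxR⟩ : R) ^ p ^ k = 1 := Subtype.ext (by simpa using congrArg Subtype.val hk)
  have h1 : orderOf (Abelianization.of (⟨x, hxR⟩ : R)) ∣ p ^ k := orderOf_dvd_of_pow_eq_one (by rw [← map_pow, hk', map_one])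
  have h2 := orderOf_eq_one_iff.mp (Nat.eq_one_of_dvd_coprimes ((key _ (htop ▸ mem_top _)).pow_right k) dvd_rfl h1)
  have h3 : (⟨x, hxR⟩ : R) ∈ _root_.commutator ↥R := by
    rw [← Abelianization.ker_of]; exact h2
  have h4 : ⁅R, R⁆ = (_root_.commutator ↥R).map R.subtype := by
    rw [_root_.commutator_def, Subgroup.map_commutator, ← MonoidHom.range_eq_map, range_subtype]
  rw [h4]
  exact ⟨_, h3, rfl⟩

/-- A `p`-subgroup centralizing a normal subgroup of `p`-power index is trivial if `O_p = 1` and that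
subgroup is central in its centralizer. -/
theorem eq_bot_of_centralizes {H : Type*} [Group H] [Finite H] {p : ℕ} [Fact p.Prime] (K : Subgroup H) [K.Normal]
    (hco : ∀ y : H, (orderOf y).Coprime p → y ∈ K) (hO : Cfsg.pCore p H = ⊥) {P : Subgroup H} (hP : IsPGroup p P)
    (h : P ≤ centralizer (K : Set H)) : P = ⊥ := by
  haveI : Group.IsNilpotent (H ⧸ K) :=
    ((CfsgLib.Transfer.pResidual_le_iff K).mp ((closure_le _).mpr hco)).isNilpotent
  haveI : Group.IsNilpotent (centralizer (K : Set H)) := by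
    refine Subgroup.isNilpotent_of_ker_le_center ((QuotientGroup.mk' K).comp (centralizer (K : Set H)).subtype) ?_
    intro z hz
    have hzK : (z : H) ∈ K := (QuotientGroup.eq_one_iff (z : H)).mp hz
    exact mem_center_iff.mpr fun w => Subtype.ext (mem_centralizer_iff.mp w.2 (z : H) hzK).symm
  have hc := FStarAct.coprime_of_nilpotent hO (centralizer (K : Set H)) (p := p)
  exact (eq_bot_iff_forall P).mpr fun x hx =>
    eq_one_of_mem_isPGroup hP hx (hc.coprime_dvd_left (Subgroup.orderOf_dvd_natCard _ (h hx)))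
/-- Let Q be a nontrivial large p-subgroup of the finite group H, U a nontrivial elementary abelian p-subgroup of H, and Q ≤ E ≤ N_H(U) with Q not normal in E. Suppose O_p(E/C_E(U)) = 1 and O^p(E)·C_E(U)/C_E(U) is quasisimple. Let E° be the weak closure of Q in E (generated by the conjugates of Q inside E) and E_∘ = O^p(E°). Then O^p(E)·C_E(U) = E_∘·C_E(U); E_∘ is perfect and equals O^p(E_∘); E_∘/C_{E_∘}(U) and E_∘/O_p(E_∘) are quasisimple; and E_∘ = [E_∘, Y] for every p-subgroup Y of E not centralizing U. -/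
theorem result {G : Type*} [Group G] [Finite G] {p : ℕ} [Fact p.Prime] (Q : Subgroup G) (hQp : IsPGroup p ↥Q) (hQ1 : Q ≠ ⊥) (hQ : Cfsg.IsLarge Q) (U : Subgroup G) (hU : Cfsg.IsElementaryAbelian p U) (hU1 : U ≠ ⊥) (E : Subgroup G) (hQE : Q ≤ E) (hEU : E ≤ Subgroup.normalizer ((U : Subgroup G) : Set G)) (hQn : ¬ E ≤ Subgroup.normalizer ((Q : Subgroup G) : Set G)) [hn : ((Subgroup.centralizer ((U : Subgroup G) : Set G)).subgroupOf E).Normal] (hred : Cfsg.pCore p (↥E ⧸ (Subgroup.centralizer ((U : Subgroup G) : Set G)).subgroupOf E) = ⊥) (hqs : Cfsg.IsQuasisimple ↥(((Cfsg.pResidual p ↥E) ⊔ (Subgroup.centralizer ((U : Subgroup G) : Set G)).subgroupOf E).map (QuotientGroup.mk' ((Subgroup.centralizer ((U : Subgroup G) : Set G)).subgroupOf E)))) (Er : Subgroup G) (hEr : Er = ((Cfsg.pResidual p ↥(Cfsg.weakClosure Q E)).map ((Cfsg.weakClosure Q E)).subtype)) [hn2 : ((Subgroup.centralizer ((U : Subgroup G) : Set G)).subgroupOf Er).Normal] : ((Cfsg.pResidual p ↥E).map (E).subtype)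 ⊔ (E ⊓ Subgroup.centralizer ((U : Subgroup G) : Set G)) = Er ⊔ (E ⊓ Subgroup.centralizer ((U : Subgroup G) : Set G)) ∧ ⁅Er, Er⁆ = Er ∧ ((Cfsg.pResidual p ↥Er).map (Er).subtype) = Er ∧ Cfsg.IsQuasisimple (↥Er ⧸ (Subgroup.centralizer ((U : Subgroup G) : Set G)).subgroupOf Er) ∧ Cfsg.IsQuasisimple (↥Er ⧸ Cfsg.pCore p ↥Er) ∧ ∀ Y : Subgroup G, Y ≤ E → IsPGroup p ↥Y → ¬ Y ≤ Subgroup.centralizer ((U : Subgroup G) : Set G) → ⁅Er, Y⁆ = Er := by
  set C := centralizer (U : Set G) with hC
  set N := C.subgroupOf E with hN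
  set π := QuotientGroup.mk' N with hπ
  have hUp : IsPGroup p U := isPGroup_of_isElementaryAbelian hU
  have hEC : E ≤ normalizer (C : Set G) := hEU.trans (normalizer_le_normalizer_centralizer U)
  have hwc := isWeaklyClosedSubgroup_of_large hQp hQ1 hQ
  have hCQ : ∀ e : ↥E, C ≤ normalizer ((Q.map (MulAut.conj (e : G)).toMonoidHom : Subgroup G) : Set G) := fun e => by
    refine centralizer_le_normalizer_of_large (hQp.map _) (isLarge_map_conj hQ _) hUp ?_ hU1
    exact ((map_mono hQE).trans (CfsgLib.Subnormal.conj_eq_self_iff.mpr (le_normalizer e.2)).le).trans hEU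
  have hQC : ¬ Q ≤ C := by
    intro h
    refine hQn fun e he => CfsgLib.Subnormal.conj_eq_self_iff.mp ?_
    have h1 : Q.map (MulAut.conj e).toMonoidHom ≤ normalizer (Q : Set G) := by
      refine ((map_mono h).trans (CfsgLib.Subnormal.conj_eq_self_iff.mpr (hEC he)).le).trans ?_
      have h2 := hCQ 1
      rwa [Subgroup.coe_one, CfsgLib.Subnormal.conj_one] at h2
    exact conj_eq_of_le hwc ((hQp.map _).to_sup_of_normal_right' hQp h1) le_sup_right le_sup_left
  set W := Cfsg.weakClosure Q E with hW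
  have hW1 := (Cfsg.Agent.S2840.result Q hQp hQ1 hwc E hQE W rfl).1
  have hWE : W ≤ E := iSup_le fun x => x.2
  have hQW : Q ≤ W := by
    rw [hW1]
    refine le_iSup_of_le (1 : ↥E) ?_
    rw [Subgroup.coe_one, CfsgLib.Subnormal.conj_one]
  have hgen : normalClosure ((Q.subgroupOf W : Subgroup ↥W) : Set ↥W) = ⊤ := by
    refine top_le_iff.mp fun x _ => ?_
    have hle : W ≤ (normalClosure ((Q.subgroupOf W : Subgroup ↥W) : Set ↥W)).map W.subtype := by
      conv_lhs => rw [hW1]
      refine iSup_le fun k => ?_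
      have hk : Q.map (MulAut.conj (k : G)).toMonoidHom ≤ W := by
        rw [hW1]; exact le_iSup (fun k : ↥E => Q.map (MulAut.conj (k : G)).toMonoidHom) k
      obtain ⟨w, hw, e⟩ := exists_conj_eq_of_le hQp hwc hQW hk
      rw [e]
      rintro _ ⟨q, hq, rfl⟩
      exact ⟨⟨w, hw⟩ * ⟨q, hQW hq⟩ * ⟨w, hw⟩⁻¹,
        normalClosure_normal.conj_mem _ (subset_normalClosure (show (⟨q, hQW hq⟩ : W) ∈ Q.subgroupOf W from hq)) _, rfl⟩
    obtain ⟨y, hy, hyx⟩ := hle x.2
    exact (Subtype.ext hyx : y = x) ▸ hy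
  obtain ⟨hsupQ, hKQ⟩ := residual_commutator (Q.subgroupOf W) (hQp.of_equiv (subgroupOfEquivOfLe hQW).symm) hgen
  have hRQ : ⁅Er, Q⁆ = Er := by
    have := congrArg (Subgroup.map W.subtype) hKQ
    rwa [Subgroup.map_commutator, map_subgroupOf_eq_of_le hQW, ← hEr] at this
  have hWRQ : W = Er ⊔ Q := by
    have := congrArg (Subgroup.map W.subtype) hsupQ
    rw [Subgroup.map_sup, map_subgroupOf_eq_of_le hQW, ← hEr, ← MonoidHom.range_eq_map, range_subtype] at this
    exact this.symm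
  have hRW : Er ≤ W := hEr ▸ map_subtype_le _
  have hRE : Er ≤ E := hRW.trans hWE
  have hEW : E ≤ normalizer (W : Set G) := le_normalizer.trans (normalizer_le_weakClosure Q E)
  have hER : E ≤ normalizer (Er : Set G) := hEr ▸ hEW.trans (normalizer_le_residualOf p W)
  -- `[E ⊓ C, W]` lies in a `p`-group
  set D := Cfsg.pCoreOf p (E ⊓ C) with hD
  have hED : E ≤ normalizer (D : Set G) := fun e he =>
    normalizer_le_normalizer_pCoreOf (E ⊓ C) (inf_normalizer_le_normalizer_inf ⟨le_normalizer he, hEC he⟩)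
  have hCW : ∀ w ∈ W, ∀ c ∈ E, c ∈ C → ⁅c, w⁆ ∈ D := by
    intro w hw
    rw [hW1] at hw
    refine (Subgroup.iSup_induction (C := fun w => w ∈ E ∧ ∀ c ∈ E, c ∈ C → ⁅c, w⁆ ∈ D) _ hw ?_ ?_ ?_).2
    · intro k x hx
      have hQk : Q.map (MulAut.conj (k : G)).toMonoidHom ≤ E :=
        (map_mono hQE).trans (CfsgLib.Subnormal.conj_eq_self_iff.mpr (le_normalizer k.2)).le
      refine ⟨hQk hx, fun c hcE hcC => ?_⟩
      set Qk := Q.map (MulAut.conj (k : G)).toMonoidHom with hQkd
      have h1 : Qk ⊓ (E ⊓ C) ≤ D := by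
        refine le_pCoreOf inf_le_right ?_ ((hQp.map _).to_le inf_le_left)
        intro y hy
        exact inf_normalizer_le_normalizer_inf ⟨hCQ k (mem_inf.mp hy).2, le_normalizer hy⟩
      refine h1 (mem_inf.mpr ⟨?_, mem_inf.mpr ⟨?_, ?_⟩⟩)
      · rw [commutatorElement_def]
        exact Qk.mul_mem ((mem_normalizer_iff.mp (hCQ k hcC) x).mp hx) (Qk.inv_mem hx)
      · rw [commutatorElement_def]
        exact E.mul_mem (E.mul_mem (E.mul_mem hcE (hQk hx)) (E.inv_mem hcE)) (E.inv_mem (hQk hx))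
      · rw [commutatorElement_def, mul_assoc c x, mul_assoc c]
        exact C.mul_mem hcC ((mem_normalizer_iff.mp (hEC (hQk hx)) _).mp (C.inv_mem hcC))
    · exact ⟨one_mem E, fun c _ _ => by simp⟩
    · rintro x y ⟨hx, hx'⟩ ⟨hy, hy'⟩
      refine ⟨mul_mem hx hy, fun c hcE hcC => ?_⟩
      rw [show ⁅c, x * y⁆ = ⁅c, x⁆ * (x * ⁅c, y⁆ * x⁻¹) by simp only [commutatorElement_def]; group]
      exact mul_mem (hx' c hcE hcC) ((mem_normalizer_iff.mp (hED hx) _).mp (hy' c hcE hcC))
  have hDp : IsPGroup p D := isPGroup_pCoreOf _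
  -- the residual of the residual
  have hres : (Cfsg.pResidual p ↥Er).map Er.subtype = Er := by
    refine le_antisymm (map_subtype_le _) ?_
    conv_lhs => rw [hEr]
    exact residualOf_le fun x hx hc => mem_residualOf (hEr ▸ mem_residualOf hx hc) hc
  -- images modulo the centralizer
  let bar : Subgroup G → Subgroup (↥E ⧸ N) := fun X => (X.subgroupOf E).map π
  have hbar0 : ∀ X : Subgroup G, X ≤ E → bar X = ⊥ → X ≤ C := fun X hX h x hx => by
    have h1 : π ⟨x, hX hx⟩ ∈ bar X := mem_map_of_mem π (show (⟨x, hX hx⟩ : E) ∈ X.subgroupOf E from hx)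
    rw [h, mem_bot] at h1
    exact ((QuotientGroup.eq_one_iff (⟨x, hX hx⟩ : ↥E)).mp h1 : (⟨x, hX hx⟩ : ↥E) ∈ N)
  have hbarn : ∀ X : Subgroup G, E ≤ normalizer (X : Set G) → (bar X).Normal := fun X h =>
    (normal_subgroupOf_of_le_normalizer h).map π (QuotientGroup.mk'_surjective N)
  have hbarc : ∀ X Y : Subgroup G, X ≤ E → Y ≤ E → bar ⁅X, Y⁆ = ⁅bar X, bar Y⁆ := by
    intro X Y hX hY
    have hXY : ⁅X, Y⁆ ≤ E := (commutator_mono hX hY).trans (CfsgLib.CoprimeAction.commutator_le_of_normalizer le_normalizer)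
    show (⁅X, Y⁆.subgroupOf E).map π = ⁅(X.subgroupOf E).map π, (Y.subgroupOf E).map π⁆
    rw [← Subgroup.map_commutator]
    congr 1
    refine map_injective E.subtype_injective ?_
    rw [Subgroup.map_commutator, map_subgroupOf_eq_of_le hX, map_subgroupOf_eq_of_le hY, map_subgroupOf_eq_of_le hXY]
  set Kb := (Cfsg.pResidual p ↥E).map π with hKb
  haveI hKbn : Kb.Normal := CfsgLib.Transfer.pResidual_normal.map π (QuotientGroup.mk'_surjective N)
  have hKeq : (Cfsg.pResidual p ↥E ⊔ N).map π = Kb := by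
    rw [Subgroup.map_sup, (Subgroup.map_eq_bot_iff N).mpr (QuotientGroup.ker_mk' N).ge, sup_bot_eq]
  rw [hKeq] at hqs
  have hKperf : ⁅Kb, Kb⁆ = Kb := by
    have h := congrArg (Subgroup.map Kb.subtype) hqs.1.commutator_eq_top
    rwa [_root_.commutator_def, Subgroup.map_commutator, ← MonoidHom.range_eq_map, range_subtype] at h
  have hco : ∀ y : ↥E ⧸ N, (orderOf y).Coprime p → y ∈ Kb := by
    intro y hy
    obtain ⟨e, rfl⟩ := QuotientGroup.mk'_surjective N y
    haveI := CfsgLib.Transfer.pResidual_normal (p := p) (G := ↥E)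
    obtain ⟨k, hk⟩ := CfsgLib.Transfer.isPGroup_quotient_pResidual (p := p) (QuotientGroup.mk' (Cfsg.pResidual p ↥E) e)
    rw [← map_pow] at hk
    obtain ⟨m, hm⟩ := exists_pow_eq_self_of_coprime ((hy.pow_right k).symm)
    rw [← hm, ← map_pow π]
    exact pow_mem (mem_map_of_mem π ((QuotientGroup.eq_one_iff _).mp hk)) m
  have hkey : ∀ Y : Subgroup G, Y ≤ E → IsPGroup p ↥Y → ¬ Y ≤ C → Kb ≤ ⁅Kb, bar Y⁆ := by
    intro Y hY hYp hYC
    have hsub : ⁅Kb, bar Y⁆ ≤ Kb := CfsgLib.CoprimeAction.commutator_le_of_normalizer le_normalizer_of_normal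
    have hnor : Kb ≤ normalizer ((⁅Kb, bar Y⁆ : Subgroup _) : Set (↥E ⧸ N)) :=
      CfsgLib.CoprimeAction.self_le_normalizer_commutator
    rcases CfsgLib.Components.quasisimple_normal hqs (normal_subgroupOf_of_le_normalizer hnor) with h | h
    · exfalso
      have h1 : ⁅⁅Kb, bar Y⁆, Kb⁆ = ⊥ := by
        refine (commutator_eq_bot_iff_le_centralizer.mpr fun x hx => mem_centralizer_iff.mpr fun k hk => ?_)
        have h2 := h (show (⟨x, hsub hx⟩ : Kb) ∈ (⁅Kb, bar Y⁆).subgroupOf Kb from hx)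
        exact congrArg Subtype.val (mem_center_iff.mp h2 ⟨k, hk⟩)
      have h2 : ⁅⁅Kb, Kb⁆, bar Y⁆ = ⊥ :=
        commutator_commutator_eq_bot_of_rotate h1 (by rw [commutator_comm (bar Y) Kb]; exact h1)
      rw [hKperf, commutator_eq_bot_iff_le_centralizer] at h2
      refine hYC (hbar0 Y hY (eq_bot_of_centralizes Kb hco hred ?_ (le_centralizer_iff.mp h2)))
      exact (hYp.comap_of_injective E.subtype E.subtype_injective).map π
    · exact subgroupOf_eq_top.mp h
  haveI hWbn : (bar W).Normal := hbarn W hEW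
  haveI hRbn : (bar Er).Normal := hbarn Er hER
  have hKW : Kb ≤ bar W := by
    refine (hkey Q hQE hQp hQC).trans ((commutator_mono le_rfl ?_).trans
      (by rw [commutator_comm]; exact CfsgLib.CoprimeAction.commutator_le_of_normalizer le_normalizer_of_normal))
    exact map_mono fun e he => hQW he
  have hKR : Kb = bar Er := by
    refine le_antisymm ?_ (map_mono fun e he => ?_)
    · rw [hKb, Subgroup.map_le_iff_le_comap, Cfsg.pResidual, closure_le]
      intro x hx
      have h1 : π x ∈ bar Er ⊔ bar Q := by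
        have h2 := hKW (mem_map_of_mem π (subset_closure hx))
        show π x ∈ (Er.subgroupOf E).map π ⊔ (Q.subgroupOf E).map π
        rw [← Subgroup.map_sup, ← subgroupOf_sup hRE hQE, ← hWRQ]
        exact h2
      exact mem_of_coprime (le_normalizer_of_normal) ((hQp.comap_of_injective E.subtype E.subtype_injective).map π) h1
        (Nat.Coprime.coprime_dvd_left (orderOf_map_dvd π x) hx)
    · have h1 : Er ≤ (Cfsg.pResidual p ↥E).map E.subtype := by
        conv_lhs => rw [hEr]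
        exact residualOf_le fun x hx hc => mem_residualOf (hWE hx) hc
      obtain ⟨y, hy, hye⟩ := h1 he
      exact (Subtype.ext hye : y = e) ▸ hy
  have hlift : ∀ X : Subgroup G, X ≤ E → ∀ x : G, ∀ hx : x ∈ E, π ⟨x, hx⟩ ∈ bar X → ∃ y ∈ X, y⁻¹ * x ∈ E ⊓ C := by
    intro X hX x hx hπx
    obtain ⟨y, hy, hyx⟩ := hπx
    refine ⟨(y : G), hy, E.mul_mem (E.inv_mem y.2) hx, ?_⟩
    exact (QuotientGroup.eq.mp hyx : y⁻¹ * ⟨x, hx⟩ ∈ N)
  have hDR : D ⊓ Er ≤ Cfsg.pCoreOf p Er := le_pCoreOf inf_le_right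
    (fun r hr => inf_normalizer_le_normalizer_inf ⟨hED (hRE hr), le_normalizer hr⟩) (hDp.to_le inf_le_left)
  have hcomR : ∀ c ∈ E, c ∈ C → ∀ r ∈ Er, ⁅c, r⁆ ∈ D ⊓ Er := fun c hcE hcC r hr => mem_inf.mpr
    ⟨hCW r (hRW hr) c hcE hcC, by
      rw [commutatorElement_def]
      exact Er.mul_mem ((mem_normalizer_iff.mp (hER hcE) r).mp hr) (Er.inv_mem hr)⟩
  have hperf : ⁅Er, Er⁆ = Er := by
    refine le_antisymm (CfsgLib.CoprimeAction.commutator_le_of_normalizer le_normalizer) ?_
    set R' := ⁅Er, Er⁆ with hR'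
    have hR'le : R' ≤ Er := CfsgLib.CoprimeAction.commutator_le_of_normalizer le_normalizer
    have hbar' : bar Er = bar R' := by
      rw [hR', hbarc Er Er hRE hRE, ← hKR, hKperf]
    conv_lhs => rw [← hRQ]
    rw [commutator_le]
    intro r hr q hq
    obtain ⟨y, hy, hyC⟩ := hlift R' (hR'le.trans hRE) r (hRE hr) (hbar' ▸ mem_map_of_mem π (show (⟨r, hRE hr⟩ : E) ∈ Er.subgroupOf E from hr))
    obtain ⟨hcE, hcC⟩ := mem_inf.mp hyC
    set c := y⁻¹ * r with hc
    have hqR : q ∈ normalizer (R' : Set G) := by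
      refine CfsgLib.Subnormal.conj_eq_self_iff.mp ?_
      rw [hR', Subgroup.map_commutator, CfsgLib.Subnormal.conj_eq_self_iff.mpr (hER (hQE hq))]
    rw [show r = y * c by rw [hc]; group,
      show ⁅y * c, q⁆ = y * ⁅c, q⁆ * y⁻¹ * (y * (q * y⁻¹ * q⁻¹)) by simp only [commutatorElement_def]; group]
    refine R'.mul_mem (R'.mul_mem (R'.mul_mem hy (inf_le_derived Er hres hDp (mem_inf.mpr ⟨?_, ?_⟩))) (R'.inv_mem hy))
      (R'.mul_mem hy ((mem_normalizer_iff.mp hqR _).mp (R'.inv_mem hy)))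
    · exact hCW q (hQW hq) c hcE hcC
    · have hcR : c ∈ Er := Er.mul_mem (Er.inv_mem (hR'le hy)) hr
      rw [commutatorElement_def, mul_assoc c q, mul_assoc c]
      exact Er.mul_mem hcR ((mem_normalizer_iff.mp (hER (hQE hq)) _).mp (Er.inv_mem hcR))
  let f : ↥Er →* ↥E ⧸ N := π.comp (Subgroup.inclusion hRE)
  have hker : f.ker = C.subgroupOf Er := by
    ext r
    exact QuotientGroup.eq_one_iff (Subgroup.inclusion hRE r)
  have hran : f.range = Kb := by
    rw [hKR, MonoidHom.range_comp, Subgroup.inclusion_range]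
  have hqR : Cfsg.IsQuasisimple (↥Er ⧸ C.subgroupOf Er) :=
    CfsgLib.IsoInv.isQuasisimple_of_equiv ((QuotientGroup.quotientMulEquivOfEq hker.symm).trans
      ((QuotientGroup.quotientKerEquivRange f).trans (MulEquiv.subgroupCongr hran))).symm hqs
  refine ⟨?_, hperf, hres, hqR, ?_, ?_⟩
  · refine le_antisymm (sup_le ?_ le_sup_right) (sup_le ?_ le_sup_right)
    · rintro _ ⟨x, hx, rfl⟩
      obtain ⟨y, hy, hyx⟩ := hlift Er hRE x x.2 (hKR ▸ mem_map_of_mem π hx)
      rw [show E.subtype x = y * (y⁻¹ * (x : G)) by rw [mul_inv_cancel_left]; rfl]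
      exact mul_mem (mem_sup_left hy) (mem_sup_right hyx)
    · refine le_trans ?_ le_sup_left
      conv_lhs => rw [hEr]
      exact residualOf_le fun x hx hc => mem_residualOf (hWE hx) hc
  · haveI : (Cfsg.pCore p ↥Er).Normal := by
      haveI := CfsgLib.PCore.pCore_characteristic p ↥Er
      infer_instance
    have hOC : Cfsg.pCore p ↥Er ≤ C.subgroupOf Er := by
      have h1 : bar (Cfsg.pCoreOf p Er) = ⊥ := le_bot_iff.mp (hred ▸ le_pCore
        (hbarn _ (hER.trans (normalizer_le_normalizer_pCoreOf Er)))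
        (((isPGroup_pCoreOf Er).comap_of_injective E.subtype E.subtype_injective).map π))
      exact fun r hr => hbar0 _ ((pCoreOf_le Er).trans hRE) h1 ⟨r, hr, rfl⟩
    haveI : Group.IsPerfect ↥Er := ⟨map_injective Er.subtype_injective (by
      rw [_root_.commutator_def, Subgroup.map_commutator, ← MonoidHom.range_eq_map, range_subtype, hperf])⟩
    haveI : Group.IsPerfect (↥Er ⧸ Cfsg.pCore p ↥Er) :=
      Group.IsPerfect.ofSurjective (f := QuotientGroup.mk' (Cfsg.pCore p ↥Er)) (QuotientGroup.mk'_surjective _)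
    haveI : ((C.subgroupOf Er).map (QuotientGroup.mk' (Cfsg.pCore p ↥Er))).Normal :=
      hn2.map _ (QuotientGroup.mk'_surjective _)
    refine CfsgLib.Components.isQuasisimple_of_central (N := (C.subgroupOf Er).map (QuotientGroup.mk' (Cfsg.pCore p ↥Er))) ?_
      (CfsgLib.IsoInv.isQuasisimple_of_equiv (QuotientGroup.quotientQuotientEquivQuotient _ _ hOC).symm hqR)
    rintro _ ⟨c, hc, rfl⟩
    rw [mem_center_iff]
    intro g
    obtain ⟨r, rfl⟩ := QuotientGroup.mk'_surjective _ g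
    refine (commutatorElement_eq_one_iff_mul_comm.mp ?_).symm
    rw [← map_commutatorElement]
    refine (QuotientGroup.eq_one_iff _).mpr ((mem_map_iff_mem Er.subtype_injective).mp ?_)
    exact hDR (hcomR c (hRE c.2) hc r r.2)
  · intro Y hY hYp hYC
    have hVR : ⁅Er, Y⁆ ≤ Er := CfsgLib.CoprimeAction.commutator_le_of_normalizer (hY.trans hER)
    refine le_antisymm hVR ?_
    set V := ⁅Er, Y⁆ with hV
    have hRV : Er ≤ normalizer (V : Set G) := CfsgLib.CoprimeAction.self_le_normalizer_commutator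
    have hbarV : bar Er ≤ bar V := by
      rw [hV, hbarc Er Y hRE hY, ← hKR]
      exact hkey Y hY hYp hYC
    have h1 : Er ≤ V ⊔ (D ⊓ Er) := by
      conv_lhs => rw [← hperf]
      rw [commutator_le]
      intro a ha b hb
      obtain ⟨v, hv, hvC⟩ := hlift V (hVR.trans hRE) a (hRE ha) (hbarV (mem_map_of_mem π (show (⟨a, hRE ha⟩ : E) ∈ Er.subgroupOf E from ha)))
      obtain ⟨hcE, hcC⟩ := mem_inf.mp hvC
      set c := v⁻¹ * a with hc
      rw [show a = v * c by rw [hc]; group,
        show ⁅v * c, b⁆ = v * ⁅c, b⁆ * v⁻¹ * (v * (b * v⁻¹ * b⁻¹)) by simp only [commutatorElement_def]; group]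
      exact mul_mem (mul_mem (mul_mem (mem_sup_left hv) (mem_sup_right (hcomR c hcE hcC b hb))) (inv_mem (mem_sup_left hv)))
        (mul_mem (mem_sup_left hv) (mem_sup_left ((mem_normalizer_iff.mp (hRV hb) _).mp (V.inv_mem hv))))
    conv_lhs => rw [← hres]
    exact residualOf_le fun x hx hc => mem_of_coprime (inf_le_right.trans hRV) (hDp.to_le inf_le_left) (h1 hx) hc

end Cfsg.Agent.S2860
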