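import Cfsg.Statements.S2855
import Cfsg.Agent.S2827
import Cfsg.Agent.S2829
import Cfsg.Agent.S2859
import Cfsg.Agent.S2860
import Cfsg.Agent.PReduced.PIrreducible
import Cfsg.Agent.Subnormal.Basic
import Cfsg.Agent.Subnormal.BaerSuzuki
import Cfsg.Agent.Hall.StructBatch

set_option autoImplicit false
open Cfsg

namespace Cfsg.Agent.S2855

open Subgroup CfsgLib.PReduced
open CfsgLib.Subnormal (conj_conj conj_one conj_eq_self_iff le_pCore_of_isSubnormal)
open scoped commutatorElement Pointwise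
open Cfsg.Agent.S2859 (residualOf_le mem_residualOf mem_of_coprime)

/-- The ratio of two commuting `p`-elements. -/
theorem pow_eq_one_of_mul {G : Type*} [Group G] {p a b : ℕ} {c e : G} (h : Commute c e) (he : e ^ p ^ a = 1)
    (hce : (c * e) ^ p ^ b = 1) : c ^ p ^ (a + b) = 1 := by
  have h1 : (c * e) ^ p ^ (a + b) = 1 := by rw [add_comm, pow_add, pow_mul, hce, one_pow]
  rwa [h.mul_pow, show e ^ p ^ (a + b) = 1 by rw [pow_add, pow_mul, he, one_pow], mul_one] at h1

/-- A central `p`-element of a subnormal subgroup is trivial if `O_p = 1`. -/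
theorem central_eq_one {G : Type*} [Group G] [Finite G] {p : ℕ} [Fact p.Prime] (hO : Cfsg.pCore p G = ⊥)
    {A : Subgroup G} (hA : A.IsSubnormal) {c : G} (hc : c ∈ A) (hcen : A ≤ centralizer ({c} : Set G))
    (hk : ∃ k, c ^ p ^ k = 1) : c = 1 := by
  have hle : zpowers c ≤ A := zpowers_le.mpr hc
  have hn : A ≤ normalizer ((zpowers c : Subgroup G) : Set G) := fun a ha => by
    refine centralizer_le_normalizer _ (mem_centralizer_iff.mpr ?_)
    rintro _ ⟨i, rfl⟩
    exact (Commute.zpow_left (mem_centralizer_iff.mp (hcen ha) c (Set.mem_singleton c)) i).eq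
  have h := le_pCore_of_isSubnormal (Subgroup.IsSubnormal.step _ _ hle hA (normal_subgroupOf_of_le_normalizer hn))
    (isPGroup_zpowers_of_pow_eq_one hk)
  rw [hO] at h
  exact zpowers_eq_bot.mp (le_bot_iff.mp h)

/-- A group generated by the conjugates of a Sylow subgroup, contained in a subgroup. -/
theorem le_of_pElements {G : Type*} [Group G] [Finite G] {p : ℕ} [Fact p.Prime] {E C : Subgroup G}
    (hgen : ∀ T : Sylow p ↥E, normalClosure ((T : Subgroup ↥E) : Set ↥E) = ⊤)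
    (h : ∀ e ∈ E, (∃ k, e ^ p ^ k = 1) → e ∈ C) : E ≤ C := by
  obtain ⟨T⟩ : Nonempty (Sylow p ↥E) := inferInstance
  intro x hx
  have h1 : normalClosure ((T : Subgroup ↥E) : Set ↥E) ≤ C.subgroupOf E := by
    refine (closure_le _).mpr ?_
    intro y hy
    obtain ⟨t, ht, hty⟩ := Group.mem_conjugatesOfSet_iff.mp hy
    obtain ⟨g, rfl⟩ := isConj_iff.mp hty
    obtain ⟨k, hk⟩ := exists_pow_eq_one_of_mem T.isPGroup' ht
    refine h _ (g * t * g⁻¹ : ↥E).2 ⟨k, ?_⟩
    show ((g * t * g⁻¹ : ↥E) : G) ^ _ = 1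
    rw [← Subgroup.coe_pow, conj_pow, hk, mul_one, mul_inv_cancel, Subgroup.coe_one]
  exact h1 (hgen T ▸ mem_top (⟨x, hx⟩ : E))

variable {H : Type*} [Group H] [Finite H] {p : ℕ} [Fact p.Prime]

/-- The first part. -/
theorem minimal (𝒦 : Set (Subgroup H)) (hne : 𝒦.Nonempty)
    (hinv : ∀ h : H, ∀ E ∈ 𝒦, E.map (MulAut.conj h).toMonoidHom ∈ 𝒦)
    (htr : ∀ E ∈ 𝒦, ∀ K ∈ 𝒦, ∃ h : H, K = E.map (MulAut.conj h).toMonoidHom)
    (hres : Cfsg.pResidual p H ≤ sSup 𝒦)
    (hnorm : ∀ E ∈ 𝒦, sSup 𝒦 ⊔ Cfsg.pCore p H ≤ Subgroup.normalizer ((E ⊔ Cfsg.pCore p H : Subgroup H) : Set H))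
    (hmin : ∀ E ∈ 𝒦, ∀ T : Sylow p ↥E, Cfsg.IsMinimalOver (T : Subgroup ↥E)) (T : Sylow p H) :
    Cfsg.IsMinimalOver (T : Subgroup H) := by
  set O := Cfsg.pCore p H with hO
  set Rh := sSup 𝒦 ⊔ O with hRh
  have hOT : O ≤ (T : Subgroup H) := pCore_le_sylow T
  have hTR : (T : Subgroup H) ⊔ sSup 𝒦 = ⊤ := top_le_iff.mp
    ((CfsgLib.Transfer.pResidual_sup_sylow T).ge.trans (sup_le (hres.trans le_sup_right) le_sup_left))
  have hRn : (sSup 𝒦).Normal := by
    refine ⟨fun x hx g => ?_⟩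
    have hle : (sSup 𝒦).map (MulAut.conj g).toMonoidHom ≤ sSup 𝒦 := by
      rw [Subgroup.map_le_iff_le_comap]
      exact sSup_le fun E hE => Subgroup.map_le_iff_le_comap.mp (le_sSup (hinv g E hE))
    exact hle ⟨x, hx, rfl⟩
  haveI : Rh.Normal := by rw [hRh]; infer_instance
  refine ⟨?_, ?_⟩
  · refine top_le_iff.mp (hTR.ge.trans (sup_le subset_normalClosure (sSup_le fun E hE => ?_)))
    refine le_of_pElements (fun Q => (hmin E hE Q).1) fun e _ ⟨k, hk⟩ => ?_
    obtain ⟨P, hP⟩ := (isPGroup_zpowers_of_pow_eq_one ⟨k, hk⟩).exists_le_sylow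
    obtain ⟨g, rfl⟩ := MulAction.exists_smul_eq H T P
    have h := hP (mem_zpowers e)
    rw [Sylow.coe_subgroup_smul] at h
    obtain ⟨t, ht, rfl⟩ := h
    exact normalClosure_normal.conj_mem _ (subset_normalClosure ht) g
  -- the distinguished overgroups inside `E ⊔ O`
  let Max : Subgroup H → Subgroup H → Prop := fun E X => (T : Subgroup H) ⊓ (E ⊔ O) ≤ X ∧ X < E ⊔ O ∧
    ∀ Z, (T : Subgroup H) ⊓ (E ⊔ O) ≤ Z → Z < E ⊔ O → Z ≤ X
  have hsn : ∀ E ∈ 𝒦, (E ⊔ O).IsSubnormal := fun E hE =>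
    Subgroup.IsSubnormal.step _ Rh (sup_le_sup_right (le_sSup hE) O) (inferInstance : Rh.Normal).isSubnormal
      (normal_subgroupOf_of_le_normalizer (hnorm E hE))
  have hex : ∀ E ∈ 𝒦, ∃ X, Max E X ∧ ¬ E ≤ normalizer (X : Set H) := by
    intro E hE
    obtain ⟨P, hP⟩ := CfsgLib.Hall.Struct.sylow_subgroupOf_subnormal (E ⊔ O) (hsn E hE) T
    obtain ⟨Q₀, hQ₀⟩ := ((T.isPGroup'.comap_of_injective E.subtype E.subtype_injective) :
      IsPGroup p ↥((T : Subgroup H).subgroupOf E)).exists_le_sylow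
    have hQT : ∀ x ∈ (Q₀ : Subgroup ↥E), (x : H) ∈ (T : Subgroup H) := by
      obtain ⟨P', hP'⟩ := ((Q₀.isPGroup'.map E.subtype).comap_of_injective (E ⊔ O).subtype
        (E ⊔ O).subtype_injective).exists_le_sylow
      obtain ⟨g, rfl⟩ := MulAction.exists_smul_eq ↥(E ⊔ O) P P'
      have hg : (g : H) ∈ E ⊔ O := g.2
      rw [← SetLike.mem_coe, mul_normal] at hg
      obtain ⟨e, he, o, ho, heo⟩ := hg
      have hle : (Q₀ : Subgroup ↥E).map E.subtype ≤ ((T : Subgroup H) ⊓ E).map (MulAut.conj e).toMonoidHom := by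
        rintro _ ⟨x, hx, rfl⟩
        have hx' : (⟨x, mem_sup_left x.2⟩ : ↥(E ⊔ O)) ∈ ((g • P : Sylow p ↥(E ⊔ O)) : Subgroup ↥(E ⊔ O)) :=
          hP' ⟨x, hx, rfl⟩
        rw [Sylow.coe_subgroup_smul] at hx'
        obtain ⟨t, ht, htx⟩ := hx'
        rw [hP] at ht
        have ht' : (t : H) ∈ (T : Subgroup H) := ht
        have htx' : (g : H) * t * (g : H)⁻¹ = (x : H) := congrArg Subtype.val htx
        refine ⟨o * t * o⁻¹, mem_inf.mpr ⟨mul_mem (mul_mem (hOT ho) ht') (inv_mem (hOT ho)), ?_⟩, ?_⟩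
        · rw [show o * (t : H) * o⁻¹ = e⁻¹ * (x : H) * e by rw [← htx', ← heo]; group]
          exact E.mul_mem (E.mul_mem (E.inv_mem he) x.2) he
        · show e * (o * t * o⁻¹) * e⁻¹ = (x : H)
          rw [← htx', ← heo]; group
      have hcard := card_le_of_le hle
      rw [card_map_of_injective E.subtype_injective,
        card_map_of_injective (f := (MulAut.conj e).toMonoidHom) (MulAut.conj e).injective] at hcard
      have heq : (T : Subgroup H).subgroupOf E = Q₀ := eq_of_le_of_card_ge hQ₀ (by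
        rw [show (T : Subgroup H).subgroupOf E = ((T : Subgroup H) ⊓ E).subgroupOf E from (inf_subgroupOf_right _ _).symm,
          Nat.card_congr (subgroupOfEquivOfLe (inf_le_right : (T : Subgroup H) ⊓ E ≤ E)).toEquiv]
        exact hcard)
      intro x hx
      rw [← heq] at hx
      exact hx
    obtain ⟨hgen, M₀, ⟨hM₀, hQM⟩, huni⟩ := hmin E hE Q₀
    set X := M₀.map E.subtype ⊔ O with hX
    have hXE : ∀ x : ↥E, (x : H) ∈ X → x ∈ M₀ := by
      intro x hx
      rw [hX, ← SetLike.mem_coe, mul_normal] at hx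
      obtain ⟨_, ⟨m, hm, rfl⟩, o, ho, hmo⟩ := hx
      have ho' : o ∈ E := by
        rw [show o = (m : H)⁻¹ * x by rw [← hmo]; simp]
        exact E.mul_mem (E.inv_mem m.2) x.2
      have h1 : (⟨o, ho'⟩ : E) ∈ M₀ := hQM (hQ₀ (show (⟨o, ho'⟩ : E) ∈ (T : Subgroup H).subgroupOf E from hOT ho))
      rw [show x = m * ⟨o, ho'⟩ from Subtype.ext hmo.symm]
      exact mul_mem hm h1
    refine ⟨X, ⟨?_, ?_, ?_⟩, ?_⟩
    · intro t ht
      obtain ⟨htT, htE⟩ := mem_inf.mp ht
      rw [← SetLike.mem_coe, mul_normal] at htE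
      obtain ⟨e, he, o, ho, rfl⟩ := htE
      have heT : e ∈ (T : Subgroup H) := by simpa using mul_mem htT (inv_mem (hOT ho))
      exact mul_mem (mem_sup_left ⟨⟨e, he⟩, hQM (hQ₀ heT), rfl⟩) (mem_sup_right ho)
    · refine lt_of_le_of_ne (sup_le_sup_right (map_subtype_le _) O) fun e => hM₀.1 (top_le_iff.mp fun x _ => hXE x ?_)
      rw [e]; exact mem_sup_left x.2
    · intro Z hTZ hZ
      have hOZ : O ≤ Z := (le_inf hOT le_sup_right).trans hTZ
      have hne' : Z.subgroupOf E ≠ ⊤ := fun e => hZ.not_ge (sup_le (subgroupOf_eq_top.mp e) hOZ)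
      obtain ⟨M₁, hM₁, hle⟩ := (eq_top_or_exists_le_coatom _).resolve_left hne'
      have hQZ : (Q₀ : Subgroup ↥E) ≤ Z.subgroupOf E := fun x hx =>
        hTZ (mem_inf.mpr ⟨hQT x hx, mem_sup_left x.2⟩)
      rw [huni M₁ ⟨hM₁, hQZ.trans hle⟩] at hle
      intro z hz
      have hz' := hZ.le hz
      rw [← SetLike.mem_coe, mul_normal] at hz'
      obtain ⟨e, he, o, ho, rfl⟩ := hz'
      have heZ : e ∈ Z := by simpa using mul_mem hz (inv_mem (hOZ ho))
      exact mul_mem (mem_sup_left ⟨⟨e, he⟩, hle heZ, rfl⟩) (mem_sup_right ho)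
    · intro h
      haveI : M₀.Normal := by
        refine ⟨fun m hm g => hXE _ ?_⟩
        exact (mem_normalizer_iff.mp (h g.2) _).mp (mem_sup_left ⟨m, hm, rfl⟩)
      exact hM₀.1 (top_le_iff.mp (hgen ▸ normalClosure_le_normal (N := M₀) hQM))
  have huniq : ∀ E X X', Max E X → Max E X' → X = X' := fun E X X' h h' =>
    le_antisymm (h'.2.2 X h.1 h.2.1) (h.2.2 X' h'.1 h'.2.1)
  have hmap : ∀ (h : H) (E : Subgroup H), (E ⊔ O).map (MulAut.conj h).toMonoidHom =
      E.map (MulAut.conj h).toMonoidHom ⊔ O := fun h E => by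
    rw [Subgroup.map_sup, conj_eq_self_iff.mpr (show h ∈ normalizer (O : Set H) by rw [normalizer_eq_top]; exact mem_top h)]
  have hMaxconj : ∀ t ∈ (T : Subgroup H), ∀ E X, Max E X →
      Max (E.map (MulAut.conj t).toMonoidHom) (X.map (MulAut.conj t).toMonoidHom) := by
    intro t ht E X hX
    have hTt : (T : Subgroup H).map (MulAut.conj t).toMonoidHom = T := conj_eq_self_iff.mpr (le_normalizer ht)
    have hinj : Function.Injective (MulAut.conj t).toMonoidHom := (MulAut.conj t).injective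
    have hTE : (T : Subgroup H) ⊓ (E.map (MulAut.conj t).toMonoidHom ⊔ O) =
        ((T : Subgroup H) ⊓ (E ⊔ O)).map (MulAut.conj t).toMonoidHom := by
      rw [Subgroup.map_inf _ _ _ hinj, hTt, hmap]
    refine ⟨?_, ?_, fun Z hZ1 hZ2 => ?_⟩
    · rw [hTE]; exact map_mono hX.1
    · rw [← hmap]
      exact lt_of_le_of_ne (map_mono hX.2.1.le) fun e => hX.2.1.ne (map_injective hinj e)
    · have hZ : (Z.map (MulAut.conj t⁻¹).toMonoidHom).map (MulAut.conj t).toMonoidHom = Z := by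
        rw [conj_conj, mul_inv_cancel, conj_one]
      rw [← hZ] at hZ1 hZ2 ⊢
      rw [hTE] at hZ1
      rw [← hmap] at hZ2
      exact map_mono (hX.2.2 _ ((map_le_map_iff_of_injective hinj).mp hZ1)
        (lt_of_le_of_ne ((map_le_map_iff_of_injective hinj).mp hZ2.le) fun e => hZ2.ne (by rw [e])))
  set YR := Rh ⊓ ⨅ E ∈ 𝒦, ⨅ X : Subgroup H, ⨅ _ : Max E X, normalizer (X : Set H) with hYR
  have hmemYR : ∀ y, y ∈ YR ↔ y ∈ Rh ∧ ∀ E ∈ 𝒦, ∀ X, Max E X → y ∈ normalizer (X : Set H) := fun y => by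
    simp only [hYR, Subgroup.mem_inf, Subgroup.mem_iInf]
  have hTY : (T : Subgroup H) ≤ normalizer (YR : Set H) := by
    refine le_normalizer_iff.mpr fun t ht y hy => ?_
    rw [hmemYR] at hy ⊢
    refine ⟨(inferInstance : Rh.Normal).conj_mem _ hy.1 t, fun E hE X hX => ?_⟩
    have h1 := hy.2 _ (hinv t⁻¹ E hE) _ (hMaxconj t⁻¹ (inv_mem ht) E X hX)
    have h2 := le_normalizer_map (MulAut.conj t).toMonoidHom (mem_map_of_mem _ h1)
    rwa [conj_conj, mul_inv_cancel, conj_one] at h2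
  have hYne : YR ⊔ (T : Subgroup H) ≠ ⊤ := by
    intro e
    obtain ⟨E, hE⟩ := hne
    obtain ⟨X, hX, hnX⟩ := hex E hE
    refine hnX fun r hr => ?_
    have hr' : r ∈ YR ⊔ (T : Subgroup H) := e ▸ mem_top r
    rw [← SetLike.mem_coe, coe_mul_of_right_le_normalizer_left _ _ hTY] at hr'
    obtain ⟨y, hy, t, ht, hyt⟩ := hr'
    obtain ⟨hyR, hyX⟩ := (hmemYR y).mp hy
    have htR : t ∈ Rh := by
      rw [show t = y⁻¹ * r by rw [← hyt]; simp]
      exact Rh.mul_mem (Rh.inv_mem hyR) (mem_sup_left (le_sSup hE hr))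
    rw [← hyt]
    refine mul_mem (hyX E hE X hX) (conj_eq_self_iff.mp (huniq E _ _ ?_ hX))
    have h1 := hMaxconj t ht E X hX
    have h2 : E.map (MulAut.conj t).toMonoidHom ⊔ O = E ⊔ O := by rw [← hmap, conj_eq_self_iff.mpr (hnorm E hE htR)]
    simpa only [Max, h2] using h1
  have key : ∀ M : Subgroup H, IsCoatom M → (T : Subgroup H) ≤ M → M = YR ⊔ (T : Subgroup H) := by
    intro M hM hTM
    have hEM : ∀ E ∈ 𝒦, ¬ E ≤ M := by
      intro E hE hle
      refine hM.1 (top_le_iff.mp (hTR.ge.trans (sup_le hTM (sSup_le fun K hK => ?_))))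
      obtain ⟨h, rfl⟩ := htr E hE K hK
      obtain ⟨t, ht, r, hr, rfl⟩ : h ∈ ((T : Subgroup H) : Set H) * (Rh : Set H) := by
        rw [← mul_normal, SetLike.mem_coe]
        exact (hTR.ge.trans (sup_le_sup_left le_sup_left _)) (mem_top h)
      refine le_trans (le_sup_left (b := O)) ?_
      rw [← hmap, ← conj_conj, conj_eq_self_iff.mpr (hnorm E hE hr)]
      exact (map_mono (sup_le hle (hOT.trans hTM))).trans (conj_eq_self_iff.mpr (le_normalizer (hTM ht))).le
    have hfirst : M ≤ YR ⊔ (T : Subgroup H) := by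
      intro m hm
      obtain ⟨t, ht, r, hr, rfl⟩ : m ∈ ((T : Subgroup H) : Set H) * (Rh : Set H) := by
        rw [← mul_normal, SetLike.mem_coe]
        exact (hTR.ge.trans (sup_le_sup_left le_sup_left _)) (mem_top m)
      have hrM : r ∈ M := by simpa using mul_mem (inv_mem (hTM ht)) hm
      refine mul_mem (mem_sup_right ht) (mem_sup_left ((hmemYR r).mpr ⟨hr, fun E hE X hX => ?_⟩))
      have hF : M ⊓ (E ⊔ O) ≤ X := hX.2.2 _ (inf_le_inf_right _ hTM) (lt_of_le_of_ne inf_le_right fun e =>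
        hEM E hE (le_sup_left.trans (e.ge.trans inf_le_left)))
      have hfix : (E ⊔ O).map (MulAut.conj r).toMonoidHom = E ⊔ O := conj_eq_self_iff.mpr (hnorm E hE hr)
      have hfix' : (E ⊔ O).map (MulAut.conj r⁻¹).toMonoidHom = E ⊔ O := conj_eq_self_iff.mpr (inv_mem (hnorm E hE hr))
      have h1 : X.map (MulAut.conj r⁻¹).toMonoidHom ≤ X := by
        refine hX.2.2 _ ?_ ?_
        · refine CfsgLib.Subnormal.le_conj_iff.mpr (le_trans ?_ hF)
          rw [inv_inv]
          refine le_inf ((map_mono (inf_le_left.trans hTM)).trans (conj_eq_self_iff.mpr (le_normalizer hrM)).le) ?_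
          exact (map_mono inf_le_right).trans hfix.le
        · rw [← hfix']
          exact lt_of_le_of_ne (map_mono hX.2.1.le) fun e => hX.2.1.ne (map_injective (MulAut.conj r⁻¹).injective e)
      have h2 : X.map (MulAut.conj r⁻¹).toMonoidHom = X := eq_of_le_of_card_ge h1 (by
        rw [card_map_of_injective (f := (MulAut.conj r⁻¹).toMonoidHom) (MulAut.conj r⁻¹).injective])
      simpa using inv_mem (conj_eq_self_iff.mp h2)
    refine le_antisymm hfirst ?_
    · refine sup_le (fun y hy => ?_) hTM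
      by_contra hyM
      have hMle : M ≤ M ⊔ YR := le_sup_left
      have htop : M ⊔ YR = ⊤ := hM.2 _ (lt_of_le_of_ne hMle fun e => hyM (e ▸ mem_sup_right hy))
      exact hYne (top_le_iff.mp (htop ▸ sup_le hfirst le_sup_left))
  by_cases hT : (T : Subgroup H) = ⊤
  · exfalso
    obtain ⟨E, hE⟩ := hne
    obtain ⟨X, hX, -⟩ := hex E hE
    exact hX.2.1.not_ge (le_trans (le_inf (hT ▸ le_top) le_rfl) hX.1)
  · obtain ⟨M, hM, hTM⟩ := (eq_top_or_exists_le_coatom _).resolve_left hT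
    exact ⟨M, ⟨hM, hTM⟩, fun M' h => (key M' h.1 h.2).trans (key M hM hTM).symm⟩

/-- The second part. -/
theorem irreducible (𝒦 : Set (Subgroup H)) (hne : 𝒦.Nonempty)
    (hinv : ∀ h : H, ∀ E ∈ 𝒦, E.map (MulAut.conj h).toMonoidHom ∈ 𝒦)
    (htr : ∀ E ∈ 𝒦, ∀ K ∈ 𝒦, ∃ h : H, K = E.map (MulAut.conj h).toMonoidHom)
    (hres : Cfsg.pResidual p H ≤ sSup 𝒦)
    (hnorm : ∀ E ∈ 𝒦, sSup 𝒦 ⊔ Cfsg.pCore p H ≤ Subgroup.normalizer ((E ⊔ Cfsg.pCore p H : Subgroup H) : Set H))
    (hstr : ∀ E ∈ 𝒦, Cfsg.IsStronglyPIrreducible p ↥E) :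
    Cfsg.IsPIrreducible p H ∧ ∀ E ∈ 𝒦, ∀ K ∈ 𝒦, (Cfsg.pResidual p ↥(E ⊔ Cfsg.pCore p H)).map (E ⊔ Cfsg.pCore p H).subtype = (Cfsg.pResidual p ↥(K ⊔ Cfsg.pCore p H)).map (K ⊔ Cfsg.pCore p H).subtype ∨ ⁅E, K⁆ ≤ Cfsg.pCore p H := by
  set O := Cfsg.pCore p H with hO
  have hOp : IsPGroup p O := isPGroup_pCore p H
  have hgen : ∀ E ∈ 𝒦, ∀ Q : Sylow p ↥E, normalClosure ((Q : Subgroup ↥E) : Set ↥E) = ⊤ := fun E hE Q =>
    (Cfsg.Agent.S2827.result (Cfsg.Agent.S2829.result (hstr E hE)) Q).1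
  set π := QuotientGroup.mk' O with hπ
  have hπs : Function.Surjective π := QuotientGroup.mk'_surjective O
  have hπk : ∀ x : H, π x = 1 ↔ x ∈ O := fun x => QuotientGroup.eq_one_iff x
  have hO1 : Cfsg.pCore p (H ⧸ O) = ⊥ := by
    refine (eq_bot_iff_forall _).mpr fun x hx => ?_
    obtain ⟨y, rfl⟩ := hπs x
    exact (hπk y).mpr ((mem_pCore_quotient_iff O hOp y).mp hx)
  have hRn : (sSup 𝒦).Normal := by
    refine ⟨fun x hx g => ?_⟩
    have hle : (sSup 𝒦).map (MulAut.conj g).toMonoidHom ≤ sSup 𝒦 := by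
      rw [Subgroup.map_le_iff_le_comap]
      exact sSup_le fun E hE => Subgroup.map_le_iff_le_comap.mp (le_sSup (hinv g E hE))
    exact hle ⟨x, hx, rfl⟩
  set Rb := (sSup 𝒦).map π with hRb
  haveI hRbn : Rb.Normal := hRn.map π hπs
  have hER : ∀ E ∈ 𝒦, E.map π ≤ Rb ∧ Rb ≤ normalizer ((E.map π : Subgroup _) : Set (H ⧸ O)) := by
    intro E hE
    refine ⟨map_mono (le_sSup hE), ?_⟩
    have hb : O.map π = ⊥ := (Subgroup.map_eq_bot_iff O).mpr (QuotientGroup.ker_mk' O).ge
    have h1 := (map_mono (f := π) (hnorm E hE)).trans (le_normalizer_map π)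
    rwa [Subgroup.map_sup, Subgroup.map_sup, hb, sup_bot_eq, sup_bot_eq] at h1
  have hEsn : ∀ E ∈ 𝒦, (E.map π).IsSubnormal := fun E hE =>
    Subgroup.IsSubnormal.step _ Rb (hER E hE).1 hRbn.isSubnormal (normal_subgroupOf_of_le_normalizer (hER E hE).2)
  -- the dichotomy for one member
  have hdich : ∀ E ∈ 𝒦, ∀ X : Subgroup (H ⧸ O), E.map π ≤ normalizer (X : Set (H ⧸ O)) →
      (∀ e ∈ E, (orderOf e).Coprime p → π e ∈ X) ∨ ∀ x ∈ X, x ∈ E.map π → E.map π ≤ centralizer ({x} : Set (H ⧸ O)) := by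
    intro E hE X hX
    let f : ↥E →* H ⧸ O := π.comp E.subtype
    have hN : (X.comap f).Normal := ⟨fun m hm g =>
      (mem_normalizer_iff.mp (hX ⟨g, g.2, rfl⟩) _).mp hm |> fun h => by
        show f (g * m * g⁻¹) ∈ X
        rw [map_mul, map_mul, map_inv]; exact h⟩
    by_cases hc : ⁅X.comap f, (⊤ : Subgroup ↥E)⁆ ≤ Cfsg.pCore p ↥E
    · right
      rintro x hx ⟨e, he, rfl⟩ _ ⟨g, hg, rfl⟩
      rw [mem_centralizer_iff]
      intro u0 hu0; rw [Set.mem_singleton_iff.mp hu0]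
      have h1 := hc (commutator_mem_commutator (show (⟨e, he⟩ : E) ∈ X.comap f from hx) (mem_top ⟨g, hg⟩))
      have h2 : f ⁅(⟨e, he⟩ : E), ⟨g, hg⟩⁆ = 1 := by
        have hbot : (Cfsg.pCore p ↥E).map f = ⊥ := by
          have hran : f.range = E.map π := by rw [MonoidHom.range_comp, Subgroup.range_subtype]
          have hn : E.map π ≤ normalizer (((Cfsg.pCore p ↥E).map f : Subgroup _) : Set (H ⧸ O)) := by
            rw [← hran, MonoidHom.range_eq_map]
            refine (map_mono ?_).trans (le_normalizer_map f)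
            rw [normalizer_eq_top]
          refine le_bot_iff.mp (hO1 ▸ le_pCore_of_isSubnormal ?_ ((isPGroup_pCore p ↥E).map f))
          exact Subgroup.IsSubnormal.step _ _ (hran ▸ Subgroup.map_le_range f _) (hEsn E hE)
            (normal_subgroupOf_of_le_normalizer hn)
        have h3 := mem_map_of_mem f h1
        rwa [hbot, mem_bot] at h3
      rw [map_commutatorElement, commutatorElement_eq_one_iff_mul_comm] at h2
      exact h2
    · left
      intro e he hco
      exact ((hstr E hE).2 _ hN hc) (subset_closure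
        (show (orderOf (⟨e, he⟩ : E)).Coprime p by rwa [Subgroup.orderOf_mk]))
  -- coprime elements of `E ⊔ O`
  have hcontain : ∀ E ∈ 𝒦, ∀ K ∈ 𝒦, (∀ e ∈ E, (orderOf e).Coprime p → π e ∈ K.map π) →
      (Cfsg.pResidual p ↥(E ⊔ O)).map (E ⊔ O).subtype = (Cfsg.pResidual p ↥(K ⊔ O)).map (K ⊔ O).subtype := by
    intro E hE K hK hco
    obtain ⟨h, hh⟩ := htr E hE K hK
    have h1 : (Cfsg.pResidual p ↥(E ⊔ O)).map (E ⊔ O).subtype ≤ (Cfsg.pResidual p ↥(K ⊔ O)).map (K ⊔ O).subtype := by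
      refine residualOf_le fun x hx hxc => mem_residualOf ?_ hxc
      rw [← SetLike.mem_coe, mul_normal] at hx
      obtain ⟨e, he, o, ho, rfl⟩ := hx
      obtain ⟨k, hk⟩ := exists_pow_mem_pResidual (p := p) (⟨e, he⟩ : E)
      have hle : Cfsg.pResidual p ↥E ≤ (K.map π).comap (π.comp E.subtype) :=
        (closure_le _).mpr fun y hy => hco y y.2 (by rwa [Subgroup.orderOf_coe])
      have h2 : π (e * o) ^ p ^ k ∈ K.map π := by
        rw [map_mul, (hπk o).mpr ho, mul_one, ← map_pow]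
        exact hle hk
      obtain ⟨m, hm⟩ := exists_pow_eq_self_of_coprime
        (((Nat.Coprime.coprime_dvd_left (orderOf_map_dvd π (e * o)) hxc).pow_right k).symm)
      obtain ⟨k', hk', hke⟩ : π (e * o) ∈ K.map π := hm ▸ pow_mem h2 m
      show e * o ∈ K ⊔ O
      rw [show e * o = k' * (k'⁻¹ * (e * o)) by group]
      exact mul_mem (mem_sup_left hk') (mem_sup_right ((hπk _).mp (by rw [map_mul, map_inv, hke, inv_mul_cancel])))
    refine eq_of_le_of_card_ge h1 ?_
    have h2 : (Cfsg.pResidual p ↥(K ⊔ O)).map (K ⊔ O).subtype ≤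
        ((Cfsg.pResidual p ↥(E ⊔ O)).map (E ⊔ O).subtype).map (MulAut.conj h).toMonoidHom := by
      refine residualOf_le fun x hx hxc => ?_
      have hx' : x ∈ (E ⊔ O).map (MulAut.conj h).toMonoidHom := by
        rw [Subgroup.map_sup, conj_eq_self_iff.mpr (show h ∈ normalizer (O : Set H) by rw [normalizer_eq_top]; exact mem_top h), ← hh]
        exact hx
      obtain ⟨y, hy, rfl⟩ := hx'
      refine ⟨y, mem_residualOf hy ?_, rfl⟩
      rwa [show orderOf ((MulAut.conj h).toMonoidHom y) = orderOf y from MulEquiv.orderOf_eq (MulAut.conj h) y] at hxc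
    refine (card_le_of_le h2).trans ?_
    rw [card_map_of_injective (f := (MulAut.conj h).toMonoidHom) (MulAut.conj h).injective]
  -- a `p`-element `e` of `E` and an element normalising `E`
  have htriv : ∀ E ∈ 𝒦, ∀ e ∈ E, (∃ k, e ^ p ^ k = 1) → ∀ (n : H ⧸ O) (A : Subgroup (H ⧸ O)),
      A.IsSubnormal → ⁅n, π e⁆ ∈ A → A ≤ centralizer ({⁅n, π e⁆} : Set (H ⧸ O)) →
      ⁅n, π e⁆ * π e = π e * ⁅n, π e⁆ → n * π e = π e * n := by
    intro E hE e he hk n A hA hcA hcen hcomm
    obtain ⟨k, hk⟩ := hk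
    have he1 : π e ^ p ^ k = 1 := by rw [← map_pow, hk, map_one]
    have hce : (⁅n, π e⁆ * π e) ^ p ^ k = 1 := by
      rw [show ⁅n, π e⁆ * π e = n * π e * n⁻¹ by rw [commutatorElement_def]; group, conj_pow, he1]; group
    exact commutatorElement_eq_one_iff_mul_comm.mp
      (central_eq_one hO1 hA hcA hcen ⟨k + k, pow_eq_one_of_mul hcomm he1 hce⟩)
  constructor
  · refine ⟨fun hcl => ?_, fun N hN hNc => ?_⟩
    · obtain ⟨E, hE⟩ := hne
      have hEO : E ≤ O := le_of_pElements (hgen E hE) fun e _ hk => isPClosed_iff.mp hcl e hk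
      refine (hstr E hE).1 (isPClosed_iff.mpr fun x _ => ?_)
      exact le_pCore (N := (⊤ : Subgroup ↥E)) inferInstance ((hOp.to_le hEO).of_equiv topEquiv.symm) (mem_top x)
    · haveI := hN
      haveI hNb : (N.map π).Normal := hN.map π hπs
      by_cases hc : ∃ E ∈ 𝒦, ∀ e ∈ E, (orderOf e).Coprime p → π e ∈ N.map π
      · obtain ⟨E₀, hE₀, hco⟩ := hc
        have hco₀ : ∀ e ∈ E₀, (orderOf e).Coprime p → e ∈ N := by
          intro e he hec
          obtain ⟨m, hm, hme⟩ := hco e he hec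
          refine mem_of_coprime (le_normalizer_of_normal : O ≤ normalizer (N : Set H)) hOp ?_ hec
          rw [show e = m * (m⁻¹ * e) by group]
          exact mul_mem (mem_sup_left hm) (mem_sup_right ((hπk _).mp (by rw [map_mul, map_inv, hme, inv_mul_cancel])))
        refine pResidual_le_trans hres fun x hx => ?_
        set g := QuotientGroup.mk' N with hg
        have hP : IsPGroup p ↥((sSup 𝒦 ⊔ O).map g) := by
          refine (isPGroup_pCoreOf ((sSup 𝒦 ⊔ O).map g)).to_le ?_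
          rw [Subgroup.map_le_iff_le_comap]
          have hEle : ∀ E ∈ 𝒦, E ⊔ O ≤ (Cfsg.pCoreOf p ((sSup 𝒦 ⊔ O).map g)).comap g := by
            intro E hE
            rw [← Subgroup.map_le_iff_le_comap]
            refine le_pCoreOf (map_mono (sup_le_sup_right (le_sSup hE) O))
              ((map_mono (hnorm E hE)).trans (le_normalizer_map g)) ?_
            obtain ⟨h, rfl⟩ := htr E₀ hE₀ E hE
            rintro ⟨_, y, hy, rfl⟩
            rw [SetLike.mem_coe, ← SetLike.mem_coe, mul_normal] at hy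
            obtain ⟨e, he, o, ho, rfl⟩ := hy
            obtain ⟨k, hk⟩ := exists_pow_mem_pResidual (p := p) (⟨e, he⟩ : ↥(E₀.map (MulAut.conj h).toMonoidHom))
            have hle : Cfsg.pResidual p ↥(E₀.map (MulAut.conj h).toMonoidHom) ≤ N.subgroupOf _ := by
              refine (closure_le _).mpr ?_
              rintro ⟨_, z, hz, rfl⟩ hzc
              refine hN.conj_mem _ (hco₀ z hz ?_) h
              have h5 : (orderOf ((MulAut.conj h).toMonoidHom z)).Coprime p := by
                rw [← Subgroup.orderOf_mk _ (mem_map_of_mem _ hz)]; exact hzc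
              rwa [show orderOf ((MulAut.conj h).toMonoidHom z) = orderOf z from MulEquiv.orderOf_eq (MulAut.conj h) z] at h5
            obtain ⟨j, hj⟩ := hOp ⟨o, ho⟩
            have hek : g e ^ p ^ k = 1 := by rw [← map_pow]; exact (QuotientGroup.eq_one_iff _).mpr (hle hk)
            have hpow : ∀ i : ℕ, ∃ o' ∈ O, (e * o) ^ i = e ^ i * o' := by
              intro i
              induction i with
              | zero => exact ⟨1, one_mem O, by simp⟩
              | succ i ih =>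
                obtain ⟨o', ho', e'⟩ := ih
                refine ⟨e⁻¹ * o' * e * o, O.mul_mem ?_ ho, by rw [pow_succ, e', pow_succ]; group⟩
                simpa using (inferInstance : O.Normal).conj_mem o' ho' e⁻¹
            obtain ⟨o', ho', e'⟩ := hpow (p ^ k)
            obtain ⟨j', hj'⟩ := hOp ⟨o', ho'⟩
            refine ⟨k + j', Subtype.ext ?_⟩
            rw [Subgroup.coe_pow, Subgroup.coe_one]
            show g (e * o) ^ p ^ (k + j') = 1
            rw [pow_add, pow_mul, ← map_pow g (e * o), e', map_mul, map_pow g e, hek, one_mul, ← map_pow,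
              show o' ^ p ^ j' = 1 by simpa using congrArg Subtype.val hj', map_one]
          exact sup_le (sSup_le fun E hE => le_sup_left.trans (hEle E hE))
            (le_sup_right.trans (hEle E₀ hE₀))
        obtain ⟨k, hk⟩ := hP ⟨g x, mem_map_of_mem g (mem_sup_left hx)⟩
        refine ⟨k, (QuotientGroup.eq_one_iff _).mp ?_⟩
        show g (x ^ p ^ k) = 1
        rw [map_pow]; exact congrArg Subtype.val hk
      · exfalso
        push Not at hc
        have hcent : ∀ E ∈ 𝒦, ∀ x ∈ N.map π, x ∈ E.map π → E.map π ≤ centralizer ({x} : Set (H ⧸ O)) := by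
          intro E hE
          rcases hdich E hE (N.map π) le_normalizer_of_normal with h | h
          · obtain ⟨e, he, hec, hen⟩ := hc E hE
            exact absurd (h e he hec) hen
          · exact h
        have hsupR : ∀ C : Subgroup (H ⧸ O), (∀ E ∈ 𝒦, ∀ e ∈ E, (∃ k, e ^ p ^ k = 1) → π e ∈ C) → Rb ≤ C := by
          intro C hC
          rw [hRb, Subgroup.map_le_iff_le_comap]
          exact sSup_le fun E hE => le_of_pElements (hgen E hE) fun e he hk => hC E hE e he hk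
        have hcomm : ∀ (c u : H ⧸ O) (A : Subgroup (H ⧸ O)), A ≤ centralizer ({c} : Set _) → u ∈ A → c * u = u * c :=
          fun c u A hA hu => mem_centralizer_iff.mp (hA hu) c (Set.mem_singleton c)
        have hZ : ∀ n ∈ N.map π, n ∈ Rb → Rb ≤ centralizer ({n} : Set (H ⧸ O)) := by
          intro n hn hnR
          refine hsupR _ fun E hE e he hk => mem_centralizer_iff.mpr ?_
          intro u0 hu0; rw [Set.mem_singleton_iff.mp hu0]
          have hcE : ⁅n, π e⁆ ∈ E.map π := by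
            rw [commutatorElement_def]
            exact mul_mem ((mem_normalizer_iff.mp ((hER E hE).2 hnR) _).mp ⟨e, he, rfl⟩) (inv_mem ⟨e, he, rfl⟩)
          have hcN : ⁅n, π e⁆ ∈ N.map π := by
            rw [commutatorElement_def, mul_assoc n, mul_assoc n]
            exact mul_mem hn (hNb.conj_mem _ (inv_mem hn) (π e))
          exact htriv E hE e he hk n _ (hEsn E hE) hcE (hcent E hE _ hcN hcE)
            (hcomm _ _ _ (hcent E hE _ hcN hcE) ⟨e, he, rfl⟩)
        refine hNc ((isPClosed_normal_iff N).mpr fun x hx hk => (hπk x).mp ?_)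
        have hxn : π x ∈ N.map π := mem_map_of_mem π hx
        have hxc : Rb ≤ centralizer ({π x} : Set (H ⧸ O)) := by
          refine hsupR _ fun E hE e he hk => mem_centralizer_iff.mpr ?_
          intro u0 hu0; rw [Set.mem_singleton_iff.mp hu0]
          have heR : π e ∈ Rb := (hER E hE).1 ⟨e, he, rfl⟩
          have hcR : ⁅π x, π e⁆ ∈ Rb := by
            rw [commutatorElement_def]
            exact mul_mem (hRbn.conj_mem _ heR _) (inv_mem heR)
          have hcN : ⁅π x, π e⁆ ∈ N.map π := by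
            rw [commutatorElement_def, mul_assoc (π x), mul_assoc (π x)]
            exact mul_mem hxn (hNb.conj_mem _ (inv_mem hxn) (π e))
          exact htriv E hE e he hk (π x) Rb hRbn.isSubnormal hcR (hZ _ hcN hcR) (hcomm _ _ _ (hZ _ hcN hcR) heR)
        obtain ⟨k, hk⟩ := hk
        refine zpowers_eq_bot.mp (Cfsg.Agent.S2860.eq_bot_of_centralizes Rb (fun y hy => ?_) hO1
          (isPGroup_zpowers_of_pow_eq_one ⟨k, by rw [← map_pow, hk, map_one]⟩) ?_)
        · obtain ⟨z, rfl⟩ := hπs y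
          obtain ⟨j, hj⟩ := exists_pow_mem_pResidual (p := p) z
          obtain ⟨m, hm⟩ := exists_pow_eq_self_of_coprime ((hy.pow_right j).symm)
          rw [← hm, ← map_pow π]
          exact pow_mem (mem_map_of_mem π (hres hj)) m
        · exact zpowers_le.mpr (mem_centralizer_iff.mpr fun r hr => (mem_centralizer_iff.mp (hxc hr) _ (Set.mem_singleton _)).symm)
  · intro E hE K hK
    have hEK : ∀ A ∈ 𝒦, ∀ B ∈ 𝒦, A.map π ≤ normalizer ((B.map π : Subgroup _) : Set (H ⧸ O)) :=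
      fun A hA B hB => (hER A hA).1.trans (hER B hB).2
    rcases hdich E hE (K.map π) (hEK E hE K hK) with h | h
    · exact Or.inl (hcontain E hE K hK h)
    rcases hdich K hK (E.map π) (hEK K hK E hE) with h' | h'
    · exact Or.inl (hcontain K hK E hE h').symm
    refine Or.inr ?_
    rw [commutator_le]
    intro e₀ he₀ k hk
    have hle : E ≤ (centralizer ({π k} : Set (H ⧸ O))).comap π := by
      refine le_of_pElements (hgen E hE) fun e he hek => mem_comap.mpr (mem_centralizer_iff.mpr ?_)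
      intro u0 hu0; rw [Set.mem_singleton_iff.mp hu0]
      have hcE : ⁅π k, π e⁆ ∈ E.map π := by
        rw [commutatorElement_def]
        exact mul_mem ((mem_normalizer_iff.mp (hEK K hK E hE ⟨k, hk, rfl⟩) _).mp ⟨e, he, rfl⟩) (inv_mem ⟨e, he, rfl⟩)
      have hcK : ⁅π k, π e⁆ ∈ K.map π := by
        rw [commutatorElement_def, mul_assoc (π k), mul_assoc (π k)]
        exact mul_mem ⟨k, hk, rfl⟩ ((mem_normalizer_iff.mp (hEK E hE K hK ⟨e, he, rfl⟩) _).mp (inv_mem ⟨k, hk, rfl⟩))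
      exact htriv E hE e he hek (π k) _ (hEsn E hE) hcE (h _ hcK hcE)
        (mem_centralizer_iff.mp (h _ hcK hcE ⟨e, he, rfl⟩) _ (Set.mem_singleton _))
    refine (hπk _).mp ?_
    rw [map_commutatorElement, commutatorElement_eq_one_iff_mul_comm]
    exact (mem_centralizer_iff.mp (hle he₀) _ (Set.mem_singleton _)).symm
/-- Let H be a finite group, p a prime, and 𝒦 a nonempty set of subgroups of H permuted transitively by conjugation, with R the subgroup generated by the members of 𝒦. Suppose O^p(H) ≤ R, each E ∈ 𝒦 has E·O_p(H) normal in R·O_p(H), and each E ∈ 𝒦 is p-minimal (generated by the conjugates of a Sylow p-subgroup T_E of E, with T_E in exactly one maximal subgroup of E). Then H is p-minimal in the same sense. If instead each E ∈ 𝒦 is strongly p-irreducible, then H is p-irreducible and, for E, K ∈ 𝒦, either O^p(E·O_p(H)) = O^p(K·O_p(H)) or [E, K] ≤ O_p(H). -/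
theorem result {H : Type*} [Group H] [Finite H] {p : ℕ} [Fact p.Prime] (𝒦 : Set (Subgroup H)) (hne : 𝒦.Nonempty) (hinv : ∀ h : H, ∀ E ∈ 𝒦, E.map (MulAut.conj h).toMonoidHom ∈ 𝒦) (htr : ∀ E ∈ 𝒦, ∀ K ∈ 𝒦, ∃ h : H, K = E.map (MulAut.conj h).toMonoidHom) (hres : Cfsg.pResidual p H ≤ sSup 𝒦) (hnorm : ∀ E ∈ 𝒦, sSup 𝒦 ⊔ Cfsg.pCore p H ≤ Subgroup.normalizer ((E ⊔ Cfsg.pCore p H : Subgroup H) : Set H)) : ((∀ E ∈ 𝒦, ∀ T : Sylow p ↥E, Cfsg.IsMinimalOver (T : Subgroup ↥E)) → ∀ T : Sylow p H, Cfsg.IsMinimalOver (T : Subgroup H)) ∧ ((∀ E ∈ 𝒦, Cfsg.IsStronglyPIrreducible p ↥E) → Cfsg.IsPIrreducible p H ∧ ∀ E ∈ 𝒦, ∀ K ∈ 𝒦, (Cfsg.pResidual p ↥(E ⊔ Cfsg.pCore p H)).map (E ⊔ Cfsg.pCore p H).subtype = (Cfsg.pResidual p ↥(K ⊔ Cfsg.pCore p H)).map (K ⊔ Cfsg.pCore p H).subtype ∨ ⁅E, K⁆ ≤ Cfsg.pCore p H) := by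
  exact ⟨fun h T => minimal 𝒦 hne hinv htr hres hnorm h T, fun h => irreducible 𝒦 hne hinv htr hres hnorm h⟩

end Cfsg.Agent.S2855
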