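import Cfsg.Statements.S2863
import Cfsg.Agent.S2835
import Cfsg.Agent.S2837
import Cfsg.Agent.PReduced.FrakLFixed
import Cfsg.Agent.SL2.Basic
import Cfsg.Agent.Sz.Tori
import Cfsg.Agent.Sz.Sylow
import Cfsg.Agent.Sz.Partition

set_option autoImplicit false
open Cfsg

namespace Cfsg.Agent.S2863

open Subgroup CfsgLib.PReduced CfsgLib.PReduced.FrakL

/-- Every element killed by `p` has a conjugate in a given Sylow `p`-subgroup. -/
theorem exists_conj_mem {Q : Type*} [Group Q] [Finite Q] {p : ℕ} [Fact p.Prime] (T : Sylow p Q) {w : Q}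
    (hw : w ^ p = 1) : ∃ ξ : Q, ξ⁻¹ * w * ξ ∈ (T : Subgroup Q) := by
  have hz : IsPGroup p (zpowers w) := by
    rintro ⟨τ, hτ⟩
    obtain ⟨i, rfl⟩ := mem_zpowers_iff.mp hτ
    refine ⟨1, Subtype.ext ?_⟩
    show (w ^ i) ^ (p ^ 1) = 1
    rw [pow_one, ← zpow_natCast, ← zpow_mul, mul_comm, zpow_mul, zpow_natCast, hw, one_zpow]
  obtain ⟨P, hP⟩ := hz.exists_le_sylow
  obtain ⟨c, hc⟩ := MulAction.exists_smul_eq Q P T
  refine ⟨c⁻¹, ?_⟩
  rw [← hc, inv_inv]
  exact ⟨w, hP (mem_zpowers w), rfl⟩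

section SL2

variable {F : Type*} [Field F]

open Matrix in
theorem sl2_mat_factor (u : SpecialLinearGroup (Fin 2) F)
    (hns : u.1 1 0 ≠ 0 ∨ u.1 0 1 ≠ 0 ∨ u.1 0 0 ≠ u.1 1 1) :
    ∃ y : SpecialLinearGroup (Fin 2) F, Matrix.trace y.1 = 2 ∧ Matrix.trace (y⁻¹ * u).1 = 2 := by
  obtain ⟨r, s, hω⟩ : ∃ r s : F,
      -(r * s) * u.1 0 0 + r * r * u.1 1 0 - s * s * u.1 0 1 + r * s * u.1 1 1 ≠ 0 := by
    by_cases h1 : u.1 1 0 = 0
    · by_cases h2 : u.1 0 1 = 0
      · refine ⟨1, 1, ?_⟩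
        have h3 := (hns.resolve_left (not_not.mpr h1)).resolve_left (not_not.mpr h2)
        intro e
        exact h3 (by linear_combination (-1 : F) * e + h1 - h2)
      · exact ⟨0, 1, by simpa using h2⟩
    · exact ⟨1, 0, by simpa using h1⟩
  set ω := -(r * s) * u.1 0 0 + r * r * u.1 1 0 - s * s * u.1 0 1 + r * s * u.1 1 1 with hωd
  set a := (Matrix.trace u.1 - 2) / ω with ha
  have hd : (!![1 - a * r * s, a * r * r; -(a * s * s), 1 + a * r * s] : Matrix (Fin 2) (Fin 2) F).det = 1 := by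
    rw [Matrix.det_fin_two_of]; ring
  refine ⟨⟨_, hd⟩, by simp [Matrix.trace_fin_two]; ring, ?_⟩
  have ha' : a * ω = Matrix.trace u.1 - 2 := div_mul_cancel₀ _ hω
  show Matrix.trace (Matrix.adjugate !![1 - a * r * s, a * r * r; -(a * s * s), 1 + a * r * s] * u.1) = 2
  rw [Matrix.adjugate_fin_two_of, Matrix.trace_fin_two]
  simp only [Matrix.mul_apply, Fin.sum_univ_two, Matrix.cons_val', Matrix.cons_val_zero, Matrix.cons_val_one,
    Matrix.empty_val', Matrix.cons_val_fin_one, Matrix.of_apply]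
  rw [Matrix.trace_fin_two] at ha'
  rw [hωd] at ha'
  linear_combination (-1 : F) * ha'

variable [Fintype F] {p : ℕ} [Fact p.Prime] [CharP F p]

open Matrix in
theorem sl2_pow_p_of_trace {w : SpecialLinearGroup (Fin 2) F} (ht : Matrix.trace w.1 = 2) : w ^ p = 1 := by
  apply Subtype.ext
  refine (Matrix.SpecialLinearGroup.coe_pow w p).trans ?_
  show w.1 ^ p = (1 : Matrix (Fin 2) (Fin 2) F)
  have hd : w.1 0 0 * w.1 1 1 - w.1 0 1 * w.1 1 0 = 1 := by rw [← Matrix.det_fin_two]; exact w.2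
  rw [Matrix.trace_fin_two] at ht
  have hsq : (w.1 - 1) * (w.1 - 1) = 0 := by
    ext i j
    fin_cases i <;> fin_cases j <;> simp [Matrix.mul_apply, Fin.sum_univ_two]
    · linear_combination -hd + w.1 0 0 * ht
    · linear_combination w.1 0 1 * ht
    · linear_combination w.1 1 0 * ht
    · linear_combination -hd + w.1 1 1 * ht
  have hp : (w.1 - 1) ^ p = 0 := by
    obtain ⟨j, hj⟩ : ∃ j, p = 2 + j := ⟨p - 2, by have := (Fact.out : p.Prime).two_le; omega⟩
    rw [hj, pow_add, sq, hsq, zero_mul]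
  rw [sub_pow_char_of_commute p (Commute.one_right _), one_pow, sub_eq_zero] at hp
  exact hp

open Matrix in
theorem sl2_trace_of_pow {w : SpecialLinearGroup (Fin 2) F} {k : ℕ} (hk : w ^ p ^ k = 1) :
    Matrix.trace w.1 = 2 := by
  have hn : IsNilpotent (w.1 - 1) := ⟨p ^ k, by
    have e : w.1 ^ p ^ k = 1 := (Matrix.SpecialLinearGroup.coe_pow w _).symm.trans (congrArg Subtype.val hk)
    rw [sub_pow_char_pow_of_commute _ _ (Commute.one_right _), e, one_pow, sub_self]⟩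
  have := (Matrix.isNilpotent_trace_of_isNilpotent hn).eq_zero
  rw [Matrix.trace_sub, Matrix.trace_one, Fintype.card_fin, sub_eq_zero] at this
  simpa using this

open Matrix in
theorem sl2_good {H : Type*} [Group H] [Finite H] {Y N : Subgroup H} (hC : YConf p Y N)
    {φ : H →* SpecialLinearGroup (Fin 2) F} (hsurj : Function.Surjective φ) (hker : φ.ker = Cfsg.pCore p H)
    (hcard : Nat.card (Y.map φ) = Fintype.card F) {h : H} (hnp : ∀ k : ℕ, φ h ^ p ^ k ≠ 1) : Good p Y h := by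
  have hYp : IsPGroup p (Y.map φ) := (isPGroup_of_isElementaryAbelian hC.el).map φ
  have hindex : ¬ p ∣ (Y.map φ).index := by
    have h1 := (Y.map φ).card_mul_index
    rw [hcard, CfsgLib.SL2.card_SL2] at h1
    rw [Nat.eq_of_mul_eq_mul_left Fintype.card_pos h1]
    intro hd
    obtain ⟨n, -, hn⟩ := FiniteField.card F p
    have hpq : p ∣ Fintype.card F ^ 2 := by rw [hn, ← pow_mul]; exact dvd_pow_self p (by positivity)
    have h2 : 1 ≤ Fintype.card F ^ 2 := Nat.one_le_pow _ _ Fintype.card_pos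
    have := Nat.dvd_sub hpq hd
    rw [show Fintype.card F ^ 2 - (Fintype.card F ^ 2 - 1) = 1 by omega] at this
    exact (Fact.out : p.Prime).ne_one (Nat.dvd_one.mp this)
  have hconj : ∀ w : SpecialLinearGroup (Fin 2) F, Matrix.trace w.1 = 2 → InConj φ Y w := fun w hw => by
    obtain ⟨ξ, hξ⟩ := exists_conj_mem (hYp.toSylow hindex) (sl2_pow_p_of_trace (p := p) hw)
    exact ⟨ξ, hξ⟩
  have main : ∀ z : H, Matrix.trace (φ z).1 ≠ 2 →
      ((φ z).1 1 0 ≠ 0 ∨ (φ z).1 0 1 ≠ 0 ∨ (φ z).1 0 0 ≠ (φ z).1 1 1) → Good p Y z := by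
    intro z hz hns
    obtain ⟨y, hy1, hy2⟩ := sl2_mat_factor (φ z) hns
    refine good_factor hC hsurj hker (a := y) (b := y⁻¹ * φ z) (mul_inv_cancel_left y (φ z)).symm
      (hconj _ hy1) (hconj _ hy2) fun e => hz (sl2_trace_of_pow (p := p) (k := 1) ?_)
    rw [pow_one]; exact e
  have htr : Matrix.trace (φ h).1 ≠ 2 := fun e => hnp 1 (by rw [pow_one]; exact sl2_pow_p_of_trace e)
  by_cases hns : (φ h).1 1 0 ≠ 0 ∨ (φ h).1 0 1 ≠ 0 ∨ (φ h).1 0 0 ≠ (φ h).1 1 1
  · exact main h htr hns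
  push Not at hns
  obtain ⟨h10, h01, h00⟩ := hns
  have hd : (φ h).1 0 0 * (φ h).1 1 1 - (φ h).1 0 1 * (φ h).1 1 0 = 1 := by
    rw [← Matrix.det_fin_two]; exact (φ h).2
  rw [← h00, h10, mul_zero, sub_zero] at hd
  have hc : (φ h).1 0 0 = -1 := by
    rcases mul_self_eq_one_iff.mp hd with e | e
    · exact absurd (by rw [Matrix.trace_fin_two, ← h00, e]; norm_num) htr
    · exact e
  have hc' : (φ h).1 1 1 = -1 := by rw [← h00]; exact hc
  have hp2 : p ≠ 2 := by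
    rintro rfl
    refine htr ?_
    rw [Matrix.trace_fin_two, hc, hc', CharTwo.two_eq_zero, CharTwo.add_self_eq_zero]
  obtain ⟨j, hj⟩ := (Fact.out : p.Prime).odd_of_ne_two hp2
  set w : SpecialLinearGroup (Fin 2) F := ⟨!![1, 1; 0, 1], by simp⟩ with hw
  have hcomm : Commute (φ h) w := by
    apply Subtype.ext
    show (φ h).1 * !![1, 1; 0, 1] = !![1, 1; 0, 1] * (φ h).1
    ext i l
    fin_cases i <;> fin_cases l <;> simp [hw, Matrix.mul_apply, Fin.sum_univ_two, h10, h01, hc, hc']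
  have hsq : φ h ^ 2 = 1 := by
    apply Subtype.ext
    rw [sq]
    show (φ h).1 * (φ h).1 = 1
    ext i l
    fin_cases i <;> fin_cases l <;> simp [Matrix.mul_apply, Fin.sum_univ_two, h10, h01, hc, hc']
  have hwp : w ^ p = 1 := sl2_pow_p_of_trace (by simp [hw, Matrix.trace_fin_two]; norm_num)
  obtain ⟨z, hz⟩ := hsurj (φ h * w)
  have hzp : φ (z ^ p) = φ h := by
    rw [map_pow, hz, hcomm.mul_pow, hwp, mul_one, hj, pow_succ, pow_mul, hsq, one_pow, one_mul]
  refine good_congr hC (z := z ^ p) (o := (z ^ p)⁻¹ * h) ?_ (mul_inv_cancel_left _ h).symm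
    (good_pow_prime (main z ?_ ?_))
  · rw [← hker, MonoidHom.mem_ker, map_mul, map_inv, hzp, inv_mul_cancel]
  · rw [hz]
    intro e
    refine htr ?_
    rw [← e]
    show _ = Matrix.trace ((φ h).1 * !![1, 1; 0, 1])
    simp [hw, Matrix.trace_fin_two, Matrix.mul_apply, Fin.sum_univ_two, h10, h01, hc, hc']
  · rw [hz]
    refine Or.inr (Or.inl ?_)
    show ((φ h).1 * (!![1, 1; 0, 1] : Matrix (Fin 2) (Fin 2) F)) 0 1 ≠ 0
    simp [hw, Matrix.mul_apply, Fin.sum_univ_two, h10, h01, hc, hc']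

end SL2

theorem dihedral_card {r : ℕ} (hr : r.Prime) (hr2 : r ≠ 2) (P : Subgroup (DihedralGroup r)) (hP : IsPGroup 2 P)
    (hne : P ≠ ⊥) : Nat.card P = 2 := by
  haveI : Fact (Nat.Prime 2) := ⟨Nat.prime_two⟩
  haveI : NeZero r := ⟨hr.ne_zero⟩
  obtain ⟨k, hk⟩ := IsPGroup.iff_card.mp hP
  have hd := P.card_subgroup_dvd_card
  rw [DihedralGroup.nat_card, hk] at hd
  rcases k with _ | _ | k
  · exact absurd (Subgroup.card_eq_one.mp (by simpa using hk)) hne
  · simpa using hk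
  · exfalso
    have h4 : 2 * 2 ∣ 2 * r := dvd_trans ⟨2 ^ k, by ring⟩ hd
    have := (Nat.mul_dvd_mul_iff_left (by norm_num : 0 < 2)).mp h4
    exact hr2 ((Nat.prime_dvd_prime_iff_eq Nat.prime_two hr).mp this).symm

section Suzuki

open CfsgLib.Sz

variable {F : Type*} [Field F] [Fintype F] {m : ℕ}

theorem sz_inverted (hy : Hyp F m) (v : G F m) {l : ℕ} (hl : l.Prime) (hl2 : l ≠ 2) (ho : orderOf v = l) :
    ∃ t : G F m, t * t = 1 ∧ t * v * t = v⁻¹ := by
  haveI : Fact l.Prime := ⟨hl⟩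
  haveI : Fact (Nat.Prime 2) := ⟨Nat.prime_two⟩
  by_cases hf : Fpf hy v
  · have hv : Tor v := ⟨l, hl, fpf_prime hy hf ho, ho⟩
    have hnz := ((tori hy).1 v hv).2
    obtain ⟨⟨t, htn⟩, hto⟩ := exists_prime_orderOf_dvd_card' (G := nz v) 2
      (hnz ▸ Dvd.dvd.mul_right (by norm_num) _)
    rw [← Subgroup.orderOf_coe] at hto
    have htt : t * t = 1 := by
      rw [← sq, ← hto]; exact pow_orderOf_eq_one t
    refine ⟨t, htt, ?_⟩
    have hti : t⁻¹ = t := inv_eq_of_mul_eq_one_right htt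
    have htu : t ∉ tz v := by
      intro hmem
      have h1 := (Subgroup.orderOf_dvd_natCard (tz v) hmem).trans (tz_facts hy hv).2.1
      rw [hto] at h1
      exact N_odd hy h1
    have hconj : t * v * t ∈ tz v := by
      have := (tz_conj_iff hy hv).mp htn
      rwa [hti] at this
    set x := v * (t * v * t) with hx
    have hxz : x ∈ tz v := mul_mem (tor_self hy hv).1 hconj
    have hfix : t * x * t = x := by
      calc t * x * t = t * v * t * v * (t * t) := by rw [hx]; group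
        _ = v * (t * v * t) := by rw [htt, mul_one]; exact mem_tz.mp hconj
    have hx1 : x = 1 := by
      by_contra hne
      refine htu (tz_eq hy hv hxz hne ▸ mem_tz.mpr ?_)
      calc t * x = t * x * (t * t) := by rw [htt, mul_one]
        _ = t * x * t * t := by group
        _ = x * t := by rw [hfix]
    exact eq_inv_of_mul_eq_one_right hx1
  · obtain ⟨q, hq⟩ : ∃ q, act hy v q = q := by simpa [Fpf] using hf
    obtain ⟨k, hk⟩ := exists_move hy q
    obtain ⟨a, b, s, hs⟩ := (mem_borel_iff hy).mp (conj_fix hy hk hq : k⁻¹ * v * k ∈ borel hy)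
    have hs1 : s ≠ 1 := by
      intro e
      rw [e, gD_one, mul_one] at hs
      have h4 : (k⁻¹ * v * k) ^ 4 = 1 := by rw [hs]; exact gU_pow_four hy a b
      rw [show k⁻¹ * v * k = k⁻¹ * v * k⁻¹⁻¹ by group, conj_pow] at h4
      have h5 : v ^ 4 = 1 := by
        calc v ^ 4 = k * (k⁻¹ * v ^ 4 * k⁻¹⁻¹) * k⁻¹ := by group
          _ = 1 := by rw [h4]; group
      have h6 : l ∣ 2 ^ 2 := ho ▸ orderOf_dvd_of_pow_eq_one h5
      exact hl2 ((Nat.prime_dvd_prime_iff_eq hl Nat.prime_two).mp (hl.dvd_of_dvd_pow h6))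
    obtain ⟨x, y, hxy⟩ := gD_coords hy (a := a) (b := b) hs1
    set d := gU hy x y with hd
    have hk2 : act hy (k * d) (opt m 0 0) = act hy k (opt m x y) := by
      rw [act_mul, hd, gU_opt]; simp [th]
    obtain ⟨t, ht⟩ := eq_gD_of_fix_two hy (g := (k * d)⁻¹ * v * (k * d))
      (conj_fix hy (by rw [act_mul, hd, gU_oinf, hk]) hq)
      (conj_fix hy hk2 (by
        rw [show v = k * (gU hy a b * gD hy s) * k⁻¹ by rw [← hs]; group]
        exact conj_move hy hxy))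
    refine ⟨k * d * gW hy * (k * d)⁻¹, ?_, ?_⟩
    · calc k * d * gW hy * (k * d)⁻¹ * (k * d * gW hy * (k * d)⁻¹)
          = k * d * (gW hy * gW hy) * (k * d)⁻¹ := by group
        _ = 1 := by rw [gW_sq]; group
    · calc k * d * gW hy * (k * d)⁻¹ * v * (k * d * gW hy * (k * d)⁻¹)
          = k * d * (gW hy * ((k * d)⁻¹ * v * (k * d)) * gW hy) * (k * d)⁻¹ := by group
        _ = k * d * (gD hy t)⁻¹ * (k * d)⁻¹ := by rw [ht, gW_gD, gD_inv]
        _ = v⁻¹ := by rw [← ht]; group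

theorem sz_good (hy : Hyp F m) {H : Type*} [Group H] [Finite H] {Y N : Subgroup H} (hC : YConf 2 Y N)
    [Fact (Nat.Prime 2)] {φ : H →* G F m} (hsurj : Function.Surjective φ) (hker : φ.ker = Cfsg.pCore 2 H)
    (hcard : Nat.card (Y.map φ) = Fintype.card F) {h : H} (hnp : ∀ k : ℕ, φ h ^ 2 ^ k ≠ 1) : Good 2 Y h := by
  obtain ⟨T, hT⟩ := ((isPGroup_of_isElementaryAbelian hC.el).map φ).exists_le_sylow
  obtain ⟨j, hj⟩ := exists_conj_sylow hy T
  have hle : (Y.map φ).map (MulAut.conj j⁻¹).toMonoidHom ≤ Zsub hy := by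
    rintro _ ⟨w, hw, rfl⟩
    obtain ⟨u, ⟨a, b, rfl⟩, hu⟩ : w ∈ (Usub hy).map (MulAut.conj j).toMonoidHom := hj ▸ hT hw
    have h2 : w ^ 2 = 1 := by
      obtain ⟨y, hyY, rfl⟩ := hw
      rw [← map_pow, hC.el.2 y hyY, map_one]
    rw [← hu, ← map_pow] at h2
    have h2 : gU hy a b ^ 2 = 1 := (MulAut.conj j).map_eq_one_iff.mp h2
    refine ⟨b, ?_⟩
    rw [← hu]
    show j⁻¹ * (j * gU hy a b * j⁻¹) * j⁻¹⁻¹ = gU hy 0 b
    rw [(gU_sq_eq_one_iff hy).mp h2]
    group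
  have hZ : (Y.map φ).map (MulAut.conj j⁻¹).toMonoidHom = Zsub hy :=
    Subgroup.eq_of_le_of_card_ge hle (by
      rw [card_Zsub, Subgroup.card_map_of_injective (MulAut.conj j⁻¹).injective, hcard])
  have hinv : ∀ t : G F m, t ^ 2 = 1 → InConj φ Y t := by
    intro t ht
    obtain ⟨ξ, hξ⟩ := exists_conj_mem (sylU hy) ht
    rw [coe_sylU] at hξ
    obtain ⟨a, b, e⟩ := hξ
    have h2 : gU hy a b ^ 2 = 1 := by
      rw [← e, show ξ⁻¹ * t * ξ = ξ⁻¹ * t * ξ⁻¹⁻¹ by group, conj_pow, ht]; group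
    rw [(gU_sq_eq_one_iff hy).mp h2] at e
    obtain ⟨w, hw, hwe⟩ : gU hy 0 b ∈ (Y.map φ).map (MulAut.conj j⁻¹).toMonoidHom := hZ ▸ ⟨b, rfl⟩
    refine ⟨ξ * j⁻¹, ?_⟩
    rw [show (ξ * j⁻¹)⁻¹ * t * (ξ * j⁻¹) = j * (ξ⁻¹ * t * ξ) * j⁻¹ by group, e, ← hwe]
    show j * (j⁻¹ * w * j⁻¹⁻¹) * j⁻¹ ∈ Y.map φ
    rw [show j * (j⁻¹ * w * j⁻¹⁻¹) * j⁻¹ = w by group]
    exact hw
  have h1 : orderOf (φ h) ≠ 0 := (orderOf_pos _).ne'
  obtain ⟨l, hl, hdvd, hl2⟩ : ∃ l, l.Prime ∧ l ∣ orderOf (φ h) ∧ l ≠ 2 := by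
    by_contra hcon
    push Not at hcon
    have := Nat.eq_prime_pow_of_unique_prime_dvd h1 (p := 2) fun {d} hd hdd => hcon d hd hdd
    exact hnp _ (by rw [← this]; exact pow_orderOf_eq_one _)
  set v := φ h ^ (orderOf (φ h) / l) with hv
  have hvo : orderOf v = l := orderOf_pow_orderOf_div h1 hdvd
  obtain ⟨t, ht, htv⟩ := sz_inverted hy v hl hl2 hvo
  refine good_of_pow (n := orderOf (φ h) / l) ?_
  refine good_factor hC hsurj hker (a := t) (b := t * v)
    (by rw [map_pow, ← hv, ← mul_assoc, ht, one_mul]) (hinv t (by rw [sq]; exact ht)) (hinv _ ?_) ?_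
  · rw [sq, show t * v * (t * v) = t * v * t * v by group, htv, inv_mul_cancel]
  · rw [map_pow, ← hv]
    intro e
    exact hl2 ((Nat.prime_dvd_prime_iff_eq hl Nat.prime_two).mp (hvo ▸ orderOf_dvd_of_pow_eq_one e))

end Suzuki

/-- The configuration inside a member of `𝔏`. -/
theorem exists_conf {G : Type*} [Group G] [Finite G] {p : ℕ} [Fact p.Prime] {M L : Subgroup G}
    (hL : Cfsg.IsInFrakL p M L) :
    YConf p ((Cfsg.largestPReducedOf p M).subgroupOf L)
      ((normalizer (Cfsg.largestPReducedOf p M : Set G)).subgroupOf L) := by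
  obtain ⟨hYL, hnc, hON, hmin, hchar, ⟨hlt, hun⟩, -⟩ := hL
  set Yg := Cfsg.largestPReducedOf p M with hYg
  set Y := Yg.subgroupOf L with hYdef
  set N := (normalizer (Yg : Set G)).subgroupOf L with hNdef
  have hel : Cfsg.IsElementaryAbelian p Y := by
    have h := isElementaryAbelian_largestPReducedOf (p := p) M
    rw [← hYg] at h
    refine ⟨⟨⟨fun a b => ?_⟩⟩, fun a ha => Subtype.ext (by simpa using h.2 a ha)⟩
    exact Subtype.ext (Subtype.ext (congrArg Subtype.val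
      (h.1.is_comm.comm (⟨(a : L), a.2⟩ : Yg) ⟨(b : L), b.2⟩) :))
  have hNY : N ≤ normalizer (Y : Set L) := fun n hn =>
    mem_normalizer_iff.mpr fun x => mem_normalizer_iff.mp hn (x : G)
  have hYN : Y ≤ N := fun y hy => le_normalizer hy
  have hNe : N ≠ ⊤ := by
    intro e
    refine hlt.not_ge fun x hx => ⟨hx, ?_⟩
    have : (⟨x, hx⟩ : L) ∈ N := e ▸ mem_top _
    exact this
  have huniq : ∀ X : Subgroup L, Y ≤ X → X ≠ ⊤ → X ≤ N := by
    intro X hYX hX x hx
    refine (hun (X.map L.subtype) (fun y hy => ⟨⟨y, hYL hy⟩, hYX hy, rfl⟩) ?_ ⟨x, hx, rfl⟩).2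
    refine lt_of_le_of_ne (map_subtype_le X) fun e => hX (eq_top_iff.mpr fun z _ => ?_)
    obtain ⟨w, hw, hwz⟩ : (z : G) ∈ X.map L.subtype := e.symm ▸ z.2
    exact (Subtype.ext hwz : w = z) ▸ hw
  have hON' : Cfsg.pCore p L ≤ N := fun o ho => hON ⟨o, ho, rfl⟩
  have hcoatom : IsCoatom N := ⟨hNe, fun X hX => by
    by_contra hne
    exact hX.not_ge (huniq X (hYN.trans hX.le) hne)⟩
  haveI hOn : (Cfsg.pCore p L).Normal := FrakL.pCore_normal
  have hA : Cfsg.pCore p L = normalClosure ((Cfsg.pCore p L ⊓ Y : Subgroup L) : Set L) := by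
    refine map_injective L.subtype_injective (hnc.trans ?_)
    congr 3
    rw [subgroupOf, comap_inf, inf_comm, Cfsg.pCoreOf, comap_map_eq_self_of_injective L.subtype_injective]
    rfl
  have hOY : Cfsg.pCore p L ≤ normalizer (Y : Set L) := hON'.trans hNY
  have hS := fun g (hg : g ∉ N) =>
    Cfsg.Agent.S2837.result hchar N hcoatom Y hYN hel hmin hOY (Cfsg.pCore p L) hA g hg
  obtain ⟨g0, hg0⟩ : ∃ g, g ∉ N := by
    by_contra hc
    push Not at hc
    exact hNe (eq_top_iff.mpr fun x _ => hc x)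
  obtain ⟨-, hAA, -, hcomm, -, -, hcen⟩ := hS g0 hg0
  refine ⟨hel, hYN, hNY, hNe, huniq, hmin.1, hON', fun g hg x hx hgx => ?_, fun a ha b hb => ?_, ?_, fun g hg a ha => ?_⟩
  · have h := (hS g hg).2.2.2.2.1
    exact (h.le ⟨hx, g⁻¹ * x * g, hgx, by simp [mul_assoc]⟩).2
  · refine hcomm (hAA ▸ ?_)
    exact commutator_mem_commutator ha hb
  · rw [hcen]; exact inf_le_left
  · set O := Cfsg.pCore p L
    set Y' := Y.map (MulAut.conj g).toMonoidHom with hY'
    have hO' : O ≤ normalizer (Y' : Set L) := by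
      refine le_trans ?_ (le_normalizer_map (MulAut.conj g).toMonoidHom)
      intro o ho
      exact ⟨g⁻¹ * o * g, hOY (by simpa using hOn.conj_mem o ho g⁻¹), by simp [mul_assoc]⟩
    obtain ⟨T, hT⟩ := ((isPGroup_of_isElementaryAbelian hel).of_equiv
      (subgroupOfEquivOfLe hYN).symm).exists_le_sylow
    have hYT : Y ≤ (T : Subgroup ↥N).map N.subtype := by
      rw [← map_subgroupOf_eq_of_le hYN]
      exact map_mono hT
    have hgen := (Cfsg.Agent.S2835.result N hcoatom T Y hYT hmin).2.2.2.2.1 g hg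
    have hc' : Y' ≤ centralizer (Y' : Set L) := le_centralizer_self (isElementaryAbelian_map _ hel)
    have hXn : ((O ⊓ Y) ⊔ (O ⊓ Y')).Normal := by
      refine normalizer_eq_top_iff.mp (top_le_iff.mp (hgen ▸ sup_le ?_ ?_))
      · exact Cfsg.Agent.S2837.le_normalizer_join hOY (le_centralizer_self hel) inf_le_left
      · rw [sup_comm (O ⊓ Y)]
        exact Cfsg.Agent.S2837.le_normalizer_join hO' hc' inf_le_left
    have hle : O ≤ (O ⊓ Y) ⊔ (O ⊓ Y') := by
      calc O = normalClosure ((O ⊓ Y : Subgroup L) : Set L) := hA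
        _ ≤ _ := normalClosure_le_normal (N := (O ⊓ Y) ⊔ (O ⊓ Y')) (SetLike.coe_subset_coe.mpr le_sup_left)
    have hnorm : O ⊓ Y ≤ normalizer ((O ⊓ Y' : Subgroup L) : Set L) := by
      intro z hz
      refine mem_normalizer_iff.mpr fun w => ?_
      simp only [Subgroup.mem_inf]
      exact and_congr (mem_normalizer_iff.mp (by rw [normalizer_eq_top (H := O)]; exact mem_top z) w)
        (mem_normalizer_iff.mp (hO' hz.1) w)
    have hmem := hle ha
    rw [← SetLike.mem_coe, coe_mul_of_left_le_normalizer_right _ _ hnorm] at hmem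
    obtain ⟨b, hb, b', hb', rfl⟩ := hmem
    obtain ⟨y, hy, hyb⟩ := hb'.2
    refine ⟨b, b', hb.2, ?_, hb'.1, rfl⟩
    rw [← hyb]
    show g⁻¹ * (g * y * g⁻¹) * g ∈ Y
    rw [show g⁻¹ * (g * y * g⁻¹) * g = y by group]
    exact hy

/-- Standing hypotheses: G a finite group, S a Sylow p-subgroup, Q a nontrivial large p-subgroup of G contained in S, M a subgroup containing S with the basic property (M ∈ 𝔐_G(S)); Y_M the largest p-reduced normal subgroup of M and M† = M·C_G(Y_M). Let L ∈ 𝔏_G(Y_M) (L ∈ 𝔏_G(Y_M): Y_M ≤ L; O_p(L) is the normal closure in L of Y_M ∩ O_p(L) and normalizes Y_M; L is Y_M-minimal of characteristic p with N_L(Y_M) its unique maximal subgroup over Y_M; and L/O_p(L) ≅ SL₂(q) with q = |Y_M : Y_M ∩ O_p(L)|, or p = 2 and L/O_p(L) is a Suzuki group Sz(q) or dihedral of order 2r, r an odd prime), A = O_p(L), and C = C_{Y_M}(L). Then every element h of L whose order is not a power of p acts without nontrivial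 fixed points on A/C: for a ∈ A, hah⁻¹a⁻¹ ∈ C implies a ∈ C. -/
theorem result {G : Type*} [Group G] [Finite G] {p : ℕ} [Fact p.Prime] (S : Sylow p G) (Q : Subgroup G) (hQp : IsPGroup p ↥Q) (hQ1 : Q ≠ ⊥) (hQS : Q ≤ (S : Subgroup G)) (hQ : Cfsg.IsLarge Q) (M : Subgroup G) (hSM : (S : Subgroup G) ≤ M) (hM : Cfsg.IsInFrakM p M) (L : Subgroup G) (hL : Cfsg.IsInFrakL p M L) (h : G) (hh : h ∈ L) (hnp : ¬ ∃ k : ℕ, orderOf h = p ^ k) : ∀ a ∈ (Cfsg.pCoreOf p L), h * a * h⁻¹ * a⁻¹ ∈ (Cfsg.largestPReducedOf p M) ⊓ Subgroup.centralizer ((L : Subgroup G) : Set G) → a ∈ (Cfsg.largestPReducedOf p M) ⊓ Subgroup.centralizer ((L : Subgroup G) : Set G) := by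
  intro a ha hc
  have hC := exists_conf hL
  obtain ⟨hYL, -, -, -, -, -, hmodel⟩ := hL
  set Yg := Cfsg.largestPReducedOf p M with hYg
  set Y := Yg.subgroupOf L with hYdef
  have hCmem : ∀ x : L, x ∈ Y ⊓ center L ↔ (x : G) ∈ Yg ⊓ centralizer ((L : Subgroup G) : Set G) := by
    intro x
    simp only [Subgroup.mem_inf, hYdef, mem_subgroupOf, mem_center_iff, Subgroup.mem_centralizer_iff]
    refine and_congr_right fun _ => ⟨fun e z hz => congrArg Subtype.val (e ⟨z, hz⟩), fun e z => Subtype.ext (e z z.2)⟩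
  suffices hgood : Good p Y (⟨h, hh⟩ : L) by
    obtain ⟨a', ha', rfl⟩ := ha
    exact (hCmem a').mp (hgood a' ha' ((hCmem _).mpr hc))
  haveI hOn : (Cfsg.pCore p L).Normal := FrakL.pCore_normal
  have hrel : (Yg ⊓ Cfsg.pCoreOf p L).relIndex Yg = (Cfsg.pCore p L).relIndex Y := by
    rw [inf_relIndex_left, Cfsg.pCoreOf]
    conv_lhs => rw [← map_subgroupOf_eq_of_le hYL]
    exact relIndex_map_map_of_injective _ _ L.subtype_injective
  have aux : ∀ {Q : Type} [Group Q] (e : ↥L ⧸ Cfsg.pCore p ↥L ≃* Q),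
      ∃ φ : L →* Q, Function.Surjective φ ∧ φ.ker = Cfsg.pCore p L ∧
        Nat.card (Y.map φ) = (Yg ⊓ Cfsg.pCoreOf p L).relIndex Yg ∧ ∀ k : ℕ, φ ⟨h, hh⟩ ^ p ^ k ≠ 1 := by
    intro Q _ e
    set φ := e.toMonoidHom.comp (QuotientGroup.mk' (Cfsg.pCore p L)) with hφ
    have hker : φ.ker = Cfsg.pCore p L := by
      ext x
      simp [hφ, MonoidHom.mem_ker, QuotientGroup.eq_one_iff]
    refine ⟨φ, e.surjective.comp (QuotientGroup.mk'_surjective _), hker, ?_, fun k hk => ?_⟩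
    · rw [hrel, ← hker, relIndex_ker]
    · rw [← map_pow, ← MonoidHom.mem_ker, hker] at hk
      obtain ⟨j, hj⟩ := (isPGroup_pCore p L) ⟨_, hk⟩
      have hj' := congrArg (fun z : Cfsg.pCore p L => ((z : L) : G)) hj
      simp only [SubmonoidClass.coe_pow, OneMemClass.coe_one, ← pow_mul, ← pow_add] at hj'
      obtain ⟨i, -, hi⟩ := (Nat.dvd_prime_pow Fact.out).mp (orderOf_dvd_of_pow_eq_one hj')
      exact hnp ⟨i, hi⟩
  rcases hmodel with ⟨F, _, _, hq, ⟨e⟩⟩ | ⟨rfl, F, _, _, m, hFm, hq, ⟨e⟩⟩ | ⟨rfl, r, hr, hr2, ⟨e⟩⟩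
  · obtain ⟨φ, hsurj, hker, hcard, hk⟩ := aux e
    rw [← hq] at hcard
    obtain ⟨n, hn⟩ := IsPGroup.iff_card.mp ((isPGroup_of_isElementaryAbelian hC.el).map φ)
    have hn0 : n ≠ 0 := by
      rintro rfl
      rw [hn, pow_zero] at hcard
      exact (Fintype.one_lt_card (α := F)).ne hcard
    haveI : CharP F p := charP_of_card_eq_prime_pow (f := n) (hcard.symm.trans hn)
    exact sl2_good hC hsurj hker hcard hk
  · obtain ⟨φ, hsurj, hker, hcard, hk⟩ := aux e
    rw [← hq] at hcard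
    rcases Nat.eq_zero_or_pos m with rfl | hm
    · exact good_two hC hsurj hker (by rw [hcard, hFm]; norm_num) hk
    · exact sz_good (F := F) (m := m) ⟨hm, hFm⟩ hC hsurj hker hcard hk
  · obtain ⟨φ, hsurj, hker, -, hk⟩ := aux e
    refine good_two hC hsurj hker (dihedral_card hr hr2 _ ((isPGroup_of_isElementaryAbelian hC.el).map φ) ?_) hk
    intro hb
    rw [Subgroup.map_eq_bot_iff, hker] at hb
    exact not_le_pCore hC hb

end Cfsg.Agent.S2863
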