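import Cfsg.Statements.S2861
import Cfsg.Agent.S2863

set_option autoImplicit false
open Cfsg

namespace Cfsg.Agent.S2861

open Subgroup CfsgLib.PReduced CfsgLib.PReduced.FrakL

variable {H : Type*} [Group H] [Finite H] {p : ℕ} [Fact p.Prime] {Y N : Subgroup H}
  {Q : Type*} [Group Q] {φ : H →* Q}

/-- The image of `N` is the normalizer of the image of `Y`. -/
theorem map_N (hC : YConf p Y N) (hsurj : Function.Surjective φ) (hker : φ.ker = Cfsg.pCore p H) :
    N.map φ = normalizer ((Y.map φ : Subgroup Q) : Set Q) := by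
  refine le_antisymm ((map_mono hC.NY).trans (le_normalizer_map φ)) fun q hq => ?_
  obtain ⟨x, rfl⟩ := hsurj q
  refine ⟨x, ?_, rfl⟩
  refine hC.uniq ((normalizer ((Y.map φ : Subgroup Q) : Set Q)).comap φ)
    (fun y hy => le_normalizer (mem_map_of_mem φ hy)) (fun htop => ?_) hq
  haveI : (Y.map φ).Normal := normalizer_eq_top_iff.mp
    (comap_injective hsurj (htop.trans (comap_top φ).symm))
  have h1 : (Y.map φ).comap φ = ⊤ :=
    top_le_iff.mp (hC.gen ▸ normalClosure_le_normal (N := (Y.map φ).comap φ) (le_comap_map φ Y))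
  have h2 : IsPGroup p ((Y.map φ).comap φ) :=
    ((isPGroup_of_isElementaryAbelian hC.el).map φ).comap_of_ker_isPGroup φ (hker ▸ isPGroup_pCore p H)
  rw [h1] at h2
  exact hC.ne (top_le_iff.mp ((le_pCore (p := p) inferInstance h2).trans hC.ON))

/-- A generating pair of involutions. -/
theorem exists_dihedral (hC : YConf p Y N) (hsurj : Function.Surjective φ)
    {y0 : Q} (hy0 : y0 * y0 = 1) (hall : ∀ a ∈ Y.map φ, a = 1 ∨ a = y0) :
    ∃ d : Q, y0 * d * y0 = d⁻¹ ∧ ∀ q, ∃ k : ℤ, q = d ^ k ∨ q = d ^ k * y0 := by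
  obtain ⟨x, w, hw, hxw⟩ : ∃ x w, w ∈ Y ∧ x * w * x⁻¹ ∉ N := by
    by_contra hcon
    push Not at hcon
    refine hC.ne (top_le_iff.mp (hC.gen ▸ (closure_le N).mpr ?_))
    rintro z hz
    obtain ⟨w, hw, hwz⟩ := Group.mem_conjugatesOfSet_iff.mp hz
    obtain ⟨x, rfl⟩ := isConj_iff.mp hwz
    exact hcon x w hw
  set y1 := φ (x * w * x⁻¹) with hy1
  set K := closure ({y0, y1} : Set Q) with hK
  have hKt : ∀ q, q ∈ K := by
    have : K.comap φ = ⊤ := by
      by_contra hne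
      refine hxw (hC.uniq _ (fun z hz => ?_) hne (subset_closure (by simp [hy1])))
      rcases hall _ (mem_map_of_mem φ hz) with e | e
      · show φ z ∈ K
        rw [e]; exact one_mem K
      · show φ z ∈ K
        rw [e]; exact subset_closure (by simp)
    intro q
    obtain ⟨z, rfl⟩ := hsurj q
    have hz : z ∈ K.comap φ := this ▸ mem_top z
    exact hz
  have hy0i : y0⁻¹ = y0 := inv_eq_of_mul_eq_one_right hy0
  have hy1sq : y1 * y1 = 1 := by
    have : φ w * φ w = 1 := by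
      rcases hall _ (mem_map_of_mem φ hw) with e | e <;> rw [e]
      · exact mul_one 1
      · exact hy0
    rw [hy1, map_mul, map_mul, map_inv, show φ x * φ w * (φ x)⁻¹ * (φ x * φ w * (φ x)⁻¹) = φ x * (φ w * φ w) * (φ x)⁻¹ by group, this]
    group
  have hy1i : y1⁻¹ = y1 := inv_eq_of_mul_eq_one_right hy1sq
  set d := y0 * y1 with hd
  have hy1d : y1 = y0 * d := by rw [hd, ← mul_assoc, hy0, one_mul]
  have he : y0 * d * y0 = d⁻¹ := by
    rw [← hy1d, hd, mul_inv_rev, hy0i, hy1i]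
  have hconj : ∀ k : ℤ, y0 * d ^ k * y0 = d ^ (-k) := by
    intro k
    calc y0 * d ^ k * y0 = y0 * d ^ k * y0⁻¹ := by rw [hy0i]
      _ = (y0 * d * y0⁻¹) ^ k := (conj_zpow).symm
      _ = d ^ (-k) := by rw [hy0i, he, inv_zpow, zpow_neg]
  have hflip : ∀ k : ℤ, y0 * d ^ k = d ^ (-k) * y0 := fun k => by
    rw [← hconj k, mul_assoc _ y0 y0, hy0, mul_one]
  refine ⟨d, he, fun q => ?_⟩
  have h0 : ∀ q' : Q, (∃ k : ℤ, q' = d ^ k ∨ q' = d ^ k * y0) → ∃ k : ℤ, y0 * q' = d ^ k ∨ y0 * q' = d ^ k * y0 := by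
    rintro _ ⟨k, rfl | rfl⟩
    · exact ⟨-k, Or.inr (hflip k)⟩
    · exact ⟨-k, Or.inl (by rw [← mul_assoc, hconj])⟩
  have h1 : ∀ q' : Q, (∃ k : ℤ, q' = d ^ k ∨ q' = d ^ k * y0) → ∃ k : ℤ, y1 * q' = d ^ k ∨ y1 * q' = d ^ k * y0 := by
    rintro _ ⟨k, rfl | rfl⟩
    · exact ⟨-(1 + k), Or.inr (by rw [hy1d, mul_assoc y0, ← zpow_one_add, hflip])⟩
    · exact ⟨-(1 + k), Or.inl (by rw [hy1d, ← mul_assoc, mul_assoc y0, ← zpow_one_add, hconj])⟩
  refine closure_induction_left (p := fun q _ => ∃ k : ℤ, q = d ^ k ∨ q = d ^ k * y0) ⟨0, Or.inl (zpow_zero d).symm⟩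
    ?_ ?_ (hKt q)
  · rintro a (rfl | rfl) z _ hz
    exacts [h0 z hz, h1 z hz]
  · rintro a (rfl | rfl) z _ hz
    · rw [hy0i]; exact h0 z hz
    · rw [hy1i]; exact h1 z hz

theorem unique_two [Finite Q] (hC : YConf p Y N) (hsurj : Function.Surjective φ) (hker : φ.ker = Cfsg.pCore p H)
    (h2 : Nat.card (Y.map φ) = 2) {V : Subgroup Q} (hV : V ≤ normalizer ((Y.map φ : Subgroup Q) : Set Q))
    (hne : V ≠ ⊥) : V = Y.map φ := by
  obtain ⟨⟨y0, hy0m⟩, hy0ne⟩ := @exists_ne (Y.map φ) (Finite.one_lt_card_iff_nontrivial.mp (by omega)) 1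
  have hy01 : y0 ≠ 1 := fun e => hy0ne (Subtype.ext e)
  have hsq : ∀ a ∈ Y.map φ, a * a = 1 := fun a ha => by
    have := congrArg Subtype.val (pow_card_eq_one' (x := (⟨a, ha⟩ : Y.map φ)))
    rwa [h2, SubmonoidClass.coe_pow, sq] at this
  have hall : ∀ a ∈ Y.map φ, a = 1 ∨ a = y0 := by
    intro a ha
    obtain ⟨u, hu, huniq⟩ := (Nat.card_eq_two_iff' (1 : Y.map φ)).mp h2
    by_cases h1 : a = 1
    · exact Or.inl h1
    · refine Or.inr ?_
      have e1 := huniq ⟨a, ha⟩ fun e => h1 (congrArg Subtype.val e)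
      have e2 := huniq ⟨y0, hy0m⟩ hy0ne
      exact congrArg Subtype.val (e1.trans e2.symm)
  have hp2 : p = 2 := by
    obtain ⟨y, hy, hy'⟩ := hy0m
    have h1 : y0 ^ p = 1 := by rw [← hy', ← map_pow, hC.el.2 y hy, map_one]
    have h1 := orderOf_dvd_of_pow_eq_one h1
    rw [orderOf_eq_prime (by rw [sq]; exact hsq y0 (hy' ▸ mem_map_of_mem φ hy)) hy01] at h1
    exact ((Nat.prime_dvd_prime_iff_eq Nat.prime_two Fact.out).mp h1).symm
  obtain ⟨d, hd, hform⟩ := exists_dihedral hC hsurj (hsq y0 hy0m) hall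
  have hy0i : y0⁻¹ = y0 := inv_eq_of_mul_eq_one_right (hsq y0 hy0m)
  -- `d` has odd order
  obtain ⟨k, m, hm, hkm⟩ := Nat.exists_eq_pow_mul_and_not_dvd (orderOf_pos d).ne' p (Fact.out : p.Prime).ne_one
  set e := d ^ m with he
  have he1 : e = 1 := by
    have hcj : ∀ q, q * e * q⁻¹ ∈ zpowers e := by
      intro q
      obtain ⟨j, rfl | rfl⟩ := hform q
      · rw [((Commute.refl d).pow_right m).zpow_left j |>.eq, mul_inv_cancel_right]
        exact mem_zpowers e
      · have h1 : y0 * e * y0⁻¹ = e⁻¹ := by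
          rw [he, ← conj_pow, hy0i, hd, inv_pow]
        rw [show d ^ j * y0 * e * (d ^ j * y0)⁻¹ = d ^ j * (y0 * e * y0⁻¹) * (d ^ j)⁻¹ by group, h1,
          (((Commute.refl d).pow_right m).inv_right.zpow_left j).eq, mul_inv_cancel_right]
        exact inv_mem (mem_zpowers e)
    have hn : (zpowers e).Normal := ⟨fun z hz q => by
      obtain ⟨i, rfl⟩ := mem_zpowers_iff.mp hz
      rw [← conj_zpow]
      exact zpow_mem (hcj q) i⟩
    have hp : IsPGroup p (zpowers e) := by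
      rintro ⟨z, hz⟩
      obtain ⟨i, rfl⟩ := mem_zpowers_iff.mp hz
      refine ⟨k, Subtype.ext ?_⟩
      show (e ^ i) ^ (p ^ k) = 1
      rw [← zpow_natCast, ← zpow_mul, mul_comm, zpow_mul, zpow_natCast, he, ← pow_mul, mul_comm, ← hkm,
        pow_orderOf_eq_one, one_zpow]
    have hcn : ((zpowers e).comap φ).Normal := hn.comap φ
    have hcp : IsPGroup p ((zpowers e).comap φ) := hp.comap_of_ker_isPGroup φ (hker ▸ isPGroup_pCore p H)
    obtain ⟨z, hz⟩ := hsurj e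
    have : z ∈ φ.ker := hker ▸ le_pCore hcn hcp (show φ z ∈ zpowers e from hz ▸ mem_zpowers e)
    rw [← hz]; exact this
  have hcent : ∀ q, Commute q y0 → q = 1 ∨ q = y0 := by
    intro q hq
    have key : ∀ j : ℤ, Commute (d ^ j) y0 → d ^ j = 1 := by
      intro j hj
      have h1 : d ^ j = d ^ (-j) := by
        calc d ^ j = y0 * d ^ j * y0⁻¹ := by rw [← hj.eq, mul_inv_cancel_right]
          _ = (y0 * d * y0⁻¹) ^ j := conj_zpow.symm
          _ = d ^ (-j) := by rw [hy0i, hd, inv_zpow, zpow_neg]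
      have h2 : (d ^ j) ^ 2 = 1 := by
        rw [sq]; nth_rw 2 [h1]; rw [← zpow_add, add_neg_cancel, zpow_zero]
      have h3 : (d ^ j) ^ m = 1 := by
        rw [← zpow_natCast, ← zpow_mul, mul_comm, zpow_mul, zpow_natCast]
        exact (congrArg (· ^ j) he1).trans (one_zpow j)
      refine orderOf_eq_one_iff.mp (Nat.eq_one_of_dvd_coprimes ?_ (orderOf_dvd_of_pow_eq_one h2)
        (orderOf_dvd_of_pow_eq_one h3))
      exact hp2 ▸ (Fact.out : p.Prime).coprime_iff_not_dvd.mpr hm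
    obtain ⟨j, rfl | rfl⟩ := hform q
    · exact Or.inl (key j hq)
    · refine Or.inr ?_
      have : Commute (d ^ j) y0 := by
        have := hq.mul_left (Commute.refl y0)
        rwa [mul_assoc, hsq y0 hy0m, mul_one] at this
      rw [key j this, one_mul]
  have hle : V ≤ Y.map φ := by
    intro v hv
    have h1 := (mem_normalizer_iff.mp (hV hv) y0).mp hy0m
    have h2 : v * y0 * v⁻¹ = y0 := (hall _ h1).resolve_left fun e => hy01 (by simpa using e)
    rcases hcent v (mul_inv_eq_iff_eq_mul.mp h2) with e | e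
    · rw [e]; exact one_mem _
    · rw [e]; exact hy0m
  refine le_antisymm hle fun a ha => ?_
  obtain ⟨⟨v, hv⟩, hv1⟩ := @exists_ne V ((Subgroup.nontrivial_iff_ne_bot V).mpr hne) 1
  have hvy : v = y0 := (hall v (hle hv)).resolve_left fun e => hv1 (Subtype.ext e)
  rcases hall a ha with e | e
  · rw [e]; exact one_mem V
  · rw [e, ← hvy]; exact hv

theorem le_of_normalized [Finite Q] (T : Sylow p Q) {V : Subgroup Q} (hV : IsPGroup p V)
    (hn : (T : Subgroup Q) ≤ normalizer (V : Set Q)) : V ≤ (T : Subgroup Q) :=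
  T.is_maximal' (T.isPGroup'.to_sup_of_normal_right' hV hn) le_sup_left ▸ le_sup_right

section SL2

variable {F : Type*} [Field F]

/-- The upper unitriangular element. -/
def uu : Multiplicative F →* Matrix.SpecialLinearGroup (Fin 2) F :=
  MonoidHom.mk' (fun b => ⟨!![1, b.toAdd; 0, 1], by simp⟩) fun a b => Subtype.ext (by
    show (!![1, (a * b).toAdd; 0, 1] : Matrix (Fin 2) (Fin 2) F) = !![1, a.toAdd; 0, 1] * !![1, b.toAdd; 0, 1]
    rw [Matrix.mul_fin_two, toAdd_mul]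
    simp [add_comm])

open Matrix in
theorem unique_sl2 [Fintype F] [CharP F p] {φ : H →* SpecialLinearGroup (Fin 2) F} (hC : YConf p Y N)
    (hcard : Nat.card (Y.map φ) = Fintype.card F) {V : Subgroup (SpecialLinearGroup (Fin 2) F)}
    (hNV : normalizer ((Y.map φ : Subgroup (SpecialLinearGroup (Fin 2) F)) : Set (SpecialLinearGroup (Fin 2) F)) ≤
      normalizer (V : Set (SpecialLinearGroup (Fin 2) F)))
    (hVp : IsPGroup p V) (hne : V ≠ ⊥) : V = Y.map φ := by
  have hYp : IsPGroup p (Y.map φ) := (isPGroup_of_isElementaryAbelian hC.el).map φ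
  have hindex : ¬ p ∣ (Y.map φ).index := by
    have h1 := (Y.map φ).card_mul_index
    rw [hcard, CfsgLib.SL2.card_SL2] at h1
    rw [Nat.eq_of_mul_eq_mul_left Fintype.card_pos h1]
    intro hd
    obtain ⟨n, -, hn⟩ := FiniteField.card F p
    have hpq : p ∣ Fintype.card F ^ 2 := by rw [hn, ← pow_mul]; exact dvd_pow_self p (by positivity)
    have h2 : 1 ≤ Fintype.card F ^ 2 := Nat.one_le_pow _ _ Fintype.card_pos
    have := Nat.dvd_sub hpq hd
    rw [show Fintype.card F ^ 2 - (Fintype.card F ^ 2 - 1) = 1 by omega] at this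
    exact (Fact.out : p.Prime).ne_one (Nat.dvd_one.mp this)
  set T := hYp.toSylow hindex with hT
  have hle : V ≤ Y.map φ := le_of_normalized T hVp (le_normalizer.trans hNV)
  have hUp : IsPGroup p (uu (F := F)).range := by
    rintro ⟨_, b, rfl⟩
    refine ⟨1, Subtype.ext ?_⟩
    show uu b ^ p ^ 1 = 1
    rw [← map_pow, pow_one]
    have : b ^ p = 1 := Multiplicative.toAdd.injective (by
      rw [toAdd_pow, toAdd_one, nsmul_eq_mul, CharP.cast_eq_zero, zero_mul])
    rw [this, map_one]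
  have hinj : Function.Injective (uu (F := F)) := fun a b e => by
    have := congrFun (congrFun (congrArg Subtype.val e) 0) 1
    exact Multiplicative.toAdd.injective this
  obtain ⟨P, hP⟩ := hUp.exists_le_sylow
  obtain ⟨c, hc⟩ := MulAction.exists_smul_eq (SpecialLinearGroup (Fin 2) F) P T
  have hUY : (uu (F := F)).range.map (MulAut.conj c).toMonoidHom = Y.map φ := by
    refine Subgroup.eq_of_le_of_card_ge ?_ (by
      rw [hcard, Subgroup.card_map_of_injective (MulAut.conj c).injective,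
        ← Nat.card_congr (MonoidHom.ofInjective hinj).toEquiv, ← Nat.card_eq_fintype_card]
      exact (Nat.card_congr Multiplicative.toAdd).ge)
    rintro _ ⟨w, hw, rfl⟩
    show c * w * c⁻¹ ∈ (T : Subgroup _)
    rw [← hc]
    exact ⟨w, hP hw, rfl⟩
  refine le_antisymm hle ?_
  let S : Set F := {b | c * uu (Multiplicative.ofAdd b) * c⁻¹ ∈ V}
  obtain ⟨⟨v, hv⟩, hv1⟩ := @exists_ne V ((Subgroup.nontrivial_iff_ne_bot V).mpr hne) 1
  obtain ⟨_, ⟨b0, rfl⟩, hb0⟩ : v ∈ (uu (F := F)).range.map (MulAut.conj c).toMonoidHom := hUY.symm ▸ hle hv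
  change c * uu b0 * c⁻¹ = v at hb0
  set β := b0.toAdd with hβ
  have hβS : β ∈ S := by show c * uu b0 * c⁻¹ ∈ V; rw [hb0]; exact hv
  have hβ0 : β ≠ 0 := by
    intro e
    have : b0 = 1 := Multiplicative.toAdd.injective (by rw [← hβ, e, toAdd_one])
    refine hv1 (Subtype.ext ?_)
    show v = 1
    rw [← hb0, this, map_one]
    simp
  have hsub : ∀ a b : F, a ∈ S → b ∈ S → a - b ∈ S := by
    intro a b ha hb
    show c * uu (Multiplicative.ofAdd (a - b)) * c⁻¹ ∈ V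
    rw [ofAdd_sub, map_div, div_eq_mul_inv, show c * (uu (Multiplicative.ofAdd a) * (uu (Multiplicative.ofAdd b))⁻¹) * c⁻¹ =
      (c * uu (Multiplicative.ofAdd a) * c⁻¹) * (c * uu (Multiplicative.ofAdd b) * c⁻¹)⁻¹ by group]
    exact V.mul_mem ha (V.inv_mem hb)
  have hsq : ∀ t a : F, a ∈ S → t * t * a ∈ S := by
    intro t a ha
    by_cases ht : t = 0
    · simp only [ht, zero_mul]
      show c * uu (Multiplicative.ofAdd (0 : F)) * c⁻¹ ∈ V
      rw [ofAdd_zero, map_one, mul_one, mul_inv_cancel]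
      exact one_mem V
    let τ : SpecialLinearGroup (Fin 2) F := ⟨!![t, 0; 0, t⁻¹], by simp [ht]⟩
    have hconj : ∀ b : F, τ * uu (Multiplicative.ofAdd b) * τ⁻¹ = uu (Multiplicative.ofAdd (t * t * b)) := by
      intro b
      rw [mul_inv_eq_iff_eq_mul]
      apply Subtype.ext
      show (!![t, 0; 0, t⁻¹] : Matrix (Fin 2) (Fin 2) F) * !![1, b; 0, 1] = !![1, t * t * b; 0, 1] * !![t, 0; 0, t⁻¹]
      rw [Matrix.mul_fin_two, Matrix.mul_fin_two]
      congr 1
      ext i j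
      fin_cases i <;> fin_cases j <;> simp
      field_simp
    have hτ : c * τ * c⁻¹ ∈ normalizer ((Y.map φ : Subgroup (SpecialLinearGroup (Fin 2) F)) : Set (SpecialLinearGroup (Fin 2) F)) := by
      refine Subgroup.mem_normalizer_fintype fun w hw => ?_
      obtain ⟨_, ⟨b, rfl⟩, rfl⟩ : w ∈ (uu (F := F)).range.map (MulAut.conj c).toMonoidHom := hUY.symm ▸ hw
      show c * τ * c⁻¹ * (c * uu b * c⁻¹) * (c * τ * c⁻¹)⁻¹ ∈ Y.map φ
      rw [← hUY, show c * τ * c⁻¹ * (c * uu b * c⁻¹) * (c * τ * c⁻¹)⁻¹ = c * (τ * uu b * τ⁻¹) * c⁻¹ by group,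
        ← ofAdd_toAdd b, hconj]
      exact ⟨_, ⟨_, rfl⟩, rfl⟩
    have := (mem_normalizer_iff.mp (hNV hτ) _).mp ha
    rw [show c * τ * c⁻¹ * (c * uu (Multiplicative.ofAdd a) * c⁻¹) * (c * τ * c⁻¹)⁻¹ =
      c * (τ * uu (Multiplicative.ofAdd a) * τ⁻¹) * c⁻¹ by group, hconj] at this
    exact this
  have hall : ∀ b : F, b ∈ S := by
    intro b
    have hb : b = b / β * β := (div_mul_cancel₀ b hβ0).symm
    by_cases h2 : p = 2
    · have h2' : ringChar F = 2 := h2 ▸ ringChar.eq F p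
      obtain ⟨t, ht⟩ := FiniteField.isSquare_of_char_two h2' (b / β)
      rw [hb, ht]
      exact hsq t β hβS
    · have h20 : (2 : F) ≠ 0 := fun e => by
        have h3 : p ∣ 2 := (CharP.cast_eq_zero_iff F p 2).mp (by exact_mod_cast e)
        exact h2 ((Nat.prime_dvd_prime_iff_eq Fact.out Nat.prime_two).mp h3)
      have : b = (b / β + 1) / 2 * ((b / β + 1) / 2) * β - (b / β - 1) / 2 * ((b / β - 1) / 2) * β := by
        field_simp
        ring
      rw [this]
      exact hsub _ _ (hsq _ β hβS) (hsq _ β hβS)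
  intro w hw
  obtain ⟨_, ⟨b, rfl⟩, rfl⟩ : w ∈ (uu (F := F)).range.map (MulAut.conj c).toMonoidHom := hUY.symm ▸ hw
  exact hall b.toAdd

end SL2

section Suzuki

open CfsgLib.Sz

theorem unique_sz {F : Type*} [Field F] [Fintype F] {m : ℕ} (hy : Hyp F m) (hp : p = 2) {φ : H →* G F m}
    (hC : YConf p Y N) (hcard : Nat.card (Y.map φ) = Fintype.card F) {V : Subgroup (G F m)}
    (hNV : normalizer ((Y.map φ : Subgroup (G F m)) : Set (G F m)) ≤ normalizer (V : Set (G F m)))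
    (hel : ∀ v ∈ V, v ^ p = 1) (hne : V ≠ ⊥) : V = Y.map φ := by
  subst hp
  obtain ⟨T, hT⟩ := ((isPGroup_of_isElementaryAbelian hC.el).map φ).exists_le_sylow
  obtain ⟨j, hj⟩ := exists_conj_sylow hy T
  have hinv : ∀ w ∈ (T : Subgroup (G F m)), w ^ 2 = 1 → ∃ b, w = j * gU hy 0 b * j⁻¹ := by
    intro w hw h2
    obtain ⟨_, ⟨a, b, rfl⟩, hu⟩ : w ∈ (Usub hy).map (MulAut.conj j).toMonoidHom := hj ▸ hw
    rw [← hu, ← map_pow] at h2
    have h2 : gU hy a b ^ 2 = 1 := (MulAut.conj j).map_eq_one_iff.mp h2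
    refine ⟨b, ?_⟩
    rw [← hu, (gU_sq_eq_one_iff hy).mp h2]
    rfl
  have hZ : (Zsub hy).map (MulAut.conj j).toMonoidHom = Y.map φ := by
    refine (Subgroup.eq_of_le_of_card_ge ?_ ?_).symm
    · intro w hw
      obtain ⟨y, hyY, hyw⟩ := hw
      obtain ⟨b, hb⟩ := hinv w (hT ⟨y, hyY, hyw⟩) (by rw [← hyw, ← map_pow, hC.el.2 y hyY, map_one])
      exact ⟨_, ⟨b, rfl⟩, hb.symm⟩
    · rw [Subgroup.card_map_of_injective (MulAut.conj j).injective, card_Zsub, hcard]
  have hmem : ∀ w, w ∈ Y.map φ ↔ ∃ b, w = j * gU hy 0 b * j⁻¹ := fun w => by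
    rw [← hZ]
    exact ⟨fun ⟨_, ⟨b, hb⟩, h'⟩ => ⟨b, by rw [← h', hb]; rfl⟩, fun ⟨b, hb⟩ => ⟨_, ⟨b, rfl⟩, hb.symm⟩⟩
  have hTN : (T : Subgroup (G F m)) ≤ normalizer ((Y.map φ : Subgroup (G F m)) : Set (G F m)) := by
    intro w hw
    refine Subgroup.mem_normalizer_fintype fun z hz => ?_
    obtain ⟨_, ⟨a, b, rfl⟩, hu⟩ : w ∈ (Usub hy).map (MulAut.conj j).toMonoidHom := hj ▸ hw
    obtain ⟨b', rfl⟩ := (hmem z).mp hz
    refine (hmem _).mpr ⟨b', ?_⟩
    have hcomm : gU hy a b * gU hy 0 b' = gU hy 0 b' * gU hy a b := by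
      rw [gU_mul, gU_mul, th_zero, mul_zero, zero_mul, add_zero, zero_add]
      congr 1 <;> ring
    rw [← hu]
    show j * gU hy a b * j⁻¹ * (j * gU hy 0 b' * j⁻¹) * (j * gU hy a b * j⁻¹)⁻¹ = _
    calc j * gU hy a b * j⁻¹ * (j * gU hy 0 b' * j⁻¹) * (j * gU hy a b * j⁻¹)⁻¹
        = j * (gU hy a b * gU hy 0 b' * (gU hy a b)⁻¹) * j⁻¹ := by group
      _ = j * gU hy 0 b' * j⁻¹ := by rw [hcomm, mul_inv_cancel_right]
  have hVp : IsPGroup 2 V := fun v => ⟨1, Subtype.ext (by simpa using hel v v.2)⟩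
  have hVT : V ≤ (T : Subgroup (G F m)) := le_of_normalized T hVp (hTN.trans hNV)
  have hle : V ≤ Y.map φ := fun v hv => (hmem v).mpr (hinv v (hVT hv) (hel v hv))
  refine le_antisymm hle ?_
  obtain ⟨⟨v, hv⟩, hv1⟩ := @exists_ne V ((Subgroup.nontrivial_iff_ne_bot V).mpr hne) 1
  obtain ⟨b0, hb0⟩ := (hmem v).mp (hle hv)
  have hb00 : b0 ≠ 0 := by
    intro e
    refine hv1 (Subtype.ext ?_)
    show v = 1
    rw [hb0, e, gU_zero]
    simp
  have hD : ∀ s : Fˣ, j * gD hy s * j⁻¹ ∈ normalizer ((Y.map φ : Subgroup (G F m)) : Set (G F m)) := by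
    intro s
    refine Subgroup.mem_normalizer_fintype fun z hz => ?_
    obtain ⟨b', rfl⟩ := (hmem z).mp hz
    refine (hmem _).mpr ⟨th m (s : F) * (s : F) ^ 2 * b', ?_⟩
    rw [show j * gD hy s * j⁻¹ * (j * gU hy 0 b' * j⁻¹) * (j * gD hy s * j⁻¹)⁻¹ =
      j * (gD hy s * gU hy 0 b' * (gD hy s)⁻¹) * j⁻¹ by group, gD_gU, mul_zero]
  intro w hw
  obtain ⟨b, rfl⟩ := (hmem w).mp hw
  by_cases hb : b = 0
  · rw [hb, gU_zero, mul_one, mul_inv_cancel]
    exact one_mem V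
  let f : Fˣ →* Fˣ := MonoidHom.mk' (fun s => Units.mk0 (th m (s : F) * (s : F) ^ 2)
    (mul_ne_zero (fun e => s.ne_zero (th_eq_zero e)) (pow_ne_zero 2 s.ne_zero)))
    (fun s t => Units.ext (by simp; ring))
  have hfinj : Function.Injective f := (injective_iff_map_eq_one f).mpr fun s hs => by
    by_contra hne1
    exact lam_ne hy (fun e => hne1 (Units.ext e)) (congrArg Units.val hs)
  obtain ⟨s, hs⟩ := Finite.surjective_of_injective hfinj (Units.mk0 (b / b0) (div_ne_zero hb hb00))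
  have hs' : th m (s : F) * (s : F) ^ 2 = b / b0 := congrArg Units.val hs
  have := (mem_normalizer_iff.mp (hNV (hD s)) v).mp hv
  rw [hb0, show j * gD hy s * j⁻¹ * (j * gU hy 0 b0 * j⁻¹) * (j * gD hy s * j⁻¹)⁻¹ =
    j * (gD hy s * gU hy 0 b0 * (gD hy s)⁻¹) * j⁻¹ by group, gD_gU, mul_zero, hs', div_mul_cancel₀ b hb00] at this
  exact this

end Suzuki

/-- Standing hypotheses: G a finite group, S a Sylow p-subgroup, Q a nontrivial large p-subgroup of G contained in S, M a subgroup containing S with the basic property (M ∈ 𝔐_G(S)); Y_M the largest p-reduced normal subgroup of M and M† = M·C_G(Y_M). Let L ∈ 𝔏_G(Y_M) (L ∈ 𝔏_G(Y_M): Y_M ≤ L; O_p(L) is the normal closure in L of Y_M ∩ O_p(L) and normalizes Y_M; L is Y_M-minimal of characteristic p with N_L(Y_M) its unique maximal subgroup over Y_M; and L/O_p(L) ≅ SL₂(q) with q = |Y_M : Y_M ∩ O_p(L)|, or p = 2 and L/O_p(L) is a Suzuki group Sz(q) or dihedral of order 2r, r an odd prime)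 and A = O_p(L). Then Y_M·A/A is the unique nontrivial elementary abelian normal p-subgroup of N_L(Y_M)/A. -/
theorem result {G : Type*} [Group G] [Finite G] {p : ℕ} [Fact p.Prime] (S : Sylow p G) (Q : Subgroup G) (hQp : IsPGroup p ↥Q) (hQ1 : Q ≠ ⊥) (hQS : Q ≤ (S : Subgroup G)) (hQ : Cfsg.IsLarge Q) (M : Subgroup G) (hSM : (S : Subgroup G) ≤ M) (hM : Cfsg.IsInFrakM p M) (L : Subgroup G) (hL : Cfsg.IsInFrakL p M L) (NL : Subgroup G) (hNL : NL = L ⊓ Subgroup.normalizer (((Cfsg.largestPReducedOf p M) : Subgroup G) : Set G)) [hn : (((Cfsg.pCoreOf p L)).subgroupOf NL).Normal] : let Ybar : Subgroup (↥NL ⧸ ((Cfsg.pCoreOf p L)).subgroupOf NL) := (((Cfsg.largestPReducedOf p M)).subgroupOf NL).map (QuotientGroup.mk' (((Cfsg.pCoreOf p L)).subgroupOf NL)); Ybar ≠ ⊥ ∧ Ybar.Normal ∧ Cfsg.IsElementaryAbelian p Ybar ∧ ∀ (V : Subgroup (↥NL ⧸ ((Cfsg.pCoreOf p L)).subgroupOf NL)), V.Normal → Cfsg.IsElementaryAbelian p V → V ≠ ⊥ → V = Ybar := by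
  intro Ybar
  have hC := Cfsg.Agent.S2863.exists_conf hL
  obtain ⟨hYL, -, -, -, -, -, hmodel⟩ := hL
  set Yg := Cfsg.largestPReducedOf p M with hYg
  set Y := Yg.subgroupOf L with hYdef
  set N := (normalizer (Yg : Set G)).subgroupOf L with hNdef
  have hNLle : NL ≤ L := hNL ▸ inf_le_left
  have hYNL : Yg ≤ NL := hNL ▸ le_inf hYL le_normalizer
  haveI hOn : (Cfsg.pCore p L).Normal := FrakL.pCore_normal
  set A := (Cfsg.pCoreOf p L).subgroupOf NL with hA
  set π := QuotientGroup.mk' A with hπ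
  set ι := Subgroup.inclusion hNLle with hι
  have hι_mem : ∀ x : NL, ι x ∈ Cfsg.pCore p L ↔ x ∈ A := by
    intro x
    refine ⟨fun h => ⟨ι x, h, rfl⟩, fun h => ?_⟩
    obtain ⟨l, hl, hlx⟩ : (x : G) ∈ (Cfsg.pCore p L).map L.subtype := h
    rwa [show ι x = l from Subtype.ext hlx.symm]
  have hYn : (Yg.subgroupOf NL).Normal := normal_subgroupOf_of_le_normalizer (hNL ▸ inf_le_right)
  have hYel : Cfsg.IsElementaryAbelian p (Yg.subgroupOf NL) := by
    have h := isElementaryAbelian_largestPReducedOf (p := p) M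
    rw [← hYg] at h
    refine ⟨⟨⟨fun a b => ?_⟩⟩, fun a ha => Subtype.ext (by simpa using h.2 a ha)⟩
    exact Subtype.ext (Subtype.ext (congrArg Subtype.val
      (h.1.is_comm.comm (⟨(a : NL), a.2⟩ : Yg) ⟨(b : NL), b.2⟩) :))
  have hbot : Ybar ≠ ⊥ := by
    intro e
    refine FrakL.not_le_pCore hC fun y hy => ?_
    have hy' : (⟨(y : G), hYNL hy⟩ : NL) ∈ A := by
      rw [← QuotientGroup.eq_one_iff, ← Subgroup.mem_bot, ← e]
      exact mem_map_of_mem π hy
    exact (hι_mem _).mpr hy'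
  refine ⟨hbot, hYn.map π (QuotientGroup.mk'_surjective A), isElementaryAbelian_map π hYel, fun V hVn hVel hVne => ?_⟩
  have key : ∀ {Q : Type} [Group Q] [Finite Q] (φ : L →* Q), Function.Surjective φ →
      φ.ker = Cfsg.pCore p L →
      (∀ V' : Subgroup Q, V' ≤ normalizer ((Y.map φ : Subgroup Q) : Set Q) →
        normalizer ((Y.map φ : Subgroup Q) : Set Q) ≤ normalizer (V' : Set Q) →
        (∀ v ∈ V', v ^ p = 1) → V' ≠ ⊥ → V' = Y.map φ) → V = Ybar := by
    intro Q _ _ φ hsurj hker huniq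
    set ψ := φ.comp ι with hψ
    have hψker : ∀ x, ψ x = 1 ↔ x ∈ A := fun x => by
      rw [← hι_mem x, ← hker]; rfl
    have hkerle : ψ.ker = A := Subgroup.ext hψker
    have hrange : ψ.range = normalizer ((Y.map φ : Subgroup Q) : Set Q) := by
      rw [← map_N hC hsurj hker]
      apply le_antisymm
      · rintro _ ⟨x, rfl⟩
        have hx2 : (x : G) ∈ L ⊓ normalizer (Yg : Set G) := hNL.le x.2
        exact ⟨ι x, hx2.2, rfl⟩
      · rintro _ ⟨x, hx, rfl⟩
        exact ⟨⟨x, hNL ▸ ⟨x.2, hx⟩⟩, rfl⟩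
    have hYψ : (Yg.subgroupOf NL).map ψ = Y.map φ := by
      apply le_antisymm
      · rintro _ ⟨x, hx, rfl⟩
        exact ⟨ι x, hx, rfl⟩
      · rintro _ ⟨y, hy, rfl⟩
        exact ⟨⟨y, hYNL hy⟩, hy, rfl⟩
    set W := V.comap π with hW
    haveI : W.Normal := hVn.comap π
    have hVW : W.map π = V := map_comap_eq_self_of_surjective (QuotientGroup.mk'_surjective A) V
    have hle : W.map ψ ≤ normalizer ((Y.map φ : Subgroup Q) : Set Q) := hrange ▸ map_le_range ψ W
    have hnorm : normalizer ((Y.map φ : Subgroup Q) : Set Q) ≤ normalizer ((W.map ψ : Subgroup Q) : Set Q) := by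
      rw [← hrange, MonoidHom.range_eq_map]
      refine (map_mono ?_).trans (le_normalizer_map ψ)
      rw [normalizer_eq_top (H := W)]
    have hpow : ∀ v ∈ W.map ψ, v ^ p = 1 := by
      rintro _ ⟨w, hw, rfl⟩
      rw [← map_pow, hψker]
      exact (QuotientGroup.eq_one_iff _).mp (hVel.2 _ hw)
    have hne' : W.map ψ ≠ ⊥ := by
      intro e
      rw [Subgroup.map_eq_bot_iff, hkerle] at e
      refine hVne ?_
      rw [← hVW, Subgroup.map_eq_bot_iff, QuotientGroup.ker_mk']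
      exact e
    have h := huniq _ hle hnorm hpow hne'
    rw [← hYψ, map_eq_map_iff, hkerle] at h
    rw [← hVW]
    exact map_eq_map_iff.mpr (by rw [QuotientGroup.ker_mk']; exact h)
  have hrel : (Yg ⊓ Cfsg.pCoreOf p L).relIndex Yg = (Cfsg.pCore p L).relIndex Y := by
    rw [inf_relIndex_left, Cfsg.pCoreOf]
    conv_lhs => rw [← map_subgroupOf_eq_of_le hYL]
    exact relIndex_map_map_of_injective _ _ L.subtype_injective
  have aux : ∀ {Q : Type} [Group Q] (e : ↥L ⧸ Cfsg.pCore p ↥L ≃* Q),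
      ∃ φ : L →* Q, Function.Surjective φ ∧ φ.ker = Cfsg.pCore p L ∧
        Nat.card (Y.map φ) = (Yg ⊓ Cfsg.pCoreOf p L).relIndex Yg := by
    intro Q _ e
    set φ := e.toMonoidHom.comp (QuotientGroup.mk' (Cfsg.pCore p L)) with hφ
    have hker : φ.ker = Cfsg.pCore p L := by
      ext x
      simp [hφ]
    exact ⟨φ, e.surjective.comp (QuotientGroup.mk'_surjective _), hker, by rw [hrel, ← hker, relIndex_ker]⟩
  rcases hmodel with ⟨F, _, _, hq, ⟨e⟩⟩ | ⟨rfl, F, _, _, m, hFm, hq, ⟨e⟩⟩ | ⟨rfl, r, hr, hr2, ⟨e⟩⟩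
  · obtain ⟨φ, hsurj, hker, hcard⟩ := aux e
    rw [← hq] at hcard
    obtain ⟨n, hn⟩ := IsPGroup.iff_card.mp ((isPGroup_of_isElementaryAbelian hC.el).map φ)
    haveI : CharP F p := charP_of_card_eq_prime_pow (f := n) (hcard.symm.trans hn)
    exact key φ hsurj hker fun V' _ h2 h3 h4 =>
      unique_sl2 hC hcard h2 (fun v => ⟨1, Subtype.ext (by simpa using h3 v v.2)⟩) h4
  · obtain ⟨φ, hsurj, hker, hcard⟩ := aux e
    rw [← hq] at hcard
    refine key φ hsurj hker fun V' h1 h2 h3 h4 => ?_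
    rcases Nat.eq_zero_or_pos m with rfl | hm
    · exact unique_two hC hsurj hker (by rw [hcard, hFm]; norm_num) h1 h4
    · exact unique_sz (F := F) (m := m) ⟨hm, hFm⟩ rfl hC hcard h2 h3 h4
  · obtain ⟨φ, hsurj, hker, -⟩ := aux e
    haveI : NeZero r := ⟨hr.ne_zero⟩
    refine key φ hsurj hker fun V' h1 _ _ h4 => unique_two hC hsurj hker
      (Cfsg.Agent.S2863.dihedral_card hr hr2 _ ((isPGroup_of_isElementaryAbelian hC.el).map φ) ?_) h1 h4
    intro hb
    rw [Subgroup.map_eq_bot_iff, hker] at hb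
    exact FrakL.not_le_pCore hC hb

end Cfsg.Agent.S2861
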