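import Cfsg.Statements.S2862
import Cfsg.Agent.PReduced.AsymMinimal

set_option autoImplicit false
open Cfsg

namespace Cfsg.Agent.S2862

open Subgroup CfsgLib.PReduced CfsgLib.PReduced.Asym CfsgLib.Subnormal
open scoped commutatorElement

/-- A p-group normalizing `V` fixes some element of `V` outside the normal subgroup `W`, modulo `W`. -/
theorem exists_fixed {G : Type*} [Group G] [Finite G] {p : ℕ} [Fact p.Prime] {O V W : Subgroup G}
    (hV : IsPGroup p V) (hO : IsPGroup p O) (hOV : O ≤ normalizer (V : Set G)) (hOW : O ≤ normalizer (W : Set G))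
    (hVW : V ≤ normalizer (W : Set G)) (hlt : W < V) : ∃ v ∈ V, v ∉ W ∧ ∀ o ∈ O, ⁅v, o⁆ ∈ W := by
  set E := O ⊔ V with hE
  have hEW : E ≤ normalizer (W : Set G) := sup_le hOW hVW
  have hEV : E ≤ normalizer (V : Set G) := sup_le hOV le_normalizer
  haveI : (W.subgroupOf E).Normal := normal_subgroupOf_of_le_normalizer hEW
  haveI : (V.subgroupOf E).Normal := normal_subgroupOf_of_le_normalizer hEV
  have hEp : IsPGroup p E := hO.to_sup_of_normal_right' hV hOV
  set N := (V.subgroupOf E).map (QuotientGroup.mk' (W.subgroupOf E)) with hN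
  haveI : N.Normal := (inferInstance : (V.subgroupOf E).Normal).map _ (QuotientGroup.mk'_surjective _)
  obtain ⟨v₀, hv₀, hv₀W⟩ := SetLike.exists_of_lt hlt
  have hNne : N ≠ ⊥ := by
    intro e
    have hm : QuotientGroup.mk' (W.subgroupOf E) ⟨v₀, mem_sup_right hv₀⟩ ∈ N :=
      mem_map_of_mem _ (show (⟨v₀, mem_sup_right hv₀⟩ : E) ∈ V.subgroupOf E from hv₀)
    rw [e] at hm
    exact hv₀W ((QuotientGroup.eq_one_iff (N := W.subgroupOf E) _).mp (mem_bot.mp hm))
  obtain ⟨z, hz, hz1⟩ := ((ne_bot_iff_exists_ne_one).mp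
    (CfsgLib.PReduced.inf_center_ne_bot (hEp.to_quotient _) hNne) : ∃ z : ↥(N ⊓ center _), z ≠ 1) |>
      fun ⟨z, hz⟩ => (⟨z.1, z.2, fun e => hz (Subtype.ext e)⟩ : ∃ z, z ∈ N ⊓ center _ ∧ z ≠ 1)
  obtain ⟨⟨v, hv, rfl⟩, hzc⟩ := mem_inf.mp hz
  refine ⟨v, hv, fun hvW => hz1 ((QuotientGroup.eq_one_iff _).mpr hvW), fun o ho => ?_⟩
  have h := (mem_center_iff.mp hzc (QuotientGroup.mk' (W.subgroupOf E) ⟨o, mem_sup_left ho⟩))
  refine (QuotientGroup.eq_one_iff (N := W.subgroupOf E) ⁅v, (⟨o, mem_sup_left ho⟩ : E)⁆).mp ?_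
  show QuotientGroup.mk' (W.subgroupOf E) ⁅v, (⟨o, mem_sup_left ho⟩ : E)⁆ = 1
  rw [map_commutatorElement, commutatorElement_eq_one_iff_mul_comm]
  exact h.symm

/-- Standing hypotheses: G a finite group, S a Sylow p-subgroup, Q a nontrivial large p-subgroup of G contained in S, M a subgroup containing S with the basic property (M ∈ 𝔐_G(S)); Y_M the largest p-reduced normal subgroup of M and M† = M·C_G(Y_M). Suppose Y_M is char-p-tall and asymmetric in G, H ∈ ℌ_G(O_p(M)), and L is minimal among the subgroups of H containing Y_M with Y_M ≰ O_p(L). Then H = ⟨L, O_p(M)⟩ = ⟨hY_Mh⁻¹, O_p(M)⟩ for every h ∈ L outside N_L(Y_M); L is Y_M-minimal and of characteristic p, with N_L(Y_M) the unique maximal subgroup of L containing Y_M; [V, O^p(L)] ≠ 1 for every noncentral chief factor V/W of H inside O_p(H) (that is, O^p(L) does not act trivially on V/W); and the normal closure of O_p(L) ∩ Y_M in L lies in O_p(H). -/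
theorem result {G : Type*} [Group G] [Finite G] {p : ℕ} [Fact p.Prime] (S : Sylow p G) (Q : Subgroup G) (hQp : IsPGroup p ↥Q) (hQ1 : Q ≠ ⊥) (hQS : Q ≤ (S : Subgroup G)) (hQ : Cfsg.IsLarge Q) (M : Subgroup G) (hSM : (S : Subgroup G) ≤ M) (hM : Cfsg.IsInFrakM p M) (htall : Cfsg.IsCharPTall p (Cfsg.largestPReducedOf p M)) (hasym : ¬ Cfsg.IsSymmetricIn (Cfsg.largestPReducedOf p M)) (H : Subgroup G) (hH : Cfsg.IsInFrakH p M H) (L : Subgroup G) (hLH : L ≤ H) (hYL : (Cfsg.largestPReducedOf p M) ≤ L) (hYO : ¬ (Cfsg.largestPReducedOf p M) ≤ (Cfsg.pCoreOf p L)) (hmin : ∀ L' : Subgroup G, L' ≤ L → (Cfsg.largestPReducedOf p M) ≤ L' → ¬ (Cfsg.largestPReducedOf p M) ≤ (Cfsg.pCoreOf p L') → L' = L) : (L ⊔ (Cfsg.pCoreOf p M) = H ∧ ∀ h ∈ L, h ∉ Subgroup.normalizer (((Cfsg.largestPReducedOf p M) : Subgroup G) : Set G) → (((Cfsg.largestPReducedOf p M) : Subgroup G).map (MulAut.conj (h : G)).toMonoidHom) ⊔ (Cfsg.pCoreOf p M) = H) ∧ (Cfsg.IsMinimalOver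 (((Cfsg.largestPReducedOf p M)).subgroupOf L) ∧ Subgroup.centralizer (Cfsg.pCore p ↥L : Set ↥L) ≤ Cfsg.pCore p ↥L ∧ L ⊓ Subgroup.normalizer (((Cfsg.largestPReducedOf p M) : Subgroup G) : Set G) < L ∧ ∀ X : Subgroup G, (Cfsg.largestPReducedOf p M) ≤ X → X < L → X ≤ L ⊓ Subgroup.normalizer (((Cfsg.largestPReducedOf p M) : Subgroup G) : Set G)) ∧ (∀ V W' : Subgroup G, V ≤ (Cfsg.pCoreOf p H) → H ≤ Subgroup.normalizer ((V : Subgroup G) : Set G) → H ≤ Subgroup.normalizer ((W' : Subgroup G) : Set G) → W' < V → (∀ Z' : Subgroup G, H ≤ Subgroup.normalizer ((Z' : Subgroup G) : Set G) → W' ≤ Z' → Z' ≤ V → Z' = W' ∨ Z' = V) → ¬ ⁅V, H⁆ ≤ W' → ¬ ⁅V, ((Cfsg.pResidual p ↥L).map (L).subtype)⁆ ≤ W') ∧ (Subgroup.normalClosure (((((Cfsg.pCoreOf p L) ⊓ (Cfsg.largestPReducedOf p M)).subgroupOf L : Subgroup ↥L)) : Set ↥L)).map L.subtype ≤ (Cfsg.pCoreOf p H) := by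
  have hs : Setting p S Q M := ⟨hQp, hQS, hQ, hSM, hM, hasym⟩
  obtain ⟨x, hx, hgen⟩ := exists_generator hYL hYO hmin
  have c : Conf p S Q M H L x := ⟨hs, crit_of_frakH hH, (charPOf_iff H).mpr hH.1, hLH, hYL, hYO, hmin, hx, hgen⟩
  set Y := Cfsg.largestPReducedOf p M with hY
  set O := Cfsg.pCoreOf p M with hO
  set N := normalizer (Y : Set G) with hN
  have hYO' : Y ≤ O := largestPReducedOf_le_pCoreOf M
  have hlt : L ⊓ N < L := inf_lt_left.mpr c.not_le_normalizer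
  have hmax : ∀ X : Subgroup G, Y ≤ X → X < L → X ≤ L ⊓ N := fun X hX hXL =>
    le_inf hXL.le (c.le_normalizer_of_lt hX hXL)
  refine ⟨⟨c.sup_eq, fun h hh hn => ?_⟩, ⟨⟨?_, ?_⟩, (charPOf_iff L).mp c.charP, hlt, hmax⟩, ?_, ?_⟩
  · refine le_antisymm (sup_le ((map_mono (hYL.trans hLH)).trans (conj_eq_self_iff.mpr (le_normalizer (hLH hh))).le)
      c.hc.hO) (c.sup_eq.ge.trans (sup_le ?_ le_sup_right))
    exact (c.generate hh hn).ge.trans (sup_le (hYO'.trans le_sup_right) le_sup_left)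
  · refine eq_top_iff.mpr ((Subgroup.map_le_map_iff_of_injective L.subtype_injective).mp ?_)
    rw [← MonoidHom.range_eq_map, range_subtype]
    conv_lhs => rw [← hgen]
    refine sup_le (fun y hy => ⟨⟨y, hYL hy⟩, subset_normalClosure hy, rfl⟩) ?_
    rintro _ ⟨y, hy, rfl⟩
    exact ⟨⟨x, hx⟩ * ⟨y, hYL hy⟩ * ⟨x, hx⟩⁻¹,
      normalClosure_normal.conj_mem (⟨y, hYL hy⟩ : L) (subset_normalClosure (s := (Y.subgroupOf L : Set L)) hy) _, rfl⟩
  · have hcoe : ∀ X : Subgroup L, Y.subgroupOf L ≤ X → X ≠ ⊤ → X ≤ (L ⊓ N).subgroupOf L := by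
      intro X hX hXt
      have h1 : X.map L.subtype < L := lt_of_le_of_ne (map_subtype_le X) fun e => hXt (by
        refine map_injective L.subtype_injective (e.trans ?_)
        rw [← MonoidHom.range_eq_map, range_subtype])
      have h2 := hmax _ (fun y hy => show y ∈ X.map L.subtype from ⟨⟨y, hYL hy⟩, hX hy, rfl⟩) h1
      exact fun z hz => h2 ⟨z, hz, rfl⟩
    have hYM0 : Y.subgroupOf L ≤ (L ⊓ N).subgroupOf L := fun y hy =>
      show (y : G) ∈ L ⊓ N from ⟨y.2, le_normalizer hy⟩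
    have hM0t : (L ⊓ N).subgroupOf L ≠ ⊤ := fun e => hlt.not_ge (subgroupOf_eq_top.mp e)
    refine ⟨(L ⊓ N).subgroupOf L, ⟨⟨hM0t, fun X hX => ?_⟩, hYM0⟩, fun X ⟨hX, hXY⟩ => ?_⟩
    · by_contra hXt
      exact hX.not_ge (hcoe X (hYM0.trans hX.le) hXt)
    · exact ((hX.le_iff_eq hM0t).mp (hcoe X hXY hX.1)).symm
  · intro V W hVU hVn hWn hWV hchief hnc hle
    have hVp : IsPGroup p V := (isPGroup_pCoreOf H).to_le hVU
    have hVH : V ≤ H := hVU.trans (pCoreOf_le H)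
    obtain ⟨v, hv, hvW, hvO⟩ := exists_fixed hVp (isPGroup_pCoreOf M) (c.hc.hO.trans hVn) (c.hc.hO.trans hWn)
      (hVH.trans hWn) hWV
    set R := (Cfsg.pResidual p ↥L).map L.subtype with hR
    have hLY : normalClosure ((Y.subgroupOf L : Subgroup L) : Set L) = ⊤ := by
      refine eq_top_iff.mpr ((Subgroup.map_le_map_iff_of_injective L.subtype_injective).mp ?_)
      rw [← MonoidHom.range_eq_map, range_subtype]
      conv_lhs => rw [← hgen]
      refine sup_le (fun y hy => ⟨⟨y, hYL hy⟩, subset_normalClosure hy, rfl⟩) ?_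
      rintro _ ⟨y, hy, rfl⟩
      exact ⟨⟨x, hx⟩ * ⟨y, hYL hy⟩ * ⟨x, hx⟩⁻¹,
        normalClosure_normal.conj_mem (⟨y, hYL hy⟩ : L) (subset_normalClosure (s := (Y.subgroupOf L : Set L)) hy) _, rfl⟩
    have hRY : R ⊔ Y = L := by
      have h := congrArg (Subgroup.map L.subtype) (Cfsg.Agent.S2859.residual_commutator (p := p) _
        (c.hyp.of_equiv (subgroupOfEquivOfLe hYL).symm) hLY).1
      rwa [Subgroup.map_sup, map_subgroupOf_eq_of_le hYL, ← MonoidHom.range_eq_map, range_subtype] at h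
    set F := triv V W with hF
    let Z : Subgroup G :=
      { carrier := {w | w ∈ V ∧ ∀ h ∈ H, ⁅w, h⁆ ∈ W}
        one_mem' := ⟨one_mem V, fun h _ => by simp [one_mem]⟩
        mul_mem' := by
          rintro a b ⟨ha, ha'⟩ ⟨hb, hb'⟩
          refine ⟨mul_mem ha hb, fun h hh => ?_⟩
          rw [show ⁅a * b, h⁆ = a * ⁅b, h⁆ * a⁻¹ * ⁅a, h⁆ by simp only [commutatorElement_def]; group]
          exact mul_mem ((mem_normalizer_iff.mp (hWn (hVH ha)) _).mp (hb' h hh)) (ha' h hh)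
        inv_mem' := by
          rintro a ⟨ha, ha'⟩
          refine ⟨inv_mem ha, fun h hh => ?_⟩
          rw [show ⁅a⁻¹, h⁆ = a⁻¹ * ⁅a, h⁆⁻¹ * (a⁻¹)⁻¹ by simp only [commutatorElement_def]; group]
          exact (mem_normalizer_iff.mp (hWn (H.inv_mem (hVH ha))) _).mp (inv_mem (ha' h hh)) }
    have hZn : H ≤ normalizer (Z : Set G) := by
      intro g hg
      refine conj_eq_self_iff.mp (Subgroup.eq_of_le_of_card_ge ?_
        (card_map_of_injective (MulAut.conj g).injective).ge)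
      rintro _ ⟨w, ⟨hw, hw'⟩, rfl⟩
      refine ⟨(mem_normalizer_iff.mp (hVn hg) w).mp hw, fun h hh => ?_⟩
      show ⁅g * w * g⁻¹, h⁆ ∈ W
      rw [show ⁅g * w * g⁻¹, h⁆ = g * ⁅w, g⁻¹ * h * g⁆ * g⁻¹ by simp only [commutatorElement_def]; group]
      exact (mem_normalizer_iff.mp (hWn hg) _).mp (hw' _ (H.mul_mem (H.mul_mem (H.inv_mem hg) hh) hg))
    have hWZ : W ≤ Z := fun w hw => ⟨hWV.le hw, fun h hh => by
      rw [show ⁅w, h⁆ = w * (h * w⁻¹ * h⁻¹) by rw [commutatorElement_def]; group]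
      exact mul_mem hw ((mem_normalizer_iff.mp (hWn hh) _).mp (inv_mem hw))⟩
    have hvZ : v ∈ Z := by
      refine ⟨hv, fun h hh => ?_⟩
      -- the elements of `H` fixing `v` modulo `W`
      let J : Subgroup G :=
        { carrier := {g | g ∈ H ∧ ⁅g, v⁆ ∈ W}
          one_mem' := ⟨one_mem H, by simp [one_mem]⟩
          mul_mem' := by
            rintro a b ⟨ha, ha'⟩ ⟨hb, hb'⟩
            refine ⟨mul_mem ha hb, ?_⟩
            rw [show ⁅a * b, v⁆ = a * ⁅b, v⁆ * a⁻¹ * ⁅a, v⁆ by simp only [commutatorElement_def]; group]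
            exact mul_mem ((mem_normalizer_iff.mp (hWn ha) _).mp hb') ha'
          inv_mem' := by
            rintro a ⟨ha, ha'⟩
            refine ⟨inv_mem ha, ?_⟩
            rw [show ⁅a⁻¹, v⁆ = a⁻¹ * ⁅a, v⁆⁻¹ * (a⁻¹)⁻¹ by simp only [commutatorElement_def]; group]
            exact (mem_normalizer_iff.mp (hWn (inv_mem ha)) _).mp (inv_mem ha') }
      have hOJ : O ≤ J := fun o ho => ⟨c.hc.hO ho, by rw [← commutatorElement_inv]; exact inv_mem (hvO o ho)⟩
      have hRJ : R ≤ J := fun r hr => ⟨hLH (map_subtype_le _ hr), by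
        rw [← commutatorElement_inv]; exact inv_mem (hle (commutator_mem_commutator hv hr))⟩
      have hHJ : H ≤ J := by
        conv_lhs => rw [← c.sup_eq]
        exact sup_le (hRY.ge.trans (sup_le hRJ (hYO'.trans hOJ))) hOJ
      rw [← commutatorElement_inv]
      exact inv_mem (hHJ hh).2
    rcases hchief Z hZn hWZ (fun w hw => hw.1) with e | e
    · exact hvW (e ▸ hvZ)
    · exact hnc (commutator_le.mpr fun w hw h hh => ((show w ∈ Z from e.symm ▸ hw) : w ∈ Z).2 h hh)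
  · rw [map_le_iff_le_comap]
    haveI : ((Cfsg.pCoreOf p H).subgroupOf L).Normal :=
      normal_subgroupOf_of_le_normalizer (hLH.trans (le_normalizer_pCoreOf H))
    exact normalClosure_le_normal (N := (Cfsg.pCoreOf p H).subgroupOf L) fun y hy => c.inf_pCoreOf_le hy

end Cfsg.Agent.S2862
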