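import Cfsg.Statements.S2864
import Cfsg.Agent.S2845
import Cfsg.Agent.PReduced.PIrreducible
import Cfsg.Agent.CoprimeAction.Basic
import Cfsg.Agent.CoprimeAction.Frattini

set_option autoImplicit false
open Cfsg

namespace Cfsg.Agent.S2864

open Subgroup CfsgLib.PReduced in
/-- The normalizer of a nontrivial normal p-subgroup of `M` lies in `M†`. -/
theorem normalizer_le_dagger {G : Type*} [Group G] [Finite G] {p : ℕ} [Fact p.Prime] (S : Sylow p G) (Q : Subgroup G)
    (hQp : IsPGroup p ↥Q) (hQ1 : Q ≠ ⊥) (hQ : Cfsg.IsLarge Q) (M : Subgroup G) (hSM : (S : Subgroup G) ≤ M)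
    (hM : Cfsg.IsInFrakM p M) (I : Subgroup G) (hI1 : I ≠ ⊥) (hIp : IsPGroup p ↥I) (hMI : M ≤ normalizer (I : Set G)) :
    normalizer (I : Set G) ≤ M ⊔ centralizer (Cfsg.largestPReducedOf p M : Set G) := by
  set N := normalizer (I : Set G) with hN
  have hne : Cfsg.pCore p ↥N ≠ ⊥ := by
    intro e
    refine hI1 (le_bot_iff.mp ?_)
    refine (le_pCoreOf le_normalizer le_rfl hIp).trans ?_
    rw [Cfsg.pCoreOf, e, Subgroup.map_bot]
  have hpar : Cfsg.IsParabolic p N := ⟨S, hSM.trans hMI⟩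
  have hmem : N ∈ Cfsg.charPSubgroups p G := ⟨hne, (Cfsg.Agent.S2845.result Q hQp hQ1 hQ).2.1 N hpar hne⟩
  obtain ⟨X, ⟨hX, hNX⟩, hmax⟩ := (Set.toFinite {X | X ∈ Cfsg.charPSubgroups p G ∧ N ≤ X}).exists_maximal
    ⟨N, hmem, le_rfl⟩
  have hXm : X ∈ Cfsg.maxCharPSubgroups p G :=
    ⟨hX, fun L hL hXL => le_antisymm (hmax (y := L) ⟨hL, hNX.trans hXL⟩ hXL) hXL⟩
  exact hM.2.2.1 X hXm (hMI.trans hNX) ▸ hNX

open scoped commutatorElement in
open Subgroup CfsgLib.PReduced in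
/-- The main step. -/
theorem main {G : Type*} [Group G] [Finite G] {p : ℕ} [Fact p.Prime] (Md I Y L A : Subgroup G)
    (hY : Y ≤ Cfsg.pCoreOf p Md) (hCI : centralizer (I : Set G) ≤ Md) (hYL : Y ≤ L) (hAp : IsPGroup p ↥A)
    (hAle : A ≤ L) (hAn : L ≤ normalizer (A : Set G)) (hIA : I ≤ A) (hc : ⁅Y, A⁆ ≤ ⁅I, A⁆) :
    Y ≤ Cfsg.pCoreOf p L := by
  have hp := (Fact.out : p.Prime)
  set Φ := (frattini ↥A).map A.subtype with hΦ
  have hΦA : Φ ≤ A := map_subtype_le _
  have hLΦ : L ≤ normalizer (Φ : Set G) := by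
    have key : ∀ l ∈ L, ∀ x ∈ Φ, l * x * l⁻¹ ∈ Φ := by
      rintro l hl _ ⟨x, hx, rfl⟩
      let e : ↥A ≃* ↥A := (MulEquiv.subgroupMap (MulAut.conj l) A).trans
        (MulEquiv.subgroupCongr (mem_normalizer_iff_map_conj_eq.mp (hAn hl)))
      exact ⟨e x, Subgroup.characteristic_iff_map_le.mp (frattini_characteristic (G := ↥A)) e ⟨x, hx, rfl⟩, rfl⟩
    intro l hl
    rw [mem_normalizer_iff]
    exact fun x => ⟨key l hl x, fun h => by simpa [mul_assoc] using key l⁻¹ (inv_mem hl) _ h⟩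
  haveI : (Φ.subgroupOf L).Normal := normal_subgroupOf_of_le_normalizer hLΦ
  haveI : (A.subgroupOf L).Normal := normal_subgroupOf_of_le_normalizer hAn
  haveI hAmn : ((A.subgroupOf L).map (QuotientGroup.mk' (Φ.subgroupOf L))).Normal :=
    Subgroup.Normal.map inferInstance _ (QuotientGroup.mk'_surjective _)
  set K := (centralizer (((A.subgroupOf L).map (QuotientGroup.mk' (Φ.subgroupOf L)) :
    Subgroup (↥L ⧸ Φ.subgroupOf L)) : Set (↥L ⧸ Φ.subgroupOf L))).comap (QuotientGroup.mk' (Φ.subgroupOf L)) with hK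
  have hKmem : ∀ l : L, l ∈ K ↔ ∀ a ∈ A, (l : G) * a * (l : G)⁻¹ * a⁻¹ ∈ Φ := by
    intro l
    have key : ∀ a : L, (QuotientGroup.mk' (Φ.subgroupOf L)) a * (QuotientGroup.mk' (Φ.subgroupOf L)) l =
        (QuotientGroup.mk' (Φ.subgroupOf L)) l * (QuotientGroup.mk' (Φ.subgroupOf L)) a ↔
        (l : G) * a * (l : G)⁻¹ * (a : G)⁻¹ ∈ Φ := by
      intro a
      rw [eq_comm, ← commutatorElement_eq_one_iff_mul_comm, ← map_commutatorElement, QuotientGroup.mk'_apply,
        QuotientGroup.eq_one_iff]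
      rfl
    rw [hK, mem_comap, mem_centralizer_iff]
    constructor
    · intro h a ha
      exact (key ⟨a, hAle ha⟩).mp (h _ ⟨⟨a, hAle ha⟩, ha, rfl⟩)
    · rintro h _ ⟨a, ha, rfl⟩
      exact (key a).mpr (h a ha)
  have hKco : ∀ l ∈ K, (orderOf l).Coprime p → (l : G) ∈ centralizer (A : Set G) := by
    intro l hl hco
    refine zpowers_le.mp (CfsgLib.CoprimeAction.le_centralizer_of_frattini (K := A) ?_ ?_)
    · obtain ⟨k, hk⟩ := IsPGroup.iff_card.mp (hAp.to_subgroup (frattini ↥A))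
      rw [Nat.card_zpowers, orderOf_coe, hk]
      exact hco.pow_right k
    · intro b hb a ha
      obtain ⟨i, rfl⟩ := mem_zpowers_iff.mp hb
      exact (hKmem (l ^ i)).mp (zpow_mem hl i) a ha
  set C := (centralizer (A : Set G)).subgroupOf L with hC
  haveI hCn : C.Normal :=
    normal_subgroupOf_of_le_normalizer (hAn.trans (normalizer_le_normalizer_centralizer A))
  set π := QuotientGroup.mk' (Cfsg.pCore p ↥L) with hπ
  have hsurj := QuotientGroup.mk'_surjective (Cfsg.pCore p ↥L)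
  haveI hCmn : (C.map π).Normal := hCn.map π hsurj
  set E := K ⊓ (centralizer ((C.map π : Subgroup (↥L ⧸ Cfsg.pCore p ↥L)) : Set _)).comap π with hE
  have hCMd : ∀ c : L, c ∈ C → (c : G) ∈ Md := fun c hc => hCI (centralizer_le hIA hc)
  have hYE : ∀ y : L, (y : G) ∈ Y → y ∈ E := by
    intro y hy
    refine mem_inf.mpr ⟨(hKmem y).mpr fun a ha => ?_, ?_⟩
    · have h1 := ((hc.trans (commutator_mono hIA le_rfl)) (commutator_mem_commutator hy ha))
      have h2 : ⁅A, A⁆ ≤ Φ := by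
        rw [← map_subtype_commutator, hΦ]
        exact map_mono (CfsgLib.CoprimeAction.commutator_le_frattini' hAp)
      simpa [commutatorElement_def] using h2 h1
    · rw [mem_comap, mem_centralizer_iff]
      rintro _ ⟨c, hc', rfl⟩
      rw [eq_comm, ← commutatorElement_eq_one_iff_mul_comm, ← map_commutatorElement, QuotientGroup.mk'_apply,
        QuotientGroup.eq_one_iff]
      -- the commutator lies in `O_p(M†) ⊓ C(A)`, inside `O_p(C_L(A))`
      have hO : IsPGroup p ↥(Cfsg.pCoreOf p Md ⊓ (C.map L.subtype)) := (isPGroup_pCoreOf Md).to_le inf_le_left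
      have hn : ((Cfsg.pCoreOf p Md).subgroupOf L ⊓ C).subgroupOf C ≤ Cfsg.pCore p ↥C := by
        refine le_pCore ⟨fun x hx g => ?_⟩ ?_
        · refine mem_inf.mpr ⟨?_, C.mul_mem (C.mul_mem g.2 x.2) (C.inv_mem g.2)⟩
          exact (mem_normalizer_iff.mp (le_normalizer_pCoreOf Md (hCMd g g.2)) _).mp (mem_inf.mp hx).1
        · refine IsPGroup.comap_of_injective ?_ C.subtype C.subtype_injective
          exact ((isPGroup_pCoreOf Md).comap_of_injective L.subtype L.subtype_injective).to_le inf_le_left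
      have h1 : ⁅y, c⁆ ∈ (Cfsg.pCoreOf p Md).subgroupOf L ⊓ C := by
        refine mem_inf.mpr ⟨?_, ?_⟩
        · show (y : G) * c * (y : G)⁻¹ * (c : G)⁻¹ ∈ Cfsg.pCoreOf p Md
          rw [mul_assoc (y : G), mul_assoc]
          exact mul_mem (hY hy) ((mem_normalizer_iff.mp (le_normalizer_pCoreOf Md (hCMd c hc')) _).mp (inv_mem (hY hy)))
        · rw [commutatorElement_def]
          exact C.mul_mem (hCn.conj_mem c hc' y) (C.inv_mem hc')
      have h2 : (Cfsg.pCore p ↥C).map C.subtype ≤ Cfsg.pCore p ↥L := by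
        haveI := CfsgLib.PCore.pCore_characteristic p ↥C
        exact le_pCore inferInstance ((isPGroup_pCore p ↥C).map _)
      exact h2 ⟨⟨_, h1.2⟩, hn h1, rfl⟩
  set E' := E.map π with hE'
  haveI hE'n : E'.Normal := (inferInstance : E.Normal).map π hsurj
  have hnil : Group.IsNilpotent E' := by
    have hq : IsPGroup p (↥E' ⧸ center ↥E') := by
      intro z
      obtain ⟨⟨q, l, hl, rfl⟩, rfl⟩ := QuotientGroup.mk'_surjective (center ↥E') z
      obtain ⟨a, b, hab, hcab, ⟨k, hk⟩, hb, ha, hbz⟩ := CfsgLib.Transfer.exists_pPart_mul (p := p) l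
      refine ⟨k, ?_⟩
      rw [← map_pow]
      refine (QuotientGroup.eq_one_iff _).mpr (mem_center_iff.mpr fun w => Subtype.ext ?_)
      obtain ⟨w, u, hu, rfl⟩ := w
      show π u * ((π l) ^ p ^ k) = (π l) ^ p ^ k * π u
      have hbC : b ∈ C := hKco b ((zpowers_le.mpr (mem_inf.mp hl).1) hbz) hb
      have hak : a ^ p ^ k = 1 := hk ▸ pow_orderOf_eq_one a
      rw [← map_pow, hab, hcab.mul_pow, hak, one_mul, map_pow]
      have h3 : π u * π b = π b * π u :=
        (mem_centralizer_iff.mp (mem_inf.mp hu).2 _ ⟨b, hbC, rfl⟩).symm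
      exact (show Commute (π u) (π b) from h3).pow_right _
    haveI := hq.isNilpotent
    exact _root_.isNilpotent_of_ker_le_center (QuotientGroup.mk' (center ↥E')) (QuotientGroup.ker_mk' _).le
  have hcl : Cfsg.IsPClosed p ↥E' := fun P => inferInstance
  intro y hy
  have hyE := hYE ⟨y, hYL hy⟩ hy
  obtain ⟨k, hk⟩ := exists_pow_eq_one_of_mem (isPGroup_pCoreOf Md) (hY hy)
  have h1 := (isPClosed_normal_iff E').mp hcl (π ⟨y, hYL hy⟩) ⟨_, hyE, rfl⟩
    ⟨k, by rw [← map_pow, show (⟨y, hYL hy⟩ : L) ^ p ^ k = 1 from Subtype.ext hk, map_one]⟩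
  exact ⟨⟨y, hYL hy⟩, (mem_pCore_quotient_iff _ (isPGroup_pCore p ↥L) _).mp h1, rfl⟩

/-- Standing hypotheses: G a finite group, S a Sylow p-subgroup, Q a nontrivial large p-subgroup of G contained in S, M a subgroup containing S with the basic property (M ∈ 𝔐_G(S)); Y_M the largest p-reduced normal subgroup of M and M† = M·C_G(Y_M). Let I be a nontrivial normal p-subgroup of M and Y ≤ O_p(M†); let L be a subgroup of G containing Y and A a normal p-subgroup of L with I ≤ A ≤ M. If [Y, A] ≤ [I, A], then Y ≤ O_p(L). -/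
theorem result {G : Type*} [Group G] [Finite G] {p : ℕ} [Fact p.Prime] (S : Sylow p G) (Q : Subgroup G) (hQp : IsPGroup p ↥Q) (hQ1 : Q ≠ ⊥) (hQS : Q ≤ (S : Subgroup G)) (hQ : Cfsg.IsLarge Q) (M : Subgroup G) (hSM : (S : Subgroup G) ≤ M) (hM : Cfsg.IsInFrakM p M) (I : Subgroup G) (hI1 : I ≠ ⊥) (hIp : IsPGroup p ↥I) (hIM : I ≤ M ∧ M ≤ Subgroup.normalizer ((I : Subgroup G) : Set G)) (Y : Subgroup G) (hY : Y ≤ (Cfsg.pCoreOf p (M ⊔ Subgroup.centralizer (((Cfsg.largestPReducedOf p M) : Subgroup G) : Set G)))) (L : Subgroup G) (hYL : Y ≤ L) (A : Subgroup G) (hAp : IsPGroup p ↥A) (hAL : A ≤ L ∧ L ≤ Subgroup.normalizer ((A : Subgroup G) : Set G)) (hIA : I ≤ A) (hAM : A ≤ M) (hc : ⁅Y, A⁆ ≤ ⁅I, A⁆) : Y ≤ (Cfsg.pCoreOf p L) := by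
  exact main _ I Y L A hY ((Subgroup.centralizer_le_normalizer _).trans
    (normalizer_le_dagger S Q hQp hQ1 hQ M hSM hM I hI1 hIp hIM.2)) hYL hAp hAL.1 hAL.2 hIA hc

end Cfsg.Agent.S2864
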