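import Cfsg.Statements.S2872

set_option autoImplicit false
open Cfsg

namespace Cfsg.Agent.S2872

open MulAction Subgroup Subgroup.leftTransversals in
/-- A central element `z` of order dividing two of a Sylow 2-subgroup, mapped nontrivially by a homomorphism to a
group of order two and centralized by the Sylow normalizer, survives in the transfer. -/
theorem transfer_ne_one {G : Type*} [Group G] [Finite G] (S : Sylow 2 G)
    (φ : ↥(S : Subgroup G) →* Multiplicative (ZMod 2)) (z : G) (hzS : z ∈ (S : Subgroup G))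
    (hφ : φ ⟨z, hzS⟩ ≠ 1) (hzz : z * z = 1) (hzc : ∀ s ∈ (S : Subgroup G), s * z = z * s)
    (hN : ∀ g ∈ Subgroup.normalizer ((S : Subgroup G) : Set G), g * z * g⁻¹ = z) :
    MonoidHom.transfer φ z ≠ 1 := by
  classical
  have hzinv : z⁻¹ = z := inv_eq_of_mul_eq_one_right hzz
  let ψ : G → Multiplicative (ZMod 2) := fun x => if h : x ∈ (S : Subgroup G) then φ ⟨x, h⟩ else 1
  have ψmul : ∀ x ∈ (S : Subgroup G), ∀ y ∈ (S : Subgroup G), ψ (x * y) = ψ x * ψ y := by
    intro x hx y hy
    simp only [ψ, dif_pos hx, dif_pos hy, dif_pos (mul_mem hx hy), ← map_mul]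
    rfl
  have ψone : ψ 1 = 1 := by
    simp only [ψ, dif_pos (one_mem (S : Subgroup G))]
    exact map_one φ
  let T : (S : Subgroup G).LeftTransversal := default
  let α : G ⧸ (S : Subgroup G) → G := fun q => T.2.leftQuotientEquiv q
  have hα : ∀ q, QuotientGroup.mk (α q) = q := fun q => T.2.leftQuotientEquiv.symm_apply_apply q
  let f : G ⧸ (S : Subgroup G) → Multiplicative (ZMod 2) := fun q => ψ ((α q)⁻¹ * (z * α (z⁻¹ • q)))
  have hmem : ∀ q, (α q)⁻¹ * (z * α (z⁻¹ • q)) ∈ (S : Subgroup G) := by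
    intro q
    rw [← QuotientGroup.eq, hα]
    have := congrArg (z • ·) (hα (z⁻¹ • q))
    simp only [smul_inv_smul] at this
    exact this.symm
  let : Fintype (G ⧸ (S : Subgroup G)) := Fintype.ofFinite _
  have htr : MonoidHom.transfer φ z = ∏ q, f q := by
    rw [MonoidHom.transfer_def φ T z]
    unfold diff
    refine Finset.prod_bij' (fun q _ => q) (fun q _ => q) (by simp) (by simp) (by simp) (by simp) ?_
    intro q _
    simp only [f, ψ, dif_pos (hmem q)]
    congr 1
    apply Subtype.ext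
    simp only [α]
    rw [smul_apply_eq_smul_apply_inv_smul]
    rfl
  have hmove : ∏ q ∈ Finset.univ.filter (fun q => ¬ z • q = q), f q = 1 := by
    refine Finset.prod_involution (fun q _ => z • q) ?_ ?_ ?_ ?_
    · intro q _
      have h1 : z⁻¹ • (z • q) = q := inv_smul_smul z q
      simp only [f, h1]
      rw [← ψmul _ (hmem q) _ (by simpa [h1] using hmem (z • q)), hzinv]
      rw [show (α q)⁻¹ * (z * α (z • q)) * ((α (z • q))⁻¹ * (z * α q)) = 1 by
        calc _ = (α q)⁻¹ * (z * z) * α q := by group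
          _ = 1 := by simp [hzz]]
      exact ψone
    · intro q hq _ h
      exact (Finset.mem_filter.mp hq).2 h
    · intro q hq
      simp only [Finset.mem_filter, Finset.mem_univ, true_and] at hq ⊢
      intro h
      exact hq (by simpa using congrArg (z⁻¹ • ·) h)
    · intro q _
      simp only [← mul_smul, hzz, one_smul]
  have hfix : ∀ q, z • q = q → ∀ g : G, QuotientGroup.mk g = q →
      g⁻¹ * z * g ∈ (S : Subgroup G) ∧ f q = ψ (g⁻¹ * z * g) := by
    intro q hq g hg
    have h' : z⁻¹ • q = q := by rw [inv_smul_eq_iff]; exact hq.symm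
    have hb : g⁻¹ * α q ∈ (S : Subgroup G) := by rw [← QuotientGroup.eq, hg, hα]
    have hm : (α q)⁻¹ * (z * α q) ∈ (S : Subgroup G) := by simpa [h'] using hmem q
    have hc : g⁻¹ * z * g = (g⁻¹ * α q) * ((α q)⁻¹ * (z * α q)) * (g⁻¹ * α q)⁻¹ := by group
    refine ⟨hc ▸ mul_mem (mul_mem hb hm) (inv_mem hb), ?_⟩
    rw [hc, ψmul _ (mul_mem hb hm) _ (inv_mem hb), ψmul _ hb _ hm, mul_comm (ψ (g⁻¹ * α q)), mul_assoc,
      ← ψmul _ hb _ (inv_mem hb), mul_inv_cancel, ψone, mul_one]
    simp [f, h']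
  let A : SubMulAction ↥(S : Subgroup G) (G ⧸ (S : Subgroup G)) :=
    { carrier := {q | z • q = q ∧ f q ≠ 1}
      smul_mem' := by
        rintro ⟨s, hs⟩ q ⟨hq, hne⟩
        have hsz : s * z = z * s := hzc s hs
        have hq' : z • (s • q) = s • q := by rw [← mul_smul, ← hsz, mul_smul, hq]
        refine ⟨hq', ?_⟩
        obtain ⟨g, rfl⟩ := QuotientGroup.mk_surjective q
        have e1 := (hfix _ hq g rfl).2
        have e2 := (hfix _ hq' (s * g) rfl).2
        have e3 : (s * g)⁻¹ * z * (s * g) = g⁻¹ * z * g := by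
          calc _ = g⁻¹ * s⁻¹ * (z * s) * g := by group
            _ = g⁻¹ * s⁻¹ * (s * z) * g := by rw [hsz]
            _ = _ := by group
        rw [e3, ← e1] at e2
        exact e2 ▸ hne }
  have hfp : ∀ q, q ∈ fixedPoints ↥(S : Subgroup G) (G ⧸ (S : Subgroup G)) → q ∈ A := by
    intro q hq
    have hq' : z • q = q := hq ⟨z, hzS⟩
    obtain ⟨g, rfl⟩ := QuotientGroup.mk_surjective q
    have hg : g ∈ Subgroup.normalizer ((S : Subgroup G) : Set G) :=
      Sylow.mem_fixedPoints_mul_left_cosets_iff_mem_normalizer.mp hq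
    refine ⟨hq', ?_⟩
    rw [(hfix _ hq' g rfl).2]
    have := hN g⁻¹ (inv_mem hg)
    rw [inv_inv] at this
    simpa only [this, ψ, dif_pos hzS] using hφ
  have hA : Nat.card A ≡ Nat.card (G ⧸ (S : Subgroup G)) [MOD 2] := by
    refine ((S.isPGroup').card_modEq_card_fixedPoints A).trans
      (Nat.ModEq.trans ?_ ((S.isPGroup').card_modEq_card_fixedPoints (G ⧸ (S : Subgroup G))).symm)
    rw [Nat.card_congr
      ({ toFun := fun q => ⟨q.1.1, fun s => congrArg Subtype.val (q.2 s)⟩
         invFun := fun q => ⟨⟨q.1, hfp _ q.2⟩, fun s => Subtype.ext (q.2 s)⟩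
         left_inv := fun q => rfl
         right_inv := fun q => rfl } :
        fixedPoints ↥(S : Subgroup G) A ≃ fixedPoints ↥(S : Subgroup G) (G ⧸ (S : Subgroup G)))]
  have hodd : ¬ 2 ∣ Nat.card (G ⧸ (S : Subgroup G)) := S.not_dvd_index
  have hval : ∏ q ∈ Finset.univ.filter (fun q => z • q = q), f q
      = Multiplicative.ofAdd (1 : ZMod 2) ^ Nat.card A := by
    rw [← Finset.prod_filter_ne_one]
    have h2 : ∀ a : Multiplicative (ZMod 2), a ≠ 1 → a = Multiplicative.ofAdd 1 := by decide
    rw [Finset.prod_congr rfl (fun q hq => h2 _ (Finset.mem_filter.mp hq).2), Finset.prod_const]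
    congr 1
    rw [show Nat.card A = Nat.card {q : G ⧸ (S : Subgroup G) // z • q = q ∧ f q ≠ 1} from rfl,
      Nat.card_eq_fintype_card, Fintype.card_subtype, Finset.filter_filter]
  rw [htr, ← Finset.prod_filter_mul_prod_filter_not Finset.univ (fun q => z • q = q), hmove, mul_one, hval]
  intro h
  have : 2 ∣ Nat.card A := by
    rw [← ofAdd_nsmul, ofAdd_eq_one, nsmul_eq_mul, mul_one] at h
    exact (ZMod.natCast_eq_zero_iff _ _).mp h
  exact hodd ((Nat.modEq_zero_iff_dvd).mp (hA.symm.trans (Nat.modEq_zero_iff_dvd.mpr this)))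

/-- A maximal subgroup of a finite 2-group has index 2. -/
theorem index_coatom {S : Type*} [Group S] [Finite S] (hS : IsPGroup 2 S) (M : Subgroup S) (hM : IsCoatom M) :
    M.index = 2 := by
  haveI : Group.IsNilpotent S := hS.isNilpotent
  have : M.Normal := Subgroup.NormalizerCondition.normal_of_coatom M Group.normalizerCondition_of_isNilpotent hM
  obtain ⟨k, hk⟩ := IsPGroup.iff_card.mp (hS.to_quotient M)
  rw [Subgroup.index, hk]
  have hk0 : k ≠ 0 := by
    rintro rfl
    exact hM.1 (Subgroup.index_eq_one.mp (by rw [Subgroup.index, hk, pow_zero]))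
  obtain ⟨x, hx⟩ := exists_prime_orderOf_dvd_card' 2 (G := S ⧸ M) (hk ▸ dvd_pow_self 2 hk0)
  have hle : M ≤ (Subgroup.zpowers x).comap (QuotientGroup.mk' M) := fun y hy => by
    rw [Subgroup.mem_comap, QuotientGroup.mk'_apply, (QuotientGroup.eq_one_iff y).mpr hy]
    exact one_mem _
  rcases hM.le_iff.mp hle with h | h
  · have : Subgroup.zpowers x = ⊤ :=
      Subgroup.comap_injective (QuotientGroup.mk'_surjective M) (h.trans (Subgroup.comap_top _).symm)
    rw [← hk, ← Subgroup.card_top, ← this, Nat.card_zpowers, hx]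
  · have : Subgroup.zpowers x = ⊥ :=
      Subgroup.comap_injective (QuotientGroup.mk'_surjective M)
        (h.trans (by rw [MonoidHom.comap_bot, QuotientGroup.ker_mk']))
    rw [Subgroup.zpowers_eq_bot] at this
    rw [this, orderOf_one] at hx
    omega

/-- Let S be a Sylow 2-subgroup of the finite group G. Then G has a proper normal subgroup of 2-power index (O²(G) ≠ G), or Ω₁(Z(S)) is contained in the Frattini subgroup of S, or N_G(S) acts nontrivially on Ω₁(Z(S)) by conjugation. -/
theorem result {G : Type*} [Group G] [Finite G] (S : Sylow 2 G) : Cfsg.pResidual 2 G ≠ ⊤ ∨ Cfsg.omegaOne 2 ((S : Subgroup G) ⊓ Subgroup.centralizer ((S : Subgroup G) : Set G)) ≤ (frattini ↥(S : Subgroup G)).map (S : Subgroup G).subtype ∨ ∃ g ∈ Subgroup.normalizer ((S : Subgroup G) : Set G), ∃ z ∈ Cfsg.omegaOne 2 ((S : Subgroup G) ⊓ Subgroup.centralizer ((S : Subgroup G) : Set G)), g * z * g⁻¹ ≠ z := by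
  by_contra hcon
  push Not at hcon
  obtain ⟨htop, hnle, hcent⟩ := hcon
  have hex : ∃ z : G, z ∈ (S : Subgroup G) ⊓ Subgroup.centralizer ((S : Subgroup G) : Set G) ∧ z ^ 2 = 1 ∧
      z ∉ (frattini ↥(S : Subgroup G)).map (S : Subgroup G).subtype := by
    by_contra hcon
    push Not at hcon
    exact hnle ((Subgroup.closure_le _).mpr fun x hx => hcon x hx.1 hx.2)
  obtain ⟨z, hz, hz2, hzF⟩ := hex
  let zS : ↥(S : Subgroup G) := ⟨z, hz.1⟩
  have hex2 : ∃ M : Subgroup ↥(S : Subgroup G), IsCoatom M ∧ zS ∉ M := by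
    by_contra hcon
    push Not at hcon
    apply hzF
    refine ⟨zS, ?_, rfl⟩
    show zS ∈ frattini ↥(S : Subgroup G)
    rw [frattini, Order.radical, Subgroup.mem_iInf]
    intro M
    rw [Subgroup.mem_iInf]
    exact fun hM => hcon M hM
  obtain ⟨M, hM, hzM⟩ := hex2
  have hidx : M.index = 2 := index_coatom S.isPGroup' M hM
  classical
  let φ : ↥(S : Subgroup G) →* Multiplicative (ZMod 2) :=
    { toFun := fun s => if s ∈ M then 1 else Multiplicative.ofAdd 1
      map_one' := if_pos (one_mem M)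
      map_mul' := fun a b => by
        by_cases ha : a ∈ M <;> by_cases hb : b ∈ M <;>
          simp [ha, hb, Subgroup.mul_mem_iff_of_index_two hidx] <;> decide }
  have hφ : φ zS ≠ 1 := by simp [φ, hzM]
  have hz2' : z * z = 1 := by rwa [pow_two] at hz2
  apply transfer_ne_one S φ z hz.1 hφ hz2' (fun s hs => Subgroup.mem_centralizer_iff.mp hz.2 s hs)
    (fun g hg => hcent g hg z (Subgroup.subset_closure ⟨hz, hz2⟩))
  have hker : Cfsg.pResidual 2 G ≤ (MonoidHom.transfer φ).ker := by
    refine (Subgroup.closure_le _).mpr fun g hg => ?_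
    have h1 := orderOf_map_dvd (MonoidHom.transfer φ) g
    have h2 : orderOf (MonoidHom.transfer φ g) ∣ 2 := by
      have := orderOf_dvd_natCard (MonoidHom.transfer φ g)
      rwa [Nat.card_eq_fintype_card, Fintype.card_multiplicative, ZMod.card] at this
    rw [SetLike.mem_coe, MonoidHom.mem_ker, ← orderOf_eq_one_iff]
    exact Nat.eq_one_of_dvd_coprimes hg h1 h2
  exact hker (htop ▸ Subgroup.mem_top z)

end Cfsg.Agent.S2872
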