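import Cfsg.Statements.S2873
import Cfsg.Agent.PReduced.Basic
import Cfsg.Agent.Subnormal.Basic
import Mathlib.GroupTheory.SpecificGroups.Dihedral
import Mathlib.GroupTheory.Sylow

set_option autoImplicit false
open Cfsg

namespace Cfsg.Agent.S2873

open Subgroup
open DihedralGroup (sr)

/-- Elements of order dividing a power of the odd prime `r` are rotations. -/
theorem exists_rot {r : ℕ} [Fact r.Prime] (hr : r ≠ 2) {x : DihedralGroup r} {k : ℕ} (h : x ^ r ^ k = 1) :
    ∃ i, x = DihedralGroup.r i := by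
  rcases x with i | i
  · exact ⟨i, rfl⟩
  · exfalso
    have h1 := orderOf_dvd_of_pow_eq_one h
    rw [DihedralGroup.orderOf_sr] at h1
    exact hr ((Nat.prime_dvd_prime_iff_eq Nat.prime_two Fact.out).mp (Nat.prime_two.dvd_of_dvd_pow h1)).symm

/-- Elements of order 2 are reflections. -/
theorem exists_refl {r : ℕ} [Fact r.Prime] (hr : r ≠ 2) {x : DihedralGroup r} (h : orderOf x = 2) :
    ∃ i, x = sr i := by
  rcases x with i | i
  · exfalso
    have h1 : orderOf (DihedralGroup.r i) ∣ r := by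
      rw [DihedralGroup.orderOf_r]
      exact Nat.div_dvd_of_dvd (Nat.gcd_dvd_left _ _)
    rw [h] at h1
    exact hr ((Nat.prime_dvd_prime_iff_eq Nat.prime_two Fact.out).mp h1).symm
  · exact ⟨i, rfl⟩

/-- Reflections are conjugate. -/
theorem refl_conj {r : ℕ} [Fact r.Prime] (hr : r ≠ 2) (i j : ZMod r) :
    ∃ k : ZMod r, DihedralGroup.r k * sr i * (DihedralGroup.r k)⁻¹ = sr j := by
  have h2 : (2 : ZMod r) ≠ 0 := fun h => hr ((Nat.prime_dvd_prime_iff_eq Fact.out Nat.prime_two).mp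
    ((ZMod.natCast_eq_zero_iff 2 r).mp (by exact_mod_cast h)))
  refine ⟨(i - j) / 2, ?_⟩
  rw [DihedralGroup.inv_r, DihedralGroup.r_mul_sr, DihedralGroup.sr_mul_r]
  congr 1
  field_simp
  ring
/-- Let G be a finite group and r an odd prime such that G ⧸ O₂(G) is dihedral of order 2r, and let R be a Sylow r-subgroup of G with C_{O₂(G)}(R) = 1. Then N_G(R) is dihedral of order 2r; for any involution a of N_G(R), every involution of G outside O₂(G) is conjugate to a; and |C_{O₂(G)}(a)|² = |O₂(G)|. -/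
theorem result {G : Type*} [Group G] [Finite G] {r : ℕ} [Fact r.Prime] (hr : r ≠ 2) [hN : (Cfsg.pCore 2 G).Normal] (hquot : Nonempty (G ⧸ Cfsg.pCore 2 G ≃* DihedralGroup r)) (R : Sylow r G) (hC : Cfsg.pCore 2 G ⊓ Subgroup.centralizer ((R : Subgroup G) : Set G) = ⊥) : Nonempty (↥(Subgroup.normalizer ((R : Subgroup G) : Set G)) ≃* DihedralGroup r) ∧ ∀ a : G, a ∈ Subgroup.normalizer ((R : Subgroup G) : Set G) → orderOf a = 2 → (∀ b : G, orderOf b = 2 → b ∉ Cfsg.pCore 2 G → ∃ g : G, g * a * g⁻¹ = b) ∧ Nat.card ↥(Cfsg.pCore 2 G ⊓ Subgroup.centralizer ({a} : Set G)) ^ 2 = Nat.card ↥(Cfsg.pCore 2 G) := by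
  classical
  have hN0 := hN
  obtain ⟨ψ⟩ := hquot
  set O := Cfsg.pCore 2 G with hO
  set N := normalizer ((R : Subgroup G) : Set G) with hN
  let f : G →* DihedralGroup r := ψ.toMonoidHom.comp (QuotientGroup.mk' O)
  have hfs : Function.Surjective f := ψ.surjective.comp (QuotientGroup.mk'_surjective O)
  have hfk : ∀ x : G, f x = 1 ↔ x ∈ O := fun x => by
    show ψ (QuotientGroup.mk' O x) = 1 ↔ x ∈ O
    rw [EmbeddingLike.map_eq_one_iff]
    exact QuotientGroup.eq_one_iff x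
  obtain ⟨e, he⟩ := IsPGroup.iff_card.mp (CfsgLib.PReduced.isPGroup_pCore (G := G) 2)
  have hr1 : ¬ r ∣ Nat.card O := by
    intro h
    rw [hO, he] at h
    exact hr ((Nat.prime_dvd_prime_iff_eq Fact.out Nat.prime_two).mp ((Fact.out : r.Prime).dvd_of_dvd_pow h))
  have hRO : (R : Subgroup G) ⊓ O = ⊥ := by
    obtain ⟨k, hk⟩ := IsPGroup.iff_card.mp R.isPGroup'
    refine inf_eq_bot_of_coprime ?_
    rw [hk]
    exact (((Fact.out : r.Prime).coprime_iff_not_dvd).mpr hr1).pow_left k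
  have hNO : ∀ x ∈ N, x ∈ O → x = 1 := by
    intro x hxN hxO
    refine (mem_bot.mp (hC ▸ mem_inf.mpr ⟨hxO, mem_centralizer_iff.mpr fun y hy => ?_⟩))
    have h1 : x * y * x⁻¹ * y⁻¹ = 1 := by
      refine mem_bot.mp (hRO ▸ mem_inf.mpr ⟨(R : Subgroup G).mul_mem ((mem_normalizer_iff.mp hxN y).mp hy) ((R : Subgroup G).inv_mem hy), ?_⟩)
      rw [mul_assoc x, mul_assoc x]
      exact O.mul_mem hxO (hN0.conj_mem _ (O.inv_mem hxO) y)
    calc y * x = (x * y * x⁻¹ * y⁻¹)⁻¹ * (x * y) := by group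
      _ = x * y := by rw [h1, inv_one, one_mul]
  have hRrot : ∀ x ∈ (R : Subgroup G), ∃ i, f x = DihedralGroup.r i := by
    intro x hx
    obtain ⟨k, hk⟩ := R.isPGroup' ⟨x, hx⟩
    exact exists_rot hr (k := k) (by rw [← map_pow, show x ^ r ^ k = 1 by simpa using congrArg Subtype.val hk, map_one])
  have hrdvd : r ∣ Nat.card G := by
    rw [Subgroup.card_eq_card_quotient_mul_card_subgroup O, Nat.card_congr ψ.toEquiv, DihedralGroup.nat_card]
    exact dvd_mul_of_dvd_left (dvd_mul_left r 2) _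
  obtain ⟨y, hyR, hy1⟩ : ∃ y ∈ (R : Subgroup G), y ≠ 1 := by
    by_contra! h
    have := R.dvd_card_of_dvd_card hrdvd
    rw [(eq_bot_iff_forall _).mpr h, card_bot] at this
    exact (Fact.out : r.Prime).ne_one (Nat.dvd_one.mp this)
  obtain ⟨i0, hi0⟩ := hRrot y hyR
  have hi0' : i0 ≠ 0 := by
    rintro rfl
    refine hy1 (mem_bot.mp (hRO ▸ mem_inf.mpr ⟨hyR, (hfk y).mp ?_⟩))
    rw [hi0]; rfl
  have hrot : ∀ i : ZMod r, ∃ m : ℕ, f (y ^ m) = DihedralGroup.r i := fun i => by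
    refine ⟨(i / i0).val, ?_⟩
    rw [map_pow, hi0, ← zpow_natCast, DihedralGroup.r_zpow]
    congr 1
    push_cast
    rw [ZMod.natCast_zmod_val, mul_div_cancel₀ _ hi0']
  -- `R ⊔ O` is normal
  set M := (R : Subgroup G) ⊔ O with hM
  haveI hMn : M.Normal := by
    refine ⟨fun m hm g => ?_⟩
    rw [hM, sup_comm, ← SetLike.mem_coe, normal_mul] at hm
    obtain ⟨o, ho, x, hx, rfl⟩ := hm
    obtain ⟨i, hi⟩ := hRrot x hx
    have h1 : ∃ j, f (g * (o * x) * g⁻¹) = DihedralGroup.r j := by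
      rw [map_mul, map_mul, map_mul, map_inv, (hfk o).mpr ho, one_mul, hi]
      rcases f g with k | k
      · exact ⟨_, by rw [DihedralGroup.r_mul_r, DihedralGroup.inv_r, DihedralGroup.r_mul_r]⟩
      · exact ⟨_, by rw [DihedralGroup.sr_mul_r, show (sr k)⁻¹ = sr k from rfl, DihedralGroup.sr_mul_sr]⟩
    obtain ⟨j, hj⟩ := h1
    obtain ⟨m, hm⟩ := hrot j
    rw [show g * (o * x) * g⁻¹ = y ^ m * ((y ^ m)⁻¹ * (g * (o * x) * g⁻¹)) by group]
    refine mul_mem (mem_sup_left (pow_mem hyR m)) (mem_sup_right ((hfk _).mp ?_))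
    rw [map_mul, map_inv, hj, hm, inv_mul_cancel]
  have hfrat : ∀ g : G, ∃ n ∈ N, f n = f g := by
    intro g
    have h := Sylow.normalizer_sup_eq_top' R (le_sup_left : (R : Subgroup G) ≤ M)
    have hg : g ∈ N ⊔ O := by
      have h2 : normalizer ((R : Subgroup G) : Set G) ⊔ M ≤ N ⊔ O :=
        sup_le le_sup_left (sup_le (le_normalizer.trans le_sup_left) le_sup_right)
      exact h2 (h.symm ▸ mem_top g)
    rw [← SetLike.mem_coe, mul_normal] at hg
    obtain ⟨n, hn, o, ho, rfl⟩ := hg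
    exact ⟨n, hn, by rw [map_mul, (hfk o).mpr ho, mul_one]⟩
  let φ : N →* DihedralGroup r := f.comp N.subtype
  have hφi : Function.Injective φ := (injective_iff_map_eq_one φ).mpr fun x hx => Subtype.ext (hNO x x.2 ((hfk _).mp hx))
  have hφs : Function.Surjective φ := fun d => by
    obtain ⟨g, rfl⟩ := hfs d
    obtain ⟨n, hn, hn'⟩ := hfrat g
    exact ⟨⟨n, hn⟩, hn'⟩
  refine ⟨⟨MulEquiv.ofBijective φ ⟨hφi, hφs⟩⟩, fun a haN ha => ?_⟩
  have hainj : ∀ x ∈ N, ∀ x' ∈ N, f x = f x' → x = x' := fun x hx x' hx' h =>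
    congrArg Subtype.val (hφi (show φ ⟨x, hx⟩ = φ ⟨x', hx'⟩ from h))
  have ha2 : a * a = 1 := by rw [← sq, ← ha]; exact pow_orderOf_eq_one a
  have hainv : a⁻¹ = a := inv_eq_of_mul_eq_one_right ha2
  obtain ⟨ia, hia⟩ := exists_refl hr (x := f a) (by
    have h := orderOf_injective φ hφi ⟨a, haN⟩
    rw [Subgroup.orderOf_mk, ha] at h
    exact h)
  have hyN : y ∈ N := le_normalizer hyR
  have haRinv : a * y * a⁻¹ = y⁻¹ := by
    refine hainj _ (N.mul_mem (N.mul_mem haN hyN) (N.inv_mem haN)) _ (N.inv_mem hyN) ?_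
    rw [map_mul, map_mul, map_inv, map_inv, hia, hi0, show (sr ia)⁻¹ = sr ia from rfl, DihedralGroup.sr_mul_r,
      DihedralGroup.sr_mul_sr, DihedralGroup.inv_r]
    congr 1
    ring
  set a' := a * y with ha'
  have ha'N : a' ∈ N := N.mul_mem haN hyN
  have ha'2 : a' * a' = 1 := by
    rw [ha', show a * y * (a * y) = a * y * a⁻¹ * (a * a) * y by group, haRinv, ha2, mul_one, inv_mul_cancel]
  -- every element of `O y` is a conjugate of `y`
  have hsurj : ∀ o ∈ O, ∃ w ∈ O, w * y * w⁻¹ = o * y := by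
    let g : O → O := fun w => ⟨(w : G) * y * (w : G)⁻¹ * y⁻¹, by
      rw [mul_assoc (w : G), mul_assoc (w : G)]
      exact O.mul_mem w.2 (hN0.conj_mem _ (O.inv_mem w.2) y)⟩
    have hg : Function.Injective g := by
      intro w v h
      have h1 : (w : G) * y * (w : G)⁻¹ = (v : G) * y * (v : G)⁻¹ := mul_right_cancel (congrArg Subtype.val h)
      have h2 : ((v : G)⁻¹ * w) * y = y * ((v : G)⁻¹ * w) := by
        calc ((v : G)⁻¹ * w) * y = (v : G)⁻¹ * ((w : G) * y * (w : G)⁻¹) * w := by group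
          _ = (v : G)⁻¹ * ((v : G) * y * (v : G)⁻¹) * w := by rw [h1]
          _ = _ := by group
      have h3 : (v : G)⁻¹ * w = 1 := by
        refine mem_bot.mp (hC ▸ mem_inf.mpr ⟨O.mul_mem (O.inv_mem v.2) w.2, mem_centralizer_iff.mpr fun x hx => ?_⟩)
        obtain ⟨i, hi⟩ := hRrot x hx
        obtain ⟨m, hm⟩ := hrot i
        rw [hainj x (le_normalizer hx) (y ^ m) (N.pow_mem hyN m) (hi.trans hm.symm)]
        exact (Commute.pow_right h2 m).symm.eq
      exact Subtype.ext (eq_of_inv_mul_eq_one h3).symm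
    intro o ho
    obtain ⟨w, hw⟩ := (Finite.injective_iff_surjective.mp hg) ⟨o, ho⟩
    refine ⟨w, w.2, ?_⟩
    have h1 : (w : G) * y * (w : G)⁻¹ * y⁻¹ = o := congrArg Subtype.val hw
    rw [← h1, inv_mul_cancel_right]
  have hyc : ∀ c : G, c * y * c⁻¹ = y⁻¹ → c ∈ N := by
    intro c hc
    refine Subgroup.mem_normalizer_fintype fun x hx => ?_
    obtain ⟨i, hi⟩ := hRrot x hx
    obtain ⟨m, hm⟩ := hrot i
    rw [hainj x (le_normalizer hx) (y ^ m) (N.pow_mem hyN m) (hi.trans hm.symm), ← conj_pow, hc]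
    exact (R : Subgroup G).pow_mem ((R : Subgroup G).inv_mem hyR) m
  -- involutions of the coset `O a`
  have key : ∀ b : G, b * b = 1 → b * a ∈ O → ∃ w ∈ O, w * a * w⁻¹ = b ∧ w * a' = a' * w := by
    intro b hb hba
    have hbinv : b⁻¹ = b := inv_eq_of_mul_eq_one_right hb
    obtain ⟨w, hw, hwy⟩ := hsurj _ hba
    have hy' : w * y * w⁻¹ = b * a' := by rw [hwy, ha']; group
    have ha'inv : a'⁻¹ = a' := inv_eq_of_mul_eq_one_right ha'2
    have conjfact : ∀ c : G, c * (b * a') * c⁻¹ = (b * a')⁻¹ → (w⁻¹ * c * w) * y * (w⁻¹ * c * w)⁻¹ = y⁻¹ := by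
      intro c hc
      rw [show (w⁻¹ * c * w) * y * (w⁻¹ * c * w)⁻¹ = w⁻¹ * (c * (w * y * w⁻¹) * c⁻¹) * w by group, hy', hc, ← hy']
      group
    have hfw : f w = 1 := (hfk w).mpr hw
    have hfb : f b = f a := by
      have h := (hfk _).mpr hba
      rw [map_mul] at h
      rw [eq_inv_of_mul_eq_one_left h, ← map_inv, hainv]
    refine ⟨w, hw, ?_, ?_⟩
    · have h1 : w⁻¹ * b * w = a := hainj _ (hyc _ (conjfact b (by
        rw [show (b * a')⁻¹ = a'⁻¹ * b⁻¹ from mul_inv_rev b a', ha'inv, hbinv, show b * (b * a') * b = (b * b) * a' * b by group, hb, one_mul]))) _ haN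
        (by rw [map_mul, map_mul, map_inv, hfw, inv_one, one_mul, mul_one, hfb])
      rw [← h1]; group
    · have h1 : w⁻¹ * a' * w = a' := hainj _ (hyc _ (conjfact a' (by
        rw [show (b * a')⁻¹ = a'⁻¹ * b⁻¹ from mul_inv_rev b a', ha'inv, hbinv, show a' * (b * a') * a' = a' * b * (a' * a') by group, ha'2, mul_one]))) _ ha'N
        (by rw [map_mul, map_mul, map_inv, hfw, inv_one, one_mul, mul_one])
      calc w * a' = w * (w⁻¹ * a' * w) := by rw [h1]
        _ = a' * w := by group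
  constructor
  · intro b hb hbO
    have hfb : orderOf (f b) = 2 := by
      refine orderOf_eq_prime ?_ fun h => hbO ((hfk b).mp h)
      rw [← map_pow, ← hb, pow_orderOf_eq_one, map_one]
    obtain ⟨ib, hib⟩ := exists_refl hr hfb
    obtain ⟨k, hk⟩ := refl_conj hr ia ib
    obtain ⟨m, hm⟩ := hrot k
    set n := y ^ m with hn
    have hb2 : b * b = 1 := by rw [← sq, ← hb]; exact pow_orderOf_eq_one b
    obtain ⟨w, hw, hwa, -⟩ := key (n⁻¹ * b * n) (by
        rw [show n⁻¹ * b * n * (n⁻¹ * b * n) = n⁻¹ * (b * b) * n by group, hb2]; group)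
      ((hfk _).mp (by
        rw [map_mul, map_mul, map_mul, map_inv, hm, hib, hia, ← hk]
        simp [mul_assoc]))
    exact ⟨n * w, by rw [show n * w * a * (n * w)⁻¹ = n * (w * a * w⁻¹) * n⁻¹ by group, hwa]; group⟩
  · set C := O ⊓ centralizer ({a} : Set G) with hCd
    set C' := O ⊓ centralizer ({a'} : Set G) with hC'd
    have hmemC : ∀ x b : G, x ∈ centralizer ({b} : Set G) ↔ b * x = x * b := fun x b => by
      rw [mem_centralizer_iff]; simp
    have hcard : Nat.card C' = Nat.card C := by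
      obtain ⟨m, hm⟩ := hrot (i0 / 2)
      set z := y ^ m with hz
      have hzN : z ∈ N := N.pow_mem hyN m
      have hza : z⁻¹ * a * z = a' := by
        refine hainj _ (N.mul_mem (N.mul_mem (N.inv_mem hzN) haN) hzN) _ ha'N ?_
        rw [ha', map_mul, map_mul, map_mul, map_inv, hm, hia, hi0, DihedralGroup.inv_r, DihedralGroup.r_mul_sr,
          DihedralGroup.sr_mul_r, DihedralGroup.sr_mul_r]
        congr 1
        have h2 : (2 : ZMod r) ≠ 0 := fun h => hr ((Nat.prime_dvd_prime_iff_eq Fact.out Nat.prime_two).mp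
          ((ZMod.natCast_eq_zero_iff 2 r).mp (by exact_mod_cast h)))
        field_simp
        ring
      refine Nat.card_congr ((MulAut.conj z).toEquiv.subtypeEquiv fun x => ?_)
      show x ∈ C' ↔ z * x * z⁻¹ ∈ C
      rw [hCd, hC'd, mem_inf, mem_inf, hmemC, hmemC, ← hza]
      refine and_congr ⟨fun h => hN0.conj_mem _ h z, fun h => by simpa [mul_assoc] using hN0.conj_mem _ h z⁻¹⟩
        ⟨fun h => ?_, fun h => ?_⟩
      · calc a * (z * x * z⁻¹) = z * (z⁻¹ * a * z * x) * z⁻¹ := by group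
          _ = z * (x * (z⁻¹ * a * z)) * z⁻¹ := by rw [h]
          _ = _ := by group
      · calc z⁻¹ * a * z * x = z⁻¹ * (a * (z * x * z⁻¹)) * z := by group
          _ = z⁻¹ * (z * x * z⁻¹ * a) * z := by rw [h]
          _ = _ := by group
    have hbij : Function.Bijective fun cd : C' × C => (⟨(cd.1 : G) * cd.2,
        O.mul_mem (mem_inf.mp cd.1.2).1 (mem_inf.mp cd.2.2).1⟩ : O) := by
      constructor
      · rintro ⟨c, d⟩ ⟨c₁, d₁⟩ h
        have h1 : (c : G) * d = c₁ * d₁ := congrArg Subtype.val h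
        have h2 : (c₁ : G)⁻¹ * c = d₁ * (d : G)⁻¹ := by
          rw [eq_mul_inv_iff_mul_eq, mul_assoc, h1, inv_mul_cancel_left]
        have h3 : (c₁ : G)⁻¹ * c = 1 := by
          have e1 : (c₁ : G)⁻¹ * c ∈ C' := C'.mul_mem (C'.inv_mem c₁.2) c.2
          have e2 : (c₁ : G)⁻¹ * c ∈ C := h2 ▸ C.mul_mem d₁.2 (C.inv_mem d.2)
          set x := (c₁ : G)⁻¹ * c
          have e3 : a' * x = x * a' := (hmemC x a').mp (mem_inf.mp e1).2
          have e4 : a * x = x * a := (hmemC x a).mp (mem_inf.mp e2).2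
          have hy2 : y * x = x * y := by
            rw [show y = a * a' by rw [ha', ← mul_assoc, ha2, one_mul], mul_assoc, e3, ← mul_assoc, e4, mul_assoc]
          refine mem_bot.mp (hC ▸ mem_inf.mpr ⟨(mem_inf.mp e1).1, mem_centralizer_iff.mpr fun s hs => ?_⟩)
          obtain ⟨i, hi⟩ := hRrot s hs
          obtain ⟨m, hm⟩ := hrot i
          rw [hainj s (le_normalizer hs) (y ^ m) (N.pow_mem hyN m) (hi.trans hm.symm)]
          exact (Commute.pow_left hy2 m).eq
        have h4 : (c : G) = c₁ := (eq_of_inv_mul_eq_one h3).symm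
        rw [h4] at h1
        exact Prod.ext (Subtype.ext h4) (Subtype.ext (mul_left_cancel h1))
      · rintro ⟨u, hu⟩
        obtain ⟨w, hw, hwa, hwa'⟩ := key (u * a * u⁻¹)
          (by rw [show u * a * u⁻¹ * (u * a * u⁻¹) = u * (a * a) * u⁻¹ by group, ha2]; group)
          ((hfk _).mp (by rw [map_mul, map_mul, map_mul, map_inv, (hfk u).mpr hu, inv_one, one_mul, mul_one, ← map_mul, ha2, map_one]))
        refine ⟨(⟨w, mem_inf.mpr ⟨hw, (hmemC w a').mpr hwa'.symm⟩⟩, ⟨w⁻¹ * u, mem_inf.mpr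
          ⟨O.mul_mem (O.inv_mem hw) hu, (hmemC _ a).mpr ?_⟩⟩), Subtype.ext (mul_inv_cancel_left w u)⟩
        calc a * (w⁻¹ * u) = w⁻¹ * (w * a * w⁻¹) * u := by group
          _ = w⁻¹ * (u * a * u⁻¹) * u := by rw [hwa]
          _ = _ := by group
    have := Nat.card_eq_of_bijective _ hbij
    rw [Nat.card_prod, hcard] at this
    rw [sq, this]

end Cfsg.Agent.S2873
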