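import Cfsg.Statements.S2874
import Mathlib

set_option autoImplicit false
open Cfsg

namespace Cfsg.Agent.S2874

open Matrix

variable {k : ℕ}

local notation "R" => ZMod (2 ^ k)

/-- Every element is a unit or divisible by two. -/
theorem unit_or_two_mul (x : R) : IsUnit x ∨ ∃ y, x = 2 * y := by
  haveI : NeZero (2 ^ k) := ⟨by positivity⟩
  rcases Nat.even_or_odd x.val with ⟨m, hm⟩ | hm
  · exact Or.inr ⟨(m : R), by rw [← ZMod.natCast_zmod_val x, hm]; push_cast; ring⟩
  · exact Or.inl (by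
      rw [← ZMod.natCast_zmod_val x]
      exact (ZMod.unitOfCoprime x.val ((Nat.coprime_two_right.mpr hm).pow_right k)).isUnit)

theorem isUnit_of_odd (y : R) : IsUnit (1 + 2 * y) := by
  refine IsNilpotent.isUnit_one_add ⟨k, ?_⟩
  rw [mul_pow, show ((2 : R) ^ k) = 0 by
    have : (((2 ^ k : ℕ)) : R) = 0 := ZMod.natCast_self _
    rwa [Nat.cast_pow, Nat.cast_ofNat] at this, zero_mul]

theorem three_cancel (x : R) (h : 3 * x = 0) : x = 0 := by
  have h3 : IsUnit (3 : R) := by
    have := isUnit_of_odd (k := k) 1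
    rwa [show (1 : R) + 2 * 1 = 3 by norm_num] at this
  exact (h3.mul_right_eq_zero).1 h

/-- Two-torsion of `ZMod (2 ^ (k + 1))`. -/
theorem two_torsion {m : ℕ} (x : ZMod (2 ^ (m + 1))) (h : 2 * x = 0) : x = 0 ∨ x = ((2 ^ m : ℕ) : ZMod (2 ^ (m + 1))) := by
  haveI : NeZero (2 ^ (m + 1)) := ⟨by positivity⟩
  have hd : 2 ^ (m + 1) ∣ 2 * x.val := by
    refine (ZMod.natCast_eq_zero_iff _ _).1 ?_
    rw [Nat.cast_mul, ZMod.natCast_zmod_val]; exact h
  obtain ⟨j, hj⟩ := (Nat.mul_dvd_mul_iff_left (by norm_num : 0 < 2)).1 (show 2 * 2 ^ m ∣ 2 * x.val by rw [← pow_succ']; exact hd)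
  have hlt := x.val_lt
  rw [hj, pow_succ] at hlt
  have hj2 : j < 2 := Nat.lt_of_mul_lt_mul_left hlt
  rw [← ZMod.natCast_zmod_val x, hj]
  interval_cases j
  · left; simp
  · right; simp

/-- If two is a unit the ring is trivial. -/
theorem subsingleton_of_unit_two (h : IsUnit (2 : R)) : Subsingleton R := by
  have h0 : (2 : R) ^ k = 0 := by
    have : (((2 ^ k : ℕ)) : R) = 0 := ZMod.natCast_self _
    rwa [Nat.cast_pow, Nat.cast_ofNat] at this
  exact subsingleton_of_zero_eq_one (isUnit_zero_iff.1 (h0 ▸ h.pow k))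

/-- A product of consecutive elements is even. -/
theorem even_mul_sub_one (x : R) : ∃ z, x * (x - 1) = 2 * z := by
  haveI : NeZero (2 ^ k) := ⟨by positivity⟩
  obtain ⟨z, hz⟩ := Nat.even_mul_succ_self (x - 1).val
  refine ⟨(z : R), ?_⟩
  have := congrArg (fun i : ℕ => (i : R)) hz
  push_cast at this
  rw [ZMod.natCast_zmod_val] at this
  linear_combination this

/-- The companion matrix of `X ^ 2 + X + 1`. -/
def ω : Matrix (Fin 2) (Fin 2) R := !![0, -1; 1, -1]

/-- Its square. -/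
def ω' : Matrix (Fin 2) (Fin 2) R := !![-1, 1; -1, 0]

/-- A basis in which an element of order three is the companion matrix. -/
theorem exists_companion (S : Matrix (Fin 2) (Fin 2) R) (h3 : S * S * S = 1) (hne : S ≠ 1) :
    ∃ M : Matrix (Fin 2) (Fin 2) R, IsUnit M.det ∧ S * M = M * ω := by
  have key : ∀ M : Matrix (Fin 2) (Fin 2) R, IsUnit M.det → (∃ p q, S * M = M * !![0, p; 1, q]) → S * M = M * ω := by
    rintro M hM ⟨p, q, e⟩
    have hi : IsUnit M := (Matrix.isUnit_iff_isUnit_det M).2 hM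
    have e3 : M * (!![0, p; 1, q] * !![0, p; 1, q] * !![0, p; 1, q]) = M * 1 := by
      rw [mul_one, ← mul_assoc M, ← mul_assoc M, ← e, mul_assoc S M, ← e, ← mul_assoc S S, mul_assoc (S * S) M, ← e,
        ← mul_assoc, h3, one_mul]
    have e4 := hi.mul_left_cancel e3
    have a00 := congrFun (congrFun e4 0) 0
    have a10 := congrFun (congrFun e4 1) 0
    have a11 := congrFun (congrFun e4 1) 1
    simp [Matrix.mul_apply, Fin.sum_univ_two] at a00 a10 a11
    have hq3 : (q + 1) * (q * q - q + 1) = 0 := by linear_combination a11 - 2 * a00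
    have hqu : IsUnit (q * q - q + 1) := by
      rcases unit_or_two_mul q with hu | ⟨y, rfl⟩
      · rcases unit_or_two_mul (q - 1) with hu' | ⟨y, hy⟩
        · exfalso
          obtain ⟨z, hz⟩ := even_mul_sub_one q
          haveI := subsingleton_of_unit_two (IsUnit.mul_iff.1 (hz ▸ hu.mul hu')).1
          exact hne (Subsingleton.elim _ _)
        · have := isUnit_of_odd (q * y)
          rwa [show 1 + 2 * (q * y) = q * q - q + 1 by linear_combination (-q) * hy] at this
      · have := isUnit_of_odd (2 * y * y - y)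
        rwa [show 1 + 2 * (2 * y * y - y) = 2 * y * (2 * y) - 2 * y + 1 by ring] at this
    have hq : q = -1 := eq_neg_of_add_eq_zero_left ((hqu.mul_left_eq_zero).1 hq3)
    subst hq
    have hp : p = -1 := by linear_combination -a00
    subst hp
    exact e
  have comp : ∀ x y : R, IsUnit (x * (S 1 0 * x + S 1 1 * y) - (S 0 0 * x + S 0 1 * y) * y) →
      ∃ M : Matrix (Fin 2) (Fin 2) R, IsUnit M.det ∧ S * M = M * ω := by
    intro x y hu
    set M : Matrix (Fin 2) (Fin 2) R := !![x, S 0 0 * x + S 0 1 * y; y, S 1 0 * x + S 1 1 * y] with hM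
    have hdet : IsUnit M.det := by
      rw [hM, Matrix.det_fin_two_of]; exact hu
    refine ⟨M, hdet, key M hdet ?_⟩
    set c := M⁻¹ * (S * M) with hc
    have e : S * M = M * c := by rw [hc, ← mul_assoc, Matrix.mul_nonsing_inv _ hdet, one_mul]
    have hcol : c 0 0 = 0 ∧ c 1 0 = 1 := by
      have hh : M⁻¹ * M = 1 := Matrix.nonsing_inv_mul _ hdet
      have h00 := congrFun (congrFun hh 0) 1
      have h10 := congrFun (congrFun hh 1) 1
      simp [Matrix.mul_apply, Fin.sum_univ_two, hM] at h00 h10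
      simp only [hc, Matrix.mul_apply, Fin.sum_univ_two, hM]
      constructor
      · simp; linear_combination h00
      · simp; linear_combination h10
    refine ⟨c 0 1, c 1 1, e.trans ?_⟩
    congr 1
    ext i j
    fin_cases i <;> fin_cases j <;> simp [hcol.1, hcol.2]
  rcases unit_or_two_mul (S 1 0) with hu | ⟨c, hc⟩
  · exact comp 1 0 (by simpa using hu)
  rcases unit_or_two_mul (S 0 1) with hu | ⟨b, hb⟩
  · exact comp 0 1 (by simpa using hu.neg)
  rcases unit_or_two_mul (S 1 0 + S 1 1 - (S 0 0 + S 0 1)) with hu | ⟨d, hd⟩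
  · exact comp 1 1 (by simpa using hu)
  exfalso
  have hdiag : IsUnit (S 0 0) := by
    have hdetS : IsUnit S.det := by
      refine IsUnit.of_mul_eq_one (S.det * S.det) ?_
      rw [← Matrix.det_mul, ← Matrix.det_mul, ← mul_assoc, h3, Matrix.det_one]
    rcases unit_or_two_mul (S 0 0) with hu | ⟨a, ha⟩
    · exact hu
    · exfalso
      have : S.det = 2 * (a * S 1 1 - b * S 1 0) := by rw [Matrix.det_fin_two, ha, hb]; ring
      rw [this] at hdetS
      haveI := subsingleton_of_unit_two (IsUnit.mul_iff.1 hdetS).1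
      exact hne (Subsingleton.elim _ _)
  rcases unit_or_two_mul (S 0 0 - 1) with hu | ⟨a, ha⟩
  · obtain ⟨z, hz⟩ := even_mul_sub_one (S 0 0)
    haveI := subsingleton_of_unit_two (IsUnit.mul_iff.1 (hz ▸ hdiag.mul hu)).1
    exact hne (Subsingleton.elim _ _)
  -- `S` is the identity modulo two
  have hu : IsUnit (S * S + S + 1) := by
    rw [Matrix.isUnit_iff_isUnit_det, Matrix.det_fin_two]
    simp only [Matrix.add_apply, Matrix.mul_apply, Fin.sum_univ_two, Matrix.one_apply_eq,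
      Matrix.one_apply_ne (show (0 : Fin 2) ≠ 1 by decide), Matrix.one_apply_ne (show (1 : Fin 2) ≠ 0 by decide)]
    have e00 : S 0 0 = 1 + 2 * a := by linear_combination ha
    have e11 : S 1 1 = 1 + 2 * (a + b - c + d) := by linear_combination hd + ha + hb - hc
    rw [e00, e11, hb, hc]
    convert isUnit_of_odd ((3 * a + 2 * a * a + 2 * b * c + 1) + (3 * (a + b - c + d) + 2 * (a + b - c + d) * (a + b - c + d) + 2 * b * c + 1)
      + 2 * (3 * a + 2 * a * a + 2 * b * c + 1) * (3 * (a + b - c + d) + 2 * (a + b - c + d) * (a + b - c + d) + 2 * b * c + 1)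
      - 2 * (b * (3 + 2 * a + 2 * (a + b - c + d))) * (c * (3 + 2 * a + 2 * (a + b - c + d)))) using 1
    ring
  have : (S - 1) * (S * S + S + 1) = 0 := by
    calc (S - 1) * (S * S + S + 1) = S * S * S - 1 := by noncomm_ring
      _ = 0 := by rw [h3, sub_self]
  exact hne (sub_eq_zero.1 ((hu.mul_left_eq_zero).1 this))


/-- The four-group normalized by the companion matrix. -/
theorem four_normal_form (v : Matrix (Fin 2) (Fin 2) R) (h2 : v * v = 1)
    (hc : v * (ω * v * ω') = ω * v * ω' * v) (hp : v * (ω * v * ω') = ω' * v * ω) :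
    ∃ b c : R, 2 * b = 0 ∧ 2 * c = 0 ∧ v = !![1 + b, c - b; c, 1 - b] := by
  have h3 : IsUnit (3 : R) := by
    have := isUnit_of_odd (k := k) 1
    rwa [show (1 : R) + 2 * 1 = 3 by norm_num] at this
  obtain ⟨a1, ha1⟩ : ∃ a, 3 * a = 2 * (v 1 0 - v 0 1) - (v 0 0 - v 1 1) := ⟨(h3.unit⁻¹ : Rˣ) * (2 * (v 1 0 - v 0 1) - (v 0 0 - v 1 1)), by rw [← mul_assoc, h3.mul_val_inv, one_mul]⟩
  obtain ⟨b0, hb0⟩ : ∃ b, 3 * b = 2 * (v 0 0 - v 1 1) - (v 1 0 - v 0 1) := ⟨(h3.unit⁻¹ : Rˣ) * (2 * (v 0 0 - v 1 1) - (v 1 0 - v 0 1)), by rw [← mul_assoc, h3.mul_val_inv, one_mul]⟩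
  obtain ⟨a0, ha0⟩ : ∃ a, a = v 0 0 - b0 := ⟨_, rfl⟩
  obtain ⟨b1, hb1⟩ : ∃ b, b = v 1 0 - a1 := ⟨_, rfl⟩
  have hv : v = !![a0 + b0, -a1 + b1 - b0; a1 + b1, a0 - a1 - b0] := by
    ext i j
    fin_cases i <;> fin_cases j <;> simp
    · linear_combination -ha0
    · refine sub_eq_zero.1 (three_cancel _ ?_)
      linear_combination -3 * hb1 + 2 * ha1 + hb0
    · linear_combination -hb1
    · refine sub_eq_zero.1 (three_cancel _ ?_)
      linear_combination -3 * ha0 + ha1 + 2 * hb0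
  subst hv
  clear ha1 hb0 ha0 hb1
  have s00 := congrFun (congrFun h2 0) 0
  have s01 := congrFun (congrFun h2 0) 1
  have s10 := congrFun (congrFun h2 1) 0
  have s11 := congrFun (congrFun h2 1) 1
  have c00 := congrFun (congrFun hc 0) 0
  have c01 := congrFun (congrFun hc 0) 1
  have c10 := congrFun (congrFun hc 1) 0
  have c11 := congrFun (congrFun hc 1) 1
  have p00 := congrFun (congrFun hp 0) 0
  have p01 := congrFun (congrFun hp 0) 1
  have p10 := congrFun (congrFun hp 1) 0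
  have p11 := congrFun (congrFun hp 1) 1
  simp [ω, ω', Matrix.mul_apply, Fin.sum_univ_two] at s00 s01 s10 s11 c00 c01 c10 c11 p00 p01 p10 p11
  have hN : b0 * b0 - b0 * b1 + b1 * b1 = 0 := by
    refine three_cancel _ ?_
    linear_combination -c00 - c01 + c10
  have hA1 : 2 * a0 * a1 - a1 * a1 = 0 := by
    refine three_cancel _ ?_
    linear_combination -s00 - 2 * s01 + 2 * s10 + s11
  have hA0 : a0 * a0 - a1 * a1 = 1 := by
    refine sub_eq_zero.1 (three_cancel _ ?_)
    linear_combination s00 - s01 + s10 + 2 * s11 - 3 * hN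
  have ha1 : a1 = 0 := by
    refine sub_eq_zero.1 (three_cancel _ ?_)
    linear_combination p00 + 2 * p01 - 2 * p10 - p11 + 3 * hN + 3 * hA1
  have ha0 : a0 = 1 := by
    refine sub_eq_zero.1 (three_cancel _ ?_)
    linear_combination -p00 + p01 - p10 - 2 * p11 + 3 * hA0
  subst ha1 ha0
  refine ⟨b0, b1, ?_, ?_, ?_⟩
  · linear_combination s10 - s01
  · linear_combination s10
  · ext i j
    fin_cases i <;> fin_cases j <;> simp

/-- The facts about the alternating group of degree four. -/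
theorem alt_four_facts : ∃ s v : alternatingGroup (Fin 4), s * s * s = 1 ∧ s ≠ 1 ∧ v * v = 1 ∧ v ≠ 1 ∧
    v * (s * v * (s * s)) = s * v * (s * s) * v ∧ v * (s * v * (s * s)) = (s * s) * v * s ∧
    ∀ x : alternatingGroup (Fin 4), ∃ i j l : Fin 3, x = s ^ (i : ℕ) * v ^ (j : ℕ) * s ^ (l : ℕ) := by
  decide +kernel

set_option maxHeartbeats 1000000 in
/-- A copy of the alternating group of degree four in normal position. -/
theorem exists_normal_position {m : ℕ} (H : Subgroup (GL (Fin 2) (ZMod (2 ^ (m + 1)))))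
    (h : Nonempty (↥H ≃* ↥(alternatingGroup (Fin 4)))) :
    ∃ (g : GL (Fin 2) (ZMod (2 ^ (m + 1)))) (σ w : GL (Fin 2) (ZMod (2 ^ (m + 1)))) (b c : ZMod (2 ^ (m + 1))),
      (σ : Matrix (Fin 2) (Fin 2) (ZMod (2 ^ (m + 1)))) = ω ∧ 2 * b = 0 ∧ 2 * c = 0 ∧ (b ≠ 0 ∨ c ≠ 0) ∧
      (w : Matrix (Fin 2) (Fin 2) (ZMod (2 ^ (m + 1)))) = !![1 + b, c - b; c, 1 - b] ∧
      σ ∈ H.map (MulAut.conj g).toMonoidHom ∧ w ∈ H.map (MulAut.conj g).toMonoidHom ∧
      H.map (MulAut.conj g).toMonoidHom ≤ Subgroup.closure {σ, w} := by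
  obtain ⟨e⟩ := h
  obtain ⟨s, v, hs3, hs1, hv2, hv1, hcomm, hprod, hgen⟩ := alt_four_facts
  let f : alternatingGroup (Fin 4) →* GL (Fin 2) (ZMod (2 ^ (m + 1))) := H.subtype.comp e.symm.toMonoidHom
  have hf : Function.Injective f := Subtype.val_injective.comp e.symm.injective
  obtain ⟨M, hM, hSM⟩ := exists_companion (Units.val (f s))
    (by rw [← Units.val_mul, ← Units.val_mul, ← map_mul, ← map_mul, hs3, map_one]; rfl)
    (fun h => hs1 (hf (by rw [map_one]; exact Units.ext h)))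
  obtain ⟨Mu, hMu⟩ := (Matrix.isUnit_iff_isUnit_det M).2 hM
  set g : GL (Fin 2) (ZMod (2 ^ (m + 1))) := Mu⁻¹ with hg
  let F := (MulAut.conj g).toMonoidHom.comp f
  have hσ : (Units.val (F s)) = ω := by
    have hFs : F s = Mu⁻¹ * f s * Mu := by simp [F, hg]
    rw [hFs, Units.val_mul, Units.val_mul, mul_assoc, hMu, hSM, ← hMu, Units.inv_mul_cancel_left]
  have hω2 : (Units.val (F (s * s))) = ω' := by
    rw [map_mul, Units.val_mul, hσ]
    ext i j
    fin_cases i <;> fin_cases j <;> simp [ω, ω', Matrix.mul_apply, Fin.sum_univ_two]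
  obtain ⟨b, c, hb, hc, hw⟩ := four_normal_form (Units.val (F v))
    (by rw [← Units.val_mul, ← map_mul, hv2, map_one]; rfl)
    (by rw [← hσ, ← hω2]; simp only [← Units.val_mul, ← map_mul]; rw [hcomm])
    (by rw [← hσ, ← hω2]; simp only [← Units.val_mul, ← map_mul]; rw [hprod])
  have hFmem : ∀ x, F x ∈ H.map (MulAut.conj g).toMonoidHom := fun x => ⟨_, (e.symm x).2, rfl⟩
  refine ⟨g, F s, F v, b, c, hσ, hb, hc, ?_, hw, hFmem s, hFmem v, ?_⟩
  · by_contra hcon
    push Not at hcon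
    apply hv1
    apply hf
    apply (MulAut.conj g).injective
    show F v = (MulAut.conj g) (f 1)
    rw [map_one, map_one]
    apply Units.ext
    rw [hw, hcon.1, hcon.2]
    ext i j
    fin_cases i <;> fin_cases j <;> simp
  · rintro _ ⟨y, hy, rfl⟩
    obtain ⟨i, j, l, hx⟩ := hgen (e ⟨y, hy⟩)
    have : (MulAut.conj g).toMonoidHom y = F (e ⟨y, hy⟩) := by simp [F, f]
    rw [this, hx, map_mul, map_mul, map_pow, map_pow, map_pow]
    have h1 : F s ∈ Subgroup.closure ({F s, F v} : Set (GL (Fin 2) (ZMod (2 ^ (m + 1))))) :=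
      Subgroup.subset_closure (Set.mem_insert (F s) {F v})
    have h2 : F v ∈ Subgroup.closure ({F s, F v} : Set (GL (Fin 2) (ZMod (2 ^ (m + 1))))) :=
      Subgroup.subset_closure (Set.mem_insert_of_mem (F s) (Set.mem_singleton (F v)))
    exact mul_mem (mul_mem (pow_mem h1 (i : ℕ)) (pow_mem h2 (j : ℕ))) (pow_mem h1 (l : ℕ))

set_option maxHeartbeats 2000000 in
/-- For k ≥ 2, any two subgroups of GL₂(ℤ/2ᵏℤ) (the automorphism group of the homocyclic group ℤ/2ᵏ × ℤ/2ᵏ) that are isomorphic to the alternating group of degree 4 are conjugate. -/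
theorem result (k : ℕ) (hk : 2 ≤ k) (H₁ H₂ : Subgroup (GL (Fin 2) (ZMod (2 ^ k)))) (h₁ : Nonempty (↥H₁ ≃* ↥(alternatingGroup (Fin 4)))) (h₂ : Nonempty (↥H₂ ≃* ↥(alternatingGroup (Fin 4)))) : ∃ g : GL (Fin 2) (ZMod (2 ^ k)), H₂ = H₁.map (MulAut.conj g).toMonoidHom := by
  obtain ⟨m, rfl⟩ : ∃ m, k = m + 1 := ⟨k - 1, by omega⟩
  obtain ⟨g₁, σ₁, w₁, b₁, c₁, hσ₁, hb₁, hc₁, hne₁, hw₁, hsm₁, hwm₁, -⟩ := exists_normal_position H₁ h₁
  obtain ⟨g₂, σ₂, w₂, b₂, c₂, hσ₂, hb₂, hc₂, hne₂, hw₂, -, -, hle₂⟩ := exists_normal_position H₂ h₂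
  obtain rfl : σ₂ = σ₁ := Units.ext (hσ₂.trans hσ₁.symm)
  have hω' : (Units.val (σ₂ * σ₂)) = ω' := by
    rw [Units.val_mul, hσ₂]
    ext i j
    fin_cases i <;> fin_cases j <;> simp [ω, ω', Matrix.mul_apply, Fin.sum_univ_two]
  have hmem : w₂ ∈ H₁.map (MulAut.conj g₁).toMonoidHom := by
    have key : w₂ = w₁ ∨ w₂ = σ₂ * w₁ * (σ₂ * σ₂) ∨ w₂ = σ₂ * σ₂ * w₁ * σ₂ := by
      simp only [Units.ext_iff, Units.val_mul _ w₁, Units.val_mul, hσ₂, hw₁, hw₂]
      have hω'' : (ω : Matrix (Fin 2) (Fin 2) (ZMod (2 ^ (m + 1)))) * ω = ω' := by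
        rw [← hσ₂, ← Units.val_mul, hω']
      rw [hω'']
      obtain ⟨h, hh2, hcases⟩ : ∃ h : ZMod (2 ^ (m + 1)), 2 * h = 0 ∧ ∀ x, 2 * x = 0 → x = 0 ∨ x = h :=
        ⟨_, by
          rw [show (2 : ZMod (2 ^ (m + 1))) = ((2 : ℕ) : ZMod (2 ^ (m + 1))) by norm_num, ← Nat.cast_mul,
            ← pow_succ', ZMod.natCast_self], two_torsion⟩
      rcases hcases b₁ hb₁ with rfl | rfl <;> rcases hcases c₁ hc₁ with rfl | rfl <;>
        rcases hcases b₂ hb₂ with rfl | rfl <;> rcases hcases c₂ hc₂ with rfl | rfl <;>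
        first
        | exact absurd (hne₁.elim (fun h => (h rfl).elim) (fun h => h rfl)) not_false
        | exact absurd (hne₂.elim (fun h => (h rfl).elim) (fun h => h rfl)) not_false
        | exact Or.inl rfl
        | (refine Or.inr (Or.inl ?_); ext i j; fin_cases i <;> fin_cases j <;>
            simp [ω, ω', Matrix.mul_apply, Fin.sum_univ_two] <;>
            first
            | linear_combination (0 : ZMod (2 ^ (m + 1))) * hh2
            | linear_combination (1 : ZMod (2 ^ (m + 1))) * hh2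
            | linear_combination (-1 : ZMod (2 ^ (m + 1))) * hh2
            | linear_combination (2 : ZMod (2 ^ (m + 1))) * hh2
            | linear_combination (-2 : ZMod (2 ^ (m + 1))) * hh2)
        | (refine Or.inr (Or.inr ?_); ext i j; fin_cases i <;> fin_cases j <;>
            simp [ω, ω', Matrix.mul_apply, Fin.sum_univ_two] <;>
            first
            | linear_combination (0 : ZMod (2 ^ (m + 1))) * hh2
            | linear_combination (1 : ZMod (2 ^ (m + 1))) * hh2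
            | linear_combination (-1 : ZMod (2 ^ (m + 1))) * hh2
            | linear_combination (2 : ZMod (2 ^ (m + 1))) * hh2
            | linear_combination (-2 : ZMod (2 ^ (m + 1))) * hh2)
    rcases key with rfl | rfl | rfl
    · exact hwm₁
    · exact mul_mem (mul_mem hsm₁ hwm₁) (mul_mem hsm₁ hsm₁)
    · exact mul_mem (mul_mem (mul_mem hsm₁ hsm₁) hwm₁) hsm₁
  have hle : H₂.map (MulAut.conj g₂).toMonoidHom ≤ H₁.map (MulAut.conj g₁).toMonoidHom :=
    hle₂.trans ((Subgroup.closure_le _).2 (Set.insert_subset hsm₁ (Set.singleton_subset_iff.2 hmem)))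
  have heq := Subgroup.eq_of_le_of_card_ge hle (by
    rw [Subgroup.card_map_of_injective (MulAut.conj g₁).injective, Subgroup.card_map_of_injective (MulAut.conj g₂).injective,
      Nat.card_congr h₁.some.toEquiv, Nat.card_congr h₂.some.toEquiv])
  refine ⟨g₂⁻¹ * g₁, ?_⟩
  have e := congrArg (Subgroup.map (MulAut.conj g₂⁻¹).toMonoidHom) heq
  rw [Subgroup.map_map, Subgroup.map_map] at e
  have e1 : (MulAut.conj g₂⁻¹).toMonoidHom.comp (MulAut.conj g₂).toMonoidHom = MonoidHom.id _ := by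
    ext x; simp [mul_assoc]
  have e2 : (MulAut.conj g₂⁻¹).toMonoidHom.comp (MulAut.conj g₁).toMonoidHom = (MulAut.conj (g₂⁻¹ * g₁)).toMonoidHom := by
    ext x; simp [mul_assoc]
  rwa [e1, e2, Subgroup.map_id] at e

end Cfsg.Agent.S2874
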