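import Cfsg.Statements.S2879
import Cfsg.Agent.Hall.Fitting
import Cfsg.Agent.S1896
import Cfsg.Agent.S3742
import Cfsg.Agent.FrobOrder.Solv
import Cfsg.Agent.RegularLinear.Solvable
import Cfsg.Agent.PReduced.Basic

set_option autoImplicit false
open Cfsg

namespace Cfsg.Agent.S2879

open Subgroup

theorem qDihedralFacts : (∀ q : QuaternionGroup 2, q * q = 1 → q = 1 ∨ q = QuaternionGroup.a 2) ∧
    (∀ q : QuaternionGroup 2, (∀ r, r * q = q * r) → q = 1 ∨ q = QuaternionGroup.a 2) ∧
    (QuaternionGroup.a 1 * QuaternionGroup.a 1 = (QuaternionGroup.a 2 : QuaternionGroup 2)) := by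
  decide

theorem odd_perm_conj : ∀ σ : Equiv.Perm (Fin 4), Equiv.Perm.sign σ = -1 →
    ∃ τ : Equiv.Perm (Fin 4), (σ * (τ * σ * τ⁻¹)) ^ 3 = 1 ∧ σ * (τ * σ * τ⁻¹) ≠ 1 := by
  decide +kernel

theorem even_perm_squares : ∀ σ : Equiv.Perm (Fin 4), Equiv.Perm.sign σ = 1 →
    ∃ a b : Equiv.Perm (Fin 4), Equiv.Perm.sign a = 1 ∧ Equiv.Perm.sign b = 1 ∧ σ = a * a * (b * b) := by
  decide +kernel

/-- The pieces needed from the structure of `T`. -/
theorem cyclic_index {T : Type*} [Group T] [Finite T]
    (hT : (∃ n : ℕ, 4 ≤ n ∧ Nonempty (T ≃* DihedralGroup n)) ∨ Cfsg.IsQuasiDihedral T) :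
    8 ≤ Nat.card T ∧ (∃ c : T, (zpowers c).index = 2) ∧
      (Nonempty (T ≃* QuaternionGroup 2) → False) := by
  rcases hT with ⟨n, hn, ⟨e⟩⟩ | ⟨n, hn, hcard, x, y, hx, hy, hrel⟩
  · haveI : NeZero n := ⟨by omega⟩
    have hcard : Nat.card T = 2 * n := by rw [Nat.card_congr e.toEquiv, DihedralGroup.nat_card]
    refine ⟨by omega, ⟨e.symm (DihedralGroup.r 1), ?_⟩, ?_⟩
    · have h := (zpowers (e.symm (DihedralGroup.r 1))).index_mul_card
      rw [hcard, Nat.card_zpowers, MulEquiv.orderOf_eq, DihedralGroup.orderOf_r_one] at h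
      exact mul_right_cancel₀ (by omega : n ≠ 0) h
    · rintro ⟨f⟩
      let g : QuaternionGroup 2 ≃* DihedralGroup n := f.symm.trans e
      have h1 : ∀ i, g.symm (DihedralGroup.sr i) = QuaternionGroup.a 2 := fun i => by
        refine ((qDihedralFacts.1 _ ?_).resolve_left ?_)
        · rw [← map_mul, DihedralGroup.sr_mul_sr, sub_self]; exact map_one g.symm
        · intro h
          rw [map_eq_one_iff g.symm g.symm.injective] at h
          exact absurd h (by intro h; cases h)
      have := g.symm.injective ((h1 0).trans (h1 1).symm)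
      rw [DihedralGroup.sr.injEq] at this
      haveI hfact : Fact (1 < n) := ⟨by omega⟩
      exact zero_ne_one this
  · refine ⟨?_, ⟨x, ?_⟩, ?_⟩
    · rw [hcard]
      calc 8 ≤ 2 ^ 4 := by norm_num
        _ ≤ _ := Nat.pow_le_pow_right (by norm_num) (by omega)
    · have h := (zpowers x).index_mul_card
      rw [hcard, Nat.card_zpowers, hx, pow_succ'] at h
      exact mul_right_cancel₀ (pow_ne_zero n two_ne_zero) h
    · rintro ⟨f⟩
      rw [Nat.card_congr f.toEquiv, Nat.card_eq_fintype_card, QuaternionGroup.card] at hcard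
      have : 2 ^ 4 ≤ 2 ^ (n + 1) := Nat.pow_le_pow_right (by norm_num) (by omega)
      omega
/-- Let G be a finite solvable group with O(G) = 1 whose Sylow 2-subgroup T is dihedral of order at least 8 or semidihedral, with G ≠ T and Z(T) normal in G. Then G has a normal subgroup isomorphic to SL₂(3). -/
theorem result {G : Type*} [Group G] [Finite G] (hsol : IsSolvable G) (hO : Cfsg.oddCore G = ⊥) (T : Sylow 2 G) (hT : (∃ n : ℕ, 4 ≤ n ∧ Nonempty (↥(T : Subgroup G) ≃* DihedralGroup n)) ∨ Cfsg.IsQuasiDihedral ↥(T : Subgroup G)) (hne : (T : Subgroup G) ≠ ⊤) (hZ : ((T : Subgroup G) ⊓ Subgroup.centralizer ((T : Subgroup G) : Set G)).Normal) : ∃ U : Subgroup G, U.Normal ∧ Nonempty (↥U ≃* Matrix.SpecialLinearGroup (Fin 2) (ZMod 3)) := by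
  classical
  haveI : Fact (Nat.Prime 2) := ⟨Nat.prime_two⟩
  haveI : Group.IsSolvable G := hsol
  obtain ⟨hT8, ⟨c, hc⟩, hTQ⟩ := cyclic_index hT
  set Q := Cfsg.pCore 2 G with hQ
  haveI hQn : Q.Normal := by
    haveI := CfsgLib.PCore.pCore_characteristic 2 G
    infer_instance
  have hQp : IsPGroup 2 Q := CfsgLib.PReduced.isPGroup_pCore 2 G
  have hQT : Q ≤ (T : Subgroup G) := CfsgLib.PReduced.pCore_le_sylow T
  have hCQ : centralizer (Q : Set G) ≤ Q := CfsgLib.Hall.centralizer_pCore_le 2 hO
  -- an element of odd prime order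
  obtain ⟨r, hr, hrd, hr2⟩ : ∃ r, Nat.Prime r ∧ r ∣ Nat.card G ∧ r ≠ 2 := by
    by_contra h
    push Not at h
    have hG : IsPGroup 2 G := IsPGroup.iff_card.mpr
      ⟨_, Nat.eq_prime_pow_of_unique_prime_dvd Nat.card_pos.ne' fun hq hd => h _ hq hd⟩
    exact hne ((T.is_maximal' (Q := (⊤ : Subgroup G)) (hG.of_equiv topEquiv.symm) le_top).symm)
  haveI := Fact.mk hr
  obtain ⟨x, hx⟩ := exists_prime_orderOf_dvd_card' r hrd
  have hodd : ∀ g : G, Odd (orderOf g) → g ∈ centralizer (Q : Set G) → g = 1 := fun g hg hgc => by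
    obtain ⟨k, hk⟩ := IsPGroup.iff_orderOf.mp hQp ⟨g, hCQ hgc⟩
    rw [orderOf_mk] at hk
    rcases k with _ | k
    · exact orderOf_eq_one_iff.mp (by simpa using hk)
    · rw [hk] at hg
      exact absurd hg (Nat.not_odd_iff_even.mpr (even_two.pow_of_ne_zero (Nat.succ_ne_zero k)))
  have hxnc : x ∉ centralizer (Q : Set G) := fun h => by
    have := hodd x (hx ▸ hr.odd_of_ne_two hr2) h
    rw [this, orderOf_one] at hx
    exact hr.one_lt.ne hx
  -- `Q` has a cyclic subgroup of index at most `2`
  haveI : (zpowers c).Normal := normal_of_index_eq_two hc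
  set i : ↥Q →* ↥(T : Subgroup G) := Subgroup.inclusion hQT with hi
  obtain ⟨d, hd⟩ : ∃ d : ↥Q, zpowers d = (zpowers c).comap i := by
    haveI : IsCyclic ↥((zpowers c).comap i) :=
      isCyclic_of_injective (i.subgroupComap (zpowers c)) fun a b h => Subtype.ext (inclusion_injective hQT (congrArg Subtype.val h))
    exact (Subgroup.isCyclic_iff_exists_zpowers_eq_top _).mp inferInstance
  have hdi : (zpowers d).index ≤ 2 := by
    rw [hd, index_comap]
    exact Nat.le_of_dvd two_pos ((relIndex_dvd_index_of_normal (zpowers c) i.range).trans hc.dvd)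
  -- the structure of `Q`
  have hm : Cfsg.IsMetacyclic ↥Q := by
    haveI hn : (zpowers d).Normal := by rw [hd]; infer_instance
    refine ⟨zpowers d, hn, inferInstance, ?_⟩
    rcases (show Nat.card (↥Q ⧸ zpowers d) = 1 ∨ Nat.card (↥Q ⧸ zpowers d) = 2 by
      have h1 : 0 < Nat.card (↥Q ⧸ zpowers d) := Nat.card_pos
      rw [← Subgroup.index_eq_card] at h1 ⊢; omega) with h | h
    · haveI := (Nat.card_eq_one_iff_unique.mp h).1
      infer_instance
    · exact isCyclic_of_prime_card h
  let θ : G →* MulAut ↥Q := MulAut.conjNormal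
  have hθk : θ.ker = centralizer (Q : Set G) := by
    ext g
    rw [MonoidHom.mem_ker, mem_centralizer_iff]
    constructor
    · intro h q hq
      have h1 : g * q * g⁻¹ = q := congrArg Subtype.val (MulEquiv.congr_fun h ⟨q, hq⟩)
      exact (mul_inv_eq_iff_eq_mul.mp h1).symm
    · intro h
      refine MulEquiv.ext fun q => Subtype.ext ?_
      show g * (q : G) * g⁻¹ = q
      rw [← h q q.2, mul_inv_cancel_right]
  have haut : ¬ IsPGroup 2 (MulAut ↥Q) := by
    intro h
    obtain ⟨k, hk⟩ := h (θ x)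
    rw [← map_pow, ← MonoidHom.mem_ker, hθk] at hk
    obtain ⟨m, hm⟩ := exists_pow_eq_self_of_coprime (x := x) (n := 2 ^ k)
      (by rw [hx]; exact Nat.Coprime.pow_left k ((Nat.coprime_primes Nat.prime_two hr).mpr (Ne.symm hr2)))
    exact hxnc (hm ▸ pow_mem hk m)
  obtain ⟨eQ⟩ : Nonempty (↥Q ≃* QuaternionGroup 2) := by
    rcases Cfsg.Agent.S1896.result hQp hm haut with h | ⟨n, ⟨e⟩⟩
    · exact h
    · exfalso
      have hcard : Nat.card ↥Q = 2 ^ n * 2 ^ n := by
        rw [Nat.card_congr e.toEquiv, Nat.card_prod]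
        simp
      have hexp : ∀ q : ↥Q, orderOf q ∣ 2 ^ n := fun q => by
        rw [← MulEquiv.orderOf_eq e]
        refine orderOf_dvd_of_pow_eq_one (Prod.ext ?_ ?_)
        · have h := pow_card_eq_one' (x := (e q).1)
          simpa using h
        · have h := pow_card_eq_one' (x := (e q).2)
          simpa using h
      have hn1 : n ≤ 1 := by
        have h := (zpowers d).index_mul_card
        rw [hcard, Nat.card_zpowers] at h
        have h1 : orderOf d ≤ 2 ^ n := Nat.le_of_dvd (by positivity) (hexp d)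
        have h2 : 2 ^ n * 2 ^ n ≤ 2 * 2 ^ n := by rw [← h]; exact Nat.mul_le_mul hdi h1
        have h3 : 2 ^ n ≤ 2 ^ 1 := by simpa using Nat.le_of_mul_le_mul_right h2 (by positivity)
        exact (Nat.pow_le_pow_iff_right (by norm_num)).mp h3
      have hQab : ∀ a b : ↥Q, a * b = b * a := fun a b => e.injective (by rw [map_mul, map_mul, mul_comm])
      have hQ4 : Nat.card ↥Q ≤ 4 := by
        rw [hcard]
        calc 2 ^ n * 2 ^ n ≤ 2 ^ 1 * 2 ^ 1 := Nat.mul_le_mul (Nat.pow_le_pow_right two_pos hn1) (Nat.pow_le_pow_right two_pos hn1)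
          _ = 4 := rfl
      -- the centre of `T`
      set Z := (T : Subgroup G) ⊓ centralizer ((T : Subgroup G) : Set G) with hZd
      haveI := hZ
      have hZQ : Z ≤ Q := CfsgLib.PReduced.le_pCore hZ (T.isPGroup'.to_le inf_le_left)
      have hTne : Nontrivial ↥(T : Subgroup G) := Finite.one_lt_card_iff_nontrivial.mp (by omega)
      obtain ⟨z, hz, hz1⟩ : ∃ z ∈ Z, z ≠ 1 := by
        haveI := T.isPGroup'.center_nontrivial
        obtain ⟨⟨⟨z, hzT⟩, hz⟩, hz1⟩ := exists_ne (1 : ↥(center ↥(T : Subgroup G)))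
        exact ⟨z, mem_inf.mpr ⟨hzT, mem_centralizer_iff.mpr fun t ht => congrArg Subtype.val (mem_center_iff.mp hz ⟨t, ht⟩)⟩,
          fun e => hz1 (Subtype.ext (Subtype.ext e))⟩
      have hZne : Z ≠ Q := by
        intro h
        have hTQ' : (T : Subgroup G) ≤ Q := fun t ht => hCQ (mem_centralizer_iff.mpr fun q hq =>
          (mem_centralizer_iff.mp (mem_inf.mp (h.symm ▸ hq : q ∈ Z)).2 t ht).symm)
        have := card_le_of_le hTQ'
        omega
      have hZlt : Nat.card Z < Nat.card ↥Q := lt_of_le_of_ne (card_le_of_le hZQ)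
        fun h => hZne (eq_of_le_of_card_ge hZQ h.ge)
      have hZ2 : Nat.card Z = 2 := by
        obtain ⟨k, hk⟩ := IsPGroup.iff_card.mp (hQp.to_le hZQ)
        have hk1 : 1 < Nat.card Z := (Subgroup.one_lt_card_iff_ne_bot _).mpr fun h => hz1 (mem_bot.mp (h ▸ hz))
        rw [hk] at hk1 hZlt ⊢
        rcases k with _ | _ | k
        · simp at hk1
        · rfl
        · exfalso
          have : 4 ≤ 2 ^ (k + 2) := by rw [pow_add]; norm_num; exact Nat.one_le_two_pow
          omega
      -- `Z` is central and `Q / Z` has order two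
      have hgz : ∀ g : G, g * z * g⁻¹ = z := fun g => by
        have h1 := hZ.conj_mem z hz g
        by_contra h2
        have h3 : ({1, z, g * z * g⁻¹} : Finset G).card = 3 := by
          rw [Finset.card_insert_of_notMem, Finset.card_insert_of_notMem, Finset.card_singleton]
          · simp [Ne.symm h2]
          · simp only [Finset.mem_insert, Finset.mem_singleton, not_or]
            exact ⟨Ne.symm hz1, fun e => hz1 (conj_eq_one_iff.mp e.symm)⟩
        have h4 : ({1, z, g * z * g⁻¹} : Finset G).card ≤ Nat.card Z := by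
          rw [← Nat.card_eq_finsetCard]
          refine Nat.card_le_card_of_injective (fun a => (⟨a.1, ?_⟩ : Z)) fun a b e => Subtype.ext (congrArg Subtype.val e :)
          have := a.2
          simp only [Finset.mem_insert, Finset.mem_singleton] at this
          rcases this with h | h | h <;> rw [h] <;> first | exact one_mem _ | exact hz | exact h1
        omega
      have hx2 : Odd (orderOf x) := hx ▸ hr.odd_of_ne_two hr2
      refine hxnc (mem_centralizer_iff.mpr fun q hq => ?_)
      have hfix : x * q * x⁻¹ = q := by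
        by_contra hne'
        -- `x` moves `q` to `q z`
        have hZfix : ∀ w ∈ Z, x * w * x⁻¹ = w := by
          intro w hw
          by_cases hw1 : w = 1
          · simp [hw1]
          · have : w = z := by
              by_contra hwz
              have h3 : ({1, z, w} : Finset G).card = 3 := by
                rw [Finset.card_insert_of_notMem, Finset.card_insert_of_notMem, Finset.card_singleton]
                · simp [Ne.symm hwz]
                · simp [Ne.symm hz1, Ne.symm hw1]
              have h4 : ({1, z, w} : Finset G).card ≤ Nat.card Z := by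
                rw [← Nat.card_eq_finsetCard]
                refine Nat.card_le_card_of_injective (fun a => (⟨a.1, ?_⟩ : Z)) fun a b e => Subtype.ext (congrArg Subtype.val e :)
                have := a.2
                simp only [Finset.mem_insert, Finset.mem_singleton] at this
                rcases this with h | h | h <;> rw [h] <;> first | exact one_mem _ | exact hz | exact hw
              omega
            rw [this]; exact hgz x
        have hidx : (Z.subgroupOf Q).index = 2 := by
          have h := (Z.subgroupOf Q).index_mul_card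
          rw [Nat.card_congr (subgroupOfEquivOfLe hZQ).toEquiv, hZ2] at h
          have h0 : 0 < (Z.subgroupOf Q).index := Nat.pos_of_ne_zero index_ne_zero_of_finite
          rw [hZ2] at hZlt
          obtain ⟨k, hk⟩ := IsPGroup.iff_card.mp hQp
          rw [hk] at h hZlt hQ4
          rcases k with _ | _ | _ | k
          · simp at hZlt
          · simp at hZlt
          · norm_num at h; omega
          · exfalso
            have : 8 ≤ 2 ^ (k + 3) := by rw [pow_add]; norm_num; exact Nat.one_le_two_pow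
            omega
        have hmem : ∀ g : G, g * q * g⁻¹ * q⁻¹ ∈ Z := by
          intro g
          have hgq : g * q * g⁻¹ ∈ Q := hQn.conj_mem q hq g
          have hqZ : q ∉ Z := fun h => hne' (hZfix q h)
          have hgqZ : g * q * g⁻¹ ∉ Z := fun h => hqZ (by simpa [mul_assoc] using hZ.conj_mem _ h g⁻¹)
          have h := mul_mem_iff_of_index_two hidx (a := (⟨g * q * g⁻¹, hgq⟩ : ↥Q)) (b := (⟨q, hq⟩ : ↥Q)⁻¹)
          rw [inv_mem_iff] at h
          exact h.mpr (iff_of_false hgqZ hqZ)
        set w := x * q * x⁻¹ * q⁻¹ with hw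
        have hwz : w ∈ Z := hmem x
        have hpow : ∀ j : ℕ, x ^ j * q * (x ^ j)⁻¹ = w ^ j * q := by
          intro j
          induction j with
          | zero => simp
          | succ j ih =>
            rw [pow_succ', show x * x ^ j * q * (x * x ^ j)⁻¹ = x * (x ^ j * q * (x ^ j)⁻¹) * x⁻¹ by group, ih,
              show x * (w ^ j * q) * x⁻¹ = x * w ^ j * x⁻¹ * (x * q * x⁻¹) by group, hZfix _ (pow_mem hwz j),
              show x * q * x⁻¹ = w * q by rw [hw]; group, pow_succ]
            group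
        have h1 := hpow r
        rw [← hx, pow_orderOf_eq_one, inv_one, one_mul, mul_one] at h1
        have h2 : w ^ orderOf x = 1 := mul_eq_right.mp h1.symm
        have h3 : w ^ 2 = 1 := by
          rw [← hZ2]
          have h4 := congrArg Subtype.val (pow_card_eq_one' (x := (⟨w, hwz⟩ : Z)))
          rwa [Subgroup.coe_pow, Subgroup.coe_one] at h4
        obtain ⟨j, hj⟩ := hx2
        rw [hj, pow_succ, pow_mul, h3, one_pow, one_mul] at h2
        exact hne' (mul_inv_eq_one.mp h2)
      exact (mul_inv_eq_iff_eq_mul.mp hfix).symm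
  -- the action on `Q`
  have hQ8 : Nat.card ↥Q = 8 := by rw [Nat.card_congr eQ.toEquiv, Nat.card_eq_fintype_card, QuaternionGroup.card]
  obtain ⟨ψ⟩ := Cfsg.Agent.S3742.result
  let f : G →* Equiv.Perm (Fin 4) := (ψ.toMonoidHom.comp (MulAut.congr eQ).toMonoidHom).comp θ
  have hfk : f.ker = centralizer (Q : Set G) := by
    rw [← hθk]
    ext g
    rw [MonoidHom.mem_ker, MonoidHom.mem_ker]
    show ψ (MulAut.congr eQ (θ g)) = 1 ↔ θ g = 1
    rw [map_eq_one_iff ψ ψ.injective, map_eq_one_iff (MulAut.congr eQ) (MulAut.congr eQ).injective]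
  have hker : ∀ g : G, f g = 1 → g ∈ Q ∧ (g * g = 1) := fun g hg => by
    have hgc : g ∈ centralizer (Q : Set G) := hfk ▸ hg
    have hgQ := hCQ hgc
    refine ⟨hgQ, ?_⟩
    have h1 : eQ ⟨g, hgQ⟩ = 1 ∨ eQ ⟨g, hgQ⟩ = QuaternionGroup.a 2 := qDihedralFacts.2.1 _ fun s => by
      obtain ⟨s, rfl⟩ := eQ.surjective s
      rw [← map_mul, ← map_mul]
      exact congrArg eQ (Subtype.ext (mem_centralizer_iff.mp hgc s s.2))
    have h2 : eQ (⟨g, hgQ⟩ * ⟨g, hgQ⟩) = 1 := by
      rw [map_mul]
      rcases h1 with h | h <;> rw [h] <;> decide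
    exact congrArg Subtype.val ((map_eq_one_iff eQ eQ.injective).mp h2)
  have hkcard : Nat.card f.ker = 2 := by
    have e : f.ker = (center ↥Q).map Q.subtype := by
      rw [hfk]
      refine le_antisymm (fun g hg => ⟨⟨g, hCQ hg⟩, mem_center_iff.mpr fun q => Subtype.ext (mem_centralizer_iff.mp hg q q.2), rfl⟩) ?_
      rintro _ ⟨g, hg, rfl⟩
      exact mem_centralizer_iff.mpr fun q hq => congrArg Subtype.val (mem_center_iff.mp hg ⟨q, hq⟩)
    rw [e, card_map_of_injective Q.subtype_injective]
    have e2 : center ↥Q = zpowers (eQ.symm (QuaternionGroup.a 2)) := by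
      refine le_antisymm (fun g hg => ?_) (zpowers_le.mpr (mem_center_iff.mpr fun s => eQ.injective ?_))
      · rcases qDihedralFacts.2.1 (eQ g) (fun s => by
          obtain ⟨s, rfl⟩ := eQ.surjective s
          rw [← map_mul, ← map_mul, mem_center_iff.mp hg s]) with h | h
        · rw [(map_eq_one_iff eQ eQ.injective).mp h]; exact one_mem _
        · rw [← h, MulEquiv.symm_apply_apply]; exact mem_zpowers g
      · rw [map_mul, map_mul, MulEquiv.apply_symm_apply]
        generalize eQ s = u
        revert u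
        decide
    rw [e2, Nat.card_zpowers, MulEquiv.orderOf_eq]
    exact orderOf_eq_prime (by decide) (by decide)
  have hG : Nat.card G = 2 * Nat.card f.range := by
    rw [f.ker.card_eq_card_quotient_mul_card_subgroup, hkcard, mul_comm,
      Nat.card_congr (QuotientGroup.quotientKerEquivRange f).toEquiv]
  have hrange : Nat.card f.range ∣ 24 := by
    have h := card_subgroup_dvd_card f.range
    rwa [show Nat.card (Equiv.Perm (Fin 4)) = 24 by rw [Nat.card_perm, Nat.card_fin]; rfl] at h
  have hr3 : r = 3 := by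
    have h1 : r ∣ 2 * 24 := hrd.trans (hG ▸ mul_dvd_mul_left 2 hrange)
    have h2 : r ≤ 48 := Nat.le_of_dvd (by norm_num) h1
    have h3 := hr.two_le
    interval_cases r <;> first | rfl | omega | (norm_num at hr) | (norm_num at h1)
  subst hr3
  have hT16 : 16 ∣ Nat.card G := by
    obtain ⟨k, hk⟩ := IsPGroup.iff_card.mp T.isPGroup'
    have hne' : Nat.card ↥(T : Subgroup G) ≠ 8 := fun h => hTQ ⟨(MulEquiv.subgroupCongr
      (eq_of_le_of_card_ge hQT (h.trans hQ8.symm).le).symm).trans eQ⟩
    rcases le_or_gt k 3 with h | h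
    · exfalso
      have : 2 ^ k ≤ 2 ^ 3 := Nat.pow_le_pow_right two_pos h
      omega
    · exact (show 16 ∣ 2 ^ k from (pow_dvd_pow 2 (show 4 ≤ k by omega))).trans (hk ▸ card_subgroup_dvd_card _)
  have hG48 : Nat.card G = 48 := by
    have h1 : 3 * 16 ∣ Nat.card G := Nat.Coprime.mul_dvd_of_dvd_of_dvd (by norm_num) hrd hT16
    have h2 : Nat.card G ∣ 48 := hG ▸ mul_dvd_mul_left 2 hrange
    exact Nat.dvd_antisymm h2 h1
  have hsurj : Function.Surjective f := MonoidHom.range_eq_top.mp (eq_top_of_card_eq _ (by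
    rw [Nat.card_perm, Nat.card_fin]
    have : Nat.factorial 4 = 24 := rfl
    omega))
  let s : G →* ℤˣ := Equiv.Perm.sign.comp f
  set U := s.ker with hU
  have hQU : Q ≤ U := fun q hq => by
    by_contra hqU
    have hs : Equiv.Perm.sign (f q) = -1 := (Int.units_eq_one_or _).resolve_left hqU
    obtain ⟨τ, h3, h1⟩ := odd_perm_conj _ hs
    obtain ⟨g, rfl⟩ := hsurj τ
    rw [← map_inv, ← map_mul, ← map_mul, ← map_mul] at h3 h1
    obtain ⟨k, hk⟩ := hQp ⟨_, Q.mul_mem hq (hQn.conj_mem q hq g)⟩
    have h4 : f (q * (g * q * g⁻¹)) ^ 2 ^ k = 1 := by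
      rw [← map_pow, show (q * (g * q * g⁻¹)) ^ 2 ^ k = 1 by simpa using congrArg Subtype.val hk, map_one]
    exact h1 (orderOf_eq_one_iff.mp (Nat.eq_one_of_dvd_coprimes
      (Nat.Coprime.pow_right k (by norm_num : Nat.Coprime 3 2)) (orderOf_dvd_of_pow_eq_one h3) (orderOf_dvd_of_pow_eq_one h4)))
  have hUcard : Nat.card U = 24 := by
    have hs : Function.Surjective s := by
      intro u
      rcases Int.units_eq_one_or u with rfl | rfl
      · exact ⟨1, map_one s⟩
      · obtain ⟨g, hg⟩ := hsurj (Equiv.swap 0 1)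
        exact ⟨g, by show Equiv.Perm.sign (f g) = _; rw [hg, Equiv.Perm.sign_swap (by decide)]⟩
    have h := U.index_mul_card
    rw [hU] at h ⊢
    rw [index_ker, MonoidHom.range_eq_top.mpr hs, card_top, hG48, Nat.card_eq_fintype_card (α := ℤˣ),
      Fintype.card_units_int] at h
    omega
  refine ⟨U, inferInstance, CfsgLib.RegularLinear.iso_SL23 hUcard (Q.subgroupOf U)
    ((subgroupOfEquivOfLe hQU).trans eQ) ?_⟩
  rintro ⟨M, hMn, hM⟩
  have hsq : ∀ u : ↥U, u * u ∈ M := fun u => (mul_mem_iff_of_index_two hM).mpr Iff.rfl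
  have hkM : ∀ u : ↥U, f u = 1 → u ∈ M := by
    intro u hu
    obtain ⟨huQ, hu2⟩ := hker _ hu
    rcases qDihedralFacts.1 (eQ ⟨u, huQ⟩) (by
      rw [← map_mul]; exact (map_eq_one_iff eQ eQ.injective).mpr (Subtype.ext hu2)) with h | h
    · have : u = 1 := Subtype.ext (by simpa using congrArg Subtype.val ((map_eq_one_iff eQ eQ.injective).mp h))
      rw [this]; exact one_mem M
    · set a1 := eQ.symm (QuaternionGroup.a 1) with ha1
      have h4 : (⟨u, huQ⟩ : ↥Q) = a1 * a1 := eQ.injective (by
        rw [h, map_mul, ha1, MulEquiv.apply_symm_apply, qDihedralFacts.2.2])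
      rw [show u = ⟨(a1 : G), hQU a1.2⟩ * ⟨(a1 : G), hQU a1.2⟩ from Subtype.ext (congrArg Subtype.val h4 :)]
      exact hsq _
  have : M = ⊤ := top_le_iff.mp fun u _ => by
    obtain ⟨a, b, ha, hb, hab⟩ := even_perm_squares (f u) u.2
    obtain ⟨a', rfl⟩ := hsurj a
    obtain ⟨b', rfl⟩ := hsurj b
    set v : ↥U := ⟨a', ha⟩ * ⟨a', ha⟩ * (⟨b', hb⟩ * ⟨b', hb⟩) with hv
    rw [show u = v * (v⁻¹ * u) by group]
    refine M.mul_mem (M.mul_mem (hsq _) (hsq _)) (hkM _ ?_)
    show f (((v : ↥U) : G)⁻¹ * (u : G)) = 1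
    rw [map_mul, map_inv, hab, hv]
    simp
    group
  rw [this, index_top] at hM
  omega

end Cfsg.Agent.S2879
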