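import Cfsg.Statements.S2880
import Cfsg.Agent.PReduced.Hom
import Mathlib.Algebra.BigOperators.Fin

set_option autoImplicit false
open Cfsg

namespace Cfsg.Agent.S2880

open Subgroup in
/-- Squares in a finite group lie in subgroups of index two. -/
theorem sq_mem_center {E : Type*} [Group E] [Finite E] (hE : Cfsg.IsExtraspecial 2 E) (e : E) :
    e * e ∈ center E := by
  rw [← hE.1.2.1, frattini, Order.radical, mem_iInf]
  intro M
  rw [mem_iInf]
  intro hM
  haveI : Group.IsNilpotent E := hE.1.1.isNilpotent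
  haveI : M.Normal := Subgroup.NormalizerCondition.normal_of_coatom M Group.normalizerCondition_of_isNilpotent hM
  obtain ⟨k, hk⟩ := IsPGroup.iff_card.mp (hE.1.1.to_quotient M)
  have hk0 : k ≠ 0 := by
    rintro rfl
    exact hM.1 (index_eq_one.mp (by rw [index, hk, pow_zero]))
  obtain ⟨x, hx⟩ := exists_prime_orderOf_dvd_card' 2 (G := E ⧸ M) (hk ▸ dvd_pow_self 2 hk0)
  have hle : M ≤ (zpowers x).comap (QuotientGroup.mk' M) := fun y hy => by
    rw [mem_comap, QuotientGroup.mk'_apply, (QuotientGroup.eq_one_iff y).mpr hy]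
    exact one_mem _
  have hidx : M.index = 2 := by
    rcases hM.le_iff.mp hle with h | h
    · have : zpowers x = ⊤ :=
        comap_injective (QuotientGroup.mk'_surjective M) (h.trans (comap_top _).symm)
      rw [index, ← Subgroup.card_top, ← this, Nat.card_zpowers, hx]
    · have : zpowers x = ⊥ :=
        comap_injective (QuotientGroup.mk'_surjective M) (h.trans (by rw [MonoidHom.comap_bot, QuotientGroup.ker_mk']))
      rw [zpowers_eq_bot] at this
      rw [this, orderOf_one] at hx
      omega
  exact mul_self_mem_of_index_two hidx e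

open Subgroup in
/-- The count of elements of order 4. -/
theorem count {E : Type*} [Group E] [Finite E] (m : ℕ) (hE : Cfsg.IsExtraspecial 2 E)
    (hcard : Nat.card E = 2 ^ (2 * m + 1)) (A : Subgroup E) (hA : Cfsg.IsElementaryAbelian 2 A)
    (hAc : Nat.card A = 2 ^ (m + 1)) : 2 * Nat.card {x : E // orderOf x = 4} = 2 ^ (2 * m + 1) - 2 ^ (m + 1) := by
  classical
  have hE' := hE
  obtain ⟨⟨-, -, hcom⟩, hZ⟩ := hE
  let : Fintype E := Fintype.ofFinite _
  obtain ⟨⟨z, hzc⟩, hz0⟩ := exists_prime_orderOf_dvd_card' 2 (G := center E) (hZ.symm ▸ dvd_rfl)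
  have hz : orderOf z = 2 := (Subgroup.orderOf_coe (⟨z, hzc⟩ : center E)).trans hz0
  have hzz : z * z = 1 := by rw [← pow_two, ← hz]; exact pow_orderOf_eq_one z
  have hz1 : z ≠ 1 := fun h => by rw [h, orderOf_one] at hz; omega
  have hcen : ∀ c ∈ center E, c = 1 ∨ c = z := by
    intro c hc
    have hgen : zpowers (⟨z, hzc⟩ : center E) = ⊤ :=
      zpowers_eq_top_of_prime_card hZ (fun h => hz1 (congrArg Subtype.val h))
    obtain ⟨i, hi⟩ := mem_zpowers_iff.mp (hgen ▸ mem_top (⟨c, hc⟩ : center E))
    have hi' : z ^ i = c := congrArg Subtype.val hi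
    rw [← zpow_mod_orderOf, hz, Nat.cast_ofNat] at hi'
    rcases Int.emod_two_eq_zero_or_one i with h | h <;> rw [h] at hi'
    · exact Or.inl (hi'.symm.trans (zpow_zero z))
    · exact Or.inr (hi'.symm.trans (zpow_one z))
  have hcomm : ∀ a b : E, a * b * a⁻¹ * b⁻¹ = 1 ∨ a * b * a⁻¹ * b⁻¹ = z := fun a b =>
    hcen _ (hcom ▸ commutator_mem_commutator (mem_top a) (mem_top b))
  -- orthogonality: the centralizer of `A` is `A`
  let χ : E → E → ℤ := fun a b => if a * b = b * a then 1 else -1
  have hflip : ∀ a₀ b : E, a₀ * b ≠ b * a₀ → ∀ a, χ (a₀ * a) b = - χ a b := by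
    intro a₀ b h0 a
    have hab0 : a₀ * b * a₀⁻¹ * b⁻¹ = z := (hcomm a₀ b).resolve_left
      (fun h => h0 (mul_inv_eq_iff_eq_mul.mp (mul_inv_eq_one.mp h)))
    have e1 : a₀ * b = z * (b * a₀) := by rw [← hab0]; group
    have hzc' : ∀ g : E, g * z = z * g := mem_center_iff.mp hzc
    rcases hcomm a b with h | h
    · have h' : a * b = b * a := mul_inv_eq_iff_eq_mul.mp (mul_inv_eq_one.mp h)
      have hne : a₀ * a * b ≠ b * (a₀ * a) := by
        rw [mul_assoc, h', ← mul_assoc, e1, mul_assoc, mul_assoc]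
        intro heq
        exact hz1 (mul_eq_right.mp (heq.trans (by group)))
      simp only [χ, if_pos h', if_neg hne]
    · have e2 : a * b = z * (b * a) := by rw [← h]; group
      have hne : a * b ≠ b * a := fun heq => hz1 (mul_eq_right.mp (e2.symm.trans heq))
      have heq : a₀ * a * b = b * (a₀ * a) := by
        rw [mul_assoc, e2, ← mul_assoc, hzc', mul_assoc, ← mul_assoc a₀, e1, ← mul_assoc z, ← mul_assoc, hzz]
        group
      simp only [χ, if_neg hne, if_pos heq, neg_neg]
  have hsum : ∀ (B : Subgroup E) (b : E), ∑ a : B, χ a b =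
      if (∀ a ∈ B, a * b = b * a) then (Nat.card B : ℤ) else 0 := by
    intro B b
    split_ifs with h
    · rw [Finset.sum_congr rfl (g := fun _ => (1 : ℤ)) (fun (a : B) _ => if_pos (h a a.2))]
      simp [Nat.card_eq_fintype_card]
    · push Not at h
      obtain ⟨a₀, ha₀, h0⟩ := h
      have key : ∑ a : B, χ a b = ∑ a : B, - χ a b := by
        rw [← Equiv.sum_comp (Equiv.mulLeft (⟨a₀, ha₀⟩ : B))]
        exact Finset.sum_congr rfl fun a _ => hflip a₀ b h0 a
      rw [Finset.sum_neg_distrib] at key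
      omega
  have hAcomm : ∀ a ∈ A, ∀ b ∈ A, a * b = b * a := fun a ha b hb =>
    congrArg Subtype.val (hA.1.is_comm.comm (⟨a, ha⟩ : A) ⟨b, hb⟩)
  have hCA : ∀ x, (∀ a ∈ A, a * x = x * a) → x ∈ A := by
    set C := centralizer (A : Set E) with hC
    have hAC : A ≤ C := fun a ha => mem_centralizer_iff.mpr fun b hb => hAcomm b hb a ha
    have h1 : ∑ a : A, ∑ b : E, χ a b = (Nat.card A : ℤ) * Nat.card C := by
      rw [Finset.sum_comm, Finset.sum_congr rfl (fun b _ => hsum A b), ← Finset.sum_filter, Finset.sum_const,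
        nsmul_eq_mul, mul_comm, Nat.card_eq_fintype_card (α := C)]
      congr 2
      rw [← Fintype.card_coe]
      refine Fintype.card_congr ⟨fun b => ⟨b.1, mem_centralizer_iff.mpr (Finset.mem_filter.mp b.2).2⟩,
        fun b => ⟨b.1, Finset.mem_filter.mpr ⟨Finset.mem_univ _, mem_centralizer_iff.mp b.2⟩⟩,
        fun _ => rfl, fun _ => rfl⟩
    have h2 : ∀ a : A, ∑ b : E, χ a b = if (a : E) ∈ center E then (Nat.card E : ℤ) else 0 := by
      intro a
      have := hsum ⊤ (a : E)
      simp only [mem_top, forall_true_left, Subgroup.card_top] at this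
      rw [← (Equiv.subtypeUnivEquiv (fun b : E => mem_top b)).sum_comp]
      have hsym : ∀ b : E, χ (a : E) b = χ b a := fun b => by simp only [χ, eq_comm]
      simp only [hsym, Equiv.subtypeUnivEquiv_apply]
      convert this using 2
      · simp [mem_center_iff]
      · exact_mod_cast (Nat.card_congr (Equiv.subtypeUnivEquiv fun _ => trivial)).symm
    rw [Finset.sum_congr rfl (fun a _ => h2 a), ← Finset.sum_filter, Finset.sum_const, nsmul_eq_mul] at h1
    have h3 : (Finset.univ.filter fun a : A => (a : E) ∈ center E).card ≤ 2 := by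
      refine le_trans ?_ (le_of_eq (show (Finset.univ : Finset (center E)).card = 2 by
        rw [Finset.card_univ, ← Nat.card_eq_fintype_card, hZ]))
      exact Finset.card_le_card_of_injOn (fun a => if h : (a : E) ∈ center E then (⟨a, h⟩ : center E) else 1)
        (by intro a _; simp) (by
          intro a ha b hb hab
          simp only [Finset.coe_filter, Finset.mem_univ, true_and, Set.mem_setOf_eq] at ha hb
          simp only [dif_pos ha, dif_pos hb, Subtype.mk.injEq] at hab
          exact Subtype.ext hab)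
    have h4 : (Nat.card A : ℤ) * Nat.card C ≤ 2 * Nat.card E := by
      rw [← h1]
      exact mul_le_mul_of_nonneg_right (by exact_mod_cast h3) (Int.natCast_nonneg _)
    have h5 : Nat.card C ≤ Nat.card A := by
      have h6 : Nat.card A * Nat.card C ≤ 2 * Nat.card E := by exact_mod_cast h4
      rw [hAc, hcard, show 2 * 2 ^ (2 * m + 1) = 2 ^ (m + 1) * 2 ^ (m + 1) by ring] at h6
      exact hAc ▸ Nat.le_of_mul_le_mul_left h6 (by positivity)
    intro x hx
    rw [eq_of_le_of_card_ge hAC h5]
    exact mem_centralizer_iff.mpr hx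
  -- elements of order 4 are those with square `z`
  have hsq : ∀ e : E, e * e = 1 ∨ e * e = z := fun e => hcen _ (Cfsg.Agent.S2880.sq_mem_center hE' e)
  have hA2 : ∀ a ∈ A, a * a = 1 := fun a ha => by rw [← pow_two]; exact hA.2 a ha
  have h4iff : ∀ e : E, orderOf e = 4 ↔ e * e = z := by
    intro e
    constructor
    · intro he
      refine (hsq e).resolve_left fun h => ?_
      have := orderOf_dvd_of_pow_eq_one (show e ^ 2 = 1 by rw [pow_two, h])
      rw [he] at this
      omega
    · intro he
      refine orderOf_eq_prime_pow (p := 2) (n := 1) ?_ ?_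
      · rw [pow_one, pow_two, he]
        exact hz1
      · rw [show 2 ^ (1 + 1) = 2 * 2 from rfl, pow_mul, pow_two e, he, pow_two, hzz]
  -- a shift on each coset outside `A`
  have hex : ∀ q : E ⧸ A, ∀ e : E, QuotientGroup.mk e = q → e ∉ A →
      ∃ a₀ : A, ∀ e' : E, QuotientGroup.mk e' = q → (a₀ : E) * e' ≠ e' * a₀ := by
    intro q e he heA
    have : ∃ a ∈ A, a * e ≠ e * a := by
      by_contra h
      push Not at h
      exact heA (hCA e h)
    obtain ⟨a₀, ha₀, h0⟩ := this
    refine ⟨⟨a₀, ha₀⟩, fun e' he' heq => h0 ?_⟩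
    have hb : e⁻¹ * e' ∈ A := QuotientGroup.eq.mp (he.trans he'.symm)
    calc a₀ * e = a₀ * e' * (e⁻¹ * e')⁻¹ := by group
      _ = e' * a₀ * (e⁻¹ * e')⁻¹ := by rw [show a₀ * e' = e' * a₀ from heq]
      _ = e' * (a₀ * (e⁻¹ * e')⁻¹) := mul_assoc _ _ _
      _ = e' * ((e⁻¹ * e')⁻¹ * a₀) := by rw [hAcomm a₀ ha₀ _ (inv_mem hb)]
      _ = e * a₀ := by group
  let sh : E ⧸ A → A := fun q =>
    if h : ∃ a₀ : A, ∀ e' : E, QuotientGroup.mk e' = q → (a₀ : E) * e' ≠ e' * a₀ then h.choose else 1
  have hsh : ∀ e : E, e ∉ A → (sh e : E) * e ≠ e * sh e := by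
    intro e he
    have h := hex (QuotientGroup.mk e) e rfl he
    simp only [sh, dif_pos h]
    exact h.choose_spec e rfl
  let φ : E → E := fun e => e * (sh e : E)
  have hmk : ∀ e : E, (QuotientGroup.mk (φ e) : E ⧸ A) = QuotientGroup.mk e := fun e => by
    simp [φ, QuotientGroup.eq]
  have hinv : Function.Involutive φ := fun e => by
    show φ e * (sh (φ e) : E) = e
    rw [hmk e]
    show e * (sh e : E) * (sh e : E) = e
    rw [mul_assoc, hA2 _ (sh e).2, mul_one]
  have hnot : ∀ e : E, e ∉ A → φ e ∉ A := fun e he h => he (by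
    simpa [φ] using mul_mem h (inv_mem (sh e).2))
  have hflip2 : ∀ e : E, e ∉ A → φ e * φ e ≠ e * e := by
    intro e he h
    refine hsh e he ?_
    have h1 : (sh e : E) * e * (sh e : E) = e := mul_left_cancel (a := e) (by simpa [φ, mul_assoc] using h)
    calc (sh e : E) * e = (sh e : E) * e * ((sh e : E) * (sh e : E)) := by rw [hA2 _ (sh e).2, mul_one]
      _ = (sh e : E) * e * (sh e : E) * (sh e : E) := by group
      _ = e * sh e := by rw [h1]
  let T := Finset.univ.filter fun e : E => e * e = z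
  let U := Finset.univ.filter fun e : E => e ∉ A ∧ e * e = 1
  have hTA : ∀ e ∈ T, e ∉ A := fun e he h => hz1 ((Finset.mem_filter.mp he).2 ▸ hA2 e h)
  have hTU : T.card = U.card := by
    refine Finset.card_nbij' φ φ (fun e he => ?_) (fun e he => ?_) (fun e _ => hinv e) (fun e _ => hinv e)
    · have := hflip2 e (hTA e he)
      rw [(Finset.mem_filter.mp he).2] at this
      exact Finset.mem_filter.mpr ⟨Finset.mem_univ _, hnot e (hTA e he), (hsq _).resolve_right this⟩
    · obtain ⟨he1, he2⟩ := (Finset.mem_filter.mp he).2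
      have := hflip2 e he1
      rw [he2] at this
      exact Finset.mem_filter.mpr ⟨Finset.mem_univ _, (hsq _).resolve_left this⟩
  have hdisj : Disjoint T U := Finset.disjoint_left.mpr fun e h1 h2 =>
    hz1 ((Finset.mem_filter.mp h1).2.symm.trans (Finset.mem_filter.mp h2).2.2)
  have hunion : (T ∪ U).card = Nat.card E - Nat.card A := by
    have h1 : T ∪ U = (Finset.univ.filter fun e : E => e ∈ A)ᶜ := by
      ext e
      simp only [Finset.mem_union, Finset.mem_compl, Finset.mem_filter, Finset.mem_univ, true_and, T, U]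
      constructor
      · rintro (h | ⟨h, -⟩) hA'
        · exact hz1 (h ▸ hA2 e hA')
        · exact h hA'
      · intro h
        rcases hsq e with h1 | h1
        · exact Or.inr ⟨h, h1⟩
        · exact Or.inl h1
    rw [h1, Finset.card_compl, Nat.card_eq_fintype_card, Nat.card_eq_fintype_card, Fintype.card_subtype]
  rw [Nat.card_eq_fintype_card, Fintype.card_subtype, Finset.filter_congr (fun e _ => h4iff e)]
  rw [Finset.card_union_of_disjoint hdisj, hcard, hAc, ← hTU] at hunion
  change 2 * T.card = _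
  omega

/-- Let E be an extraspecial 2-group of order 2^(2m+1) of plus type, that is, containing an elementary abelian subgroup of order 2^(m+1) (equivalently, a central product of m dihedral groups of order 8). Then E has exactly 2^(2m) − 2^m elements of order 4. -/
theorem result {E : Type*} [Group E] [Finite E] (m : ℕ) (hm : 1 ≤ m) (hE : Cfsg.IsExtraspecial 2 E) (hcard : Nat.card E = 2 ^ (2 * m + 1)) (hplus : ∃ A : Subgroup E, Cfsg.IsElementaryAbelian 2 A ∧ Nat.card A = 2 ^ (m + 1)) : Nat.card {x : E // orderOf x = 4} = 2 ^ (2 * m) - 2 ^ m := by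
  obtain ⟨A, hA, hAc⟩ := hplus
  have h := count m hE hcard A hA hAc
  have h1 : 2 ^ (2 * m + 1) = 2 * 2 ^ (2 * m) := by ring
  have h2 : 2 ^ (m + 1) = 2 * 2 ^ m := by ring
  omega

end Cfsg.Agent.S2880
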