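import Cfsg.Statements.S2881
import Cfsg.Agent.S2880

set_option autoImplicit false
open Cfsg

namespace Cfsg.Agent.S2881

/-- Let E be an extraspecial 2-group of order 2^(2m+1) of plus type (containing an elementary abelian subgroup of order 2^(m+1)), and let ω be an automorphism of E of order 5 whose fixed points are exactly the centre of E. Then m is divisible by 4. -/
theorem result {E : Type*} [Group E] [Finite E] (m : ℕ) (hm : 1 ≤ m) (hE : Cfsg.IsExtraspecial 2 E) (hcard : Nat.card E = 2 ^ (2 * m + 1)) (hplus : ∃ A : Subgroup E, Cfsg.IsElementaryAbelian 2 A ∧ Nat.card A = 2 ^ (m + 1)) (ω : E ≃* E) (hω : orderOf ω = 5) (hfix : ∀ x : E, ω x = x ↔ x ∈ Subgroup.center E) : 4 ∣ m := by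
  have h4 := Cfsg.Agent.S2880.result m hm hE hcard hplus
  haveI : Fact (Nat.Prime 5) := ⟨Nat.prime_five⟩
  let : MulAction (Subgroup.zpowers ω) {x : E // orderOf x = 4} :=
    { smul := fun a x => ⟨(a : MulAut E) x.1, by rw [MulEquiv.orderOf_eq]; exact x.2⟩
      one_smul := fun x => Subtype.ext rfl
      mul_smul := fun a b x => Subtype.ext rfl }
  have hp : IsPGroup 5 (Subgroup.zpowers (G := MulAut E) ω) :=
    IsPGroup.of_card (n := 1) (by rw [Nat.card_zpowers, pow_one]; exact hω)
  have hmod := hp.card_modEq_card_fixedPoints {x : E // orderOf x = 4}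
  have hnone : Nat.card (MulAction.fixedPoints (Subgroup.zpowers (G := MulAut E) ω) {x : E // orderOf x = 4}) = 0 := by
    haveI : IsEmpty (MulAction.fixedPoints (Subgroup.zpowers (G := MulAut E) ω) {x : E // orderOf x = 4}) := by
      refine ⟨fun x => ?_⟩
      obtain ⟨⟨e, he⟩, hfx⟩ := x
      have h1 : ω e = e := congrArg Subtype.val (hfx ⟨ω, Subgroup.mem_zpowers ω⟩)
      have h2 : orderOf e ∣ 2 := by
        rw [← hE.2]
        exact (Subgroup.orderOf_coe (⟨e, (hfix e).mp h1⟩ : Subgroup.center E)).symm ▸ orderOf_dvd_natCard _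
      rw [he] at h2
      exact absurd h2 (by decide)
    exact Nat.card_of_isEmpty
  rw [hnone, Nat.modEq_zero_iff_dvd, h4] at hmod
  have h5 : 5 ∣ 2 ^ m * (2 ^ m - 1) := by
    rw [Nat.mul_sub, mul_one, ← pow_add, ← two_mul]
    exact hmod
  have h6 : 5 ∣ 2 ^ m - 1 := (Nat.Coprime.dvd_of_dvd_mul_left (Nat.Coprime.pow_right m (by norm_num)) h5)
  have h7 : 2 ^ m % 5 = 1 := by
    have := Nat.one_le_two_pow (n := m)
    omega
  rw [← Nat.div_add_mod m 4, pow_add, pow_mul, Nat.mul_mod, Nat.pow_mod] at h7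
  have hlt : m % 4 < 4 := Nat.mod_lt _ (by norm_num)
  have : m % 4 = 0 := by
    interval_cases hr : m % 4 <;> simp_all
  omega

end Cfsg.Agent.S2881
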