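import Cfsg.Statements.S2911
import Cfsg.Agent.S2872
import Cfsg.Agent.PReduced.Hom
import Cfsg.Agent.Transfer.Residual
import Mathlib.GroupTheory.SpecificGroups.Dihedral
import Mathlib.Tactic.FinCases

set_option autoImplicit false
open Cfsg

namespace Cfsg.Agent.S2911

local notation "P" => Multiplicative (ZMod 2) × DihedralGroup 4

/-- The only nontrivial square. -/
theorem sq_cases : ∀ x : P, x * x = 1 ∨ x * x = (1, DihedralGroup.r 2) := by decide

/-- The center. -/
theorem central_cases : ∀ a : P, (∀ x : P, x * a = a * x) → a = 1 ∨ a = (1, DihedralGroup.r 2) ∨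
    a = (Multiplicative.ofAdd 1, 1) ∨ a = (Multiplicative.ofAdd 1, DihedralGroup.r 2) := by decide

/-- An automorphism acts with exponent two on the center. -/
theorem center_involutive (σ : P ≃* P) (a : P) (ha : ∀ x : P, x * a = a * x) : σ (σ a) = a := by
  have hc : σ (1, DihedralGroup.r 2) = (1, DihedralGroup.r 2) := by
    have e : ((1, DihedralGroup.r 2) : P) = (1, DihedralGroup.r 1) * (1, DihedralGroup.r 1) := by decide
    rcases sq_cases (σ (1, DihedralGroup.r 1)) with h | h
    · rw [← map_mul, ← e, ← map_one σ] at h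
      exact absurd (σ.injective h) (by decide)
    · rw [← map_mul, ← e] at h
      exact h
  have hu : σ (Multiplicative.ofAdd 1, 1) = (Multiplicative.ofAdd 1, 1) ∨
      σ (Multiplicative.ofAdd 1, 1) = (Multiplicative.ofAdd 1, DihedralGroup.r 2) := by
    have hcen : ∀ x : P, x * σ (Multiplicative.ofAdd 1, 1) = σ (Multiplicative.ofAdd 1, 1) * x := fun x => by
      obtain ⟨y, rfl⟩ := σ.surjective x
      rw [← map_mul, ← map_mul]
      congr 1
      revert y; decide
    rcases central_cases _ hcen with h | h | h | h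
    · rw [← map_one σ] at h
      exact absurd (σ.injective h) (by decide)
    · rw [← hc] at h
      exact absurd (σ.injective h) (by decide)
    · exact Or.inl h
    · exact Or.inr h
  have hu2 : σ (σ (Multiplicative.ofAdd 1, 1)) = (Multiplicative.ofAdd 1, 1) := by
    have e : ((Multiplicative.ofAdd 1, DihedralGroup.r 2) : P) = (Multiplicative.ofAdd 1, 1) * (1, DihedralGroup.r 2) := by
      decide
    rcases hu with h | h
    · rw [h, h]
    · rw [h, e, map_mul, hc, h]
      decide
  rcases central_cases a ha with rfl | rfl | rfl | rfl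
  · rw [map_one, map_one]
  · rw [hc, hc]
  · exact hu2
  · rw [show ((Multiplicative.ofAdd 1, DihedralGroup.r 2) : P) = (Multiplicative.ofAdd 1, 1) * (1, DihedralGroup.r 2)
      by decide, map_mul, map_mul, hu2, hc, hc]

open Subgroup in
/-- The normalizer of a Sylow 2-subgroup `C2 × D8` fixes its center. -/
theorem normalizer_fixes {G : Type*} [Group G] [Finite G] (S : Sylow 2 G) (φ : ↥(S : Subgroup G) ≃* P)
    {g : G} (hg : g ∈ normalizer ((S : Subgroup G) : Set G)) {z : G} (hzS : z ∈ (S : Subgroup G))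
    (hzc : ∀ s ∈ (S : Subgroup G), s * z = z * s) : g * z * g⁻¹ = z := by
  let κ : ↥(S : Subgroup G) ≃* ↥(S : Subgroup G) := (MulEquiv.subgroupMap (MulAut.conj g) (S : Subgroup G)).trans
    (MulEquiv.subgroupCongr (mem_normalizer_iff_map_conj_eq.mp hg))
  have h2 : g * (g * z * g⁻¹) * g⁻¹ = z := by
    have h := center_involutive ((φ.symm.trans κ).trans φ) (φ ⟨z, hzS⟩) (fun x => by
      obtain ⟨⟨s, hs⟩, rfl⟩ := φ.surjective x
      rw [← map_mul, ← map_mul]
      exact congrArg φ (Subtype.ext (hzc s hs)))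
    simp only [MulEquiv.trans_apply, MulEquiv.symm_apply_apply, EmbeddingLike.apply_eq_iff_eq] at h
    exact congrArg Subtype.val h
  -- an odd power of `g` lies in `S`
  obtain ⟨a, m, hm, hgm⟩ := Nat.exists_eq_pow_mul_and_not_dvd (orderOf_pos g).ne' 2 (by norm_num)
  have hp : IsPGroup 2 (zpowers (g ^ m)) := by
    refine IsPGroup.of_card (n := a) ?_
    rw [Nat.card_zpowers, orderOf_pow_of_dvd (fun h => hm (by simp [h])) (hgm ▸ dvd_mul_left m _), hgm,
      Nat.mul_div_cancel _ (Nat.pos_of_ne_zero fun h => hm (by simp [h]))]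
  have hmem : g ^ m ∈ (S : Subgroup G) := by
    have h := hp.inf_normalizer_sylow S
    exact (h ▸ mem_inf.mpr ⟨mem_zpowers _, pow_mem hg m⟩ : g ^ m ∈ zpowers (g ^ m) ⊓ (S : Subgroup G)).2
  have hm2 : g ^ m * z * (g ^ m)⁻¹ = z := by rw [hzc _ hmem, mul_inv_cancel_right]
  have heven : ∀ k, g ^ (2 * k) * z * (g ^ (2 * k))⁻¹ = z := by
    intro k
    induction k with
    | zero => simp
    | succ k ih =>
      calc g ^ (2 * (k + 1)) * z * (g ^ (2 * (k + 1)))⁻¹ = g * (g * (g ^ (2 * k) * z * (g ^ (2 * k))⁻¹) * g⁻¹) * g⁻¹ := by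
            rw [show 2 * (k + 1) = 1 + (1 + 2 * k) by ring, pow_add, pow_add, pow_one]; group
        _ = z := by rw [ih, h2]
  obtain ⟨k, hk⟩ : Odd m := Nat.not_even_iff_odd.mp fun h => hm (even_iff_two_dvd.mp h)
  calc g * z * g⁻¹ = g * (g ^ (2 * k) * z * (g ^ (2 * k))⁻¹) * g⁻¹ := by rw [heven]
    _ = g ^ m * z * (g ^ m)⁻¹ := by rw [hk, show 2 * k + 1 = 1 + 2 * k by ring, pow_add, pow_one]; group
    _ = z := hm2

open Subgroup in
/-- A nontrivial 2-residual quotient gives a subgroup of index two. -/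
theorem index_two {G : Type*} [Group G] [Finite G] (h : Cfsg.pResidual 2 G ≠ ⊤) : ∃ H : Subgroup G, H.index = 2 := by
  haveI := CfsgLib.Transfer.pResidual_normal (p := 2) (G := G)
  obtain ⟨k, hk⟩ := IsPGroup.iff_card.mp (CfsgLib.Transfer.isPGroup_quotient_pResidual (G := G) (p := 2))
  have hk0 : k ≠ 0 := by
    rintro rfl
    exact h (index_eq_one.mp (by rw [index, hk, pow_zero]))
  obtain ⟨K, hK⟩ := Sylow.exists_subgroup_card_pow_prime 2 (G := G ⧸ Cfsg.pResidual 2 G) (n := k - 1)
    (hk ▸ pow_dvd_pow 2 (Nat.sub_le k 1))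
  refine ⟨K.comap (QuotientGroup.mk' _), ?_⟩
  rw [index_comap_of_surjective _ (QuotientGroup.mk'_surjective _)]
  have h' := K.card_mul_index
  rw [hK, hk, show k = k - 1 + 1 from (Nat.succ_pred_eq_of_ne_zero hk0).symm, pow_succ] at h'
  simp only [Nat.add_sub_cancel] at h'
  exact Nat.eq_of_mul_eq_mul_left (by positivity) h'

/-- A finite group whose Sylow 2-subgroups are isomorphic to the direct product of a group of order 2 and a dihedral group of order 8 has a subgroup of index two. -/
theorem result {G : Type*} [Group G] [Finite G] (S : Sylow 2 G) (hS : Nonempty (↥(S : Subgroup G) ≃* Multiplicative (ZMod 2) × DihedralGroup 4)) : ∃ H : Subgroup G, H.index = 2 := by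
  obtain ⟨φ⟩ := hS
  rcases Cfsg.Agent.S2872.result S with h | h | ⟨g, hg, z, hz, hne⟩
  · exact index_two h
  · exfalso
    set u : ↥(S : Subgroup G) := φ.symm (Multiplicative.ofAdd 1, 1) with hu
    have hu1 : (u : G) ∈ Cfsg.omegaOne 2 ((S : Subgroup G) ⊓ Subgroup.centralizer ((S : Subgroup G) : Set G)) := by
      refine Subgroup.subset_closure ⟨⟨u.2, Subgroup.mem_centralizer_iff.mpr fun s hs => ?_⟩, ?_⟩
      · refine congrArg Subtype.val (φ.injective (?_ : φ (⟨s, hs⟩ * u) = φ (u * ⟨s, hs⟩)))
        rw [map_mul, map_mul, hu, MulEquiv.apply_symm_apply]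
        generalize φ ⟨s, hs⟩ = x
        revert x; decide
      · refine congrArg Subtype.val (φ.injective (?_ : φ (u ^ 2) = φ 1))
        rw [map_pow, hu, MulEquiv.apply_symm_apply, map_one φ]
        decide
    obtain ⟨w, hw, hwu⟩ := h hu1
    have hwu' : w = u := Subtype.ext hwu
    subst hwu'
    have := CfsgLib.PReduced.frattini_le_of_exponent (p := 2) ((MonoidHom.fst _ _).comp φ.toMonoidHom)
      (fun _ _ => mul_comm _ _) (fun x => by
        generalize ((MonoidHom.fst _ _).comp φ.toMonoidHom) x = y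
        revert y; decide) hw
    simp [hu] at this
  · refine absurd ?_ hne
    have hz' : z ∈ (S : Subgroup G) ⊓ Subgroup.centralizer ((S : Subgroup G) : Set G) :=
      (Subgroup.closure_le _).mpr (fun y hy => hy.1) hz
    exact normalizer_fixes S φ hg hz'.1 (fun s hs => Subgroup.mem_centralizer_iff.mp hz'.2 s hs)

end Cfsg.Agent.S2911
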