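import Cfsg.Statements.S2916
import Cfsg.Agent.LThree.GLOrder
import Cfsg.Agent.LThree.GLSimple
import Cfsg.Agent.LThree.Recognise
import Cfsg.Agent.MEleven.Recognise

set_option autoImplicit false
open Cfsg

namespace Cfsg.Agent.S2916

/-- Let G be a finite group with O²(G) = G (no proper normal subgroup of 2-power index), and let t be an involution of G whose centralizer C_G(t) is isomorphic to GL₂(3). Then G is isomorphic to PSL₃(3) or to the Mathieu group M₁₁. -/
theorem result {G : Type*} [Group G] [Finite G] (hO : Cfsg.pResidual 2 G = ⊤) (t : G) (ht : orderOf t = 2) (hC : Nonempty (↥(Subgroup.centralizer ({t} : Set G)) ≃* GL (Fin 2) (ZMod 3))) : (∃ (F : Type) (_ : Field F) (_ : Fintype F), Fintype.card F = 3 ∧ Nonempty (G ≃* Matrix.ProjectiveSpecialLinearGroup (Fin 3) F)) ∨ Cfsg.Spor.IsoM11 G := by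
  obtain ⟨e⟩ := hC
  haveI := Fintype.ofFinite G
  let D : CfsgLib.LThree.GLTwo.Setup G := ⟨t, ht, e⟩
  have hno : ∀ N : Subgroup G, N.Normal → N.index ≠ 2 := by
    intro N hN hidx
    have hle : Cfsg.pResidual 2 G ≤ N := by
      refine (Subgroup.closure_le _).2 fun g hg => ?_
      haveI := hN
      refine (QuotientGroup.eq_one_iff (N := N) g).1 ?_
      refine orderOf_eq_one_iff.1 (Nat.Coprime.eq_one_of_dvd (Nat.Coprime.coprime_dvd_left
        (orderOf_map_dvd (QuotientGroup.mk' N) g) hg) ?_)
      have h := orderOf_dvd_natCard (QuotientGroup.mk' N g)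
      rwa [← Subgroup.index_eq_card, hidx] at h
    rw [hO] at hle
    rw [top_le_iff.1 hle, Subgroup.index_top] at hidx
    norm_num at hidx
  haveI := D.isSimple hno
  rcases D.card_eq with h | h
  · exact Or.inl ⟨ZMod 3, inferInstance, inferInstance, ZMod.card 3, CfsgLib.LThree.iso_psl h⟩
  · exact Or.inr (CfsgLib.MEleven.iso_spor h)

end Cfsg.Agent.S2916
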