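import Cfsg.Statements.S2930
import Cfsg.Agent.AltSylowThree.Models
import Cfsg.Agent.S2119
import Cfsg.Agent.S4231
import Cfsg.Agent.S1265

set_option autoImplicit false
open Cfsg

namespace Cfsg.Agent.S2930

theorem aut_pow_four {n : ℕ} (hn : 5 ≤ n) (β : MulAut ↥(alternatingGroup (Fin n))) :
    ∃ g : ↥(alternatingGroup (Fin n)), MulAut.conj g = β ^ 4 := by
  have key : ∀ (γ : MulAut ↥(alternatingGroup (Fin n))) (σ : Equiv.Perm (Fin n)),
      MulAut.conjNormal σ = γ → ∃ g : ↥(alternatingGroup (Fin n)), MulAut.conj g = γ ^ 2 := by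
    intro γ σ h
    refine ⟨⟨σ ^ 2, ?_⟩, ?_⟩
    · rw [Equiv.Perm.mem_alternatingGroup, map_pow]
      exact Int.units_sq _
    · subst h
      rw [sq (MulAut.conjNormal σ)]
      refine MulEquiv.ext fun x => Subtype.ext ?_
      simp [sq, MulAut.conjNormal_apply, mul_assoc]
  rcases eq_or_ne n 6 with rfl | h6
  · obtain ⟨σ, hσ⟩ := Cfsg.Agent.S4231.sq_conj_six β
    obtain ⟨g, hg⟩ := key _ σ hσ
    exact ⟨g, by rw [hg, ← sq, ← pow_mul]⟩
  · obtain ⟨σ, hσ⟩ := (Cfsg.Agent.S2119.result n (by omega) h6).2 β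
    obtain ⟨g, hg⟩ := key _ σ hσ
    exact ⟨g * g, by rw [map_mul, hg, ← pow_add]⟩

/-- Let X be a finite 3-minimal group (a Sylow 3-subgroup is not normal and lies in a unique maximal subgroup) whose generalized Fitting subgroup is isomorphic to an alternating group of degree n ≥ 5. Then X = F*(X), and n = 6, n = 9, or n = 3ᵃ + 1 for some a ≥ 2. -/
theorem result {X : Type*} [Group X] [Finite X] (hX : Cfsg.IsPMinimal 3 X) (n : ℕ) (hn : 5 ≤ n) (hF : Nonempty (↥(Cfsg.generalizedFittingSubgroup X) ≃* ↥(alternatingGroup (Fin n)))) : Cfsg.generalizedFittingSubgroup X = ⊤ ∧ (n = 6 ∨ n = 9 ∨ ∃ a : ℕ, 2 ≤ a ∧ n = 3 ^ a + 1) := by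
  classical
  haveI : Fact (Nat.Prime 3) := ⟨Nat.prime_three⟩
  obtain ⟨φ⟩ := hF
  set F := Cfsg.generalizedFittingSubgroup X
  haveI hFn : F.Normal := CfsgLib.Components.generalizedFittingSubgroup_normal
  have hFC : ∀ y : X, (∀ f ∈ F, f * y = y * f) → y = 1 := by
    intro y hy
    have hyF : y ∈ F := Cfsg.Agent.S1265.result (Subgroup.mem_centralizer_iff.2 hy)
    have hc : φ ⟨y, hyF⟩ ∈ Subgroup.center ↥(alternatingGroup (Fin n)) := by
      rw [Subgroup.mem_center_iff]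
      intro a
      obtain ⟨⟨f, hf⟩, rfl⟩ := φ.surjective a
      rw [← map_mul, ← map_mul]
      exact congrArg φ (Subtype.ext (hy f hf))
    haveI : IsSimpleGroup ↥(alternatingGroup (Fin n)) :=
      alternatingGroup.isSimpleGroup (by rw [Nat.card_fin]; exact hn)
    have hbot : Subgroup.center ↥(alternatingGroup (Fin n)) = ⊥ := by
      rw [alternatingGroup.center_eq_bot (by rw [Nat.card_fin]; omega)]
    rw [hbot, Subgroup.mem_bot, φ.map_eq_one_iff] at hc
    exact congrArg Subtype.val hc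
  have h4 : ∀ x : X, x ^ 4 ∈ F := by
    intro x
    let β : MulAut ↥(alternatingGroup (Fin n)) := MulAut.congr φ (MulAut.conjNormal x)
    obtain ⟨g, hg⟩ := aut_pow_four hn β
    obtain ⟨⟨f, hf⟩, rfl⟩ := φ.surjective g
    have hb : β ^ 4 = MulAut.congr φ (MulAut.conjNormal (x ^ 4)) := by
      rw [map_pow, map_pow]
    have h : f⁻¹ * x ^ 4 = 1 := by
      refine hFC _ fun a ha => ?_
      have h1 := DFunLike.congr_fun (hg.trans hb) (φ ⟨a, ha⟩)
      simp only [MulAut.congr_apply, MulEquiv.trans_apply, MulEquiv.symm_apply_apply, MulAut.conj_apply,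
        ← map_inv, ← map_mul] at h1
      have h2 := congrArg Subtype.val (φ.injective h1)
      simp only [Subgroup.coe_mul, Subgroup.coe_inv, MulAut.conjNormal_apply] at h2
      calc a * (f⁻¹ * x ^ 4) = f⁻¹ * (f * a * f⁻¹) * x ^ 4 := by group
        _ = f⁻¹ * (x ^ 4 * a * (x ^ 4)⁻¹) * x ^ 4 := by rw [h2]
        _ = f⁻¹ * x ^ 4 * a := by group
    rw [inv_mul_eq_one] at h
    exact h ▸ hf
  have hS : ∀ S : Sylow 3 X, (S : Subgroup X) ≤ F := by
    intro S x hx
    obtain ⟨k, hk⟩ := IsPGroup.iff_orderOf.1 S.isPGroup' ⟨x, hx⟩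
    rw [Subgroup.orderOf_mk] at hk
    have hcop : Nat.Coprime 4 (orderOf x) := by
      rw [hk]
      exact Nat.Coprime.pow_right _ (by norm_num)
    obtain ⟨m, hm⟩ := exists_pow_eq_self_of_coprime hcop
    exact hm ▸ F.pow_mem (h4 x) m
  have htop : F = ⊤ := by
    by_contra hne
    obtain ⟨S⟩ : Nonempty (Sylow 3 X) := inferInstance
    obtain ⟨hSn, M, -, huniq⟩ := hX S
    obtain ⟨M1, hM1, hFM⟩ := (eq_top_or_exists_le_coatom F).resolve_left hne
    have hNne : Subgroup.normalizer ((S : Subgroup X) : Set X) ≠ ⊤ := fun h =>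
      hSn (Subgroup.normalizer_eq_top_iff.1 h)
    obtain ⟨M2, hM2, hNM⟩ := (eq_top_or_exists_le_coatom _).resolve_left hNne
    have e1 := huniq M1 ⟨hM1, (hS S).trans hFM⟩
    have e2 := huniq M2 ⟨hM2, Subgroup.le_normalizer.trans hNM⟩
    have hsup : Subgroup.normalizer ((S : Subgroup X) : Set X) ⊔ F = ⊤ := by
      have h := Sylow.normalizer_sup_eq_top (S.subtype (hS S))
      rwa [Sylow.coe_subtype, Subgroup.map_subgroupOf_eq_of_le (hS S)] at h
    subst e1
    rw [e2] at hNM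
    exact hM1.1 (top_le_iff.1 (hsup.ge.trans (sup_le hNM hFM)))
  exact ⟨htop, CfsgLib.AltSylowThree.degree n hn
    ((Subgroup.topEquiv.symm.trans (MulEquiv.subgroupCongr htop.symm)).trans φ) fun T => (hX T).2⟩

end Cfsg.Agent.S2930
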