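import Cfsg.Statements.S2933
import Cfsg.Agent.S1237
import Cfsg.Agent.HeisFour.Fpf
import Cfsg.Agent.HeisFour.Model

set_option autoImplicit false
open Cfsg

namespace Cfsg.Agent.S2933

open CfsgLib.HeisFour
open scoped commutatorElement

/-- An involutory automorphism whose fixed points are a central four-group, commuting with an automorphism of order three. -/
structure Hyp {T : Type*} [Group T] (V : Subgroup T) (t ρ : MulAut T) : Prop where
  central : V ≤ Subgroup.center T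
  card : Nat.card V = 4
  sq : ∀ v ∈ V, v * v = 1
  tt : ∀ x, t (t x) = x
  cube : ∀ x, ρ (ρ (ρ x)) = x
  comm : ∀ x, t (ρ x) = ρ (t x)
  fix : ∀ x, t x = x ↔ x ∈ V
  free : ∀ v ∈ V, ρ v = v → v = 1

/-- The conclusion. -/
def Str {T : Type*} [Group T] (V : Subgroup T) (ρ : MulAut T) : Prop :=
  (∀ x : T, ρ x = x → x = 1) ∧
    ((∀ x y : T, x * y = y * x) ∨ (Nat.card T = 64 ∧ ∀ x : T, x * x ∈ V))

variable {T : Type*} [Group T] [Finite T] {V : Subgroup T} {t ρ : MulAut T}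

theorem Hyp.vmul (h : Hyp V t ρ) {v : T} (hv : v ∈ V) (g : T) : g * v = v * g :=
  Subgroup.mem_center_iff.mp (h.central hv) g

theorem Hyp.rmem (h : Hyp V t ρ) {v : T} (hv : v ∈ V) : ρ v ∈ V := by
  rw [← h.fix, h.comm, (h.fix v).2 hv]

theorem Hyp.orbit (h : Hyp V t ρ) {v : T} (hv : v ∈ V) (hv1 : v ≠ 1) {x : T} (hx : x ∈ V) :
    x = 1 ∨ x = v ∨ x = ρ v ∨ x = ρ (ρ v) := by
  classical
  haveI : Fintype V := Fintype.ofFinite V
  have e1 : ρ v ≠ v := fun e => hv1 (h.free v hv e)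
  have e2 : ρ (ρ v) ≠ v := fun e => e1 (by have := congrArg ρ e; rw [h.cube] at this; exact this.symm)
  have e3 : ρ (ρ v) ≠ ρ v := fun e => e1 (ρ.injective e)
  have e4 : ρ v ≠ 1 := fun e => hv1 (ρ.map_eq_one_iff.mp e)
  have e5 : ρ (ρ v) ≠ 1 := fun e => e4 (ρ.map_eq_one_iff.mp e)
  have hc : ({(1 : V), ⟨v, hv⟩, ⟨ρ v, h.rmem hv⟩, ⟨ρ (ρ v), h.rmem (h.rmem hv)⟩} : Finset V) = Finset.univ := by
    refine Finset.eq_univ_of_card _ ?_
    rw [← Nat.card_eq_fintype_card, h.card, Finset.card_insert_of_notMem, Finset.card_insert_of_notMem,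
      Finset.card_insert_of_notMem, Finset.card_singleton]
    all_goals simp only [Finset.mem_insert, Finset.mem_singleton, Subtype.ext_iff, not_or, Subgroup.coe_one]
    · exact e3.symm
    · exact ⟨e1.symm, e2.symm⟩
    · exact ⟨hv1.symm, e4.symm, e5.symm⟩
  have := Finset.mem_univ (⟨x, hx⟩ : V)
  rw [← hc] at this
  simpa only [Finset.mem_insert, Finset.mem_singleton, Subtype.ext_iff, Subgroup.coe_one] using this

theorem Hyp.isPGroup_quot (hT : IsPGroup 2 T) (N : Subgroup T) [N.Normal] : IsPGroup 2 (T ⧸ N) :=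
  hT.to_quotient N

/-- An involutory map of a nontrivial 2-group fixing the identity fixes something else. -/
theorem exists_fixed {X : Type*} [Group X] [Finite X] (hX : IsPGroup 2 X) [Nontrivial X] (f : MulAut X)
    (hf : ∀ x, f (f x) = x) : ∃ x, x ≠ 1 ∧ f x = x := by
  classical
  haveI : Fintype X := Fintype.ofFinite X
  haveI : Fact (Nat.Prime 2) := ⟨Nat.prime_two⟩
  obtain ⟨k, hk⟩ := IsPGroup.iff_card.mp hX
  have hk0 : k ≠ 0 := by
    intro e; rw [e, pow_zero] at hk; have := Finite.one_lt_card (α := X); omega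
  have hd : 2 ∣ Fintype.card X := by rw [← Nat.card_eq_fintype_card, hk]; exact dvd_pow_self 2 hk0
  let σ : Equiv.Perm X := f.toEquiv
  have hσ : σ ^ 2 ^ 1 = 1 := by
    rw [pow_one]; exact Equiv.ext fun x => hf x
  obtain ⟨a, ha, ha1⟩ := Equiv.Perm.exists_fixed_point_of_prime' hd hσ (a := 1) (map_one f)
  exact ⟨a, ha1, ha⟩

section Step

variable (h : Hyp V t ρ)
include h

theorem Hyp.d_fixed_iff (x y : T) (hx : x⁻¹ * t x ∈ V) :
    (x * y)⁻¹ * t (x * y) = x⁻¹ * t x * (y⁻¹ * t y) := by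
  have e := h.vmul hx y⁻¹
  rw [map_mul]
  calc (x * y)⁻¹ * (t x * t y) = y⁻¹ * (x⁻¹ * t x) * t y := by group
    _ = x⁻¹ * t x * (y⁻¹ * t y) := by rw [e]; group

/-- In the abelian case. -/
theorem Hyp.abelian (hT : IsPGroup 2 T) (hc : ∀ x y : T, x * y = y * x) :
    (Nat.card T = 16 ∧ ∀ x : T, x * x = 1) ∨ (∀ x : T, x * x = 1 → x ∈ V) := by
  classical
  by_cases hall : ∀ x : T, x * x = 1 → x ∈ V
  · exact Or.inr hall
  left
  simp only [not_forall] at hall
  obtain ⟨y, hy, hyV⟩ := hall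
  -- for every element the product with its image is fixed
  have hprod : ∀ x : T, x * t x ∈ V := fun x => by rw [← h.fix, map_mul, h.tt, hc]
  have hyinv : y⁻¹ = y := inv_eq_of_mul_eq_one_right hy
  have hdy : y⁻¹ * t y ∈ V := by rw [hyinv]; exact hprod y
  have hdy1 : y⁻¹ * t y ≠ 1 := fun e => hyV ((h.fix y).1 (inv_mul_eq_one.mp e).symm)
  -- an element is an involution as soon as its displacement lies in `V`
  have hW : ∀ x : T, x⁻¹ * t x ∈ V → x * x = 1 := by
    intro x hx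
    obtain ⟨z, hz, hzd⟩ : ∃ z : T, z * z = 1 ∧ z⁻¹ * t z = x⁻¹ * t x := by
      rcases h.orbit hdy hdy1 hx with e | e | e | e
      · exact ⟨1, one_mul 1, by rw [e, map_one, inv_one, one_mul]⟩
      · exact ⟨y, hy, e.symm⟩
      · exact ⟨ρ y, by rw [← map_mul, hy, map_one], by rw [e, map_mul, map_inv, h.comm]⟩
      · exact ⟨ρ (ρ y), by rw [← map_mul, ← map_mul, hy, map_one, map_one], by
          rw [e, map_mul, map_mul, map_inv, map_inv, h.comm, h.comm]⟩
    have hv : z⁻¹ * x ∈ V := by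
      rw [← h.fix, map_mul, map_inv]
      have e : t x = x * (z⁻¹ * t z) := by rw [hzd, mul_inv_cancel_left]
      rw [e]
      calc (t z)⁻¹ * (x * (z⁻¹ * t z)) = (t z)⁻¹ * (z⁻¹ * t z) * x := by rw [hc x (z⁻¹ * t z)]; simp only [mul_assoc]
        _ = (t z)⁻¹ * (t z * z⁻¹) * x := by rw [hc z⁻¹]
        _ = z⁻¹ * x := by rw [inv_mul_cancel_left]
    calc x * x = z * (z⁻¹ * x) * (z * (z⁻¹ * x)) := by rw [mul_inv_cancel_left]
      _ = z * ((z⁻¹ * x) * z) * (z⁻¹ * x) := by simp only [mul_assoc]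
      _ = z * z * ((z⁻¹ * x) * (z⁻¹ * x)) := by rw [hc (z⁻¹ * x) z]; simp only [mul_assoc]
      _ = 1 := by rw [hz, h.sq _ hv, one_mul]
  have hexp : ∀ x : T, x * x = 1 := by
    suffices ∀ n, ∀ x : T, x ^ 2 ^ n = 1 → x * x = 1 from fun x => by
      obtain ⟨n, hn⟩ := hT x; exact this n x hn
    intro n
    induction n with
    | zero => intro x hx; rw [pow_zero, pow_one] at hx; rw [hx, one_mul]
    | succ n ih =>
      intro x hx
      have h4 : x * x * (x * x) = 1 := ih (x * x) (by rw [← pow_two, ← pow_mul, ← pow_succ']; exact hx)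
      refine hW x ?_
      have hv := hprod x
      have e1 : x⁻¹ * t x = (x * x)⁻¹ * (x * t x) := by group
      rw [e1]
      refine mul_mem ?_ hv
      rw [inv_eq_of_mul_eq_one_right h4, ← h.fix, map_mul]
      calc t x * t x = (x * x) * ((x * t x) * (x * t x)) * ((x * x) * (x * x))⁻¹ := by
            calc t x * t x = t x * t x * (x * x) * (x * x) * ((x * x) * (x * x))⁻¹ := by group
              _ = _ := by
                congr 1
                rw [hc (t x * t x) (x * x), mul_assoc]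
                congr 1
                calc t x * t x * (x * x) = t x * (t x * x) * x := by group
                  _ = t x * (x * t x) * x := by rw [hc (t x) x]
                  _ = t x * x * (t x * x) := by group
                  _ = _ := by rw [hc (t x) x]
        _ = x * x := by rw [h.sq _ hv, h4, inv_one, mul_one, mul_one]
  refine ⟨?_, hexp⟩
  -- every element has displacement in `V`
  letI : CommGroup T := { ‹Group T› with mul_comm := hc }
  let δ : T →* V := MonoidHom.mk' (fun x => ⟨x * t x, hprod x⟩) fun a b => Subtype.ext (by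
    show a * b * t (a * b) = a * t a * (b * t b)
    rw [map_mul, mul_mul_mul_comm])
  have hker : ∀ x, x ∈ δ.ker ↔ x ∈ V := fun x => by
    rw [MonoidHom.mem_ker, Subtype.ext_iff, ← h.fix]
    show x * t x = 1 ↔ _
    rw [mul_eq_one_iff_inv_eq, inv_eq_of_mul_eq_one_right (hexp x), eq_comm]
  have hk : δ.ker = V := Subgroup.ext hker
  have hsurj : δ.range = ⊤ := by
    refine eq_top_iff.2 fun v _ => ?_
    rcases h.orbit hdy hdy1 v.2 with e | e | e | e
    · exact ⟨1, by rw [map_one]; exact (Subtype.ext e).symm⟩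
    · exact ⟨y, Subtype.ext (by show y * t y = v.1; rw [e, hyinv])⟩
    · exact ⟨ρ y, Subtype.ext (by show ρ y * t (ρ y) = v.1; rw [e, hyinv, h.comm, map_mul])⟩
    · exact ⟨ρ (ρ y), Subtype.ext (by
        show ρ (ρ y) * t (ρ (ρ y)) = v.1; rw [e, hyinv, h.comm, h.comm, map_mul, map_mul])⟩
  have := δ.ker.card_mul_index
  rw [Subgroup.index_ker, hsurj, Subgroup.card_top, hk, h.card] at this
  omega

/-- In the abelian case with no further involutions the group is homocyclic. -/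
theorem Hyp.homocyclic (hT : IsPGroup 2 T) (hc : ∀ x y : T, x * y = y * x) (hΩ : ∀ x : T, x * x = 1 → x ∈ V) :
    ∃ n : ℕ, 1 ≤ n ∧ Nonempty (T ≃* Multiplicative (ZMod (2 ^ n) × ZMod (2 ^ n))) := by
  letI : CommGroup T := { ‹Group T› with mul_comm := hc }
  refine Cfsg.Agent.S1237.homocyclic (θ := ρ) hT (Ω := V)
    { mem := fun x => ⟨fun hx => by rw [pow_two]; exact h.sq x hx, fun hx => hΩ x (by rwa [← pow_two])⟩
      central := h.central
      cube := fun u _ => h.cube u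
      card := h.card
      trans := fun u v hu hu1 hv hv1 => by
        rcases h.orbit hu hu1 hv with e | e | e | e
        · exact absurd e hv1
        · exact ⟨0, e.symm⟩
        · exact ⟨1, by rw [pow_one]; exact e.symm⟩
        · exact ⟨2, e.symm⟩ }

end Step

theorem core : ∀ n : ℕ, ∀ {T : Type*} [Group T] [Finite T] (V : Subgroup T) (t ρ : MulAut T),
    Nat.card T = n → IsPGroup 2 T → Hyp V t ρ → Str V ρ := by
  intro n
  induction n using Nat.strong_induction_on with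
  | _ n ih =>
  intro T _ _ V t ρ hn hT h
  subst hn
  classical
  haveI : Fact (Nat.Prime 2) := ⟨Nat.prime_two⟩
  by_cases htop : ∀ x : T, x ∈ V
  · exact ⟨fun x hx => h.free x (htop x) hx, Or.inl fun x y => h.vmul (htop y) x⟩
  haveI hVn : V.Normal := ⟨fun v hv g => by rw [h.vmul hv g, mul_inv_cancel_right]; exact hv⟩
  -- the induced automorphisms
  have htV : V.map t.toMonoidHom = V := by
    refine Subgroup.eq_of_le_of_card_ge ?_ (by rw [Nat.card_congr (V.equivMapOfInjective t.toMonoidHom t.injective).toEquiv])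
    rintro _ ⟨v, hv, rfl⟩
    show t v ∈ V
    rw [(h.fix v).2 hv]; exact hv
  have hρV : V.map ρ.toMonoidHom = V := by
    refine Subgroup.eq_of_le_of_card_ge ?_ (by rw [Nat.card_congr (V.equivMapOfInjective ρ.toMonoidHom ρ.injective).toEquiv])
    rintro _ ⟨v, hv, rfl⟩
    exact h.rmem hv
  let t' : MulAut (T ⧸ V) := QuotientGroup.congr V V t htV
  let ρ' : MulAut (T ⧸ V) := QuotientGroup.congr V V ρ hρV
  have ht' : ∀ x : T, t' x = ((t x : T) : T ⧸ V) := fun x => rfl
  have hρ' : ∀ x : T, ρ' x = ((ρ x : T) : T ⧸ V) := fun x => rfl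
  have hmem : ∀ x : T, t' x = (x : T ⧸ V) ↔ x⁻¹ * t x ∈ V := fun x => by
    rw [ht', eq_comm, QuotientGroup.eq]
  have htt' : ∀ x, t' (t' x) = x := fun x => by
    obtain ⟨g, rfl⟩ := QuotientGroup.mk_surjective x
    rw [ht', ht', h.tt]
  let V' : Subgroup (T ⧸ V) :=
    { carrier := {x | t' x = x}
      one_mem' := map_one t'
      mul_mem' := fun {a b} ha hb => by show t' (a * b) = a * b; rw [map_mul, ha, hb]
      inv_mem' := fun {a} ha => by show t' a⁻¹ = a⁻¹; rw [map_inv, ha] }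
  -- the displacement
  let δ : V' →* V := MonoidHom.mk' (fun x => ⟨(x.1.out)⁻¹ * t x.1.out, (hmem _).1 (by
      rw [QuotientGroup.out_eq']; exact x.2)⟩) fun a b => Subtype.ext (by
      show ((a * b : V').1.out)⁻¹ * t (a * b : V').1.out = _
      obtain ⟨v, hv, e⟩ : ∃ v ∈ V, (a * b : V').1.out = a.1.out * b.1.out * v := by
        refine ⟨(a.1.out * b.1.out)⁻¹ * (a * b : V').1.out, QuotientGroup.eq.mp ?_, (mul_inv_cancel_left _ _).symm⟩
        rw [QuotientGroup.mk_mul, QuotientGroup.out_eq', QuotientGroup.out_eq', QuotientGroup.out_eq']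
        rfl
      have ha : (a.1.out)⁻¹ * t a.1.out ∈ V := (hmem _).1 (by rw [QuotientGroup.out_eq']; exact a.2)
      have hb : (b.1.out)⁻¹ * t b.1.out ∈ V := (hmem _).1 (by rw [QuotientGroup.out_eq']; exact b.2)
      rw [e, h.d_fixed_iff _ v (by rw [h.d_fixed_iff _ _ ha]; exact mul_mem ha hb), h.d_fixed_iff _ _ ha,
        (h.fix v).2 hv, inv_mul_cancel, mul_one]
      rfl)
  have hδ : ∀ (x : T) (hx : (x : T ⧸ V) ∈ V'), ((δ ⟨(x : T ⧸ V), hx⟩ : V) : T) = x⁻¹ * t x := by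
    intro x hx
    show ((x : T ⧸ V).out)⁻¹ * t (x : T ⧸ V).out = _
    obtain ⟨v, hv, e⟩ : ∃ v ∈ V, (x : T ⧸ V).out = x * v :=
      ⟨x⁻¹ * (x : T ⧸ V).out, QuotientGroup.eq.mp (QuotientGroup.out_eq' _).symm, (mul_inv_cancel_left _ _).symm⟩
    rw [e, h.d_fixed_iff _ v ((hmem x).1 hx), (h.fix v).2 hv, inv_mul_cancel, mul_one]
  have hδinj : Function.Injective δ := by
    rw [← MonoidHom.ker_eq_bot_iff, Subgroup.eq_bot_iff_forall]
    rintro ⟨q, hq⟩ e
    obtain ⟨x, rfl⟩ := QuotientGroup.mk_surjective q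
    have e' : x⁻¹ * t x = 1 := by
      rw [← hδ x hq, (MonoidHom.mem_ker.mp e), Subgroup.coe_one]
    exact Subtype.ext ((QuotientGroup.eq_one_iff x).2 ((h.fix x).1 (inv_mul_eq_one.mp e').symm))
  have hρmem : ∀ q ∈ V', ρ' q ∈ V' := by
    intro q hq
    obtain ⟨x, rfl⟩ := QuotientGroup.mk_surjective q
    show t' (ρ' x) = ρ' x
    rw [hρ', ht', h.comm, ← hρ', ← ht']
    exact congrArg ρ' hq
  have hδρ : ∀ q (hq : q ∈ V'), ((δ ⟨ρ' q, hρmem q hq⟩ : V) : T) = ρ (δ ⟨q, hq⟩ : V) := by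
    intro q hq
    obtain ⟨x, rfl⟩ := QuotientGroup.mk_surjective q
    rw [hδ x hq]
    refine Eq.trans (hδ (ρ x) (hρmem _ hq)) ?_
    rw [map_mul, map_inv, h.comm]
  have hfree' : ∀ q ∈ V', ρ' q = q → q = 1 := by
    intro q hq e
    have e1 := hδρ q hq
    have e2 : (⟨ρ' q, hρmem q hq⟩ : V') = ⟨q, hq⟩ := Subtype.ext e
    rw [e2] at e1
    have := h.free _ (δ ⟨q, hq⟩).2 e1.symm
    exact congrArg Subtype.val (hδinj (Subtype.ext (by rw [this, map_one, Subgroup.coe_one]) : δ ⟨q, hq⟩ = δ 1))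
  haveI hnt : Nontrivial (T ⧸ V) := by
    simp only [not_forall] at htop
    obtain ⟨x, hx⟩ := htop
    exact ⟨⟨(x : T ⧸ V), 1, fun e => hx ((QuotientGroup.eq_one_iff x).1 e)⟩⟩
  have hTq : IsPGroup 2 (T ⧸ V) := hT.to_quotient V
  have hρ'3 : ∀ q, ρ' (ρ' (ρ' q)) = q := fun q => by
    obtain ⟨x, rfl⟩ := QuotientGroup.mk_surjective q
    rw [hρ', hρ', hρ', h.cube]
  have hV'4 : ∀ q ∈ V', q ≠ 1 → Nat.card V' = 4 ∧ ∀ r ∈ V', r = 1 ∨ r = q ∨ r = ρ' q ∨ r = ρ' (ρ' q) := by
    intro q hq hq1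
    set v := δ ⟨q, hq⟩
    have hv1 : (v : T) ≠ 1 := fun e => hq1 (congrArg Subtype.val
      (hδinj (Subtype.ext (by rw [e, map_one, Subgroup.coe_one]) : δ ⟨q, hq⟩ = δ 1)))
    have hall : ∀ r : V', (r : T ⧸ V) = 1 ∨ r.1 = q ∨ r.1 = ρ' q ∨ r.1 = ρ' (ρ' q) := by
      intro r
      rcases h.orbit v.2 hv1 (δ r).2 with e | e | e | e
      · exact Or.inl (congrArg Subtype.val (hδinj (Subtype.ext (by rw [e, map_one, Subgroup.coe_one]) : δ r = δ 1)))
      · exact Or.inr (Or.inl (congrArg Subtype.val (hδinj (Subtype.ext e) : r = ⟨q, hq⟩)))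
      · exact Or.inr (Or.inr (Or.inl (congrArg Subtype.val
          (hδinj (Subtype.ext (by rw [e, hδρ q hq])) : r = ⟨ρ' q, hρmem q hq⟩))))
      · exact Or.inr (Or.inr (Or.inr (congrArg Subtype.val
          (hδinj (Subtype.ext (by rw [e, hδρ _ (hρmem q hq), hδρ q hq])) : r = ⟨ρ' (ρ' q), hρmem _ (hρmem q hq)⟩))))
    refine ⟨?_, fun r hr => hall ⟨r, hr⟩⟩
    have hs : Function.Surjective δ := fun w => by
      rcases h.orbit v.2 hv1 w.2 with e | e | e | e
      · exact ⟨1, by rw [map_one]; exact (Subtype.ext e).symm⟩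
      · exact ⟨⟨q, hq⟩, (Subtype.ext e).symm⟩
      · exact ⟨⟨_, hρmem q hq⟩, Subtype.ext (by rw [hδρ q hq, e])⟩
      · exact ⟨⟨_, hρmem _ (hρmem q hq)⟩, Subtype.ext (by rw [hδρ _ (hρmem q hq), hδρ q hq, e])⟩
    rw [Nat.card_congr (Equiv.ofBijective δ ⟨hδinj, hs⟩), h.card]
  -- a central fixed point
  obtain ⟨w, hwV', hw1, hwc⟩ : ∃ w ∈ V', w ≠ 1 ∧ w ∈ Subgroup.center (T ⧸ V) := by
    haveI := hTq.center_nontrivial
    let f : MulAut (Subgroup.center (T ⧸ V)) := Subgroup.centerCongr t'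
    obtain ⟨z, hz1, hz⟩ := exists_fixed (hTq.to_subgroup (Subgroup.center (T ⧸ V))) f
      (fun x => Subtype.ext (htt' x.1))
    exact ⟨z.1, congrArg Subtype.val hz, fun e => hz1 (Subtype.ext e), z.2⟩
  have hρc : ∀ z ∈ Subgroup.center (T ⧸ V), ρ' z ∈ Subgroup.center (T ⧸ V) := fun z hz =>
    (Subgroup.centerCongr ρ' ⟨z, hz⟩).2
  have h' : Hyp V' t' ρ' :=
    { central := fun r hr => by
        rcases (hV'4 w hwV' hw1).2 r hr with e | e | e | e <;> rw [e]
        · exact one_mem _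
        · exact hwc
        · exact hρc _ hwc
        · exact hρc _ (hρc _ hwc)
      card := (hV'4 w hwV' hw1).1
      sq := fun r hr => congrArg Subtype.val (hδinj (Subtype.ext (by
        rw [map_mul, Subgroup.coe_mul, h.sq _ (δ ⟨r, hr⟩).2, map_one, Subgroup.coe_one]) : δ (⟨r, hr⟩ * ⟨r, hr⟩) = δ 1))
      tt := htt'
      cube := hρ'3
      comm := fun q => by
        obtain ⟨x, rfl⟩ := QuotientGroup.mk_surjective q
        rw [hρ', ht', ht', hρ', h.comm]
      fix := fun q => Iff.rfl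
      free := hfree' }
  have hlt : Nat.card (T ⧸ V) < Nat.card T := by
    have := Subgroup.card_eq_card_quotient_mul_card_subgroup V
    rw [h.card] at this
    have := Nat.card_pos (α := T ⧸ V)
    omega
  obtain ⟨hfpf', hstr⟩ := ih _ hlt V' t' ρ' rfl hTq h'
  have hfpf : ∀ x : T, ρ x = x → x = 1 := fun x hx =>
    h.free x ((QuotientGroup.eq_one_iff x).1 (hfpf' _ (by rw [hρ', hx]))) hx
  refine ⟨hfpf, ?_⟩
  by_cases habT : ∀ x y : T, x * y = y * x
  · exact Or.inl habT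
  right
  rcases hstr with hab | ⟨h64, hsq⟩
  · rcases h'.abelian hTq hab with ⟨h16, hexp⟩ | hΩ
    · refine ⟨?_, fun x => (QuotientGroup.eq_one_iff _).1 (by rw [QuotientGroup.mk_mul]; exact hexp _)⟩
      rw [Subgroup.card_eq_card_quotient_mul_card_subgroup V, h16, h.card]
    · exfalso
      obtain ⟨m, hm, ⟨e⟩⟩ := h'.homocyclic hTq hab hΩ
      apply habT
      haveI : NeZero (2 ^ m) := ⟨by positivity⟩
      obtain ⟨a, ha⟩ := QuotientGroup.mk_surjective (e.symm (Multiplicative.ofAdd (1, 0)))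
      obtain ⟨b, hb⟩ := QuotientGroup.mk_surjective (e.symm (Multiplicative.ofAdd (0, 1)))
      have hgen : ∀ g : T, ∃ i j : ℕ, (a ^ i * b ^ j)⁻¹ * g ∈ V := by
        intro g
        refine ⟨(Multiplicative.toAdd (e g)).1.val, (Multiplicative.toAdd (e g)).2.val, QuotientGroup.eq.mp ?_⟩
        apply e.injective
        rw [QuotientGroup.mk_mul, QuotientGroup.mk_pow, QuotientGroup.mk_pow, ha, hb, map_mul, map_pow, map_pow,
          e.apply_symm_apply, e.apply_symm_apply]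
        apply Multiplicative.toAdd.injective
        rw [toAdd_mul, toAdd_pow, toAdd_pow, toAdd_ofAdd, toAdd_ofAdd]
        simp
      -- all commutators are powers of one of them
      have hcV : ∀ x y : T, ⁅x, y⁆ ∈ V := fun x y => (QuotientGroup.eq_one_iff _).1 (by
        rw [commutatorElement_def, QuotientGroup.mk_mul, QuotientGroup.mk_mul, QuotientGroup.mk_mul,
          QuotientGroup.mk_inv, QuotientGroup.mk_inv, hab (x : T ⧸ V) (y : T ⧸ V)]; group)
      have hl : ∀ x x' y : T, ⁅x * x', y⁆ = ⁅x, y⁆ * ⁅x', y⁆ := fun x x' y => by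
        rw [show ⁅x * x', y⁆ = x * ⁅x', y⁆ * x⁻¹ * ⁅x, y⁆ by simp only [commutatorElement_def]; group,
          h.vmul (hcV x' y) x, mul_inv_cancel_right]
        exact (h.vmul (hcV x' y) _).symm
      set C := Subgroup.zpowers ⁅a, b⁆
      have hsy : ∀ x y : T, ⁅x, y⁆ ∈ C → ⁅y, x⁆ ∈ C := fun x y hxy => by
        rw [← commutatorElement_inv]; exact inv_mem hxy
      let S : T → Subgroup T := fun y =>
        { carrier := {x | ⁅x, y⁆ ∈ C}
          one_mem' := by show ⁅1, y⁆ ∈ C; rw [commutatorElement_one_left]; exact one_mem _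
          mul_mem' := fun {p r} hp hr => by show ⁅p * r, y⁆ ∈ C; rw [hl]; exact mul_mem hp hr
          inv_mem' := fun {p} hp => by
            have hp' : ⁅p, y⁆ ∈ C := hp
            show ⁅p⁻¹, y⁆ ∈ C
            have := hl p p⁻¹ y
            rw [mul_inv_cancel, commutatorElement_one_left] at this
            rw [eq_inv_of_mul_eq_one_right this.symm]
            exact inv_mem hp' }
      have hS : ∀ y, a ∈ S y → b ∈ S y → ∀ g, g ∈ S y := fun y ha' hb' g => by
        obtain ⟨i, j, hg⟩ := hgen g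
        rw [← mul_inv_cancel_left (a ^ i * b ^ j) g]
        refine mul_mem (mul_mem (pow_mem ha' i) (pow_mem hb' j)) ?_
        show ⁅_, y⁆ ∈ C
        rw [commutatorElement_eq_one_iff_mul_comm.2 (h.vmul hg y).symm]
        exact one_mem _
      have hSa : ∀ g, g ∈ S a := hS a (by show ⁅a, a⁆ ∈ C; rw [commutatorElement_self]; exact one_mem _)
        (hsy a b (Subgroup.mem_zpowers _))
      have hSb : ∀ g, g ∈ S b := hS b (Subgroup.mem_zpowers _)
        (by show ⁅b, b⁆ ∈ C; rw [commutatorElement_self]; exact one_mem _)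
      have hall : ∀ x y : T, ⁅x, y⁆ ∈ C := fun x y => hS y (hsy _ _ (hSa y)) (hsy _ _ (hSb y)) x
      have hc2 : ∀ z ∈ C, z = 1 ∨ z = ⁅a, b⁆ := by
        intro z hz
        obtain ⟨k, rfl⟩ := Subgroup.mem_zpowers_iff.mp hz
        have h2 : ⁅a, b⁆ ^ (2 : ℤ) = 1 := by rw [zpow_ofNat, pow_two]; exact h.sq _ (hcV a b)
        rcases Int.emod_two_eq_zero_or_one k with hk | hk
        · left; rw [← Int.mul_ediv_add_emod k 2, hk, add_zero, zpow_mul, h2, one_zpow]
        · right; rw [← Int.mul_ediv_add_emod k 2, hk, zpow_add, zpow_mul, h2, one_zpow, one_mul, zpow_one]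
      have hab1 : ⁅a, b⁆ = 1 := by
        rcases hc2 _ (hall (ρ a) (ρ b)) with e' | e'
        · rw [← map_commutatorElement] at e'; exact ρ.map_eq_one_iff.mp e'
        · rw [← map_commutatorElement] at e'; exact hfpf _ e'
      intro x y
      refine commutatorElement_eq_one_iff_mul_comm.1 ?_
      rcases hc2 _ (hall x y) with e' | e'
      · exact e'
      · rw [e', hab1]
  -- the quotient is nonabelian: contradiction
  exfalso
  have hna' : ¬ IsMulCommutative (T ⧸ V) := by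
    intro hcm
    have hq : ∀ p r : T ⧸ V, p * r = r * p := fun p r => hcm.is_comm.comm p r
    rcases h'.abelian hTq hq with ⟨h16, -⟩ | hΩ
    · omega
    · -- all squares lie in the involutions, so there are at most sixteen elements
      letI : CommGroup (T ⧸ V) := { (inferInstance : Group (T ⧸ V)) with mul_comm := hq }
      let sqh : T ⧸ V →* V' := MonoidHom.mk' (fun p => ⟨p * p, hsq p⟩)
        fun p r => Subtype.ext (mul_mul_mul_comm p r p r)
      have h1 : sqh.ker ≤ V' := fun p hp => hΩ p (congrArg Subtype.val hp)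
      have h2 := sqh.ker.card_mul_index
      rw [Subgroup.index_ker, h64] at h2
      have h3 := Subgroup.card_le_of_le h1
      have h4 := Subgroup.card_le_card_group sqh.range
      rw [h'.card] at h3 h4
      have := Nat.mul_le_mul h3 h4
      omega
  have hF : Fpf ρ' := ⟨hρ'3, hfpf'⟩
  have hZ' : V' = Subgroup.center (T ⧸ V) :=
    Subgroup.eq_of_le_of_card_ge h'.central (by rw [card_center hF h64 hna', h'.card])
  have hcq : ∀ x y : T ⧸ V, ⁅x, y⁆ ∈ V' := fun x y => hZ' ▸ commutator_mem hF h64 hna' x y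
  -- `W` is the full preimage of the fixed points
  set W := V'.comap (QuotientGroup.mk' V) with hWdef
  have hW : ∀ x : T, x ∈ W ↔ x⁻¹ * t x ∈ V := fun x => hmem x
  have hVW : V ≤ W := fun v hv => by rw [hW, (h.fix v).2 hv, inv_mul_cancel]; exact one_mem _
  have hTW : ∀ x w : T, w ∈ W → ⁅x, w⁆ ∈ V := fun x w hw => (QuotientGroup.eq_one_iff _).1 (by
    show (QuotientGroup.mk' V) ⁅x, w⁆ = 1
    rw [map_commutatorElement, commutatorElement_eq_one_iff_mul_comm]
    exact Subgroup.mem_center_iff.mp (h'.central hw) _)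
  have hbl : ∀ x x' w : T, w ∈ W → ⁅x * x', w⁆ = ⁅x, w⁆ * ⁅x', w⁆ := fun x x' w hw => by
    rw [show ⁅x * x', w⁆ = x * ⁅x', w⁆ * x⁻¹ * ⁅x, w⁆ by simp only [commutatorElement_def]; group,
      h.vmul (hTW x' w hw) x, mul_inv_cancel_right]
    exact (h.vmul (hTW x' w hw) _).symm
  have hbr : ∀ x w w' : T, w ∈ W → w' ∈ W → ⁅x, w * w'⁆ = ⁅x, w⁆ * ⁅x, w'⁆ := fun x w w' hw hw' => by
    rw [show ⁅x, w * w'⁆ = ⁅x, w⁆ * (w * ⁅x, w'⁆ * w⁻¹) by simp only [commutatorElement_def]; group,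
      h.vmul (hTW x w' hw') w, mul_inv_cancel_right]
  have hF0 : Fpf ρ := ⟨h.cube, hfpf⟩
  have hρW : ∀ w ∈ W, ρ w ∈ W := fun w hw => hρmem _ hw
  -- `W` is abelian
  obtain ⟨w₀, hw₀⟩ := QuotientGroup.mk_surjective w
  have hw₀W : w₀ ∈ W := by show ((w₀ : T) : T ⧸ V) ∈ V'; rw [hw₀]; exact hwV'
  have hrep : ∀ p ∈ W, ∃ s, (s = 1 ∨ s = w₀ ∨ s = ρ w₀ ∨ s = ρ (ρ w₀)) ∧ ∃ v ∈ V, p = s * v := by
    intro p hp
    have key : ∀ s : T, ((p : T) : T ⧸ V) = s → ∃ v ∈ V, p = s * v := fun s e =>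
      ⟨s⁻¹ * p, QuotientGroup.eq.mp e.symm, (mul_inv_cancel_left _ _).symm⟩
    rcases (hV'4 w hwV' hw1).2 _ hp with e | e | e | e
    · exact ⟨1, Or.inl rfl, key 1 e⟩
    · exact ⟨w₀, Or.inr (Or.inl rfl), key w₀ (by rw [hw₀]; exact e)⟩
    · exact ⟨ρ w₀, Or.inr (Or.inr (Or.inl rfl)), key _ (by rw [← hρ', hw₀]; exact e)⟩
    · exact ⟨ρ (ρ w₀), Or.inr (Or.inr (Or.inr rfl)), key _ (by rw [← hρ', ← hρ', hw₀]; exact e)⟩
  have hWw : ∀ p ∈ W, p * w₀ = w₀ * p := by
    intro p hp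
    obtain ⟨s, hs, v, hv, rfl⟩ := hrep p hp
    have hsw : s * w₀ = w₀ * s := by
      rcases hs with rfl | rfl | rfl | rfl
      · simp
      · rfl
      · exact (hF0.commute w₀).symm.eq
      · rw [hF0.two_eq]
        exact (((Commute.refl w₀).mul_right (hF0.commute w₀)).inv_right).symm.eq
    rw [mul_assoc, ← h.vmul hv w₀, ← mul_assoc, hsw, mul_assoc]
  have hWab : ∀ p ∈ W, ∀ r ∈ W, p * r = r * p := by
    intro p hp r hr
    obtain ⟨s, hs, v, hv, rfl⟩ := hrep r hr
    have hps : p * s = s * p := by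
      rcases hs with rfl | rfl | rfl | rfl
      · simp
      · exact hWw p hp
      · have e := congrArg ρ (hWw _ (hρW _ (hρW p hp)))
        rw [map_mul, map_mul, h.cube] at e
        exact e
      · have e := congrArg (fun a => ρ (ρ a)) (hWw _ (hρW p hp))
        simp only [map_mul, h.cube] at e
        exact e
    rw [← mul_assoc, hps, mul_assoc, h.vmul hv p, ← mul_assoc]
  have hβ : ∀ y g : T, g ∈ W → ⁅y, ρ g⁆ = ρ (ρ ⁅y, g⁆) ∧ ⁅ρ y, g⁆ = ρ (ρ ⁅y, g⁆) := by
    intro y g hg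
    have hg1 := hρW g hg
    have hg2 := hρW _ hg1
    have e1 : ⁅y, g⁆ * ⁅y, ρ g⁆ * ⁅y, ρ (ρ g)⁆ = 1 := by
      rw [← hbr _ _ _ hg hg1, ← hbr _ _ _ (mul_mem hg hg1) hg2, hF0.prod_eq, commutatorElement_one_right]
    have e2 : ⁅y, g⁆ * ⁅ρ y, g⁆ * ⁅ρ (ρ y), g⁆ = 1 := by
      rw [← hbl _ _ _ hg, ← hbl _ _ _ hg, hF0.prod_eq, commutatorElement_one_left]
    -- write the mixed values with images
    have e3 : ⁅ρ y, g⁆ = ρ ⁅y, ρ (ρ g)⁆ := by rw [map_commutatorElement, h.cube]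
    have e4 : ⁅ρ (ρ y), g⁆ = ρ (ρ ⁅y, ρ g⁆) := by rw [map_commutatorElement, map_commutatorElement, h.cube]
    rw [e3, e4] at e2
    have hB := hTW y g hg
    have hX := hTW y _ hg1
    have hY := hTW y _ hg2
    rw [e3]
    generalize ⁅y, g⁆ = B at *
    generalize ⁅y, ρ g⁆ = X at *
    generalize ⁅y, ρ (ρ g)⁆ = Y at *
    have hinv : ∀ v ∈ V, v⁻¹ = v := fun v hv => inv_eq_of_mul_eq_one_right (h.sq v hv)
    have hY' : Y = B * X := by rw [eq_inv_of_mul_eq_one_right e1, hinv _ (mul_mem hB hX)]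
    subst hY'
    have hρρ : ∀ v ∈ V, ρ (ρ v) = v * ρ v := fun v hv => by
      rw [eq_inv_of_mul_eq_one_right (hF0.prod_eq v), hinv _ (mul_mem hv (h.rmem hv))]
    rw [map_mul, hρρ X hX] at e2
    have hbX : B * ρ B * X = 1 := by
      calc B * ρ B * X = B * ρ B * X * (ρ X * ρ X) := by rw [h.sq _ (h.rmem hX), mul_one]
        _ = B * (ρ B * (X * ρ X)) * ρ X := by group
        _ = B * (ρ B * (ρ X * X)) * ρ X := by rw [h.vmul (h.rmem hX) X]
        _ = B * (ρ B * ρ X) * (X * ρ X) := by group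
        _ = 1 := e2
    have hX' : X = ρ (ρ B) := by
      rw [hρρ B hB, eq_inv_of_mul_eq_one_right hbX, hinv _ (mul_mem hB (h.rmem hB))]
    refine ⟨hX', ?_⟩
    rw [hX', map_mul, h.cube, hρρ B hB, h.vmul hB (ρ B)]
  -- `U` centralises `W`
  let U := Subgroup.centralizer (W : Set T)
  have hdU : ∀ x : T, x⁻¹ * t x ∈ U := fun x => by
    rw [Subgroup.mem_centralizer_iff]
    intro w hw
    have hw' : w ∈ W := hw
    have e : ⁅t x, w⁆ = ⁅x, w⁆ := by
      have hd := (hW w).1 hw'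
      have e1 : t ⁅x, w⁆ = ⁅x, w⁆ := (h.fix _).2 (hTW x w hw')
      rw [map_commutatorElement, show t w = w * (w⁻¹ * t w) from (mul_inv_cancel_left _ _).symm,
        hbr _ _ _ hw' (hVW hd), commutatorElement_eq_one_iff_mul_comm.2 (h.vmul hd (t x)), mul_one] at e1
      exact e1
    have e' := hbl x (x⁻¹ * t x) w hw'
    rw [mul_inv_cancel_left, e, left_eq_mul] at e'
    exact (commutatorElement_eq_one_iff_mul_comm.1 e').symm
  have hsmall : ¬ ∀ x : T, x⁻¹ * t x ∈ W := by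
    intro hall
    let ψ : T ⧸ V →* V' := MonoidHom.mk' (fun q => ⟨q⁻¹ * t' q, by
        obtain ⟨x, rfl⟩ := QuotientGroup.mk_surjective q
        exact hall x⟩) fun p r => Subtype.ext (by
      show (p * r)⁻¹ * t' (p * r) = p⁻¹ * t' p * (r⁻¹ * t' r)
      have hp : p⁻¹ * t' p ∈ V' := by
        obtain ⟨x, rfl⟩ := QuotientGroup.mk_surjective p
        exact hall x
      rw [map_mul]
      calc (p * r)⁻¹ * (t' p * t' r) = r⁻¹ * (p⁻¹ * t' p) * t' r := by group
        _ = p⁻¹ * t' p * (r⁻¹ * t' r) := by rw [Subgroup.mem_center_iff.mp (h'.central hp) r⁻¹]; group)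
    have h1 : ψ.ker ≤ V' := fun p hp => (inv_mul_eq_one.mp (congrArg Subtype.val hp : p⁻¹ * t' p = 1)).symm
    have h2 := ψ.ker.card_mul_index
    rw [Subgroup.index_ker, h64] at h2
    have h3 := Subgroup.card_le_of_le h1
    have h4 := Subgroup.card_le_card_group ψ.range
    rw [h'.card] at h3 h4
    have := Nat.mul_le_mul h3 h4
    omega
  have hUtop : ∀ x, x ∈ U := by
    by_contra hne
    simp only [not_forall] at hne
    obtain ⟨y0, hy0⟩ := hne
    apply hsmall
    intro x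
    set u := x⁻¹ * t x
    have hu : u ∈ U := hdU x
    have key : ∀ y, y ∉ U → ⁅u, y⁆ ∈ V := by
      intro y hy
      set g := ⁅u, y⁆ with hgdef
      have hg : g ∈ W := by show (QuotientGroup.mk' V) _ ∈ V'; rw [map_commutatorElement]; exact hcq _ _
      have hg' : ⁅u, ρ y⁆ ∈ W := by show (QuotientGroup.mk' V) _ ∈ V'; rw [map_commutatorElement]; exact hcq _ _
      -- the three term identity
      have huW : ∀ w ∈ W, u * w = w * u := fun w hw => (Subgroup.mem_centralizer_iff.mp hu w hw).symm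
      have hid : ⁅ρ y, g⁆ = ⁅y, ⁅u, ρ y⁆⁆ := by
        have hc : ⁅y, ρ y⁆ ∈ W := by show (QuotientGroup.mk' V) _ ∈ V'; rw [map_commutatorElement]; exact hcq _ _
        -- conjugation by `u` of the commutator of `y` and `ρ y`
        have hyy : ⁅y, ρ y⁆ = 1 := commutatorElement_eq_one_iff_mul_comm.2 (hF0.commute y).eq
        have e := congrArg (fun s => u * s * u⁻¹) hyy
        simp only [mul_one, mul_inv_cancel] at e
        rw [show u * ⁅y, ρ y⁆ * u⁻¹ = ⁅g * y, ⁅u, ρ y⁆ * ρ y⁆ by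
          simp only [hgdef, commutatorElement_def]; group] at e
        set g' := ⁅u, ρ y⁆
        have e5 : ⁅g * y, g' * ρ y⁆ = g * ⁅y, g' * ρ y⁆ * g⁻¹ * ⁅g, g' * ρ y⁆ := by
          simp only [commutatorElement_def]; group
        have e6 : ⁅y, g' * ρ y⁆ = ⁅y, g'⁆ := by
          rw [show ⁅y, g' * ρ y⁆ = ⁅y, g'⁆ * (g' * ⁅y, ρ y⁆ * g'⁻¹) by simp only [commutatorElement_def]; group,
            hyy, mul_one, mul_inv_cancel, mul_one]
        have e7 : ⁅g, g' * ρ y⁆ = ⁅g, g'⁆ * (g' * ⁅g, ρ y⁆ * g'⁻¹) := by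
          simp only [commutatorElement_def]; group
        have e8 : ⁅g, g'⁆ = 1 := commutatorElement_eq_one_iff_mul_comm.2 (hWab g hg g' hg')
        have hgy : ⁅g, ρ y⁆ ∈ V := by rw [← commutatorElement_inv]; exact inv_mem (hTW _ _ hg)
        rw [e5, e6, h.vmul (hTW y g' hg') g, mul_inv_cancel_right, e7, e8, one_mul, h.vmul hgy g',
          mul_inv_cancel_right, ← commutatorElement_inv (ρ y) g] at e
        exact (mul_inv_eq_one.mp e).symm
      -- the value at `ρ y`
      have hred : ⁅y, ⁅u, ρ y⁆⁆ = ⁅y, ρ (ρ g)⁆ := by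
        have hm : (QuotientGroup.mk' V) ⁅u, ρ y⁆ = (QuotientGroup.mk' V) (ρ (ρ g)) := by
          rw [map_commutatorElement]
          show ⁅(u : T ⧸ V), ρ' (y : T ⧸ V)⁆ = ρ' (ρ' ((g : T) : T ⧸ V))
          rw [(table hF h64 hna' _ _).1, hgdef]
          exact congrArg (fun s => ρ' (ρ' s)) (map_commutatorElement (QuotientGroup.mk' V) u y).symm
        obtain ⟨v, hv, hv'⟩ : ∃ v ∈ V, ⁅u, ρ y⁆ = ρ (ρ g) * v :=
          ⟨(ρ (ρ g))⁻¹ * ⁅u, ρ y⁆, QuotientGroup.eq.mp hm.symm, (mul_inv_cancel_left _ _).symm⟩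
        rw [hv', hbr _ _ _ (hρW _ (hρW g hg)) (hVW hv), commutatorElement_eq_one_iff_mul_comm.2 (h.vmul hv y),
          mul_one]
      have h0 : ⁅y, g⁆ = 1 := by
        have e1 := (hβ y g hg).2
        rw [hid, hred, (hβ y (ρ g) (hρW g hg)).1, (hβ y g hg).1, h.cube] at e1
        exact h.free _ (hTW y g hg) (ρ.injective e1).symm
      by_contra hgV
      apply hy
      rw [Subgroup.mem_centralizer_iff]
      intro w' hw'
      have hgne : ((g : T) : T ⧸ V) ≠ 1 := fun e => hgV ((QuotientGroup.eq_one_iff g).1 e)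
      have hz : ∀ s ∈ W, ((s : T) : T ⧸ V) = ((w' : T) : T ⧸ V) → ⁅y, s⁆ = 1 → w' * y = y * w' := by
        intro s hs e e0
        obtain ⟨v, hv, rfl⟩ : ∃ v ∈ V, w' = s * v := ⟨s⁻¹ * w', QuotientGroup.eq.mp e, (mul_inv_cancel_left _ _).symm⟩
        rw [mul_assoc, ← h.vmul hv y, ← mul_assoc, ← commutatorElement_eq_one_iff_mul_comm.1 e0, mul_assoc]
      rcases (hV'4 _ (show ((g : T) : T ⧸ V) ∈ V' from hg) hgne).2 _ hw' with e | e | e | e
      · exact hz 1 (one_mem W) e.symm (commutatorElement_one_right y)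
      · exact hz g hg e.symm h0
      · exact hz (ρ g) (hρW g hg) e.symm (by rw [(hβ y g hg).1, h0, map_one, map_one])
      · exact hz (ρ (ρ g)) (hρW _ (hρW g hg)) e.symm
          (by rw [(hβ y _ (hρW g hg)).1, (hβ y g hg).1, h0]; simp)
    -- the elements outside `U` generate
    show ((u : T) : T ⧸ V) ∈ V'
    rw [hZ', Subgroup.mem_center_iff]
    intro q
    obtain ⟨y, rfl⟩ := QuotientGroup.mk_surjective q
    have hk : ∀ y, y ∉ U → (y : T ⧸ V) * u = u * y := fun y hy => by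
      refine (commutatorElement_eq_one_iff_mul_comm.1 ?_).symm
      rw [show ⁅((u : T) : T ⧸ V), (y : T ⧸ V)⁆ = ((⁅u, y⁆ : T) : T ⧸ V) from
        (map_commutatorElement (QuotientGroup.mk' V) u y).symm]
      exact (QuotientGroup.eq_one_iff _).2 (key y hy)
    by_cases hy : y ∈ U
    · have h1 := hk (y * y0) (fun hm => hy0 (by
        have := mul_mem (inv_mem hy) hm; rwa [inv_mul_cancel_left] at this))
      rw [QuotientGroup.mk_mul, mul_assoc, hk y0 hy0, ← mul_assoc, ← mul_assoc] at h1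
      exact mul_right_cancel h1
    · exact hk y hy
  -- now `W` is central
  have hWc : ∀ w ∈ W, ∀ x : T, x * w = w * x := fun w hw x =>
    (Subgroup.mem_centralizer_iff.mp (hUtop x) w hw).symm
  have hsqW : ∀ x : T, x * x ∈ W := fun x => hsq (x : T ⧸ V)
  simp only [not_forall] at hsmall
  obtain ⟨y1, hy1⟩ := hsmall
  -- a fixed point modulo `W`
  set x := y1⁻¹ * t y1
  have hfix2 : ∀ y : T, (y⁻¹ * t y)⁻¹ * t (y⁻¹ * t y) ∈ W := fun y => by
    have : t (y⁻¹ * t y) = (y⁻¹ * t y)⁻¹ := by rw [map_mul, map_inv, h.tt]; group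
    rw [this, ← _root_.mul_inv_rev]
    exact inv_mem (hsqW _)
  set e := x⁻¹ * t x with he
  have heW : e ∈ W := hfix2 y1
  have hx : ∀ d : T, d⁻¹ * t d ∈ W → d * x = x * d := by
    intro d hd
    have heV : e ∉ V := fun hev => hy1 ((hW x).2 hev)
    -- displacement modulo `V`
    have key : ∀ s, s⁻¹ * t s ∈ W → ((d⁻¹ * t d : T) : T ⧸ V) = ((s⁻¹ * t s : T) : T ⧸ V) → s * x = x * s →
        d * x = x * d := by
      intro s hs hd' hsx
      have hfx : (s⁻¹ * d)⁻¹ * t (s⁻¹ * d) ∈ V := by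
        have e1 : (s⁻¹ * d)⁻¹ * t (s⁻¹ * d) = d⁻¹ * (s * (t s)⁻¹) * t d := by rw [map_mul, map_inv]; group
        have e2 : s * (t s)⁻¹ = (s⁻¹ * t s)⁻¹ := by
          have hc := hWc _ (inv_mem hs) s
          calc s * (t s)⁻¹ = s * (s⁻¹ * t s)⁻¹ * s⁻¹ := by group
            _ = (s⁻¹ * t s)⁻¹ * s * s⁻¹ := by rw [hc]
            _ = _ := mul_inv_cancel_right _ _
        rw [e1, e2, hWc _ (inv_mem hs) d⁻¹, mul_assoc]
        exact QuotientGroup.eq.mp hd'.symm
      have hsdW : s⁻¹ * d ∈ W := (hW _).2 hfx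
      rw [← mul_inv_cancel_left s d, mul_assoc, ← hWc _ hsdW x, ← mul_assoc, hsx, mul_assoc]
    have heq1 : ((e : T) : T ⧸ V) ≠ 1 := fun e' => heV ((QuotientGroup.eq_one_iff _).1 e')
    have hr0 : ∀ z : T, (ρ z)⁻¹ * t (ρ z) = ρ (z⁻¹ * t z) := fun z => by rw [h.comm, map_mul, map_inv]
    have hr1 : (ρ x)⁻¹ * t (ρ x) = ρ e := hr0 x
    have hr2 : (ρ (ρ x))⁻¹ * t (ρ (ρ x)) = ρ (ρ e) := (hr0 (ρ x)).trans (congrArg ρ hr1)
    rcases (hV'4 _ (show ((e : T) : T ⧸ V) ∈ V' from heW) heq1).2 _ hd with e' | e' | e' | e'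
    · exact key 1 (by simp) (e'.trans (by simp)) (by simp)
    · exact key x heW (by rw [← he]; exact e') rfl
    · exact key (ρ x) (by rw [hr1]; exact hρW e heW) (by rw [hr1]; exact e') (hF0.commute x).symm.eq
    · refine key (ρ (ρ x)) (by rw [hr2]; exact hρW _ (hρW e heW)) (by rw [hr2]; exact e') ?_
      rw [hF0.two_eq]
      exact (((Commute.refl x).mul_right (hF0.commute x)).inv_right).symm.eq
  have hxc : ((x : T) : T ⧸ V) ∈ Subgroup.center (T ⧸ V) := by
    rw [Subgroup.mem_center_iff]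
    intro q
    obtain ⟨y, rfl⟩ := QuotientGroup.mk_surjective q
    refine (commutatorElement_eq_one_iff_mul_comm.1 ?_).symm
    rw [show ⁅((x : T) : T ⧸ V), (y : T ⧸ V)⁆ = ((⁅x, y⁆ : T) : T ⧸ V) from
      (map_commutatorElement (QuotientGroup.mk' V) x y).symm, QuotientGroup.eq_one_iff, ← h.fix,
      map_commutatorElement]
    set d := y⁻¹ * t y
    have htx : t x = x * e := (mul_inv_cancel_left x (t x)).symm
    have hty : t y = y * d := (mul_inv_cancel_left y (t y)).symm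
    have hdx : ⁅x, d⁆ = 1 := commutatorElement_eq_one_iff_mul_comm.2 (hx d (hfix2 y)).symm
    have hec : ∀ z : T, ⁅e, z⁆ = 1 := fun z => commutatorElement_eq_one_iff_mul_comm.2 (hWc e heW z).symm
    rw [htx, hty, show ⁅x * e, y * d⁆ = x * ⁅e, y * d⁆ * x⁻¹ * ⁅x, y * d⁆ by
        simp only [commutatorElement_def]; group, hec, mul_one, mul_inv_cancel, one_mul,
      show ⁅x, y * d⁆ = ⁅x, y⁆ * (y * ⁅x, d⁆ * y⁻¹) by simp only [commutatorElement_def]; group,
      hdx, mul_one, mul_inv_cancel, mul_one]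
  rw [← hZ'] at hxc
  exact hy1 hxc


/-- Let T be a 2-subgroup of a finite group G, V ≤ Z(T) a four-group, and t, ρ ∈ N_G(V) ∩ N_G(T) elements of order 2 and 3 with t commuting with ρ and with V. If [V, ρ] = V and C_T(t) = V, then T is elementary abelian of order 16, or homocyclic of rank 2 (ℤ/2ⁿ × ℤ/2ⁿ for some n ≥ 1), or isomorphic to a Sylow 2-subgroup of PSL₃(4) or of PSU₃(4). -/
theorem result {G : Type*} [Group G] [Finite G] (T V : Subgroup G) (hT : IsPGroup 2 ↥T) (hVT : V ≤ T ⊓ Subgroup.centralizer (T : Set G)) (hV : Nat.card ↥V = 4 ∧ ∀ v ∈ V, v ^ 2 = 1) (t ρ : G) (ht : orderOf t = 2) (hρ : orderOf ρ = 3) (htn : t ∈ Subgroup.normalizer (V : Set G) ⊓ Subgroup.normalizer (T : Set G)) (hρn : ρ ∈ Subgroup.normalizer (V : Set G) ⊓ Subgroup.normalizer (T : Set G)) (htρ : t * ρ = ρ * t) (htV : t ∈ Subgroup.centralizer (V : Set G)) (hVρ : ⁅V, Subgroup.zpowers ρ⁆ = V) (hCt : T ⊓ Subgroup.centralizer ({t} : Set G) = V) : (Nat.card ↥T = 16 ∧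 ∀ x ∈ T, x ^ 2 = 1) ∨ (∃ n : ℕ, 1 ≤ n ∧ Nonempty (↥T ≃* Multiplicative (ZMod (2 ^ n)) × Multiplicative (ZMod (2 ^ n)))) ∨ (∃ (F : Type) (_ : Field F) (_ : Fintype F), Fintype.card F = 4 ∧ ∀ P : Sylow 2 (Matrix.ProjectiveSpecialLinearGroup (Fin 3) F), Nonempty (↥T ≃* ↥(P : Subgroup (Matrix.ProjectiveSpecialLinearGroup (Fin 3) F)))) ∨ (∃ (F : Type) (_ : Field F) (_ : Fintype F), Fintype.card F = 16 ∧ ∀ P : Sylow 2 (Cfsg.PSU 3 F 4), Nonempty (↥T ≃* ↥(P : Subgroup (Cfsg.PSU 3 F 4)))) := by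
  classical
  haveI : Fact (Nat.Prime 2) := ⟨Nat.prime_two⟩
  have hres : ∀ g ∈ Subgroup.normalizer (T : Set G), ∃ f : MulAut T, ∀ x : T, ((f x : T) : G) = g * x * g⁻¹ := by
    intro g hg
    have hm : ∀ x : G, x ∈ T ↔ g * x * g⁻¹ ∈ T := Subgroup.mem_normalizer_iff.mp hg
    refine ⟨{ toFun := fun x => ⟨g * x * g⁻¹, (hm _).1 x.2⟩
              invFun := fun x => ⟨g⁻¹ * x * g, (hm _).2 (by rw [← mul_assoc, ← mul_assoc, mul_inv_cancel, one_mul, mul_inv_cancel_right]; exact x.2)⟩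
              left_inv := fun x => Subtype.ext (by simp [mul_assoc])
              right_inv := fun x => Subtype.ext (by simp [mul_assoc])
              map_mul' := fun x y => Subtype.ext (by simp [mul_assoc]) }, fun x => rfl⟩
  obtain ⟨τ, hτ⟩ := hres t htn.2
  obtain ⟨θ, hθ⟩ := hres ρ hρn.2
  have ht2 : t * t = 1 := by rw [← pow_two, ← ht]; exact pow_orderOf_eq_one t
  have hρ3 : ρ * (ρ * ρ) = 1 := by rw [← pow_three, ← hρ]; exact pow_orderOf_eq_one ρ
  have hVT' : V ≤ T := fun v hv => (hVT hv).1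
  set U := V.subgroupOf T
  have hU2 : ∀ v ∈ U, v * v = 1 := fun v hv => Subtype.ext (by
    rw [Subgroup.coe_mul, Subgroup.coe_one, ← pow_two]; exact hV.2 _ hv)
  have hUcard : Nat.card U = 4 := by rw [Nat.card_congr (Subgroup.subgroupOfEquivOfLe hVT').toEquiv, hV.1]
  have hUc : U ≤ Subgroup.center T := fun v hv => Subgroup.mem_center_iff.mpr fun x => Subtype.ext
    (Subgroup.mem_centralizer_iff.mp (hVT hv).2 x x.2)
  have hθU : ∀ v ∈ U, θ v ∈ U := fun v hv => by
    show ((θ v : T) : G) ∈ V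
    rw [hθ]; exact (Subgroup.mem_normalizer_iff.mp hρn.1 _).1 hv
  have hθ3 : ∀ x, θ (θ (θ x)) = x := fun x => Subtype.ext (by
    rw [hθ, hθ, hθ, show ρ * (ρ * (ρ * (x : G) * ρ⁻¹) * ρ⁻¹) * ρ⁻¹ = ρ * (ρ * ρ) * x * (ρ * (ρ * ρ))⁻¹ by group,
      hρ3]; simp)
  have hfree : ∀ v ∈ U, θ v = v → v = 1 := by
    intro v hv e
    by_contra hv1
    -- then every element of `U` is fixed
    have hall : ∀ a ∈ U, θ a = a := by
      intro a ha
      by_contra hne
      have ha1 : a ≠ 1 := fun h => hne (by rw [h, map_one])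
      have hav : a ≠ v := fun h => hne (by rw [h, e])
      haveI : Fintype U := Fintype.ofFinite U
      have hsub := Finset.card_le_card (Finset.subset_univ
        ({(1 : U), ⟨v, hv⟩, ⟨a, ha⟩, ⟨θ a, hθU a ha⟩, ⟨θ (θ a), hθU _ (hθU a ha)⟩} : Finset U))
      rw [Finset.card_univ, ← Nat.card_eq_fintype_card, hUcard] at hsub
      have n1 : θ a ≠ 1 := fun h => ha1 (θ.map_eq_one_iff.mp h)
      have n2 : θ (θ a) ≠ 1 := fun h => n1 (θ.map_eq_one_iff.mp h)
      have n3 : θ a ≠ v := fun h => hav (θ.injective (h.trans e.symm))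
      have n4 : θ (θ a) ≠ v := fun h => n3 (θ.injective (h.trans e.symm))
      have n5 : θ (θ a) ≠ a := fun h => hne (by have := congrArg θ h; rw [hθ3] at this; exact this.symm)
      have n6 : θ (θ a) ≠ θ a := fun h => hne (θ.injective h)
      rw [Finset.card_insert_of_notMem, Finset.card_insert_of_notMem, Finset.card_insert_of_notMem,
        Finset.card_insert_of_notMem, Finset.card_singleton] at hsub
      · omega
      all_goals simp only [Finset.mem_insert, Finset.mem_singleton, Subtype.ext_iff, not_or, Subgroup.coe_one]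
      all_goals simp only [← Subgroup.coe_one T, ← Subtype.ext_iff]
      · exact n6.symm
      · exact ⟨Ne.symm hne, n5.symm⟩
      · exact ⟨hav.symm, n3.symm, n4.symm⟩
      · exact ⟨Ne.symm hv1, ha1.symm, n1.symm, n2.symm⟩
    have hbot : ⁅V, Subgroup.zpowers ρ⁆ = ⊥ := by
      rw [Subgroup.commutator_eq_bot_iff_le_centralizer]
      intro a ha
      rw [Subgroup.mem_centralizer_iff]
      intro g hg
      obtain ⟨k, rfl⟩ := Subgroup.mem_zpowers_iff.mp hg
      have h1 := congrArg Subtype.val (hall ⟨a, hVT' ha⟩ ha)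
      rw [hθ] at h1
      exact ((show Commute ρ a from mul_inv_eq_iff_eq_mul.mp h1).zpow_left k).eq
    rw [hVρ] at hbot
    have := hV.1
    rw [hbot, Subgroup.card_bot] at this
    omega
  have hH : Hyp U τ θ :=
    { central := hUc
      card := hUcard
      sq := hU2
      tt := fun x => Subtype.ext (by
        rw [hτ, hτ, show t * (t * (x : G) * t⁻¹) * t⁻¹ = t * t * x * (t * t)⁻¹ by group, ht2]; simp)
      cube := hθ3
      comm := fun x => Subtype.ext (by
        rw [hτ, hθ, hθ, hτ, show t * (ρ * (x : G) * ρ⁻¹) * t⁻¹ = t * ρ * x * (t * ρ)⁻¹ by group, htρ]; group)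
      fix := fun x => by
        constructor
        · intro e
          have e' := congrArg Subtype.val e
          rw [hτ] at e'
          have hx : (x : G) ∈ T ⊓ Subgroup.centralizer ({t} : Set G) :=
            ⟨x.2, Subgroup.mem_centralizer_singleton_iff.mpr (mul_inv_eq_iff_eq_mul.mp e').symm⟩
          rw [hCt] at hx
          exact hx
        · intro hx
          refine Subtype.ext ?_
          rw [hτ]
          exact mul_inv_eq_iff_eq_mul.mpr ((Subgroup.mem_centralizer_iff.mp htV) x hx).symm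
      free := hfree }
  obtain ⟨hfpf, hstr⟩ := core _ U τ θ rfl hT hH
  by_cases hab : ∀ x y : T, x * y = y * x
  · rcases hH.abelian hT hab with ⟨h16, he⟩ | hΩ
    · refine Or.inl ⟨h16, fun x hx => ?_⟩
      rw [pow_two]
      exact congrArg Subtype.val (he ⟨x, hx⟩)
    · obtain ⟨n, hn, ⟨e⟩⟩ := hH.homocyclic hT hab hΩ
      exact Or.inr (Or.inl ⟨n, hn, ⟨e.trans (MulEquiv.prodMultiplicative _ _)⟩⟩)
  rcases hstr with h | ⟨h64, hsq⟩
  · exact absurd h hab
  have hna : ¬ IsMulCommutative T := fun h => hab fun x y => h.is_comm.comm x y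
  have hF : Fpf θ := ⟨hθ3, hfpf⟩
  have hUZ : U = Subgroup.center T :=
    Subgroup.eq_of_le_of_card_ge hUc (by rw [card_center hF h64 hna, hUcard])
  by_cases hiso : ∃ a : T, a * a = 1 ∧ a ∉ U
  · -- the split case
    obtain ⟨a, ha, haU⟩ := hiso
    obtain ⟨y, hy⟩ : ∃ y : T, ⁅a, y⁆ ≠ 1 := by
      by_contra hc
      simp only [not_exists, not_not] at hc
      exact haU (hUZ ▸ Subgroup.mem_center_iff.mpr fun y => (commutatorElement_eq_one_iff_mul_comm.mp (hc y)).symm)
    have hgU : ⁅a, y⁆ ∈ U := hUZ ▸ commutator_mem hF h64 hna a y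
    obtain ⟨b, hb, hab'⟩ : ∃ b : T, b * b = 1 ∧ ⁅a, b⁆ ≠ 1 := by
      obtain ⟨t1, t2, t3⟩ := table hF h64 hna a y
      have hsa : ∀ s : T, s * s = 1 → Commute a s → ⁅s, y⁆ = y * y →
          (y * s) * (y * s) = 1 ∧ ⁅a, y * s⁆ ≠ 1 := fun s hs hc e => by
        refine ⟨?_, ?_⟩
        · rw [sq_mul hF h64 hna, hs, mul_one, e, hU2 _ (hsq y)]
        · rw [comm_mul_right hF h64 hna, commutatorElement_eq_one_iff_mul_comm.mpr hc.eq, mul_one]; exact hy
      rcases hH.orbit hgU hy (hsq y) with e | e | e | e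
      · exact ⟨y, e, hy⟩
      · exact ⟨_, hsa a ha (Commute.refl a) e.symm⟩
      · refine ⟨_, hsa (θ (θ a)) (by rw [← map_mul, ← map_mul, ha, map_one, map_one]) ?_ ?_⟩
        · rw [hF.two_eq]; exact ((Commute.refl a).mul_right (hF.commute a)).inv_right
        · rw [(table hF h64 hna (θ a) y).2.1, t2, hθ3, e]
      · exact ⟨_, hsa (θ a) (by rw [← map_mul, ha, map_one]) (hF.commute a) (by rw [t2, e])⟩
    obtain ⟨hgens, htop⟩ := gens_of_involutions hF h64 hna ha hb hab'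
    letI : Fintype (GaloisField 2 2) := Fintype.ofFinite _
    have hF4 : Fintype.card (GaloisField 2 2) = 4 := by
      rw [← Nat.card_eq_fintype_card, GaloisField.card 2 2 two_ne_zero]; norm_num
    refine Or.inr (Or.inr (Or.inl ⟨GaloisField 2 2, inferInstance, inferInstance, hF4, fun P => ?_⟩))
    obtain ⟨S, hS, a₁, a₁', b₁, b₁', z₁, z₁', hg', htop'⟩ := sylow_model (F := GaloisField 2 2) hF4
    obtain ⟨e⟩ := nonempty_equiv hgens hg' htop h64 htop' hS
    exact ⟨e.trans (Sylow.equiv S P)⟩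
  · -- the anisotropic case
    simp only [not_exists, not_and, not_not] at hiso
    obtain ⟨u, hu, hu1⟩ : ∃ u ∈ U, u ≠ 1 := by
      by_contra hc
      simp only [not_exists, not_and, not_not] at hc
      rw [(Subgroup.eq_bot_iff_forall U).2 hc, Subgroup.card_bot] at hUcard
      omega
    have hθne : θ ≠ 1 := fun e => hu1 (hfree u hu (by rw [e]; rfl))
    have hθc : θ ^ 3 = 1 := MulEquiv.ext fun x => by
      rw [pow_succ, pow_succ, pow_one]; exact hθ3 x
    haveI : Fact (Nat.Prime 3) := ⟨Nat.prime_three⟩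
    have hK3 : Nat.card (Subgroup.zpowers θ) = 3 := by
      rw [Nat.card_zpowers]; exact orderOf_eq_prime hθc hθne
    have hSuz : Cfsg.IsSuzukiTwoGroup T := by
      have hna' : ∃ x y : T, x * y ≠ y * x := by simpa only [not_forall] using hab
      refine ⟨inferInstance, hT, hna', ⟨u, θ u, fun e => hu1 (hfree u hu e.symm), hu1, hU2 u hu,
        fun e => hu1 (θ.map_eq_one_iff.mp e), hU2 _ (hθU u hu)⟩, Subgroup.zpowers θ, inferInstance, ?_⟩
      intro x y hx hx2 hy hy2
      have hxU := hiso x hx2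
      obtain ⟨k, hk⟩ : ∃ k : ℕ, (θ ^ k) x = y := by
        rcases hH.orbit hxU hx (hiso y hy2) with e | e | e | e
        · exact absurd e hy
        · exact ⟨0, e.symm⟩
        · exact ⟨1, by rw [pow_one]; exact e.symm⟩
        · exact ⟨2, e.symm⟩
      refine ⟨⟨θ ^ k, Subgroup.npow_mem_zpowers θ k⟩, hk, fun g hg => ?_⟩
      by_contra hgne
      let h : Subgroup.zpowers θ := (⟨θ ^ k, Subgroup.npow_mem_zpowers θ k⟩)⁻¹ * g
      have hh1 : h ≠ 1 := fun e => hgne (inv_mul_eq_one.mp e).symm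
      obtain ⟨i, hi⟩ := Subgroup.mem_zpowers_iff.mp
        (mem_zpowers_of_prime_card hK3 hh1 (g' := ⟨θ, Subgroup.mem_zpowers θ⟩))
      have hhx : (h : MulAut T) x = x := by
        show (θ ^ k)⁻¹ ((g : MulAut T) x) = x
        rw [hg, MulAut.inv_def, MulEquiv.symm_apply_eq, hk]
      have hi' : ((h : MulAut T) ^ i) = θ := congrArg Subtype.val hi
      refine hx (hfree x hxU ?_)
      rw [← hi']
      exact MulAction.mem_stabilizer_iff.mp (zpow_mem (MulAction.mem_stabilizer_iff.mpr hhx :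
        (h : MulAut T) ∈ MulAction.stabilizer (MulAut T) x) i)
    letI : Fintype (GaloisField 2 4) := Fintype.ofFinite _
    have hF16 : Fintype.card (GaloisField 2 4) = 16 := by
      rw [← Nat.card_eq_fintype_card, GaloisField.card 2 4 (by norm_num)]; norm_num
    refine Or.inr (Or.inr (Or.inr ⟨GaloisField 2 4, inferInstance, inferInstance, hF16, fun P => ?_⟩))
    obtain ⟨DT⟩ := CfsgLib.SuzukiTwo.exists_sdata hSuz
    obtain ⟨-, hPZ, hPS⟩ := Cfsg.Agent.S1141.result (F := GaloisField 2 4) (n := 2) le_rfl hF16 P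
    obtain ⟨DP⟩ := CfsgLib.SuzukiTwo.exists_sdata hPS
    obtain ⟨πT, ιT, hTs, hTk, hTq⟩ := Cfsg.Agent.S1237.model_of T DT (by rw [← hUZ, hUcard])
    obtain ⟨πP, ιP, hPs, hPk, hPq⟩ := Cfsg.Agent.S1237.model_of _ DP hPZ
    refine CfsgLib.SuzukiTwo.iso_of_square πT πP hTs hPs hTk.le hPk.le
      ((MulEquiv.subgroupCongr hTk).trans ((ιT.trans ιP.symm).trans (MulEquiv.subgroupCongr hPk).symm)) ?_ ?_ ?_
    · intro w
      exact Subtype.ext (DT.center_sq (hTk ▸ w.2))
    · intro v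
      apply Multiplicative.toAdd.injective
      rw [pow_two, toAdd_mul, toAdd_one]
      funext i
      exact CharTwo.add_self_eq_zero _
    · intro g a hg e
      have e1 : ιT ⟨g ^ 2, DT.sq_mem_center g⟩ = ιP ⟨a ^ 2, DP.sq_mem_center a⟩ := by
        apply Multiplicative.toAdd.injective
        rw [hTq, hPq, e]
      show ((ιP.symm (ιT ⟨g ^ 2, DT.sq_mem_center g⟩) : Subgroup.center _) : _) = a ^ 2
      rw [e1, ιP.symm_apply_apply]

end Cfsg.Agent.S2933
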