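import Cfsg.Statements.S2934
import Cfsg.Agent.FixedInvolution.Main

set_option autoImplicit false
open Cfsg

namespace Cfsg.Agent.S2934

/-- Let p be an odd prime, W a finite 2-group and E a non-cyclic abelian p-subgroup of Aut(W) such that, for every nontrivial e ∈ E, the fixed points of e in W contain at most one involution. Then E has order 9, W is extraspecial of order 2⁵, 2⁷ or 2⁹, and the common fixed points of E in W form exactly the centre Z(W). -/
theorem result {W : Type*} [Group W] [Finite W] (hW : IsPGroup 2 W) {p : ℕ} [Fact p.Prime] (hp : p ≠ 2) (E : Subgroup (MulAut W)) (hE : IsPGroup p ↥E) (hab : IsMulCommutative ↥E) (hnc : ¬ IsCyclic ↥E) (hfix : ∀ e ∈ E, e ≠ 1 → ∀ x y : W, orderOf x = 2 → orderOf y = 2 → e x = x → e y = y → x = y) : Nat.card ↥E = 9 ∧ Cfsg.IsExtraspecial 2 W ∧ (Nat.card W = 2 ^ 5 ∨ Nat.card W = 2 ^ 7 ∨ Nat.card W = 2 ^ 9) ∧ {x : W | ∀ e ∈ E, e x = x} = (Subgroup.center W : Set W) := by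
  letI : CommGroup ↥E := { (inferInstance : Group ↥E) with mul_comm := fun a b => hab.1.comm a b }
  haveI : Finite ↥E := Finite.of_injective (fun e : ↥E => ((e : MulAut W) : W → W))
    (fun a b h => Subtype.ext (MulEquiv.ext (congrFun h)))
  have H : CfsgLib.FixedInvolution.Hyp p E.subtype := by
    refine ⟨Fact.out, hp, hW, hE, hnc, E.subtype_injective, ?_⟩
    intro a ha x y hx hx2 hy hy2 fx fy
    exact hfix a a.2 (fun h => ha (Subtype.ext h)) x y (orderOf_eq_prime (by rw [pow_two, hx2]) hx)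
      (orderOf_eq_prime (by rw [pow_two, hy2]) hy) fx fy
  obtain ⟨h1, h2, h3, h4⟩ := CfsgLib.FixedInvolution.main H
  refine ⟨h1, h2, h3, ?_⟩
  ext x
  exact ⟨fun hx => (h4 x).1 (fun a => hx a a.2), fun hx e he => (h4 x).2 hx ⟨e, he⟩⟩

end Cfsg.Agent.S2934
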