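import Cfsg.Statements.S2945
import Cfsg.Agent.JComp.LocalGroups
import Cfsg.Agent.S2944
import Cfsg.Agent.S2820
import Cfsg.Agent.ZJ.Replacement

set_option autoImplicit false
open Cfsg

namespace Cfsg.Agent.S2945

open scoped commutatorElement
open CfsgLib CfsgLib.JComp

section aux

variable {G : Type*} [Group G]

theorem exists_conj_in_layer {H : Subgroup G} (hH : H.IsSubnormal) (hn : ¬ H.Normal) :
    ∃ (x : G) (L : Subgroup G), x ∉ Subgroup.normalizer (H : Set G) ∧ H ≤ L ∧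
      L ≤ Subgroup.normalizer (H : Set G) ∧ x ∈ Subgroup.normalizer (L : Set G) := by
  suffices h : ∀ L : Subgroup G, L.IsSubnormal → H ≤ L → L ≤ Subgroup.normalizer (H : Set G) →
      ∃ (x : G) (L : Subgroup G), x ∉ Subgroup.normalizer (H : Set G) ∧ H ≤ L ∧
      L ≤ Subgroup.normalizer (H : Set G) ∧ x ∈ Subgroup.normalizer (L : Set G) from
    h H hH le_rfl Subgroup.le_normalizer
  intro L hL
  induction hL with
  | top => intro _ h; exact absurd (Subgroup.normalizer_eq_top_iff.1 (top_le_iff.1 h)) hn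
  | step L K hLK hK hLn ih =>
    intro hHL hL
    by_cases hKN : K ≤ Subgroup.normalizer (H : Set G)
    · exact ih (hHL.trans hLK) hKN
    · obtain ⟨x, hxK, hx⟩ := SetLike.not_le_iff_exists.1 hKN
      exact ⟨x, L, hx, hHL, hL, (Subgroup.normal_subgroupOf_iff_le_normalizer hLK).1 hLn hxK⟩

theorem conj_cases {W : Subgroup G} [Finite G] (h4 : Nat.card ↥W = 4) {k : G}
    (hkW : ∀ w ∈ W, k * w * k⁻¹ ∈ W) (hfpf : ∀ w ∈ W, k * w * k⁻¹ = w → w = 1)
    (hk3 : ∀ w ∈ W, (k * k * k) * w = w * (k * k * k))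
    {v : G} (hv : v ∈ W) (hv1 : v ≠ 1) :
    ∀ w ∈ W, w = 1 ∨ w = v ∨ w = k * v * k⁻¹ ∨ w = k * (k * v * k⁻¹) * k⁻¹ := by
  classical
  intro w hw
  by_contra hne
  push Not at hne
  obtain ⟨n1, n2, n3, n4⟩ := hne
  have hinj : ∀ {x y : G}, k * x * k⁻¹ = k * y * k⁻¹ → x = y := fun h => by simpa using h
  have a1 : k * v * k⁻¹ ≠ 1 := fun h => hv1 (hinj (by rw [h]; group))
  have a2 : k * (k * v * k⁻¹) * k⁻¹ ≠ 1 := fun h => a1 (hinj (by rw [h]; group))
  have a3 : k * v * k⁻¹ ≠ v := fun h => hv1 (hfpf v hv h)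
  have a4 : k * (k * v * k⁻¹) * k⁻¹ ≠ k * v * k⁻¹ := fun h => a3 (hinj h)
  have a5 : k * (k * v * k⁻¹) * k⁻¹ ≠ v := by
    intro h
    have h3 : k * (k * (k * v * k⁻¹) * k⁻¹) * k⁻¹ = v := by
      rw [show k * (k * (k * v * k⁻¹) * k⁻¹) * k⁻¹ = k * k * k * v * (k * k * k)⁻¹ by simp [mul_assoc],
        hk3 v hv, mul_inv_cancel_right]
    rw [h] at h3
    exact a3 h3
  have hset : ({1, v, k * v * k⁻¹, k * (k * v * k⁻¹) * k⁻¹, w} : Set G) ⊆ (W : Set G) := by
    intro x hx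
    simp only [Set.mem_insert_iff, Set.mem_singleton_iff] at hx
    rcases hx with rfl | rfl | rfl | rfl | rfl
    exacts [W.one_mem, hv, hkW _ hv, hkW _ (hkW _ hv), hw]
  have hcard := Set.ncard_le_ncard hset (Set.toFinite _)
  rw [show (W : Set G).ncard = 4 from h4] at hcard
  have h5 : ({1, v, k * v * k⁻¹, k * (k * v * k⁻¹) * k⁻¹, w} : Set G).ncard = 5 := by
    rw [Set.ncard_insert_of_notMem (by
        simp only [Set.mem_insert_iff, Set.mem_singleton_iff, not_or]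
        exact ⟨fun h => hv1 h.symm, fun h => a1 h.symm, fun h => a2 h.symm, fun h => n1 h.symm⟩),
      Set.ncard_insert_of_notMem (by
        simp only [Set.mem_insert_iff, Set.mem_singleton_iff, not_or]
        exact ⟨fun h => a3 h.symm, fun h => a5 h.symm, fun h => n2 h.symm⟩),
      Set.ncard_insert_of_notMem (by
        simp only [Set.mem_insert_iff, Set.mem_singleton_iff, not_or]
        exact ⟨fun h => a4 h.symm, fun h => n3 h.symm⟩),
      Set.ncard_pair (fun h => n4 h.symm)]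
  omega

end aux

/-- The situation of a component subnormal in `X`, with `U` the involutions of the centre of the 2-core. -/
structure SNCtx {G : Type*} [Group G] (X K : Subgroup G) (k : G) : Prop where
  le : K ≤ X
  sn : (K.subgroupOf X).IsSubnormal
  gen : Subgroup.closure {g : G | g ∈ K ∧ Odd (orderOf g)} = K
  idx : (Cfsg.pCoreOf 2 K).relIndex K = 3
  card4 : Nat.card ↥(Cfsg.wOf K) = 4
  norm_eq : Subgroup.normalizer (K : Set G) = Subgroup.normalizer (Cfsg.wOf K : Set G)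
  hk : k ∈ K
  fpf : ∀ w ∈ Cfsg.wOf K, k * w * k⁻¹ = w → w = 1
  cube : k * k * k ∈ Cfsg.pCoreOf 2 K

namespace SNCtx

variable {G : Type*} [Group G] [Finite G] {X K : Subgroup G} {k : G}

theorem kX (c : SNCtx X K k) : k ∈ X := c.le c.hk

theorem conjK_W {g w : G} (c : SNCtx X K k) (hg : g ∈ Subgroup.normalizer (K : Set G)) (hw : w ∈ Cfsg.wOf K) :
    g * w * g⁻¹ ∈ Cfsg.wOf K :=
  (Subgroup.mem_normalizer_iff.1 (c.norm_eq ▸ hg) w).1 hw

theorem kW (c : SNCtx X K k) {w : G} (hw : w ∈ Cfsg.wOf K) : k * w * k⁻¹ ∈ Cfsg.wOf K :=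
  c.conjK_W (Subgroup.le_normalizer c.hk) hw

theorem core_comm (_c : SNCtx X K k) {y w : G} (hy : y ∈ Cfsg.pCoreOf 2 K) (hw : w ∈ Cfsg.wOf K) :
    y * w = w * y := (mem_omegaCenterOf.1 (wOf_le_omega K hw)).2.1 y hy

theorem cases4 (c : SNCtx X K k) {v : G} (hv : v ∈ Cfsg.wOf K) (hv1 : v ≠ 1) :
    ∀ w ∈ Cfsg.wOf K, w = 1 ∨ w = v ∨ w = k * v * k⁻¹ ∨ w = k * (k * v * k⁻¹) * k⁻¹ :=
  conj_cases c.card4 (fun _ => c.kW) c.fpf (fun _ hw => c.core_comm c.cube hw) hv hv1

theorem core_normal (X : Subgroup G) {g x : G} (hg : g ∈ X) (hx : x ∈ Cfsg.pCoreOf 2 X) :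
    g * x * g⁻¹ ∈ Cfsg.pCoreOf 2 X :=
  conj_mem_pCoreOf (fun _ hh => X.mul_mem (X.mul_mem hg hh) (X.inv_mem hg)) hx

theorem coreK_le (c : SNCtx X K k) : Cfsg.pCoreOf 2 K ≤ Cfsg.pCoreOf 2 X := by
  haveI : Fact (Nat.Prime 2) := ⟨Nat.prime_two⟩
  have hn : ((Cfsg.pCoreOf 2 K).subgroupOf X).IsSubnormal := by
    have h1 : ((Cfsg.pCoreOf 2 K).subgroupOf K).IsSubnormal := by
      refine Subgroup.Normal.isSubnormal ?_
      rw [Cfsg.pCoreOf, Subgroup.subgroupOf, Subgroup.comap_map_eq_self_of_injective K.subtype_injective]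
      haveI := Components.pCore_characteristic (G := ↥K) 2
      infer_instance
    refine Subgroup.IsSubnormal.trans (K := K.subgroupOf X) (fun x hx => pCoreOf_le K hx) ?_ c.sn
    exact h1.comap (Subgroup.subgroupOfEquivOfLe c.le).toMonoidHom
  intro x hx
  exact ⟨⟨x, c.le (pCoreOf_le K hx)⟩,
    Components.subnormal_le_pCore hn ((isPGroup_pCoreOf K).comap_subtype) hx, rfl⟩

theorem coreX_norm (c : SNCtx X K k) : Cfsg.pCoreOf 2 X ≤ Subgroup.normalizer (K : Set G) := by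
  haveI : Fact (Nat.Prime 2) := ⟨Nat.prime_two⟩
  haveI := Components.pCore_characteristic (G := ↥X) 2
  have hres : (Cfsg.pResidual 2 ↥(K.subgroupOf X)).map (K.subgroupOf X).subtype = K.subgroupOf X := by
    refine le_antisymm (Subgroup.map_subtype_le _) fun y hy => ?_
    have hy' : (y : G) ∈ Subgroup.closure {g : G | g ∈ K ∧ Odd (orderOf g)} := by rw [c.gen]; exact hy
    have key : ∀ z ∈ Subgroup.closure {g : G | g ∈ K ∧ Odd (orderOf g)}, ∀ hz : z ∈ X,
        (⟨z, hz⟩ : ↥X) ∈ (Cfsg.pResidual 2 ↥(K.subgroupOf X)).map (K.subgroupOf X).subtype := by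
      intro z hz
      induction hz using Subgroup.closure_induction with
      | mem g hg =>
        intro hgX
        refine ⟨⟨⟨g, hgX⟩, hg.1⟩, Subgroup.subset_closure ?_, rfl⟩
        show (orderOf _).Coprime 2
        rw [← Subgroup.orderOf_coe, ← Subgroup.orderOf_coe]
        exact Nat.coprime_two_right.2 hg.2
      | one => exact fun _ => Subgroup.one_mem _
      | mul a b ha hb iha ihb =>
        intro _
        have haX : a ∈ X := c.le (c.gen.le ha)
        have hbX : b ∈ X := c.le (c.gen.le hb)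
        exact Subgroup.mul_mem _ (iha haX) (ihb hbX)
      | inv a ha iha =>
        intro _
        exact Subgroup.inv_mem _ (iha (c.le (c.gen.le ha)))
    exact key (y : G) hy' y.2
  have h := (Cfsg.Agent.S2820.result (Cfsg.pCore 2 ↥X) (K.subgroupOf X)
    (Subgroup.Normal.isSubnormal inferInstance) c.sn (Components.pCore_isPGroup 2) hres).1
  rintro _ ⟨r, hr, rfl⟩
  refine Subgroup.mem_normalizer_fintype fun x hx => ?_
  exact (Subgroup.mem_normalizer_iff.1 (h hr) ⟨x, c.le hx⟩).1 hx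

theorem coreX_comm (c : SNCtx X K k) {r w : G} (hr : r ∈ Cfsg.pCoreOf 2 X) (hw : w ∈ Cfsg.wOf K) :
    r * w = w * r := by
  by_cases hw1 : w = 1
  · rw [hw1, mul_one, one_mul]
  have hrN := c.coreX_norm hr
  set q := r⁻¹ * k⁻¹ * r * k with hq
  have hqK : q ∈ K := by
    have h1 := (Subgroup.mem_normalizer_iff.1 ((Subgroup.normalizer (K : Set G)).inv_mem hrN) k⁻¹).1
      (K.inv_mem c.hk)
    rw [inv_inv] at h1
    rw [hq]
    exact K.mul_mem h1 c.hk
  have hqR : q ∈ Cfsg.pCoreOf 2 X := by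
    rw [hq, show r⁻¹ * k⁻¹ * r * k = r⁻¹ * (k⁻¹ * r * k) by simp [mul_assoc]]
    refine (Cfsg.pCoreOf 2 X).mul_mem ((Cfsg.pCoreOf 2 X).inv_mem hr) ?_
    have := core_normal X (X.inv_mem c.kX) hr
    rwa [inv_inv] at this
  have hqQ : q ∈ Cfsg.pCoreOf 2 K := by
    have hn : ((Cfsg.pCoreOf 2 X).subgroupOf K).Normal :=
      ⟨fun x hx g => core_normal X (c.le g.2) hx⟩
    exact ⟨⟨q, hqK⟩, Components.le_pCore hn ((isPGroup_pCoreOf X).comap_subtype) hqR, rfl⟩
  -- the two conjugations commute on W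
  have hcomm : ∀ v ∈ Cfsg.wOf K, r * (k * v * k⁻¹) * r⁻¹ = k * (r * v * r⁻¹) * k⁻¹ := by
    intro v hv
    have hrv : r * v * r⁻¹ ∈ Cfsg.wOf K := c.conjK_W hrN hv
    have e : r * k = k * (r * q) := by rw [hq]; simp [mul_assoc]
    calc r * (k * v * k⁻¹) * r⁻¹ = r * k * v * (r * k)⁻¹ := by simp [mul_assoc]
      _ = k * (r * (q * v * q⁻¹) * r⁻¹) * k⁻¹ := by rw [e]; simp [mul_assoc]
      _ = _ := by rw [c.core_comm hqQ hv, mul_inv_cancel_right]
  -- the third power of r centralizes w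
  have hr3 : Commute (r ^ 3) w := by
    have e3 : r ^ 3 * w * (r ^ 3)⁻¹ = r * (r * (r * w * r⁻¹) * r⁻¹) * r⁻¹ := by
      simp [pow_succ, mul_assoc]
    have hk3 : k * (k * (k * w * k⁻¹) * k⁻¹) * k⁻¹ = w := by
      rw [show k * (k * (k * w * k⁻¹) * k⁻¹) * k⁻¹ = k * k * k * w * (k * k * k)⁻¹ by simp [mul_assoc],
        c.core_comm c.cube hw, mul_inv_cancel_right]
    rcases c.cases4 hw hw1 _ (c.conjK_W hrN hw) with h | h | h | h
    · exact absurd (conj_eq_one_iff.1 h) hw1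
    · refine mul_inv_eq_iff_eq_mul.1 ?_
      rw [e3, h, h, h]
    · refine mul_inv_eq_iff_eq_mul.1 ?_
      rw [e3, h, hcomm w hw, h, hcomm _ (c.kW hw), hcomm w hw, h]
      exact hk3
    · refine mul_inv_eq_iff_eq_mul.1 ?_
      rw [e3, h, hcomm _ (c.kW hw), hcomm w hw, h, hcomm _ (c.kW (c.kW (c.kW hw))), hcomm _ (c.kW (c.kW hw)),
        hcomm _ (c.kW hw), hcomm w hw, h]
      rw [hk3, hk3]
  obtain ⟨n, hn⟩ := isPGroup_pCoreOf X ⟨r, hr⟩
  have hd : orderOf r ∣ 2 ^ n := orderOf_dvd_of_pow_eq_one (by simpa using congrArg Subtype.val hn)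
  obtain ⟨m, hm⟩ := exists_pow_eq_self_of_coprime (x := r) (n := 3)
    (((show Nat.Coprime 3 2 by decide).pow_right n).coprime_dvd_right hd)
  rw [← hm]
  exact (hr3.pow_left m).eq

theorem W_le_U (c : SNCtx X K k) : Cfsg.wOf K ≤ Cfsg.omegaCenterOf (Cfsg.pCoreOf 2 X) := fun w hw =>
  mem_omegaCenterOf.2 ⟨c.coreK_le (wOf_le_pCoreOf K hw), fun _ hy => c.coreX_comm hy hw,
    (mem_omegaCenterOf.1 (wOf_le_omega K hw)).2.2⟩

omit [Finite G] in
theorem U_le (X : Subgroup G) : Cfsg.omegaCenterOf (Cfsg.pCoreOf 2 X) ≤ Cfsg.pCoreOf 2 X := by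
  rw [Cfsg.omegaCenterOf, Cfsg.omegaOne, Subgroup.closure_le]
  exact fun x hx => hx.1.1

theorem conj_U {g u : G} (hg : g ∈ X) (hu : u ∈ Cfsg.omegaCenterOf (Cfsg.pCoreOf 2 X)) :
    g * u * g⁻¹ ∈ Cfsg.omegaCenterOf (Cfsg.pCoreOf 2 X) := conj_mem_vOf hg hu

theorem comm_in_W (c : SNCtx X K k) {x u : G} (hx : x ∈ K)
    (hu : u ∈ Cfsg.omegaCenterOf (Cfsg.pCoreOf 2 X)) : x * u * x⁻¹ * u⁻¹ ∈ Cfsg.wOf K := by
  set U := Cfsg.omegaCenterOf (Cfsg.pCoreOf 2 X) with hU
  -- commutators lie in the centre of the core of K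
  have hΩ : ∀ x ∈ K, ∀ u ∈ U, x * u * x⁻¹ * u⁻¹ ∈ Cfsg.omegaCenterOf (Cfsg.pCoreOf 2 K) := by
    intro x hx u hu
    have huN := c.coreX_norm (U_le X hu)
    have hK' : x * u * x⁻¹ * u⁻¹ ∈ K := by
      rw [show x * u * x⁻¹ * u⁻¹ = x * (u * x⁻¹ * u⁻¹) by simp [mul_assoc]]
      exact K.mul_mem hx ((Subgroup.mem_normalizer_iff.1 huN x⁻¹).1 (K.inv_mem hx))
    have hU' : x * u * x⁻¹ * u⁻¹ ∈ U := U.mul_mem (conj_U (c.le hx) hu) (U.inv_mem hu)
    obtain ⟨h1, h2, h3⟩ := mem_omegaCenterOf.1 hU'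
    have hn : ((Cfsg.pCoreOf 2 X).subgroupOf K).Normal :=
      ⟨fun x hx g => core_normal X (c.le g.2) hx⟩
    exact mem_omegaCenterOf.2 ⟨⟨⟨_, hK'⟩, Components.le_pCore hn ((isPGroup_pCoreOf X).comap_subtype) h1, rfl⟩,
      fun y hy => h2 y (c.coreK_le hy), h3⟩
  have hW : ∀ x ∈ K, ∀ z ∈ Cfsg.omegaCenterOf (Cfsg.pCoreOf 2 K), x * z * x⁻¹ * z⁻¹ ∈ Cfsg.wOf K := by
    intro x hx z hz
    have := (Cfsg.wOf K).inv_mem (Subgroup.commutator_mem_commutator hz hx :
      ⁅z, x⁆ ∈ Cfsg.wOf K)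
    rwa [commutatorElement_inv, commutatorElement_def] at this
  -- elements of odd order
  have hodd : ∀ x ∈ K, Odd (orderOf x) → ∀ u ∈ U, x * u * x⁻¹ * u⁻¹ ∈ Cfsg.wOf K := by
    intro x hx ho u hu
    set e := x * u * x⁻¹ * u⁻¹ with he
    have heΩ := hΩ x hx u hu
    have hxN : x ∈ Subgroup.normalizer (K : Set G) := Subgroup.le_normalizer hx
    have hpow : ∀ n : ℕ, ∃ w ∈ Cfsg.wOf K, x ^ n * u * (x ^ n)⁻¹ = w * e ^ n * u := by
      intro n
      induction n with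
      | zero => exact ⟨1, Subgroup.one_mem _, by simp⟩
      | succ n ih =>
        obtain ⟨w, hw, hn⟩ := ih
        have hen : e ^ n ∈ Cfsg.omegaCenterOf (Cfsg.pCoreOf 2 K) := Subgroup.pow_mem _ heΩ n
        refine ⟨x * w * x⁻¹ * (x * e ^ n * x⁻¹ * (e ^ n)⁻¹),
          Subgroup.mul_mem _ (c.conjK_W hxN hw) (hW x hx _ hen), ?_⟩
        rw [pow_succ' x, pow_succ e,
          show x * x ^ n * u * (x * x ^ n)⁻¹ = x * (x ^ n * u * (x ^ n)⁻¹) * x⁻¹ by simp [mul_assoc], hn, he]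
        simp [mul_assoc]
    obtain ⟨w, hw, hw'⟩ := hpow (orderOf x)
    rw [pow_orderOf_eq_one, one_mul, inv_one, mul_one, eq_comm, mul_eq_right] at hw'
    obtain ⟨m, hm⟩ := ho
    have he2 : e * e = 1 := (mem_omegaCenterOf.1 heΩ).2.2
    rw [hm, pow_succ, pow_mul, pow_two, he2, one_pow, one_mul] at hw'
    rw [eq_inv_of_mul_eq_one_right hw']
    exact Subgroup.inv_mem _ hw
  -- all of K
  have hx' : x ∈ Subgroup.closure {g : G | g ∈ K ∧ Odd (orderOf g)} := by rw [c.gen]; exact hx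
  suffices H : ∀ u ∈ U, x * u * x⁻¹ * u⁻¹ ∈ Cfsg.wOf K from H u hu
  clear hu u
  induction hx' using Subgroup.closure_induction with
  | mem g hg => exact fun u hu => hodd g hg.1 hg.2 u hu
  | one => intro u _; simp
  | mul a b ha hb iha ihb =>
    intro u hu
    have haK : a ∈ K := c.gen.le ha
    have hbK : b ∈ K := c.gen.le hb
    rw [show a * b * u * (a * b)⁻¹ * u⁻¹ =
      a * (b * u * b⁻¹ * u⁻¹) * a⁻¹ * (a * u * a⁻¹ * u⁻¹) by simp [mul_assoc]]
    exact Subgroup.mul_mem _ (c.conjK_W (Subgroup.le_normalizer haK) (ihb hbK u hu)) (iha haK u hu)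
  | inv a ha iha =>
    intro u hu
    have haK : a ∈ K := c.gen.le ha
    rw [show a⁻¹ * u * a⁻¹⁻¹ * u⁻¹ = (a * (a⁻¹ * u * a⁻¹⁻¹) * a⁻¹ * (a⁻¹ * u * a⁻¹⁻¹)⁻¹)⁻¹ by simp [mul_assoc]]
    exact (Subgroup.inv_mem _ (iha haK _ (conj_U (X.inv_mem (c.le haK)) hu)))

theorem mapW (h : G) : Cfsg.wOf (K.map (MulAut.conj h).toMonoidHom) =
    (Cfsg.wOf K).map (MulAut.conj h).toMonoidHom := wOf_map (MulAut.conj h) K

/-- Distinct conjugates normalising each other. -/
theorem pair (c : SNCtx X K k) {h : G} (hh : h ∉ Subgroup.normalizer (K : Set G))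
    (hn : k ∈ Subgroup.normalizer ((K.map (MulAut.conj h).toMonoidHom : Subgroup G) : Set G))
    (hhX : h ∈ X) :
    (∀ w ∈ Cfsg.wOf K, h * w * h⁻¹ ∈ Cfsg.wOf K → w = 1) ∧
      ∀ w ∈ Cfsg.wOf K, k * (h * w * h⁻¹) = (h * w * h⁻¹) * k := by
  have hkW' : k ∈ Subgroup.normalizer (((Cfsg.wOf K).map (MulAut.conj h).toMonoidHom : Subgroup G) : Set G) := by
    rw [← mapW]
    refine Subgroup.mem_normalizer_fintype fun x hx => ?_
    exact conj_mem_wOf (fun y hy => (Subgroup.mem_normalizer_iff.1 hn y).1 hy) hx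
  set W' := (Cfsg.wOf K).map (MulAut.conj h).toMonoidHom with hW'
  have h1 : ∀ e ∈ Cfsg.wOf K, e ∈ W' → e = 1 := by
    intro e he he'
    by_contra he1
    have hle : Cfsg.wOf K ≤ W' := by
      intro x hx
      rcases c.cases4 he he1 x hx with rfl | rfl | rfl | rfl
      · exact W'.one_mem
      · exact he'
      · exact (Subgroup.mem_normalizer_iff.1 hkW' _).1 he'
      · exact (Subgroup.mem_normalizer_iff.1 hkW' _).1 ((Subgroup.mem_normalizer_iff.1 hkW' _).1 he')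
    have heq : Cfsg.wOf K = W' := Subgroup.eq_of_le_of_card_ge hle (by
      rw [hW', Subgroup.card_map_of_injective (MulAut.conj h).injective])
    refine hh ?_
    rw [c.norm_eq]
    exact Subgroup.mem_normalizer_iff_map_conj_eq.2 heq.symm
  refine ⟨fun w hw hw' => ?_, fun w hw => ?_⟩
  · have := h1 _ hw' ⟨w, hw, rfl⟩
    exact conj_eq_one_iff.1 this
  · have hmem : h * w * h⁻¹ ∈ W' := ⟨w, hw, rfl⟩
    have hU : h * w * h⁻¹ ∈ Cfsg.omegaCenterOf (Cfsg.pCoreOf 2 X) := conj_U hhX (c.W_le_U hw)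
    have := h1 _ (c.comm_in_W c.hk hU)
      (W'.mul_mem ((Subgroup.mem_normalizer_iff.1 hkW' _).1 hmem) (W'.inv_mem hmem))
    rwa [mul_inv_eq_one, mul_inv_eq_iff_eq_mul] at this

/-- The image in `X / O₂(X)` of the conjugates of `K` generates a 3-group. -/
theorem odd_power (c : SNCtx X K k) {h d : G} (hh : h ∈ X)
    (hd : d ∈ K ⊔ K.map (MulAut.conj h).toMonoidHom) : ∃ n : ℕ, d ^ (3 ^ n) ∈ Cfsg.pCoreOf 2 X := by
  haveI : Fact (Nat.Prime 2) := ⟨Nat.prime_two⟩
  haveI : Fact (Nat.Prime 3) := ⟨Nat.prime_three⟩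
  haveI := Components.pCore_characteristic (G := ↥X) 2
  set R := Cfsg.pCore 2 ↥X with hR
  set q := QuotientGroup.mk' R with hq
  haveI := Components.pCore_characteristic (G := ↥X ⧸ R) 3
  set Y := (Cfsg.pCore 3 (↥X ⧸ R)).comap q with hY
  have hK3 : IsPGroup 3 ↥((K.subgroupOf X).map q) := by
    rintro ⟨_, x, hx, rfl⟩
    refine ⟨1, Subtype.ext ?_⟩
    rw [SubmonoidClass.coe_pow, pow_one]
    show q x ^ 3 = 1
    rw [← map_pow]
    refine (QuotientGroup.eq_one_iff _).2 ?_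
    haveI := Components.pCore_characteristic (G := ↥K) 2
    have hidx : (Cfsg.pCore 2 ↥K).index = 3 := by
      have := c.idx
      rwa [Subgroup.relIndex, Cfsg.pCoreOf, Subgroup.subgroupOf,
        Subgroup.comap_map_eq_self_of_injective K.subtype_injective] at this
    have h3 := Subgroup.pow_index_mem (Cfsg.pCore 2 ↥K) ⟨(x : G), hx⟩
    rw [hidx] at h3
    obtain ⟨r, hr, e⟩ := c.coreK_le ⟨_, h3, rfl⟩
    have e' : r = x ^ 3 := Subtype.ext (by simpa using e)
    rwa [← e']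
  have hKY : K.subgroupOf X ≤ Y := Subgroup.map_le_iff_le_comap.1
    (Components.subnormal_le_pCore (c.sn.map (QuotientGroup.mk'_surjective R)) hK3)
  have hD : K ⊔ K.map (MulAut.conj h).toMonoidHom ≤ Y.map X.subtype := by
    refine sup_le (fun x hx => ⟨⟨x, c.le hx⟩, hKY hx, rfl⟩) ?_
    rintro _ ⟨x, hx, rfl⟩
    haveI : Y.Normal := Subgroup.Normal.comap inferInstance q
    exact ⟨⟨h, hh⟩ * ⟨x, c.le hx⟩ * ⟨h, hh⟩⁻¹, Subgroup.Normal.conj_mem inferInstance _ (hKY hx) _, rfl⟩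
  obtain ⟨y, hy, rfl⟩ := hD hd
  obtain ⟨n, hn⟩ := Components.pCore_isPGroup (G := ↥X ⧸ R) 3 ⟨q y, hy⟩
  refine ⟨n, y ^ 3 ^ n, (QuotientGroup.eq_one_iff _).1 ?_, map_pow _ _ _⟩
  show q (y ^ 3 ^ n) = 1
  rw [map_pow]
  exact congrArg Subtype.val hn

/-- All conjugates of `K` normalize `K`. -/
theorem normalizes (c : SNCtx X K k) {h : G} (hh : h ∈ X) :
    K.map (MulAut.conj h).toMonoidHom ≤ Subgroup.normalizer (K : Set G) := by
  by_contra hcon
  set K' := K.map (MulAut.conj h).toMonoidHom with hK'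
  set D := K ⊔ K' with hD
  have hK'X : K' ≤ X := by
    rintro _ ⟨x, hx, rfl⟩
    exact X.mul_mem (X.mul_mem hh (c.le hx)) (X.inv_mem hh)
  have hDX : D ≤ X := sup_le c.le hK'X
  have hnn : ¬ (K.subgroupOf D).Normal := fun hn =>
    hcon (le_sup_right.trans ((Subgroup.normal_subgroupOf_iff_le_normalizer le_sup_left).1 hn))
  obtain ⟨⟨x, hxD⟩, L, hx, hKL, hLN, hxL⟩ := exists_conj_in_layer (c.sn.comap (Subgroup.inclusion hDX) :
    (K.subgroupOf D).IsSubnormal) hnn
  have hLK : ∀ y ∈ L, ∀ s ∈ K, (y : G) * s * (y : G)⁻¹ ∈ K := fun y hy s hs =>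
    (Subgroup.mem_normalizer_iff.1 (hLN hy) ⟨s, Subgroup.mem_sup_left hs⟩).1 hs
  have hxN : x ∉ Subgroup.normalizer (K : Set G) := fun hn => hx (Subgroup.mem_normalizer_iff.2 fun y =>
    Subgroup.mem_normalizer_iff.1 hn (y : G))
  have hxX : x ∈ X := hDX hxD
  have hxxN : x * x ∉ Subgroup.normalizer (K : Set G) := by
    intro h2
    obtain ⟨n, hn⟩ := c.odd_power hh hxD
    obtain ⟨m, hm⟩ : Odd (3 ^ n) := (show Odd 3 by decide).pow
    have hp := c.coreX_norm hn
    rw [hm, pow_succ, pow_mul] at hp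
    rw [← pow_two] at h2
    have h5 := (Subgroup.normalizer (K : Set G)).mul_mem
      ((Subgroup.normalizer (K : Set G)).inv_mem (Subgroup.pow_mem _ h2 m)) hp
    exact hxN (by simpa using h5)
  -- powers of x carry K into L, so k normalizes these conjugates
  have hkn : ∀ i : ℕ, k ∈ Subgroup.normalizer ((K.map (MulAut.conj (x ^ i)).toMonoidHom : Subgroup G) : Set G) := by
    intro i
    refine Subgroup.mem_normalizer_fintype ?_
    rintro _ ⟨s, hs, rfl⟩
    set xi : ↥D := (⟨x, hxD⟩ : ↥D) ^ i with hxi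
    have hxiL : xi ∈ Subgroup.normalizer (L : Set ↥D) := Subgroup.pow_mem _ hxL i
    have hval : (xi : G) = x ^ i := by rw [hxi, SubmonoidClass.coe_pow]
    have hy := (Subgroup.mem_normalizer_iff.1 ((Subgroup.normalizer (L : Set ↥D)).inv_mem hxiL)
      ⟨k, Subgroup.mem_sup_left c.hk⟩).1 (hKL c.hk)
    refine ⟨_, hLK _ hy s hs, ?_⟩
    simp only [Subgroup.coe_mul, Subgroup.coe_inv, inv_inv, hval, MulEquiv.toMonoidHom_eq_coe, MonoidHom.coe_coe,
      MulAut.conj_apply]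
    simp [mul_assoc]
  obtain ⟨p1, p1'⟩ := c.pair hxN (by simpa using hkn 1) hxX
  obtain ⟨p2, p2'⟩ := c.pair hxxN (by simpa [pow_two] using hkn 2) (X.mul_mem hxX hxX)
  -- V = W W' is invariant under D
  set W := Cfsg.wOf K with hWdef
  set W' := W.map (MulAut.conj h).toMonoidHom with hW'
  set U := Cfsg.omegaCenterOf (Cfsg.pCoreOf 2 X) with hUdef
  have hWU : W ≤ U := c.W_le_U
  have hW'U : W' ≤ U := by
    rintro _ ⟨w, hw, rfl⟩
    exact conj_U hh (hWU hw)
  have hVU : W ⊔ W' ≤ U := sup_le hWU hW'U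
  have hDV : D ≤ Subgroup.normalizer ((W ⊔ W' : Subgroup G) : Set G) := by
    refine sup_le (fun y hy => Subgroup.mem_normalizer_fintype fun v hv => ?_) ?_
    · rw [show y * v * y⁻¹ = y * v * y⁻¹ * v⁻¹ * v by simp]
      exact mul_mem (Subgroup.mem_sup_left (c.comm_in_W hy (hVU hv))) hv
    · rintro _ ⟨y, hy, rfl⟩
      refine Subgroup.mem_normalizer_fintype fun v hv => ?_
      show h * y * h⁻¹ * v * (h * y * h⁻¹)⁻¹ ∈ W ⊔ W'
      have hv' : h⁻¹ * v * h⁻¹⁻¹ ∈ U := conj_U (X.inv_mem hh) (hVU hv)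
      rw [show h * y * h⁻¹ * v * (h * y * h⁻¹)⁻¹ =
        h * (y * (h⁻¹ * v * h⁻¹⁻¹) * y⁻¹ * (h⁻¹ * v * h⁻¹⁻¹)⁻¹) * h⁻¹ * v by simp [mul_assoc]]
      exact mul_mem (Subgroup.mem_sup_right ⟨_, c.comm_in_W hy hv', rfl⟩) hv
  have hcard : Nat.card ↥(W ⊔ W' : Subgroup G) ≤ 16 := by
    have hn : W ≤ Subgroup.normalizer (W' : Set G) := fun w hw =>
      Subgroup.centralizer_le_normalizer _ (Subgroup.mem_centralizer_iff.2 fun z hz =>
        (mem_omegaCenterOf.1 (hWU hw)).2.1 z (U_le X (hW'U hz)))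
    have e := CfsgLib.ZJ.card_sup_mul_card_inf_of_le_normalizer hn
    rw [c.card4, hW', Subgroup.card_map_of_injective (MulAut.conj h).injective, c.card4, ← hW'] at e
    have : 0 < Nat.card ↥(W ⊓ W') := Nat.card_pos
    nlinarith
  have hV : ∀ y ∈ D, ∀ w ∈ W, y * w * y⁻¹ ∈ W ⊔ W' := fun y hy w hw =>
    (Subgroup.mem_normalizer_iff.1 (hDV hy) w).1 (Subgroup.mem_sup_left hw)
  let f : W × W × W → ↥(W ⊔ W' : Subgroup G) := fun p =>
    ⟨(p.1 : G) * (x * (p.2.1 : G) * x⁻¹) * (x * x * (p.2.2 : G) * (x * x)⁻¹),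
      mul_mem (mul_mem (Subgroup.mem_sup_left p.1.2) (hV x hxD _ p.2.1.2))
        (hV (x * x) (mul_mem hxD hxD) _ p.2.2.2)⟩
  have hinj : Function.Injective f := by
    rintro ⟨a, b, d⟩ ⟨a', b', d'⟩ e
    have e1 : (a : G) * (x * b * x⁻¹) * (x * x * d * (x * x)⁻¹) =
        (a' : G) * (x * b' * x⁻¹) * (x * x * d' * (x * x)⁻¹) := congrArg Subtype.val e
    have key : ∀ a b d : G, a ∈ W → b ∈ W → d ∈ W →
        k * (a * (x * b * x⁻¹) * (x * x * d * (x * x)⁻¹)) * k⁻¹ *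
          (a * (x * b * x⁻¹) * (x * x * d * (x * x)⁻¹))⁻¹ = k * a * k⁻¹ * a⁻¹ := by
      intro a b d ha hb hd
      have c1 : k * (x * b * x⁻¹) * k⁻¹ = x * b * x⁻¹ := mul_inv_eq_iff_eq_mul.2 (p1' b hb)
      have c2 : k * (x * x * d * (x * x)⁻¹) * k⁻¹ = x * x * d * (x * x)⁻¹ :=
        mul_inv_eq_iff_eq_mul.2 (p2' d hd)
      have hs : k * (a * (x * b * x⁻¹) * (x * x * d * (x * x)⁻¹)) * k⁻¹ =
          k * a * k⁻¹ * (k * (x * b * x⁻¹) * k⁻¹) * (k * (x * x * d * (x * x)⁻¹) * k⁻¹) := by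
        simp [mul_assoc]
      rw [hs, c1, c2]
      simp [mul_assoc]
    have ea : (a : G) = a' := by
      have h1 := key a b d a.2 b.2 d.2
      rw [e1, key a' b' d' a'.2 b'.2 d'.2] at h1
      have hmul : k * ((a' : G)⁻¹ * a) * k⁻¹ = (a' : G)⁻¹ * a := by
        have h2 : k * (a : G) * k⁻¹ = k * (a' : G) * k⁻¹ * (a' : G)⁻¹ * a := by
          rw [h1]; simp
        rw [show k * ((a' : G)⁻¹ * a) * k⁻¹ = k * (a' : G)⁻¹ * k⁻¹ * (k * (a : G) * k⁻¹) by simp [mul_assoc], h2]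
        simp [mul_assoc]
      exact (inv_mul_eq_one.1 (c.fpf _ (W.mul_mem (W.inv_mem a'.2) a.2) hmul)).symm
    rw [ea] at e1
    have e2 : x * b * x⁻¹ * (x * x * d * (x * x)⁻¹) = x * b' * x⁻¹ * (x * x * d' * (x * x)⁻¹) :=
      mul_left_cancel (a := (a' : G)) (by simpa only [mul_assoc] using e1)
    have e3 : (b : G) * (x * d * x⁻¹) = b' * (x * d' * x⁻¹) := by
      apply mul_left_cancel (a := x)
      apply mul_right_cancel (b := x⁻¹)
      calc x * ((b : G) * (x * d * x⁻¹)) * x⁻¹ = x * b * x⁻¹ * (x * x * d * (x * x)⁻¹) := by simp [mul_assoc]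
        _ = x * b' * x⁻¹ * (x * x * d' * (x * x)⁻¹) := e2
        _ = _ := by simp [mul_assoc]
    have e4 : x * ((d : G) * (d' : G)⁻¹) * x⁻¹ = (b : G)⁻¹ * b' := by
      rw [eq_inv_mul_iff_mul_eq, show (b : G) * (x * ((d : G) * (d' : G)⁻¹) * x⁻¹) =
        (b : G) * (x * d * x⁻¹) * (x * d' * x⁻¹)⁻¹ by simp [mul_assoc], e3]
      simp [mul_assoc]
    have e5 := p1 _ (W.mul_mem d.2 (W.inv_mem d'.2)) (e4 ▸ W.mul_mem (W.inv_mem b.2) b'.2)
    have ed : (d : G) = d' := mul_inv_eq_one.1 e5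
    rw [ed] at e3
    exact Prod.ext (Subtype.ext ea) (Prod.ext (Subtype.ext (mul_right_cancel e3)) (Subtype.ext ed))
  have := Nat.card_le_card_of_injective f hinj
  rw [Nat.card_prod, Nat.card_prod, c.card4] at this
  omega

theorem split (c : SNCtx X K k) {h : G} (hh : h ∈ X) (hhN : h ∉ Subgroup.normalizer (K : Set G)) :
    (∀ w ∈ Cfsg.wOf K, h * w * h⁻¹ ∈ Cfsg.wOf K → w = 1) ∧
      ∀ w ∈ Cfsg.wOf K, k * (h * w * h⁻¹) = (h * w * h⁻¹) * k := by
  refine c.pair hhN ?_ hh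
  refine Subgroup.mem_normalizer_fintype ?_
  rintro _ ⟨s, hs, rfl⟩
  have h1 := c.normalizes (X.inv_mem hh) ⟨k, c.hk, rfl⟩
  refine ⟨_, (Subgroup.mem_normalizer_iff.1 h1 s).1 hs, ?_⟩
  simp [mul_assoc]

/-- An elementary abelian subgroup of largest order normalizes `K`. -/
theorem maxEl_norm (c : SNCtx X K k) {A : Subgroup G} (hAX : A ≤ X) (hA : Cfsg.IsElementaryAbelian 2 A)
    (hmax : ∀ B : Subgroup G, B ≤ X → Cfsg.IsElementaryAbelian 2 B → Nat.card ↥B ≤ Nat.card ↥A) :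
    A ≤ Subgroup.normalizer (K : Set G) := by
  classical
  by_contra hcon
  set W := Cfsg.wOf K with hWdef
  set U := Cfsg.omegaCenterOf (Cfsg.pCoreOf 2 X) with hUdef
  set N := Subgroup.normalizer (K : Set G) with hNdef
  set S := N.subgroupOf A with hS
  have hcA : ∀ {p q : G}, p ∈ A → q ∈ A → p * q = q * p := fun hp hq => el_comm hA hp hq
  have hUc : ∀ a ∈ U, ∀ b ∈ U, a * b = b * a := fun a ha b hb =>
    (mem_omegaCenterOf.1 hb).2.1 a (U_le X ha)
  letI : CommGroup ↥U :=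
    { (inferInstance : Group ↥U) with mul_comm := fun a b => Subtype.ext (hUc a a.2 b b.2) }
  haveI : Fintype (↥A ⧸ S) := Fintype.ofFinite _
  set rep : ↥A ⧸ S → G := fun i => ((Quotient.out i : ↥A) : G) with hrep
  have hrA : ∀ i, rep i ∈ A := fun i => (Quotient.out i).2
  have hrX : ∀ i, rep i ∈ X := fun i => hAX (hrA i)
  have hsep : ∀ i j, i ≠ j → (rep i)⁻¹ * rep j ∉ N := by
    intro i j hij hm
    refine hij ?_
    rw [← QuotientGroup.out_eq' i, ← QuotientGroup.out_eq' j]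
    exact QuotientGroup.eq.2 hm
  let f : (↥A ⧸ S → W) → ↥U := fun w => ∏ i, ⟨rep i * (w i : G) * (rep i)⁻¹, conj_U (hrX i) (c.W_le_U (w i).2)⟩
  let φ : G → Prop := fun g => g ∈ X
  let cj : ∀ g : G, φ g → (↥U →* ↥U) := fun g hg =>
    { toFun := fun u => ⟨g * (u : G) * g⁻¹, conj_U hg u.2⟩
      map_one' := Subtype.ext (by simp)
      map_mul' := fun a b => Subtype.ext (by simp [mul_assoc]) }
  -- the kernel of f is trivial
  have hfmul : ∀ w w', f (w * w') = f w * f w' := by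
    intro w w'
    simp only [f, ← Finset.prod_mul_distrib]
    exact Finset.prod_congr rfl fun i _ => Subtype.ext (by simp [mul_assoc])
  have hker : ∀ w, f w = 1 → w = 1 := by
    intro w hw
    funext j
    have hkj : rep j * k * (rep j)⁻¹ ∈ X := X.mul_mem (X.mul_mem (hrX j) c.kX) (X.inv_mem (hrX j))
    have h0 := congrArg (cj _ hkj) hw
    rw [map_one, ← hw, map_prod] at h0
    simp only [f] at h0
    rw [← Finset.mul_prod_erase _ _ (Finset.mem_univ j), ← Finset.mul_prod_erase _ _ (Finset.mem_univ j),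
      Finset.prod_congr (g := fun i => (⟨rep i * (w i : G) * (rep i)⁻¹, conj_U (hrX i) (c.W_le_U (w i).2)⟩ : ↥U))
        rfl (fun i hi => ?_), mul_right_cancel_iff] at h0
    · have h1 : rep j * k * (rep j)⁻¹ * (rep j * (w j : G) * (rep j)⁻¹) * (rep j * k * (rep j)⁻¹)⁻¹ =
          rep j * (w j : G) * (rep j)⁻¹ := congrArg Subtype.val h0
      refine Subtype.ext (c.fpf _ (w j).2 ?_)
      have h1' : rep j * (k * (w j : G) * k⁻¹) * (rep j)⁻¹ = rep j * (w j : G) * (rep j)⁻¹ := by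
        rw [← h1]; simp [mul_assoc]
      exact mul_left_cancel (mul_right_cancel h1')
    · have hne : j ≠ i := fun e => (Finset.ne_of_mem_erase hi) e.symm
      have h2 := (c.split (X.mul_mem (X.inv_mem (hrX j)) (hrX i)) (hsep j i hne)).2 _ (w i).2
      refine Subtype.ext ?_
      show rep j * k * (rep j)⁻¹ * (rep i * (w i : G) * (rep i)⁻¹) * (rep j * k * (rep j)⁻¹)⁻¹ = _
      calc _ = rep j * (k * ((rep j)⁻¹ * rep i * (w i : G) * ((rep j)⁻¹ * rep i)⁻¹) * k⁻¹) * (rep j)⁻¹ := by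
            simp [mul_assoc]
        _ = rep j * ((rep j)⁻¹ * rep i * (w i : G) * ((rep j)⁻¹ * rep i)⁻¹) * (rep j)⁻¹ := by
            rw [mul_inv_eq_iff_eq_mul.2 h2]
        _ = _ := by simp [mul_assoc]
  let F : (↥A ⧸ S → W) →* ↥U :=
    { toFun := f
      map_one' := by
        have h := hfmul 1 1
        rw [mul_one] at h
        exact left_eq_mul.1 h
      map_mul' := hfmul }
  have hFinj : Function.Injective F := (injective_iff_map_eq_one F).2 hker
  set P := F.range.map U.subtype with hP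
  have hPU : P ≤ U := Subgroup.map_subtype_le _
  set C := A ⊓ Subgroup.centralizer (W : Set G) with hC
  -- C centralizes P
  have hCP : ∀ a ∈ C, ∀ p ∈ P, a * p = p * a := by
    intro a ha p hp
    obtain ⟨_, ⟨w, rfl⟩, rfl⟩ := hp
    have hfix : cj a (hAX ha.1) (f w) = f w := by
      simp only [f, map_prod]
      refine Finset.prod_congr rfl fun i _ => Subtype.ext ?_
      show a * (rep i * (w i : G) * (rep i)⁻¹) * a⁻¹ = _
      have e1 : a * rep i = rep i * a := hcA ha.1 (hrA i)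
      have e2 : a * (w i : G) = (w i : G) * a := ((Subgroup.mem_centralizer_iff.1 ha.2 _ (w i).2)).symm
      calc a * (rep i * (w i : G) * (rep i)⁻¹) * a⁻¹ = a * rep i * (w i : G) * (a * rep i)⁻¹ := by simp [mul_assoc]
        _ = rep i * (a * (w i : G) * a⁻¹) * (rep i)⁻¹ := by rw [e1]; simp [mul_assoc]
        _ = _ := by rw [e2, mul_inv_cancel_right]
    exact mul_inv_eq_iff_eq_mul.1 (congrArg Subtype.val hfix)
  -- B is elementary abelian
  have hPel : ∀ p ∈ P, p * p = 1 := fun p hp => (mem_omegaCenterOf.1 (hPU hp)).2.2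
  have hBel : Cfsg.IsElementaryAbelian 2 (C ⊔ P : Subgroup G) := by
    have hnorm : C ≤ Subgroup.normalizer (P : Set G) := fun a ha =>
      Subgroup.centralizer_le_normalizer _ (Subgroup.mem_centralizer_iff.2 fun p hp => (hCP a ha p hp).symm)
    have hdec : ∀ b : G, b ∈ C ⊔ P → ∃ a ∈ C, ∃ p ∈ P, a * p = b := by
      intro b hb
      rw [← SetLike.mem_coe, Subgroup.coe_mul_of_left_le_normalizer_right C P hnorm] at hb
      obtain ⟨a, ha, p, hp, e⟩ := hb
      exact ⟨a, ha, p, hp, e⟩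
    refine ⟨⟨⟨fun a b => Subtype.ext ?_⟩⟩, fun a ha => ?_⟩
    · obtain ⟨a1, ha1, p1, hp1, e1⟩ := hdec a a.2
      obtain ⟨a2, ha2, p2, hp2, e2⟩ := hdec b b.2
      show (a : G) * b = b * a
      rw [← e1, ← e2]
      exact (((show Commute a1 a2 from hcA ha1.1 ha2.1).mul_right (hCP a1 ha1 p2 hp2)).mul_left
        ((show Commute p1 a2 from (hCP a2 ha2 p1 hp1).symm).mul_right (hUc p1 (hPU hp1) p2 (hPU hp2)))).eq
    · obtain ⟨a1, ha1, p1, hp1, rfl⟩ := hdec a ha
      rw [pow_two, show a1 * p1 * (a1 * p1) = a1 * (p1 * a1) * p1 by simp [mul_assoc], ← hCP a1 ha1 p1 hp1,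
        ← mul_assoc a1 a1 p1, el_sq hA ha1.1, one_mul, hPel p1 hp1]
  have hBX : C ⊔ P ≤ X := sup_le (inf_le_left.trans hAX) (hPU.trans ((U_le X).trans (pCoreOf_le X)))
  have hBA := hmax _ hBX hBel
  -- sizes
  have hPcard : Nat.card ↥P = 4 ^ Nat.card (↥A ⧸ S) := by
    rw [hP, Subgroup.card_map_of_injective U.subtype_injective,
      ← Nat.card_congr (MonoidHom.ofInjective hFinj).toEquiv, Nat.card_fun, c.card4]
  have hprod := CfsgLib.ZJ.card_sup_mul_card_inf_of_le_normalizer (A := C) (B := P) fun a ha =>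
    Subgroup.centralizer_le_normalizer _ (Subgroup.mem_centralizer_iff.2 fun p hp => (hCP a ha p hp).symm)
  -- the fixed points
  set NA := N ⊓ A with hNA
  set Fx := W ⊓ Subgroup.centralizer (NA : Set G) with hFx
  obtain ⟨i₀⟩ : Nonempty (↥A ⧸ S) := inferInstance
  have hfix : ∀ w, ((F w : ↥U) : G) ∈ A → ∀ i, (w i : G) ∈ Fx := by
    intro w hw i
    refine ⟨(w i).2, Subgroup.mem_centralizer_iff.2 fun n hn => ?_⟩
    have hnX : n ∈ X := hAX hn.2
    have hnW : ∀ j, n * (w j : G) * n⁻¹ ∈ W := fun j => c.conjK_W hn.1 (w j).2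
    have he : f (fun j => ⟨n * (w j : G) * n⁻¹, hnW j⟩) = f w := by
      have h1 : cj n hnX (f w) = f w := Subtype.ext (by
        show n * ((f w : ↥U) : G) * n⁻¹ = _
        rw [(hcA hn.2 hw : n * ((f w : ↥U) : G) = _)]; exact mul_inv_cancel_right _ _)
      refine Eq.trans ?_ h1
      simp only [f, map_prod]
      refine Finset.prod_congr rfl fun j _ => Subtype.ext ?_
      show rep j * (n * (w j : G) * n⁻¹) * (rep j)⁻¹ = n * (rep j * (w j : G) * (rep j)⁻¹) * n⁻¹
      calc rep j * (n * (w j : G) * n⁻¹) * (rep j)⁻¹ = rep j * n * (w j : G) * (rep j * n)⁻¹ := by simp [mul_assoc]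
        _ = n * rep j * (w j : G) * (n * rep j)⁻¹ := by rw [hcA (hrA j) hn.2]
        _ = _ := by simp [mul_assoc]
    have := congrArg (fun g : ↥A ⧸ S → W => (g i : G)) (hFinj he)
    exact mul_inv_eq_iff_eq_mul.1 this
  have hinter : Nat.card ↥(A ⊓ P) ≤ Nat.card ↥Fx := by
    have hex : ∀ p : ↥(A ⊓ P), ∃ w, ((F w : ↥U) : G) = (p : G) := fun p => by
      obtain ⟨_, ⟨w, rfl⟩, e⟩ := p.2.2
      exact ⟨w, e⟩
    choose w hw using hex
    refine Nat.card_le_card_of_injective (fun p => ⟨(w p i₀ : G), hfix _ (by rw [hw]; exact p.2.1) i₀⟩) ?_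
    intro p q e
    have e0 : (w p i₀ : G) = w q i₀ := congrArg (fun z : ↥Fx => (z : G)) e
    -- an A-fixed product is determined by one component
    suffices h : w p = w q by exact Subtype.ext (by rw [← hw p, ← hw q, h])
    funext j
    have hkey : ∀ p : ↥(A ⊓ P), ∀ i : ↥A ⧸ S,
        (k * (w p i : G) * k⁻¹ * (w p i : G)⁻¹) = k * (p : G) * k⁻¹ * (p : G)⁻¹ := by
      intro p i
      have hpA : (p : G) ∈ A := p.2.1
      have hki : rep i * k * (rep i)⁻¹ ∈ X := X.mul_mem (X.mul_mem (hrX i) c.kX) (X.inv_mem (hrX i))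
      have hmap : cj _ hki (f (w p)) * (f (w p))⁻¹ =
          cj _ hki ⟨rep i * (w p i : G) * (rep i)⁻¹, conj_U (hrX i) (c.W_le_U (w p i).2)⟩ *
            (⟨rep i * (w p i : G) * (rep i)⁻¹, conj_U (hrX i) (c.W_le_U (w p i).2)⟩ : ↥U)⁻¹ := by
        simp only [f, map_prod]
        rw [← Finset.prod_inv_distrib, ← Finset.prod_mul_distrib]
        refine Finset.prod_eq_single i (fun l _ hl => ?_) (fun h => absurd (Finset.mem_univ i) h)
        rw [mul_inv_eq_one]
        have h2 := (c.split (X.mul_mem (X.inv_mem (hrX i)) (hrX l)) (hsep i l (Ne.symm hl))).2 _ (w p l).2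
        refine Subtype.ext ?_
        show rep i * k * (rep i)⁻¹ * (rep l * (w p l : G) * (rep l)⁻¹) * (rep i * k * (rep i)⁻¹)⁻¹ = _
        calc _ = rep i * (k * ((rep i)⁻¹ * rep l * (w p l : G) * ((rep i)⁻¹ * rep l)⁻¹) * k⁻¹) * (rep i)⁻¹ := by
              simp [mul_assoc]
          _ = rep i * ((rep i)⁻¹ * rep l * (w p l : G) * ((rep i)⁻¹ * rep l)⁻¹) * (rep i)⁻¹ := by
              rw [mul_inv_eq_iff_eq_mul.2 h2]
          _ = _ := by simp [mul_assoc]
      have h3 : rep i * k * (rep i)⁻¹ * ((f (w p) : ↥U) : G) * (rep i * k * (rep i)⁻¹)⁻¹ *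
          ((f (w p) : ↥U) : G)⁻¹ = rep i * k * (rep i)⁻¹ * (rep i * (w p i : G) * (rep i)⁻¹) *
            (rep i * k * (rep i)⁻¹)⁻¹ * (rep i * (w p i : G) * (rep i)⁻¹)⁻¹ := congrArg Subtype.val hmap
      rw [show ((f (w p) : ↥U) : G) = (p : G) from hw p] at h3
      have hcp : (rep i)⁻¹ * (p : G) = (p : G) * (rep i)⁻¹ := hcA (A.inv_mem (hrA i)) hpA
      have h4 : k * ((rep i)⁻¹ * (p : G) * rep i) * k⁻¹ * ((rep i)⁻¹ * (p : G) * rep i)⁻¹ =
          k * (w p i : G) * k⁻¹ * (w p i : G)⁻¹ := by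
        have h5 := congrArg (fun z => (rep i)⁻¹ * z * rep i) h3
        simpa [mul_assoc] using h5
      rw [hcp, inv_mul_cancel_right] at h4
      exact h4.symm
    have h1 : k * (w p j : G) * k⁻¹ * (w p j : G)⁻¹ = k * (w q j : G) * k⁻¹ * (w q j : G)⁻¹ := by
      rw [hkey p j, hkey q j, ← hkey p i₀, ← hkey q i₀, e0]
    refine Subtype.ext ?_
    have hmul : k * ((w q j : G)⁻¹ * w p j) * k⁻¹ = (w q j : G)⁻¹ * w p j := by
      have h2 : k * (w p j : G) * k⁻¹ = k * (w q j : G) * k⁻¹ * (w q j : G)⁻¹ * w p j := by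
        rw [← h1]; simp
      rw [show k * ((w q j : G)⁻¹ * w p j) * k⁻¹ = k * (w q j : G)⁻¹ * k⁻¹ * (k * (w p j : G) * k⁻¹) by
        simp [mul_assoc], h2]
      simp [mul_assoc]
    exact (inv_mul_eq_one.1 (c.fpf _ (W.mul_mem (W.inv_mem (w q j).2) (w p j).2) hmul)).symm
  -- the action of the stabilizer on W
  have hsmall : C.relIndex NA * Nat.card ↥Fx ≤ 4 := by
    have hFx4 : Nat.card ↥Fx ≤ 4 := c.card4 ▸ Subgroup.card_le_of_le inf_le_left
    by_cases htriv : NA ≤ C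
    · rw [Subgroup.relIndex_eq_one.2 htriv, one_mul]; exact hFx4
    obtain ⟨a, ha, haC⟩ := SetLike.not_le_iff_exists.1 htriv
    obtain ⟨v, hv, hav⟩ : ∃ v ∈ W, a * v * a⁻¹ ≠ v := by
      by_contra h
      push Not at h
      exact haC ⟨ha.2, Subgroup.mem_centralizer_iff.2 fun v hv => (mul_inv_eq_iff_eq_mul.1 (h v hv)).symm⟩
    have hv1 : v ≠ 1 := fun e => hav (by rw [e]; simp)
    -- the fixed element
    set v' := a * v * a⁻¹ with hv'
    have hv'W : v' ∈ W := c.conjK_W ha.1 hv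
    have hWc : ∀ {p q : G}, p ∈ W → q ∈ W → p * q = q * p := fun hp hq =>
      hUc _ (c.W_le_U hp) _ (c.W_le_U hq)
    have hWsq : ∀ {p : G}, p ∈ W → p * p = 1 := fun hp => (mem_omegaCenterOf.1 (c.W_le_U hp)).2.2
    have hav' : a * v' * a⁻¹ = v := by
      rw [hv', show a * (a * v * a⁻¹) * a⁻¹ = (a * a) * v * (a * a)⁻¹ by simp [mul_assoc], el_sq hA ha.2]
      simp
    set u := v * v' with hu
    have hvv' : v * (v * v') = v' := by rw [← mul_assoc, hWsq hv, one_mul]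
    have hu1 : u ≠ 1 := fun e => hav (by rw [hu] at e; rw [e, mul_one] at hvv'; exact hvv'.symm)
    have hv'1 : v' ≠ 1 := fun e => hv1 (conj_eq_one_iff.1 e)
    have hall : ∀ w ∈ W, w = 1 ∨ w = v ∨ w = v' ∨ w = u := by
      intro w hw
      have huW : u ∈ W := W.mul_mem hv hv'W
      have huv : u ≠ v := fun e => hv'1 (by rw [hu] at e; exact mul_eq_left.1 e)
      have huv' : u ≠ v' := fun e => hv1 (by rw [hu] at e; exact mul_eq_right.1 e)
      rcases c.cases4 hv hv1 v' hv'W with h1 | h1 | h1 | h1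
      · exact absurd h1 hv'1
      · exact absurd h1 hav
      · rcases c.cases4 hv hv1 u huW with h2 | h2 | h2 | h2
        · exact absurd h2 hu1
        · exact absurd h2 huv
        · exact absurd (h2.trans h1.symm) huv'
        · rw [h1, h2]; exact c.cases4 hv hv1 w hw
      · rcases c.cases4 hv hv1 u huW with h2 | h2 | h2 | h2
        · exact absurd h2 hu1
        · exact absurd h2 huv
        · rw [h1, h2]
          rcases c.cases4 hv hv1 w hw with h | h | h | h <;> simp [h]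
        · exact absurd (h2.trans h1.symm) huv'
    have hfixed : ∀ w ∈ W, a * w = w * a → w = 1 ∨ w = u := by
      intro w hw hc
      rcases hall w hw with h | h | h | h
      · exact Or.inl h
      · exfalso; apply hav; rw [hv', ← h, hc, mul_inv_cancel_right]
      · exfalso; apply hav
        have : a * v' * a⁻¹ = v' := by rw [← h, hc, mul_inv_cancel_right]
        exact (this.symm.trans hav')
      · exact Or.inr h
    have hcardFx : Nat.card ↥Fx ≤ 2 := by
      have hsub : (Fx : Set G) ⊆ {1, u} := fun w hw => by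
        rcases hfixed w hw.1 (Subgroup.mem_centralizer_iff.1 hw.2 a ha) with h | h <;> simp [h]
      calc Nat.card ↥Fx = (Fx : Set G).ncard := rfl
        _ ≤ ({1, u} : Set G).ncard := Set.ncard_le_ncard hsub (Set.toFinite _)
        _ ≤ 2 := by rw [Set.ncard_pair (Ne.symm hu1)]
    -- a second element agrees with a off C
    have hidx : C.relIndex NA ≤ 2 := by
      haveI : (C.subgroupOf NA).Normal := ⟨fun x hx g => by
        show (g : G) * x * (g : G)⁻¹ ∈ C
        rw [hcA g.2.2 x.2.2, mul_inv_cancel_right]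
        exact hx⟩
      rcases Nat.lt_or_ge 2 (C.relIndex NA) with h | h
      swap
      · exact h
      exfalso
      have hdich : ∀ b ∈ NA, b ∈ C ∨ a * b ∈ C := by
        intro b hb
        have hbu : b * u * b⁻¹ = u := by
          have hbuW : b * u * b⁻¹ ∈ W := c.conjK_W hb.1 (W.mul_mem hv hv'W)
          have hau : a * u = u * a := by
            refine mul_inv_eq_iff_eq_mul.1 ?_
            rw [hu, show a * (v * v') * a⁻¹ = a * v * a⁻¹ * (a * v' * a⁻¹) by simp [mul_assoc], ← hv', hav',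
              hWc hv'W hv]
          refine (hfixed _ hbuW ?_).resolve_left (fun e => hu1 (conj_eq_one_iff.1 e))
          have hab : a * b = b * a := hcA ha.2 hb.2
          calc a * (b * u * b⁻¹) = b * (a * u) * b⁻¹ := by simp only [← mul_assoc, hab]
            _ = b * (u * a) * b⁻¹ := by rw [hau]
            _ = b * u * (a * b⁻¹) := by simp [mul_assoc]
            _ = b * u * (b⁻¹ * a) := by rw [hcA ha.2 (A.inv_mem hb.2)]
            _ = _ := by simp [mul_assoc]
        have hact : ∀ d ∈ A, d * v * d⁻¹ = v → d * u * d⁻¹ = u → d * v' * d⁻¹ = v' → d ∈ C := by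
          intro d hd h1 h2 h3
          refine ⟨hd, Subgroup.mem_centralizer_iff.2 fun w hw => ?_⟩
          rcases hall w hw with h | h | h | h <;> rw [h]
          · simp
          · exact (mul_inv_eq_iff_eq_mul.1 h1).symm
          · exact (mul_inv_eq_iff_eq_mul.1 h3).symm
          · exact (mul_inv_eq_iff_eq_mul.1 h2).symm
        have hau' : a * u * a⁻¹ = u := by
          rw [hu, show a * (v * v') * a⁻¹ = a * v * a⁻¹ * (a * v' * a⁻¹) by simp [mul_assoc], ← hv', hav',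
            hWc hv'W hv]
        have hbv' : b * v' * b⁻¹ = a * (b * v * b⁻¹) * a⁻¹ := by
          rw [hv', show b * (a * v * a⁻¹) * b⁻¹ = b * a * v * (b * a)⁻¹ by simp [mul_assoc], hcA hb.2 ha.2]
          simp [mul_assoc]
        rcases hall _ (c.conjK_W hb.1 hv) with h | h | h | h
        · exact absurd (conj_eq_one_iff.1 h) hv1
        · left; exact hact b hb.2 h hbu (by rw [hbv', h])
        · right
          refine hact _ (A.mul_mem ha.2 hb.2) ?_ ?_ ?_
          · rw [show a * b * v * (a * b)⁻¹ = a * (b * v * b⁻¹) * a⁻¹ by simp [mul_assoc], h, hav']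
          · rw [show a * b * u * (a * b)⁻¹ = a * (b * u * b⁻¹) * a⁻¹ by simp [mul_assoc], hbu, hau']
          · rw [show a * b * v' * (a * b)⁻¹ = a * (b * v' * b⁻¹) * a⁻¹ by simp [mul_assoc], hbv', h, hav']
        · refine absurd ?_ hv1
          exfalso
          have : v = u := by
            have h' : b * v * b⁻¹ = b * u * b⁻¹ := h.trans hbu.symm
            simpa using h'
          exact hv'1 (mul_eq_left.1 (by rw [hu] at this; exact this.symm))
      have h2 : C.relIndex NA ∣ 2 := by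
        rw [Subgroup.relIndex, Subgroup.index_eq_card]
        have hle : Nat.card (↥NA ⧸ C.subgroupOf NA) ≤ 2 := by
          refine le_trans (Nat.card_le_card_of_surjective
            (fun t : Bool => ((if t then 1 else ⟨a, ha⟩ : ↥NA) : ↥NA ⧸ C.subgroupOf NA)) ?_) (by simp)
          intro x
          obtain ⟨b, rfl⟩ := QuotientGroup.mk_surjective x
          rcases hdich b b.2 with hb | hb
          · exact ⟨true, QuotientGroup.eq.2 (by simpa [Subgroup.mem_subgroupOf] using hb)⟩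
          · refine ⟨false, QuotientGroup.eq.2 ?_⟩
            show (a⁻¹ * (b : G)) ∈ C
            rwa [inv_eq_of_mul_eq_one_left (el_sq hA ha.2)]
        have hpos : 0 < Nat.card (↥NA ⧸ C.subgroupOf NA) := Nat.card_pos
        interval_cases hc : Nat.card (↥NA ⧸ C.subgroupOf NA) <;> simp [hc]
      have := Nat.le_of_dvd (by norm_num) h2
      omega
    calc C.relIndex NA * Nat.card ↥Fx ≤ 2 * 2 := Nat.mul_le_mul hidx hcardFx
      _ = 4 := rfl
  -- conclusion
  have hm : 2 ≤ Nat.card (↥A ⧸ S) := by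
    have hS1 : S.index ≠ 1 := fun h => hcon (Subgroup.relIndex_eq_one.1 h)
    rw [← Subgroup.index_eq_card]
    have : S.index ≠ 0 := Subgroup.index_ne_zero_of_finite
    omega
  have hAcard : Nat.card ↥A = Nat.card (↥A ⧸ S) * (C.relIndex NA * Nat.card ↥C) := by
    have hCNA : C ≤ NA := fun x hx => by
      refine ⟨?_, hx.1⟩
      rw [hNdef, c.norm_eq]
      exact Subgroup.centralizer_le_normalizer _ hx.2
    have e1 : C.relIndex NA * Nat.card ↥C = Nat.card ↥NA := by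
      rw [mul_comm, ← Nat.card_congr (Subgroup.subgroupOfEquivOfLe hCNA).toEquiv]
      exact Subgroup.card_mul_index _
    have e2 : Nat.card ↥NA = Nat.card ↥S := by
      rw [hS, ← Subgroup.inf_subgroupOf_right N A]
      exact (Nat.card_congr (Subgroup.subgroupOfEquivOfLe inf_le_right).toEquiv).symm
    rw [e1, e2]
    exact Subgroup.card_eq_card_quotient_mul_card_subgroup S
  have hCP4 : Nat.card ↥(C ⊓ P) ≤ Nat.card ↥Fx :=
    (Subgroup.card_le_of_le (inf_le_inf_right P inf_le_left)).trans hinter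
  have hlin : ∀ n, 2 ≤ n → 4 * n < 4 ^ n := by
    intro n hn
    induction n, hn using Nat.le_induction with
    | base => norm_num
    | succ n _ ih => rw [pow_succ]; omega
  have hCpos : 0 < Nat.card ↥C := Nat.card_pos
  have := hlin _ hm
  rw [hPcard] at hprod
  have h5 : Nat.card ↥C * 4 ^ Nat.card (↥A ⧸ S) ≤ Nat.card ↥C * (4 * Nat.card (↥A ⧸ S)) := by
    rw [← hprod]
    calc Nat.card ↥(C ⊔ P : Subgroup G) * Nat.card ↥(C ⊓ P) ≤ Nat.card ↥A * Nat.card ↥Fx :=
          Nat.mul_le_mul hBA hCP4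
      _ = Nat.card ↥C * ((C.relIndex NA * Nat.card ↥Fx) * Nat.card (↥A ⧸ S)) := by rw [hAcard]; ring
      _ ≤ _ := Nat.mul_le_mul_left _ (Nat.mul_le_mul_right _ hsmall)
  have := Nat.le_of_mul_le_mul_left h5 hCpos
  omega

end SNCtx

/-- Let G be a finite group of characteristic 2 type in which every 2-local subgroup is solvable and the centralizer of Ω₁(Z(S)) lies in N_G(S) for every Sylow 2-subgroup S, and let T be a nontrivial 2-subgroup (below, J is the Thompson subgroup generated by the elementary abelian 2-subgroups of largest order), L a subgroup in which T is a Sylow 2-subgroup with J(T) not contained in O₂(L) and C_G(O₂(L)) ≤ O₂(L), and K ≤ L a subgroup that is subnormal in ⟨K, J(T)⟩. If for some conjugate Tᵍ of T, K is a J(Tᵍ)-component with J(Tᵍ) the Thompson subgroup of every Sylow 2-subgroup of N_G(W_K) containing J(Tᵍ) (W_K = [Ω₁(Z(O₂(K))), K]), then K is a J(T)-component. -/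
theorem result {G : Type*} [Group G] [Finite G] (hL : Cfsg.IsCharacteristicTwoType G) (hN : ∀ N : Subgroup G, Cfsg.IsTwoLocal N → Group.IsSolvable ↥N)
    (hZ : ∀ S : Sylow 2 G, Subgroup.centralizer (Cfsg.omegaCenterOf (S : Subgroup G) : Set G) ≤ Subgroup.normalizer ((S : Subgroup G) : Set G)) (T : Subgroup G) (hT : IsPGroup 2 ↥T) (hT1 : T ≠ ⊥) (L : Subgroup G) (hLT : L ∈ Cfsg.jOvergroups T)
    (K : Subgroup G) (hKL : K ≤ L) (hKsn : (K.subgroupOf (K ⊔ Cfsg.thompsonSubgroupOf 2 T)).IsSubnormal)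
    (g : G) (hKg : K ∈ Cfsg.jComponentsZero (T.map (MulAut.conj g).toMonoidHom)) : Cfsg.IsJComponent T K := by
  obtain ⟨hTL, -, -⟩ := hLT
  have hKg' := hKg
  obtain ⟨hc, -⟩ := hKg
  set T' := T.map (MulAut.conj g).toMonoidHom with hT'
  have hT'p : IsPGroup 2 ↥T' := hT.map _
  have hT'1 : T' ≠ ⊥ := fun h => hT1 ((Subgroup.map_eq_bot_iff_of_injective _ (MulAut.conj g).injective).1 h)
  obtain ⟨hNeq, hconj⟩ := Cfsg.Agent.S2944.result hL hN hZ T' hT'p hT'1 K hKg'
  obtain ⟨k, hk, hko, hkQ⟩ := exists_odd_notMem hc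
  set J := Cfsg.thompsonSubgroupOf 2 T with hJ
  have c : SNCtx (K ⊔ J) K k :=
    ⟨le_sup_left, hKsn, hc.1, hc.2.2.1, hc.2.2.2.2.1, hNeq, hk,
      fun _ hw e => fpf_wOf hc hk hko hkQ hw e, (K_cases hc hk hkQ).1⟩
  have hXL : K ⊔ J ≤ L := sup_le hKL ((thompson_le_self T).trans hTL.1)
  have hJK : J ≤ Subgroup.normalizer (Cfsg.wOf K : Set G) := by
    rw [← hNeq]
    refine thompson_le fun A hA => c.maxEl_norm ((hA.le_thompson).trans le_sup_right) hA.el fun B hB hBe => ?_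
    exact (maxEl_conj hTL hA).max B (hB.trans hXL) hBe
  have hback : T'.map (MulAut.conj g⁻¹).toMonoidHom = T := by
    rw [hT', Subgroup.map_map]
    convert Subgroup.map_id T
    ext x
    simp [mul_assoc]
  have := hconj g⁻¹ (by rw [hback]; exact hJK)
  rwa [hback] at this

end Cfsg.Agent.S2945
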