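import Cfsg.Statements.S2970
import Cfsg.Agent.LocalLemmas.Isolated
import Cfsg.Agent.Transfer.Frobenius

set_option autoImplicit false
open Cfsg

namespace Cfsg.Agent.S2970

/-- Let G be a finite group, p a prime and x ∈ G an element of p-power order which is isolated in G. Then the image of x in any quotient G ⧸ N is isolated in G ⧸ N; and if x ≠ 1 and the Sylow p-subgroups of G are cyclic, then G has a normal p-complement. -/
theorem result {G : Type*} [Group G] [Finite G] {p : ℕ} [Fact p.Prime] (x : G) (hx : ∃ k : ℕ, orderOf x = p ^ k) (hiso : Cfsg.IsIsolated x) : (∀ (N : Subgroup G) [N.Normal], Cfsg.IsIsolated (QuotientGroup.mk x : G ⧸ N)) ∧ (x ≠ 1 → (∀ P : Sylow p G, IsCyclic ↥(P : Subgroup G)) → Cfsg.HasNormalPComplement p G) := by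
  refine ⟨fun N _ => ?_, fun hx1 hcyc => ?_⟩
  · intro g' hg'
    obtain ⟨g, rfl⟩ := QuotientGroup.mk_surjective g'
    set π := QuotientGroup.mk' N
    set C := Subgroup.closure ({π x, π (g * x * g⁻¹)} : Set (G ⧸ N)) with hC
    have h1 : x ∈ C.comap π := Subgroup.subset_closure (by simp)
    have h2 : g * x * g⁻¹ ∈ C.comap π := Subgroup.subset_closure (by simp)
    obtain ⟨h, hh, hhg⟩ := CfsgLib.Isolated.exists_mul_mem_centralizer hiso hx h1 h2
    have hcx : C ≤ Subgroup.centralizer ({π x} : Set (G ⧸ N)) := by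
      rw [hC, Subgroup.closure_le]
      rintro y (rfl | rfl)
      · exact Subgroup.mem_centralizer_singleton_iff.mpr rfl
      · exact Subgroup.mem_centralizer_singleton_iff.mpr hg'.eq.symm
    have h3 := congrArg π (Subgroup.mem_centralizer_singleton_iff.mp hhg)
    rw [map_mul, map_mul, map_mul, map_mul, ← mul_assoc (π x), ← Subgroup.mem_centralizer_singleton_iff.mp (hcx hh)] at h3
    simp only [mul_assoc] at h3
    have h4 := mul_left_cancel h3
    show π g * π x * (π g)⁻¹ = π x
    rw [h4, mul_inv_cancel_right]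
  · obtain ⟨k, hk⟩ := hx
    obtain ⟨P, hxP⟩ := (IsPGroup.of_card (n := k) (by rw [Nat.card_zpowers, hk]) :
      IsPGroup p (Subgroup.zpowers x)).exists_le_sylow
    replace hxP : x ∈ (P : Subgroup G) := hxP (Subgroup.mem_zpowers x)
    have hk0 : k ≠ 0 := fun h0 => hx1 (orderOf_eq_one_iff.mp (by rw [hk, h0, pow_zero]))
    set e := x ^ (p ^ (k - 1)) with he
    have heo : orderOf e = p := by
      rw [he, orderOf_pow, hk, Nat.gcd_eq_right (pow_dvd_pow p (Nat.sub_le k 1)),
        Nat.pow_div (Nat.sub_le k 1) (Fact.out : p.Prime).pos, show k - (k - 1) = 1 by omega, pow_one]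
    have heP : e ∈ (P : Subgroup G) := Subgroup.pow_mem _ hxP _
    have hep : e ^ p = 1 := by rw [← heo]; exact pow_orderOf_eq_one e
    haveI := hcyc P
    classical
    let : Fintype (P : Subgroup G) := Fintype.ofFinite _
    have hΩ : ∀ c ∈ (P : Subgroup G), c ^ p = 1 → c ∈ Subgroup.zpowers e := by
      intro c hc hcp
      by_contra hce
      have h1 := IsCyclic.card_pow_eq_one_le (α := (P : Subgroup G)) (Fact.out : p.Prime).pos
      let f : Fin (p + 1) → {a : (P : Subgroup G) // a ^ p = 1} := fun i =>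
        if hi : (i : ℕ) < p then ⟨⟨e ^ (i : ℕ), Subgroup.pow_mem _ heP _⟩, Subtype.ext (by
          show (e ^ (i : ℕ)) ^ p = 1
          rw [← pow_mul, mul_comm, pow_mul, hep, one_pow])⟩
        else ⟨⟨c, hc⟩, Subtype.ext hcp⟩
      have hf : Function.Injective f := by
        intro i j hij
        have e' := congrArg (fun a : {a : (P : Subgroup G) // a ^ p = 1} => ((a : (P : Subgroup G)) : G)) hij
        simp only [f] at e'
        have := i.2
        have := j.2
        split at e' <;> split at e' <;> simp only at e'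
        · exact Fin.ext (pow_injOn_Iio_orderOf (by simpa [heo] using ‹(i : ℕ) < p›) (by simpa [heo] using ‹(j : ℕ) < p›) e')
        · exact absurd (e' ▸ Subgroup.pow_mem _ (Subgroup.mem_zpowers e) _) hce
        · exact absurd (e'.symm ▸ Subgroup.pow_mem _ (Subgroup.mem_zpowers e) _) hce
        · exact Fin.ext (by omega)
      have h2 := Fintype.card_le_of_injective f hf
      rw [Fintype.card_fin, Fintype.card_subtype] at h2
      omega
    refine CfsgLib.Transfer.frobenius_normal_complement (CfsgLib.Transfer.locallyTrivial_of_sylow P ?_)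
    intro Q hQP g hg hgo
    rw [Subgroup.mem_centralizer_iff]
    suffices ∀ q ∈ Q, g * q * g⁻¹ = q by
      intro q hq
      calc q * g = g * q * g⁻¹ * g := by rw [this q hq]
        _ = g * q := by simp [mul_assoc]
    have hQp : IsPGroup p Q := P.isPGroup'.to_le hQP
    intro q
    induction hn : orderOf q using Nat.strong_induction_on generalizing q with
    | _ n ih =>
      intro hq
      by_cases hq1 : q = 1
      · simp [hq1]
      have hpd : p ∣ orderOf q :=
        Subgroup.orderOf_coe (⟨q, hq⟩ : Q) ▸ hQp.dvd_orderOf (fun h => hq1 (congrArg Subtype.val h))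
      have hfix : g * q ^ p * g⁻¹ = q ^ p := by
        refine ih _ ?_ _ rfl (Q.pow_mem hq p)
        rw [orderOf_pow, ← hn, Nat.gcd_eq_right hpd]
        exact Nat.div_lt_self (orderOf_pos q) (Fact.out : p.Prime).one_lt
      set d := q⁻¹ * (g * q * g⁻¹) with hd
      have hdQ : d ∈ Q := Q.mul_mem (Q.inv_mem hq) ((Subgroup.mem_normalizer_iff.1 hg q).1 hq)
      have hdp : d ^ p = 1 := by
        have hcomm : Commute q⁻¹ (g * q * g⁻¹) := by
          obtain ⟨w, hw⟩ := IsCyclic.exists_generator (α := (P : Subgroup G))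
          have := Commute.zpow_zpow_self w
          obtain ⟨i, hi⟩ := Subgroup.mem_zpowers_iff.mp (hw ⟨q⁻¹, hQP (Q.inv_mem hq)⟩)
          obtain ⟨j, hj⟩ := Subgroup.mem_zpowers_iff.mp
            (hw ⟨g * q * g⁻¹, hQP ((Subgroup.mem_normalizer_iff.1 hg q).1 hq)⟩)
          have := congrArg Subtype.val ((hi ▸ hj ▸ Commute.zpow_zpow_self w i j :
            Commute (⟨q⁻¹, hQP (Q.inv_mem hq)⟩ : (P : Subgroup G)) ⟨g * q * g⁻¹, hQP ((Subgroup.mem_normalizer_iff.1 hg q).1 hq)⟩).eq)
          exact this
        rw [hd, hcomm.mul_pow, conj_pow, hfix, inv_pow, inv_mul_cancel]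
      have hdz : d ∈ Subgroup.zpowers x :=
        Subgroup.zpowers_le.mpr (Subgroup.pow_mem _ (Subgroup.mem_zpowers x) _) (hΩ d (hQP hdQ) hdp)
      have hgd : g * d * g⁻¹ = d := CfsgLib.Isolated.conj_eq_of_mem_zpowers hiso ⟨k, hk⟩ P.isPGroup' hxP hdz
        (hQP ((Subgroup.mem_normalizer_iff.1 hg d).1 hdQ))
      have hit : ∀ i : ℕ, g ^ i * q * (g ^ i)⁻¹ = q * d ^ i := by
        intro i
        induction i with
        | zero => simp
        | succ i ihi =>
          have hgdi : g * d ^ i * g⁻¹ = d ^ i := by rw [← conj_pow, hgd]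
          calc g ^ (i + 1) * q * (g ^ (i + 1))⁻¹ = g * (g ^ i * q * (g ^ i)⁻¹) * g⁻¹ := by
                rw [pow_succ']; simp [mul_assoc]
            _ = g * q * g⁻¹ * (g * d ^ i * g⁻¹) := by rw [ihi]; simp [mul_assoc]
            _ = q * d ^ (i + 1) := by rw [hgdi, pow_succ', hd]; simp [mul_assoc]
      have h1 := hit (orderOf g)
      rw [pow_orderOf_eq_one, one_mul, inv_one, mul_one] at h1
      have hd1 : d = 1 := by
        refine CfsgLib.LocalLemmas.eq_one_of_coprime_orderOf (p := p) hQp hdQ ?_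
        exact hgo.coprime_dvd_left (orderOf_dvd_of_pow_eq_one (mul_eq_left.mp h1.symm))
      exact ((inv_mul_eq_one (a := q)).mp (hd ▸ hd1)).symm

end Cfsg.Agent.S2970
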