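import Cfsg.Statements.S2971
import Cfsg.Agent.S2970
import Cfsg.Agent.RankOneP.Basic
import Cfsg.Agent.PCore.Basic

set_option autoImplicit false
open Cfsg

namespace Cfsg.Agent.S2971

/-- Let G be a finite group and p an odd prime such that G has p-rank at most 1 (no elementary abelian subgroup of order p²). If x ∈ G is an isolated element of order p, then x is central modulo the largest normal subgroup of G of order prime to p. -/
theorem result {G : Type*} [Group G] [Finite G] {p : ℕ} [Fact p.Prime] (hp : p ≠ 2) (hrk : Cfsg.PRankLE p 1 G) (x : G) (hx : orderOf x = p) (hiso : Cfsg.IsIsolated x) : Cfsg.InZStar p x := by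
  have hpp := (Fact.out : p.Prime)
  have hcyc : ∀ P : Sylow p G, IsCyclic ↥(P : Subgroup G) := fun P =>
    CfsgLib.RankOneP.isCyclic_of_odd hp P.isPGroup' (CfsgLib.RankOneP.unique_of_rank_le_one P.isPGroup'
      fun A hA hpow => by
        haveI := hA
        have := hrk (A.map (P : Subgroup G).subtype) (Subgroup.map_isMulCommutative _ _) (by
          rintro a ⟨b, hb, rfl⟩
          rw [← map_pow, hpow b hb, map_one])
        rwa [pow_one, Subgroup.card_map_of_injective (P : Subgroup G).subtype_injective] at this)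
  have hx1 : x ≠ 1 := fun h => hpp.ne_one (by rw [← hx, h, orderOf_one])
  obtain ⟨P₀, N, hN, hNP⟩ := (Cfsg.Agent.S2970.result x ⟨1, by rw [hx, pow_one]⟩ hiso).2 hx1 hcyc
  haveI := hN
  have hidx : N.index = Nat.card (P₀ : Subgroup G) := Subgroup.IsComplement'.index_eq_card hNP.symm
  have hcop : ¬ p ∣ Nat.card N := by
    intro hd
    have h1 : N.index * p ∣ Nat.card G := by
      rw [← N.card_mul_index, mul_comm (Nat.card N)]
      exact Nat.mul_dvd_mul_left _ hd
    obtain ⟨k, hk⟩ := IsPGroup.iff_card.mp P₀.isPGroup'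
    rw [hidx, hk, ← pow_succ] at h1
    have h2 := (hpp.pow_dvd_iff_le_factorization Nat.card_pos.ne').mp h1
    rw [P₀.card_eq_multiplicity] at hk
    have := Nat.pow_right_injective hpp.two_le hk
    omega
  have hle := CfsgLib.PCore.le_pPrimeCore_of_not_dvd hN hcop
  obtain ⟨P, hxP⟩ := (IsPGroup.of_card (n := 1) (by rw [Nat.card_zpowers, hx, pow_one]) :
    IsPGroup p (Subgroup.zpowers x)).exists_le_sylow
  haveI := hcyc P
  have htop : N ⊔ (P : Subgroup G) = ⊤ := by
    rw [← Subgroup.index_eq_one]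
    have h1 : (N ⊔ (P : Subgroup G)).index ∣ N.index := Subgroup.index_dvd_of_le le_sup_left
    have h2 : (N ⊔ (P : Subgroup G)).index ∣ (P : Subgroup G).index := Subgroup.index_dvd_of_le le_sup_right
    rw [hidx] at h1
    obtain ⟨k, hk⟩ := IsPGroup.iff_card.mp P₀.isPGroup'
    rw [hk] at h1
    exact Nat.eq_one_of_dvd_coprimes (((hpp.coprime_iff_not_dvd).mpr P.not_dvd_index).pow_left k) h1 h2
  intro g
  have hg : g ∈ N ⊔ (P : Subgroup G) := htop ▸ Subgroup.mem_top g
  obtain ⟨n, hn, s, hs, rfl⟩ := Subgroup.mem_sup_of_normal_left.mp hg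
  obtain ⟨c, hc⟩ := IsCyclic.exists_generator (α := (P : Subgroup G))
  obtain ⟨i, hi⟩ := Subgroup.mem_zpowers_iff.mp (hc ⟨s, hs⟩)
  obtain ⟨j, hj⟩ := Subgroup.mem_zpowers_iff.mp (hc ⟨x, hxP (Subgroup.mem_zpowers x)⟩)
  have hsx : s * x = x * s := congrArg Subtype.val ((hi ▸ hj ▸ Commute.zpow_zpow_self c i j :
    Commute (⟨s, hs⟩ : (P : Subgroup G)) ⟨x, hxP (Subgroup.mem_zpowers x)⟩).eq)
  have he : n * s * x * (n * s)⁻¹ * x⁻¹ = n * (x * n⁻¹ * x⁻¹) := by
    rw [mul_assoc n s x, hsx]; group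
  rw [he]
  exact hle (N.mul_mem hn (hN.conj_mem _ (N.inv_mem hn) x))

end Cfsg.Agent.S2971
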