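import Cfsg.Statements.S2975
import Cfsg.Agent.ZpStarMin.Basic
import Cfsg.Agent.PReduced.StronglyEmbedded

set_option autoImplicit false
open Cfsg

namespace Cfsg.Agent.S2975

/-- Let G be a finite group, p a prime and x ∈ G an isolated element of order p (the only conjugate of x commuting with x is x) which is not central modulo the largest normal subgroup of order prime to p, while x is central modulo the largest normal subgroup of order prime to p in every proper subgroup containing x, and the image of x is so in every quotient of G by a nontrivial normal subgroup (a minimal counterexample to the Z*_p statement). Then for every prime q, every q-subgroup of G that is normalized by x and maximal among the q-subgroups normalized by x is either trivial or a Sylow q-subgroup of G; and C_G(x) permutes the x-invariant Sylow q-subgroups of G transitively by conjugation. -/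
theorem result {G : Type*} [Group G] [Finite G] {p : ℕ} [Fact p.Prime] (x : G) (hx : orderOf x = p) (hiso : Cfsg.IsIsolated x) (hnz : ¬ Cfsg.InZStar p x) (hmin : ∀ (H : Subgroup G) (hxH : x ∈ H), H ≠ ⊤ → Cfsg.InZStar p (⟨x, hxH⟩ : ↥H)) (hquot : ∀ (N : Subgroup G) [N.Normal], N ≠ ⊥ → Cfsg.InZStar p (QuotientGroup.mk x : G ⧸ N)) (q : ℕ) [Fact q.Prime] : (∀ Q : Subgroup G, IsPGroup q ↥Q → x ∈ Subgroup.normalizer (Q : Set G) → (∀ R : Subgroup G, IsPGroup q ↥R → x ∈ Subgroup.normalizer (R : Set G) → Q ≤ R → R = Q) → Q = ⊥ ∨ ∃ S : Sylow q G, (S : Subgroup G) = Q) ∧ (∀ S₁ S₂ : Sylow q G, x ∈ Subgroup.normalizer ((S₁ : Subgroup G) : Set G) → x ∈ Subgroup.normalizer ((S₂ : Subgroup G) : Set G) → ∃ c ∈ Subgroup.centralizer ({x} : Set G), (S₁ : Subgroup G).map (MulAut.conj c).toMonoidHom = (S₂ : Subgroup G)) := by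
  open Subgroup in
  refine ⟨fun Q hQ hxQ hmax => ?_, fun S₁ S₂ h1 h2 => ?_⟩
  · by_cases hQ1 : Q = ⊥
    · exact Or.inl hQ1
    right
    by_cases hqp : q = p
    · subst hqp
      have hx2 : IsPGroup q (zpowers x) := IsPGroup.of_card (n := 1) (by rw [Nat.card_zpowers, hx, pow_one])
      have hsup : IsPGroup q ↥(Q ⊔ zpowers x : Subgroup G) :=
        hQ.to_sup_of_normal_left' hx2 (zpowers_le.mpr hxQ)
      have hxm : x ∈ Q := by
        have h3 := hmax _ hsup (le_normalizer (mem_sup_right (mem_zpowers x))) le_sup_left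
        exact h3 ▸ mem_sup_right (mem_zpowers x)
      obtain ⟨S, hS⟩ := hQ.exists_le_sylow
      exact ⟨S, hmax S S.isPGroup' (le_normalizer (hS hxm)) hS⟩
    set N := normalizer (Q : Set G) with hN
    have hNne : N ≠ ⊤ := by
      intro hNt
      haveI : Q.Normal := normalizer_eq_top_iff.mp hNt
      refine hQ1 (le_bot_iff.mp ((CfsgLib.PCore.le_pPrimeCore ‹Q.Normal› ?_).trans
        (CfsgLib.ZpStarMin.pPrimeCore_eq_bot hnz hquot).le))
      obtain ⟨k, hk⟩ := IsPGroup.iff_card.mp hQ
      rw [hk]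
      exact ((Nat.coprime_primes (Fact.out : q.Prime) (Fact.out : p.Prime)).mpr hqp).pow_left k
    obtain ⟨T, hT⟩ := CfsgLib.ZpStarMin.exists_invariant_sylow (q := q)
      (x := (⟨x, hxQ⟩ : N)) (by rw [Subgroup.orderOf_mk, hx]) (Cfsg.pPrimeCore p N)
      (CfsgLib.PCore.pPrimeCore_coprime p N) (hmin N hxQ hNne)
    haveI : (Q.subgroupOf N).Normal := normal_subgroupOf_of_le_normalizer le_rfl
    obtain ⟨T₀, hT₀⟩ := (hQ.comap_of_injective N.subtype N.subtype_injective).exists_le_sylow
    obtain ⟨g, hg⟩ := MulAction.exists_smul_eq N T₀ T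
    have hQT : Q ≤ (T : Subgroup N).map N.subtype := by
      intro y hy
      refine ⟨⟨y, le_normalizer hy⟩, ?_, rfl⟩
      rw [← hg, Sylow.coe_subgroup_smul, SetLike.mem_coe, Subgroup.mem_pointwise_smul_iff_inv_smul_mem]
      refine hT₀ ?_
      show (MulAut.conj g)⁻¹ ⟨y, le_normalizer hy⟩ ∈ Q.subgroupOf N
      rw [MulAut.conj_inv_apply]
      simpa using (‹(Q.subgroupOf N).Normal›.conj_mem ⟨y, le_normalizer hy⟩ hy g⁻¹)
    have hTQ := hmax _ (T.isPGroup'.map N.subtype) (le_normalizer_map N.subtype ⟨⟨x, hxQ⟩, hT, rfl⟩) hQT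
    obtain ⟨P, hP⟩ := CfsgLib.PReduced.sylow_of_normalizer_le T (le_of_eq (by rw [hTQ]))
    exact ⟨P, hP.trans hTQ⟩
  · obtain ⟨g, hg⟩ := MulAction.exists_smul_eq G S₁ S₂
    have h3 : g * x * g⁻¹ ∈ normalizer ((S₂ : Subgroup G) : Set G) := by
      refine Sylow.smul_eq_iff_mem_normalizer.mp ?_
      calc (g * x * g⁻¹) • S₂ = (g * x * g⁻¹) • g • S₁ := by rw [hg]
        _ = g • x • S₁ := by rw [smul_smul, smul_smul, inv_mul_cancel_right]
        _ = S₂ := by rw [Sylow.smul_eq_iff_mem_normalizer.mpr h1, hg]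
    obtain ⟨h, hh, hhg⟩ := CfsgLib.Isolated.exists_mul_mem_centralizer hiso ⟨1, by rw [hx, pow_one]⟩ h2 h3
    refine ⟨h * g, hhg, ?_⟩
    have h4 : (h * g) • S₁ = S₂ := by rw [mul_smul, hg, Sylow.smul_eq_iff_mem_normalizer.mpr hh]
    rw [← h4]
    rfl

end Cfsg.Agent.S2975
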