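import Cfsg.Statements.S4341
import Mathlib

set_option autoImplicit false
open Cfsg

namespace Cfsg.Agent.S4341

/-- Index of a subgroup inside its product with a normal subgroup. -/
theorem relIndex_sup_normal {G : Type*} [Group G] [Finite G] (A K : Subgroup G) [K.Normal] :
    A.relIndex (A ⊔ K) = A.relIndex K := by
  have h1 : K.relIndex (A ⊔ K) = K.relIndex A := Subgroup.relIndex_sup_right A K
  have hm : ∀ H L : Subgroup G, H ≤ L → Nat.card H * H.relIndex L = Nat.card L := by
    intro H L hHL
    rw [← Nat.card_congr (Subgroup.subgroupOfEquivOfLe hHL).toEquiv]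
    exact Subgroup.card_mul_index _
  have hm' : ∀ H L : Subgroup G, Nat.card ↥(H ⊓ L) * H.relIndex L = Nat.card L := fun H L => by
    rw [← Subgroup.inf_relIndex_right]; exact hm _ _ inf_le_right
  have e1 := hm A (A ⊔ K) le_sup_left
  have e2 := hm K (A ⊔ K) le_sup_right
  have e3 := hm' A K
  have e4 := hm' K A
  rw [h1] at e2
  rw [inf_comm] at e4
  have hpos : 0 < Nat.card A := Nat.card_pos
  refine Nat.eq_of_mul_eq_mul_left hpos ?_
  rw [e1, ← e2, ← e3, ← e4]
  ring

/-- The version inside a subgroup. -/
theorem relIndex_of_sup_eq {G : Type*} [Group G] [Finite G] (A K B : Subgroup G) [K.Normal]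
    (hB : B ≤ (A ⊓ B) ⊔ (K ⊓ B)) : A.relIndex B = A.relIndex (K ⊓ B) := by
  have h := relIndex_sup_normal (A.subgroupOf B) (K.subgroupOf B)
  have htop : A.subgroupOf B ⊔ K.subgroupOf B = ⊤ := by
    apply Subgroup.map_injective B.subtype_injective
    rw [Subgroup.map_sup, Subgroup.subgroupOf_map_subtype, Subgroup.subgroupOf_map_subtype,
      ← MonoidHom.range_eq_map, Subgroup.range_subtype]
    exact le_antisymm (sup_le inf_le_right inf_le_right) hB
  rw [htop, Subgroup.relIndex_top_right] at h
  rw [Subgroup.relIndex, h, ← Subgroup.inf_subgroupOf_right K B,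
    Subgroup.relIndex_subgroupOf (inf_le_right : K ⊓ B ≤ B)]

/-- Let K be a normal subgroup of a finite group G, p a prime and P a Sylow p-subgroup of G; let N be the normalizer of P ∩ K inside the subgroup PK. Then the number of Sylow p-subgroups of G equals the product of the numbers of Sylow p-subgroups of G/K, of K, and of N/(P ∩ K). (The normality of P ∩ K in N, which always holds, is assumed as a hypothesis so that the quotient can be formed.) -/
theorem result {G : Type*} [Group G] [Finite G]
    (p : ℕ) [Fact p.Prime] (K : Subgroup G) [K.Normal] (P : Sylow p G) (N : Subgroup G)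
    (hN : N = ((P : Subgroup G) ⊔ K) ⊓ Subgroup.normalizer (((P : Subgroup G) ⊓ K : Subgroup G) : Set G))
    [hn : (((P : Subgroup G) ⊓ K).subgroupOf N).Normal] :
    Nat.card (Sylow p G) =
      Nat.card (Sylow p (G ⧸ K)) * Nat.card (Sylow p K) * Nat.card (Sylow p (N ⧸ ((P : Subgroup G) ⊓ K).subgroupOf N)) := by
  classical
  set Q : Subgroup G := (P : Subgroup G) ⊓ K with hQ
  have hPnormQ : Subgroup.normalizer ((P : Subgroup G) : Set G) ≤ Subgroup.normalizer (Q : Set G) := by
    intro g hg
    rw [Subgroup.mem_normalizer_iff]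
    intro x
    simp only [hQ, Subgroup.mem_inf]
    exact and_congr (Subgroup.mem_normalizer_iff.mp hg x)
      ((Subgroup.mem_normalizer_iff.mp (by rw [Subgroup.normalizer_eq_top K]; trivial : g ∈ Subgroup.normalizer (K : Set G))) x)
  have hPQ : (P : Subgroup G) ≤ Subgroup.normalizer (Q : Set G) := Subgroup.le_normalizer.trans hPnormQ
  set NP := Subgroup.normalizer ((P : Subgroup G) : Set G) with hNP
  set M := Subgroup.normalizer ((((P : Subgroup G) ⊔ K : Subgroup G)) : Set G) with hM
  -- the quotient
  have hq : Nat.card (Sylow p (G ⧸ K)) = M.index := by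
    have hsur := QuotientGroup.mk'_surjective K
    rw [Sylow.card_eq_index_normalizer (P.mapSurjective hsur), ← Sylow.coe_coe, Sylow.coe_mapSurjective,
      ← Subgroup.index_comap_of_surjective _ hsur, Subgroup.comap_normalizer_eq_of_surjective _ hsur,
      Subgroup.comap_map_eq, QuotientGroup.ker_mk']
  -- the normal subgroup
  have hQp : IsPGroup p (Q.subgroupOf K) := (P.isPGroup'.to_le inf_le_left).of_equiv
    (Subgroup.subgroupOfEquivOfLe inf_le_right).symm
  have hQi : ¬ p ∣ (Q.subgroupOf K).index := by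
    intro hd
    have h1 : (Q.subgroupOf K).index = (P : Subgroup G).relIndex K := Subgroup.inf_relIndex_right _ _
    rw [h1, ← relIndex_sup_normal] at hd
    exact P.not_dvd_index (hd.trans (Subgroup.relIndex_dvd_index_of_le le_sup_left))
  have hK : Nat.card (Sylow p K) = (Subgroup.normalizer (Q : Set G)).relIndex K := by
    rw [Sylow.card_eq_index_normalizer (hQp.toSylow hQi), ← Sylow.coe_coe, IsPGroup.toSylow_coe,
      show Q.subgroupOf K = Q.comap K.subtype from rfl,
      ← Subgroup.comap_normalizer_eq_of_le_range (by rw [Subgroup.range_subtype]; exact inf_le_right)]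
    rfl
  -- the quotient of the normalizer
  have hPN : (P : Subgroup G) ≤ N := hN ▸ le_inf le_sup_left hPQ
  have hN3 : Nat.card (Sylow p (N ⧸ Q.subgroupOf N)) = NP.relIndex N := by
    have hsur := QuotientGroup.mk'_surjective (Q.subgroupOf N)
    rw [Sylow.card_eq_index_normalizer ((P.subtype hPN).mapSurjective hsur), ← Sylow.coe_coe, Sylow.coe_mapSurjective,
      ← Subgroup.index_comap_of_surjective _ hsur, Subgroup.comap_normalizer_eq_of_surjective _ hsur,
      Subgroup.comap_map_eq, QuotientGroup.ker_mk', Sylow.coe_subtype,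
      sup_eq_left.mpr (show Q.subgroupOf N ≤ (P : Subgroup G).subgroupOf N from Subgroup.comap_mono inf_le_left),
      show (P : Subgroup G).subgroupOf N = (P : Subgroup G).comap N.subtype from rfl,
      ← Subgroup.comap_normalizer_eq_of_le_range (by rw [Subgroup.range_subtype]; exact hPN)]
    rfl
  have hN4 : NP.relIndex N = NP.relIndex (K ⊓ Subgroup.normalizer (Q : Set G)) := by
    have e : K ⊓ N = K ⊓ Subgroup.normalizer (Q : Set G) := by
      rw [hN, ← inf_assoc, inf_eq_left.mpr (le_sup_right : K ≤ (P : Subgroup G) ⊔ K)]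
    rw [← e]
    refine relIndex_of_sup_eq NP K N ?_
    intro x hx
    have hx' := hN ▸ hx
    obtain ⟨a, ha, k, hk, rfl⟩ := Subgroup.mem_sup_of_normal_right.mp hx'.1
    refine mul_mem (Subgroup.mem_sup_left ⟨Subgroup.le_normalizer ha, hPN ha⟩) (Subgroup.mem_sup_right ⟨hk, ?_⟩)
    have := N.mul_mem (N.inv_mem (hPN ha)) hx
    rwa [inv_mul_cancel_left] at this
  -- the whole group
  have hPM : NP ≤ M := by
    intro g hg
    rw [hM, Subgroup.mem_normalizer_iff_map_conj_eq]
    have h1 := (Subgroup.mem_normalizer_iff_map_conj_eq.mp hg)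
    rw [Subgroup.map_sup, h1]
    congr 1
    exact Subgroup.mem_normalizer_iff_map_conj_eq.mp (by rw [Subgroup.normalizer_eq_top K]; trivial)
  have hfr : M ≤ NP ⊔ K := by
    intro g hg
    have hle : ((g • P : Sylow p G) : Subgroup G) ≤ (P : Subgroup G) ⊔ K := by
      rw [Sylow.coe_subgroup_smul]
      rintro _ ⟨y, hy, rfl⟩
      exact (Subgroup.mem_normalizer_iff.mp hg y).mp (Subgroup.mem_sup_left hy)
    obtain ⟨⟨h, hh⟩, hh'⟩ := MulAction.exists_smul_eq ↥((P : Subgroup G) ⊔ K)
      ((g • P).subtype hle) (P.subtype le_sup_left)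
    have hmem : h * g ∈ NP := by
      rw [hNP]
      apply Sylow.smul_eq_iff_mem_normalizer.mp
      rw [mul_smul]
      rw [Sylow.smul_subtype] at hh'
      exact Sylow.subtype_injective hh'
    have h2 : (P : Subgroup G) ⊔ K ≤ NP ⊔ K := sup_le_sup_right Subgroup.le_normalizer K
    have := mul_mem (inv_mem (h2 hh)) (Subgroup.mem_sup_left hmem)
    rwa [inv_mul_cancel_left] at this
  have hG : Nat.card (Sylow p G) = M.index * NP.relIndex K := by
    rw [Sylow.card_eq_index_normalizer P, ← Sylow.coe_coe, ← relIndex_sup_normal NP K]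
    have e : NP ⊔ K = M := le_antisymm (sup_le hPM (le_sup_right.trans Subgroup.le_normalizer)) hfr
    rw [e, mul_comm]
    exact (Subgroup.relIndex_mul_index hPM).symm
  have hchain : NP.relIndex K =
      NP.relIndex (K ⊓ Subgroup.normalizer (Q : Set G)) * (Subgroup.normalizer (Q : Set G)).relIndex K := by
    have h1 := Subgroup.relIndex_mul_relIndex (NP ⊓ K) (K ⊓ Subgroup.normalizer (Q : Set G)) K
      (le_inf inf_le_right (inf_le_left.trans hPnormQ)) inf_le_left
    rw [Subgroup.inf_relIndex_right, inf_comm K (Subgroup.normalizer (Q : Set G)), Subgroup.inf_relIndex_right] at h1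
    rw [← h1, inf_comm K (Subgroup.normalizer (Q : Set G))]
    congr 1
    rw [← Subgroup.inf_relIndex_right (NP ⊓ K), inf_assoc,
      inf_eq_right.mpr (inf_le_right : Subgroup.normalizer (Q : Set G) ⊓ K ≤ K), Subgroup.inf_relIndex_right]
  rw [hG, hq, hK, hN3, hN4, hchain]
  ring

end Cfsg.Agent.S4341
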