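import Cfsg.Statements.S3076
import Cfsg.Agent.PCore.Basic
import Cfsg.Agent.S4341

set_option autoImplicit false
open Cfsg

namespace Cfsg.Agent.S3076

/-- The statement inside the normalizer. -/
theorem core_iff {Y : Type*} [Group Y] [Finite Y] {p : ℕ} [Fact p.Prime] (H S C : Subgroup Y)
    [H.Normal] [C.Normal] (hS : IsPGroup p S) (hSi : ¬ p ∣ S.index) (hHS : H ≤ S)
    (hcen : C = Subgroup.centralizer (H : Set Y)) :
    (H ≤ (Cfsg.pCore p (Y ⧸ C)).comap (QuotientGroup.mk' C) ∧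
      ¬ p ∣ H.relIndex ((Cfsg.pCore p (Y ⧸ C)).comap (QuotientGroup.mk' C))) ↔
    (S ⊓ C ≤ H ∧ Cfsg.pPrimePCore p Y = H ⊔ C) := by
  classical
  set π := QuotientGroup.mk' C
  set N := (Cfsg.pCore p (Y ⧸ C)).comap π with hN
  have hπ : Function.Surjective π := QuotientGroup.mk'_surjective C
  have hCN : C ≤ N := fun c hc => by
    rw [hN, Subgroup.mem_comap, show π c = 1 from (QuotientGroup.eq_one_iff c).2 hc]
    exact one_mem _
  have hHp : IsPGroup p H := hS.to_le hHS
  have hHN : H ≤ N := fun h hh => CfsgLib.PCore.le_pCore (Subgroup.Normal.map inferInstance π hπ)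
    (hHp.map π) ⟨h, hh, rfl⟩
  have hNN : N.Normal := by
    rw [hN]
    haveI := CfsgLib.PCore.pCore_characteristic p (Y ⧸ C)
    exact Subgroup.Normal.comap inferInstance _
  have hpN : ∀ x ∈ N, ∃ k, x ^ p ^ k ∈ C := by
    intro x hx
    obtain ⟨k, hk⟩ := CfsgLib.PCore.isPGroup_pCore p (Y ⧸ C) ⟨π x, hx⟩
    exact ⟨k, (QuotientGroup.eq_one_iff _).1 (congrArg Subtype.val hk)⟩
  set O := Cfsg.pPrimeCore p Y with hO
  haveI hOn : O.Normal := by
    haveI := CfsgLib.PCore.pPrimeCore_characteristic p Y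
    infer_instance
  have hOC : O ≤ C := by
    rw [hcen, ← Subgroup.commutator_eq_bot_iff_le_centralizer, eq_bot_iff]
    exact (Subgroup.commutator_le_inf O H).trans
      (le_of_eq (by rw [inf_comm]; exact CfsgLib.PCore.inf_eq_bot_of_isPGroup_of_coprime hHp (CfsgLib.PCore.pPrimeCore_coprime p Y)))
  have hXN : Cfsg.pPrimePCore p Y ≤ N := by
    haveI := CfsgLib.PCore.pPrimePCore_normal p Y
    refine fun x hx => CfsgLib.PCore.le_pCore (Subgroup.Normal.map inferInstance π hπ) ?_ ⟨x, hx, rfl⟩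
    rintro ⟨_, y, hy, rfl⟩
    obtain ⟨k, hk⟩ := CfsgLib.PCore.isPGroup_pCore p (Y ⧸ O) ⟨QuotientGroup.mk' O y, hy⟩
    refine ⟨k, Subtype.ext ?_⟩
    show π y ^ p ^ k = 1
    rw [← map_pow]
    exact (QuotientGroup.eq_one_iff _).2 (hOC ((QuotientGroup.eq_one_iff _).1 (congrArg Subtype.val hk)))
  -- facts available once `H` contains `S ⊓ C`
  have main : S ⊓ C ≤ H → ¬ p ∣ H.relIndex C ∧ H ⊔ C ≤ Cfsg.pPrimePCore p Y ∧
      ∀ x ∈ C, ∃ k, x ^ p ^ k ∈ O := by
    intro hSC
    have h1 : ¬ p ∣ H.relIndex C := by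
      rw [← Subgroup.inf_relIndex_right, show H ⊓ C = S ⊓ C from
        le_antisymm (inf_le_inf_right C hHS) (le_inf hSC inf_le_right), Subgroup.inf_relIndex_right,
        ← Cfsg.Agent.S4341.relIndex_sup_normal]
      exact fun hd => hSi (hd.trans (Dvd.intro _ (Subgroup.relIndex_mul_index le_sup_left)))
    set Z := H.subgroupOf C with hZ
    have hZc : ∀ z ∈ Z, ∀ c : C, z * c = c * z := by
      intro z hz c
      have hc : (c : Y) ∈ Subgroup.centralizer (H : Set Y) := hcen ▸ c.2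
      exact Subtype.ext (Subgroup.mem_centralizer_iff.1 hc _ (Subgroup.mem_subgroupOf.1 hz))
    haveI hZn : Z.Normal := ⟨fun z hz c => by rw [← hZc z hz c, mul_inv_cancel_right]; exact hz⟩
    have hZp : IsPGroup p Z := hHp.comap_of_injective C.subtype C.subtype_injective
    obtain ⟨a, ha⟩ := IsPGroup.iff_card.1 hZp
    have hcop : (Nat.card Z).Coprime Z.index := by
      rw [ha]; exact ((Fact.out : p.Prime).coprime_iff_not_dvd.2 h1).pow_left a
    obtain ⟨K, hK⟩ := Subgroup.exists_right_complement'_of_coprime hcop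
    have hdec : ∀ c : C, ∃ z ∈ Z, ∃ k ∈ K, z * k = c := by
      intro c
      have hc : c ∈ (Z ⊔ K : Subgroup C) := hK.sup_eq_top ▸ Subgroup.mem_top c
      obtain ⟨z, hz, k, hk, rfl⟩ := Subgroup.mem_sup_of_normal_left.1 hc
      exact ⟨z, hz, k, hk, rfl⟩
    haveI hKn : K.Normal := ⟨fun k hk c => by
      obtain ⟨z, hz, l, hl, rfl⟩ := hdec c
      have : z * l * k * (z * l)⁻¹ = l * k * l⁻¹ := by
        rw [mul_inv_rev, show z * l * k * (l⁻¹ * z⁻¹) = z * (l * k * l⁻¹) * z⁻¹ by group, hZc z hz,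
          mul_inv_cancel_right]
      rw [this]
      exact mul_mem (mul_mem hl hk) (inv_mem hl)⟩
    have hKcard : Nat.card K = Z.index := by
      have h := hK.card_mul
      rw [← Z.card_mul_index] at h
      exact Nat.eq_of_mul_eq_mul_left Nat.card_pos h
    have hKp : ¬ p ∣ Nat.card K := by rw [hKcard]; exact h1
    have hmem : ∀ x : C, (orderOf x).Coprime p → x ∈ K := by
      intro x hx
      obtain ⟨z, hz, k, hk, rfl⟩ := hdec x
      have hz1 : z = 1 := by
        obtain ⟨j, hj⟩ := IsPGroup.iff_orderOf.1 hZp ⟨z, hz⟩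
        rw [Subgroup.orderOf_mk] at hj
        have hkp : (orderOf z).Coprime (orderOf k) := by
          rw [hj]
          exact ((CfsgLib.PCore.coprime_of_not_dvd hKp).coprime_dvd_left
            (Subgroup.orderOf_dvd_natCard _ hk)).symm.pow_left j
        have := (show Commute z k from hZc z hz k).orderOf_mul_eq_mul_orderOf_of_coprime hkp
        rw [this, hj] at hx
        have hj0 : (p ^ j).Coprime p := hx.coprime_dvd_left (Dvd.intro _ rfl)
        rcases Nat.eq_zero_or_pos j with rfl | hjp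
        · rw [pow_zero, orderOf_eq_one_iff] at hj; exact hj
        · exfalso
          have h2 : p.Coprime p := hj0.coprime_dvd_left (dvd_pow_self p hjp.ne')
          exact (Fact.out : p.Prime).ne_one ((Nat.coprime_self p).1 h2)
      rw [hz1, one_mul]; exact hk
    set K' := K.map C.subtype with hK'
    haveI hK'n : K'.Normal := ⟨fun x hx y => by
      obtain ⟨k, hk, rfl⟩ := hx
      refine ⟨⟨y * (k : Y) * y⁻¹, (inferInstance : C.Normal).conj_mem _ k.2 y⟩, hmem _ ?_, rfl⟩
      rw [← Subgroup.orderOf_coe]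
      show (orderOf (y * (k : Y) * y⁻¹)).Coprime p
      rw [← MulAut.conj_apply, MulEquiv.orderOf_eq, Subgroup.orderOf_coe]
      exact (CfsgLib.PCore.coprime_of_not_dvd hKp).coprime_dvd_left (Subgroup.orderOf_dvd_natCard _ hk)⟩
    have hK'O : K' ≤ O := CfsgLib.PCore.le_pPrimeCore_of_not_dvd inferInstance
      (by rw [hK', Subgroup.card_map_of_injective C.subtype_injective]; exact hKp)
    haveI hXn := CfsgLib.PCore.pPrimePCore_normal p Y
    refine ⟨h1, sup_le (le_trans (CfsgLib.PCore.le_pCore inferInstance hHp) CfsgLib.PCore.pCore_le_pPrimePCore) ?_, ?_⟩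
    · intro c hc
      obtain ⟨z, hz, k, hk, he⟩ := hdec ⟨c, hc⟩
      rw [← show ((z * k : C) : Y) = c from congrArg Subtype.val he, Subgroup.coe_mul]
      exact mul_mem (CfsgLib.PCore.pCore_le_pPrimePCore (CfsgLib.PCore.le_pCore inferInstance hHp hz))
        (CfsgLib.PCore.pPrimeCore_le_pPrimePCore (hK'O ⟨k, hk, rfl⟩))
    · intro c hc
      obtain ⟨z, hz, k, hk, he⟩ := hdec ⟨c, hc⟩
      obtain ⟨j, hj⟩ := hZp ⟨z, hz⟩
      refine ⟨j, hK'O ⟨k ^ p ^ j, pow_mem hk _, ?_⟩⟩
      have h2 : z ^ p ^ j = 1 := congrArg Subtype.val hj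
      have h3 : (⟨c, hc⟩ : C) ^ p ^ j = k ^ p ^ j := by
        rw [← he, (show Commute z k from hZc z hz k).mul_pow, h2, one_mul]
      exact (congrArg Subtype.val h3).symm
  constructor
  · rintro ⟨-, hidx⟩
    have hSC : S ⊓ C ≤ H := by
      have hle : H ⊔ S ⊓ C ≤ S := sup_le hHS inf_le_left
      have hle' : H ⊔ S ⊓ C ≤ N := sup_le hHN (inf_le_right.trans hCN)
      have hd : H.relIndex (H ⊔ S ⊓ C) ∣ H.relIndex N :=
        Dvd.intro _ (Subgroup.relIndex_mul_relIndex _ _ _ le_sup_left hle')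
      obtain ⟨k, hk⟩ := (hS.to_le hle).index (H.subgroupOf (H ⊔ S ⊓ C))
      have h1 : H.relIndex (H ⊔ S ⊓ C) = 1 := by
        show (H.subgroupOf _).index = 1
        rw [hk]
        rcases Nat.eq_zero_or_pos k with rfl | hk0
        · exact pow_zero p
        · exfalso
          exact hidx (((dvd_pow_self p hk0.ne').trans (dvd_of_eq hk.symm)).trans hd)
      exact le_sup_right.trans (Subgroup.relIndex_eq_one.1 h1)
    obtain ⟨-, hX, -⟩ := main hSC
    refine ⟨hSC, le_antisymm (hXN.trans ?_) hX⟩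
    -- `N = H C`
    have hle : H ⊔ C ≤ N := sup_le hHN hCN
    have hd1 : (H ⊔ C).relIndex N ∣ H.relIndex N :=
      Dvd.intro_left _ (Subgroup.relIndex_mul_relIndex H _ _ le_sup_left hle)
    have hd2 : (H ⊔ C).relIndex N ∣ C.relIndex N :=
      Dvd.intro_left _ (Subgroup.relIndex_mul_relIndex C _ _ le_sup_right hle)
    haveI : (C.subgroupOf N).Normal := Subgroup.Normal.subgroupOf inferInstance N
    have hQ : IsPGroup p (↥N ⧸ C.subgroupOf N) := by
      intro q
      obtain ⟨x, rfl⟩ := QuotientGroup.mk_surjective q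
      obtain ⟨k, hk⟩ := hpN x x.2
      refine ⟨k, ?_⟩
      rw [← QuotientGroup.mk_pow]
      exact (QuotientGroup.eq_one_iff _).2 hk
    obtain ⟨k, hk⟩ := IsPGroup.iff_card.1 hQ
    have hCk : C.relIndex N = p ^ k := hk
    rw [hCk, Nat.dvd_prime_pow (Fact.out : p.Prime)] at hd2
    obtain ⟨j, -, hj⟩ := hd2
    rcases Nat.eq_zero_or_pos j with rfl | hj0
    · exact Subgroup.relIndex_eq_one.1 (hj.trans (pow_zero p))
    · exfalso
      exact hidx ((dvd_pow_self p hj0.ne').trans ((dvd_of_eq hj.symm).trans hd1))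
  · rintro ⟨hSC, hX⟩
    refine ⟨hHN, ?_⟩
    obtain ⟨h1, -, hCO⟩ := main hSC
    have hNX : N ≤ Cfsg.pPrimePCore p Y := by
      refine fun x hx => CfsgLib.PCore.le_pCore
        (Subgroup.Normal.map hNN _ (QuotientGroup.mk'_surjective O)) ?_ ⟨x, hx, rfl⟩
      rintro ⟨_, y, hy, rfl⟩
      obtain ⟨k, hk⟩ := hpN y hy
      obtain ⟨j, hj⟩ := hCO _ hk
      refine ⟨k + j, Subtype.ext ?_⟩
      show (QuotientGroup.mk' O y) ^ p ^ (k + j) = 1
      rw [← map_pow, pow_add, pow_mul]
      exact (QuotientGroup.eq_one_iff _).2 hj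
    rw [show N = H ⊔ C from le_antisymm (hX ▸ hNX) (sup_le hHN hCN), sup_comm,
      Subgroup.relIndex_sup_right]
    exact h1

/-- Let P be a Sylow p-subgroup of the finite group G and H ≤ P a subgroup with N_P(H) a Sylow p-subgroup of N_G(H). Let N be the preimage in N_G(H) of O_p(N_G(H)/C_G(H)). Then H is a Sylow p-subgroup of N if and only if C_P(H) ≤ H and O_{p',p}(N_G(H)) = H·C_G(H). -/
theorem result {G : Type*} [Group G] [Finite G] {p : ℕ} [Fact p.Prime]
    (P : Sylow p G) (H : Subgroup G) (hHP : H ≤ (P : Subgroup G))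
    (hSyl : ¬ p ∣ ((P : Subgroup G) ⊓ Subgroup.normalizer (H : Set G)).relIndex (Subgroup.normalizer (H : Set G)))
    [hC : ((Subgroup.centralizer (H : Set G)).subgroupOf (Subgroup.normalizer (H : Set G))).Normal] :
    (H ≤ ((Cfsg.pCore p (↥(Subgroup.normalizer (H : Set G)) ⧸
              (Subgroup.centralizer (H : Set G)).subgroupOf (Subgroup.normalizer (H : Set G)))).comap
            (QuotientGroup.mk' _)).map (Subgroup.normalizer (H : Set G)).subtype ∧
      ¬ p ∣ H.relIndex (((Cfsg.pCore p (↥(Subgroup.normalizer (H : Set G)) ⧸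
              (Subgroup.centralizer (H : Set G)).subgroupOf (Subgroup.normalizer (H : Set G)))).comap
            (QuotientGroup.mk' _)).map (Subgroup.normalizer (H : Set G)).subtype)) ↔
    ((P : Subgroup G) ⊓ Subgroup.centralizer (H : Set G) ≤ H ∧
      (Cfsg.pPrimePCore p ↥(Subgroup.normalizer (H : Set G))).map (Subgroup.normalizer (H : Set G)).subtype =
        H ⊔ Subgroup.centralizer (H : Set G)) := by
  classical
  set Y := Subgroup.normalizer (H : Set G) with hY
  have hHY : H ≤ Y := Subgroup.le_normalizer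
  have hCY : Subgroup.centralizer (H : Set G) ≤ Y := Subgroup.centralizer_le_normalizer _
  haveI : (H.subgroupOf Y).Normal := Subgroup.normal_subgroupOf_of_le_normalizer le_rfl
  have hcen : (Subgroup.centralizer (H : Set G)).subgroupOf Y = Subgroup.centralizer ((H.subgroupOf Y : Subgroup Y) : Set Y) := by
    ext x
    simp only [Subgroup.mem_subgroupOf, Subgroup.mem_centralizer_iff]
    constructor
    · intro h a ha; exact Subtype.ext (h (a : G) (Subgroup.mem_subgroupOf.1 ha))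
    · intro h a ha; exact congrArg Subtype.val (h ⟨a, hHY ha⟩ ha)
  have hSp : IsPGroup p (((P : Subgroup G) ⊓ Y).subgroupOf Y) :=
    (P.isPGroup'.to_le inf_le_left).comap_of_injective Y.subtype Y.subtype_injective
  have key := core_iff (p := p) (H.subgroupOf Y) (((P : Subgroup G) ⊓ Y).subgroupOf Y)
    ((Subgroup.centralizer (H : Set G)).subgroupOf Y) hSp hSyl
    (fun x hx => ⟨hHP hx, x.2⟩) hcen
  have h1 : (H ≤ ((Cfsg.pCore p (↥Y ⧸ (Subgroup.centralizer (H : Set G)).subgroupOf Y)).comap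
            (QuotientGroup.mk' _)).map Y.subtype) ↔ H.subgroupOf Y ≤ (Cfsg.pCore p (↥Y ⧸ (Subgroup.centralizer (H : Set G)).subgroupOf Y)).comap (QuotientGroup.mk' _) := by
    constructor
    · intro h x hx
      obtain ⟨y, hy, he⟩ := h hx
      rwa [Y.subtype_injective he] at hy
    · intro h x hx
      exact ⟨⟨x, hHY hx⟩, h (show (⟨x, hHY hx⟩ : Y) ∈ H.subgroupOf Y from hx), rfl⟩
  have hH : (H.subgroupOf Y).map Y.subtype = H := Subgroup.map_subgroupOf_eq_of_le hHY
  have h2 : ∀ N : Subgroup Y, H.relIndex (N.map Y.subtype) = (H.subgroupOf Y).relIndex N := fun N => by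
    conv_lhs => rw [← hH]
    exact Subgroup.relIndex_map_map_of_injective _ _ Y.subtype_injective
  have h3 : ((P : Subgroup G) ⊓ Subgroup.centralizer (H : Set G) ≤ H) ↔
      ((P : Subgroup G) ⊓ Y).subgroupOf Y ⊓ (Subgroup.centralizer (H : Set G)).subgroupOf Y ≤ H.subgroupOf Y :=
    ⟨fun h x hx => h ⟨hx.1.1, hx.2⟩, fun h x hx =>
      h (show (⟨x, hCY hx.2⟩ : Y) ∈ _ from ⟨⟨hx.1, hCY hx.2⟩, hx.2⟩)⟩
  have h4 : (H.subgroupOf Y ⊔ (Subgroup.centralizer (H : Set G)).subgroupOf Y).map Y.subtype =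
      H ⊔ Subgroup.centralizer (H : Set G) := by
    rw [Subgroup.map_sup, hH, Subgroup.map_subgroupOf_eq_of_le hCY]
  rw [h1, h2, h3, key, ← h4, (Subgroup.map_injective Y.subtype_injective).eq_iff]

end Cfsg.Agent.S3076
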