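import Cfsg.Statements.S3315
import Cfsg.Agent.SuzukiTwo.UnitaryThree

set_option autoImplicit false
open Cfsg

namespace Cfsg.Agent.S3315

open CfsgLib.SUFusion CfsgLib.SuzukiTwo

section Semilinear

variable {K : Type*} [Field K] [Fintype K] [CharP K 2] {σ : K →+* K}

/-- An additive map fixing `1` that transforms trace and norm by one additive map is multiplicative. -/
theorem mult_of_norm_similitude (hσ2 : ∀ x, σ (σ x) = x) (hσne : σ ≠ RingHom.id K) (D : K → K)
    (hadd : ∀ x y, D (x + y) = D x + D y) (h1 : D 1 = 1) (t : K → K)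
    (ht : ∀ u, σ u = u → t u = 0 → u = 0)
    (hN : ∀ x, D x * σ (D x) = t (x * σ x))
    (hh : ∀ x y, D x * σ (D y) + σ (D x) * D y = t (x * σ y + σ x * y)) :
    (∀ x y, D (x * y) = D x * D y) ∧ ∀ u, σ u = u → t u = D u := by
  have h2 : (2 : K) = 0 := CharTwo.two_eq_zero
  have hD0 : D 0 = 0 := by
    have h := hadd 0 0
    rw [add_zero, CharTwo.add_self_eq_zero] at h
    exact h
  have hfix : ∀ x, σ x = x ↔ x * σ 1 + σ x * 1 = 0 := fun x => by
    rw [map_one, mul_one, mul_one, CharTwo.add_eq_zero, eq_comm]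
  have ht0 : t 0 = 0 := by
    have h := hN 0
    simp only [hD0, zero_mul] at h
    exact h.symm
  have hDfix : ∀ x, σ (D x) = D x ↔ σ x = x := by
    intro x
    have h := hh x 1
    rw [h1] at h
    rw [hfix, hfix, h]
    refine ⟨fun h0 => ht _ ?_ h0, fun h0 => by rw [h0, ht0]⟩
    simp only [map_add, map_mul, map_one, mul_one, hσ2]
    rw [add_comm]
  have hD1 : ∀ x, D x = 0 → x = 0 := by
    intro x hx
    have h := hN x
    rw [hx, zero_mul] at h
    have := ht _ (by rw [map_mul, hσ2, mul_comm]) h.symm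
    exact (mul_eq_zero.mp this).elim id fun h => (map_eq_zero σ).mp h
  have line : ∀ l x, σ l = l → x ≠ 0 → ∃ m, σ m = m ∧ D (l * x) = m * D x := by
    intro l x hl hx
    have hDx : D x ≠ 0 := fun h => hx (hD1 x h)
    refine ⟨D (l * x) / D x, ?_, (div_mul_cancel₀ _ hDx).symm⟩
    have h := hh (l * x) x
    rw [show l * x * σ x + σ (l * x) * x = 0 by rw [map_mul, hl]; linear_combination (l * x * σ x) * h2, ht0,
      CharTwo.add_eq_zero] at h
    rw [map_div₀, div_eq_div_iff ((map_ne_zero σ).mpr hDx) hDx]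
    exact h.symm
  obtain ⟨w, hw⟩ : ∃ w, σ w ≠ w := by
    by_contra hall
    simp only [not_exists, not_not] at hall
    exact hσne (RingHom.ext hall)
  have hml : ∀ l, σ l = l → ∀ x, D (l * x) = D l * D x := by
    intro l hl
    have off : ∀ x, σ x ≠ x → D (l * x) = D l * D x := by
      intro x hx
      have hx0 : x ≠ 0 := fun h => hx (by rw [h, map_zero])
      have hx1 : x + 1 ≠ 0 := fun h => hx (by rw [CharTwo.add_eq_zero.mp h, map_one])
      obtain ⟨m, hm, e⟩ := line l x hl hx0
      obtain ⟨m', hm', e'⟩ := line l (x + 1) hl hx1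
      rw [mul_add, mul_one, hadd, hadd, h1, e] at e'
      have hDl : σ (D l) = D l := (hDfix l).mpr hl
      have hmm : m + m' = 0 := by
        by_contra hne
        apply hx
        rw [← hDfix]
        have e2 : D x * (m + m') = D l + m' := by linear_combination e' - (D l - m' * D x) * h2
        have e3 : D x = (D l + m') / (m + m') := by rw [eq_div_iff hne]; exact e2
        rw [e3, map_div₀, map_add, map_add, hDl, hm, hm']
      rw [CharTwo.add_eq_zero] at hmm
      subst hmm
      rw [show D l = m by linear_combination e']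
      exact e
    intro x
    by_cases hx : σ x = x
    · have hxw : σ (x + w) ≠ x + w := fun h => hw (by rw [map_add, hx] at h; exact add_left_cancel h)
      have e1 := off _ hw
      have e2 := off _ hxw
      rw [mul_add, hadd, hadd, e1] at e2
      linear_combination e2
    · exact off x hx
  have hsq : ∀ u : K, σ u = u → ∃ v, σ v = v ∧ v ^ 2 = u := by
    intro u hu
    obtain ⟨v, hv⟩ : ∃ v, frobenius K 2 v = u :=
      (Finite.surjective_of_injective (frobenius K 2).injective) u
    rw [frobenius_def] at hv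
    refine ⟨v, (frobenius K 2).injective ?_, hv⟩
    rw [frobenius_def, frobenius_def, ← map_pow, hv, hu]
  have htD : ∀ u, σ u = u → t u = D u := by
    intro u hu
    obtain ⟨v, hv, rfl⟩ := hsq u hu
    have h := hN v
    rw [(hDfix v).mpr hv, hv, ← hml v hv] at h
    rw [pow_two]; exact h.symm
  have hnorm : ∀ x, σ (x * σ x) = x * σ x := fun x => by rw [map_mul, hσ2, mul_comm]
  have htr : ∀ x, σ (x + σ x) = x + σ x := fun x => by rw [map_add, hσ2, add_comm]
  have hsquare : ∀ x, D (x * x) = D x * D x := by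
    intro x
    have e : x * x = (x + σ x) * x + x * σ x := by linear_combination -(x * σ x) * h2
    have hN' := hN x
    rw [htD _ (hnorm x)] at hN'
    have htr' := hh x 1
    rw [h1, map_one, mul_one, mul_one, mul_one, mul_one, htD _ (htr x)] at htr'
    rw [e, hadd, hml _ (htr x), ← hN', ← htr']
    linear_combination (D x * σ (D x)) * h2
  refine ⟨fun x y => ?_, htD⟩
  have dec : ∀ x, ∃ a b, σ a = a ∧ σ b = b ∧ x = a + b * w := by
    intro x
    have hs : w + σ w ≠ 0 := fun h => hw (CharTwo.add_eq_zero.mp h).symm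
    refine ⟨x + (x + σ x) / (w + σ w) * w, (x + σ x) / (w + σ w), ?_, ?_, ?_⟩
    · simp only [map_add, map_mul, map_div₀, hσ2]
      rw [add_comm (σ w) w, add_comm (σ x) x]
      field_simp
      linear_combination (σ x * σ w - x * w) * h2
    · rw [map_div₀, htr, htr]
    · linear_combination -((x + σ x) / (w + σ w) * w) * h2
  obtain ⟨a, b, ha, hb, rfl⟩ := dec x
  obtain ⟨c, d, hc, hd, rfl⟩ := dec y
  have hacl : σ (a * c) = a * c := by rw [map_mul, ha, hc]
  have hbd : σ (b * d) = b * d := by rw [map_mul, hb, hd]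
  have hadbc : σ (a * d + b * c) = a * d + b * c := by rw [map_add, map_mul, map_mul, ha, hb, hc, hd]
  rw [show (a + b * w) * (c + d * w) = a * c + ((a * d + b * c) * w + b * d * (w * w)) by ring,
    hadd, hadd, hml _ hadbc, hml _ hbd, hadd (a * d), hml a ha, hml a ha, hml b hb, hml b hb, hsquare,
    hadd, hadd, hml b hb, hml d hd]
  ring

/-- An involutive automorphism of the field with `q²` elements fixes the subfield with `q` elements. -/
theorem fix_subfield (q : ℕ) (hK : Fintype.card K = q ^ 2) (hσ : ∀ x, σ x = x ^ q)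
    (hσne : σ ≠ RingHom.id K) (hσ2 : ∀ x, σ (σ x) = x) (D : K →+* K) (hD : ∀ x, D (D x) = x)
    (u : K) (hu : σ u = u) : D u = u := by
  classical
  by_contra hne
  let F : Subfield K := D.eqLocusField (RingHom.id K)
  have hmem : ∀ x, x ∈ F ↔ D x = x := fun x => Iff.rfl
  haveI : Fintype F := Fintype.ofFinite F
  have hc2 : Nat.card F ^ 2 = q ^ 2 := by
    apply le_antisymm
    · rw [← hK, ← Nat.card_eq_fintype_card, pow_two, ← Nat.card_prod]
      refine Nat.card_le_card_of_injective (fun p : F × F => (p.1 : K) + p.2 * u) ?_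
      rintro ⟨a, b⟩ ⟨c, d⟩ h
      simp only at h
      have hbd : (b : K) = d := by
        by_contra hbd
        apply hne
        have e : u = ((a : K) - c) / ((d : K) - b) := by
          rw [eq_div_iff (sub_ne_zero.mpr (Ne.symm hbd))]
          linear_combination -h
        conv_lhs => rw [e]
        conv_rhs => rw [e]
        rw [map_div₀, map_sub, map_sub, (hmem _).mp a.2, (hmem _).mp b.2, (hmem _).mp c.2, (hmem _).mp d.2]
      refine Prod.ext (Subtype.ext ?_) (Subtype.ext hbd)
      rw [hbd] at h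
      exact add_right_cancel h
    · let T : K →+ K := AddMonoidHom.mk' (fun x => x + D x) fun x y => by rw [map_add]; ring
      have hker : ∀ x, x ∈ T.ker ↔ x ∈ F := fun x => by
        rw [AddMonoidHom.mem_ker, hmem]
        show x + D x = 0 ↔ _
        rw [CharTwo.add_eq_zero, eq_comm]
      have hrange : T.range ≤ T.ker := by
        rintro _ ⟨x, rfl⟩
        rw [hker, hmem]
        show D (x + D x) = x + D x
        rw [map_add, hD, add_comm]
      have hkc : Nat.card T.ker = Nat.card F := Nat.card_congr (Equiv.subtypeEquivRight hker)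
      rw [← hK, ← Nat.card_eq_fintype_card, AddSubgroup.card_eq_card_quotient_mul_card_addSubgroup T.ker,
        Nat.card_congr (QuotientAddGroup.quotientKerEquivRange T).toEquiv, ← hkc, pow_two]
      exact Nat.mul_le_mul_right _ (AddSubgroup.card_le_of_le hrange)
  have hcF : Nat.card F = q := Nat.pow_left_injective two_ne_zero hc2
  have hsub : (F : Set K) ⊆ {x | σ x = x} := fun x hx => by
    have h := FiniteField.pow_card (⟨x, hx⟩ : F)
    rw [← Nat.card_eq_fintype_card, hcF] at h
    show σ x = x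
    rw [hσ]
    exact congrArg Subtype.val h
  have heq : (F : Set K) = {x | σ x = x} := by
    refine Set.eq_of_subset_of_ncard_le hsub ?_
    rw [← Nat.card_coe_set_eq, ← Nat.card_coe_set_eq]
    exact le_of_eq (((fixed_field q hK hσ hσne hσ2).1).trans hcF.symm)
  exact hne ((hmem u).mp (heq.symm.subset hu))

end Semilinear

/-- An automorphism of the unitriangular group whose square is inner centralises the centre. -/
theorem fix_center_uni {K : Type*} [Field K] [Fintype K] [CharP K 2] {σ : K →+* K} (hσ2 : ∀ x, σ (σ x) = x)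
    (q : ℕ) (hK : Fintype.card K = q ^ 2) (hσ : ∀ x, σ x = x ^ q) (hσne : σ ≠ RingHom.id K)
    (θ : MulAut (uni σ 3)) (s : uni σ 3) (hθ : θ * θ = MulAut.conj s) :
    ∀ g : uni σ 3, g ∈ Subgroup.center (uni σ 3) → θ g = g := by
  classical
  have h2 : (2 : K) = 0 := CharTwo.two_eq_zero
  obtain ⟨-, htr⟩ := fixed_field q hK hσ hσne hσ2
  have hnorm : ∀ a, σ (a * σ a) = a * σ a := fun a => by rw [map_mul, hσ2, mul_comm]
  have hchoose : ∀ a, ∃ g : uni σ 3, (par3 σ g.1).1 = a := fun a => by
    obtain ⟨b, hb⟩ := htr _ (hnorm a)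
    exact ⟨⟨u3 hσ2 a b (by rw [hb, CharTwo.add_self_eq_zero]), u3_mem hσ2 _ _ _⟩, by simp [par3_u3]⟩
  choose lift hlift using hchoose
  have hchz : ∀ b, ∃ g : uni σ 3, σ b = b → par3 σ g.1 = (0, b) := fun b => by
    by_cases h : σ b = b
    · exact ⟨⟨u3 hσ2 0 b (by rw [h, CharTwo.add_self_eq_zero, zero_mul, add_zero]), u3_mem hσ2 _ _ _⟩,
        fun _ => by simp [par3_u3]⟩
    · exact ⟨1, fun h' => absurd h' h⟩
  choose zel hzel using hchz
  let P : uni σ 3 → K × K := fun g => par3 σ g.1
  have hmul : ∀ g g' : uni σ 3, P (g * g') = ((P g).1 + (P g').1, (P g).2 + (P g').2 + (P g).1 * σ (P g').1) :=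
    fun g g' => par3_mul hσ2 g.2 g'.2
  have hext : ∀ g g' : uni σ 3, P g = P g' → g = g' := fun g g' h =>
    Subtype.ext (par3_ext hσ2 g.2 g'.2 h)
  have hone : P 1 = (0, 0) := by simp [P, par3, mat_one]
  have hfix : ∀ g : uni σ 3, (P g).1 = 0 → σ (P g).2 = (P g).2 := by
    intro g ha
    obtain ⟨a, b, h, hg⟩ := exists_u3 hσ2 g.2
    simp only [P, hg, par3_u3] at ha ⊢
    subst ha
    rw [map_zero, mul_zero, add_zero, CharTwo.add_eq_zero] at h
    exact h.symm
  have hinv : ∀ g : uni σ 3, g * g = 1 ↔ (P g).1 = 0 := by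
    intro g
    constructor
    · intro h
      have h' := congrArg (fun x : uni σ 3 => (P x).2) h
      simp only [hmul, hone, CharTwo.add_self_eq_zero, zero_add, mul_eq_zero, map_eq_zero, or_self] at h'
      exact h'
    · intro h
      apply hext
      rw [hmul, hone, h, zero_mul, add_zero, CharTwo.add_self_eq_zero, CharTwo.add_self_eq_zero]
  let M : MulAut (uni σ 3) → K → K := fun θ a => (P (θ (lift a))).1
  have hwd : ∀ (θ : MulAut (uni σ 3)) g, (P (θ g)).1 = M θ (P g).1 := by
    intro θ g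
    obtain ⟨h, hh⟩ : ∃ h, h = (lift (P g).1)⁻¹ * g := ⟨_, rfl⟩
    have hg : g = lift (P g).1 * h := by rw [hh, mul_inv_cancel_left]
    have hh1 : (P h).1 = 0 := by
      have := congrArg (fun x => (P x).1) hg
      simp only [hmul] at this
      rw [show (P (lift (P g).1)).1 = (P g).1 from hlift _] at this
      exact left_eq_add.mp this
    have hh2 : (P (θ h)).1 = 0 := by
      rw [← hinv, ← map_mul, (hinv h).mpr hh1, map_one]
    conv_lhs => rw [hg, map_mul, hmul]
    show _ + (P (θ h)).1 = _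
    rw [hh2, add_zero]
  have hMadd : ∀ θ a b, M θ (a + b) = M θ a + M θ b := by
    intro θ a b
    have := hwd θ (lift a * lift b)
    rw [map_mul, hmul, hmul, show (P (lift a)).1 = a from hlift a, show (P (lift b)).1 = b from hlift b] at this
    exact this.symm
  have hMcomp : ∀ θ ψ a, M (θ * ψ) a = M θ (M ψ a) := fun θ ψ a => hwd θ (ψ (lift a))
  have hMone : ∀ a, M 1 a = a := fun a => hlift a
  have hM0 : ∀ θ, M θ 0 = 0 := fun θ => by
    have h := hMadd θ 0 0
    rw [add_zero, CharTwo.add_self_eq_zero] at h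
    exact h
  let T : MulAut (uni σ 3) → K → K := fun θ b => (P (θ (zel b))).2
  have hzel1 : ∀ (θ : MulAut (uni σ 3)) (b : K), σ b = b → (P (θ (zel b))).1 = 0 := fun θ b hb => by
    rw [hwd, show P (zel b) = (0, b) from hzel b hb, hM0]
  have hTfix : ∀ (θ : MulAut (uni σ 3)) (b : K), σ b = b → σ (T θ b) = T θ b := fun θ b hb => hfix _ (hzel1 θ b hb)
  have hzimg : ∀ (θ : MulAut (uni σ 3)) (b : K), σ b = b → θ (zel b) = zel (T θ b) := fun θ b hb => hext _ _ (by
    rw [show P (zel (T θ b)) = (0, T θ b) from hzel _ (hTfix θ b hb)]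
    exact Prod.ext (hzel1 θ b hb) rfl)
  have hTcomp : ∀ θ ψ b, σ b = b → T (θ * ψ) b = T θ (T ψ b) := fun θ ψ b hb => by
    show (P (θ (ψ (zel b)))).2 = _
    rw [hzimg ψ b hb]
  have hTone : ∀ b, σ b = b → T 1 b = b := fun b hb => by
    show (P (zel b)).2 = b
    rw [show P (zel b) = (0, b) from hzel b hb]
  have hTadd : ∀ θ b c, σ b = b → σ c = c → T θ (b + c) = T θ b + T θ c := fun θ b c hb hc => by
    have hbc : σ (b + c) = b + c := by rw [map_add, hb, hc]
    have e : zel (b + c) = zel b * zel c := hext _ _ (by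
      rw [hmul, show P (zel (b + c)) = (0, b + c) from hzel _ hbc, show P (zel b) = (0, b) from hzel b hb,
        show P (zel c) = (0, c) from hzel c hc]
      simp)
    show (P (θ (zel (b + c)))).2 = _
    rw [e, map_mul, hmul, hzel1 θ b hb, zero_mul, add_zero]
  have hTq : ∀ θ a, T θ (a * σ a) = M θ a * σ (M θ a) := fun θ a => by
    have e : zel (a * σ a) = lift a * lift a := hext _ _ (by
      rw [hmul, show P (zel (a * σ a)) = (0, a * σ a) from hzel _ (hnorm a),
        show (P (lift a)).1 = a from hlift a, CharTwo.add_self_eq_zero, CharTwo.add_self_eq_zero, zero_add])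
    show (P (θ (zel (a * σ a)))).2 = _
    rw [e, map_mul, hmul]
    show _ + M θ a * σ (M θ a) = _
    rw [CharTwo.add_self_eq_zero, zero_add]
  obtain ⟨α, hα⟩ : ∃ α, α = M θ 1 := ⟨_, rfl⟩
  have hMM : ∀ x, M θ (M θ x) = x := fun x => by
    rw [← hMcomp, hθ]
    show (P (s * lift x * s⁻¹)).1 = x
    have h1 : (P (s * s⁻¹)).1 = 0 := by rw [mul_inv_cancel, hone]
    rw [hmul] at h1
    rw [hmul, hmul, show (P (lift x)).1 = x from hlift x]
    linear_combination h1
  have hTT : ∀ b, σ b = b → T θ (T θ b) = b := fun b hb => by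
    rw [← hTcomp θ θ b hb, hθ]
    show (P (s * zel b * s⁻¹)).2 = b
    have hc : s * zel b = zel b * s := hext _ _ (by
      rw [hmul, hmul, show P (zel b) = (0, b) from hzel b hb, map_zero, mul_zero, zero_mul]
      simp [add_comm])
    rw [hc, mul_inv_cancel_right, show P (zel b) = (0, b) from hzel b hb]
  have hα0 : α ≠ 0 := fun h => by
    have := hMM 1
    rw [← hα, h, hM0] at this
    exact zero_ne_one this
  have hσ1 : σ 1 = 1 := map_one σ
  obtain ⟨c, hc⟩ : ∃ c, c = α * σ α := ⟨_, rfl⟩
  have hc0 : c ≠ 0 := by rw [hc]; exact mul_ne_zero hα0 ((map_ne_zero σ).mpr hα0)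
  have hT1 : T θ 1 = c := by
    have := hTq θ 1
    rw [hσ1, mul_one, ← hα, ← hc] at this
    exact this
  have hh : ∀ x y, M θ x * σ (M θ y) + σ (M θ x) * M θ y = T θ (x * σ y + σ x * y) := by
    intro x y
    have hxy : σ (x * σ y + σ x * y) = x * σ y + σ x * y := by
      simp only [map_add, map_mul, hσ2]; ring
    have e := hTq θ (x + y)
    rw [hMadd, map_add, map_add, show (x + y) * (σ x + σ y) = x * σ x + y * σ y + (x * σ y + σ x * y) by ring,
      hTadd θ _ _ (by rw [map_add, hnorm, hnorm]) hxy, hTadd θ _ _ (hnorm x) (hnorm y), hTq, hTq] at e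
    linear_combination -e
  have ht : ∀ u, σ u = u → T θ u / c = 0 → u = 0 := by
    intro u hu h
    rw [div_eq_zero_iff, or_iff_left hc0] at h
    have e := hTT u hu
    rw [h] at e
    have h0 := hTadd θ 0 0 (map_zero σ) (map_zero σ)
    rw [add_zero, CharTwo.add_self_eq_zero] at h0
    rw [← e, h0]
  obtain ⟨hDm, htD⟩ := mult_of_norm_similitude hσ2 hσne (fun x => M θ x / α)
    (fun x y => by rw [hMadd, add_div]) (by rw [← hα, div_self hα0]) (fun u => T θ u / c) ht
    (fun x => by
      show M θ x / α * σ (M θ x / α) = T θ (x * σ x) / c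
      rw [hTq, hc, map_div₀, div_mul_div_comm])
    (fun x y => by
      show M θ x / α * σ (M θ y / α) + σ (M θ x / α) * (M θ y / α) = T θ (x * σ y + σ x * y) / c
      rw [← hh, hc, map_div₀, map_div₀, div_mul_div_comm, div_mul_div_comm, mul_comm (σ α) α, add_div])
  let D : K →+* K :=
    { toFun := fun x => M θ x / α
      map_one' := by rw [← hα, div_self hα0]
      map_mul' := hDm
      map_zero' := by rw [hM0, zero_div]
      map_add' := fun x y => by rw [hMadd, add_div] }
  have hMD : ∀ x, M θ x = α * D x := fun x => (mul_div_cancel₀ _ hα0).symm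
  have hDD : ∀ x, D (D x) = x := by
    intro x
    have h1 := hMM 1
    rw [← hα, hMD] at h1
    have h := hMM x
    rw [hMD x, hMD, map_mul, ← mul_assoc, h1, one_mul] at h
    exact h
  have hTc : ∀ u, σ u = u → T θ u = c * u := by
    intro u hu
    have h : T θ u / c = D u := htD u hu
    rw [fix_subfield q hK hσ hσne hσ2 D hDD u hu, div_eq_iff hc0] at h
    rw [h, mul_comm]
  have hcfix : σ c = c := by rw [hc]; exact hnorm α
  have hcc : c = 1 := by
    have h := hTT 1 hσ1
    rw [hT1, hTc c hcfix] at h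
    have : (c + 1) ^ 2 = 0 := by linear_combination h + (1 + c) * h2
    exact CharTwo.add_eq_zero.mp (pow_eq_zero_iff two_ne_zero |>.mp this)
  intro g hg
  have hg1 : (P g).1 = 0 := by
    by_contra ha
    obtain ⟨w, hw⟩ : ∃ w, σ w ≠ w := by
      by_contra hall
      simp only [not_exists, not_not] at hall
      exact hσne (RingHom.ext hall)
    have e : ∀ x, (P g).1 * σ x = x * σ (P g).1 := fun x => by
      have h := congrArg (fun y => (P y).2) (Subgroup.mem_center_iff.mp hg (lift x))
      simp only [hmul] at h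
      rw [show (P (lift x)).1 = x from hlift x] at h
      linear_combination -h
    have e1 := e 1
    rw [hσ1, mul_one, one_mul] at e1
    have e2 := e w
    rw [← e1, mul_comm w] at e2
    exact hw (mul_left_cancel₀ ha e2)
  have hb := hfix g hg1
  have e : g = zel (P g).2 := hext _ _ (by
    rw [show P (zel (P g).2) = (0, (P g).2) from hzel _ hb]; exact Prod.ext hg1 rfl)
  rw [e, hzimg θ _ hb, hTc _ hb, hcc, one_mul]


/-- Let S be a Sylow 2-subgroup of SU₃(2ⁿ), n ≥ 2 (realised over the field with 4ⁿ elements). If a finite 2-group R contains a subgroup S' of index 2 isomorphic to S, then the centre of S' is contained in the centre of R. -/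
theorem result {R : Type*} [Group R] [Finite R]
    (hR : IsPGroup 2 R) (n : ℕ) (hn : 2 ≤ n) {F : Type*} [Field F] [Fintype F] (hF : Fintype.card F = 4 ^ n)
    (P : Sylow 2 ↥(Cfsg.SU 3 F (2 ^ n))) (S' : Subgroup R) (hS : Nonempty (↥S' ≃* ↥(P : Subgroup ↥(Cfsg.SU 3 F (2 ^ n)))))
    (hidx : S'.index = 2) :
    (Subgroup.center ↥S').map S'.subtype ≤ Subgroup.center R := by
  classical
  intro x hx
  obtain ⟨z, hz, rfl⟩ := Subgroup.mem_map.mp hx
  obtain ⟨eS⟩ := hS
  haveI : Fact (Nat.Prime 2) := ⟨Nat.prime_two⟩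
  haveI : CharP F 2 := charP_of_card_eq_prime_pow (f := 2 * n) (by rw [hF, pow_mul]; norm_num)
  have hF' : Fintype.card F = (2 ^ n) ^ 2 := by rw [hF, ← pow_mul, mul_comm, pow_mul]; norm_num
  obtain ⟨σ, hσ, hσ2, hσne, -⟩ := CfsgLib.Unitary.exists_conj (2 ^ n) hF'
  obtain ⟨f, hf, hker⟩ := CfsgLib.SUFusion.exists_psu_hom (2 ^ n) hF' 3 le_rfl σ hσ hσ2 hσne
  obtain ⟨U, hU⟩ := CfsgLib.SUFusion.exists_sylow_uni (n := 3) hσ2 hσne 2 le_rfl
  have hinj : Function.Injective (f.comp (U : Subgroup _).subtype) := by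
    rw [← MonoidHom.ker_eq_bot_iff, Subgroup.eq_bot_iff_forall]
    rintro ⟨g, hg⟩ hgk
    obtain ⟨c, hc⟩ := (hker g).mp hgk
    have hg' : g ∈ CfsgLib.SUFusion.uni σ 3 := by rw [← hU]; exact hg
    have h00 := hg' 0 0 le_rfl
    rw [hc, Matrix.smul_apply, Matrix.one_apply_eq, smul_eq_mul, mul_one] at h00
    apply Subtype.ext
    exact CfsgLib.SUFusion.mat_ext (by rw [hc, h00, one_smul]; rfl)
  let q' : ↥(Cfsg.SU 3 F (2 ^ n)) →* Cfsg.PSU 3 F (2 ^ n) := QuotientGroup.mk' _
  have hq' : Function.Surjective q' := QuotientGroup.mk'_surjective _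
  have hinjP : Function.Injective (q'.comp (P : Subgroup _).subtype) := by
    rw [← MonoidHom.ker_eq_bot_iff, Subgroup.eq_bot_iff_forall]
    rintro ⟨g, hg⟩ hgk
    have h := CfsgLib.Unitary.mk_pow_eq_one_iff (2 ^ n) hF' (n := 3) (by norm_num) g 1
    rw [pow_one, pow_one] at h
    obtain ⟨c, hc⟩ := h.mp hgk
    have hg3 : g ^ 3 = 1 := by
      have hdet := (g : Matrix.SpecialLinearGroup (Fin 3) F).2
      have hc3 : c ^ 3 = 1 := by
        rw [hc, Matrix.det_smul, Matrix.det_one, mul_one, Fintype.card_fin] at hdet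
        exact hdet
      apply Subtype.ext
      apply Subtype.ext
      rw [Subgroup.coe_pow, Matrix.SpecialLinearGroup.coe_pow, hc, smul_pow, one_pow, hc3, one_smul]
      rfl
    apply Subtype.ext
    show g = 1
    obtain ⟨k, hk⟩ := P.isPGroup' ⟨g, hg⟩
    have hk' : g ^ 2 ^ k = 1 := congrArg Subtype.val hk
    have := pow_gcd_eq_one.mpr ⟨hg3, hk'⟩
    rwa [(Nat.Coprime.pow_right k (by norm_num : Nat.Coprime 3 2)), pow_one] at this
  let eP : ↥(P : Subgroup ↥(Cfsg.SU 3 F (2 ^ n))) ≃* ↥((P.mapSurjective hq' : Sylow 2 _) : Subgroup (Cfsg.PSU 3 F (2 ^ n))) :=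
    (MonoidHom.ofInjective hinjP).trans (MulEquiv.subgroupCongr (show (q'.comp (P : Subgroup _).subtype).range
        = ((P.mapSurjective hq' : Sylow 2 _) : Subgroup _) by
        rw [MonoidHom.range_comp, Subgroup.range_subtype]; rfl))
  let eU : CfsgLib.SUFusion.uni σ 3 ≃* ↥((P.mapSurjective hq' : Sylow 2 _) : Subgroup (Cfsg.PSU 3 F (2 ^ n))) :=
    ((MulEquiv.subgroupCongr hU.symm).trans
      (((MonoidHom.ofInjective hinj)).trans (MulEquiv.subgroupCongr (show (f.comp (U : Subgroup _).subtype).range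
        = ((U.mapSurjective hf : Sylow 2 _) : Subgroup _) by
        rw [MonoidHom.range_comp, Subgroup.range_subtype]; rfl)))).trans (Sylow.equiv _ _)
  let e : ↥S' ≃* CfsgLib.SUFusion.uni σ 3 := eS.trans (eP.trans eU.symm)
  haveI : S'.Normal := Subgroup.normal_of_index_eq_two hidx
  rw [Subgroup.mem_center_iff]
  intro r
  by_cases hr : r ∈ S'
  · exact congrArg Subtype.val (Subgroup.mem_center_iff.mp hz ⟨r, hr⟩)
  have hr2 : r * r ∈ S' := Subgroup.mul_self_mem_of_index_two hidx r
  let ρ : MulAut ↥S' := MulAut.conjNormal r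
  let θ : MulAut (CfsgLib.SUFusion.uni σ 3) := MulAut.congr e ρ
  have hθ : θ * θ = MulAut.conj (e ⟨r * r, hr2⟩) := by
    rw [show θ * θ = MulAut.congr e (ρ * ρ) from (map_mul (MulAut.congr e) ρ ρ).symm]
    refine MulEquiv.ext fun y => ?_
    obtain ⟨y', rfl⟩ := e.surjective y
    rw [MulAut.conj_apply, ← map_inv e, ← map_mul e, ← map_mul e]
    show e (ρ (ρ (e.symm (e y')))) = _
    rw [MulEquiv.symm_apply_apply, show ρ (ρ y') = ⟨r * r, hr2⟩ * y' * ⟨r * r, hr2⟩⁻¹ from
      Subtype.ext (by simp [ρ, MulAut.conjNormal_apply, mul_assoc])]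
  have hze : e z ∈ Subgroup.center (CfsgLib.SUFusion.uni σ 3) := by
    rw [Subgroup.mem_center_iff]
    intro y
    obtain ⟨y', rfl⟩ := e.surjective y
    rw [← map_mul, ← map_mul, Subgroup.mem_center_iff.mp hz y']
  have h := fix_center_uni hσ2 (2 ^ n) hF' hσ hσne θ _ hθ (e z) hze
  have h' : ρ z = z := e.injective (by
    have h' : e (ρ (e.symm (e z))) = e z := h
    rwa [MulEquiv.symm_apply_apply] at h')
  have h'' := congrArg Subtype.val h'
  rw [MulAut.conjNormal_apply] at h''
  show r * (z : R) = (z : R) * r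
  exact eq_mul_inv_iff_mul_eq.mp h''.symm |>.symm

end Cfsg.Agent.S3315
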