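import Cfsg.Statements.S3162
import Cfsg.Agent.S3315
import Cfsg.Agent.PCore.Basic
import Cfsg.Prelude.Def_CaseTheorems

set_option autoImplicit false
open Cfsg

namespace Cfsg.Agent.S3162

open CfsgLib.SUFusion CfsgLib.SuzukiTwo

theorem main_uni {K : Type*} [Field K] [Fintype K] [CharP K 2] {σ : K →+* K} (hσ2 : ∀ x, σ (σ x) = x)
    (n : ℕ) (hn : 2 ≤ n) (hK : Fintype.card K = (2 ^ n) ^ 2) (hσ : ∀ x, σ x = x ^ 2 ^ n) (hσne : σ ≠ RingHom.id K) :
    Cfsg.IsElementaryAbelian 2 (Cfsg.pCore 2 (MulAut (uni σ 3))) ∧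
      Nat.card ↥(Cfsg.pCore 2 (MulAut (uni σ 3))) = 2 ^ (2 * n ^ 2) ∧
      Nat.card (MulAut (uni σ 3)) = 2 ^ (2 * n ^ 2) * (2 * n * ((2 ^ n) ^ 2 - 1)) := by
  classical
  haveI : Fact (Nat.Prime 2) := ⟨Nat.prime_two⟩
  have h2 : (2 : K) = 0 := CharTwo.two_eq_zero
  obtain ⟨hfixcard, htr⟩ := fixed_field (2 ^ n) hK hσ hσne hσ2
  have hnorm : ∀ a, σ (a * σ a) = a * σ a := fun a => by rw [map_mul, hσ2, mul_comm]
  have hchoose : ∀ a, ∃ g : uni σ 3, (par3 σ g.1).1 = a := fun a => by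
    obtain ⟨b, hb⟩ := htr _ (hnorm a)
    exact ⟨⟨u3 hσ2 a b (by rw [hb, CharTwo.add_self_eq_zero]), u3_mem hσ2 _ _ _⟩, by simp [par3_u3]⟩
  choose lift hlift using hchoose
  have hchz : ∀ b, ∃ g : uni σ 3, σ b = b → par3 σ g.1 = (0, b) := fun b => by
    by_cases h : σ b = b
    · exact ⟨⟨u3 hσ2 0 b (by rw [h, CharTwo.add_self_eq_zero, zero_mul, add_zero]), u3_mem hσ2 _ _ _⟩,
        fun _ => by simp [par3_u3]⟩
    · exact ⟨1, fun h' => absurd h' h⟩
  choose zel hzel using hchz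
  let P : uni σ 3 → K × K := fun g => par3 σ g.1
  have hmul : ∀ g g' : uni σ 3, P (g * g') = ((P g).1 + (P g').1, (P g).2 + (P g').2 + (P g).1 * σ (P g').1) :=
    fun g g' => par3_mul hσ2 g.2 g'.2
  have hext : ∀ g g' : uni σ 3, P g = P g' → g = g' := fun g g' h =>
    Subtype.ext (par3_ext hσ2 g.2 g'.2 h)
  have hone : P 1 = (0, 0) := by simp [P, par3, mat_one]
  have hfix : ∀ g : uni σ 3, (P g).1 = 0 → σ (P g).2 = (P g).2 := by
    intro g ha
    obtain ⟨a, b, h, hg⟩ := exists_u3 hσ2 g.2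
    simp only [P, hg, par3_u3] at ha ⊢
    subst ha
    rw [map_zero, mul_zero, add_zero, CharTwo.add_eq_zero] at h
    exact h.symm
  have hinv : ∀ g : uni σ 3, g * g = 1 ↔ (P g).1 = 0 := by
    intro g
    constructor
    · intro h
      have h' := congrArg (fun x : uni σ 3 => (P x).2) h
      simp only [hmul, hone, CharTwo.add_self_eq_zero, zero_add, mul_eq_zero, map_eq_zero, or_self] at h'
      exact h'
    · intro h
      apply hext
      rw [hmul, hone, h, zero_mul, add_zero, CharTwo.add_self_eq_zero, CharTwo.add_self_eq_zero]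
  let M : MulAut (uni σ 3) → K → K := fun θ a => (P (θ (lift a))).1
  have hwd : ∀ (θ : MulAut (uni σ 3)) g, (P (θ g)).1 = M θ (P g).1 := by
    intro θ g
    obtain ⟨h, hh⟩ : ∃ h, h = (lift (P g).1)⁻¹ * g := ⟨_, rfl⟩
    have hg : g = lift (P g).1 * h := by rw [hh, mul_inv_cancel_left]
    have hh1 : (P h).1 = 0 := by
      have := congrArg (fun x => (P x).1) hg
      simp only [hmul] at this
      rw [show (P (lift (P g).1)).1 = (P g).1 from hlift _] at this
      exact left_eq_add.mp this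
    have hh2 : (P (θ h)).1 = 0 := by
      rw [← hinv, ← map_mul, (hinv h).mpr hh1, map_one]
    conv_lhs => rw [hg, map_mul, hmul]
    show _ + (P (θ h)).1 = _
    rw [hh2, add_zero]
  have hMadd : ∀ θ a b, M θ (a + b) = M θ a + M θ b := by
    intro θ a b
    have := hwd θ (lift a * lift b)
    rw [map_mul, hmul, hmul, show (P (lift a)).1 = a from hlift a, show (P (lift b)).1 = b from hlift b] at this
    exact this.symm
  have hMcomp : ∀ θ ψ a, M (θ * ψ) a = M θ (M ψ a) := fun θ ψ a => hwd θ (ψ (lift a))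
  have hMone : ∀ a, M 1 a = a := fun a => hlift a
  have hM0 : ∀ θ, M θ 0 = 0 := fun θ => by
    have h := hMadd θ 0 0
    rw [add_zero, CharTwo.add_self_eq_zero] at h
    exact h
  let T : MulAut (uni σ 3) → K → K := fun θ b => (P (θ (zel b))).2
  have hzel1 : ∀ (θ : MulAut (uni σ 3)) (b : K), σ b = b → (P (θ (zel b))).1 = 0 := fun θ b hb => by
    rw [hwd, show P (zel b) = (0, b) from hzel b hb, hM0]
  have hTfix : ∀ (θ : MulAut (uni σ 3)) (b : K), σ b = b → σ (T θ b) = T θ b := fun θ b hb => hfix _ (hzel1 θ b hb)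
  have hzimg : ∀ (θ : MulAut (uni σ 3)) (b : K), σ b = b → θ (zel b) = zel (T θ b) := fun θ b hb => hext _ _ (by
    rw [show P (zel (T θ b)) = (0, T θ b) from hzel _ (hTfix θ b hb)]
    exact Prod.ext (hzel1 θ b hb) rfl)
  have hTcomp : ∀ θ ψ b, σ b = b → T (θ * ψ) b = T θ (T ψ b) := fun θ ψ b hb => by
    show (P (θ (ψ (zel b)))).2 = _
    rw [hzimg ψ b hb]
  have hTone : ∀ b, σ b = b → T 1 b = b := fun b hb => by
    show (P (zel b)).2 = b
    rw [show P (zel b) = (0, b) from hzel b hb]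
  have hTadd : ∀ θ b c, σ b = b → σ c = c → T θ (b + c) = T θ b + T θ c := fun θ b c hb hc => by
    have hbc : σ (b + c) = b + c := by rw [map_add, hb, hc]
    have e : zel (b + c) = zel b * zel c := hext _ _ (by
      rw [hmul, show P (zel (b + c)) = (0, b + c) from hzel _ hbc, show P (zel b) = (0, b) from hzel b hb,
        show P (zel c) = (0, c) from hzel c hc]
      simp)
    show (P (θ (zel (b + c)))).2 = _
    rw [e, map_mul, hmul, hzel1 θ b hb, zero_mul, add_zero]
  have hTq : ∀ θ a, T θ (a * σ a) = M θ a * σ (M θ a) := fun θ a => by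
    have e : zel (a * σ a) = lift a * lift a := hext _ _ (by
      rw [hmul, show P (zel (a * σ a)) = (0, a * σ a) from hzel _ (hnorm a),
        show (P (lift a)).1 = a from hlift a, CharTwo.add_self_eq_zero, CharTwo.add_self_eq_zero, zero_add])
    show (P (θ (zel (a * σ a)))).2 = _
    rw [e, map_mul, hmul]
    show _ + M θ a * σ (M θ a) = _
    rw [CharTwo.add_self_eq_zero, zero_add]
  haveI : Finite (MulAut (uni σ 3)) := Finite.of_injective (fun φ => (φ : uni σ 3 → uni σ 3)) DFunLike.coe_injective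
  let Φ : MulAut (uni σ 3) →* Equiv.Perm K :=
    { toFun := fun φ => ⟨M φ, M φ⁻¹, fun a => by rw [← hMcomp, inv_mul_cancel, hMone],
        fun a => by rw [← hMcomp, mul_inv_cancel, hMone]⟩
      map_one' := Equiv.ext hMone
      map_mul' := fun φ ψ => Equiv.ext (hMcomp φ ψ) }
  have hΦ : ∀ φ a, Φ φ a = M φ a := fun φ a => rfl
  -- the fixed field as an additive group
  let F0 : AddSubgroup K :=
    { carrier := {x | σ x = x}
      zero_mem' := map_zero σ
      add_mem' := fun {a b} ha hb => by show σ (a + b) = a + b; rw [map_add, ha, hb]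
      neg_mem' := fun {a} ha => by show σ (-a) = -a; rw [map_neg, ha] }
  have hroot : ∀ u, σ u = u → ∃ v, σ v = v ∧ v * σ v = u := by
    intro u hu
    obtain ⟨v, hv⟩ : ∃ v, frobenius K 2 v = u :=
      (Finite.surjective_of_injective (frobenius K 2).injective) u
    rw [frobenius_def] at hv
    have hv' : σ v = v := (frobenius K 2).injective (by rw [frobenius_def, frobenius_def, ← map_pow, hv, hu])
    exact ⟨v, hv', by rw [hv', ← pow_two, hv]⟩
  have hfix0 : ∀ φ : Φ.ker, ∀ b, σ b = b → T φ.1 b = b := by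
    intro φ b hb
    obtain ⟨v, -, rfl⟩ := hroot b hb
    rw [hTq, ← hΦ, show Φ φ.1 = 1 from φ.2]
    rfl
  have hd : ∀ φ : Φ.ker, ∀ x : uni σ 3, ∃ d : F0, φ.1 x = x * zel d := by
    intro φ x
    obtain ⟨z, hz⟩ : ∃ z, φ.1 x = x * z := ⟨x⁻¹ * φ.1 x, by rw [mul_inv_cancel_left]⟩
    have hz1 : (P z).1 = 0 := by
      have := hwd φ.1 x
      rw [← hΦ, show Φ φ.1 = 1 from φ.2, Equiv.Perm.one_apply, hz, hmul] at this
      exact add_eq_left.mp this
    refine ⟨⟨(P z).2, hfix z hz1⟩, hz.trans (congrArg (x * ·) (hext _ _ ?_))⟩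
    rw [show P (zel (P z).2) = (0, (P z).2) from hzel _ (hfix z hz1)]
    exact Prod.ext hz1 rfl
  choose d hd using hd
  have hzP : ∀ u : F0, P (zel u) = (0, (u : K)) := fun u => hzel _ u.2
  have hPz : ∀ (x : uni σ 3) (u : F0), P (x * zel u) = ((P x).1, (P x).2 + u) := fun x u => by
    rw [hmul, hzP, map_zero, mul_zero, add_zero, add_zero]
  have hd2 : ∀ (φ : Φ.ker) (x : uni σ 3), (P (φ.1 x)).2 = (P x).2 + (d φ x : K) := fun φ x => by rw [hd φ x, hPz]
  have hd1 : ∀ (φ : Φ.ker) (x : uni σ 3), (P (φ.1 x)).1 = (P x).1 := fun φ x => by rw [hd φ x, hPz]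
  have hdmul : ∀ (φ : Φ.ker) (x y : uni σ 3), d φ (x * y) = d φ x + d φ y := fun φ x y => Subtype.ext (by
    have e := hd2 φ (x * y)
    rw [map_mul, hmul, hmul] at e
    simp only [hd1, hd2] at e
    rw [AddSubgroup.coe_add]
    linear_combination -e)
  have hdz : ∀ (φ : Φ.ker) (u : F0), d φ (zel u) = 0 := fun φ u => Subtype.ext (by
    have e := hd2 φ (zel u)
    rw [hzimg φ.1 _ u.2, hfix0 φ _ u.2] at e
    exact left_eq_add.mp e)
  have hdeq : ∀ (φ : Φ.ker) (x : uni σ 3), d φ x = d φ (lift (P x).1) := by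
    intro φ x
    obtain ⟨z, hz⟩ : ∃ z, x = lift (P x).1 * z := ⟨(lift (P x).1)⁻¹ * x, by rw [mul_inv_cancel_left]⟩
    have hz1 : (P z).1 = 0 := by
      have := congrArg (fun y => (P y).1) hz
      simp only [hmul] at this
      rw [show (P (lift (P x).1)).1 = (P x).1 from hlift _] at this
      exact left_eq_add.mp this
    have e : z = zel ((⟨(P z).2, hfix z hz1⟩ : F0) : K) :=
      hext _ _ (by rw [hzP]; exact Prod.ext hz1 rfl)
    conv_lhs => rw [hz]
    rw [hdmul]
    conv_lhs => rw [e, hdz, add_zero]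
  have hG0 : ∀ (φ : Φ.ker) (a b : K), d φ (lift (a + b)) = d φ (lift a) + d φ (lift b) := fun φ a b => by
    have e : (P (lift a * lift b)).1 = a + b := by
      rw [hmul, show (P (lift a)).1 = a from hlift a, show (P (lift b)).1 = b from hlift b]
    rw [← hdmul, hdeq φ (lift a * lift b), e]
  let G : Φ.ker → (K →+ F0) := fun φ => AddMonoidHom.mk' (fun a => d φ (lift a)) (hG0 φ)
  have hGd : ∀ φ x, d φ x = G φ (P x).1 := fun φ x => hdeq φ x
  have hGbij : Function.Bijective G := by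
    constructor
    · intro φ ψ e
      refine Subtype.ext (MulEquiv.ext fun x => ?_)
      rw [hd φ x, hd ψ x, hGd, hGd, e]
    · intro g
      let f : uni σ 3 →* uni σ 3 := MonoidHom.mk' (fun x => x * zel (g (P x).1)) fun x y => hext _ _ (by
        rw [hPz, hmul, hmul, hPz, hPz, map_add, AddSubgroup.coe_add]
        exact Prod.ext rfl (by ring))
      have hinj : Function.Injective f := by
        intro x y e
        have e' := congrArg P e
        rw [show f x = x * zel (g (P x).1) from rfl, show f y = y * zel (g (P y).1) from rfl, hPz, hPz,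
          Prod.mk.injEq] at e'
        obtain ⟨e1, e2⟩ := e'
        rw [e1] at e2
        exact hext _ _ (Prod.ext e1 (add_right_cancel e2))
      let φ : MulAut (uni σ 3) := MulEquiv.ofBijective f (Finite.injective_iff_bijective.1 hinj)
      have hφ : φ ∈ Φ.ker := Equiv.ext fun a => by
        show (P (lift a * zel (g (P (lift a)).1))).1 = a
        rw [hPz]; exact hlift a
      refine ⟨⟨φ, hφ⟩, AddMonoidHom.ext fun a => Subtype.ext ?_⟩
      have e := hd2 ⟨φ, hφ⟩ (lift a)
      rw [show φ (lift a) = lift a * zel (g (P (lift a)).1) from rfl, hPz, show (P (lift a)).1 = a from hlift a] at e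
      exact (add_left_cancel e).symm
  letI : Algebra (ZMod 2) K := ZMod.algebra K 2
  have hdimK : Module.finrank (ZMod 2) K = 2 * n := by
    have := Module.card_eq_pow_finrank (K := ZMod 2) (V := K)
    rw [ZMod.card, hK, ← pow_mul, mul_comm] at this
    exact (Nat.pow_right_injective (le_refl 2) this).symm
  have hkc : Nat.card Φ.ker = 2 ^ (2 * n ^ 2) := by
    rw [Nat.card_eq_of_bijective G hGbij]
    have hF0 : Nat.card F0 = 2 ^ n := hfixcard
    letI : Module (ZMod 2) F0 := AddCommGroup.zmodModule fun x => Subtype.ext (by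
      rw [AddSubgroup.coe_nsmul, two_nsmul, CharTwo.add_self_eq_zero]; rfl)
    have hdim0 : Module.finrank (ZMod 2) F0 = n := by
      have := Module.natCard_eq_pow_finrank (K := ZMod 2) (V := F0)
      rw [Nat.card_zmod, hF0] at this
      exact (Nat.pow_right_injective (le_refl 2) this).symm
    let e : (K →+ F0) ≃ (K →ₗ[ZMod 2] F0) :=
      { toFun := fun g => g.toZModLinearMap 2, invFun := fun g => g.toAddMonoidHom,
        left_inv := fun g => rfl, right_inv := fun g => rfl }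
    rw [Nat.card_congr e, Module.natCard_eq_pow_finrank (K := ZMod 2), Module.finrank_linearMap, hdimK, hdim0,
      Nat.card_zmod]
    ring
  -- the image
  have hclass : ∀ φ, ∃ (α : Kˣ) (D : K ≃ₐ[ZMod 2] K), ∀ x, Φ φ x = (α : K) * D x := by
    intro φ
    obtain ⟨α, hα⟩ : ∃ α, α = M φ 1 := ⟨_, rfl⟩
    have hMM : ∀ x, M φ⁻¹ (M φ x) = x := fun x => by rw [← hMcomp, inv_mul_cancel, hMone]
    have hα0 : α ≠ 0 := fun h => by
      have := hMM 1
      rw [← hα, h, hM0] at this
      exact zero_ne_one this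
    obtain ⟨c, hc⟩ : ∃ c, c = α * σ α := ⟨_, rfl⟩
    have hc0 : c ≠ 0 := by rw [hc]; exact mul_ne_zero hα0 ((map_ne_zero σ).mpr hα0)
    have hh : ∀ x y, M φ x * σ (M φ y) + σ (M φ x) * M φ y = T φ (x * σ y + σ x * y) := by
      intro x y
      have hxy : σ (x * σ y + σ x * y) = x * σ y + σ x * y := by
        simp only [map_add, map_mul, hσ2]; ring
      have e := hTq φ (x + y)
      rw [hMadd, map_add, map_add, show (x + y) * (σ x + σ y) = x * σ x + y * σ y + (x * σ y + σ x * y) by ring,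
        hTadd φ _ _ (by rw [map_add, hnorm, hnorm]) hxy, hTadd φ _ _ (hnorm x) (hnorm y), hTq, hTq] at e
      linear_combination -e
    have ht : ∀ u, σ u = u → T φ u / c = 0 → u = 0 := by
      intro u hu h
      rw [div_eq_zero_iff, or_iff_left hc0] at h
      have e := hTcomp φ⁻¹ φ u hu
      rw [inv_mul_cancel, hTone u hu, h] at e
      have h0 := hTadd φ⁻¹ 0 0 (map_zero σ) (map_zero σ)
      rw [add_zero, CharTwo.add_self_eq_zero] at h0
      rw [e, h0]
    obtain ⟨hDm, -⟩ := Cfsg.Agent.S3315.mult_of_norm_similitude hσ2 hσne (fun x => M φ x / α)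
      (fun x y => by rw [hMadd, add_div]) (by rw [← hα, div_self hα0]) (fun u => T φ u / c) ht
      (fun x => by
        show M φ x / α * σ (M φ x / α) = T φ (x * σ x) / c
        rw [hTq, hc, map_div₀, div_mul_div_comm])
      (fun x y => by
        show M φ x / α * σ (M φ y / α) + σ (M φ x / α) * (M φ y / α) = T φ (x * σ y + σ x * y) / c
        rw [← hh, hc, map_div₀, map_div₀, div_mul_div_comm, div_mul_div_comm, mul_comm (σ α) α, add_div])
    let D : K →+* K :=
      { toFun := fun x => M φ x / α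
        map_one' := by rw [← hα, div_self hα0]
        map_mul' := hDm
        map_zero' := by rw [hM0, zero_div]
        map_add' := fun x y => by rw [hMadd, add_div] }
    let Da : K →ₐ[ZMod 2] K := { D with commutes' := fun r => RingHom.congr_fun (Subsingleton.elim (D.comp (algebraMap (ZMod 2) K)) (algebraMap (ZMod 2) K)) r }
    refine ⟨Units.mk0 α hα0, AlgEquiv.ofBijective Da (Finite.injective_iff_bijective.1 D.injective), fun x => ?_⟩
    show M φ x = α * (M φ x / α)
    rw [mul_div_cancel₀ _ hα0]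
  have hexp : ∀ q : Kˣ × (K ≃ₐ[ZMod 2] K), ∃ r : Φ.range, ∀ a, r.1 a = (q.1 : K) * q.2 a := by
    rintro ⟨α, D⟩
    have hDσ : ∀ x, σ (D x) = D (σ x) := fun x => by rw [hσ, hσ, map_pow]
    have hcfix : σ ((α : K) * σ α) = (α : K) * σ α := hnorm _
    have hrel : ∀ g : uni σ 3, (α : K) * σ α * D (P g).2 + σ ((α : K) * σ α * D (P g).2) +
        (α : K) * D (P g).1 * σ ((α : K) * D (P g).1) = 0 := by
      intro g
      obtain ⟨a, b, hab, hg⟩ := exists_u3 hσ2 g.2
      simp only [P, hg, par3_u3]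
      have e := congrArg D hab
      simp only [map_add, map_mul, map_zero, ← hDσ] at e
      rw [map_mul, map_mul σ (α : K) (D a), hcfix]
      linear_combination ((α : K) * σ α) * e
    have hPu : ∀ g, P ⟨u3 hσ2 _ _ (hrel g), u3_mem hσ2 _ _ _⟩ =
        ((α : K) * D (P g).1, (α : K) * σ α * D (P g).2) := fun g => par3_u3 hσ2 _ _ (hrel g)
    let f : uni σ 3 →* uni σ 3 := MonoidHom.mk' (fun g => ⟨u3 hσ2 _ _ (hrel g), u3_mem hσ2 _ _ _⟩) fun g g' => hext _ _ (by
      rw [hPu, hmul g g', hmul, hPu, hPu]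
      simp only [map_add, map_mul, hDσ]
      exact Prod.ext (by ring) (by ring))
    have hfP : ∀ g, P (f g) = ((α : K) * D (P g).1, (α : K) * σ α * D (P g).2) := fun g => par3_u3 hσ2 _ _ (hrel g)
    have hinj : Function.Injective f := by
      intro x y e
      have e' := congrArg P e
      rw [hfP, hfP, Prod.mk.injEq] at e'
      exact hext _ _ (Prod.ext (D.injective (mul_left_cancel₀ α.ne_zero e'.1))
        (D.injective (mul_left_cancel₀ (mul_ne_zero α.ne_zero ((map_ne_zero σ).mpr α.ne_zero)) e'.2)))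
    let φ : MulAut (uni σ 3) := MulEquiv.ofBijective f (Finite.injective_iff_bijective.1 hinj)
    refine ⟨⟨Φ φ, φ, rfl⟩, fun a => ?_⟩
    show (P (f (lift a))).1 = _
    rw [hfP, show (P (lift a)).1 = a from hlift a]
  choose Θ hΘ using hexp
  have hΘbij : Function.Bijective Θ := by
    constructor
    · rintro ⟨α, D⟩ ⟨β, E⟩ e
      have h1 : ∀ a, (α : K) * D a = (β : K) * E a := fun a => by rw [← hΘ (α, D), e, hΘ]
      have hc : α = β := by have := h1 1; simp only [map_one, mul_one] at this; exact Units.ext this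
      subst hc
      exact Prod.ext rfl (AlgEquiv.ext fun a => mul_left_cancel₀ α.ne_zero (h1 a))
    · rintro ⟨r, φ, rfl⟩
      obtain ⟨α, D, h⟩ := hclass φ
      exact ⟨(α, D), Subtype.ext (Equiv.ext fun a => by rw [hΘ]; exact (h a).symm)⟩
  have hrc : Nat.card Φ.range = 2 * n * ((2 ^ n) ^ 2 - 1) := by
    rw [← Nat.card_eq_of_bijective Θ hΘbij, Nat.card_prod, Nat.card_units, Nat.card_eq_fintype_card, hK,
      IsGalois.card_aut_eq_finrank, hdimK, mul_comm]
  have hcore : Cfsg.pCore 2 (MulAut (uni σ 3)) = Φ.ker := by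
    refine le_antisymm ?_ (CfsgLib.PCore.le_pCore inferInstance (IsPGroup.of_card hkc))
    intro φ hφ
    rw [MonoidHom.mem_ker]
    have hpow : ∀ ψ ∈ Cfsg.pCore 2 (MulAut (uni σ 3)), ∀ γ : K, (∀ a, Φ ψ a = γ * a) → γ = 1 := by
      intro ψ hψ γ hγ
      obtain ⟨k, hk⟩ := CfsgLib.PCore.isPGroup_pCore 2 (MulAut (uni σ 3)) ⟨ψ, hψ⟩
      have hit : ∀ j a, Φ (ψ ^ j) a = γ ^ j * a := by
        intro j
        induction j with
        | zero => intro a; simp
        | succ j ih => intro a; rw [pow_succ', map_mul, Equiv.Perm.mul_apply, hγ, ih, pow_succ]; ring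
      have := hit (2 ^ k) 1
      rw [show ψ ^ 2 ^ k = 1 from congrArg Subtype.val hk] at this
      simp only [map_one, Equiv.Perm.coe_one, id_eq, mul_one] at this
      exact (iterateFrobenius K 2 k).injective (a₁ := γ) (a₂ := 1) (by simp [iterateFrobenius_def, ← this])
    obtain ⟨α, D, hD⟩ := hclass φ
    have hDid : ∀ x, D x = x := by
      intro x
      by_cases hx : x = 0
      · rw [hx, map_zero]
      obtain ⟨⟨r, ψ, hψ⟩, hr⟩ : ∃ r : Φ.range, ∀ a, r.1 a = x * a :=
        ⟨Θ (Units.mk0 x hx, 1), fun a => hΘ _ a⟩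
      have hψa : ∀ a, Φ ψ a = x * a := fun a => by rw [hψ]; exact hr a
      have hN : (Cfsg.pCore 2 (MulAut (uni σ 3))).Normal := Cfsg.pCore_normal 2 _
      have hmem : ψ * φ * ψ⁻¹ * φ⁻¹ ∈ Cfsg.pCore 2 (MulAut (uni σ 3)) := mul_mem (hN.conj_mem φ hφ ψ) (inv_mem hφ)
      have hkey : ∀ a, Φ (ψ * φ * ψ⁻¹ * φ⁻¹) a = x / D x * a := by
        intro a
        obtain ⟨w, rfl⟩ := (Φ φ).surjective a
        obtain ⟨v, rfl⟩ := (Φ ψ).surjective w
        simp only [map_mul, map_inv, Equiv.Perm.mul_apply, Equiv.Perm.inv_def, Equiv.symm_apply_apply]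
        rw [hψa, hψa, hD, hD, map_mul]
        have : D x ≠ 0 := fun e => hx (D.injective (by rw [e, map_zero]))
        field_simp
      have := hpow _ hmem _ hkey
      have hDx : D x ≠ 0 := fun e => hx (D.injective (by rw [e, map_zero]))
      exact ((div_eq_one_iff_eq hDx).mp this).symm
    have hα := hpow φ hφ α (fun a => by rw [hD, hDid])
    exact Equiv.ext fun a => by rw [hD, hDid, hα, one_mul]; rfl
  refine ⟨?_, by rw [hcore, hkc], ?_⟩
  · rw [hcore]
    have hmulk : ∀ φ ψ : Φ.ker, ∀ x, P ((φ * ψ).1 x) = ((P x).1, (P x).2 + G ψ (P x).1 + G φ (P x).1) := fun φ ψ x => by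
      show P (φ.1 (ψ.1 x)) = _
      exact Prod.ext (by rw [hd1, hd1]) (by show (P (φ.1 (ψ.1 x))).2 = _; rw [hd2, hd2, hGd, hGd, hd1])
    refine ⟨⟨⟨fun φ ψ => Subtype.ext (MulEquiv.ext fun x => hext _ _ (by rw [hmulk, hmulk, add_right_comm]))⟩⟩, fun φ hφ => ?_⟩
    rw [pow_two]
    refine congrArg Subtype.val (?_ : (⟨φ, hφ⟩ * ⟨φ, hφ⟩ : Φ.ker) = 1)
    refine Subtype.ext (MulEquiv.ext fun x => hext _ _ ?_)
    rw [hmulk, add_assoc, CharTwo.add_self_eq_zero, add_zero]
    rfl
  · rw [Subgroup.card_eq_card_quotient_mul_card_subgroup Φ.ker,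
      Nat.card_congr (QuotientGroup.quotientKerEquivRange Φ).toEquiv, hkc, hrc, mul_comm]


/-- Let S be a Sylow 2-subgroup of the special unitary group of dimension 3 with parameter q = 2^n (n ≥ 2; realised over the field with q² elements). Then the largest normal 2-subgroup of the automorphism group of S is elementary abelian of order 2^(2n²), and the automorphism group has order 2^(2n²) · 2n(q² − 1). -/
theorem result {S : Type*} [Group S] [Finite S] (n : ℕ) (hn : 2 ≤ n) {F : Type*} [Field F] [Fintype F] (hF : Fintype.card F = 4 ^ n)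
    (P : Sylow 2 ↥(Cfsg.SU 3 F (2 ^ n))) (hS : Nonempty (S ≃* ↥(P : Subgroup ↥(Cfsg.SU 3 F (2 ^ n))))) :
    Cfsg.IsElementaryAbelian 2 (Cfsg.pCore 2 (MulAut S)) ∧ Nat.card ↥(Cfsg.pCore 2 (MulAut S)) = 2 ^ (2 * n ^ 2) ∧
      Nat.card (MulAut S) = 2 ^ (2 * n ^ 2) * (2 * n * ((2 ^ n) ^ 2 - 1)) := by
  classical
  obtain ⟨eS⟩ := hS
  haveI : Fact (Nat.Prime 2) := ⟨Nat.prime_two⟩
  haveI : CharP F 2 := charP_of_card_eq_prime_pow (f := 2 * n) (by rw [hF, pow_mul]; norm_num)
  have hF' : Fintype.card F = (2 ^ n) ^ 2 := by rw [hF, ← pow_mul, mul_comm, pow_mul]; norm_num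
  obtain ⟨σ, hσ, hσ2, hσne, -⟩ := CfsgLib.Unitary.exists_conj (2 ^ n) hF'
  obtain ⟨f, hf, hker⟩ := CfsgLib.SUFusion.exists_psu_hom (2 ^ n) hF' 3 le_rfl σ hσ hσ2 hσne
  obtain ⟨U, hU⟩ := CfsgLib.SUFusion.exists_sylow_uni (n := 3) hσ2 hσne 2 le_rfl
  have hinj : Function.Injective (f.comp (U : Subgroup _).subtype) := by
    rw [← MonoidHom.ker_eq_bot_iff, Subgroup.eq_bot_iff_forall]
    rintro ⟨g, hg⟩ hgk
    obtain ⟨c, hc⟩ := (hker g).mp hgk
    have hg' : g ∈ CfsgLib.SUFusion.uni σ 3 := by rw [← hU]; exact hg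
    have h00 := hg' 0 0 le_rfl
    rw [hc, Matrix.smul_apply, Matrix.one_apply_eq, smul_eq_mul, mul_one] at h00
    apply Subtype.ext
    exact CfsgLib.SUFusion.mat_ext (by rw [hc, h00, one_smul]; rfl)
  let q' : ↥(Cfsg.SU 3 F (2 ^ n)) →* Cfsg.PSU 3 F (2 ^ n) := QuotientGroup.mk' _
  have hq' : Function.Surjective q' := QuotientGroup.mk'_surjective _
  have hinjP : Function.Injective (q'.comp (P : Subgroup _).subtype) := by
    rw [← MonoidHom.ker_eq_bot_iff, Subgroup.eq_bot_iff_forall]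
    rintro ⟨g, hg⟩ hgk
    have h := CfsgLib.Unitary.mk_pow_eq_one_iff (2 ^ n) hF' (n := 3) (by norm_num) g 1
    rw [pow_one, pow_one] at h
    obtain ⟨c, hc⟩ := h.mp hgk
    have hg3 : g ^ 3 = 1 := by
      have hdet := (g : Matrix.SpecialLinearGroup (Fin 3) F).2
      have hc3 : c ^ 3 = 1 := by
        rw [hc, Matrix.det_smul, Matrix.det_one, mul_one, Fintype.card_fin] at hdet
        exact hdet
      apply Subtype.ext
      apply Subtype.ext
      rw [Subgroup.coe_pow, Matrix.SpecialLinearGroup.coe_pow, hc, smul_pow, one_pow, hc3, one_smul]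
      rfl
    apply Subtype.ext
    show g = 1
    obtain ⟨k, hk⟩ := P.isPGroup' ⟨g, hg⟩
    have hk' : g ^ 2 ^ k = 1 := congrArg Subtype.val hk
    have := pow_gcd_eq_one.mpr ⟨hg3, hk'⟩
    rwa [(Nat.Coprime.pow_right k (by norm_num : Nat.Coprime 3 2)), pow_one] at this
  let eP : ↥(P : Subgroup ↥(Cfsg.SU 3 F (2 ^ n))) ≃* ↥((P.mapSurjective hq' : Sylow 2 _) : Subgroup (Cfsg.PSU 3 F (2 ^ n))) :=
    (MonoidHom.ofInjective hinjP).trans (MulEquiv.subgroupCongr (show (q'.comp (P : Subgroup _).subtype).range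
        = ((P.mapSurjective hq' : Sylow 2 _) : Subgroup _) by
        rw [MonoidHom.range_comp, Subgroup.range_subtype]; rfl))
  let eU : CfsgLib.SUFusion.uni σ 3 ≃* ↥((P.mapSurjective hq' : Sylow 2 _) : Subgroup (Cfsg.PSU 3 F (2 ^ n))) :=
    ((MulEquiv.subgroupCongr hU.symm).trans
      (((MonoidHom.ofInjective hinj)).trans (MulEquiv.subgroupCongr (show (f.comp (U : Subgroup _).subtype).range
        = ((U.mapSurjective hf : Sylow 2 _) : Subgroup _) by
        rw [MonoidHom.range_comp, Subgroup.range_subtype]; rfl)))).trans (Sylow.equiv _ _)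
  let e : S ≃* CfsgLib.SUFusion.uni σ 3 := eS.trans (eP.trans eU.symm)
  let E : MulAut S ≃* MulAut (CfsgLib.SUFusion.uni σ 3) := MulAut.congr e
  obtain ⟨⟨hc, hp⟩, h2, h3⟩ := main_uni hσ2 n hn hF' hσ hσne
  haveI : Finite (MulAut S) := Finite.of_injective (fun φ => (φ : S → S)) DFunLike.coe_injective
  haveI : Finite (MulAut (CfsgLib.SUFusion.uni σ 3)) := Finite.of_equiv _ E.toEquiv
  have hmap : (Cfsg.pCore 2 (MulAut S)).map E.toMonoidHom = Cfsg.pCore 2 (MulAut (CfsgLib.SUFusion.uni σ 3)) := by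
    apply le_antisymm
    · refine CfsgLib.PCore.le_pCore (Subgroup.Normal.map (Cfsg.pCore_normal 2 _) _ E.surjective) ?_
      exact (CfsgLib.PCore.isPGroup_pCore 2 _).map _
    · rw [← Subgroup.comap_le_comap_of_surjective (f := E.toMonoidHom) E.surjective,
        Subgroup.comap_map_eq_self_of_injective (f := E.toMonoidHom) E.injective]
      exact CfsgLib.PCore.le_pCore ((Cfsg.pCore_normal 2 _).comap _)
        ((CfsgLib.PCore.isPGroup_pCore 2 _).comap_of_injective E.toMonoidHom E.injective)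
  have hmem : ∀ {φ}, φ ∈ Cfsg.pCore 2 (MulAut S) → E φ ∈ Cfsg.pCore 2 (MulAut (CfsgLib.SUFusion.uni σ 3)) :=
    fun hφ => hmap ▸ Subgroup.mem_map_of_mem _ hφ
  refine ⟨⟨⟨⟨fun φ ψ => Subtype.ext (E.injective ?_)⟩⟩, fun φ hφ => E.injective ?_⟩, ?_, ?_⟩
  · show E (φ.1 * ψ.1) = E (ψ.1 * φ.1)
    rw [map_mul, map_mul]
    exact congrArg Subtype.val (hc.is_comm.comm ⟨_, hmem φ.2⟩ ⟨_, hmem ψ.2⟩)
  · rw [map_pow, map_one]; exact hp _ (hmem hφ)
  · rw [Nat.card_congr ((Cfsg.pCore 2 (MulAut S)).equivMapOfInjective E.toMonoidHom E.injective).toEquiv, hmap, h2]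
  · rw [Nat.card_congr E.toEquiv, h3]

end Cfsg.Agent.S3162
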