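import Cfsg.Statements.S3224
import Cfsg.Agent.QDWr.Recognition
import Cfsg.Agent.S0112
import Cfsg.Agent.S0113

set_option autoImplicit false
open Cfsg

namespace Cfsg.Agent.S3224

/-- A finite 2-group containing an involution whose centralizer has order 4 is dihedral, quasi-dihedral (semidihedral), or of order 4. -/
theorem result {S : Type*} [Group S] [Finite S] (hS : IsPGroup 2 S)
    (x : S) (hx : orderOf x = 2) (hC : Nat.card ↥(Subgroup.centralizer ({x} : Set S)) = 4) :
    (∃ n : ℕ, Nonempty (S ≃* DihedralGroup n)) ∨ Cfsg.IsQuasiDihedral S ∨ Nat.card S = 4 := by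
  haveI : Fact (Nat.Prime 2) := ⟨Nat.prime_two⟩
  obtain ⟨n, hn⟩ := IsPGroup.iff_card.1 hS
  set C := Subgroup.centralizer ({x} : Set S) with hCdef
  have hle2 : 2 ≤ n := by
    have h1 := Subgroup.card_subgroup_dvd_card C
    rw [hC, hn] at h1
    exact (Nat.pow_dvd_pow_iff_le_right (show 1 < 2 by norm_num)).1 h1
  rcases Nat.lt_or_ge n 3 with hn3 | hn3
  · right; right
    rw [hn, show n = 2 by omega]; norm_num
  have hxC : x ∈ C := Subgroup.mem_centralizer_singleton_iff.2 rfl
  haveI hCc : IsMulCommutative C := IsPGroup.isMulCommutative_of_card_eq_prime_sq (p := 2) (by rw [hC]; norm_num)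
  have hCC : Subgroup.centralizer (C : Set S) = C := le_antisymm
    (fun y hy => Subgroup.mem_centralizer_singleton_iff.2 ((Subgroup.mem_centralizer_iff.1 hy x hxC).symm))
    (Subgroup.le_centralizer C)
  have hcl := Cfsg.Agent.S0112.result (p := 2) n hn C (by rw [hC]; norm_num) hCC
  obtain ⟨A, hAc, hAi⟩ := Cfsg.Agent.S0113.result n hn3 hn hcl
  haveI hAn : A.Normal := Subgroup.normal_of_index_eq_two hAi
  obtain ⟨a, rfl⟩ := (Subgroup.isCyclic_iff_exists_zpowers_eq_top A).1 hAc
  set k := n - 1 with hk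
  have hao : orderOf a = 2 ^ k := by
    have h1 := Subgroup.card_mul_index (Subgroup.zpowers a)
    rw [Nat.card_zpowers, hAi, hn, show n = k + 1 by omega, pow_succ] at h1
    exact Nat.eq_of_mul_eq_mul_right two_pos h1
  have hxx : x * x = 1 := by rw [← pow_two, ← hx, pow_orderOf_eq_one]
  have hxi : x⁻¹ = x := inv_eq_of_mul_eq_one_right hxx
  have hxA : x ∉ Subgroup.zpowers a := by
    intro h
    -- then `x` would be central
    have hxz : ∀ s : S, s * x * s⁻¹ = x := fun s => by
      have hmem : s * x * s⁻¹ ∈ Subgroup.zpowers a := hAn.conj_mem x h s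
      haveI : IsCyclic (Subgroup.zpowers a) := inferInstance
      classical
      haveI := Fintype.ofFinite S
      have h2 := IsCyclic.card_orderOf_eq_totient (α := Subgroup.zpowers a) (d := 2) (by
        rw [← Nat.card_eq_fintype_card, Nat.card_zpowers, hao]; exact dvd_pow_self 2 (by omega))
      rw [Nat.totient_two] at h2
      obtain ⟨u, hu⟩ := Finset.card_eq_one.1 h2
      have e1 : (⟨x, h⟩ : Subgroup.zpowers a) = u := by
        rw [← Finset.mem_singleton, ← hu]; simp [hx]
      have e2 : (⟨s * x * s⁻¹, hmem⟩ : Subgroup.zpowers a) = u := by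
        rw [← Finset.mem_singleton, ← hu]
        simp only [Finset.mem_filter, Finset.mem_univ, true_and, Subgroup.orderOf_mk]
        rw [← hx]
        exact orderOf_injective (MulAut.conj s).toMonoidHom (MulAut.conj s).injective x
      exact congrArg Subtype.val (e2.trans e1.symm)
    have hall : C = ⊤ := (Subgroup.eq_top_iff' C).2 fun s =>
      Subgroup.mem_centralizer_singleton_iff.2 (mul_inv_eq_iff_eq_mul.1 (hxz s))
    rw [hall, Subgroup.card_top, hn] at hC
    have : 2 ^ 3 ≤ 2 ^ n := Nat.pow_le_pow_right (by norm_num) hn3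
    omega
  obtain ⟨r, hr⟩ : ∃ r : ℕ, a ^ r = x * a * x⁻¹ :=
    mem_powers_iff_mem_zpowers.2 (hAn.conj_mem a (Subgroup.mem_zpowers a) x)
  have hrr : a ^ (r * r) = a := by
    rw [pow_mul, hr, conj_pow, hr, hxi, ← mul_assoc, ← mul_assoc, hxx, one_mul, mul_assoc, hxx, mul_one]
  -- few elements of `A` commute with `x`
  have hfix : ∀ i : ℕ, x * a ^ i * x⁻¹ = a ^ i → a ^ (2 * i) = 1 := by
    intro i hi
    by_contra hne
    have hiC : a ^ i ∈ C := Subgroup.mem_centralizer_singleton_iff.2 (mul_inv_eq_iff_eq_mul.1 hi).symm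
    have hsub : Subgroup.zpowers (a ^ i) ≤ C := Subgroup.zpowers_le.2 hiC
    have hlt : Nat.card (Subgroup.zpowers (a ^ i)) < Nat.card C := by
      refine lt_of_le_of_ne (Subgroup.card_le_of_le hsub) fun e => hxA ?_
      have h1 : x ∈ Subgroup.zpowers (a ^ i) := (Subgroup.eq_of_le_of_card_ge hsub e.ge).symm ▸ hxC
      exact Subgroup.zpowers_le.2 ((Subgroup.zpowers a).pow_mem (Subgroup.mem_zpowers a) i) h1
    have hd : orderOf (a ^ i) ∣ 4 := by
      rw [← hC, ← Nat.card_zpowers]; exact Subgroup.card_dvd_of_le hsub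
    rw [Nat.card_zpowers, hC] at hlt
    apply hne
    rw [mul_comm, pow_mul, ← orderOf_dvd_iff_pow_eq_one]
    obtain ⟨c, hc⟩ := hd
    have : orderOf (a ^ i) ≠ 3 := fun e => by rw [e] at hc; omega
    have hpos := orderOf_pos (a ^ i)
    interval_cases (orderOf (a ^ i)) <;> omega
  have hgen : Subgroup.zpowers a ⊔ Subgroup.zpowers x = ⊤ := by
    refine (Subgroup.eq_top_iff' _).2 fun s => ?_
    by_cases hs : s ∈ Subgroup.zpowers a
    · exact Subgroup.mem_sup_left hs
    · have h1 : s * x ∈ Subgroup.zpowers a := (Subgroup.mul_mem_iff_of_index_two hAi).2 (iff_of_false hs hxA)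
      have h2 := mul_mem (Subgroup.mem_sup_left (T := Subgroup.zpowers x) h1)
        (Subgroup.mem_sup_right (S := Subgroup.zpowers a) (Subgroup.mem_zpowers x))
      rwa [mul_assoc, hxx, mul_one] at h2
  set h := 2 ^ (k - 1) with hh
  have hk2 : 2 ^ k = 2 * h := by rw [hh, ← pow_succ']; congr 1; omega
  -- either `a^r = a⁻¹` or the semidihedral case
  have hmain : a ^ (r + 1) = 1 ∨ (3 ≤ k ∧ a ^ r = a ^ (h - 1)) := by
    have hrodd : ¬ 2 ∣ r := fun hd => by
      obtain ⟨m, rfl⟩ := hd
      have h1 : a ^ (2 * m * (2 * m)) = a ^ 1 := by rw [pow_one]; exact hrr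
      rw [pow_eq_pow_iff_modEq, hao, hk2] at h1
      have h3 : 2 * m * (2 * m) % 2 = 1 % 2 := Nat.ModEq.of_dvd (Dvd.intro h rfl) h1
      simp [Nat.mul_mod] at h3
    obtain ⟨m, rfl⟩ : Odd r := Nat.odd_iff.2 (by omega)
    have h1 : a ^ ((2 * m + 1) * (2 * m + 1)) = a ^ 1 := by rw [pow_one]; exact hrr
    rw [pow_eq_pow_iff_modEq, hao] at h1
    have h4 : 2 ^ k ∣ 4 * (m * (m + 1)) := by
      have h5 := (Nat.modEq_iff_dvd' (by nlinarith)).1 h1.symm
      rwa [show (2 * m + 1) * (2 * m + 1) - 1 = 4 * (m * (m + 1)) by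
        rw [show (2 * m + 1) * (2 * m + 1) = 4 * (m * (m + 1)) + 1 by ring]; omega] at h5
    have h6 : 2 ^ (k - 2) ∣ m * (m + 1) := by
      rw [show 2 ^ k = 4 * 2 ^ (k - 2) by rw [show (4 : ℕ) = 2 ^ 2 by norm_num, ← pow_add]; congr 1; omega] at h4
      exact Nat.dvd_of_mul_dvd_mul_left (by norm_num) h4
    have hr0 : x * a * x⁻¹ = a ^ (2 * m + 1) := hr.symm
    rcases Nat.even_or_odd m with hme | hmo
    · have h7 : 2 ^ (k - 2) ∣ m := (Nat.Coprime.pow_left _ (Nat.coprime_two_left.2 hme.add_one)).dvd_of_dvd_mul_right h6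
      -- then `x` centralises `a²`
      have h8 : a ^ (2 * m * 2) = 1 := by
        rw [← orderOf_dvd_iff_pow_eq_one, hao]
        obtain ⟨c, hc⟩ := h7
        exact ⟨c, by rw [hc, show k = k - 2 + 2 by omega, pow_add]; simp; ring⟩
      have h9 := hfix 2 (by
        rw [← conj_pow, hr0, ← pow_mul, add_mul, one_mul, pow_add, h8, one_mul])
      rw [← orderOf_dvd_iff_pow_eq_one, hao, show (2 : ℕ) * 2 = 2 ^ 2 by norm_num] at h9
      have hk' : k = 2 := by
        have := (Nat.pow_dvd_pow_iff_le_right (show 1 < 2 by norm_num)).1 (h9 : 2 ^ k ∣ 2 ^ 2)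
        omega
      -- order eight
      left
      have h10 : ¬ x * a ^ 1 * x⁻¹ = a ^ 1 := fun e => by
        have h11 := hfix 1 e
        rw [← orderOf_dvd_iff_pow_eq_one, hao, hk'] at h11
        norm_num at h11
      rw [pow_one, hr0] at h10
      rcases Nat.even_or_odd (m : ℕ) with ⟨t, ht⟩ | hmo
      · exfalso
        apply h10
        rw [show 2 * m + 1 = 4 * t + 1 by omega, pow_succ, pow_mul,
          show (4 : ℕ) = 2 ^ k by rw [hk']; norm_num, ← hao, pow_orderOf_eq_one, one_pow, one_mul]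
      · exact absurd hme (Nat.not_even_iff_odd.2 hmo)
    · have h7 : 2 ^ (k - 2) ∣ m + 1 := (Nat.Coprime.pow_left _ (Nat.coprime_two_left.2 hmo)).dvd_of_dvd_mul_left h6
      obtain ⟨c, hc⟩ := h7
      have h8 : 2 * m + 1 + 1 = h * c := by
        rw [hh, show k - 1 = k - 2 + 1 by omega, pow_succ, show 2 ^ (k - 2) * 2 * c = 2 * (2 ^ (k - 2) * c) by ring,
          ← hc]
        ring
      rcases Nat.even_or_odd c with ⟨t, ht⟩ | ⟨t, ht⟩
      · left
        rw [h8, ht, show h * (t + t) = 2 * h * t by ring, ← hk2, pow_mul, ← hao, pow_orderOf_eq_one, one_pow]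
      · right
        refine ⟨?_, ?_⟩
        · by_contra hk3
          have hk' : k = 2 := by omega
          obtain ⟨u, hu⟩ := hmo
          rw [hk'] at hc
          simp at hc
          omega
        · have hh1 : 1 ≤ h := Nat.one_le_two_pow
          rw [show 2 * m + 1 = 2 * h * t + (h - 1) by rw [ht] at h8; rw [mul_add, mul_one, ← mul_assoc, mul_comm h 2] at h8; omega,
            ← hk2, pow_add, pow_mul, ← hao, pow_orderOf_eq_one, one_pow, one_mul]
  rcases hmain with h1 | ⟨hk3, h1⟩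
  · left
    haveI : NeZero (2 ^ k) := ⟨by positivity⟩
    refine ⟨_, CfsgLib.QDWr.nonempty_mulEquiv_dihedral hao ?_ (by rw [pow_two, hxx]) hxA hgen⟩
    rw [← hr]
    exact eq_inv_of_mul_eq_one_left (by rw [← pow_succ]; exact h1)
  · right; left
    exact ⟨k, hk3, by rw [hn]; congr 1; omega, a, x, hao, hx, by rw [← hr, h1]⟩

end Cfsg.Agent.S3224
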