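import Cfsg.Statements.S3390
import Cfsg.Agent.FixityTwo.Sylow

set_option autoImplicit false
open Cfsg

namespace Cfsg.Agent.S3390

/-- Let G be a finite group acting faithfully and transitively on a finite set Ω with fixity 2 (every non-identity element fixes at most two points, and some fixes exactly two). Let α ∈ Ω and S a Sylow 2-subgroup of G. Then one of the following holds: the stabilizer S_α of α in S is trivial; S is dihedral or semidihedral and either |S_α| = 2 or |S : S_α| = 2; |S| ≥ 4, S has exactly one orbit of size 2 on Ω, every other S-orbit is regular, and G has a normal subgroup of index 2 or of index |S| which is a Frobenius group; or S ≤ G_α. -/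
theorem result {G : Type*} [Group G] [Finite G] {Ω : Type*} [Fintype Ω] [MulAction G Ω] [FaithfulSMul G Ω] (htr : MulAction.IsPretransitive G Ω)
    (hfix : ∀ g : G, g ≠ 1 → Nat.card (MulAction.fixedBy Ω g) ≤ 2) (hex : ∃ g : G, g ≠ 1 ∧ Nat.card (MulAction.fixedBy Ω g) = 2) (α : Ω) (S : Sylow 2 G) :
    (S : Subgroup G) ⊓ MulAction.stabilizer G α = ⊥ ∨
    (((∃ n : ℕ, Nonempty (↥(S : Subgroup G) ≃* DihedralGroup n)) ∨ Cfsg.IsQuasiDihedral ↥(S : Subgroup G)) ∧
       (Nat.card ↥((S : Subgroup G) ⊓ MulAction.stabilizer G α) = 2 ∨ ((S : Subgroup G) ⊓ MulAction.stabilizer G α).relIndex (S : Subgroup G) = 2)) ∨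
    (4 ≤ Nat.card (S : Subgroup G) ∧
       (∃ ω : Ω, Nat.card (MulAction.orbit ↥(S : Subgroup G) ω) = 2 ∧
          ∀ ω' : Ω, ω' ∉ MulAction.orbit ↥(S : Subgroup G) ω → Nat.card (MulAction.orbit ↥(S : Subgroup G) ω') = Nat.card (S : Subgroup G)) ∧
       ∃ N : Subgroup G, N.Normal ∧ (N.index = 2 ∨ N.index = Nat.card (S : Subgroup G)) ∧ (∃ H : Subgroup ↥N, Cfsg.IsFrobeniusComplement H)) ∨
    (S : Subgroup G) ≤ MulAction.stabilizer G α := by
  classical
  haveI : Fact (Nat.Prime 2) := ⟨Nat.prime_two⟩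
  set Sg := (S : Subgroup G) with hSg
  set Q := Sg ⊓ MulAction.stabilizer G α with hQdef
  by_cases hQne : Q = ⊥
  · exact Or.inl hQne
  right
  by_cases hSle : Sg ≤ MulAction.stabilizer G α
  · exact Or.inr (Or.inr hSle)
  have hQS : Q ≤ Sg := inf_le_left
  have hQneS : Q ≠ Sg := fun h => hSle (h ▸ inf_le_right)
  have hQα : ∀ q ∈ Q, q • α = α := fun q hq => hq.2
  obtain ⟨q₀, hq₀, hq₀1⟩ := (Subgroup.ne_bot_iff_exists_ne_one.mp hQne |>.imp fun a h => h :
    ∃ a : Q, a ≠ 1) |> fun ⟨a, h⟩ => (⟨(a : G), a.2, fun e => h (Subtype.ext e)⟩ :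
    ∃ q₀ ∈ Q, q₀ ≠ (1 : G))
  obtain ⟨s, hsS, hsQ, hsN⟩ := CfsgLib.FixityTwo.exists_normalizing S hQS hQneS
  set β := s • α with hβ
  have hαβ : α ≠ β := fun h => hsQ ⟨hsS, h.symm⟩
  have hnormfix : ∀ t : G, (∀ u, u ∈ Q ↔ t * u * t⁻¹ ∈ Q) → ∀ q ∈ Q, q • (t • α) = t • α := by
    intro t ht q hq
    have h1 : t⁻¹ * q * t ∈ Q := (ht _).mpr (by simpa [mul_assoc] using hq)
    have h2 := hQα _ h1
    rw [mul_smul, mul_smul, inv_smul_eq_iff] at h2
    exact h2
  have hQβ : ∀ q ∈ Q, q • β = β := hnormfix s hsN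
  have hfixQ : ∀ γ : Ω, (∀ q ∈ Q, q • γ = γ) → γ = α ∨ γ = β := by
    intro γ hγ
    by_contra hh
    push Not at hh
    exact hq₀1 (CfsgLib.FixityTwo.three_points hfix (hQα _ hq₀) (hQβ _ hq₀) (hγ _ hq₀) hαβ
      (Ne.symm hh.1) (Ne.symm hh.2))
  have hsinv : s⁻¹ • α = β ∧ s • β = α := by
    have hn' : ∀ u, u ∈ Q ↔ s⁻¹ * u * (s⁻¹)⁻¹ ∈ Q := fun u => by
      rw [inv_inv, hsN (s⁻¹ * u * s)]
      rw [show s * (s⁻¹ * u * s) * s⁻¹ = u by group]
    rcases hfixQ _ (hnormfix s⁻¹ hn') with h | h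
    · exact absurd (inv_smul_eq_iff.mp h).symm (Ne.symm hαβ)
    · exact ⟨h, by rw [← h, smul_inv_smul]⟩
  -- elements normalizing `Q`
  have hnormmem : ∀ t ∈ Sg, (∀ u, u ∈ Q ↔ t * u * t⁻¹ ∈ Q) → t ∈ Q ∨ s⁻¹ * t ∈ Q := by
    intro t ht htn
    rcases hfixQ _ (hnormfix t htn) with h | h
    · exact Or.inl ⟨ht, h⟩
    · refine Or.inr (Subgroup.mem_inf.mpr ⟨Sg.mul_mem (Sg.inv_mem hsS) ht, ?_⟩)
      show (s⁻¹ * t) • α = α
      rw [mul_smul, h, inv_smul_eq_iff]
  -- the subgroup `T = Q ∪ s Q`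
  set T := Sg ⊓ Subgroup.normalizer (Q : Set G) with hTdef
  have hTmem : ∀ t ∈ T, t ∈ Q ∨ s⁻¹ * t ∈ Q := fun t ht =>
    hnormmem t ht.1 fun u => Subgroup.mem_normalizer_iff.mp ht.2 u
  have hQT : Q ≤ T := le_inf hQS Subgroup.le_normalizer
  have hsT : s ∈ T := ⟨hsS, Subgroup.mem_normalizer_iff.mpr hsN⟩
  have hQTidx : Q.relIndex T = 2 := by
    rw [Subgroup.relIndex, Subgroup.index_eq_two_iff]
    refine ⟨⟨s⁻¹, inv_mem hsT⟩, fun ⟨t, ht⟩ => ?_⟩
    simp only [Subgroup.mem_subgroupOf, Subgroup.coe_mul]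
    rcases hTmem t ht with h | h
    · refine Or.inr ⟨h, fun h' => hsQ ?_⟩
      have := inv_mem (Q.mul_mem (inv_mem h) h')
      simpa using this
    · by_cases ht' : t ∈ Q
      · exfalso
        have := inv_mem (Q.mul_mem h (inv_mem ht'))
        exact hsQ (by simpa [mul_assoc] using this)
      · refine Or.inl ⟨?_, ht'⟩
        have h1 := Subgroup.mem_normalizer_iff.mp (Subgroup.mem_inf.mp hsT).2 (s⁻¹ * t)
        have := h1.mp h
        simpa [mul_assoc] using this
  have hTcard : Nat.card T = 2 * Nat.card Q := by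
    have := (Q.subgroupOf T).card_mul_index
    rw [Nat.card_congr (Subgroup.subgroupOfEquivOfLe hQT).toEquiv] at this
    rw [← this, show (Q.subgroupOf T).index = 2 from hQTidx, mul_comm]
  have hQpos : 2 ≤ Nat.card Q := by
    have : Nat.card Q ≠ 1 := fun h => hQne (Subgroup.card_eq_one.mp h)
    have := Nat.card_pos (α := Q)
    omega
  by_cases hTS : T ≠ Sg
  · -- then `Q` has order two and `S` has maximal class
    left
    obtain ⟨x, hxS, hxT, hxN⟩ := CfsgLib.FixityTwo.exists_normalizing S inf_le_left hTS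
    have hcap : ∀ u ∈ Q, x * u * x⁻¹ ∈ Q → u = 1 := by
      intro u hu hu'
      have h3 : (x * u * x⁻¹) • (x • α) = x • α := by
        rw [mul_smul, mul_smul, inv_smul_smul, hQα u hu]
      have hx1 : x • α ≠ α := fun h => hxT (hQT ⟨hxS, h⟩)
      have hx2 : x • α ≠ β := fun h => hxT (by
        have h1 : s⁻¹ * x ∈ Q := Subgroup.mem_inf.mpr ⟨Sg.mul_mem (Sg.inv_mem hsS) hxS, by
          show (s⁻¹ * x) • α = α
          rw [mul_smul, h, inv_smul_eq_iff]⟩
        have := T.mul_mem hsT (hQT h1)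
        rwa [show s * (s⁻¹ * x) = x by group] at this)
      have := CfsgLib.FixityTwo.three_points hfix (hQα _ hu') (hQβ _ hu') h3 hαβ (Ne.symm hx1)
        (Ne.symm hx2)
      simpa using this
    have hQ2 : Nat.card Q = 2 := by
      refine le_antisymm ?_ hQpos
      let F : Q → Bool := fun u => if x * (u : G) * x⁻¹ ∈ Q then true else false
      have hF : Function.Injective F := by
        intro u v huv
        simp only [F] at huv
        by_cases hu : x * (u : G) * x⁻¹ ∈ Q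
        · by_cases hv : x * (v : G) * x⁻¹ ∈ Q
          · exact Subtype.ext ((hcap _ u.2 hu).trans (hcap _ v.2 hv).symm)
          · rw [if_pos hu, if_neg hv] at huv; exact absurd huv (by decide)
        · by_cases hv : x * (v : G) * x⁻¹ ∈ Q
          · rw [if_neg hu, if_pos hv] at huv; exact absurd huv (by decide)
          · have hu' := (hTmem _ ((hxN _).mp (hQT u.2))).resolve_left hu
            have hv' := (hTmem _ ((hxN _).mp (hQT v.2))).resolve_left hv
            have h := Q.mul_mem (inv_mem hu') hv'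
            have e : (s⁻¹ * (x * (u : G) * x⁻¹))⁻¹ * (s⁻¹ * (x * (v : G) * x⁻¹)) =
                x * ((u : G)⁻¹ * v) * x⁻¹ := by group
            rw [e] at h
            exact Subtype.ext (inv_mul_eq_one.mp (hcap _ (mul_mem (inv_mem u.2) v.2) h))
      have := Nat.card_le_card_of_injective F hF
      simpa using this
    refine ⟨?_, Or.inl hQ2⟩
    have ha2 : orderOf q₀ = 2 := by
      rcases (Nat.dvd_prime Nat.prime_two).mp
        (hQ2 ▸ (Subgroup.orderOf_mk q₀ hq₀ ▸ orderOf_dvd_natCard (⟨q₀, hq₀⟩ : Q))) with h | h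
      · exact absurd (orderOf_eq_one_iff.mp h) hq₀1
      · exact h
    haveI : Fintype Q := Fintype.ofFinite Q
    have hQeq : ∀ u ∈ Q, u = 1 ∨ u = q₀ := by
      intro u hu
      by_contra hh
      push Not at hh
      have h3 : ({⟨1, one_mem Q⟩, ⟨q₀, hq₀⟩, ⟨u, hu⟩} : Finset Q).card = 3 :=
        Finset.card_eq_three.mpr ⟨_, _, _, fun e => hq₀1 (congrArg Subtype.val e).symm,
          fun e => hh.1 (congrArg Subtype.val e).symm, fun e => hh.2 (congrArg Subtype.val e).symm, rfl⟩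
      have := Finset.card_le_univ ({⟨1, one_mem Q⟩, ⟨q₀, hq₀⟩, ⟨u, hu⟩} : Finset Q)
      rw [← Nat.card_eq_fintype_card, hQ2] at this
      omega
    have hTC : T = Sg ⊓ Subgroup.centralizer ({q₀} : Set G) := by
      apply le_antisymm
      · intro t ht
        refine ⟨ht.1, Subgroup.mem_centralizer_singleton_iff.mpr ?_⟩
        rcases hQeq _ ((Subgroup.mem_normalizer_iff.mp ht.2 q₀).mp hq₀) with h | h
        · exact absurd (by simpa using h) hq₀1
        · exact (mul_inv_eq_iff_eq_mul.mp h)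
      · intro t ht
        refine ⟨ht.1, Subgroup.mem_normalizer_iff.mpr fun u => ?_⟩
        have hc : t * q₀ = q₀ * t := Subgroup.mem_centralizer_singleton_iff.mp ht.2
        have hc' : t * q₀ * t⁻¹ = q₀ := by rw [hc, mul_inv_cancel_right]
        constructor
        · intro hu
          rcases hQeq u hu with rfl | rfl
          · simpa using one_mem Q
          · rw [hc']; exact hu
        · intro hu
          rcases hQeq _ hu with h | h
          · rw [show u = 1 by simpa using h]; exact one_mem Q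
          · have : u = q₀ := by
              have e : u = t⁻¹ * (t * u * t⁻¹) * t := by group
              rw [e, h, mul_assoc, ← hc, inv_mul_cancel_left]
            exact this ▸ hq₀
    -- a central involution
    haveI : Nontrivial Sg := by
      refine ⟨⟨⟨q₀, hQS hq₀⟩, 1, fun e => hq₀1 (congrArg Subtype.val e)⟩⟩
    haveI := S.isPGroup'.center_nontrivial
    obtain ⟨z, hz⟩ := exists_prime_orderOf_dvd_card' (G := Subgroup.center Sg) 2 (by
      obtain ⟨e, he⟩ := IsPGroup.iff_card.mp (S.isPGroup'.to_subgroup (Subgroup.center Sg))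
      have : e ≠ 0 := fun h0 => by
        rw [h0, pow_zero] at he
        exact absurd he (Finite.one_lt_card (α := Subgroup.center Sg)).ne'
      rw [he]; exact dvd_pow_self 2 this)
    set z' : G := ((z : Sg) : G) with hz'
    have hz2 : orderOf z' = 2 := by rw [hz', Subgroup.orderOf_coe, Subgroup.orderOf_coe, hz]
    have hzc : ∀ t ∈ Sg, t * z' = z' * t := fun t ht =>
      congrArg Subtype.val (Subgroup.mem_center_iff.mp z.2 ⟨t, ht⟩)
    refine CfsgLib.FixityTwo.two_sub_type (hQS hq₀) (z : Sg).2 ha2 hz2 ?_ (hzc q₀ (hQS hq₀)) ?_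
    · intro e
      apply hTS
      rw [hTC]
      refine inf_eq_left.mpr fun t ht => Subgroup.mem_centralizer_singleton_iff.mpr ?_
      rw [e]; exact hzc t ht
    · rw [← hTC, hTcard, hQ2]
  push Not at hTS
  have hSnorm : ∀ t ∈ Sg, ∀ u, u ∈ Q ↔ t * u * t⁻¹ ∈ Q := fun t ht =>
    Subgroup.mem_normalizer_iff.mp ((hTS ▸ ht : t ∈ T)).2
  have hScard : 2 * Nat.card Q = Nat.card Sg := by rw [← hTS, hTcard]
  have hrel : Q.relIndex Sg = 2 := hTS ▸ hQTidx
  have hswap : ∀ u ∈ Sg, u ∈ Q ∨ (u • α = β ∧ u • β = α) := by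
    intro u hu
    rcases hnormmem u hu (hSnorm u hu) with h | h
    · exact Or.inl h
    · right
      obtain ⟨w, hw, rfl⟩ : ∃ w ∈ Q, u = s * w := ⟨s⁻¹ * u, h, by group⟩
      rw [mul_smul, mul_smul, hQα _ hw, hQβ _ hw]
      exact ⟨rfl, hsinv.2⟩
  by_cases hR : ∃ r ∈ Sg, r ≠ 1 ∧ ∃ γ, γ ≠ α ∧ γ ≠ β ∧ r • γ = γ
  · -- an involution outside `Q` with a fixed point
    left
    obtain ⟨r, hrS, hr1, γ, hγα, hγβ, hrγ⟩ := hR
    refine ⟨?_, Or.inr hrel⟩
    have hrQ : r ∉ Q := fun h => hr1 (CfsgLib.FixityTwo.three_points hfix (hQα _ h) (hQβ _ h) hrγ hαβ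
      (Ne.symm hγα) (Ne.symm hγβ))
    have hrsw := (hswap r hrS).resolve_left hrQ
    have hr2 : r * r = 1 := by
      refine CfsgLib.FixityTwo.three_points hfix ?_ ?_ ?_ hαβ (Ne.symm hγα) (Ne.symm hγβ)
      · rw [mul_smul, hrsw.1, hrsw.2]
      · rw [mul_smul, hrsw.2, hrsw.1]
      · rw [mul_smul, hrγ, hrγ]
    have hro : orderOf r = 2 := orderOf_eq_prime (by rw [pow_two, hr2]) hr1
    have hrinv : r⁻¹ = r := inv_eq_of_mul_eq_one_right hr2
    haveI : Fintype Q := Fintype.ofFinite Q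
    let cr : Equiv.Perm Q :=
      { toFun := fun u => ⟨r * u * r⁻¹, (hSnorm r hrS u).mp u.2⟩
        invFun := fun u => ⟨r * u * r⁻¹, (hSnorm r hrS u).mp u.2⟩
        left_inv := fun u => Subtype.ext (by
          show r * (r * (u : G) * r⁻¹) * r⁻¹ = u
          rw [hrinv]
          calc r * (r * (u : G) * r) * r = (r * r) * u * (r * r) := by group
            _ = u := by rw [hr2, one_mul, mul_one])
        right_inv := fun u => Subtype.ext (by
          show r * (r * (u : G) * r⁻¹) * r⁻¹ = u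
          rw [hrinv]
          calc r * (r * (u : G) * r) * r = (r * r) * u * (r * r) := by group
            _ = u := by rw [hr2, one_mul, mul_one]) }
    have hcr : cr ^ 2 ^ 1 = 1 := by
      rw [pow_one, pow_two]
      ext u
      exact congrArg Subtype.val (cr.left_inv u)
    have hQeven : 2 ∣ Fintype.card Q := by
      rw [← Nat.card_eq_fintype_card]
      obtain ⟨e, he⟩ := IsPGroup.iff_card.mp (S.isPGroup'.to_le hQS)
      have : e ≠ 0 := fun h0 => by rw [h0, pow_zero] at he; omega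
      rw [he]; exact dvd_pow_self 2 this
    obtain ⟨⟨z, hzQ⟩, hzfix, hz1⟩ := Equiv.Perm.exists_fixed_point_of_prime' hQeven hcr
      (a := (1 : Q)) (Subtype.ext (by show r * (1 : G) * r⁻¹ = 1; group))
    have hz1' : z ≠ 1 := fun h => hz1 (Subtype.ext h)
    have hcomm : r * z = z * r := mul_inv_eq_iff_eq_mul.mp (congrArg Subtype.val hzfix : r * z * r⁻¹ = z)
    have hmove : ∀ k ∈ Q, k ≠ 1 → k • γ ≠ γ := fun k hk hk1 h => hk1
      (CfsgLib.FixityTwo.three_points hfix (hQα _ hk) (hQβ _ hk) h hαβ (Ne.symm hγα) (Ne.symm hγβ))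
    have hK : ∀ k ∈ Q, r * k = k * r → k = 1 ∨ k = z := by
      intro k hk hkr
      by_cases hk1 : k = 1
      · exact Or.inl hk1
      right
      have hf : ∀ w, r * w = w * r → r • (w • γ) = w • γ := fun w hw => by
        rw [← mul_smul, hw, mul_smul, hrγ]
      by_contra hkz
      have hne : z • γ ≠ k • γ := by
        intro e
        refine hkz (inv_mul_eq_one.mp ?_).symm
        refine by_contra fun hne => hmove _ (mul_mem (inv_mem hzQ) hk) hne ?_
        rw [mul_smul, ← e, inv_smul_smul]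
      exact hr1 (CfsgLib.FixityTwo.three_points hfix hrγ (hf z hcomm) (hf k hkr)
        (Ne.symm (hmove z hzQ hz1')) (Ne.symm (hmove k hk hk1)) hne)
    have hzz : z * z = 1 := by
      rcases hK (z * z) (mul_mem hzQ hzQ) (by rw [← mul_assoc, hcomm, mul_assoc, hcomm, mul_assoc]) with h | h
      · exact h
      · exact absurd (mul_left_cancel (a := z) (h.trans (mul_one z).symm)) hz1'
    have hzo : orderOf z = 2 := orderOf_eq_prime (by rw [pow_two, hzz]) hz1'
    have hne : r ≠ z := fun h => hrQ (h ▸ hzQ)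
    refine CfsgLib.FixityTwo.two_sub_type hrS (hQS hzQ) hro hzo hne hcomm ?_
    -- the centralizer is `{1, z, r, r z}`
    set C := Sg ⊓ Subgroup.centralizer ({r} : Set G) with hC
    have hCQ : Nat.card (Q.subgroupOf C) = 2 := by
      rw [Nat.card_eq_two_iff]
      have hzC : z ∈ C := ⟨hQS hzQ, Subgroup.mem_centralizer_singleton_iff.mpr hcomm.symm⟩
      refine ⟨⟨⟨1, one_mem C⟩, one_mem Q⟩, ⟨⟨z, hzC⟩, hzQ⟩, fun e => hz1' ?_, ?_⟩
      · exact (congrArg (fun w : Q.subgroupOf C => ((w : C) : G)) e).symm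
      · ext ⟨⟨k, hkC⟩, hkQ⟩
        simp only [Set.mem_univ, iff_true]
        rcases hK k hkQ (Subgroup.mem_centralizer_singleton_iff.mp hkC.2).symm with rfl | rfl
        · exact Or.inl rfl
        · exact Or.inr rfl
    have hCi : (Q.subgroupOf C).index = 2 := by
      rw [Subgroup.index_eq_two_iff]
      have hrC : r ∈ C := ⟨hrS, Subgroup.mem_centralizer_singleton_iff.mpr rfl⟩
      refine ⟨⟨r, hrC⟩, fun ⟨c, hc⟩ => ?_⟩
      simp only [Subgroup.mem_subgroupOf, Subgroup.coe_mul]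
      by_cases hcQ : c ∈ Q
      · exact Or.inr ⟨hcQ, fun h => hrQ (by simpa using Q.mul_mem (inv_mem hcQ) h)⟩
      · refine Or.inl ⟨?_, hcQ⟩
        have h1 := (hswap c hc.1).resolve_left hcQ
        refine ⟨mul_mem hc.1 hrS, ?_⟩
        show (c * r) • α = α
        rw [mul_smul, hrsw.1, h1.2]
    have := (Q.subgroupOf C).card_mul_index
    rw [hCQ, hCi] at this
    omega
  -- all other orbits are regular
  right; left
  push Not at hR
  refine ⟨by omega, ⟨α, ?_, ?_⟩, ?_⟩
  · rw [Nat.card_coe_set_eq, ← MulAction.index_stabilizer]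
    have : MulAction.stabilizer Sg α = Q.subgroupOf Sg := by
      ext ⟨u, hu⟩
      exact ⟨fun h => ⟨hu, h⟩, fun h => h.2⟩
    rw [this]; exact hrel
  · intro ω' hω'
    have hne : ω' ≠ α ∧ ω' ≠ β := by
      constructor
      · rintro rfl; exact hω' (MulAction.mem_orbit_self _)
      · rintro rfl; exact hω' ⟨⟨s, hsS⟩, rfl⟩
    rw [Nat.card_coe_set_eq, ← MulAction.index_stabilizer]
    have : MulAction.stabilizer Sg ω' = ⊥ := by
      rw [eq_bot_iff]
      rintro ⟨u, hu⟩ h
      by_contra hu1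
      exact hR u hu (fun e => hu1 (Subgroup.mem_bot.mpr (Subtype.ext e))) ω' hne.1 hne.2 h
    rw [this, Subgroup.index_bot]
  -- the normal subgroup of index two
  have hfree : ∀ u ∈ Sg, ∀ x, x ≠ α → x ≠ β → u • x = x → u = 1 := by
    intro u hu x hx1 hx2 hx
    by_contra hu1
    exact hR u hu hu1 x hx1 hx2 hx
  have hn : ∃ K, Fintype.card Ω = 2 + K * Nat.card Sg := by
    haveI : Fintype (MulAction.orbitRel.Quotient Sg Ω) := Fintype.ofFinite _
    let ω₀ : MulAction.orbitRel.Quotient Sg Ω := Quotient.mk'' α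
    have h := Nat.card_congr (Equiv.sigmaFiberEquiv (fun x : Ω =>
      (Quotient.mk'' x : MulAction.orbitRel.Quotient Sg Ω))).symm
    rw [Nat.card_sigma, Nat.card_eq_fintype_card (α := Ω), ← Finset.add_sum_erase _ _ (Finset.mem_univ ω₀)] at h
    have hsz : ∀ x : Ω, Nat.card {y // (Quotient.mk'' y : MulAction.orbitRel.Quotient Sg Ω) = Quotient.mk'' x}
        = (MulAction.stabilizer Sg x).index := by
      intro x
      rw [MulAction.index_stabilizer, ← Nat.card_coe_set_eq]
      refine Nat.card_congr (Equiv.subtypeEquivRight fun y => ?_)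
      rw [Quotient.eq'']
      exact MulAction.orbitRel_apply
    have h0 : Nat.card {y // (Quotient.mk'' y : MulAction.orbitRel.Quotient Sg Ω) = ω₀} = 2 := by
      rw [hsz α]
      have : MulAction.stabilizer Sg α = Q.subgroupOf Sg := by
        ext ⟨u, hu⟩
        exact ⟨fun h => ⟨hu, h⟩, fun h => h.2⟩
      rw [this]; exact hrel
    rw [h0] at h
    have hd : Nat.card Sg ∣ ∑ ω ∈ Finset.univ.erase ω₀,
        Nat.card {y // (Quotient.mk'' y : MulAction.orbitRel.Quotient Sg Ω) = ω} := by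
      refine Finset.dvd_sum fun ω hω => ?_
      obtain ⟨x, rfl⟩ := Quotient.exists_rep ω
      have hx : x ≠ α ∧ x ≠ β := by
        constructor
        · rintro rfl; exact (Finset.mem_erase.mp hω).1 rfl
        · rintro rfl
          exact (Finset.mem_erase.mp hω).1 (Quotient.sound' ⟨⟨s, hsS⟩, rfl⟩)
      show Nat.card Sg ∣ Nat.card {y // (Quotient.mk'' y : MulAction.orbitRel.Quotient Sg Ω) = Quotient.mk'' x}
      rw [hsz x]
      have : MulAction.stabilizer Sg x = ⊥ := by
        rw [eq_bot_iff]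
        rintro ⟨u, hu⟩ h
        exact Subgroup.mem_bot.mpr (Subtype.ext (hfree u hu x hx.1 hx.2 h))
      rw [this, Subgroup.index_bot]
    obtain ⟨K, hK⟩ := hd
    exact ⟨K, by rw [h, hK, mul_comm K]⟩
  have heven : 2 ∣ Fintype.card Ω := by
    obtain ⟨K, hK⟩ := hn
    rw [hK, ← hScard]
    exact ⟨1 + K * Nat.card Q, by ring⟩
  have hQeven : 2 ∣ Nat.card Q := by
    obtain ⟨e, he⟩ := IsPGroup.iff_card.mp (S.isPGroup'.to_le hQS)
    have : e ≠ 0 := fun h0 => by rw [h0, pow_zero] at he; omega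
    rw [he]; exact dvd_pow_self 2 this
  obtain ⟨ε, hεQ, c, hcS, hεc⟩ : ∃ ε : G →* ℤˣ, (∀ q ∈ Q, ε q = 1) ∧ ∃ c ∈ Sg, ε c = -1 := by
    by_cases hcyc : ∃ c ∈ Sg, orderOf c = Nat.card Sg
    · obtain ⟨c, hc, hco⟩ := hcyc
      obtain ⟨ε, h1, h2⟩ := CfsgLib.FixityTwo.exists_hom_cyclic S hQS hScard hc hco
      exact ⟨ε, h1, c, hc, h2⟩
    · have hnc : ∀ u ∈ Sg, orderOf u ∣ Nat.card Q := by
        intro u hu
        obtain ⟨e, he⟩ := IsPGroup.iff_card.mp S.isPGroup'
        have hd : orderOf u ∣ 2 ^ e := by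
          rw [← he, ← Subgroup.orderOf_mk u hu]; exact orderOf_dvd_natCard _
        obtain ⟨i, hi, hio⟩ := (Nat.dvd_prime_pow Nat.prime_two).mp hd
        have hie : i ≠ e := fun h => hcyc ⟨u, hu, by rw [hio, h, ← he]⟩
        have h2 : 2 * Nat.card Q = 2 ^ e := hScard.trans he
        have h3 : Nat.card Q = 2 ^ (e - 1) := by
          have : 2 ^ e = 2 * 2 ^ (e - 1) := by rw [← pow_succ']; congr 1; omega
          omega
        rw [hio, h3]; exact pow_dvd_pow 2 (by omega)
      obtain ⟨ε, h1, h2⟩ := CfsgLib.FixityTwo.exists_hom_points hfix S hQS hScard hQeven hαβ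
        (fun q hq => ⟨hQα q hq, hQβ q hq⟩) hsS rfl hsinv.2 hfree hn hnc
      exact ⟨ε, h1, s, hsS, h2⟩
  obtain ⟨N, hN1, hN2, hN3⟩ := CfsgLib.FixityTwo.frobenius_of_hom htr hfix S hQdef hQne hScard
    hαβ hQβ rfl heven ε hεQ hεc hsS hcS
  exact ⟨N, hN1, Or.inl hN2, hN3⟩

end Cfsg.Agent.S3390
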