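import Cfsg.Statements.S3412
import Cfsg.Agent.LThree.Recognise
import Cfsg.Agent.LThree.Count
import Cfsg.Agent.LThree.CommGraph

set_option autoImplicit false
open Cfsg

namespace Cfsg.Agent.S3412

/-- Let H be a finite group whose commuting graph (vertices the non-identity elements, two joined when they commute) is isomorphic to that of PSL_3(3): there is a bijection between the non-identity elements of H and of PSL_3(3) under which two elements commute exactly when their images do. Then H ≅ PSL_3(3). -/
theorem result {H : Type*} [Group H] [Finite H]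
    (f : {h : H // h ≠ 1} ≃ {g : Matrix.ProjectiveSpecialLinearGroup (Fin 3) (ZMod 3) // g ≠ 1})
    (hf : ∀ x y : {h : H // h ≠ 1}, (x : H) * y = y * x ↔ ((f x) : Matrix.ProjectiveSpecialLinearGroup (Fin 3) (ZMod 3)) * (f y) = (f y) * (f x)) :
    Nonempty (H ≃* Matrix.ProjectiveSpecialLinearGroup (Fin 3) (ZMod 3)) := by
  obtain ⟨hcount, hC⟩ : Nat.card {h : H // orderOf h = 13} =
      Nat.card {g : Matrix.ProjectiveSpecialLinearGroup (Fin 3) (ZMod 3) // orderOf g = 13} ∧
      ∀ z : H, orderOf z = 13 → Subgroup.centralizer ({z} : Set H) = Subgroup.zpowers z := by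
    haveI := CfsgLib.LThree.isSimple_psl
    haveI : Fact (Nat.Prime 13) := ⟨by norm_num⟩
    exact CfsgLib.CommGraph.orderOf_data f hf fun x hx => CfsgLib.LThree.cent_thirteen CfsgLib.LThree.card_psl hx
  have hcard : Nat.card H = 5616 := by
    classical
    haveI := Fintype.ofFinite H
    haveI := Fintype.ofFinite (Matrix.ProjectiveSpecialLinearGroup (Fin 3) (ZMod 3))
    have h := Fintype.card_congr f
    rw [Fintype.card_subtype_compl, Fintype.card_subtype_eq, Fintype.card_subtype_compl, Fintype.card_subtype_eq,
      ← Nat.card_eq_fintype_card, ← Nat.card_eq_fintype_card, CfsgLib.LThree.card_psl] at h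
    have := Nat.card_pos (α := H)
    omega
  haveI : Fact (Nat.Prime 13) := ⟨by norm_num⟩
  have hP : ∀ (L : Type) [Group L] [Finite L], Nat.card L = 5616 → ∀ P : Sylow 13 L, Nat.card P = 13 :=
    fun L _ _ hL P => by
    rw [CfsgLib.SmallOrd.sylow_card (k := 1) (m := 432) (by rw [hL]; norm_num) (by norm_num) P, pow_one]
  have h144 : Nat.card (Sylow 13 H) = 144 := by
    have hK : Nat.card {g : Matrix.ProjectiveSpecialLinearGroup (Fin 3) (ZMod 3) // orderOf g = 13} = 144 * 12 := by
      haveI := CfsgLib.LThree.isSimple_psl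
      obtain ⟨P⟩ : Nonempty (Sylow 13 (Matrix.ProjectiveSpecialLinearGroup (Fin 3) (ZMod 3))) := inferInstance
      have h := CfsgLib.MEleven.sylow_count_mul P
      rw [(CfsgLib.LThree.thirteen CfsgLib.LThree.card_psl P).2.2, CfsgLib.LThree.card_psl] at h
      rw [CfsgLib.MEleven.card_orderOf (hP _ CfsgLib.LThree.card_psl),
        show Nat.card (Sylow 13 (Matrix.ProjectiveSpecialLinearGroup (Fin 3) (ZMod 3))) = 144 by omega]
    rw [CfsgLib.MEleven.card_orderOf (fun P => by
      rw [CfsgLib.SmallOrd.sylow_card (k := 1) (m := 432) (by rw [hcard]; norm_num) (by norm_num) P, pow_one]),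
      hK] at hcount
    omega
  haveI := CfsgLib.LThree.isSimple_of_count hcard hC h144
  exact CfsgLib.LThree.iso_psl hcard

end Cfsg.Agent.S3412
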