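import Cfsg.Statements.S3413
import Cfsg.Agent.MEleven.Nse
-- import your own Cfsg.Agent.* helpers here

set_option autoImplicit false
open Cfsg

namespace Cfsg.Agent.S3413
open CfsgLib CfsgLib.MEleven CfsgLib.SmallOrd

theorem count_orderOf {H : Type*} [Group H] [Finite H] {K : Type*} [Group K] [Finite K] [IsSimpleGroup K]
    (f : {h : H // h ≠ 1} ≃ {g : K // g ≠ 1})
    (hf : ∀ x y : {h : H // h ≠ 1}, (x : H) * y = y * x ↔ ((f x) : K) * (f y) = (f y) * (f x))
    {p : ℕ} [hp : Fact p.Prime] (hC : ∀ x : K, orderOf x = p → Subgroup.centralizer ({x} : Set K) = Subgroup.zpowers x) :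
    Nat.card {h : H // orderOf h = p} = Nat.card {g : K // orderOf g = p} := by
  classical
  have hcard : ∀ x : {h : H // h ≠ 1}, Nat.card (Subgroup.centralizer ({(x : H)} : Set H)) =
      Nat.card (Subgroup.centralizer ({((f x) : K)} : Set K)) := by
    intro x
    refine Nat.card_congr (Equiv.ofBijective (fun z => ⟨if h : (z : H) = 1 then 1 else ((f ⟨z, h⟩) : K), ?_⟩) ⟨?_, ?_⟩)
    · rw [Subgroup.mem_centralizer_singleton_iff]
      split_ifs with h
      · rw [one_mul, mul_one]
      · exact (hf ⟨z, h⟩ x).1 (Subgroup.mem_centralizer_singleton_iff.1 z.2)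
    · intro a b hab
      have e := congrArg Subtype.val hab
      simp only at e
      refine Subtype.ext ?_
      split_ifs at e with ha hb hb
      · rw [ha, hb]
      · exact absurd e.symm (f ⟨b, hb⟩).2
      · exact absurd e (f ⟨a, ha⟩).2
      · exact congrArg (fun z : {h : H // h ≠ 1} => (z : H)) (f.injective (Subtype.ext e))
    · rintro ⟨g, hg⟩
      by_cases h : g = 1
      · exact ⟨1, Subtype.ext (by simp [h])⟩
      · refine ⟨⟨(f.symm ⟨g, h⟩).1, ?_⟩, Subtype.ext ?_⟩
        · rw [Subgroup.mem_centralizer_singleton_iff]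
          exact (hf _ x).2 (by rw [Equiv.apply_symm_apply]; exact Subgroup.mem_centralizer_singleton_iff.1 hg)
        · simp only
          rw [dif_neg (f.symm ⟨g, h⟩).2, Equiv.apply_symm_apply]
  have hne : ∀ {z : H}, orderOf z = p → z ≠ 1 := fun hz e => hp.out.ne_one (by rw [← hz, e, orderOf_one])
  have hne' : ∀ {z : K}, orderOf z = p → z ≠ 1 := fun hz e => hp.out.ne_one (by rw [← hz, e, orderOf_one])
  have key : ∀ x : {h : H // h ≠ 1}, orderOf (x : H) = p ↔ orderOf ((f x) : K) = p := by
    intro x
    constructor
    · intro hx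
      have hd : p ∣ Nat.card (Subgroup.centralizer ({((f x) : K)} : Set K)) := by
        rw [← hcard x, ← hx, ← Nat.card_zpowers]
        exact Subgroup.card_dvd_of_le (Subgroup.zpowers_le.2 (mem_cent_self _))
      exact order_eq_of_dvd hp.out hC (not_not.1 fun h => not_dvd_cent hp.out hC (f x).2 h hd)
    · intro hx
      have h := hcard x
      rw [hC _ hx, Nat.card_zpowers, hx] at h
      have hd := orderOf_dvd_natCard (⟨x, mem_cent_self _⟩ : Subgroup.centralizer ({(x : H)} : Set H))
      rw [h, Subgroup.orderOf_mk] at hd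
      exact ((Nat.dvd_prime hp.out).1 hd).resolve_left fun e => x.2 (orderOf_eq_one_iff.1 e)
  exact Nat.card_congr
    { toFun := fun h => ⟨f ⟨h.1, hne h.2⟩, (key _).1 h.2⟩
      invFun := fun g => ⟨f.symm ⟨g.1, hne' g.2⟩, (key _).2 (by rw [Equiv.apply_symm_apply]; exact g.2)⟩
      left_inv := fun h => Subtype.ext (by simp)
      right_inv := fun g => Subtype.ext (by simp) }


/-- Let H be a finite group whose commuting graph (vertices the non-identity elements, two joined when they commute) is isomorphic to that of the Mathieu group M_11: there is a bijection between the non-identity elements of H and of M_11 under which two elements commute exactly when their images do. Then H ≅ M_11. -/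
theorem result {H : Type*} [Group H] [Finite H]
    (f : {h : H // h ≠ 1} ≃ {g : ↥Cfsg.Spor.M11 // g ≠ 1})
    (hf : ∀ x y : {h : H // h ≠ 1}, (x : H) * y = y * x ↔ ((f x) : ↥Cfsg.Spor.M11) * (f y) = (f y) * (f x)) :
    Nonempty (H ≃* ↥Cfsg.Spor.M11) := by
  haveI := isM11_spor.1
  have hcard : Nat.card H = 7920 := by
    classical
    haveI := Fintype.ofFinite H
    haveI := Fintype.ofFinite (↥Cfsg.Spor.M11)
    have h := Fintype.card_congr f
    rw [Fintype.card_subtype_compl, Fintype.card_subtype_eq, Fintype.card_subtype_compl, Fintype.card_subtype_eq,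
      ← Nat.card_eq_fintype_card, ← Nat.card_eq_fintype_card, isM11_spor.2] at h
    have := Nat.card_pos (α := H)
    omega
  haveI : Fact (Nat.Prime 5) := ⟨by norm_num⟩
  haveI : Fact (Nat.Prime 11) := ⟨by norm_num⟩
  haveI : IsSimpleGroup H := by
    refine isSimple_of_counts hcard ?_ ?_
    · have h := (count_orderOf f hf fun x hx => cent_five isM11_spor.2 hx).trans (count_five isM11_spor.2)
      rw [card_orderOf (card_sylow_five hcard)] at h
      omega
    · have h := (count_orderOf f hf fun x hx => cent_eleven isM11_spor.2 hx).trans (count_eleven isM11_spor.2)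
      rw [card_orderOf (card_sylow_eleven hcard)] at h
      omega
  exact iso_spor hcard

end Cfsg.Agent.S3413
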