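import Cfsg.Statements.S3497
import Cfsg.Agent.Extremely.Suborbit
import Cfsg.Agent.Components.Cores

set_option autoImplicit false
open Cfsg

namespace Cfsg.Agent.S3497

/-- Restrictions on the point stabilizer of an extremely primitive group. Let a finite group G act faithfully and primitively on a finite set Ω with point stabilizers H = G_α whose order is neither 1 nor a prime, each acting primitively on every one of its orbits. Then H has trivial center, the Fitting subgroup F(H) is an elementary abelian p-group for some prime p, and if F(H) ≠ 1 has order p ^ e then p ^ e divides the number of points minus one and H / F(H) embeds in GL_e(p) (there is a homomorphism from H to GL_e(p) with kernel exactly F(H)). -/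
theorem result {G : Type*} [Group G] [Finite G] {Ω : Type*} [Fintype Ω] [MulAction G Ω] [FaithfulSMul G Ω] (hprim : MulAction.IsPreprimitive G Ω) (hep : ∀ (α : Ω) (ω : Ω), MulAction.IsPreprimitive (MulAction.stabilizer G α) (MulAction.orbit (MulAction.stabilizer G α) ω)) (α : Ω)
    (hH1 : MulAction.stabilizer G α ≠ ⊥) (hHp : ¬ (Nat.card (MulAction.stabilizer G α)).Prime) :
    Subgroup.center (MulAction.stabilizer G α) = ⊥ ∧
    IsMulCommutative (Cfsg.fittingSubgroup (MulAction.stabilizer G α)) ∧
    ∃ p e : ℕ, p.Prime ∧ Nat.card (Cfsg.fittingSubgroup (MulAction.stabilizer G α)) = p ^ e ∧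
      (∀ x ∈ Cfsg.fittingSubgroup (MulAction.stabilizer G α), x ^ p = 1) ∧
      (Cfsg.fittingSubgroup (MulAction.stabilizer G α) ≠ ⊥ →
        p ^ e ∣ Fintype.card Ω - 1 ∧
        ∃ φ : MulAction.stabilizer G α →* GL (Fin e) (ZMod p), φ.ker = Cfsg.fittingSubgroup (MulAction.stabilizer G α)) := by
  classical
  set H := MulAction.stabilizer G α with hHdef
  obtain ⟨ω, hω⟩ := CfsgLib.Extremely.exists_ne_point (Ω := Ω) hH1
  have habel : ∀ A : Subgroup H, A.Normal → A ≠ ⊥ → (∀ a ∈ A, ∀ b ∈ A, a * b = b * a) →
      Subgroup.centralizer (A : Set H) ≤ A := fun A hn hne hab => by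
    haveI := hn
    exact (CfsgLib.Extremely.abelian_normal hprim hep hω A hne hab).2
  have hZ : Subgroup.center H = ⊥ := by
    by_contra hne
    have hZab : ∀ a ∈ Subgroup.center H, ∀ b ∈ Subgroup.center H, a * b = b * a := fun a _ b hb =>
      Subgroup.mem_center_iff.1 hb a
    have htop : Subgroup.center H = ⊤ := eq_top_iff.2 fun x _ => habel _ inferInstance hne hZab
      (Subgroup.mem_centralizer_iff.2 fun z hz => (Subgroup.mem_center_iff.1 hz x).symm)
    obtain ⟨q, e, hq, hcard, -⟩ := CfsgLib.Extremely.exponent_prime hprim hep hω _ hne hZab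
    haveI : Fact q.Prime := ⟨hq⟩
    haveI : Nontrivial (Subgroup.center H) := (Subgroup.nontrivial_iff_ne_bot _).2 hne
    obtain ⟨z, hz⟩ := exists_prime_orderOf_dvd_card' (G := Subgroup.center H) q (by
      rw [hcard]; refine dvd_pow_self q fun h => ?_
      have := Finite.one_lt_card (α := Subgroup.center H)
      rw [hcard, h, pow_zero] at this; omega)
    haveI : (Subgroup.zpowers (z : H)).Normal := ⟨fun a ha g => by
      have hg : g ∈ Subgroup.center H := htop ▸ Subgroup.mem_top g
      rw [← Subgroup.mem_center_iff.1 hg a, mul_inv_cancel_right]; exact ha⟩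
    have hne' : Subgroup.zpowers (z : H) ≠ ⊥ := by
      rw [Ne, Subgroup.zpowers_eq_bot]
      intro h
      rw [← Subgroup.orderOf_coe, h, orderOf_one] at hz
      exact hq.ne_one hz.symm
    have heq := CfsgLib.Extremely.minimal_of_abelian hprim hep hω _ hne hZab _ hne'
      (Subgroup.zpowers_le.2 z.2)
    apply hHp
    rw [← Subgroup.card_top, ← htop, ← heq, Nat.card_zpowers, Subgroup.orderOf_coe, hz]
    exact hq
  refine ⟨hZ, ?_⟩
  by_cases hF : Cfsg.fittingSubgroup H = ⊥
  · refine ⟨⟨⟨fun a b => Subtype.ext ?_⟩⟩, 2, 0, Nat.prime_two, ?_, ?_, fun h => absurd hF h⟩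
    · rw [Subgroup.coe_mul, Subgroup.coe_mul, Subgroup.mem_bot.1 (hF ▸ a.2 : (a : H) ∈ (⊥ : Subgroup H)),
        one_mul, mul_one]
    · rw [hF, Subgroup.card_bot, pow_zero]
    · intro x hx
      rw [hF, Subgroup.mem_bot] at hx
      rw [hx, one_pow]
  set F := Cfsg.fittingSubgroup H with hFdef
  haveI hFn : F.Normal := CfsgLib.Components.fittingSubgroup_normal
  haveI : Group.IsNilpotent F := CfsgLib.Components.fittingSubgroup_isNilpotent
  haveI : Nontrivial F := (Subgroup.nontrivial_iff_ne_bot _).2 hF
  let A : Subgroup H := (Subgroup.center F).map F.subtype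
  haveI : A.Normal := inferInstance
  have hAne : A ≠ ⊥ := fun h =>
    (Group.IsNilpotent.center_ne_bot F) ((Subgroup.map_eq_bot_iff_of_injective _ F.subtype_injective).1 h)
  have hAab : ∀ a ∈ A, ∀ b ∈ A, a * b = b * a := by
    rintro _ ⟨a, _, rfl⟩ _ ⟨b, hb, rfl⟩
    exact congrArg Subtype.val (Subgroup.mem_center_iff.1 hb a)
  have hFA : F ≤ A := fun f hf => habel A inferInstance hAne hAab
    (Subgroup.mem_centralizer_iff.2 fun a ha => by
      obtain ⟨a', ha', rfl⟩ := ha
      exact (congrArg Subtype.val (Subgroup.mem_center_iff.1 ha' ⟨f, hf⟩)).symm)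
  have hFab : ∀ a ∈ F, ∀ b ∈ F, a * b = b * a := fun a ha b hb => hAab a (hFA ha) b (hFA hb)
  refine ⟨⟨⟨fun a b => Subtype.ext (hFab a a.2 b b.2)⟩⟩, ?_⟩
  obtain ⟨q, e, hq, hcard, hexp⟩ := CfsgLib.Extremely.exponent_prime hprim hep hω F hF hFab
  refine ⟨q, e, hq, hcard, hexp, fun _ => ⟨?_, ?_⟩⟩
  · rw [← hcard, ← Nat.card_eq_fintype_card]
    exact CfsgLib.Extremely.dvd_card_sub_one hprim hep F hF hFab
  · haveI : Fact q.Prime := ⟨hq⟩
    letI : CommGroup F := { (inferInstance : Group F) with mul_comm := fun a b => Subtype.ext (hFab a a.2 b b.2) }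
    haveI : Finite (Additive F) := inferInstanceAs (Finite F)
    have hzero : ∀ x : Additive F, q • x = 0 := fun x => by
      rw [← ofMul_toMul x, ← ofMul_pow]
      exact congrArg Additive.ofMul (Subtype.ext (hexp _ x.toMul.2))
    let ρ : H →* AddMonoid.End (Additive F) :=
      { toFun := fun h => MonoidHom.toAdditive (MulAut.conjNormal h : F ≃* F).toMonoidHom
        map_one' := by
          refine AddMonoidHom.ext fun x => ?_
          show Additive.ofMul ((MulAut.conjNormal (1 : H) : F ≃* F) x.toMul) = x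
          rw [map_one]; rfl
        map_mul' := fun g h => by
          refine AddMonoidHom.ext fun x => ?_
          show Additive.ofMul ((MulAut.conjNormal (g * h) : F ≃* F) x.toMul) =
            Additive.ofMul ((MulAut.conjNormal g : F ≃* F) ((MulAut.conjNormal h : F ≃* F) x.toMul))
          rw [map_mul]; rfl }
    obtain ⟨φ, hφ⟩ := @CfsgLib.Extremely.exists_hom_GL H (Additive F) _ _ _ q e _
      (AddCommGroup.zmodModule hzero) ((Nat.card_congr Additive.toMul).trans hcard) ρ
    refine ⟨φ, ?_⟩
    ext h
    rw [MonoidHom.mem_ker, hφ]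
    constructor
    · intro h1
      refine habel F hFn hF hFab (Subgroup.mem_centralizer_iff.2 fun f hf => ?_)
      have := congrArg Subtype.val (congrArg Additive.toMul (h1 (Additive.ofMul ⟨f, hf⟩)))
      change h * f * h⁻¹ = f at this
      rw [mul_inv_eq_iff_eq_mul] at this
      exact this.symm
    · intro hh x
      refine congrArg Additive.ofMul (Subtype.ext ?_)
      show h * (x.toMul : H) * h⁻¹ = (x.toMul : H)
      rw [hFab h hh _ x.toMul.2, mul_inv_cancel_right]

end Cfsg.Agent.S3497
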