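import Cfsg.Statements.S3501
import Cfsg.Agent.TwoClasses.Count

set_option autoImplicit false
open Cfsg

namespace Cfsg.Agent.S3501

/-- Let a finite group G act faithfully and primitively on a finite set Ω with at least two points, and suppose G is not almost simple (it has no non-abelian simple normal subgroup with trivial centralizer). Then the derangements of G form a single conjugacy class if and only if G is sharply 2-transitive (2-transitive, and no non-identity element fixes two points). -/
theorem result {G : Type*} [Group G] [Finite G] {Ω : Type*} [Fintype Ω] [MulAction G Ω] [FaithfulSMul G Ω] (hΩ : 2 ≤ Fintype.card Ω) (hprim : MulAction.IsPreprimitive G Ω) (hnas : ¬ ∃ T : Subgroup G, T.Normal ∧ IsSimpleGroup T ∧ ¬ IsMulCommutative T ∧ Subgroup.centralizer (T : Set G) = ⊥) :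
    Nat.card {c : ConjClasses G // ∃ g : G, ConjClasses.mk g = c ∧ ∀ ω : Ω, g • ω ≠ ω} = 1 ↔ (MulAction.IsMultiplyPretransitive G Ω 2 ∧ ∀ g : G, g ≠ 1 → ∀ a b : Ω, a ≠ b → g • a = a → g • b ≠ b) := by
  classical
  haveI : Nontrivial Ω := Fintype.one_lt_card_iff_nontrivial.1 (by omega)
  haveI : MulAction.IsPretransitive G Ω := hprim.toIsPretransitive
  haveI := hprim
  have hnorm : ∀ N : Subgroup G, N.Normal → N ≠ ⊥ → MulAction.IsPretransitive N Ω := by
    intro N hN hne
    haveI := hN
    refine MulAction.IsQuasiPreprimitive.isPretransitive_of_normal (G := G) fun hfix => hne ?_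
    rw [Subgroup.eq_bot_iff_forall]
    intro n hn
    refine FaithfulSMul.eq_of_smul_eq_smul (α := Ω) fun x => ?_
    rw [one_smul]
    exact (hfix ▸ Set.mem_univ x : x ∈ MulAction.fixedPoints N Ω) ⟨n, hn⟩
  constructor
  · intro hκ
    obtain ⟨N, hNn, hNne, hNc, hNt, hNreg⟩ := CfsgLib.TwoClasses.affine hnorm hnas (by omega)
    have A : CfsgLib.TwoClasses.Affine (Ω := Ω) N := ⟨hNn, hNne, hNc, hNt, hNreg⟩
    have hsub : ∀ a b : G, (∀ ω : Ω, a • ω ≠ ω) → (∀ ω : Ω, b • ω ≠ ω) → IsConj a b := by
      intro a b ha hb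
      have := (Nat.card_eq_one_iff_unique.1 hκ).1
      exact ConjClasses.mk_eq_mk_iff_isConj.1 (congrArg Subtype.val (Subsingleton.elim
        (⟨_, a, rfl, ha⟩ : {c : ConjClasses G // ∃ g : G, ConjClasses.mk g = c ∧ ∀ ω : Ω, g • ω ≠ ω})
        ⟨_, b, rfl, hb⟩))
    refine ⟨A.two_transitive fun a ha b hb ha1 hb1 => hsub a b (A.der ha ha1) (A.der hb hb1), ?_⟩
    obtain ⟨n, hn, hn1⟩ := N.bot_or_exists_ne_one.resolve_left hNne
    have hDN : ∀ g : G, (∀ ω : Ω, g • ω ≠ ω) → g ∈ N := by
      intro g hg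
      obtain ⟨k, hk⟩ := isConj_iff.1 (hsub n g (A.der hn hn1) hg)
      exact hk ▸ hNn.conj_mem n hn k
    obtain ⟨-, hout⟩ := CfsgLib.Derange.main N hDN
    intro g hg a b hab ha hb
    by_cases hgN : g ∈ N
    · exact A.der hgN hg a ha
    · obtain ⟨h1, -⟩ := Nat.card_eq_one_iff_unique.1 (hout g hgN)
      exact hab (congrArg Subtype.val (Subsingleton.elim
        (⟨a, ha⟩ : MulAction.fixedBy Ω g) ⟨b, hb⟩))
  · rintro ⟨h2t, hsharp⟩
    have hle : ∀ g : G, g ≠ 1 → Nat.card (MulAction.fixedBy Ω g) ≤ 1 := fun g hg => by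
      rw [Finite.card_le_one_iff_subsingleton]
      exact ⟨fun x y => Subtype.ext (by_contra fun hne => hsharp g hg x y hne x.2 y.2)⟩
    obtain ⟨d, hd⟩ := CfsgLib.TwoClasses.exists_derangement (X := G) (Ω := Ω)
    rw [Nat.card_eq_one_iff_unique]
    refine ⟨⟨?_⟩, ⟨⟨_, d, rfl, hd⟩⟩⟩
    suffices hall : ∀ g : G, (∀ ω : Ω, g • ω ≠ ω) → IsConj d g by
      rintro ⟨_, g, rfl, hg⟩ ⟨_, g', rfl, hg'⟩
      exact Subtype.ext (ConjClasses.mk_eq_mk_iff_isConj.2 ((hall g hg).symm.trans (hall g' hg')))
    obtain ⟨α, β, hαβ⟩ := exists_pair_ne Ω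
    -- the centraliser of a derangement is semiregular
    have hC : Nat.card (Subgroup.centralizer ({d} : Set G)) ≤ Nat.card Ω := by
      refine Nat.card_le_card_of_injective (fun c => (c : G) • α) ?_
      intro c c' h
      refine Subtype.ext (by_contra fun hne => ?_)
      set l : G := (c' : G)⁻¹ * c with hl
      have hlα : l • α = α := by
        have h' : (c : G) • α = (c' : G) • α := h
        rw [hl, mul_smul, h', inv_smul_smul]
      have hld : l * d = d * l := Subgroup.mem_centralizer_singleton_iff.1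
        ((Subgroup.centralizer ({d} : Set G)).mul_mem (inv_mem c'.2) c.2)
      exact hsharp l (fun e => hne (inv_mul_eq_one.1 e).symm) α (d • α) (hd α).symm hlα
        (by rw [← mul_smul, hld, mul_smul, hlα])
    have hcount := CfsgLib.TwoClasses.card_derangements hle
    -- 2-transitivity gives the order
    have hG : Nat.card G = Nat.card Ω * (Nat.card Ω - 1) := by
      have h2 : MulAction.IsMultiplyPretransitive G Ω 2 := by assumption
      have e : Fin 2 ↪ Ω := ⟨![α, β], fun i j => by fin_cases i <;> fin_cases j <;> simp [hαβ, hαβ.symm]⟩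
      haveI : MulAction.IsPretransitive G (Fin 2 ↪ Ω) := h2
      have hs : MulAction.stabilizer G e = ⊥ := by
        rw [Subgroup.eq_bot_iff_forall]
        intro g hg
        by_contra hne
        have h' : ∀ i, g • e i = e i := fun i => congrArg (fun f : Fin 2 ↪ Ω => f i) hg
        exact hsharp g hne (e 0) (e 1) (fun h => absurd (e.injective h) (by decide)) (h' 0) (h' 1)
      have := MulAction.index_stabilizer_of_transitive G e
      rw [hs, Subgroup.index_bot] at this
      rw [this]
      have := Fintype.ofFinite (Fin 2 ↪ Ω)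
      rw [Nat.card_eq_fintype_card, Fintype.card_embedding_eq, Fintype.card_fin,
        Nat.card_eq_fintype_card, Nat.descFactorial_succ, Nat.descFactorial_one, mul_comm]
    intro g hg
    by_contra hne
    let f : ConjAct G → {g : G // ∀ ω : Ω, g • ω ≠ ω} := fun k =>
      ⟨k • d, fun ω hω => hd ((ConjAct.ofConjAct k)⁻¹ • ω) (by
        rw [ConjAct.smul_def, mul_smul, mul_smul] at hω
        exact eq_inv_smul_iff.2 hω)⟩
    have horb : Nat.card (MulAction.orbit (ConjAct G) d) < Nat.card {g : G // ∀ ω : Ω, g • ω ≠ ω} := by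
      let i : MulAction.orbit (ConjAct G) d → {g : G // ∀ ω : Ω, g • ω ≠ ω} := fun x =>
        ⟨x.1, by obtain ⟨k, hk⟩ := x.2; exact hk ▸ (f k).2⟩
      have := Fintype.ofFinite (MulAction.orbit (ConjAct G) d)
      have := Fintype.ofFinite {g : G // ∀ ω : Ω, g • ω ≠ ω}
      rw [Nat.card_eq_fintype_card, Nat.card_eq_fintype_card]
      refine Fintype.card_lt_of_injective_of_notMem i
        (fun x y h => Subtype.ext (congrArg (fun z => z.1) h : _)) (b := ⟨g, hg⟩) ?_
      rintro ⟨⟨x, hx⟩, h⟩
      have hxg : x = g := congrArg Subtype.val h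
      subst hxg
      exact hne (ConjAct.mem_orbit_conjAct.1 hx).symm
    have hoc := MulAction.index_stabilizer (ConjAct G) d
    rw [ConjAct.stabilizer_eq_centralizer, ← Nat.card_coe_set_eq] at hoc
    have h3 := (Subgroup.centralizer ({d} : Set G)).card_mul_index
    have h4 : (Subgroup.centralizer ({d} : Set G)).index = Nat.card (MulAction.orbit (ConjAct G) d) := hoc
    rw [h4, hG] at h3
    have h5 : Nat.card (Subgroup.centralizer ({d} : Set G)) * Nat.card (MulAction.orbit (ConjAct G) d) <
        Nat.card Ω * (Nat.card Ω - 1) := by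
      refine lt_of_le_of_lt (Nat.mul_le_mul_right _ hC) ?_
      have : 0 < Nat.card Ω := Nat.card_pos
      exact Nat.mul_lt_mul_of_pos_left (by omega) this
    omega

end Cfsg.Agent.S3501
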