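import Cfsg.Statements.S3520
import Cfsg.Agent.TwoClasses.Count

set_option autoImplicit false
open Cfsg

namespace Cfsg.Agent.S3520

/-- Let a finite group G act faithfully and primitively on a finite set Ω with at least two points, suppose G is not almost simple (no non-abelian simple normal subgroup with trivial centralizer), and suppose the derangements of G form exactly two conjugacy classes. Then either Ω has 3 points and G has order 3; or G has a non-trivial abelian normal subgroup N acting regularly, every non-identity element of G fixes at most one point (so, when n > 3, G is a Frobenius group with kernel N), the number n of points is odd and a point stabilizer has order (n − 1)/2; or G is 2-transitive with a non-trivial abelian regular normal subgroup and some non-identity element fixes at least two points (a non-Frobenius 2-transitive affine group). -/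
theorem result {G : Type*} [Group G] [Finite G] {Ω : Type*} [Fintype Ω] [MulAction G Ω] [FaithfulSMul G Ω] (hΩ : 2 ≤ Fintype.card Ω) (hprim : MulAction.IsPreprimitive G Ω) (hnas : ¬ ∃ T : Subgroup G, T.Normal ∧ IsSimpleGroup T ∧ ¬ IsMulCommutative T ∧ Subgroup.centralizer (T : Set G) = ⊥)
    (hκ : Nat.card {c : ConjClasses G // ∃ g : G, ConjClasses.mk g = c ∧ ∀ ω : Ω, g • ω ≠ ω} = 2) (α : Ω) :
    (Fintype.card Ω = 3 ∧ Nat.card G = 3) ∨
    ((∃ N : Subgroup G, N.Normal ∧ N ≠ ⊥ ∧ IsMulCommutative N ∧ ∀ ω : Ω, MulAction.stabilizer N ω = ⊥) ∧ (∀ g : G, g ≠ 1 → Nat.card (MulAction.fixedBy Ω g) ≤ 1) ∧ ¬ 2 ∣ Fintype.card Ω ∧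
        2 * Nat.card (MulAction.stabilizer G α) = Fintype.card Ω - 1) ∨
    ((∃ N : Subgroup G, N.Normal ∧ N ≠ ⊥ ∧ IsMulCommutative N ∧ ∀ ω : Ω, MulAction.stabilizer N ω = ⊥) ∧ MulAction.IsMultiplyPretransitive G Ω 2 ∧ ∃ g : G, g ≠ 1 ∧ 2 ≤ Nat.card (MulAction.fixedBy Ω g)) := by
  classical
  haveI : Nontrivial Ω := Fintype.one_lt_card_iff_nontrivial.1 (by omega)
  haveI : MulAction.IsPretransitive G Ω := hprim.toIsPretransitive
  haveI := hprim
  have hnorm : ∀ N : Subgroup G, N.Normal → N ≠ ⊥ → MulAction.IsPretransitive N Ω := by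
    intro N hN hne
    haveI := hN
    refine MulAction.IsQuasiPreprimitive.isPretransitive_of_normal (G := G) fun hfix => hne ?_
    rw [Subgroup.eq_bot_iff_forall]
    intro n hn
    refine FaithfulSMul.eq_of_smul_eq_smul (α := Ω) fun x => ?_
    rw [one_smul]
    exact (hfix ▸ Set.mem_univ x : x ∈ MulAction.fixedPoints N Ω) ⟨n, hn⟩
  right
  obtain ⟨N, hNn, hNne, hNc, hNt, hNreg⟩ := CfsgLib.TwoClasses.affine hnorm hnas hκ.le
  have A : CfsgLib.TwoClasses.Affine (Ω := Ω) N := ⟨hNn, hNne, hNc, hNt, hNreg⟩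
  have hex : ∃ N : Subgroup G, N.Normal ∧ N ≠ ⊥ ∧ IsMulCommutative N ∧
      ∀ ω : Ω, MulAction.stabilizer N ω = ⊥ := ⟨N, hNn, hNne, hNc, hNreg⟩
  by_cases hone : ∀ a ∈ N, ∀ b ∈ N, a ≠ 1 → b ≠ 1 → IsConj a b
  · right
    refine ⟨hex, A.two_transitive hone, ?_⟩
    by_contra hfix
    push_neg at hfix
    have hle : ∀ g : G, g ≠ 1 → Nat.card (MulAction.fixedBy Ω g) ≤ 1 := fun g hg =>
      Nat.lt_succ_iff.1 (hfix g hg)
    have hcard := CfsgLib.TwoClasses.card_derangements hle
    have hDN : ∀ g : G, (∀ ω : Ω, g • ω ≠ ω) → g ∈ N ∧ g ≠ 1 := by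
      let f : {n : N // n ≠ 1} → {g : G // ∀ ω : Ω, g • ω ≠ ω} :=
        fun n => ⟨n.1.1, A.der n.1.2 fun e => n.2 (Subtype.ext e)⟩
      have hf : Function.Injective f := fun a b h =>
        Subtype.ext (Subtype.ext (congrArg Subtype.val h : _))
      have hbij : Function.Bijective f := (Nat.bijective_iff_injective_and_card f).2 ⟨hf, by
        have h1 : Nat.card {n : N // n ≠ 1} + 1 = Nat.card N := by
          have := Fintype.ofFinite N
          rw [Nat.card_eq_fintype_card, Nat.card_eq_fintype_card, Fintype.card_subtype_compl,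
            Fintype.card_subtype_eq, Nat.sub_add_cancel Fintype.card_pos]
        rw [A.card_eq α] at h1
        omega⟩
      intro g hg
      obtain ⟨n, hn⟩ := hbij.2 ⟨g, hg⟩
      rw [← show n.1.1 = g from congrArg Subtype.val hn]
      exact ⟨n.1.2, fun e => n.2 (Subtype.ext e)⟩
    have : Nat.card {c : ConjClasses G // ∃ g : G, ConjClasses.mk g = c ∧ ∀ ω : Ω, g • ω ≠ ω} ≤ 1 := by
      rw [Finite.card_le_one_iff_subsingleton]
      refine ⟨?_⟩
      rintro ⟨_, g, rfl, hg⟩ ⟨_, g', rfl, hg'⟩
      obtain ⟨h1, h2⟩ := hDN g hg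
      obtain ⟨h1', h2'⟩ := hDN g' hg'
      exact Subtype.ext (ConjClasses.mk_eq_mk_iff_isConj.2 (hone g h1 g' h1' h2 h2'))
    omega
  · left
    push_neg at hone
    obtain ⟨a, ha, b, hb, ha1, hb1, hab⟩ := hone
    have hall : ∀ g : G, (∀ ω : Ω, g • ω ≠ ω) → IsConj a g ∨ IsConj b g := by
      intro g hg
      by_contra h
      push_neg at h
      exact CfsgLib.TwoClasses.two_classes hκ.le (A.der ha ha1) (A.der hb hb1) hg hab h.1 h.2
    have hDN : ∀ g : G, (∀ ω : Ω, g • ω ≠ ω) → g ∈ N := by
      intro g hg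
      rcases hall g hg with h | h <;> obtain ⟨k, hk⟩ := isConj_iff.1 h
      · exact hk ▸ hNn.conj_mem a ha k
      · exact hk ▸ hNn.conj_mem b hb k
    obtain ⟨-, hout⟩ := CfsgLib.Derange.main N hDN
    have hfix : ∀ g : G, g ≠ 1 → Nat.card (MulAction.fixedBy Ω g) ≤ 1 := by
      intro g hg
      by_cases hgN : g ∈ N
      · haveI : IsEmpty (MulAction.fixedBy Ω g) := ⟨fun x => A.der hgN hg x.1 x.2⟩
        rw [Nat.card_of_isEmpty]; omega
      · exact (hout g hgN).le
    have hcard : Fintype.card Ω = 2 * Nat.card (MulAction.stabilizer G α) + 1 := by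
      let H := MulAction.stabilizer G α
      let f : H ⊕ H → {n : N // n ≠ 1} := Sum.elim
        (fun k => ⟨⟨(k : G) * a * (k : G)⁻¹, hNn.conj_mem a ha _⟩, fun e => ha1 (conj_eq_one_iff.1 (congrArg Subtype.val e))⟩)
        (fun k => ⟨⟨(k : G) * b * (k : G)⁻¹, hNn.conj_mem b hb _⟩, fun e => hb1 (conj_eq_one_iff.1 (congrArg Subtype.val e))⟩)
      have hstab : ∀ c : G, c ∈ N → c ≠ 1 → ∀ k k' : H,
          (k : G) * c * (k : G)⁻¹ = (k' : G) * c * (k' : G)⁻¹ → k = k' := by
        intro c hc hc1 k k' h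
        by_contra hne
        set l : G := (k' : G)⁻¹ * k with hl
        have hl1 : l ≠ 1 := fun e => hne (Subtype.ext (inv_mul_eq_one.1 e).symm)
        have hlc : l * c = c * l := by
          calc l * c = (k' : G)⁻¹ * ((k : G) * c * (k : G)⁻¹) * k := by rw [hl]; group
            _ = c * l := by rw [h, hl]; group
        have hlα : l • α = α := (H.mul_mem (H.inv_mem k'.2) k.2 : _)
        have h2 : 1 < Nat.card (MulAction.fixedBy Ω l) := by
          rw [Finite.one_lt_card_iff_nontrivial]
          exact ⟨⟨α, hlα⟩, ⟨c • α, by show l • c • α = c • α; rw [← mul_smul, hlc, mul_smul, hlα]⟩,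
            fun e => A.der hc hc1 α (congrArg Subtype.val e).symm⟩
        have := hfix l hl1
        omega
      have hf : Function.Bijective f := by
        constructor
        · rintro (k | k) (k' | k') h <;>
            have h' := congrArg (fun x : {n : N // n ≠ 1} => (x.1 : G)) h <;>
            simp only [f, Sum.elim_inl, Sum.elim_inr] at h'
          · exact congrArg _ (hstab a ha ha1 k k' h')
          · exact absurd ((isConj_iff.2 ⟨k, rfl⟩ : IsConj a _).trans (h' ▸ (isConj_iff.2 ⟨k', rfl⟩ : IsConj b _).symm)) hab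
          · exact absurd ((isConj_iff.2 ⟨k', rfl⟩ : IsConj a _).trans (h' ▸ (isConj_iff.2 ⟨k, rfl⟩ : IsConj b _).symm)) hab
          · exact congrArg _ (hstab b hb hb1 k k' h')
        · intro n
          rcases hall n.1.1 (A.der n.1.2 fun e => n.2 (Subtype.ext e)) with h | h
          · obtain ⟨k, hk, e⟩ := A.exists_conj α ha h
            exact ⟨Sum.inl ⟨k, hk⟩, Subtype.ext (Subtype.ext e)⟩
          · obtain ⟨k, hk, e⟩ := A.exists_conj α hb h
            exact ⟨Sum.inr ⟨k, hk⟩, Subtype.ext (Subtype.ext e)⟩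
      have h1 := Nat.card_eq_of_bijective f hf
      rw [Nat.card_sum] at h1
      have h2 : Nat.card {n : N // n ≠ 1} + 1 = Nat.card N := by
        have := Fintype.ofFinite N
        rw [Nat.card_eq_fintype_card, Nat.card_eq_fintype_card, Fintype.card_subtype_compl,
          Fintype.card_subtype_eq, Nat.sub_add_cancel Fintype.card_pos]
      rw [A.card_eq α, Nat.card_eq_fintype_card (α := Ω)] at h2
      have : Nat.card H = Nat.card (MulAction.stabilizer G α) := rfl
      omega
    exact ⟨hex, hfix, by omega, by omega⟩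

end Cfsg.Agent.S3520
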