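import Cfsg.Statements.S3554
-- import your own Cfsg.Agent.* helpers here

set_option autoImplicit false
open Cfsg

namespace Cfsg.Agent.S3554

/-- Let G act faithfully and transitively on a finite set and suppose G has a non-trivial cyclic normal subgroup. Then some element of G of prime order fixes no point. -/
theorem result {G Ω : Type*} [Group G] [Finite G] [MulAction G Ω] [FaithfulSMul G Ω] [Finite Ω]
    (htrans : MulAction.IsPretransitive G Ω) (C : Subgroup G) (hC : C.Normal) (hC1 : C ≠ ⊥) (hcyc : IsCyclic ↥C) :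
    ∃ g : G, (orderOf g).Prime ∧ ∀ ω : Ω, g • ω ≠ ω := by
  classical
  obtain ⟨⟨c, hcC⟩, hc⟩ := hcyc.exists_generator
  have hcard : Nat.card C ≠ 1 := fun h => hC1 (Subgroup.eq_bot_of_card_eq C h)
  obtain ⟨q, hq, hqd⟩ := Nat.exists_prime_and_dvd hcard
  have : Fact q.Prime := ⟨hq⟩
  obtain ⟨⟨g, hgC⟩, hg⟩ := exists_prime_orderOf_dvd_card' q hqd
  rw [Subgroup.orderOf_mk] at hg
  refine ⟨g, hg ▸ hq, fun ω hω => ?_⟩
  obtain ⟨a, ha⟩ := Subgroup.mem_zpowers_iff.1 (hc ⟨g, hgC⟩)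
  have ha' : c ^ a = g := congrArg Subtype.val ha
  have hall : ∀ x : G, g • (x⁻¹ • ω) = x⁻¹ • ω := by
    intro x
    obtain ⟨m, hm⟩ := Subgroup.mem_zpowers_iff.1 (hc ⟨x * c * x⁻¹, hC.conj_mem c hcC x⟩)
    have hm' : c ^ m = x * c * x⁻¹ := congrArg Subtype.val hm
    have e : x * g * x⁻¹ = g ^ m := by
      rw [← ha', ← conj_zpow, ← hm', ← zpow_mul, ← zpow_mul, mul_comm]
    have hfix : (x * g * x⁻¹) • ω = ω := by
      rw [e]
      exact MulAction.mem_stabilizer_iff.1 (Subgroup.zpow_mem _ (MulAction.mem_stabilizer_iff.2 hω) m)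
    calc g • x⁻¹ • ω = x⁻¹ • ((x * g * x⁻¹) • ω) := by simp [← mul_smul, mul_assoc]
      _ = x⁻¹ • ω := by rw [hfix]
  have : g = 1 := FaithfulSMul.eq_of_smul_eq_smul (α := Ω) fun y => by
    obtain ⟨x, hx⟩ := MulAction.exists_smul_eq G ω y
    rw [one_smul, ← hx]
    simpa using hall x⁻¹
  rw [this, orderOf_one] at hg
  exact hq.ne_one hg.symm

end Cfsg.Agent.S3554
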