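import Cfsg.Statements.S3555
-- import your own Cfsg.Agent.* helpers here

set_option autoImplicit false
open Cfsg MulAction
open scoped Pointwise

namespace Cfsg.Agent.S3555

variable {G Ω : Type*} [Group G] [Fintype G] [MulAction G Ω] [Fintype Ω] [DecidableEq G] [DecidableEq Ω]

/-- number of fixed points -/
def nfix (g : G) : ℕ := (Finset.univ.filter fun ω : Ω => g • ω = ω).card

theorem sum_nfix_eq (H : Subgroup G) [Fintype H] [Fintype (Quotient (orbitRel H Ω))] :
    ∑ h : H, nfix (Ω := Ω) (h : G) = Fintype.card (Quotient (orbitRel H Ω)) * Fintype.card H := by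
  classical
  rw [← MulAction.sum_card_fixedBy_eq_card_orbits_mul_card_group H Ω]
  refine Finset.sum_congr rfl fun h _ => ?_
  rw [nfix, ← Fintype.card_subtype]
  exact Fintype.card_congr (Equiv.subtypeEquivRight fun ω => Iff.rfl)

theorem one_le_nfix {g : G} (h : ¬ ∀ ω : Ω, g • ω ≠ ω) : 1 ≤ nfix (Ω := Ω) g := by
  push Not at h
  obtain ⟨ω, hω⟩ := h
  exact Finset.card_pos.2 ⟨ω, by simp [hω]⟩

theorem sum_univ [IsPretransitive G Ω] [Nonempty Ω] : ∑ g : G, nfix (Ω := Ω) g = Fintype.card G := by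
  classical
  have h := MulAction.sum_card_fixedBy_eq_card_orbits_mul_card_group G Ω
  have h1 : Fintype.card (Quotient (orbitRel G Ω)) = 1 := by
    rw [Fintype.card_eq_one_iff]
    obtain ⟨a⟩ := ‹Nonempty Ω›
    refine ⟨⟦a⟧, fun q => ?_⟩
    induction q using Quotient.inductionOn with
    | h b => exact Quotient.sound (orbitRel_apply.2 (MulAction.exists_smul_eq G a b))
  rw [h1, one_mul] at h
  refine (Finset.sum_congr rfl fun g _ => ?_).trans h
  rw [nfix, ← Fintype.card_subtype]
  exact Fintype.card_congr (Equiv.subtypeEquivRight fun ω => Iff.rfl)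

/-- the key counting -/
theorem core [IsPretransitive G Ω] [Nonempty Ω] [FaithfulSMul G Ω]
    (hinv : ∀ g : G, (∀ ω : Ω, g • ω ≠ ω) → orderOf g = 2) :
    (∀ y : G, y ≠ 1 → ∀ a b : Ω, y • a = a → y • b = b → a = b) ∧
      ∀ d e : G, (∀ ω : Ω, d • ω ≠ ω) → (∀ ω : Ω, e • ω ≠ ω) → d * e = e * d := by
  classical
  set D := Finset.univ.filter fun g : G => ∀ ω : Ω, g • ω ≠ ω with hDdef
  have hDm : ∀ g, g ∈ D ↔ ∀ ω : Ω, g • ω ≠ ω := fun g => by simp [hDdef]
  have hsq : ∀ g ∈ D, g * g = 1 := fun g hg => by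
    rw [← sq]; exact (hinv g ((hDm g).1 hg)) ▸ pow_orderOf_eq_one g
  have hD0 : ∀ g ∈ D, nfix (Ω := Ω) g = 0 := fun g hg => by
    simpa [nfix, Finset.card_eq_zero, Finset.filter_eq_empty_iff] using (hDm g).1 hg
  -- fixed sets invariant under derangements normalising
  have hinvset : ∀ d ∈ D, ∀ y : G, (d * y * d = y ∨ d * y * d = y⁻¹) → ∀ x : Ω, y • x = x → y • d • x = d • x := by
    intro d hd y hy x hx
    have hx' : y⁻¹ • x = x := by rw [inv_smul_eq_iff, hx]
    have : (d * y * d) • x = x := by rcases hy with h | h <;> rw [h] <;> assumption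
    calc y • d • x = d • ((d * y * d) • x) := by
          rw [smul_smul, smul_smul, ← mul_assoc, ← mul_assoc, hsq d hd, one_mul]
      _ = d • x := by rw [this]
  have h2fix : ∀ d ∈ D, ∀ y : G, (d * y * d = y ∨ d * y * d = y⁻¹) → y ∉ D → 2 ≤ nfix (Ω := Ω) y := by
    intro d hd y hy hyD
    rw [hDm] at hyD
    push Not at hyD
    obtain ⟨x, hx⟩ := hyD
    exact Finset.one_lt_card.2 ⟨x, by simp [hx], d • x, by simp [hinvset d hd y hy x hx], fun h => (hDm d).1 hd x h.symm⟩
  have hcount : ∀ d ∈ D, (∑ g ∈ Finset.univ.filter (fun g : G => d * g = g * d), nfix (Ω := Ω) g) =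
        (Finset.univ.filter fun g : G => d * g = g * d).card ∧
      ∀ y : G, 2 ≤ nfix (Ω := Ω) y → d * y * d = y ∨ d * y * d = y⁻¹ := by
    intro d hd
    set C := Finset.univ.filter fun g : G => d * g = g * d with hC
    set E := D \ C with hE
    set E' := E.image (d * ·) with hE'
    have hE'card : E'.card = E.card := Finset.card_image_of_injective _ (mul_right_injective d)
    have hCm : ∀ g, g ∈ C ↔ d * g = g * d := fun g => by simp [hC]
    have hE'm : ∀ y ∈ E', y ∉ C ∧ y ∉ D ∧ d * y * d = y⁻¹ := by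
      intro y hy
      obtain ⟨e, he, rfl⟩ := Finset.mem_image.1 hy
      obtain ⟨heD, heC⟩ := Finset.mem_sdiff.1 he
      rw [hCm] at heC
      refine ⟨?_, ?_, ?_⟩
      · rw [hCm]
        intro h
        rw [mul_assoc] at h
        exact heC (mul_left_cancel h)
      · intro h
        apply heC
        have h' := hsq _ h
        have : d * e = (d * e)⁻¹ := eq_inv_of_mul_eq_one_left h'
        rwa [mul_inv_rev, inv_eq_of_mul_eq_one_right (hsq e heD), inv_eq_of_mul_eq_one_right (hsq d hd)] at this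
      · rw [mul_inv_rev, inv_eq_of_mul_eq_one_right (hsq e heD), inv_eq_of_mul_eq_one_right (hsq d hd),
          ← mul_assoc, hsq d hd, one_mul]
    set R := Finset.univ \ (C ∪ E ∪ E') with hR
    have d1 : Disjoint C E := Finset.disjoint_sdiff
    have d2 : Disjoint (C ∪ E) E' := by
      rw [Finset.disjoint_right]
      intro y hy h
      rcases Finset.mem_union.1 h with h | h
      · exact (hE'm y hy).1 h
      · exact (hE'm y hy).2.1 (Finset.mem_sdiff.1 h).1
    have hsum : (∑ g ∈ C, nfix (Ω := Ω) g) + 0 + (∑ g ∈ E', nfix (Ω := Ω) g) +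
        (∑ g ∈ R, nfix (Ω := Ω) g) = Fintype.card G := by
      rw [show (0 : ℕ) = ∑ g ∈ E, nfix (Ω := Ω) g from
          (Finset.sum_eq_zero fun g hg => hD0 g (Finset.mem_sdiff.1 hg).1).symm,
        ← Finset.sum_union d1, ← Finset.sum_union d2, hR, add_comm, Finset.sum_sdiff (Finset.subset_univ _), sum_univ]
    have hcards : C.card + E.card + E.card + R.card = Fintype.card G := by
      conv_lhs => arg 1; arg 2; rw [← hE'card]
      rw [← Finset.card_union_of_disjoint d1, ← Finset.card_union_of_disjoint d2, hR, add_comm,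
        Finset.card_sdiff_add_card_eq_card (Finset.subset_univ _), Finset.card_univ]
    have hR1 : ∀ g ∈ R, 1 ≤ nfix (Ω := Ω) g := fun g hg => one_le_nfix fun h => by
      obtain ⟨-, hn⟩ := Finset.mem_sdiff.1 hg
      simp only [Finset.mem_union, hE, Finset.mem_sdiff, not_or] at hn
      exact hn.1.2 ⟨(hDm g).2 h, hn.1.1⟩
    have hE2 : E.card + E.card ≤ ∑ g ∈ E', nfix (Ω := Ω) g := by
      have h := Finset.card_nsmul_le_sum E' (fun g => nfix (Ω := Ω) g) 2 fun g hg =>
        h2fix d hd g (Or.inr (hE'm g hg).2.2) (hE'm g hg).2.1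
      rw [hE'card, smul_eq_mul] at h
      omega
    have hR2 : R.card ≤ ∑ g ∈ R, nfix (Ω := Ω) g := by
      simpa using Finset.card_nsmul_le_sum R (fun g => nfix (Ω := Ω) g) 1 hR1
    have hC2 : C.card ≤ ∑ g ∈ C, nfix (Ω := Ω) g := by
      let Cg : Subgroup G := Subgroup.centralizer {d}
      have h := sum_nfix_eq (Ω := Ω) Cg
      have hmem : ∀ g, g ∈ C ↔ g ∈ Cg := fun g => by
        rw [hCm, Subgroup.mem_centralizer_singleton_iff]; exact eq_comm
      rw [← Finset.sum_subtype C hmem (fun g => nfix (Ω := Ω) g)] at h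
      rw [h, ← Fintype.card_of_subtype C hmem]
      haveI : Nonempty (Quotient (orbitRel Cg Ω)) := ⟨⟦Classical.arbitrary Ω⟧⟩
      exact Nat.le_mul_of_pos_left _ Fintype.card_pos
    refine ⟨by omega, fun y hy => ?_⟩
    by_cases hyC : y ∈ C
    · left
      rw [(hCm y).1 hyC, mul_assoc, hsq d hd, mul_one]
    by_cases hyE' : y ∈ E'
    · exact Or.inr (hE'm y hyE').2.2
    have hyE : y ∉ E := fun h => by
      rw [hD0 y (Finset.mem_sdiff.1 h).1] at hy; omega
    have hyR : y ∈ R := Finset.mem_sdiff.2 ⟨Finset.mem_univ _, by simp [hyC, hyE, hyE']⟩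
    exfalso
    have hlt : R.card < ∑ g ∈ R, nfix (Ω := Ω) g := by
      rw [Finset.card_eq_sum_ones]
      exact Finset.sum_lt_sum hR1 ⟨y, hyR, hy⟩
    omega
  have huniq : ∀ y : G, y ≠ 1 → nfix (Ω := Ω) y ≤ 1 := by
    intro y hy
    by_contra hlt
    push Not at hlt
    set X : Set Ω := {x | y • x = x}
    let L := MulAction.stabilizer G X
    have hDL : ∀ d ∈ D, d ∈ L := fun d hd => mem_stabilizer_set.2 fun x => by
      have hor := (hcount d hd).2 y hlt
      refine ⟨fun h => ?_, fun h => hinvset d hd y hor x h⟩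
      have := hinvset d hd y hor (d • x) h
      rwa [smul_smul d d, hsq d hd, one_smul] at this
    obtain ⟨a, ha⟩ := Finset.card_pos.1 (show 0 < nfix (Ω := Ω) y by omega)
    have haX : a ∈ X := by simpa [X] using ha
    obtain ⟨b, hb⟩ : ∃ b : Ω, b ∉ X := by
      by_contra hall
      push Not at hall
      exact hy (eq_of_smul_eq_smul (α := Ω) fun x => (hall x).trans (one_smul G x).symm)
    have hq : 2 ≤ Fintype.card (Quotient (orbitRel L Ω)) := by
      refine Fintype.one_lt_card_iff.2 ⟨⟦a⟧, ⟦b⟧, fun h => hb ?_⟩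
      obtain ⟨g, hg⟩ := orbitRel_apply.1 (Quotient.exact h)
      have hg' : (g : G) • b = a := hg
      exact (mem_stabilizer_set.1 g.2 b).1 (hg' ▸ haX)
    have hs := sum_nfix_eq (Ω := Ω) L
    set S := Finset.univ.filter fun g : G => g ∈ L
    rw [← Finset.sum_subtype S (by simp [S]) (fun g => nfix (Ω := Ω) g)] at hs
    have hcL : Fintype.card L = S.card := Fintype.card_of_subtype S (by simp [S])
    rw [hcL] at hs
    have h1 := Finset.card_nsmul_le_sum (Finset.univ \ S) (fun g => nfix (Ω := Ω) g) 1 fun g hg =>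
      one_le_nfix fun h => (Finset.mem_sdiff.1 hg).2 (by simpa [S] using hDL g ((hDm g).2 h))
    rw [smul_eq_mul, mul_one] at h1
    have h2 : ∑ g ∈ Finset.univ \ S, nfix (Ω := Ω) g + ∑ g ∈ S, nfix (Ω := Ω) g = Fintype.card G := by
      rw [Finset.sum_sdiff (Finset.subset_univ _), sum_univ]
    have h3 : (Finset.univ \ S).card + S.card = Fintype.card G :=
      Finset.card_sdiff_add_card_eq_card (Finset.subset_univ _)
    have h4 : 0 < S.card := Finset.card_pos.2 ⟨1, by simp [S]⟩
    have h5 : 2 * S.card ≤ ∑ g ∈ S, nfix (Ω := Ω) g := by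
      rw [hs]; exact Nat.mul_le_mul_right _ hq
    omega
  refine ⟨fun y hy a b ha hb => Finset.card_le_one.1 (huniq y hy) a (by simp [ha]) b (by simp [hb]), ?_⟩
  intro d e hd he
  by_contra hne
  have hdD := (hDm d).2 hd
  set C := Finset.univ.filter fun g : G => d * g = g * d
  have hone : nfix (Ω := Ω) (1 : G) = Fintype.card Ω := by simp [nfix]
  have hCsum := (hcount d hdD).1
  have hCD : ∀ g ∈ C, g ≠ 1 → g ∈ D := by
    intro g hg hg1
    by_contra hgD
    have hc : d * g = g * d := by simpa [C] using hg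
    have := h2fix d hdD g (Or.inl (by rw [hc, mul_assoc, hsq d hdD, mul_one])) hgD
    have := huniq g hg1
    omega
  have hCn : C.card = Fintype.card Ω := by
    rw [← hCsum, ← hone]
    exact Finset.sum_eq_single_of_mem 1 (by simp [C]) fun g hg hg1 => hD0 g (hCD g hg hg1)
  have hsum : Fintype.card G = Fintype.card Ω + (Finset.univ \ insert 1 D).card := by
    rw [← sum_univ (G := G) (Ω := Ω), ← Finset.sum_sdiff (Finset.subset_univ (insert (1 : G) D)), add_comm]
    congr 1
    · rw [← hone]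
      exact Finset.sum_eq_single_of_mem 1 (Finset.mem_insert_self _ _) fun g hg hg1 =>
        hD0 g ((Finset.mem_insert.1 hg).resolve_left hg1)
    · rw [Finset.card_eq_sum_ones]
      refine Finset.sum_congr rfl fun g hg => le_antisymm ?_ ?_
      · exact huniq g fun h => (Finset.mem_sdiff.1 hg).2 (Finset.mem_insert.2 (Or.inl h))
      · exact one_le_nfix fun h => (Finset.mem_sdiff.1 hg).2 (Finset.mem_insert.2 (Or.inr ((hDm g).2 h)))
  have h3 : (Finset.univ \ insert 1 D).card + (insert 1 D).card = Fintype.card G :=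
    Finset.card_sdiff_add_card_eq_card (Finset.subset_univ _)
  have heq : C = insert 1 D := Finset.eq_of_subset_of_card_le (fun g hg => by
    by_cases h : g = 1
    · exact Finset.mem_insert.2 (Or.inl h)
    · exact Finset.mem_insert.2 (Or.inr (hCD g hg h))) (by omega)
  have : e ∈ C := heq ▸ Finset.mem_insert.2 (Or.inr ((hDm e).2 he))
  exact hne (by simpa [C] using this)

omit [Fintype G] [MulAction G Ω] [Fintype Ω] [DecidableEq G] [DecidableEq Ω] in
/-- Let G act faithfully and transitively on a finite set and suppose every element of G fixing no point is an involution. Then either G is an elementary abelian 2-group, or G is a Frobenius group whose Frobenius kernel is an elementary abelian 2-group: G has a Frobenius complement H, and the elements lying in no conjugate of H, together with the identity, pairwise commute and square to the identity. -/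
theorem result {G Ω : Type*} [Group G] [Finite G] [MulAction G Ω] [FaithfulSMul G Ω] [Finite Ω]
    (htrans : MulAction.IsPretransitive G Ω) (hinv : ∀ g : G, (∀ ω : Ω, g • ω ≠ ω) → orderOf g = 2) :
    (IsMulCommutative G ∧ ∀ g : G, g ^ 2 = 1) ∨
    (∃ H : Subgroup G, Cfsg.IsFrobeniusComplement H ∧
      (∀ x ∈ Cfsg.frobeniusKernel H, x ^ 2 = 1) ∧
      ∀ x ∈ Cfsg.frobeniusKernel H, ∀ y ∈ Cfsg.frobeniusKernel H, x * y = y * x) := by
  classical
  haveI := Fintype.ofFinite G
  haveI := Fintype.ofFinite Ω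
  haveI := htrans
  by_cases hne : Nonempty Ω
  swap
  · haveI : IsEmpty Ω := not_nonempty_iff.1 hne
    have h1 : ∀ g : G, g = 1 := fun g => eq_of_smul_eq_smul (α := Ω) fun x => isEmptyElim x
    exact Or.inl ⟨⟨⟨fun a b => by rw [h1 a, h1 b]⟩⟩, fun g => by rw [h1 g, one_pow]⟩
  haveI := hne
  obtain ⟨hfix, hcomm⟩ := core (G := G) (Ω := Ω) hinv
  obtain ⟨a⟩ := hne
  set H := MulAction.stabilizer G a with hH
  have hmemconj : ∀ g x : G, x ∈ MulAut.conj g • H ↔ x • g • a = g • a := fun g x => by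
    rw [Subgroup.mem_pointwise_smul_iff_inv_smul_mem, hH, mem_stabilizer_iff]
    show ((MulAut.conj g)⁻¹ x) • a = a ↔ _
    rw [show (MulAut.conj g)⁻¹ x = g⁻¹ * x * g from by simp, mul_smul, mul_smul, inv_smul_eq_iff]
  have hker : ∀ x : G, (∀ g : G, x ∉ MulAut.conj g • H) → ∀ ω : Ω, x • ω ≠ ω := fun x hx ω h => by
    obtain ⟨g, rfl⟩ := MulAction.exists_smul_eq G a ω
    exact hx g ((hmemconj g x).2 h)
  have hsq : ∀ x : G, (∀ ω : Ω, x • ω ≠ ω) → x ^ 2 = 1 := fun x hx => hinv x hx ▸ pow_orderOf_eq_one x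
  by_cases hbot : H = ⊥
  · left
    have hd : ∀ x : G, x ≠ 1 → ∀ ω : Ω, x • ω ≠ ω := fun x hx => hker x fun g h => hx (by
      rw [hbot, Subgroup.smul_bot, Subgroup.mem_bot] at h; exact h)
    refine ⟨⟨⟨fun x y => ?_⟩⟩, fun x => ?_⟩
    · by_cases hx : x = 1
      · simp [hx]
      by_cases hy : y = 1
      · simp [hy]
      exact hcomm x y (hd x hx) (hd y hy)
    · by_cases hx : x = 1
      · simp [hx]
      exact hsq x (hd x hx)
  · right
    refine ⟨H, ⟨hbot, fun htop => hbot ?_, fun g hg => ?_⟩, ?_, ?_⟩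
    · refine (Subgroup.eq_bot_iff_forall _).2 fun x _ => eq_of_smul_eq_smul (α := Ω) fun ω => ?_
      obtain ⟨g, rfl⟩ := MulAction.exists_smul_eq G a ω
      have hx : ∀ y : G, y • a = a := fun y => mem_stabilizer_iff.1 (htop ▸ Subgroup.mem_top y : y ∈ H)
      rw [hx g, hx x, one_smul]
    · refine (Subgroup.eq_bot_iff_forall _).2 fun x ⟨hx1, hx2⟩ => ?_
      by_contra hx
      exact hg (mem_stabilizer_iff.2 (hfix x hx a (g • a) hx1 ((hmemconj g x).1 hx2)).symm)
    · rintro x (rfl | hx)
      · exact one_pow 2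
      · exact hsq x (hker x hx)
    · rintro x (rfl | hx) y (rfl | hy)
      all_goals first | simp | exact hcomm x y (hker x hx) (hker y hy)

end Cfsg.Agent.S3555
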