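import Cfsg.Statements.S3556
import Mathlib
import Cfsg.Agent.TwoClasses.Basic
import Cfsg.Agent.MinNormal.Factors

set_option autoImplicit false
open Cfsg

namespace Cfsg.Agent.S3556

/-- Let G act faithfully and primitively on a finite set with at least two points, and suppose that for some fixed prime p every element of G fixing no point has order a power of p. Then G is of affine type (it has a regular normal subgroup that is an elementary abelian r-group for some prime r) or almost simple (it has a non-abelian simple normal subgroup with trivial centralizer). -/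
theorem result {G Ω : Type*} [Group G] [Finite G] [MulAction G Ω] [FaithfulSMul G Ω] [Finite Ω]
    (hprim : MulAction.IsPreprimitive G Ω) (hΩ : 2 ≤ Nat.card Ω) (p : ℕ) (hp : p.Prime)
    (hder : ∀ g : G, (∀ ω : Ω, g • ω ≠ ω) → ∃ k : ℕ, orderOf g = p ^ k) :
    (∃ (N : Subgroup G) (r : ℕ), r.Prime ∧ N.Normal ∧ Cfsg.IsElementaryAbelian r N ∧
      MulAction.IsPretransitive N Ω ∧ ∀ a : Ω, MulAction.stabilizer N a = ⊥) ∨
    (∃ T : Subgroup G, T.Normal ∧ IsSimpleGroup ↥T ∧ ¬ IsMulCommutative ↥T ∧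
      Subgroup.centralizer (T : Set G) = ⊥) := by
  classical
  haveI : Fact p.Prime := ⟨hp⟩
  haveI : Nontrivial Ω := Finite.one_lt_card_iff_nontrivial.1 (by omega)
  haveI : MulAction.IsPretransitive G Ω := hprim.toIsPretransitive
  haveI := hprim
  obtain ⟨α, β, hαβ⟩ := exists_pair_ne Ω
  have hnorm : ∀ N : Subgroup G, N.Normal → N ≠ ⊥ → MulAction.IsPretransitive N Ω := by
    intro N hN hne
    haveI := hN
    refine MulAction.IsQuasiPreprimitive.isPretransitive_of_normal (G := G) fun hfix => hne ?_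
    rw [Subgroup.eq_bot_iff_forall]
    intro n hn
    refine FaithfulSMul.eq_of_smul_eq_smul (α := Ω) fun x => ?_
    rw [one_smul]
    exact (hfix ▸ Set.mem_univ x : x ∈ MulAction.fixedPoints N Ω) ⟨n, hn⟩
  have hmin : ∀ K : Subgroup G, K.Normal → K ≠ ⊥ → ∃ N : Subgroup G, N ≤ K ∧ N.Normal ∧ N ≠ ⊥ ∧
      ∀ M : Subgroup G, M.Normal → M ≤ N → M = ⊥ ∨ M = N := by
    intro K hK hK1
    obtain ⟨N, hle, hN⟩ := (Set.toFinite {N : Subgroup G | N.Normal ∧ N ≠ ⊥}).exists_le_minimal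
      (show K ∈ {N : Subgroup G | N.Normal ∧ N ≠ ⊥} from ⟨hK, hK1⟩)
    refine ⟨N, hle, hN.1.1, hN.1.2, fun M hM hMN => ?_⟩
    by_cases hM1 : M = ⊥
    · exact Or.inl hM1
    · exact Or.inr (le_antisymm hMN (hN.2 ⟨hM, hM1⟩ hMN))
  by_cases hab : ∃ K : Subgroup G, K.Normal ∧ K ≠ ⊥ ∧ IsMulCommutative K
  · left
    obtain ⟨K, hK, hK1, hKc⟩ := hab
    obtain ⟨N, hNK, hNn, hN1, hNmin⟩ := hmin K hK hK1
    haveI hNt := hnorm N hNn hN1
    have hc : ∀ a ∈ N, ∀ b ∈ N, a * b = b * a := fun a ha b hb =>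
      congrArg Subtype.val (hKc.is_comm.comm ⟨a, hNK ha⟩ ⟨b, hNK hb⟩)
    haveI : Nontrivial N := (Subgroup.nontrivial_iff_ne_bot _).2 hN1
    have hr := Nat.minFac_prime (Finite.one_lt_card (α := N)).ne'
    set r := (Nat.card N).minFac
    haveI : Fact r.Prime := ⟨hr⟩
    let E : Subgroup G :=
      { carrier := {x | x ∈ N ∧ x ^ r = 1}
        one_mem' := ⟨N.one_mem, one_pow _⟩
        mul_mem' := by
          rintro x y ⟨hx, hx'⟩ ⟨hy, hy'⟩
          refine ⟨N.mul_mem hx hy, ?_⟩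
          rw [(show Commute x y from hc x hx y hy).mul_pow, hx', hy', one_mul]
        inv_mem' := by
          rintro x ⟨hx, hx'⟩
          exact ⟨N.inv_mem hx, by rw [inv_pow, hx', inv_one]⟩ }
    have hEn : E.Normal := ⟨fun x hx g => ⟨hNn.conj_mem x hx.1 g, by rw [conj_pow, hx.2, mul_one, mul_inv_cancel]⟩⟩
    obtain ⟨x, hx⟩ := exists_prime_orderOf_dvd_card' (G := N) r (Nat.minFac_dvd _)
    have hEN : E = N := (hNmin E hEn fun y hy => hy.1).resolve_left fun h => by
      have : (x : G) ∈ E := ⟨x.2, by rw [← hx, ← Subgroup.orderOf_coe, pow_orderOf_eq_one]⟩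
      rw [h, Subgroup.mem_bot] at this
      rw [← Subgroup.orderOf_coe, this, orderOf_one] at hx
      exact hr.ne_one hx.symm
    refine ⟨N, r, hr, hNn, ⟨⟨⟨fun a b => Subtype.ext (hc a a.2 b b.2)⟩⟩,
      fun a ha => (hEN.symm ▸ ha : a ∈ E).2⟩, hNt, fun ω => ?_⟩
    rw [Subgroup.eq_bot_iff_forall]
    intro n hn
    refine Subtype.ext (FaithfulSMul.eq_of_smul_eq_smul (α := Ω) fun y => ?_)
    obtain ⟨m, rfl⟩ := MulAction.exists_smul_eq N ω y
    rw [Subgroup.coe_one, one_smul]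
    show (n : G) • (m : G) • ω = (m : G) • ω
    have hnω : (n : G) • ω = ω := MulAction.mem_stabilizer_iff.1 hn
    rw [← mul_smul, hc n n.2 m m.2, mul_smul, hnω]
  right
  push_neg at hab
  -- a normal subgroup without fixed points is trivial
  have hsemi : ∀ K : Subgroup G, K.Normal → (∀ k ∈ K, k ≠ 1 → ∀ ω : Ω, k • ω ≠ ω) → K = ⊥ := by
    intro K hK hd
    by_contra hK1
    haveI : Nontrivial K := (Subgroup.nontrivial_iff_ne_bot _).2 hK1
    have hP : IsPGroup p K := IsPGroup.iff_orderOf.2 fun k => by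
      by_cases hk : (k : G) = 1
      · exact ⟨0, by rw [← Subgroup.orderOf_coe, hk, orderOf_one, pow_zero]⟩
      · obtain ⟨e, he⟩ := hder k (hd k k.2 hk)
        exact ⟨e, by rw [← Subgroup.orderOf_coe, he]⟩
    haveI := hP.center_nontrivial
    refine hab ((Subgroup.center K).map K.subtype) ⟨fun x hx g => ?_⟩ ?_ ?_
    · obtain ⟨z, hz, rfl⟩ := hx
      refine ⟨⟨g * z * g⁻¹, hK.conj_mem z z.2 g⟩, Subgroup.mem_center_iff.2 fun k => ?_, rfl⟩
      have := congrArg Subtype.val (Subgroup.mem_center_iff.1 hz ⟨g⁻¹ * k * g, by simpa using hK.conj_mem k k.2 g⁻¹⟩)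
      refine Subtype.ext ?_
      simp only [Subgroup.coe_mul] at this ⊢
      calc (k : G) * (g * z * g⁻¹) = g * (g⁻¹ * k * g * z) * g⁻¹ := by group
        _ = g * (z * (g⁻¹ * k * g)) * g⁻¹ := by rw [this]
        _ = g * z * g⁻¹ * k := by group
    · rw [Ne, Subgroup.map_eq_bot_iff_of_injective _ K.subtype_injective]
      exact (Subgroup.nontrivial_iff_ne_bot _).1 inferInstance
    · refine ⟨⟨fun x y => ?_⟩⟩
      obtain ⟨a, ha, hax⟩ := x.2
      obtain ⟨b, hb, hby⟩ := y.2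
      refine Subtype.ext ?_
      rw [Subgroup.coe_mul, Subgroup.coe_mul, ← hax, ← hby, ← map_mul, ← map_mul, Subgroup.mem_center_iff.1 hb a]
  obtain ⟨g₀, hg₀⟩ := CfsgLib.TwoClasses.exists_derangement (X := G) (Ω := Ω)
  obtain ⟨N, -, hNn, hN1, hNmin⟩ := hmin ⊤ inferInstance fun h => by
    have h1 := Subgroup.mem_top g₀
    rw [h, Subgroup.mem_bot] at h1
    exact hg₀ α (by rw [h1, one_smul])
  haveI := hNn
  haveI hNt := hnorm N hNn hN1
  have hC : Subgroup.centralizer (N : Set G) = ⊥ := by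
    refine hsemi _ inferInstance fun c hc hc1 ω hω => hc1 ?_
    refine FaithfulSMul.eq_of_smul_eq_smul (α := Ω) fun x => ?_
    obtain ⟨n, rfl⟩ := MulAction.exists_smul_eq N ω x
    rw [one_smul]
    show c • (n : G) • ω = (n : G) • ω
    rw [← mul_smul, ← Subgroup.mem_centralizer_iff.1 hc n n.2, mul_smul, hω]
  obtain ⟨m, K, hm, hKN, hKn, hKs, -, hKc, -, hKsup⟩ := CfsgLib.MinNormal.exists_factors N hN1 hNmin
  have hKne : ∀ i, K i ≠ ⊥ := fun i => by
    haveI := hKs i
    exact (Subgroup.nontrivial_iff_ne_bot _).1 IsSimpleGroup.toNontrivial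
  have hKnab : ∀ i, ¬ IsMulCommutative (K i) := fun i hi => hKne i <| le_bot_iff.1 <| hC ▸ fun x hx => by
    have : N ≤ Subgroup.centralizer ({x} : Set G) := hKsup ▸ iSup_le fun j y hy => by
      rw [Subgroup.mem_centralizer_singleton_iff]
      by_cases hji : j = i
      · subst hji; exact congrArg Subtype.val (hi.is_comm.comm ⟨y, hy⟩ ⟨x, hx⟩)
      · exact hKc hji y x hy hx
    exact Subgroup.mem_centralizer_iff.2 fun n hn => Subgroup.mem_centralizer_singleton_iff.1 (this hn)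
  by_cases hm1 : m = 1
  · subst hm1
    have hK0 : K 0 = N := by
      rw [← hKsup]
      exact le_antisymm (le_iSup K 0) (iSup_le fun i => by rw [Subsingleton.elim i 0])
    exact ⟨N, hNn, hK0 ▸ hKs 0, hK0 ▸ hKnab 0, hC⟩
  exfalso
  let i : Fin m := ⟨0, hm⟩
  let j : Fin m := ⟨1, by omega⟩
  have hij : j ≠ i := by simp [i, j, Fin.ext_iff]
  set T := K i
  set R := ⨆ (k : Fin m) (_ : k ≠ i), K k with hR
  have hcomm : ∀ t ∈ T, ∀ r ∈ R, t * r = r * t := fun t ht r hr => by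
    have : R ≤ Subgroup.centralizer (T : Set G) := iSup₂_le fun k hk r hr =>
      Subgroup.mem_centralizer_iff.2 fun t ht => (hKc hk r t hr ht).symm
    exact Subgroup.mem_centralizer_iff.1 (this hr) t ht
  have hdec : ∀ n ∈ N, ∃ t ∈ T, ∃ r ∈ R, n = t * r := by
    intro n hn
    have hle : N ≤ T ⊔ R := hKsup ▸ iSup_le fun k => by
      by_cases hk : k = i
      · exact hk ▸ le_sup_left
      · exact le_sup_of_le_right (le_iSup₂ (f := fun k (_ : k ≠ i) => K k) k hk)
    have h := hle hn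
    have hRT : T ≤ Subgroup.normalizer (R : Set G) :=
      CfsgLib.MinNormal.le_normalizer_of_conj fun t ht r hr => by
        rwa [hcomm t ht r hr, mul_inv_cancel_right]
    rw [← SetLike.mem_coe, Subgroup.coe_mul_of_left_le_normalizer_right T R hRT] at h
    obtain ⟨t, ht, r, hr, h⟩ := h
    exact ⟨t, ht, r, hr, h.symm⟩
  have hfixT : ∀ a ∈ T, ∀ r ∈ R, ∀ ω : Ω, (a * r) • ω = ω →
      ∃ t ∈ T, ∃ s ∈ R, (t⁻¹ * a * t * (s⁻¹ * r * s)) • α = α := by
    intro a ha r hr ω hω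
    obtain ⟨n, rfl⟩ := MulAction.exists_smul_eq N α ω
    obtain ⟨t, ht, s, hs, hn⟩ := hdec n n.2
    refine ⟨t, ht, s, hs, ?_⟩
    have e : t⁻¹ * a * t * (s⁻¹ * r * s) = (t * s)⁻¹ * (a * r) * (t * s) := by
      have e1 : s⁻¹ * (t⁻¹ * a * t) = t⁻¹ * a * t * s⁻¹ :=
        (hcomm _ (T.mul_mem (T.mul_mem (T.inv_mem ht) ha) ht) _ (R.inv_mem hs)).symm
      have e2 : r * t = t * r := (hcomm t ht r hr).symm
      calc t⁻¹ * a * t * (s⁻¹ * r * s) = (t⁻¹ * a * t * s⁻¹) * r * s := by group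
        _ = s⁻¹ * t⁻¹ * a * (t * r) * s := by rw [← e1]; group
        _ = (t * s)⁻¹ * (a * r) * (t * s) := by rw [← e2]; group
    have hω' : (a * r) • (t * s) • α = (t * s) • α := by
      rw [← hn]; exact hω
    rw [e, mul_smul, mul_smul, hω', inv_smul_smul]
  let B : Subgroup T :=
    { carrier := {a | ∃ r ∈ R, ((a : G) * r) • α = α}
      one_mem' := ⟨1, R.one_mem, by simp⟩
      mul_mem' := by
        rintro a b ⟨r, hr, h1⟩ ⟨s, hs, h2⟩
        refine ⟨r * s, R.mul_mem hr hs, ?_⟩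
        rw [Subgroup.coe_mul, show (a : G) * b * (r * s) = (a : G) * r * ((b : G) * s) by
          rw [mul_assoc, mul_assoc, ← mul_assoc (b : G), hcomm b b.2 r hr, mul_assoc],
          mul_smul, h2, h1]
      inv_mem' := by
        rintro a ⟨r, hr, h1⟩
        refine ⟨r⁻¹, R.inv_mem hr, ?_⟩
        rw [Subgroup.coe_inv, ← mul_inv_rev, ← hcomm a a.2 r hr, inv_smul_eq_iff, h1] }
  -- a simple factor is not a `p`-group
  have hnp : ∀ k, ¬ IsPGroup p (K k) := fun k hP => by
    haveI := hKs k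
    haveI : Nontrivial (K k) := IsSimpleGroup.toNontrivial
    haveI := hP.center_nontrivial
    have h := (Subgroup.Normal.eq_bot_or_eq_top (H := Subgroup.center (K k)) inferInstance).resolve_left
      ((Subgroup.nontrivial_iff_ne_bot _).1 inferInstance)
    exact hKnab k ⟨⟨fun a b => Subgroup.mem_center_iff.1 (h ▸ Subgroup.mem_top b) a⟩⟩
  have hB : B = ⊤ := by
    refine CfsgLib.TwoClasses.eq_top_of_conj_cover B fun a => ?_
    by_contra hno
    push_neg at hno
    have ha1 : a ≠ 1 := fun h => hno 1 (by simp [h])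
    have hda : ∀ r ∈ R, ∀ ω : Ω, ((a : G) * r) • ω ≠ ω := by
      intro r hr ω hω
      obtain ⟨t, ht, s, hs, h⟩ := hfixT a a.2 r hr ω hω
      exact hno ⟨t, ht⟩ ⟨_, R.mul_mem (R.mul_mem (R.inv_mem hs) hr) hs, by simpa using h⟩
    obtain ⟨e, he⟩ := hder a (fun ω hω => hda 1 R.one_mem ω (by rwa [mul_one]))
    obtain ⟨y, hy, q, hq, hqp, hyq⟩ : ∃ y ∈ K j, ∃ q : ℕ, q.Prime ∧ q ≠ p ∧ orderOf y = q := by
      by_contra h
      push_neg at h
      refine hnp j (IsPGroup.of_card (n := (Nat.card (K j)).primeFactorsList.length)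
        (Nat.eq_prime_pow_of_unique_prime_dvd Nat.card_pos.ne' fun {d} hd hdv => ?_))
      by_contra hdp
      haveI : Fact d.Prime := ⟨hd⟩
      obtain ⟨y, hy⟩ := exists_prime_orderOf_dvd_card' (G := K j) d hdv
      exact h y y.2 d hd hdp (by rw [Subgroup.orderOf_coe, hy])
    have hyR : y ∈ R := le_iSup₂ (f := fun k (_ : k ≠ i) => K k) j hij hy
    obtain ⟨l, hl⟩ := hder _ (hda y hyR)
    have hcop : (orderOf (a : G)).Coprime (orderOf y) := by
      rw [he, hyq]
      exact Nat.Coprime.pow_left _ ((Nat.coprime_primes hp hq).2 hqp.symm)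
    rw [(show Commute (a : G) y from hcomm a a.2 y hyR).orderOf_mul_eq_mul_orderOf_of_coprime hcop,
      he, hyq] at hl
    have hql : q ∣ p ^ l := hl ▸ dvd_mul_left q _
    exact hqp ((Nat.prime_dvd_prime_iff_eq hq hp).1 (hq.dvd_of_dvd_pow hql))
  -- the point stabiliser meets the factor trivially
  have hA : T ⊓ MulAction.stabilizer G α = ⊥ := by
    set A := T ⊓ MulAction.stabilizer G α
    have hAT : (A.subgroupOf T).Normal := ⟨fun a ha t => by
      rw [Subgroup.mem_subgroupOf] at ha ⊢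
      obtain ⟨r, hr, h⟩ := (hB ▸ Subgroup.mem_top t : t ∈ B)
      refine ⟨(t * a * t⁻¹).2, ?_⟩
      have e : ((t * a * t⁻¹ : T) : G) = ((t : G) * r) * a * ((t : G) * r)⁻¹ := by
        rw [Subgroup.coe_mul, Subgroup.coe_mul, Subgroup.coe_inv, mul_assoc (t : G) r a,
          ← hcomm a a.2 r hr]
        group
      show ((t * a * t⁻¹ : T) : G) • α = α
      rw [e, mul_smul, mul_smul, inv_smul_eq_iff.2 h.symm, MulAction.mem_stabilizer_iff.1 ha.2, h]⟩
    haveI := hKs i
    rcases hAT.eq_bot_or_eq_top with h | h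
    · rw [Subgroup.subgroupOf_eq_bot] at h
      exact h.eq_bot_of_le inf_le_left
    · rw [Subgroup.subgroupOf_eq_top] at h
      refine absurd (CfsgLib.TwoClasses.eq_bot_of_fixed (S := T) (α := α) N (fun n hn t ht => ?_)
        fun t ht => (h ht).2) (hKne i)
      exact (Subgroup.mem_normalizer_iff.1 (hKn i hn) t).1 ht
  refine hnp i (IsPGroup.iff_orderOf.2 fun a => ?_)
  by_cases ha : (a : G) = 1
  · exact ⟨0, by rw [← Subgroup.orderOf_coe, ha, orderOf_one, pow_zero]⟩
  obtain ⟨e, he⟩ := hder a fun ω hω => by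
    obtain ⟨t, ht, s, -, h⟩ := hfixT a a.2 1 R.one_mem ω (by rwa [mul_one])
    simp only [mul_one, inv_mul_cancel] at h
    have hm' : t⁻¹ * a * t ∈ T ⊓ MulAction.stabilizer G α :=
      ⟨T.mul_mem (T.mul_mem (T.inv_mem ht) a.2) ht, h⟩
    rw [hA, Subgroup.mem_bot] at hm'
    exact ha (by simpa using conj_eq_one_iff.1 (show t⁻¹ * a * t⁻¹⁻¹ = 1 by simpa using hm'))
  exact ⟨e, by rw [← Subgroup.orderOf_coe, he]⟩

end Cfsg.Agent.S3556
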