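import Cfsg.Statements.S3557
import Cfsg.Agent.TwoClosedPSq.Main

set_option autoImplicit false
open Cfsg

namespace Cfsg.Agent.S3557

/-- Let G act faithfully and transitively on a finite set with 2p² points, p a prime, and suppose G is 2-closed: every permutation of the set which, on each ordered pair of points, agrees with some element of G, is itself induced by an element of G. Then some element of G of prime order fixes no point. -/
theorem result {G Ω : Type*} [Group G] [Finite G] [MulAction G Ω] [FaithfulSMul G Ω] [Finite Ω]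
    (htrans : MulAction.IsPretransitive G Ω) (p : ℕ) (hp : p.Prime) (hcard : Nat.card Ω = 2 * p ^ 2)
    (hcl : ∀ σ : Equiv.Perm Ω, (∀ a b : Ω, ∃ g : G, σ a = g • a ∧ σ b = g • b) → ∃ g : G, ∀ a : Ω, σ a = g • a) :
    ∃ g : G, (orderOf g).Prime ∧ ∀ ω : Ω, g • ω ≠ ω := by
  classical
  haveI : Fact p.Prime := ⟨hp⟩
  haveI := htrans
  by_contra hno
  push Not at hno
  obtain ⟨P⟩ : Nonempty (Sylow p G) := inferInstance
  haveI : Nonempty Ω := (Nat.card_pos_iff.1 (by rw [hcard]; have := hp.pos; positivity)).1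
  have hidx : ∀ x : Ω, Nat.card (MulAction.orbit (P : Subgroup G) x)
      = (MulAction.stabilizer (P : Subgroup G) x).index := fun x => by
    rw [MulAction.index_stabilizer, Nat.card_coe_set_eq]
  have hdvd : ∀ x : Ω, p ^ 2 ∣ (MulAction.stabilizer (P : Subgroup G) x).index := by
    intro x
    have h1 := Subgroup.card_mul_index (MulAction.stabilizer G x)
    rw [MulAction.index_stabilizer_of_transitive G x, hcard] at h1
    have h2 := Subgroup.card_mul_index (MulAction.stabilizer (P : Subgroup G) x)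
    obtain ⟨i, hi⟩ := (IsPGroup.iff_card).1 P.isPGroup'
    obtain ⟨j, hj⟩ := (IsPGroup.iff_card).1
      (P.isPGroup'.to_subgroup (MulAction.stabilizer (P : Subgroup G) x))
    have h3 : p ^ j ∣ Nat.card (MulAction.stabilizer G x) := by
      rw [← hj, ← Subgroup.card_map_of_injective (K := MulAction.stabilizer (P : Subgroup G) x)
        (f := (P : Subgroup G).subtype) (P : Subgroup G).subtype_injective]
      refine Subgroup.card_dvd_of_le ?_
      rintro _ ⟨q, hq, rfl⟩
      exact hq
    have h4 : p ^ (j + 2) ∣ Nat.card G := by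
      rw [← h1, pow_add]
      exact mul_dvd_mul h3 (dvd_mul_left _ _)
    have h5 : p ^ (j + 2) ∣ Nat.card (P : Subgroup G) := P.pow_dvd_card_of_pow_dvd_card h4
    rw [← h2, hj, pow_add] at h5
    exact Nat.dvd_of_mul_dvd_mul_left (pow_pos hp.pos j) h5
  have hnt : (⊤ : Subgroup (P : Subgroup G)) ≠ ⊥ := by
    intro h
    obtain ⟨x⟩ := ‹Nonempty Ω›
    have h2 := hdvd x
    rw [show MulAction.stabilizer (P : Subgroup G) x = ⊤ from eq_top_iff.2 (h.le.trans bot_le), Subgroup.index_top, Nat.dvd_one] at h2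
    exact hp.ne_one ((Nat.pow_eq_one.1 h2).resolve_right (by norm_num))
  have hfix : ∀ z : (P : Subgroup G), orderOf z = p → ∃ x : Ω, z • x = x := fun z hz =>
    hno z (by rw [Subgroup.orderOf_coe, hz]; exact hp)
  have hno1 : ∀ z : (P : Subgroup G), (∀ x : Ω, z • x = x) → z = 1 := fun z h =>
    Subtype.ext (FaithfulSMul.eq_of_smul_eq_smul (α := Ω) fun x => (h x).trans (one_smul G x).symm)
  have hsq : ∀ x : Ω, (MulAction.stabilizer (P : Subgroup G) x).index = p ^ 2 := by
    intro x
    have hle : (MulAction.stabilizer (P : Subgroup G) x).index ≤ 2 * p ^ 2 := by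
      rw [← hidx, ← hcard]
      exact Nat.card_le_card_of_injective _ Subtype.val_injective
    obtain ⟨c, hc⟩ := hdvd x
    have hc0 : c ≠ 0 := by
      rintro rfl
      exact (MulAction.stabilizer (P : Subgroup G) x).index_ne_zero_of_finite (by simpa using hc)
    rw [hc] at hle
    have hc2 : c ≤ 2 := Nat.le_of_mul_le_mul_left (by linarith) (pow_pos hp.pos 2)
    rcases Nat.lt_or_ge c 2 with hc1 | hc1
    · rw [hc, show c = 1 by omega, mul_one]
    exfalso
    have hc' : c = 2 := by omega
    have hall : ∀ y, y ∈ MulAction.orbit (P : Subgroup G) x := by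
      intro y
      have : MulAction.orbit (P : Subgroup G) x = Set.univ :=
        Set.eq_of_subset_of_ncard_le (Set.subset_univ _) (by
          rw [Set.ncard_univ, hcard, ← Nat.card_coe_set_eq, hidx, hc, hc']; linarith)
      rw [this]; trivial
    obtain ⟨z, -, hzo, hzc⟩ := CfsgLib.TwoClosedPSq.exists_central_prime P.isPGroup' ⊤ hnt
    obtain ⟨y, hy⟩ := hfix z hzo
    have : z = 1 := hno1 z fun t => CfsgLib.TwoClosedPSq.smul_eq_on_orbit hzc
      (by rw [MulAction.orbit_eq_iff.2 (hall y)]; exact hall t) hy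
    exact hp.ne_one (by rw [← hzo, this, orderOf_one])
  obtain ⟨a⟩ := ‹Nonempty Ω›
  obtain ⟨b, hb⟩ : ∃ b, b ∉ MulAction.orbit (P : Subgroup G) a := by
    by_contra h
    push Not at h
    have := hidx a
    rw [Set.eq_univ_of_forall h, Nat.card_congr (Equiv.Set.univ Ω), hcard, hsq] at this
    have := pow_pos hp.pos 2
    omega
  have hdisj : ∀ x, x ∈ MulAction.orbit (P : Subgroup G) a → x ∉ MulAction.orbit (P : Subgroup G) b :=
    fun x h1 h2 => hb (by rw [← MulAction.orbit_eq_iff.2 h1, MulAction.orbit_eq_iff.2 h2]; exact MulAction.mem_orbit_self b)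
  have hcov : ∀ x, x ∈ MulAction.orbit (P : Subgroup G) a ∨ x ∈ MulAction.orbit (P : Subgroup G) b := by
    have h : MulAction.orbit (P : Subgroup G) a ∪ MulAction.orbit (P : Subgroup G) b = Set.univ := by
      refine Set.eq_of_subset_of_ncard_le (Set.subset_univ _) ?_
      rw [Set.ncard_univ, hcard, Set.ncard_union_eq (Set.disjoint_left.2 hdisj), ← Nat.card_coe_set_eq,
        ← Nat.card_coe_set_eq, hidx, hidx, hsq, hsq]
      omega
    exact fun x => (Set.ext_iff.1 h x).2 (Set.mem_univ x)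
  by_cases ha : CfsgLib.TwoClosedPSq.orbitKer (P : Subgroup G) a = ⊥
  · exact CfsgLib.TwoClosedPSq.false_of_faithful_orbit P a b hcov hdisj (hsq a) (hsq b) ha hno hcl
  by_cases hb' : CfsgLib.TwoClosedPSq.orbitKer (P : Subgroup G) b = ⊥
  · exact CfsgLib.TwoClosedPSq.false_of_faithful_orbit P b a (fun x => (hcov x).symm)
      (fun x h1 h2 => hdisj x h2 h1) (hsq b) (hsq a) hb' hno hcl
  obtain ⟨z1, hz1, hz1o, hz1c⟩ := CfsgLib.TwoClosedPSq.exists_central_prime P.isPGroup' _ ha
  obtain ⟨z2, hz2, hz2o, hz2c⟩ := CfsgLib.TwoClosedPSq.exists_central_prime P.isPGroup' _ hb'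
  have hone : ∀ z : (P : Subgroup G), orderOf z = p → z ≠ 1 := fun z hz h =>
    hp.ne_one (by rw [← hz, h, orderOf_one])
  have hm1 : ∀ x ∈ MulAction.orbit (P : Subgroup G) b, z1 • x ≠ x := fun x hx h =>
    hone z1 hz1o (hno1 z1 fun t => (hcov t).elim (hz1 t) fun ht =>
      CfsgLib.TwoClosedPSq.smul_eq_on_orbit hz1c (by rwa [MulAction.orbit_eq_iff.2 hx]) h)
  have hm2 : ∀ x ∈ MulAction.orbit (P : Subgroup G) a, z2 • x ≠ x := fun x hx h =>
    hone z2 hz2o (hno1 z2 fun t => (hcov t).elim (fun ht =>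
      CfsgLib.TwoClosedPSq.smul_eq_on_orbit hz2c (by rwa [MulAction.orbit_eq_iff.2 hx]) h) (hz2 t))
  have hfree : ∀ x : Ω, (z1 * z2) • x ≠ x := by
    intro x h
    rw [mul_smul] at h
    rcases hcov x with hx | hx
    · rw [hz1 _ (MulAction.mapsTo_smul_orbit z2 a hx)] at h
      exact hm2 x hx h
    · rw [hz2 x hx] at h
      exact hm1 x hx h
  have ho : orderOf (z1 * z2) = p := by
    refine orderOf_eq_prime ?_ fun e => hfree a (by rw [e, one_smul])
    rw [(hz1c z2).mul_pow, orderOf_dvd_iff_pow_eq_one.1 hz1o.dvd, orderOf_dvd_iff_pow_eq_one.1 hz2o.dvd,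
      one_mul]
  obtain ⟨x, hx⟩ := hfix _ ho
  exact hfree x hx

end Cfsg.Agent.S3557
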