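import Cfsg.Statements.S3641
import Cfsg.Agent.SylSeventeen.Main
import Cfsg.Agent.SylSeventeen.Kernel
-- import your own Cfsg.Agent.* helpers here

set_option autoImplicit false
set_option maxHeartbeats 1000000
open Cfsg

namespace Cfsg.Agent.S3641

/-- Let G be a finite group with trivial centre whose set of Sylow numbers (numbers of Sylow r-subgroups, r over the prime divisors of its order) is exactly {18, 136, 153}. Then G is isomorphic to PSL(2, 17) or to PGL(2, 17). -/
theorem result {G : Type*} [Group G] [Finite G] (hZ : Subgroup.center G = ⊥) (hNS : {c : ℕ | ∃ r : ℕ, r.Prime ∧ r ∣ Nat.card G ∧ c = Nat.card (Sylow r G)} = ({18, 136, 153} : Set ℕ))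
    {F : Type*} [Field F] [Fintype F] (hF : Fintype.card F = 17) :
    Nonempty (G ≃* Matrix.ProjectiveSpecialLinearGroup (Fin 2) F) ∨ Nonempty (G ≃* (GL (Fin 2) F ⧸ Subgroup.center (GL (Fin 2) F))) := by
  classical
  haveI h17 : Fact (Nat.Prime 17) := ⟨by norm_num⟩
  haveI h2' : Fact (Nat.Prime 2) := ⟨Nat.prime_two⟩
  haveI h3' : Fact (Nat.Prime 3) := ⟨Nat.prime_three⟩
  have hcases : ∀ r : ℕ, r.Prime → r ∣ Nat.card G →
      Nat.card (Sylow r G) = 18 ∨ Nat.card (Sylow r G) = 136 ∨ Nat.card (Sylow r G) = 153 := by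
    intro r hr hd
    have h : Nat.card (Sylow r G) ∈ ({18, 136, 153} : Set ℕ) := by
      rw [← hNS]; exact ⟨r, hr, hd, rfl⟩
    simpa using h
  have hdvdall : ∀ c ∈ ({18, 136, 153} : Set ℕ), c ∣ Nat.card G := by
    intro c hc
    rw [← hNS] at hc
    obtain ⟨r, hr, -, rfl⟩ := hc
    haveI : Fact r.Prime := ⟨hr⟩
    obtain ⟨P⟩ : Nonempty (Sylow r G) := inferInstance
    rw [CfsgLib.SylSeventeen.card_eq_index P]
    exact Subgroup.index_dvd_card _
  have hd2 : 2 ∣ Nat.card G := (show 2 ∣ 18 by norm_num).trans (hdvdall 18 (by simp))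
  have hd3 : 3 ∣ Nat.card G := (show 3 ∣ 18 by norm_num).trans (hdvdall 18 (by simp))
  have hd17 : 17 ∣ Nat.card G := (show 17 ∣ 153 by norm_num).trans (hdvdall 153 (by simp))
  have hn2 : Nat.card (Sylow 2 G) = 153 := by
    have hm := card_sylow_modEq_one 2 G
    rcases hcases 2 Nat.prime_two hd2 with h | h | h <;> rw [h] at hm ⊢ <;> revert hm <;> unfold Nat.ModEq <;> norm_num
  have hn3 : Nat.card (Sylow 3 G) = 136 := by
    have hm := card_sylow_modEq_one 3 G
    rcases hcases 3 Nat.prime_three hd3 with h | h | h <;> rw [h] at hm ⊢ <;> revert hm <;> unfold Nat.ModEq <;> norm_num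
  have hn17 : Nat.card (Sylow 17 G) = 18 := by
    have hm := card_sylow_modEq_one 17 G
    rcases hcases 17 h17.out hd17 with h | h | h <;> rw [h] at hm ⊢ <;> revert hm <;> unfold Nat.ModEq <;> norm_num
  -- the action on the Sylow 17-subgroups
  set φ : G →* Equiv.Perm (Sylow 17 G) := MulAction.toPermHom G (Sylow 17 G) with hφ
  obtain ⟨P⟩ : Nonempty (Sylow 17 G) := inferInstance
  obtain ⟨Q₀, hQ₀⟩ : ∃ Q : Sylow 17 G, Q ≠ P := by
    haveI : Nontrivial (Sylow 17 G) := Finite.one_lt_card_iff_nontrivial.1 (by omega)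
    exact exists_ne P
  obtain ⟨y, hyP, hy⟩ : ∃ y ∈ (P : Subgroup G), φ y ≠ 1 := by
    by_contra h
    push Not at h
    refine hQ₀ (CfsgLib.SylSeventeen.eq_of_le_normalizer P Q₀ fun y hy => ?_).symm
    exact CfsgLib.SylSeventeen.smul_eq_iff.1 (DFunLike.congr_fun (h y hy) Q₀)
  set σ := φ y with hσ
  have hcardperm : Nat.card (Equiv.Perm (Sylow 17 G)) = Nat.factorial 18 := by rw [Nat.card_perm, hn17]
  have hpgmap : IsPGroup 17 ((P : Subgroup G).map φ) := P.isPGroup'.map φ
  have hPcard : Nat.card ((P : Subgroup G).map φ) = 17 := by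
    obtain ⟨m, hm⟩ := IsPGroup.iff_card.1 hpgmap
    have h1 : 17 ^ m ∣ Nat.factorial 18 := hcardperm ▸ hm ▸ Subgroup.card_subgroup_dvd_card _
    have h2 : m ≠ 0 := by
      rintro rfl
      rw [pow_zero, Subgroup.card_eq_one] at hm
      exact hy (Subgroup.mem_bot.1 (hm ▸ Subgroup.mem_map_of_mem φ hyP))
    rcases Nat.lt_or_ge m 2 with hm2 | hm2
    · rw [hm, show m = 1 by omega, pow_one]
    · have h3 := (pow_dvd_pow 17 hm2).trans h1
      norm_num [Nat.factorial_succ] at h3
  have hzp : Subgroup.zpowers σ = (P : Subgroup G).map φ := by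
    refine Subgroup.eq_of_le_of_card_ge (Subgroup.zpowers_le.2 (Subgroup.mem_map_of_mem φ hyP)) ?_
    have h1 : orderOf σ ∣ 17 := by
      have := orderOf_dvd_natCard (⟨σ, Subgroup.mem_map_of_mem φ hyP⟩ : ↥((P : Subgroup G).map φ))
      rwa [← Subgroup.orderOf_coe, hPcard] at this
    rcases (Nat.dvd_prime h17.out).1 h1 with h | h
    · exact absurd (orderOf_eq_one_iff.1 h) hy
    · rw [Nat.card_zpowers, h, hPcard]
  have hσ17 : σ ^ 17 = 1 := by
    have := pow_card_eq_one' (x := (⟨σ, Subgroup.mem_map_of_mem φ hyP⟩ : ↥((P : Subgroup G).map φ)))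
    rw [hPcard] at this
    exact congrArg Subtype.val this
  have hσP : σ P = P := CfsgLib.SylSeventeen.smul_eq_iff.2 (Subgroup.le_normalizer hyP)
  have hNX : ∀ x ∈ φ.range, x P = P → x * σ * x⁻¹ ∈ Subgroup.zpowers σ := by
    rintro x ⟨g, rfl⟩ hg
    have hgN := CfsgLib.SylSeventeen.smul_eq_iff.1 hg
    rw [hzp, hσ, ← map_inv, ← map_mul, ← map_mul]
    exact Subgroup.mem_map_of_mem φ ((Subgroup.mem_normalizer_iff.1 hgN y).1 hyP)
  obtain ⟨hX, D, hDn, hDc, ⟨eD⟩⟩ := CfsgLib.SylSeventeen.perm_group hn17 φ.range P σ ⟨y, rfl⟩ hσP hσ17 hy hNX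
    (fun b => by
      obtain ⟨g, hg⟩ := MulAction.exists_smul_eq G P b
      exact ⟨φ g, ⟨g, rfl⟩, hg⟩) hF
  set f := φ.rangeRestrict with hf
  have hfs : Function.Surjective f := φ.rangeRestrict_surjective
  obtain ⟨hp2, hp3⟩ := CfsgLib.SylSeventeen.card_sylow_PSL (F := F) hF
  have hX2 : Nat.card (Sylow 2 ↥φ.range) = Nat.card (Sylow 2 G) := by
    refine Nat.dvd_antisymm (CfsgLib.SylSeventeen.card_sylow_image_dvd f hfs) ?_
    have hle := Nat.le_of_dvd Nat.card_pos (CfsgLib.SylSeventeen.card_sylow_image_dvd (p := 2) f hfs)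
    have hge := CfsgLib.SylSeventeen.card_sylow_le_of_injective (p := 2) (D.subtype.comp eD.symm.toMonoidHom)
      (D.subtype_injective.comp eD.symm.injective)
    rw [show Nat.card (Sylow 2 G) = Nat.card (Sylow 2 ↥φ.range) by omega]
  have hX3 : Nat.card (Sylow 3 ↥φ.range) = Nat.card (Sylow 3 G) := by
    have hle := Nat.le_of_dvd Nat.card_pos (CfsgLib.SylSeventeen.card_sylow_image_dvd (p := 3) f hfs)
    have hge := CfsgLib.SylSeventeen.card_sylow_le_of_injective (p := 3) (D.subtype.comp eD.symm.toMonoidHom)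
      (D.subtype_injective.comp eD.symm.injective)
    omega
  have hkerf : f.ker = φ.ker := φ.ker_rangeRestrict
  have hK17 : ∀ R : Sylow 17 G, φ.ker ≤ Subgroup.normalizer ((R : Subgroup G) : Set G) := fun R k hk =>
    CfsgLib.SylSeventeen.smul_eq_iff.1 (DFunLike.congr_fun (MonoidHom.mem_ker.1 hk) R)
  have hK2 : ∀ R : Sylow 2 G, φ.ker ≤ Subgroup.normalizer ((R : Subgroup G) : Set G) := fun R =>
    hkerf ▸ CfsgLib.SylSeventeen.ker_le_normalizer f hfs hX2 R
  have hK3 : ∀ R : Sylow 3 G, φ.ker ≤ Subgroup.normalizer ((R : Subgroup G) : Set G) := fun R =>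
    hkerf ▸ CfsgLib.SylSeventeen.ker_le_normalizer f hfs hX3 R
  -- the prime divisors
  have hprimes : ∀ r : ℕ, r.Prime → r ∣ Nat.card G → r = 2 ∨ r = 3 ∨ r = 17 := by
    intro r hr hrd
    haveI : Fact r.Prime := ⟨hr⟩
    by_contra hne
    push Not at hne
    obtain ⟨hne2, hne3, hne17⟩ := hne
    have hmod := card_sylow_modEq_one r G
    obtain ⟨s, v, hsp, hsr, hv, hbad⟩ : ∃ s v : ℕ, s.Prime ∧ (∀ R : Sylow s G, φ.ker ≤ Subgroup.normalizer ((R : Subgroup G) : Set G)) ∧
        (Nat.card (Sylow r G)).factorization s = v ∧ ¬ (s ^ v ≡ 1 [MOD r]) := by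
      have hr18 : ∀ n : ℕ, n = Nat.card (Sylow r G) → r ∣ n - 1 := by
        rintro n rfl
        exact (Nat.modEq_iff_dvd' Nat.card_pos).1 hmod.symm
      rcases hcases r hr hrd with h | h | h
      · have := hr18 18 h.symm
        rw [show 18 - 1 = 17 from rfl, Nat.prime_dvd_prime_iff_eq hr h17.out] at this
        exact absurd this hne17
      · have := hr18 136 h.symm
        rw [show 136 - 1 = 3 ^ 3 * 5 from rfl, hr.dvd_mul] at this
        rcases this with h' | h'
        · exact absurd ((Nat.prime_dvd_prime_iff_eq hr Nat.prime_three).1 (hr.dvd_of_dvd_pow h')) hne3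
        · obtain rfl := (Nat.prime_dvd_prime_iff_eq hr (by norm_num)).1 h'
          refine ⟨2, 3, Nat.prime_two, hK2, ?_, by decide⟩
          rw [h, show (136 : ℕ) = 2 ^ 3 * 17 by norm_num, Nat.factorization_mul (by norm_num) (by norm_num),
            Nat.prime_two.factorization_pow, Finsupp.add_apply, Finsupp.single_eq_same,
            Nat.factorization_eq_zero_of_not_dvd (by norm_num : ¬ 2 ∣ 17)]
      · have := hr18 153 h.symm
        rw [show 153 - 1 = 2 ^ 3 * 19 from rfl, hr.dvd_mul] at this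
        rcases this with h' | h'
        · exact absurd ((Nat.prime_dvd_prime_iff_eq hr Nat.prime_two).1 (hr.dvd_of_dvd_pow h')) hne2
        · obtain rfl := (Nat.prime_dvd_prime_iff_eq hr (by norm_num)).1 h'
          refine ⟨3, 2, Nat.prime_three, hK3, ?_, by decide⟩
          rw [h, show (153 : ℕ) = 3 ^ 2 * 17 by norm_num, Nat.factorization_mul (by norm_num) (by norm_num),
            Nat.prime_three.factorization_pow, Finsupp.add_apply, Finsupp.single_eq_same,
            Nat.factorization_eq_zero_of_not_dvd (by norm_num : ¬ 3 ∣ 17)]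
    haveI : Fact s.Prime := ⟨hsp⟩
    have hsner : s ≠ r := by
      rintro rfl
      have h0 : ¬ s ∣ Nat.card (Sylow s G) := not_dvd_card_sylow s G
      rw [Nat.factorization_eq_zero_of_not_dvd h0] at hv
      subst hv
      exact hbad (by rw [pow_zero])
    have hrX : ¬ r ∣ Nat.card ↥φ.range := by
      intro h
      have := h.trans hX
      rw [show 4896 = 2 ^ 5 * (3 ^ 2 * 17) from rfl, hr.dvd_mul, hr.dvd_mul] at this
      rcases this with h' | h' | h'
      · exact hne2 ((Nat.prime_dvd_prime_iff_eq hr Nat.prime_two).1 (hr.dvd_of_dvd_pow h'))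
      · exact hne3 ((Nat.prime_dvd_prime_iff_eq hr Nat.prime_three).1 (hr.dvd_of_dvd_pow h'))
      · exact hne17 ((Nat.prime_dvd_prime_iff_eq hr h17.out).1 h')
    obtain ⟨Q⟩ : Nonempty (Sylow r G) := inferInstance
    obtain ⟨R⟩ : Nonempty (Sylow s G) := inferInstance
    have hQK : (Q : Subgroup G) ≤ φ.ker := by
      intro x hx
      rw [MonoidHom.mem_ker, ← orderOf_eq_one_iff]
      obtain ⟨m, hm⟩ := IsPGroup.iff_orderOf.1 (Q.isPGroup'.map φ) ⟨φ x, Subgroup.mem_map_of_mem φ hx⟩
      rw [← Subgroup.orderOf_coe] at hm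
      rcases Nat.eq_zero_or_pos m with rfl | hm0
      · simpa using hm
      · exfalso
        refine hrX (dvd_trans (dvd_pow_self r (by omega : m ≠ 0)) ?_)
        have := orderOf_dvd_natCard (⟨φ x, ⟨x, rfl⟩⟩ : ↥φ.range)
        rwa [← Subgroup.orderOf_coe, hm] at this
    exact hbad (CfsgLib.SylSeventeen.part_modEq_one φ.ker hsner Q hQK R hsr hv)
  -- the kernel is trivial
  have hKall : ∀ r : ℕ, r.Prime → r ∣ Nat.card G → ∀ R : Sylow r G, φ.ker ≤ Subgroup.normalizer ((R : Subgroup G) : Set G) := by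
    intro r hr hrd R
    rcases hprimes r hr hrd with rfl | rfl | rfl
    · exact hK2 R
    · exact hK3 R
    · exact hK17 R
  have hker : φ.ker = ⊥ := CfsgLib.SylSeventeen.eq_bot_of_normalizes_all hZ φ.ker hKall
  -- identification
  let eG : G ≃* ↥φ.range :=
    MonoidHom.ofInjective ((MonoidHom.ker_eq_bot_iff φ).1 hker)
  haveI := hDn
  have hDcard : Nat.card D = 2448 := by
    rw [Nat.card_congr eD.toEquiv, CfsgLib.SylSeventeen.card_PSL_seventeen hF]
  have hDle := Subgroup.index_mul_card D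
  rw [hDcard] at hDle
  obtain ⟨k, hk⟩ := hX
  have hki : D.index * k = 2 := by nlinarith
  rcases (Nat.dvd_prime Nat.prime_two).1 (Dvd.intro k hki) with hi | hi
  · left
    rw [Subgroup.index_eq_one] at hi
    exact ⟨eG.trans ((Subgroup.topEquiv.symm.trans (MulEquiv.subgroupCongr hi.symm)).trans eD)⟩
  · right
    let α : ↥φ.range →* MulAut ↥D := MulAut.conjNormal
    have hα : Function.Injective α := by
      rw [← MonoidHom.ker_eq_bot_iff, Subgroup.eq_bot_iff_forall]
      intro x hx
      have : x ∈ Subgroup.centralizer (D : Set ↥φ.range) := fun d hd => by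
        have h' : x * d * x⁻¹ = d := congrArg Subtype.val (DFunLike.congr_fun hx (⟨d, hd⟩ : ↥D))
        exact (mul_inv_eq_iff_eq_mul.1 h').symm
      rwa [hDc, Subgroup.mem_bot] at this
    let ψ : ↥φ.range →* MulAut (Matrix.ProjectiveSpecialLinearGroup (Fin 2) F) :=
      (MulAut.congr eD).toMonoidHom.comp α
    have hψ : Function.Injective ψ := (MulAut.congr eD).injective.comp hα
    let β := CfsgLib.AutPSL.conjPSL (F := F) (n := 2)
    have hcardAut : Nat.card (MulAut (Matrix.ProjectiveSpecialLinearGroup (Fin 2) F)) = Nat.card β.range := by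
      rw [CfsgLib.AutPSL.card_range_conjPSL le_rfl, CfsgLib.AutPSL.card_mulAut le_rfl,
        CfsgLib.AutPSL.card_ringAut F (p := 17) (f := 1) (by rw [hF, pow_one]), if_pos rfl, one_mul, one_mul]
    have hβ : β.range = ⊤ := Subgroup.eq_top_of_card_eq _ hcardAut.symm
    have hβs : Function.Surjective β := MonoidHom.range_eq_top.1 hβ
    have hβk : β.ker = Subgroup.center (GL (Fin 2) F) := by
      have hle : Subgroup.center (GL (Fin 2) F) ≤ β.ker := by
        intro z hz
        refine MonoidHom.mem_ker.2 (MulEquiv.ext fun x => ?_)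
        obtain ⟨w, rfl⟩ := CfsgLib.AutPSL.proj_surjective x
        show CfsgLib.AutPSL.proj (CfsgLib.AutPSL.conjSL z w) = CfsgLib.AutPSL.proj w
        congr 1
        refine Subtype.ext ?_
        rw [CfsgLib.AutPSL.conjSL_val]
        have := congrArg Units.val ((Subgroup.mem_center_iff.1 hz) (Matrix.SpecialLinearGroup.toGL w))
        simp only [Units.val_mul, Matrix.SpecialLinearGroup.coe_GL_coe_matrix] at this
        rw [← this, mul_assoc, ← Units.val_mul, mul_inv_cancel, Units.val_one, mul_one]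
      refine (Subgroup.eq_of_le_of_card_ge hle ?_).symm
      have h1 := Subgroup.card_mul_index β.ker
      rw [Subgroup.index_ker, CfsgLib.AutPSL.card_range_conjPSL le_rfl] at h1
      have h2 := Subgroup.card_mul_index (Subgroup.center (GL (Fin 2) F))
      rw [← h2] at h1
      change Nat.card β.ker * (Subgroup.center (GL (Fin 2) F)).index = _ at h1
      exact (Nat.eq_of_mul_eq_mul_right (Nat.pos_of_ne_zero Subgroup.index_ne_zero_of_finite) h1).le
    let eA : GL (Fin 2) F ⧸ Subgroup.center (GL (Fin 2) F) ≃* MulAut (Matrix.ProjectiveSpecialLinearGroup (Fin 2) F) :=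
      (QuotientGroup.quotientMulEquivOfEq hβk.symm).trans (QuotientGroup.quotientKerEquivOfSurjective β hβs)
    refine ⟨eG.trans ((MulEquiv.ofBijective ψ ((Nat.bijective_iff_injective_and_card ψ).2 ⟨hψ, ?_⟩)).trans eA.symm)⟩
    rw [← Nat.card_congr eA.toEquiv]
    rw [hi] at hDle
    rw [← hDle]
    have h1 := Subgroup.card_mul_index (Subgroup.center (GL (Fin 2) F))
    have h2 : Nat.card (GL (Fin 2) F) = 78336 := by
      rw [Matrix.card_GL_field, Fin.prod_univ_two, hF]; norm_num
    have h3 : Nat.card (Subgroup.center (GL (Fin 2) F)) = 16 := by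
      rw [Matrix.GeneralLinearGroup.center_eq_range_scalar,
        ← Nat.card_congr (MonoidHom.ofInjective (f := Matrix.GeneralLinearGroup.scalar (Fin 2) (R := F)) (fun u v huv => by
          have h := congrArg (fun m : GL (Fin 2) F => (m : Matrix (Fin 2) (Fin 2) F) 0 0) huv
          exact Units.ext (by simpa [Matrix.GeneralLinearGroup.scalar] using h))).toEquiv,
        Nat.card_units, Nat.card_eq_fintype_card, hF]
    have h4 : (Subgroup.center (GL (Fin 2) F)).index = 4896 := by rw [h2, h3] at h1; omega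
    exact h4.symm

end Cfsg.Agent.S3641
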