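import Cfsg.Statements.S3669
import Cfsg.Agent.S0252
import Cfsg.Agent.S0493
import Cfsg.Agent.S4811
import Cfsg.Agent.SL2Char.DegreeGraph
import Cfsg.Agent.H29.Dickson.GroupIso

set_option autoImplicit false
open Cfsg

namespace Cfsg.Agent.S3669

universe uG

private theorem small_or_simple {G : Type uG} [Group G] [Finite G] (hns : ¬ Group.IsSolvable G)
    (ih : ∀ (H : Type uG) [Group H] [Finite H], Nat.card H < Nat.card G → Group.IsSolvable H) :
    IsSimpleGroup G := by
  haveI : Nontrivial G := by
    by_contra h
    haveI := not_nontrivial_iff_subsingleton.1 h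
    exact hns inferInstance
  refine ⟨fun N hN => ?_⟩
  by_contra hcon
  push_neg at hcon
  obtain ⟨h1, h2⟩ := hcon
  haveI : Group.IsSolvable N := ih N (lt_of_le_of_ne (Nat.le_of_dvd Nat.card_pos (Subgroup.card_subgroup_dvd_card N))
    fun e => h2 (Subgroup.eq_top_of_card_eq N e))
  haveI : Group.IsSolvable (G ⧸ N) := ih (G ⧸ N) (by
    have h3 := N.card_mul_index
    have h4 : 1 < Nat.card N := Subgroup.one_lt_card_iff_ne_bot _ |>.2 h1
    rw [Subgroup.index] at h3
    have h5 : 0 < Nat.card (G ⧸ N) := Nat.card_pos
    nlinarith)
  exact hns ((Group.isSolvable_iff_subgroup_quotient N).2 ⟨inferInstance, inferInstance⟩)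

private theorem solvable_of_lt_sixty : ∀ (n : ℕ) (G : Type uG) [Group G] [Finite G], Nat.card G = n → n < 60 →
    Group.IsSolvable G := by
  intro n
  induction n using Nat.strong_induction_on with
  | _ n ih =>
    intro G _ _ hn h60
    by_contra hns
    haveI := small_or_simple hns fun H _ _ hH => ih _ (hn ▸ hH) H rfl (by omega)
    by_cases hc : IsCyclic G
    · exact hns (Group.isSolvable_of_comm (G := G) fun a b => (IsCyclic.commGroup (α := G)).mul_comm a b)
    · have := Cfsg.Agent.S0493.result hc (by omega)
      omega

/-- The character degree graph of a finite group has as vertices the primes dividing some irreducible complex character degree, two distinct primes being joined when their product divides some irreducible character degree; two groups have the same character degree graph when they have the same vertices and the same joined pairs. A finite group of order 60 with the same character degree graph as the alternating group A₅ (whose character degrees are 1, 3, 4, 5, so the graph has vertices 2, 3, 5 and no edges) is isomorphic to A₅. -/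
theorem result {G : Type*} [Group G] [Finite G] (hcard : Nat.card G = 60)
    (hΓ : Cfsg.degreePrimes G = Cfsg.degreePrimes (alternatingGroup (Fin 5)) ∧ Cfsg.degreeGraph G = Cfsg.degreeGraph (alternatingGroup (Fin 5))) : Nonempty (G ≃* alternatingGroup (Fin 5)) := by
  classical
  haveI : Fintype (GaloisField 2 2) := Fintype.ofFinite _
  have hF : Fintype.card (GaloisField 2 2) = 4 := by
    rw [← Nat.card_eq_fintype_card, GaloisField.card 2 2 (by norm_num)]
    norm_num
  obtain ⟨e⟩ := Cfsg.Agent.S0252.result hF
  obtain ⟨hp, hadj⟩ := CfsgLib.SL2Char.degree_graph (F := GaloisField 2 2) (by omega) (by omega)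
    (S := alternatingGroup (Fin 5)) (Or.inl ⟨e.symm⟩)
  rw [hF] at hp hadj
  have hno : ∀ r s, ¬ (Cfsg.degreeGraph G).Adj r s := by
    intro r s h
    rw [hΓ.2] at h
    obtain ⟨hne, hr, hs, h1⟩ := (hadj r s).1 h
    rcases h1 with ⟨a, b⟩ | ⟨a, b⟩
    · exact hne (((Nat.prime_dvd_prime_iff_eq hr (by norm_num : Nat.Prime 5)).1 a).trans
        ((Nat.prime_dvd_prime_iff_eq hs (by norm_num : Nat.Prime 5)).1 b).symm)
    · exact hne (((Nat.prime_dvd_prime_iff_eq hr (by norm_num : Nat.Prime 3)).1 a).trans
        ((Nat.prime_dvd_prime_iff_eq hs (by norm_num : Nat.Prime 3)).1 b).symm)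
  have hns : ¬ Group.IsSolvable G := by
    intro hs
    have hle := Cfsg.Agent.S4811.result (G := G)
    have hmem : ∀ r : ℕ, r.Prime → r ∣ 60 → r ∈ Cfsg.degreePrimes G := fun r hr hd => by
      rw [hΓ.1, hp]; exact ⟨hr, by norm_num; exact hd⟩
    let f : Fin 3 → ((Cfsg.degreeGraph G).induce (Cfsg.degreePrimes G)).ConnectedComponent :=
      ![SimpleGraph.connectedComponentMk _ ⟨2, hmem 2 Nat.prime_two (by norm_num)⟩,
        SimpleGraph.connectedComponentMk _ ⟨3, hmem 3 Nat.prime_three (by norm_num)⟩,
        SimpleGraph.connectedComponentMk _ ⟨5, hmem 5 (by norm_num) (by norm_num)⟩]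
    have heq : ∀ a b : Cfsg.degreePrimes G, ((Cfsg.degreeGraph G).induce (Cfsg.degreePrimes G)).Reachable a b → a = b := by
      rintro a b ⟨w⟩
      cases w with
      | nil => rfl
      | cons h _ => exact absurd h (hno _ _)
    have hf : Function.Injective f := by
      intro i j hij
      fin_cases i <;> fin_cases j <;> first
        | rfl
        | (exfalso
           have := congrArg Subtype.val (heq _ _ (SimpleGraph.ConnectedComponent.exact hij))
           simp at this)
    haveI : Finite (Cfsg.degreePrimes G) := by
      rw [hΓ.1, hp]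
      exact Set.Finite.to_subtype (Set.Finite.subset (Set.finite_Iic 60) fun r hr => Nat.le_of_dvd (by norm_num) (by simpa using hr.2))
    have := Nat.card_le_card_of_injective f hf
    rw [Nat.card_eq_fintype_card, Fintype.card_fin] at this
    omega
  haveI := small_or_simple hns fun H _ _ hH => solvable_of_lt_sixty _ H rfl (by omega)
  exact CfsgLib.H29.Dickson.iso_alternating_five_of_simple hcard

end Cfsg.Agent.S3669
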