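import Cfsg.Statements.S3682
import Mathlib
import Cfsg.Agent.ThompsonWielandt.Perm

set_option autoImplicit false
open Cfsg

namespace Cfsg.Agent.S3682

/-- Wielandt's bound toward the Sims conjecture. Let a finite group G act faithfully and primitively on a set Ω, let a and b be points, and suppose the orbit of b under the stabilizer of a has length d ≥ 2. Then there are a prime p and a normal p-subgroup P of the stabilizer of a, all of whose elements fix b, such that the index of P in the stabilizer of a divides d! · ((d - 1)!)^d. -/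
theorem result {G Ω : Type*} [Group G] [Finite G] [MulAction G Ω] [FaithfulSMul G Ω] [Finite Ω]
    (hprim : MulAction.IsPreprimitive G Ω) (a b : Ω) (d : ℕ) (hd : Nat.card (MulAction.orbit (MulAction.stabilizer G a) b) = d) (h2 : 2 ≤ d) :
    ∃ p : ℕ, p.Prime ∧ ∃ P : Subgroup (MulAction.stabilizer G a), P.Normal ∧ IsPGroup p P ∧ (∀ g : P, ((g : MulAction.stabilizer G a) : G) • b = b) ∧
      P.index ∣ Nat.factorial d * (Nat.factorial (d - 1)) ^ d := by
  obtain ⟨g, -, hmax, hc, hN, hne, hd'⟩ := CfsgLib.ThompsonWielandt.orbital hprim a b d hd h2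
  rcases CfsgLib.ThompsonWielandt.two_ne_bot_or_card_dvd hprim a b d hd h2 with ⟨h1, h1'⟩ | h
  · obtain ⟨p, hp, h3, -⟩ := CfsgLib.ThompsonWielandt.main_conj hmax hc g hN hne h1 h1'
    refine ⟨p, hp, (CfsgLib.ThompsonWielandt.two (MulAction.stabilizer G a) (MulAction.stabilizer G b)).subgroupOf
      (MulAction.stabilizer G a), (Subgroup.normal_subgroupOf_iff_le_normalizer
        (CfsgLib.ThompsonWielandt.core_le _ _)).2 (CfsgLib.ThompsonWielandt.le_normalizer_core _ _), ?_, ?_, ?_⟩
    · exact h3.of_equiv (Subgroup.subgroupOfEquivOfLe (CfsgLib.ThompsonWielandt.core_le _ _)).symm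
    · exact fun x => CfsgLib.ThompsonWielandt.one_le_right _ _ (CfsgLib.ThompsonWielandt.two_le_one _ _ x.2)
    · exact CfsgLib.ThompsonWielandt.relIndex_two_dvd a b d hd hd'
  · refine ⟨2, Nat.prime_two, ⊥, inferInstance, IsPGroup.of_bot, fun x => ?_, ?_⟩
    · rw [Subgroup.mem_bot.1 x.2, OneMemClass.coe_one, one_smul]
    · rw [Subgroup.index_bot]
      exact h

end Cfsg.Agent.S3682
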