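import Cfsg.Statements.S3687
import Cfsg.Agent.AltSubcon.Main
import Cfsg.Agent.ThompsonWielandt.Perm

set_option autoImplicit false
open Cfsg

namespace Cfsg.Agent.S3687

/-- Let a finite group G act faithfully and primitively on a set Ω, let a and b be points such that the orbit Δ of b under the stabilizer H of a has d ≥ 6 elements, and suppose that the permutation group induced by H on Δ contains the alternating group of Δ (the image of H in the symmetric group of Δ has index at most 2) while H does not act faithfully on Δ. Then either H induces exactly the alternating group of Δ and H is isomorphic to the direct product of the alternating groups of degrees d and d - 1; or H induces the full symmetric group of Δ and H is isomorphic to one of: the direct product of the symmetric groups of degrees d and d - 1, the direct product of the symmetric group of degree d with the alternating group of degree d - 1, or the subgroup of the direct product of the symmetric groups of degrees d and d - 1 consisting of the pairs of permutations with equal signs. -/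
theorem result {G Ω : Type*} [Group G] [Finite G] [MulAction G Ω] [FaithfulSMul G Ω] [Finite Ω]
    (hprim : MulAction.IsPreprimitive G Ω) (a b : Ω) (d : ℕ) (hd : Nat.card (MulAction.orbit (MulAction.stabilizer G a) b) = d) (h6 : 6 ≤ d)
    (halt : (MulAction.toPermHom (MulAction.stabilizer G a) (MulAction.orbit (MulAction.stabilizer G a) b)).range.index ≤ 2)
    (hunf : ¬ Function.Injective (MulAction.toPermHom (MulAction.stabilizer G a) (MulAction.orbit (MulAction.stabilizer G a) b))) :
    ((MulAction.toPermHom (MulAction.stabilizer G a) (MulAction.orbit (MulAction.stabilizer G a) b)).range.index = 2 ∧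
      Nonempty (MulAction.stabilizer G a ≃* alternatingGroup (Fin d) × alternatingGroup (Fin (d - 1)))) ∨
    ((MulAction.toPermHom (MulAction.stabilizer G a) (MulAction.orbit (MulAction.stabilizer G a) b)).range = ⊤ ∧
      (Nonempty (MulAction.stabilizer G a ≃* Equiv.Perm (Fin d) × Equiv.Perm (Fin (d - 1))) ∨
       Nonempty (MulAction.stabilizer G a ≃* Equiv.Perm (Fin d) × alternatingGroup (Fin (d - 1))) ∨
       Nonempty (MulAction.stabilizer G a ≃* ((Equiv.Perm.sign.comp (MonoidHom.fst (Equiv.Perm (Fin d)) (Equiv.Perm (Fin (d - 1))))) *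
         (Equiv.Perm.sign.comp (MonoidHom.snd (Equiv.Perm (Fin d)) (Equiv.Perm (Fin (d - 1)))))).ker))) := by
  obtain ⟨g, -, hmax, hc, hN, hne, -⟩ := CfsgLib.ThompsonWielandt.orbital hprim a b d hd (by omega)
  set M := MulAction.stabilizer G a
  set N := MulAction.stabilizer G b
  set F := MulAction.toPermHom ↥M (MulAction.orbit ↥M b) with hF
  have hidx : ((M ⊓ N).subgroupOf M).index = d := by
    have h1 := CfsgLib.ThompsonWielandt.card_orbit_mul M b
    have h2 := ((M ⊓ N).subgroupOf M).card_mul_index
    rw [Nat.card_congr (Subgroup.subgroupOfEquivOfLe inf_le_left).toEquiv, ← h1, hd, mul_comm d] at h2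
    exact Nat.eq_of_mul_eq_mul_left Nat.card_pos h2
  have hker : F.ker = (CfsgLib.ThompsonWielandt.one M N).subgroupOf M := by
    ext x
    constructor
    · intro hx
      exact CfsgLib.ThompsonWielandt.mem_one_of_fixes x.2 fun y hy =>
        congrArg Subtype.val (Equiv.ext_iff.1 (show F x = 1 from hx) ⟨y, hy⟩)
    · intro hx
      refine Equiv.ext fun y => Subtype.ext ?_
      obtain ⟨m, hm⟩ := y.2
      have h1 := (Subgroup.mem_inf.1 ((CfsgLib.ThompsonWielandt.mem_core.1 hx).2 _ (inv_mem m.2))).2
      rw [inv_inv, MulAction.mem_stabilizer_iff, mul_smul, mul_smul, inv_smul_eq_iff] at h1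
      show (x : G) • (y : Ω) = (y : Ω)
      rw [← hm]
      exact h1
  haveI : Finite (MulAction.orbit ↥M b) := Subtype.finite
  have hrange : Nat.card (Equiv.Perm (MulAction.orbit ↥M b)) ≤ 2 * (CfsgLib.ThompsonWielandt.one M N).relIndex M := by
    have h1 := F.range.card_mul_index
    have h2 : Nat.card F.range = (CfsgLib.ThompsonWielandt.one M N).relIndex M := by
      rw [← Subgroup.index_ker, hker]; rfl
    have h3 : Nat.card F.range * F.range.index ≤ Nat.card F.range * 2 := Nat.mul_le_mul_left _ halt
    omega
  have hbig : CfsgLib.AltSubcon.Big M N := by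
    refine ⟨hidx.ge.trans' h6, ?_⟩
    rwa [hidx, ← hd, ← Nat.card_perm]
  have hK : CfsgLib.ThompsonWielandt.one M N ≠ ⊥ := fun h0 => hunf (by
    rw [← MonoidHom.ker_eq_bot_iff]
    show F.ker = ⊥
    rw [hker, h0, Subgroup.bot_subgroupOf])
  have hconj := CfsgLib.AltSubcon.cj_one_of_big g hN.symm hmax hc hne hbig
  have hbig' : CfsgLib.AltSubcon.Big N M := by
    have e1 : ((N ⊓ M).subgroupOf N).index = d := by
      have h1 := ((N ⊓ M).subgroupOf N).card_mul_index
      have h2 := ((M ⊓ N).subgroupOf M).card_mul_index
      have h3 : Nat.card ((N ⊓ M).subgroupOf N) = Nat.card ((M ⊓ N).subgroupOf M) := by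
        rw [Nat.card_congr (Subgroup.subgroupOfEquivOfLe inf_le_left).toEquiv,
          Nat.card_congr (Subgroup.subgroupOfEquivOfLe inf_le_left).toEquiv, inf_comm]
      have h4 : Nat.card N = Nat.card M := by
        rw [hN]; exact Subgroup.card_map_of_injective (MulAut.conj g).injective
      rw [h3, h4, ← h2, hidx] at h1
      exact Nat.eq_of_mul_eq_mul_left Nat.card_pos h1
    refine ⟨e1.ge.trans' h6, ?_⟩
    rw [e1, ← hconj]
    have e2 : (CfsgLib.AltSubcon.cj g (CfsgLib.ThompsonWielandt.one M N)).relIndex N =
        (CfsgLib.ThompsonWielandt.one M N).relIndex M := by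
      rw [hN]; exact Subgroup.relIndex_map_map_of_injective _ _ (MulAut.conj g).injective
    rw [e2, ← hd, ← Nat.card_perm]
    exact hrange
  rcases CfsgLib.AltSubcon.structure_cases (M := M) (N := N) (g := g)
    ⟨hN.symm, hconj, hbig, hbig', hmax, hc, hne, hK⟩ hidx hd F hker ⟨b, MulAction.mem_orbit_self b⟩
    (fun m => ⟨fun h => congrArg Subtype.val h, fun h => Subtype.ext h⟩) with ⟨h1, h2⟩ | ⟨h1, h2 | h2⟩
  · exact Or.inl ⟨h1, h2⟩
  · exact Or.inr ⟨h1, Or.inl h2⟩
  · exact Or.inr ⟨h1, Or.inr (Or.inr h2)⟩

end Cfsg.Agent.S3687
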