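import Cfsg.Statements.S3693
import Mathlib
import Cfsg.Agent.ThompsonWielandt.Perm

set_option autoImplicit false
open Cfsg

namespace Cfsg.Agent.S3693

/-- Let a finite group G act faithfully and primitively on a set Ω, let a and b be points such that the orbit Δ of b under the stabilizer H of a has length d ≥ 2, and consider the permutation group induced on Δ by the elements of H fixing b. If that induced group has trivial Fitting subgroup (no non-trivial nilpotent normal subgroup), then the two-point stabilizer of a and b has trivial Fitting subgroup and the order of H divides d! · ((d - 1)!)^d. -/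
theorem result {G Ω : Type*} [Group G] [Finite G] [MulAction G Ω] [FaithfulSMul G Ω] [Finite Ω]
    (hprim : MulAction.IsPreprimitive G Ω) (a b : Ω) (d : ℕ) (hd : Nat.card (MulAction.orbit (MulAction.stabilizer G a) b) = d) (h2 : 2 ≤ d)
    (hF : Cfsg.fittingSubgroup ↥(((MulAction.stabilizer G b).subgroupOf (MulAction.stabilizer G a)).map (MulAction.toPermHom (MulAction.stabilizer G a) (MulAction.orbit (MulAction.stabilizer G a) b))) = ⊥) :
    Cfsg.fittingSubgroup ↥(MulAction.stabilizer G a ⊓ MulAction.stabilizer G b) = ⊥ ∧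
      Nat.card (MulAction.stabilizer G a) ∣ Nat.factorial d * (Nat.factorial (d - 1)) ^ d := by
  obtain ⟨g, -, hmax, hc, hN, hne, -⟩ := CfsgLib.ThompsonWielandt.orbital hprim a b d hd h2
  set M := MulAction.stabilizer G a with hMdef
  set N := MulAction.stabilizer G b with hNdef
  have hsM : CfsgLib.ThompsonWielandt.SelfMax M := CfsgLib.ThompsonWielandt.selfMax_of_coatom hmax hc
  have hsN : CfsgLib.ThompsonWielandt.SelfMax N := hN ▸ CfsgLib.ThompsonWielandt.selfMax_of_coatom
    (CfsgLib.ThompsonWielandt.isCoatom_map_conj hmax g) (CfsgLib.ThompsonWielandt.normalCore_map_conj hc g)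
  have hone : ∀ q : ℕ, q.Prime → CfsgLib.Components.pCoreIn q (M ⊓ N) ≤ CfsgLib.ThompsonWielandt.one M N := by
    intro q hq
    haveI := Fact.mk hq
    set π := MulAction.toPermHom ↥M (MulAction.orbit ↥M b) with hπ
    set K := (N.subgroupOf M).map π with hK
    set Q := CfsgLib.Components.pCoreIn q (M ⊓ N) with hQ
    have hQle : Q ≤ M ⊓ N := CfsgLib.Components.pCoreIn_le q _
    set P := (Q.subgroupOf M).map π with hP
    have hPK : P ≤ K := Subgroup.map_mono (Subgroup.comap_mono (hQle.trans inf_le_right))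
    have hPn : K ≤ Subgroup.normalizer (P : Set _) := by
      refine (Subgroup.map_mono ?_).trans (Subgroup.le_normalizer_map _)
      intro x hx
      have hxn := CfsgLib.ThompsonWielandt.le_normalizer_pCoreIn q (M ⊓ N) (Subgroup.mem_inf.2 ⟨x.2, hx⟩)
      exact Subgroup.mem_normalizer_iff.2 fun y => Subgroup.mem_normalizer_iff.1 hxn (y : G)
    have hPp : IsPGroup q ↥P := ((CfsgLib.Components.pCoreIn_isPGroup q (M ⊓ N)).of_equiv
      (Subgroup.subgroupOfEquivOfLe (hQle.trans inf_le_left)).symm).map π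
    haveI : (P.subgroupOf K).Normal := (Subgroup.normal_subgroupOf_iff_le_normalizer hPK).2 hPn
    have h3 : P.subgroupOf K ≤ Cfsg.pCore q ↥K :=
      le_sSup ⟨inferInstance, hPp.of_equiv (Subgroup.subgroupOfEquivOfLe hPK).symm⟩
    have h4 : P.subgroupOf K ≤ ⊥ := hF ▸ h3.trans (CfsgLib.Components.pCore_le_fittingSubgroup q)
    have h5 : P = ⊥ := (Subgroup.subgroupOf_eq_bot.1 (le_bot_iff.1 h4)).eq_bot_of_le hPK
    intro x hx
    refine CfsgLib.ThompsonWielandt.mem_one_of_fixes (hQle hx).1 fun y hy => ?_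
    have h6 : π ⟨x, (hQle hx).1⟩ = 1 := by
      have : π ⟨x, (hQle hx).1⟩ ∈ P := ⟨_, show (⟨x, (hQle hx).1⟩ : ↥M) ∈ Q.subgroupOf M from hx, rfl⟩
      rwa [h5, Subgroup.mem_bot] at this
    exact congrArg Subtype.val (Equiv.ext_iff.1 h6 ⟨y, hy⟩)
  have hcore0 : ∀ q : ℕ, q.Prime → CfsgLib.Components.pCoreIn q (M ⊓ N) = ⊥ := by
    intro q hq
    haveI := Fact.mk hq
    set Q := CfsgLib.Components.pCoreIn q (M ⊓ N) with hQ
    by_contra hne0
    have hQle : Q ≤ M ⊓ N := CfsgLib.Components.pCoreIn_le q _
    have hQM : M ≤ Subgroup.normalizer (Q : Set G) := by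
      have e : Q = CfsgLib.Components.pCoreIn q (CfsgLib.ThompsonWielandt.one M N) :=
        le_antisymm (CfsgLib.Components.le_pCoreIn (hone q hq)
          ((CfsgLib.ThompsonWielandt.core_le_left _ _).trans
            (CfsgLib.ThompsonWielandt.le_normalizer_pCoreIn q _)) (CfsgLib.Components.pCoreIn_isPGroup q _))
          (CfsgLib.ThompsonWielandt.pCoreIn_mono_normal (CfsgLib.ThompsonWielandt.core_le_left _ _)
            (inf_le_left.trans (CfsgLib.ThompsonWielandt.le_normalizer_core _ _)))
      rw [e]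
      exact (CfsgLib.ThompsonWielandt.le_normalizer_core _ _).trans
        (CfsgLib.Components.normalizer_le_normalizer_pCoreIn q _)
    have hnQ : Subgroup.normalizer (Q : Set G) ≤ M := hsM Q hne0 (hQle.trans inf_le_left) hQM
    have h1 : CfsgLib.Components.pCoreIn q N ≤ Q := by
      have h := CfsgLib.ThompsonWielandt.le_inter_of_normalizer (M := N) (N := M) (q := q)
        (by rw [inf_comm]; exact hnQ)
      rw [inf_comm] at h
      exact CfsgLib.Components.le_pCoreIn h
        (inf_le_right.trans (CfsgLib.ThompsonWielandt.le_normalizer_pCoreIn q N))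
        (CfsgLib.Components.pCoreIn_isPGroup q _)
    have h2' : Q ≤ CfsgLib.Components.pCoreIn q M :=
      CfsgLib.Components.le_pCoreIn (hQle.trans inf_le_left) hQM (CfsgLib.Components.pCoreIn_isPGroup q _)
    have e : CfsgLib.Components.pCoreIn q N = CfsgLib.Components.pCoreIn q M :=
      Subgroup.eq_of_le_of_card_ge (h1.trans h2') (by rw [hN, CfsgLib.ThompsonWielandt.card_pCoreIn_map])
    have e' : CfsgLib.Components.pCoreIn q N = Q := le_antisymm h1 (e ▸ h2')
    have hNQ : N ≤ M := (e' ▸ CfsgLib.ThompsonWielandt.le_normalizer_pCoreIn q N : N ≤ Subgroup.normalizer (Q : Set G)).trans hnQ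
    refine hne ((hmax.le_iff.1 (Subgroup.eq_of_le_of_card_ge hNQ ?_).ge).resolve_left ?_).symm
    · rw [hN]; exact (Subgroup.card_map_of_injective (MulAut.conj g).injective).ge
    · exact (hN ▸ CfsgLib.ThompsonWielandt.isCoatom_map_conj hmax g : IsCoatom N).1
  refine ⟨?_, ?_⟩
  · rw [CfsgLib.Components.fittingSubgroup_eq_iSup, iSup_eq_bot]
    intro q
    exact (Subgroup.map_eq_bot_iff_of_injective _ (M ⊓ N).subtype_injective).1
      (hcore0 q (Nat.prime_of_mem_primeFactors q.2))
  rcases CfsgLib.ThompsonWielandt.two_ne_bot_or_card_dvd hprim a b d hd h2 with ⟨h1, h1'⟩ | h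
  · exfalso
    obtain ⟨p, hp, -, -, -, -, h5, -⟩ := CfsgLib.ThompsonWielandt.main_conj hmax hc g hN hne h1 h1'
    have h6 : CfsgLib.Components.pCoreIn p (CfsgLib.ThompsonWielandt.one M N) = ⊥ :=
      le_bot_iff.1 ((CfsgLib.ThompsonWielandt.pCoreIn_mono_normal (CfsgLib.ThompsonWielandt.core_le_left _ _)
        (inf_le_left.trans (CfsgLib.ThompsonWielandt.le_normalizer_core _ _))).trans (hcore0 p hp).le)
    rw [(Subgroup.map_eq_bot_iff_of_injective _ (CfsgLib.ThompsonWielandt.one M N).subtype_injective).1 h6] at h5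
    refine h1 (le_bot_iff.1 fun x hx => ?_)
    have hx' := CfsgLib.ThompsonWielandt.two_le_one M N hx
    have h7 : (⟨x, hx'⟩ : ↥(CfsgLib.ThompsonWielandt.one M N)) ∈ Cfsg.generalizedFittingSubgroup
        ↥(CfsgLib.ThompsonWielandt.one M N) :=
      CfsgLib.Components.centralizer_generalizedFittingSubgroup_le (Subgroup.mem_centralizer_iff.2 fun y hy => by
        rw [h5, SetLike.mem_coe, Subgroup.mem_bot] at hy
        rw [hy, one_mul, mul_one])
    rw [h5, Subgroup.mem_bot] at h7
    exact congrArg Subtype.val h7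
  · exact h

end Cfsg.Agent.S3693
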