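import Cfsg.Statements.S3701
import Cfsg.Agent.S3805

set_option autoImplicit false
open Cfsg

namespace Cfsg.Agent.S3701

open CfsgLib.CharBasics
open scoped ComplexConjugate

universe u

abbrev V3 : Type := ZMod 3 × ZMod 3 × ZMod 3

abbrev K2 : Type := Fin 2 × Fin 2

def sg (e : Fin 2) (i : ZMod 3) : ZMod 3 := if e = 0 then i else -i

def act3 (e : K2) (a : V3) : V3 := (sg (e.1 + e.2) a.1, sg e.1 a.2.1, sg e.2 a.2.2)

def R (a b : V3) : Prop := ∃ e, act3 e a = b

instance instDecR : DecidableRel R := fun _ _ => Fintype.decidableExistsFintype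

def pf (c : V3) : Equiv.Perm (Fin 9) :=
  (Equiv.swap (0 : Fin 9) 1 * Equiv.swap 1 2) ^ c.1.val * (Equiv.swap (3 : Fin 9) 4 * Equiv.swap 4 5) ^ c.2.1.val *
    (Equiv.swap (6 : Fin 9) 7 * Equiv.swap 7 8) ^ c.2.2.val

def pk (e : K2) : Equiv.Perm (Fin 9) :=
  (Equiv.swap (0 : Fin 9) 1 * Equiv.swap 3 4) ^ e.1.val * (Equiv.swap (0 : Fin 9) 1 * Equiv.swap 6 7) ^ e.2.val

/-- Coefficients and representatives for the three class functions used. -/
def wc : Fin 5 → ℤ := ![2, -2, -2, 1, 1]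

def wr (s : Fin 3) (i : Fin 5) : V3 :=
  ![![(1, 0, 0), (1, 1, 0), (1, 0, 1), (1, 1, 1), (2, 2, 2)],
    ![(0, 1, 0), (1, 1, 0), (0, 1, 1), (1, 1, 1), (2, 2, 2)],
    ![(0, 0, 1), (1, 0, 1), (0, 1, 1), (1, 1, 1), (2, 2, 2)]] s i

theorem pf_add : ∀ a b, pf (a + b) = pf a * pf b := by decide +kernel

theorem pk_add : ∀ a b, pk (a + b) = pk a * pk b := by decide +kernel

theorem pk_pf : ∀ e a, pk e * pf a = pf (act3 e a) * pk e := by decide +kernel

theorem pfk_one : ∀ (a : V3) (e : K2), pf a * pk e = 1 → a = 0 ∧ e = 0 := by decide +kernel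

theorem count_eq : ∑ i, ∑ j, wc i * wc j *
    (((Finset.univ.filter fun d : V3 => R d (1, 0, 0) ∧ R (wr 1 j - d) (wr 0 i)).card : ℤ) *
      ((Finset.univ.filter fun p : V3 × K2 => act3 p.2 (wr 0 i) = wr 0 i).card : ℤ)) = -162 := by
  decide +kernel

theorem norm_eq : ∀ s t : Fin 3, (∑ i, ∑ j, wc i * wc j * (if R (wr s i) (wr t j) then
    ((Finset.univ.filter fun p : V3 × K2 => act3 p.2 (wr s i) = wr s i).card : ℤ) else 0)) =
      if s = t then 486 else 162 := by
  decide +kernel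

theorem isIrr_star {G : Type u} [Group G] [Fintype G] {χ : G → ℂ} (h : Cfsg.IsIrrCharacter G χ) :
    Cfsg.IsIrrCharacter G (fun g => conj (χ g)) := by
  refine isIrr_of_norm_one (isCharacter_star (isCharacter_of_irr h)) ?_
  have h1 := congrArg (fun z => conj z) (classInner_self h)
  simpa [classInner_eq, map_sum, mul_comm] using h1

theorem int_of_integral {z : ℂ} (hz : IsIntegral ℤ z) {n : ℤ} (h : 4 * z = (n : ℂ)) :
    ∃ m : ℤ, z = (m : ℂ) ∧ n = 4 * m := by
  have hint : IsIntegral ℤ (algebraMap ℚ ℂ ((n : ℚ) / 4)) := by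
    have : algebraMap ℚ ℂ ((n : ℚ) / 4) = z := by
      rw [eq_ratCast]; push_cast; rw [← h]; ring
    rw [this]; exact hz
  rw [isIntegral_algebraMap_iff (algebraMap ℚ ℂ).injective] at hint
  obtain ⟨m, hm⟩ := IsIntegrallyClosed.isIntegral_iff.mp hint
  have h5 : ((m : ℤ) : ℚ) = (n : ℚ) / 4 := by simpa using hm
  have h6 : (n : ℚ) = 4 * (m : ℚ) := by rw [h5]; ring
  have h7 : n = 4 * m := by exact_mod_cast h6
  refine ⟨m, ?_, h7⟩
  have h8 : (4 : ℂ) * z = 4 * (m : ℂ) := by rw [h, h7]; push_cast; ring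
  exact mul_left_cancel₀ (by norm_num) h8

/-- The combinatorial heart: three integer vectors of norm six with pairwise product two. -/
theorem pair_support {ι : Type*} [Fintype ι] [DecidableEq ι] (V : Fin 3 → ι → ℤ) (J : ι → ι) (hJJ : ∀ x, J (J x) = x)
    (hJV : ∀ s x, V s (J x) = V s x) (hJne : ∀ x, Odd (V 0 x) → J x ≠ x)
    (hpar : ∀ s x, (Odd (V s x) ↔ Odd (V 0 x))) (hnorm : ∀ s, ∑ x, V s x * V s x = 6)
    (hinner : ∀ s t, s ≠ t → ∑ x, V s x * V t x = 2) :
    ∃ a, J a ≠ a ∧ ∀ x, V 0 x * V 1 x = if x = a ∨ x = J a then 1 else 0 := by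
  classical
  have hb : ∀ s x, -2 ≤ V s x ∧ V s x ≤ 2 := by
    intro s x
    have := Finset.single_le_sum (f := fun y => V s y * V s y) (fun y _ => mul_self_nonneg _) (Finset.mem_univ x)
    rw [hnorm] at this
    constructor <;> nlinarith
  have hodd1 : ∀ s x, Odd (V 0 x) → V s x = 1 ∨ V s x = -1 := by
    intro s x hx
    have h1 := Int.odd_iff.1 ((hpar s x).2 hx)
    have := hb s x
    omega
  have heven : ∀ s x, ¬ Odd (V 0 x) → V s x = 0 ∨ V s x = 2 ∨ V s x = -2 := by
    intro s x hx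
    have h1 : ¬ Odd (V s x) := fun h => hx ((hpar s x).1 h)
    rw [Int.odd_iff] at h1
    have := hb s x
    omega
  set O := Finset.univ.filter fun x => Odd (V 0 x) with hO
  have hOmem : ∀ x, x ∈ O ↔ Odd (V 0 x) := fun x => by simp [hO]
  have hJO : ∀ x ∈ O, J x ∈ O := fun x hx => by rw [hOmem, hJV, ← hOmem]; exact hx
  have hevencard : ∀ P : Finset ι, P ⊆ O → (∀ x ∈ P, J x ∈ P) → 2 ∣ P.card := by
    intro P hP hPJ
    have h : ∑ _x ∈ P, (1 : ZMod 2) = 0 :=
      Finset.sum_involution (fun x _ => J x) (fun _ _ => by decide)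
        (fun x hx _ => hJne x ((hOmem x).1 (hP hx))) (fun x hx => hPJ x hx) (fun x _ => hJJ x)
    rw [Finset.sum_const, nsmul_eq_mul, mul_one] at h
    exact (ZMod.natCast_eq_zero_iff _ _).1 h
  have hsq : ∀ s, (O.card : ℤ) + 4 * ((Finset.univ.filter fun x => ¬ Odd (V 0 x) ∧ V s x ≠ 0).card : ℤ) = 6 := by
    intro s
    rw [← hnorm s, hO, ← Finset.sum_boole, ← Finset.sum_boole, Finset.mul_sum, ← Finset.sum_add_distrib]
    refine Finset.sum_congr rfl fun x _ => ?_
    by_cases hx : Odd (V 0 x)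
    · rw [if_pos hx, if_neg (fun h => h.1 hx)]
      rcases hodd1 s x hx with e | e <;> simp [e]
    · rw [if_neg hx]
      rcases heven s x hx with e | e | e
      · rw [if_neg (fun h => h.2 e), e]; norm_num
      · rw [if_pos ⟨hx, by omega⟩, e]; norm_num
      · rw [if_pos ⟨hx, by omega⟩, e]; norm_num
  have hOeven := hevencard O (fun _ h => h) hJO
  have hO26 : O.card = 2 ∨ O.card = 6 := by
    have h0 := hsq 0
    omega
  rcases hO26 with hO2 | hO6
  · obtain ⟨a, b, hab, hOab⟩ := Finset.card_eq_two.1 hO2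
    have haO : a ∈ O := by rw [hOab]; simp
    have hJa : J a = b := by
      have h1 := hJO a haO
      rw [hOab, Finset.mem_insert, Finset.mem_singleton] at h1
      rcases h1 with h | h
      · exact absurd h (hJne a ((hOmem a).1 haO))
      · exact h
    have hnotO : ∀ x, x ≠ a → x ≠ b → ¬ Odd (V 0 x) := by
      intro x h1 h2 h
      rw [← hOmem, hOab] at h
      simp [h1, h2] at h
    have hkex : ∀ s, ∃ k, ¬ Odd (V 0 k) ∧ V s k ≠ 0 ∧ ∀ x, ¬ Odd (V 0 x) → x ≠ k → V s x = 0 := by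
      intro s
      have h1 : (Finset.univ.filter fun x => ¬ Odd (V 0 x) ∧ V s x ≠ 0).card = 1 := by
        have := hsq s
        omega
      obtain ⟨k, hk⟩ := Finset.card_eq_one.1 h1
      have hk' : k ∈ Finset.univ.filter fun x => ¬ Odd (V 0 x) ∧ V s x ≠ 0 := by rw [hk]; simp
      rw [Finset.mem_filter] at hk'
      refine ⟨k, hk'.2.1, hk'.2.2, fun x hx hxk => ?_⟩
      by_contra hne
      have : x ∈ Finset.univ.filter fun x => ¬ Odd (V 0 x) ∧ V s x ≠ 0 := Finset.mem_filter.2 ⟨Finset.mem_univ x, hx, hne⟩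
      rw [hk, Finset.mem_singleton] at this
      exact hxk this
    choose k hk1 hk2 hk3 using hkex
    have hcross : ∀ s t, s ≠ t → 2 * (V s a * V t a) + V s (k s) * V t (k s) = 2 := by
      intro s t hst
      have hka : k s ≠ a := fun e => hk1 s (e ▸ (hOmem a).1 haO)
      have hkb : k s ≠ b := fun e => hk1 s (by rw [e, ← hOmem, hOab]; simp)
      have hsum : ∑ x, V s x * V t x = V s a * V t a + (V s b * V t b + V s (k s) * V t (k s)) := by
        rw [← Finset.add_sum_erase _ _ (Finset.mem_univ a),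
          ← Finset.add_sum_erase _ _ (Finset.mem_erase.2 ⟨hab.symm, Finset.mem_univ b⟩),
          Finset.sum_eq_single (k s)]
        · intro x hx hxk
          simp only [Finset.mem_erase] at hx
          rw [hk3 s x (hnotO x hx.2.1 hx.1) hxk, zero_mul]
        · intro h
          exact absurd (Finset.mem_erase.2 ⟨hkb, Finset.mem_erase.2 ⟨hka, Finset.mem_univ _⟩⟩) h
      rw [hinner s t hst, ← hJa, hJV, hJV] at hsum
      linarith
    -- a pair of opposite signs forces equal even parts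
    have hdiff : ∀ s t, s ≠ t → V s a ≠ V t a → k s = k t ∧ V s (k s) = V t (k t) := by
      intro s t hst hne
      have h1 := hcross s t hst
      have hkk : k s = k t := by
        by_contra hc
        rw [hk3 t (k s) (hk1 s) hc] at h1
        rcases hodd1 s a ((hOmem a).1 haO) with e | e <;> rcases hodd1 t a ((hOmem a).1 haO) with e' | e' <;>
          rw [e, e'] at h1 hne <;> omega
      refine ⟨hkk, ?_⟩
      rw [← hkk]
      rcases hodd1 s a ((hOmem a).1 haO) with e | e <;> rcases hodd1 t a ((hOmem a).1 haO) with e' | e' <;>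
        rcases heven s _ (hk1 s) with f | f | f <;> rcases heven t _ (hk1 s) with f' | f' | f' <;>
        rw [e, e', f, f'] at h1 <;> rw [e, e'] at hne <;> omega
    have hsame : V 0 a = V 1 a := by
      by_contra hne
      obtain ⟨k01, v01⟩ := hdiff 0 1 (by decide) hne
      rcases (show V 2 a = V 0 a ∨ V 2 a = V 1 a by
        rcases hodd1 0 a ((hOmem a).1 haO) with e | e <;> rcases hodd1 1 a ((hOmem a).1 haO) with e' | e' <;>
          rcases hodd1 2 a ((hOmem a).1 haO) with e'' | e'' <;> omega) with h2 | h2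
      · obtain ⟨k21, v21⟩ := hdiff 2 1 (by decide) (by rw [h2]; exact hne)
        have h3 := hcross 0 2 (by decide)
        rw [h2, show k 0 = k 2 from k01.trans k21.symm] at h3
        rw [show V 0 (k 2) = V 2 (k 2) by rw [v21, ← v01, k01.trans k21.symm]] at h3
        rcases hodd1 0 a ((hOmem a).1 haO) with e | e <;> rcases heven 2 _ (hk1 2) with f | f | f <;>
          first | exact absurd f (hk2 2) | (rw [e, f] at h3; omega)
      · obtain ⟨k20, v20⟩ := hdiff 2 0 (by decide) (by rw [h2]; exact Ne.symm hne)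
        have h3 := hcross 1 2 (by decide)
        rw [h2, show k 1 = k 2 from k01.symm.trans k20.symm] at h3
        rw [show V 1 (k 2) = V 2 (k 2) by rw [v20, v01, k01.symm.trans k20.symm]] at h3
        rcases hodd1 1 a ((hOmem a).1 haO) with e | e <;> rcases heven 2 _ (hk1 2) with f | f | f <;>
          first | exact absurd f (hk2 2) | (rw [e, f] at h3; omega)
    have h1 : V 0 a * V 1 a = 1 := by
      rw [← hsame]; rcases hodd1 0 a ((hOmem a).1 haO) with e | e <;> rw [e] <;> norm_num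
    refine ⟨a, hJne a ((hOmem a).1 haO), fun x => ?_⟩
    by_cases hx : x = a ∨ x = J a
    · rw [if_pos hx]
      rcases hx with rfl | rfl
      · exact h1
      · rw [hJV, hJV]; exact h1
    · rw [if_neg hx]
      rw [hJa] at hx
      push Not at hx
      by_cases hxk : x = k 0
      · have h3 := hcross 0 1 (by decide)
        rw [h1, ← hxk] at h3
        omega
      · rw [hk3 0 x (hnotO x hx.1 hx.2) hxk, zero_mul]
  · exfalso
    have hzero : ∀ s x, ¬ Odd (V 0 x) → V s x = 0 := by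
      intro s x hx
      by_contra hne
      have h1 := hsq s
      have h2 : 0 < (Finset.univ.filter fun x => ¬ Odd (V 0 x) ∧ V s x ≠ 0).card :=
        Finset.card_pos.2 ⟨x, Finset.mem_filter.2 ⟨Finset.mem_univ x, hx, hne⟩⟩
      omega
    set P := Finset.univ.filter fun x => Odd (V 0 x) ∧ V 0 x = V 1 x ∧ V 1 x = V 2 x with hP
    have hPsum : (O.card : ℤ) + 8 * (P.card : ℤ) = 30 := by
      have h30 : ∑ x, (V 0 x + V 1 x + V 2 x) * (V 0 x + V 1 x + V 2 x) = 30 := by
        have e : ∀ x, (V 0 x + V 1 x + V 2 x) * (V 0 x + V 1 x + V 2 x) =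
            V 0 x * V 0 x + V 1 x * V 1 x + V 2 x * V 2 x + (2 * (V 0 x * V 1 x) + 2 * (V 0 x * V 2 x) + 2 * (V 1 x * V 2 x)) :=
          fun x => by ring
        simp only [e, Finset.sum_add_distrib, ← Finset.mul_sum]
        rw [hnorm, hnorm, hnorm, hinner 0 1 (by decide), hinner 0 2 (by decide), hinner 1 2 (by decide)]
        norm_num
      rw [← h30, hO, hP, ← Finset.sum_boole, ← Finset.sum_boole, Finset.mul_sum, ← Finset.sum_add_distrib]
      refine Finset.sum_congr rfl fun x _ => ?_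
      by_cases hx : Odd (V 0 x)
      · simp only [hx, true_and, if_true]
        rcases hodd1 0 x hx with e | e <;> rcases hodd1 1 x hx with e' | e' <;> rcases hodd1 2 x hx with e'' | e'' <;>
          simp [e, e', e'']
      · rw [if_neg hx, if_neg (fun h => hx h.1), hzero 0 x hx, hzero 1 x hx, hzero 2 x hx]; norm_num
    have hPeven := hevencard P
      (fun x hx => by rw [hP, Finset.mem_filter] at hx; rw [hOmem]; exact hx.2.1)
      (fun x hx => by rw [hP, Finset.mem_filter] at hx ⊢; exact ⟨Finset.mem_univ _, by simpa only [hJV] using hx.2⟩)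
    omega

/-- Let H₀ ≤ Sym(9) be generated by the 3-cycles (1 2 3), (4 5 6), (7 8 9) and the involutions (1 2)(4 5), (1 2)(7 8) (a group of order 108, elementary abelian of order 27 extended by a four-group). Let G be a finite group with a subgroup H ≅ H₀, and T ≤ H of order 27 (a Sylow 3-subgroup of H) with N_G(T) = H and C_G(t) ≤ H for every t ≠ 1 in T. Then G = H. -/
theorem result {G : Type*} [Group G] [Finite G] (H : Subgroup G)
    (hH : Nonempty (↥H ≃* ↥(Subgroup.closure ({Equiv.swap (0 : Fin 9) 1 * Equiv.swap 1 2, Equiv.swap (3 : Fin 9) 4 * Equiv.swap 4 5, Equiv.swap (6 : Fin 9) 7 * Equiv.swap 7 8,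
        Equiv.swap (0 : Fin 9) 1 * Equiv.swap 3 4, Equiv.swap (0 : Fin 9) 1 * Equiv.swap 6 7} : Set (Equiv.Perm (Fin 9))))))
    (T : Subgroup G) (hTH : T ≤ H) (hT : Nat.card T = 27) (hN : Subgroup.normalizer (T : Set G) = H)
    (hC : ∀ t ∈ T, t ≠ 1 → Subgroup.centralizer ({t} : Set G) ≤ H) : H = ⊤ := by
  classical
  haveI := Fintype.ofFinite G
  haveI := Fintype.ofFinite (Cfsg.IrrCharacter G)
  by_contra hne
  obtain ⟨e⟩ := hH
  set Cl : Subgroup (Equiv.Perm (Fin 9)) := Subgroup.closure ({Equiv.swap (0 : Fin 9) 1 * Equiv.swap 1 2, Equiv.swap (3 : Fin 9) 4 * Equiv.swap 4 5, Equiv.swap (6 : Fin 9) 7 * Equiv.swap 7 8,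
        Equiv.swap (0 : Fin 9) 1 * Equiv.swap 3 4, Equiv.swap (0 : Fin 9) 1 * Equiv.swap 6 7} : Set (Equiv.Perm (Fin 9))) with hCl
  have hpf : ∀ c, pf c ∈ Cl := fun c =>
    Cl.mul_mem (Cl.mul_mem (Cl.pow_mem (Subgroup.subset_closure (by simp)) _)
      (Cl.pow_mem (Subgroup.subset_closure (by simp)) _)) (Cl.pow_mem (Subgroup.subset_closure (by simp)) _)
  have hpk : ∀ c, pk c ∈ Cl := fun c =>
    Cl.mul_mem (Cl.pow_mem (Subgroup.subset_closure (by simp)) _) (Cl.pow_mem (Subgroup.subset_closure (by simp)) _)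
  have pf0 : pf 0 = 1 := by decide +kernel
  have pk0 : pk 0 = 1 := by decide +kernel
  have hK2 : ∀ c : K2, c + c = 0 := by decide
  have hall : ∀ q ∈ Cl, ∃ c d, q = pf c * pk d := by
    intro q hq
    induction hq using Subgroup.closure_induction with
    | mem q hq =>
      simp only [Set.mem_insert_iff, Set.mem_singleton_iff] at hq
      rcases hq with rfl | rfl | rfl | rfl | rfl
      · exact ⟨(1, 0, 0), 0, by decide +kernel⟩
      · exact ⟨(0, 1, 0), 0, by decide +kernel⟩
      · exact ⟨(0, 0, 1), 0, by decide +kernel⟩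
      · exact ⟨0, (1, 0), by decide +kernel⟩
      · exact ⟨0, (0, 1), by decide +kernel⟩
    | one => exact ⟨0, 0, by rw [pf0, pk0, one_mul]⟩
    | mul q r _ _ hq' hr' =>
      obtain ⟨c, d, rfl⟩ := hq'
      obtain ⟨c', d', rfl⟩ := hr'
      refine ⟨c + act3 d c', d + d', ?_⟩
      rw [pf_add, pk_add]
      calc pf c * pk d * (pf c' * pk d') = pf c * (pk d * pf c') * pk d' := by group
        _ = pf c * (pf (act3 d c') * pk d) * pk d' := by rw [pk_pf]
        _ = _ := by group
    | inv q _ hq' =>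
      obtain ⟨c, d, rfl⟩ := hq'
      refine ⟨act3 d (-c), d, ?_⟩
      refine inv_eq_of_mul_eq_one_right ?_
      rw [← pk_pf]
      calc pf c * pk d * (pk d * pf (-c)) = pf c * (pk d * pk d) * pf (-c) := by group
        _ = 1 := by rw [← pk_add, hK2, pk0, mul_one, ← pf_add, add_neg_cancel, pf0]
  let φ : ↥Cl →* G := H.subtype.comp e.symm.toMonoidHom
  have hφinj : Function.Injective φ := H.subtype_injective.comp e.symm.injective
  let f : V3 → G := fun c => φ ⟨pf c, hpf c⟩
  let k : K2 → G := fun c => φ ⟨pk c, hpk c⟩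
  have hfH : ∀ c, f c ∈ H := fun c => (e.symm ⟨pf c, hpf c⟩).2
  have hkH : ∀ c, k c ∈ H := fun c => (e.symm ⟨pk c, hpk c⟩).2
  have hfadd : ∀ c d, f (c + d) = f c * f d := fun c d => by
    rw [← map_mul]; exact congrArg φ (Subtype.ext (pf_add c d))
  have hkconj : ∀ c a, k c * f a * (k c)⁻¹ = f (act3 c a) := fun c a => by
    rw [mul_inv_eq_iff_eq_mul, ← map_mul, ← map_mul]
    exact congrArg φ (Subtype.ext (pk_pf c a))
  have hkadd : ∀ c d, k (c + d) = k c * k d := fun c d => by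
    rw [← map_mul]; exact congrArg φ (Subtype.ext (pk_add c d))
  have hf0 : f 0 = 1 := by
    have := hfadd 0 0
    rw [add_zero] at this
    exact left_eq_mul.1 this
  have hfneg : ∀ c, f (-c) = (f c)⁻¹ := fun c =>
    eq_inv_of_mul_eq_one_left (by rw [← hfadd, neg_add_cancel, hf0])
  have hpinj : Function.Injective (fun p : V3 × K2 => f p.1 * k p.2) := by
    rintro ⟨c, d⟩ ⟨c', d'⟩ h
    simp only at h
    have h1 : f (-c' + c) * k (d + d') = 1 := by
      rw [hfadd, hkadd, hfneg]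
      have hk' : k d' * k d' = 1 := by
        rw [← hkadd, hK2]
        have := hkadd 0 0
        rw [add_zero] at this
        exact left_eq_mul.1 this
      calc (f c')⁻¹ * f c * (k d * k d') = (f c')⁻¹ * (f c * k d) * k d' := by group
        _ = (f c')⁻¹ * (f c' * k d') * k d' := by rw [h]
        _ = 1 := by rw [mul_assoc, mul_assoc, inv_mul_cancel_left, hk']
    have h2 : pf (-c' + c) * pk (d + d') = 1 := by
      have h3 : φ (⟨pf (-c' + c), hpf _⟩ * ⟨pk (d + d'), hpk _⟩) = φ 1 := by rw [map_mul, map_one]; exact h1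
      exact congrArg Subtype.val (hφinj h3)
    obtain ⟨h4, h5⟩ := pfk_one _ _ h2
    have h6 : c = c' := (neg_add_eq_zero.1 h4).symm
    have h7 : d = d' := (show ∀ a b : K2, a + b = 0 → a = b by decide) _ _ h5
    rw [h6, h7]
  have hfinj : Function.Injective f := fun c d h => congrArg Prod.fst (hpinj (a₁ := (c, 0)) (a₂ := (d, 0)) (by simp only; rw [h]))
  have hpsurj : ∀ g ∈ H, ∃ p : V3 × K2, f p.1 * k p.2 = g := by
    intro g hg
    obtain ⟨c, d, hcd⟩ := hall _ (e ⟨g, hg⟩).2
    refine ⟨(c, d), ?_⟩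
    have : (⟨pf c, hpf c⟩ : ↥Cl) * ⟨pk d, hpk d⟩ = e ⟨g, hg⟩ := Subtype.ext hcd.symm
    simp only [f, k, ← map_mul, this]
    simp [φ]
  have hcardH : Nat.card H = 108 := by
    rw [← Nat.card_congr (Equiv.ofBijective (fun p : V3 × K2 => (⟨f p.1 * k p.2, mul_mem (hfH _) (hkH _)⟩ : H))
      ⟨fun p q h => hpinj (congrArg Subtype.val h), fun g => by
        obtain ⟨p, hp⟩ := hpsurj g g.2
        exact ⟨p, Subtype.ext hp⟩⟩)]
    simp [Nat.card_eq_fintype_card]
  -- T is a Sylow subgroup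
  have hTp : IsPGroup 3 T := IsPGroup.of_card (n := 3) (by rw [hT]; norm_num)
  have hrel : T.relIndex H = 4 := by
    have h := (T.subgroupOf H).card_mul_index
    rw [Nat.card_congr (Subgroup.subgroupOfEquivOfLe hTH).toEquiv, hT, hcardH] at h
    show (T.subgroupOf H).index = 4
    omega
  have hnd : ¬ 3 ∣ T.index := by
    intro hdvd
    have hmod := Sylow.card_quotient_normalizer_modEq_card_quotient (p := 3) (n := 3) (show Nat.card T = 3 ^ 3 by rw [hT]; norm_num)
    have e1 : Nat.card (↥(Subgroup.normalizer (T : Set G)) ⧸ T.comap (Subgroup.normalizer (T : Set G)).subtype) = 4 := by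
      show T.relIndex (Subgroup.normalizer (T : Set G)) = 4
      rw [hN, hrel]
    rw [e1, Nat.ModEq] at hmod
    have e2 : Nat.card (G ⧸ T) = T.index := rfl
    rw [e2] at hmod
    omega
  set P : Sylow 3 G := hTp.toSylow hnd with hPdef
  have hPT : (P : Subgroup G) = T := IsPGroup.toSylow_coe _ _
  have hNP : Subgroup.normalizer ((P : Subgroup G) : Set G) = H := by rw [hPT]; exact hN
  have hfT : ∀ c, f c ∈ T := by
    intro c
    rw [← hPT]
    refine S3805.mem_sylow_of_normalizer P (by rw [hNP]; exact hfH c) ?_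
    have hc : (pf c) ^ 3 = 1 := (show ∀ c, pf c ^ 3 = 1 by decide +kernel) c
    rw [← map_pow]
    exact (congrArg φ (Subtype.ext hc)).trans (map_one φ)
  have hfsurj : ∀ t ∈ T, ∃ c, f c = t := by
    have h1 : Set.range f = (T : Set G) := by
      refine Set.eq_of_subset_of_ncard_le (by rintro _ ⟨c, rfl⟩; exact hfT c) ?_ (Set.toFinite _)
      rw [← Nat.card_coe_set_eq, SetLike.coe_sort_coe, hT, Set.ncard_range_of_injective hfinj]
      simp [Nat.card_eq_fintype_card]
    intro t ht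
    rw [← SetLike.mem_coe, ← h1] at ht
    exact ht
  have hab : ∀ a ∈ (P : Subgroup G), ∀ b ∈ (P : Subgroup G), a * b = b * a := by
    rw [hPT]
    intro a ha b hb
    obtain ⟨c, rfl⟩ := hfsurj a ha
    obtain ⟨d, rfl⟩ := hfsurj b hb
    rw [← hfadd, ← hfadd, add_comm]
  have hexp : ∀ a ∈ (P : Subgroup G), a ^ 3 = 1 := by
    rw [hPT]
    intro a ha
    obtain ⟨c, rfl⟩ := hfsurj a ha
    rw [pow_succ, pow_succ, pow_one, ← hfadd, ← hfadd, (show ∀ c : V3, c + c + c = 0 by decide) c, hf0]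
  have hloc : ∀ t ∈ (P : Subgroup G), t ≠ 1 →
      Subgroup.centralizer ({t} : Set G) ≤ Subgroup.normalizer ((P : Subgroup G) : Set G) := by
    intro t ht h1
    rw [hNP]
    exact hC t (hPT ▸ ht) h1
  have hfP : ∀ c, f c ∈ (P : Subgroup G) := fun c => by rw [hPT]; exact hfT c
  have hf1 : ∀ a, a ≠ 0 → f a ≠ 1 := fun a ha h => ha (hfinj (h.trans hf0.symm))
  have hconjN : ∀ (p : V3 × K2) a, (f p.1 * k p.2) * f a * (f p.1 * k p.2)⁻¹ = f (act3 p.2 a) := by
    intro p a
    calc (f p.1 * k p.2) * f a * (f p.1 * k p.2)⁻¹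
        = f p.1 * (k p.2 * f a * (k p.2)⁻¹) * (f p.1)⁻¹ := by group
      _ = f (act3 p.2 a) := by rw [hkconj, mul_inv_eq_iff_eq_mul, ← hfadd, ← hfadd, add_comm]
  have hR : ∀ a b, IsConj (f a) (f b) ↔ R a b := by
    intro a b
    constructor
    · intro h
      obtain ⟨g, hg⟩ := isConj_iff.1 h
      by_cases ha : a = 0
      · subst ha
        rw [hf0, mul_one, mul_inv_cancel, ← hf0] at hg
        rw [← hfinj hg]
        exact ⟨0, rfl⟩
      · have hgH : g ∈ H := hNP ▸ S3805.ti P hab hloc (hfP a) (hf1 a ha) (by rw [hg]; exact hfP b) hexp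
        obtain ⟨p, hp⟩ := hpsurj g hgH
        exact ⟨p.2, hfinj (by rw [← hconjN p a, hp, hg])⟩
    · rintro ⟨c, rfl⟩
      exact isConj_iff.2 ⟨k c, hkconj c a⟩
  have hcent : ∀ a, a ≠ 0 → Nat.card (Subgroup.centralizer ({f a} : Set G)) =
      (Finset.univ.filter fun p : V3 × K2 => act3 p.2 a = a).card := by
    intro a ha
    rw [← Fintype.card_subtype, ← Nat.card_eq_fintype_card]
    refine (Nat.card_congr (Equiv.ofBijective
      (fun p => (⟨f p.1.1 * k p.1.2, ?_⟩ : Subgroup.centralizer ({f a} : Set G))) ⟨?_, ?_⟩)).symm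
    · rw [Subgroup.mem_centralizer_singleton_iff]
      have := hconjN p.1 a
      rw [p.2] at this
      exact mul_inv_eq_iff_eq_mul.1 this
    · intro p q h
      exact Subtype.ext (hpinj (congrArg Subtype.val h))
    · rintro ⟨g, hg⟩
      obtain ⟨p, hp⟩ := hpsurj g (hC _ (hfT a) (hf1 a ha) hg)
      refine ⟨⟨p, hfinj ?_⟩, Subtype.ext hp⟩
      rw [← hconjN p a, hp]
      rw [Subgroup.mem_centralizer_singleton_iff] at hg
      rw [hg]; group
  have hcount : ∀ a b c, a ≠ 0 → c ≠ 0 → R a (-a) → ¬ R a c →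
      Nat.card {u : G // IsConj u (f a) ∧ IsConj (u⁻¹ * f c) (f b)} =
        (Finset.univ.filter fun d : V3 => R d a ∧ R (c - d) b).card := by
    intro a b c ha hc hreal hac
    have hsub : ∀ d : V3, (f d)⁻¹ * f c = f (c - d) := fun d => by
      rw [sub_eq_neg_add, hfadd, hfneg]
    rw [← Fintype.card_subtype, ← Nat.card_eq_fintype_card]
    refine (Nat.card_congr (Equiv.ofBijective
      (fun d => (⟨f d.1, (hR _ _).2 d.2.1, by rw [hsub]; exact (hR _ _).2 d.2.2⟩ :
        {u : G // IsConj u (f a) ∧ IsConj (u⁻¹ * f c) (f b)})) ⟨?_, ?_⟩)).symm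
    · intro d d' h
      have h' : f d.1 = f d'.1 := congrArg (fun z => z.1) h
      exact Subtype.ext (hfinj h')
    · rintro ⟨u, hu1, hu2⟩
      have huT : u ∈ (P : Subgroup G) := by
        have hr : IsConj (f a) (f a)⁻¹ := by rw [← hfneg, hR]; exact hreal
        refine S3805.triangle P hab hloc hexp (S3805.conj_cube hu1 (hexp _ (hfP a))) ?_ (hfP c) (hf1 c hc)
          (S3805.conj_cube hu2 (hexp _ (hfP b))) ?_ ?_
        · rintro rfl
          exact hf1 a ha (isConj_one_right.1 hu1)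
        · refine (hu1.trans hr).trans ?_
          obtain ⟨g, hg⟩ := isConj_iff.1 hu1.symm
          exact isConj_iff.2 ⟨g, by rw [← hg]; group⟩
        · intro h
          exact hac ((hR a c).1 (hu1.symm.trans h))
      obtain ⟨d, rfl⟩ := hfsurj u (hPT ▸ huT)
      exact ⟨⟨d, (hR _ _).1 hu1, (hR _ _).1 (by rw [← hsub]; exact hu2)⟩, Subtype.ext rfl⟩
  -- the class functions
  let W : Fin 3 → Cfsg.IrrCharacter G → ℂ := fun s χ => ∑ i, (wc i : ℂ) * (χ : G → ℂ) (f (wr s i))
  have hWV : ∀ s (χ : Cfsg.IrrCharacter G), ∃ v h : ℤ, W s χ = ((9 * v : ℤ) : ℂ) ∧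
      (χ : G → ℂ) (f (1, 1, 1)) + (χ : G → ℂ) (f (2, 2, 2)) = (h : ℂ) ∧ (Odd v ↔ Odd h) := by
    intro s χ
    have hch := isCharacter_of_irr χ.2
    haveI : IsMulCommutative (T : Subgroup G) :=
      ⟨⟨fun a b => Subtype.ext (hab _ (by rw [hPT]; exact a.2) _ (by rw [hPT]; exact b.2))⟩⟩
    obtain ⟨r, ψ, hψ, hs⟩ := exists_decomp (isCharacter_restrict hch T)
    let Q : Fin r → V3 → ℂ := fun i a => ψ i ⟨f a, hfT a⟩
    have hQadd : ∀ i a b, Q i (a + b) = Q i a * Q i b := fun i a b => by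
      simp only [Q]
      rw [← (irr_comm_hom (hψ i)).2]
      exact congrArg (ψ i) (Subtype.ext (hfadd a b))
    have hQ0 : ∀ i, Q i 0 = 1 := fun i => by
      simp only [Q]
      rw [show (⟨f 0, hfT 0⟩ : T) = 1 from Subtype.ext hf0, (irr_comm_hom (hψ i)).1]
    have hχQ : ∀ a, (χ : G → ℂ) (f a) = ∑ i, Q i a := fun a => by
      have := congrFun hs ⟨f a, hfT a⟩
      rw [Finset.sum_apply] at this
      simpa [Q] using this
    let C : V3 → Fin r → ℂ := fun a i => Q i a + Q i (-a)
    have hC21 : ∀ a i, ∃ z : ℤ, C a i = (z : ℂ) ∧ (z = 2 ∨ z = -1) := by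
      intro a i
      have h3 : Q i a * Q i a * Q i a = 1 := by
        rw [← hQadd, ← hQadd, (show ∀ c : V3, c + c + c = 0 by decide) a, hQ0]
      have hneg : Q i (-a) = Q i a * Q i a := by
        rw [← hQadd]; congr 1; exact (show ∀ c : V3, -c = c + c by decide) a
      have hz : (Q i a - 1) * (Q i a * Q i a + Q i a + 1) = 0 := by linear_combination h3
      rcases mul_eq_zero.1 hz with h | h
      · exact ⟨2, by simp only [C]; rw [hneg, sub_eq_zero.1 h]; norm_num, Or.inl rfl⟩
      · exact ⟨-1, by simp only [C]; rw [hneg]; push_cast; linear_combination h, Or.inr rfl⟩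
    have hcl : ∀ a b, R a b → (χ : G → ℂ) (f a) = (χ : G → ℂ) (f b) := fun a b h =>
      apply_isConj hch ((hR a b).2 h)
    -- products of the coordinate sums
    have hC3 : ∀ i, C (1, 0, 0) i * C (0, 1, 0) i * C (0, 0, 1) i =
        Q i (1, 1, 1) + Q i (1, 2, 2) + Q i (2, 1, 2) + Q i (2, 2, 1) +
          (Q i (2, 2, 2) + Q i (2, 1, 1) + Q i (1, 2, 1) + Q i (1, 1, 2)) := by
      intro i
      simp only [C]
      ring_nf
      simp only [← hQadd]
      simp (config := { decide := true }) only [Prod.mk_add_mk, Prod.neg_mk, show (-1 : ZMod 3) = 2 from rfl]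
      ring_nf
    have hh : ∑ i, C (1, 0, 0) i * C (0, 1, 0) i * C (0, 0, 1) i =
        4 * ((χ : G → ℂ) (f (1, 1, 1)) + (χ : G → ℂ) (f (2, 2, 2))) := by
      simp only [hC3, Finset.sum_add_distrib, ← hχQ]
      rw [← hcl (1, 1, 1) (1, 2, 2) (by decide), ← hcl (1, 1, 1) (2, 1, 2) (by decide),
        ← hcl (1, 1, 1) (2, 2, 1) (by decide), ← hcl (2, 2, 2) (2, 1, 1) (by decide),
        ← hcl (2, 2, 2) (1, 2, 1) (by decide), ← hcl (2, 2, 2) (1, 1, 2) (by decide)]
      ring
    have hC2 : ∀ a b : V3, a ≠ b → R (a + b) (a + -b) → R (a + b) (-a + b) → R (a + b) (-a + -b) →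
        ∑ i, C a i * C b i = 4 * (χ : G → ℂ) (f (a + b)) := by
      intro a b _ r1 r2 r3
      have : ∀ i, C a i * C b i = Q i (a + b) + Q i (a + -b) + (Q i (-a + b) + Q i (-a + -b)) := fun i => by
        simp only [C, hQadd]; ring
      simp only [this, Finset.sum_add_distrib, ← hχQ]
      rw [← hcl _ _ r1, ← hcl _ _ r2, ← hcl _ _ r3]
      ring
    have hC1 : ∀ a : V3, R a (-a) → ∑ i, C a i = 2 * (χ : G → ℂ) (f a) := by
      intro a r1
      simp only [C, Finset.sum_add_distrib, ← hχQ]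
      rw [← hcl _ _ r1]
      ring
    have hCint : ∀ a, IsIntegral ℤ ((χ : G → ℂ) (f a)) := fun a => isIntegral_apply hch _
    choose z hz hz' using hC21
    let u : Fin 3 → V3 := fun t => match t with | 0 => (1, 0, 0) | 1 => (0, 1, 0) | 2 => (0, 0, 1)
    have hN : 4 * W s χ = ((∑ i, (match s with
        | 0 => z (u 0) i * (2 - z (u 1) i) * (2 - z (u 2) i)
        | 1 => z (u 1) i * (2 - z (u 0) i) * (2 - z (u 2) i)
        | 2 => z (u 2) i * (2 - z (u 0) i) * (2 - z (u 1) i)) : ℤ) : ℂ) := by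
      have h1 := hC1 (u 0) (by decide)
      have h2 := hC1 (u 1) (by decide)
      have h3 := hC1 (u 2) (by decide)
      have h12 := hC2 (u 0) (u 1) (by decide) (by decide) (by decide) (by decide)
      have h13 := hC2 (u 0) (u 2) (by decide) (by decide) (by decide) (by decide)
      have h23 := hC2 (u 1) (u 2) (by decide) (by decide) (by decide) (by decide)
      rw [show u 0 + u 1 = (1, 1, 0) by decide] at h12
      rw [show u 0 + u 2 = (1, 0, 1) by decide] at h13
      rw [show u 1 + u 2 = (0, 1, 1) by decide] at h23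
      simp only [u] at h1 h2 h3 h12 h13 h23 ⊢
      fin_cases s
      · rw [Int.cast_sum]
        have e : ∀ i, (((z (1, 0, 0) i * (2 - z (0, 1, 0) i) * (2 - z (0, 0, 1) i)) : ℤ) : ℂ) =
            4 * C (1, 0, 0) i - 2 * (C (1, 0, 0) i * C (0, 1, 0) i) - 2 * (C (1, 0, 0) i * C (0, 0, 1) i)
              + C (1, 0, 0) i * C (0, 1, 0) i * C (0, 0, 1) i := fun i => by
          rw [hz, hz, hz]; push_cast; ring
        simp only [e, Finset.sum_add_distrib, Finset.sum_sub_distrib, ← Finset.mul_sum, h1, h12, h13, hh]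
        simp [W, Fin.sum_univ_five, wc, wr]
        ring
      · rw [Int.cast_sum]
        have e : ∀ i, (((z (0, 1, 0) i * (2 - z (1, 0, 0) i) * (2 - z (0, 0, 1) i)) : ℤ) : ℂ) =
            4 * C (0, 1, 0) i - 2 * (C (1, 0, 0) i * C (0, 1, 0) i) - 2 * (C (0, 1, 0) i * C (0, 0, 1) i)
              + C (1, 0, 0) i * C (0, 1, 0) i * C (0, 0, 1) i := fun i => by
          rw [hz, hz, hz]; push_cast; ring
        simp only [e, Finset.sum_add_distrib, Finset.sum_sub_distrib, ← Finset.mul_sum, h2, h12, h23, hh]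
        simp [W, Fin.sum_univ_five, wc, wr]
        ring
      · rw [Int.cast_sum]
        have e : ∀ i, (((z (0, 0, 1) i * (2 - z (1, 0, 0) i) * (2 - z (0, 1, 0) i)) : ℤ) : ℂ) =
            4 * C (0, 0, 1) i - 2 * (C (1, 0, 0) i * C (0, 0, 1) i) - 2 * (C (0, 1, 0) i * C (0, 0, 1) i)
              + C (1, 0, 0) i * C (0, 1, 0) i * C (0, 0, 1) i := fun i => by
          rw [hz, hz, hz]; push_cast; ring
        simp only [e, Finset.sum_add_distrib, Finset.sum_sub_distrib, ← Finset.mul_sum, h3, h13, h23, hh]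
        simp [W, Fin.sum_univ_five, wc, wr]
        ring
    obtain ⟨m, hm1, hm2⟩ := int_of_integral
      (show IsIntegral ℤ (W s χ) from IsIntegral.sum _ fun i _ => (show IsIntegral ℤ ((wc i : ℤ) : ℂ) by simpa using (isIntegral_algebraMap (R := ℤ) (A := ℂ) (x := wc i))).mul (hCint _)) hN
    have h9 : (9 : ℤ) ∣ 4 * m := by
      rw [← hm2]
      refine Finset.dvd_sum fun i _ => ?_
      rcases hz' (u 0) i with e0 | e0 <;> rcases hz' (u 1) i with e1 | e1 <;> rcases hz' (u 2) i with e2 | e2 <;>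
        fin_cases s <;> simp only [e0, e1, e2] <;> norm_num
    obtain ⟨h, hh1, -⟩ := int_of_integral (n := ∑ i, z (1, 0, 0) i * z (0, 1, 0) i * z (0, 0, 1) i)
      ((hCint (1, 1, 1)).add (hCint (2, 2, 2))) (by
        rw [Int.cast_sum, ← hh]
        refine Finset.sum_congr rfl fun i _ => ?_
        rw [hz, hz, hz]; push_cast; ring)
    refine ⟨m / 9, h, ?_, hh1, ?_⟩
    · rw [hm1, Int.mul_ediv_cancel' (by omega)]
    · have hreal : ∀ a, R a (-a) → ∃ x : ℤ, (χ : G → ℂ) (f a) = (x : ℂ) := fun a ha => by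
        obtain ⟨x, hx, -⟩ := S3805.int_value hch (hexp _ (hfP a)) (by rw [← hfneg, hR]; exact ha)
        exact ⟨x, hx⟩
      obtain ⟨x0, hx0⟩ := hreal (wr s 0) ((show ∀ s, R (wr s 0) (-(wr s 0)) by decide) s)
      obtain ⟨x1, hx1⟩ := hreal (wr s 1) ((show ∀ s, R (wr s 1) (-(wr s 1)) by decide) s)
      obtain ⟨x2, hx2⟩ := hreal (wr s 2) ((show ∀ s, R (wr s 2) (-(wr s 2)) by decide) s)
      have hW : W s χ = (((2 * x0 - 2 * x1 - 2 * x2 + h) : ℤ) : ℂ) := by
        simp only [W, Fin.sum_univ_five, hx0, hx1, hx2]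
        rw [show wr s 3 = (1, 1, 1) by fin_cases s <;> rfl, show wr s 4 = (2, 2, 2) by fin_cases s <;> rfl]
        simp [wc]
        push_cast
        rw [← hh1]
        ring
      rw [hm1] at hW
      have : m = 2 * x0 - 2 * x1 - 2 * x2 + h := by exact_mod_cast hW
      rw [Int.odd_iff, Int.odd_iff]
      omega
  choose V hh hV hhh hpar using hWV
  let J : Cfsg.IrrCharacter G → Cfsg.IrrCharacter G := fun χ => ⟨fun g => conj ((χ : G → ℂ) g), isIrr_star χ.2⟩
  have hWconj : ∀ s (χ : Cfsg.IrrCharacter G), conj (W s χ) = W s χ := fun s χ => by rw [hV, map_intCast]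
  have hdeg : ∀ χ : Cfsg.IrrCharacter G, ((χ : G → ℂ) 1) = (Cfsg.charDegree (χ : G → ℂ) : ℂ) :=
    fun χ => apply_one (isCharacter_of_irr χ.2)
  have hJV : ∀ s χ, V s (J χ) = V s χ := by
    intro s χ
    have h1 : W s (J χ) = conj (W s χ) := by
      simp only [W, map_sum, map_mul, map_intCast]
      rfl
    rw [hWconj, hV, hV] at h1
    have : 9 * V s (J χ) = 9 * V s χ := by exact_mod_cast h1
    omega
  have hJne : ∀ χ, Odd (V 0 χ) → J χ ≠ χ := by
    intro χ hodd he
    rw [hpar 0 χ] at hodd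
    have hre : conj ((χ : G → ℂ) (f (1, 1, 1))) = (χ : G → ℂ) (f (1, 1, 1)) :=
      congrFun (congrArg Subtype.val he) _
    rw [← apply_inv (isCharacter_of_irr χ.2), ← hfneg, show (-(1, 1, 1) : V3) = (2, 2, 2) by decide] at hre
    have h2 := hhh 0 χ
    rw [hre] at h2
    obtain ⟨m, -, hm⟩ := int_of_integral (isIntegral_apply (isCharacter_of_irr χ.2) (f (1, 1, 1))) (n := 2 * hh 0 χ)
      (by push_cast; rw [← h2]; ring)
    rw [Int.odd_iff] at hodd
    omega
  have hinner : ∀ s t, ∑ χ, V s χ * V t χ = if s = t then 6 else 2 := by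
    intro s t
    have h81 : (((81 * ∑ χ, V s χ * V t χ) : ℤ) : ℂ) = (((if s = t then 486 else 162) : ℤ) : ℂ) := by
      rw [← norm_eq s t, Finset.mul_sum, Int.cast_sum]
      have e : ∀ χ, (((81 * (V s χ * V t χ)) : ℤ) : ℂ) = W s χ * conj (W t χ) := fun χ => by
        rw [hWconj, hV, hV]; push_cast; ring
      simp only [e]
      simp only [W, map_sum, map_mul, map_intCast, Finset.sum_mul_sum]
      rw [Finset.sum_comm, Int.cast_sum]
      refine Finset.sum_congr rfl fun i _ => ?_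
      rw [Finset.sum_comm, Int.cast_sum]
      refine Finset.sum_congr rfl fun j _ => ?_
      have hc := sum_col (G := G) (f (wr s i)) (f (wr t j))
      simp only [hR, hcent _ ((show ∀ s i, wr s i ≠ 0 by decide) s i)] at hc
      push_cast
      rw [← hc, Finset.mul_sum]
      refine Finset.sum_congr rfl fun χ _ => ?_
      ring
    have h := (Int.cast_inj (α := ℂ)).1 h81
    split_ifs at h ⊢ <;> omega
  obtain ⟨a, haJ, hsupp⟩ := pair_support V J (fun χ => Subtype.ext (funext fun g => Complex.conj_conj _)) hJV hJne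
    (fun s χ => by
      have h2 : hh s χ = hh 0 χ := by
        have := (hhh s χ).symm.trans (hhh 0 χ)
        exact_mod_cast this
      rw [hpar s χ, hpar 0 χ, h2])
    (fun s => by rw [hinner, if_pos rfl]) (fun s t hst => by rw [hinner, if_neg hst])
  -- the cubic sum
  have hcube : (Nat.card G : ℂ) * ∑ χ : Cfsg.IrrCharacter G,
      conj ((χ : G → ℂ) (f (1, 0, 0))) * conj (W 0 χ) * W 1 χ / (χ : G → ℂ) 1 = -8748 := by
    have hexpand : (Nat.card G : ℂ) * ∑ χ : Cfsg.IrrCharacter G,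
        conj ((χ : G → ℂ) (f (1, 0, 0))) * conj (W 0 χ) * W 1 χ / (χ : G → ℂ) 1 =
        ∑ i, ∑ j, ((wc i * wc j : ℤ) : ℂ) * ((Nat.card G : ℂ) * ∑ χ : Cfsg.IrrCharacter G,
          conj ((χ : G → ℂ) (f (1, 0, 0))) * conj ((χ : G → ℂ) (f (wr 0 i))) * (χ : G → ℂ) (f (wr 1 j)) / (χ : G → ℂ) 1) := by
      have e : ∀ χ : Cfsg.IrrCharacter G, conj ((χ : G → ℂ) (f (1, 0, 0))) * conj (W 0 χ) * W 1 χ / (χ : G → ℂ) 1 =
          ∑ i, ∑ j, ((wc i * wc j : ℤ) : ℂ) * (conj ((χ : G → ℂ) (f (1, 0, 0))) * conj ((χ : G → ℂ) (f (wr 0 i))) *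
            (χ : G → ℂ) (f (wr 1 j)) / (χ : G → ℂ) 1) := fun χ => by
        simp only [W, map_sum, map_mul, map_intCast]
        simp only [Finset.mul_sum, Finset.sum_mul, Finset.sum_div]
        rw [Finset.sum_comm]
        refine Finset.sum_congr rfl fun i _ => Finset.sum_congr rfl fun j _ => ?_
        push_cast
        ring
      simp only [e, Finset.mul_sum]
      rw [Finset.sum_comm]
      refine Finset.sum_congr rfl fun i _ => ?_
      rw [Finset.sum_comm]
      refine Finset.sum_congr rfl fun j _ => Finset.sum_congr rfl fun χ _ => ?_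
      ring
    rw [hexpand]
    have h54 : (Finset.univ.filter fun p : V3 × K2 => act3 p.2 ((1, 0, 0) : V3) = (1, 0, 0)).card = 54 := by decide +kernel
    have hterm : ∀ i j, (Nat.card G : ℂ) * ∑ χ : Cfsg.IrrCharacter G,
          conj ((χ : G → ℂ) (f (1, 0, 0))) * conj ((χ : G → ℂ) (f (wr 0 i))) * (χ : G → ℂ) (f (wr 1 j)) / (χ : G → ℂ) 1 =
        (((((Finset.univ.filter fun d : V3 => R d (1, 0, 0) ∧ R (wr 1 j - d) (wr 0 i)).card : ℤ) *
          (54 * ((Finset.univ.filter fun p : V3 × K2 => act3 p.2 (wr 0 i) = wr 0 i).card : ℤ))) : ℤ) : ℂ) := by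
      intro i j
      rw [← S3805.pairs_count, hcount _ _ _ (by decide) ((show ∀ s i, wr s i ≠ 0 by decide) 1 j) (by decide)
        ((show ∀ j, ¬ R ((1, 0, 0) : V3) (wr 1 j) by decide) j), hcent _ (by decide), h54,
        hcent _ ((show ∀ s i, wr s i ≠ 0 by decide) 0 i)]
      push_cast
      ring
    simp only [hterm]
    rw [show (-8748 : ℂ) = (((54 : ℤ) * -162 : ℤ) : ℂ) by norm_num, ← count_eq]
    push_cast
    simp only [Finset.mul_sum]
    refine Finset.sum_congr rfl fun i _ => Finset.sum_congr rfl fun j _ => ?_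
    ring
  obtain ⟨x, hx⟩ : ∃ x : Cfsg.IrrCharacter G → ℤ, ∀ χ : Cfsg.IrrCharacter G, (χ : G → ℂ) (f (1, 0, 0)) = (x χ : ℂ) := by
    choose x hx hx' using fun χ : Cfsg.IrrCharacter G =>
      S3805.int_value (isCharacter_of_irr χ.2) (hexp _ (hfP (1, 0, 0))) (by rw [← hfneg, hR]; decide)
    exact ⟨x, hx⟩
  have hsum : ∑ χ : Cfsg.IrrCharacter G, conj ((χ : G → ℂ) (f (1, 0, 0))) * conj (W 0 χ) * W 1 χ / (χ : G → ℂ) 1 =
      2 * (81 * (x a : ℂ) / (Cfsg.charDegree (a : G → ℂ) : ℂ)) := by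
    have e : ∀ χ : Cfsg.IrrCharacter G, conj ((χ : G → ℂ) (f (1, 0, 0))) * conj (W 0 χ) * W 1 χ / (χ : G → ℂ) 1 =
        (((x χ * 81 * (V 0 χ * V 1 χ)) : ℤ) : ℂ) / (Cfsg.charDegree (χ : G → ℂ) : ℂ) := fun χ => by
      rw [hWconj, hV, hV, hx, map_intCast, hdeg]; push_cast; ring
    simp only [e]
    rw [Fintype.sum_eq_add a (J a) (Ne.symm haJ) (fun χ hχ => by
      rw [hsupp χ, if_neg (by tauto)]; simp), hsupp a, hsupp (J a), if_pos (Or.inl rfl), if_pos (Or.inr rfl)]
    have hxJ : x (J a) = x a := by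
      have h1 : ((J a : Cfsg.IrrCharacter G) : G → ℂ) (f (1, 0, 0)) = conj ((a : G → ℂ) (f (1, 0, 0))) := rfl
      rw [hx, hx, map_intCast] at h1
      exact_mod_cast h1
    have hdJ : Cfsg.charDegree ((J a : Cfsg.IrrCharacter G) : G → ℂ) = Cfsg.charDegree (a : G → ℂ) := by
      have h1 : ((J a : Cfsg.IrrCharacter G) : G → ℂ) 1 = conj ((a : G → ℂ) 1) := rfl
      rw [hdeg, hdeg, map_natCast] at h1
      exact_mod_cast h1
    rw [hxJ, hdJ]
    push_cast
    ring
  rw [hsum] at hcube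
  set d := Cfsg.charDegree (a : G → ℂ) with hd
  have hd0 : (d : ℂ) ≠ 0 := Nat.cast_ne_zero.2 (charDegree_pos a.2).ne'
  have hZ : (Nat.card G : ℤ) * x a = -54 * (d : ℤ) := by
    have : ((Nat.card G : ℤ) : ℂ) * (x a : ℂ) = ((-54 * (d : ℤ) : ℤ) : ℂ) := by
      field_simp at hcube
      push_cast
      linear_combination hcube / 162
    exact_mod_cast this
  have hneg : x a ≤ -1 := by
    have := charDegree_pos a.2
    by_contra h
    push Not at h
    have : (0 : ℤ) ≤ (Nat.card G : ℤ) * x a := mul_nonneg (Int.natCast_nonneg _) (by omega)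
    omega
  have hle : Nat.card G ≤ 54 * d := by
    have h1 : (Nat.card G : ℤ) ≤ 54 * (d : ℤ) := by nlinarith [Int.natCast_nonneg (Nat.card G)]
    exact_mod_cast h1
  have hsq : 2 * d ^ 2 ≤ Nat.card G := by
    have hdJ : Cfsg.charDegree ((J a : Cfsg.IrrCharacter G) : G → ℂ) = d := by
      have h1 : ((J a : Cfsg.IrrCharacter G) : G → ℂ) 1 = conj ((a : G → ℂ) 1) := rfl
      rw [hdeg, hdeg, map_natCast] at h1
      exact_mod_cast h1
    rw [← sum_sq_degree (G := G)]
    have := Finset.sum_le_sum_of_subset_of_nonneg (s := {a, J a}) (t := Finset.univ)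
      (f := fun χ : Cfsg.IrrCharacter G => Cfsg.charDegree (χ : G → ℂ) ^ 2) (Finset.subset_univ _)
      (fun _ _ _ => Nat.zero_le _)
    rw [Finset.sum_pair (Ne.symm haJ), hdJ, ← hd] at this
    omega
  have hbig : 108 * 28 ≤ Nat.card G := by
    set N := Subgroup.normalizer ((P : Subgroup G) : Set G) with hNdef
    obtain ⟨g, hg⟩ : ∃ g, g ∉ N := by
      by_contra h
      push Not at h
      exact hne (eq_top_iff.2 fun g _ => hNP ▸ h g)
    have hne1 : ∀ t : (P : Subgroup G), (t : G) • (g • P) ≠ P := by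
      intro t h
      apply hg
      rw [smul_smul, Sylow.smul_eq_iff_mem_normalizer] at h
      exact (N.mul_mem_cancel_left (Subgroup.le_normalizer t.2)).1 h
    have hinj : Function.Injective
        (fun o : Option (P : Subgroup G) => o.elim P (fun t => (t : G) • (g • P))) := by
      rintro (_ | t) (_ | t') h
      · rfl
      · exact absurd h.symm (hne1 t')
      · exact absurd h (hne1 t)
      · simp only [Option.elim] at h
        congr 1
        by_contra htt
        set r : G := (t' : G)⁻¹ * t with hr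
        have hrT : r ∈ (P : Subgroup G) := mul_mem (inv_mem t'.2) t.2
        have hr1 : r ≠ 1 := fun h0 => htt (Subtype.ext (inv_mul_eq_one.1 h0).symm)
        have hfix : r • (g • P) = g • P := by rw [hr, mul_smul, h, inv_smul_smul]
        rw [Sylow.smul_eq_iff_mem_normalizer] at hfix
        have hrP := S3805.mem_sylow_of_normalizer _ hfix (hexp _ hrT)
        rw [S3805.mem_smul_sylow_iff] at hrP
        apply hg
        exact inv_mem_iff.1 (S3805.ti P hab hloc hrT hr1 (g := g⁻¹) (by rw [inv_inv]; exact hrP) hexp)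
    have h10 := Nat.card_le_card_of_injective _ hinj
    rw [Finite.card_option, show Nat.card (P : Subgroup G) = 27 by rw [hPT, hT], Sylow.card_eq_index_normalizer P] at h10
    have h11 : 27 + 1 ≤ H.index := hNP ▸ h10
    rw [← H.card_mul_index, hcardH]
    omega
  nlinarith

end Cfsg.Agent.S3701
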