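import Cfsg.Statements.S3756
import Cfsg.Agent.SolvFactor.Unique
import Cfsg.Agent.S0214

set_option autoImplicit false
open Cfsg

namespace Cfsg.Agent.S3756

/-- Let G be a finite group of even order with O₂(G) = 1 such that every 2-local subgroup of G is solvable, of characteristic 2, and has no section isomorphic to the symmetric group of degree 4. Then every maximal 2-local subgroup of G is strongly embedded in G. -/
theorem result {G : Type*} [Group G] [Finite G] (heven : Even (Nat.card G)) (hO : Cfsg.pCore 2 G = ⊥) (hloc : ∀ M : Subgroup G, Cfsg.IsTwoLocal M → Group.IsSolvable M ∧ Cfsg.IsOfCharacteristicTwo ↥M ∧ ¬ Cfsg.Involves (Equiv.Perm (Fin 4)) ↥M) (M : Subgroup G) (hM : Cfsg.IsMaximalTwoLocal M) : Cfsg.IsStronglyEmbedded M := by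
  classical
  haveI : Fact (Nat.Prime 2) := ⟨Nat.prime_two⟩
  have hG : ∀ N : Subgroup G, Cfsg.IsTwoLocal N → CfsgLib.SolvFactor.Loc N := by
    intro N hN
    obtain ⟨h1, h2, h3⟩ := hloc N hN
    refine ⟨h1, fun g hg hc => ?_, h3⟩
    refine ⟨⟨g, hg⟩, h2 (Subgroup.mem_centralizer_iff.2 fun q hq => Subtype.ext ?_), rfl⟩
    exact hc q ⟨q, hq, rfl⟩
  let S : Sylow 2 G := default
  have hS : (S : Subgroup G) ≠ ⊥ := S.ne_bot_of_dvd_card (even_iff_two_dvd.1 heven)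
  obtain ⟨M₀, hM₀, hSM₀, hkey⟩ := CfsgLib.SolvFactor.exists_unique_maximal hG S hS
  obtain ⟨⟨R, hR2, hR1, hMR⟩, hmax⟩ := hM
  obtain ⟨g, -, hg⟩ := (CfsgLib.SolvFactor.isSyl_of_sylow S (le_top : (S : Subgroup G) ≤ ⊤)).exists_conj
    (le_top : R ≤ ⊤) hR2
  -- normalizers of subgroups conjugate into `S`
  have hconj : ∀ X : Subgroup G, X ≠ ⊥ → (∀ x ∈ X, g * x * g⁻¹ ∈ (S : Subgroup G)) →
      Subgroup.normalizer (X : Set G) ≤ M₀.map (MulAut.conj g⁻¹).toMonoidHom := by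
    intro X hX hXS n hn
    have h1 : g * n * g⁻¹ ∈ M₀ := by
      refine hkey (X.map (MulAut.conj g).toMonoidHom) (by rintro _ ⟨x, hx, rfl⟩; exact hXS x hx)
        (fun e => hX ((Subgroup.map_eq_bot_iff_of_injective _ (MulAut.conj g).injective).1 e)) ?_
      refine Subgroup.mem_normalizer_fintype ?_
      rintro _ ⟨x, hx, rfl⟩
      exact ⟨n * x * n⁻¹, (Subgroup.mem_normalizer_iff.1 hn x).1 hx, by simp [mul_assoc]⟩
    exact ⟨_, h1, by simp [mul_assoc]⟩
  have hMeq : M₀.map (MulAut.conj g⁻¹).toMonoidHom = M :=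
    hmax _ (CfsgLib.SolvFactor.isTwoLocal_map_conj hM₀ g⁻¹) (hMR.le.trans (hconj R hR1 hg))
  have hMtop : M ≠ ⊤ := by
    intro e
    have hRn : R.Normal := Subgroup.normalizer_eq_top_iff.1 (hMR ▸ e)
    exact hR1 (eq_bot_iff.2 ((le_sSup ⟨hRn, hR2⟩ : R ≤ Cfsg.pCore 2 G).trans hO.le))
  set S' := (S : Subgroup G).map (MulAut.conj g⁻¹).toMonoidHom with hS'
  have hS'M : S' ≤ M := hMeq ▸ Subgroup.map_mono hSM₀
  have hsyl : CfsgLib.SolvFactor.IsSyl M S' := by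
    refine ⟨hS'M, S.isPGroup'.map _, fun P _ hP hle => le_antisymm ?_ hle⟩
    have h1 : (S : Subgroup G) ≤ P.map (MulAut.conj g).toMonoidHom := fun s hs =>
      ⟨g⁻¹ * s * g, hle ⟨s, hs, by simp⟩, by simp [mul_assoc]⟩
    intro p hp
    have h2 : g * p * g⁻¹ ∈ (S : Subgroup G) := (S.is_maximal' (hP.map _) h1).le ⟨p, hp, rfl⟩
    exact ⟨_, h2, by simp [mul_assoc]⟩
  have hP : (hsyl.sylow : Subgroup M) ≠ ⊥ := by
    intro e
    have h1 : S'.subgroupOf M = ⊥ := e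
    rw [Subgroup.subgroupOf_eq_bot, disjoint_iff, inf_eq_left.2 hS'M] at h1
    exact hS ((Subgroup.map_eq_bot_iff_of_injective _ (MulAut.conj g⁻¹).injective).1 h1)
  refine (Cfsg.Agent.S0214.result M hMtop hsyl.sylow hP).2 fun X hX hX1 => ?_
  refine (hconj _ (fun e => hX1 ((Subgroup.map_eq_bot_iff_of_injective _ M.subtype_injective).1 e)) ?_).trans hMeq.le
  rintro _ ⟨x, hx, rfl⟩
  obtain ⟨s, hs, hse⟩ := hX hx
  have h3 : (x : G) = g⁻¹ * s * g := by rw [← show MulAut.conj g⁻¹ s = (x : G) from hse]; simp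
  show g * (x : G) * g⁻¹ ∈ (S : Subgroup G)
  rw [h3]
  rw [show g * (g⁻¹ * s * g) * g⁻¹ = s by group]
  exact hs

end Cfsg.Agent.S3756
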