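import Cfsg.Statements.S3806
import Cfsg.Agent.MaxPearl.SectionRank

set_option autoImplicit false
open Cfsg
open scoped commutatorElement

namespace Cfsg.Agent.S3806

/-- Let p be a prime and S a finite p-group of order pⁿ (n ≥ 2) of maximal nilpotency class n − 1 whose sectional p-rank is exactly k (every section has p-rank at most k, and some section has p-rank k). If p ≥ k + 2 then the order of S is at most p^(2k). -/
theorem result {S : Type*} [Group S] [Finite S] (p : ℕ) [Fact p.Prime] (hS : IsPGroup p S) [Group.IsNilpotent S]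
    (n : ℕ) (hn : 2 ≤ n) (hcard : Nat.card S = p ^ n) (hmax : Group.nilpotencyClass S = n - 1)
    (k : ℕ) (hk : 1 ≤ k) (hsr : Cfsg.SectionalPRankLE p k S ∧ ¬ Cfsg.SectionalPRankLE p (k - 1) S)
    (hpk : k + 2 ≤ p) : Nat.card S ≤ p ^ (2 * k) := by
  by_contra hgt
  have hp := (Fact.out : p.Prime)
  have hn2 : 2 * k < n := by
    by_contra hle
    exact hgt (hcard.trans_le (Nat.pow_le_pow_right hp.pos (Nat.not_lt.1 hle)))
  -- a section which is too large
  have hbad : ∀ (H N : Subgroup S), N ≤ H → N.Normal → (∀ x ∈ H, ∀ y ∈ H, ⁅x, y⁆ ∈ N) →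
      (∀ x ∈ H, x ^ p ∈ N) → Nat.card H = Nat.card N * p ^ (k + 1) → False := by
    intro H N hNH hNn hab hpow hc
    haveI := hNn
    have hidx : Nat.card (↥H ⧸ N.subgroupOf H) = p ^ (k + 1) := by
      have h := Subgroup.card_eq_card_quotient_mul_card_subgroup (N.subgroupOf H)
      rw [Nat.card_congr (Subgroup.subgroupOfEquivOfLe hNH).toEquiv, hc, mul_comm] at h
      exact (Nat.eq_of_mul_eq_mul_right Nat.card_pos h).symm
    have h := hsr.1 H (N.subgroupOf H) ⊤ ⟨⟨fun a b => Subtype.ext (show (a : ↥H ⧸ N.subgroupOf H) * b = b * a by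
        obtain ⟨x, hx⟩ := QuotientGroup.mk'_surjective _ (a : ↥H ⧸ N.subgroupOf H)
        obtain ⟨y, hy⟩ := QuotientGroup.mk'_surjective _ (b : ↥H ⧸ N.subgroupOf H)
        rw [← hx, ← hy]
        refine CfsgLib.MaxPearl.commute_mk.2 ?_
        exact hab x x.2 y y.2)⟩⟩ (fun q _ => by
        obtain ⟨x, rfl⟩ := QuotientGroup.mk'_surjective _ q
        rw [← map_pow]
        exact (QuotientGroup.eq_one_iff _).2 (hpow x x.2))
    rw [Subgroup.card_top, hidx] at h
    exact absurd ((Nat.pow_le_pow_iff_right hp.one_lt).1 h) (by omega)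
  have hlcs := CfsgLib.MaxPearl.card_lcs_eq (p := p) hcard hmax
  rcases Nat.lt_or_ge k 2 with hk1 | hk2
  · obtain rfl : k = 1 := by omega
    set L := (⊤ : Subgroup S).lowerCentralSeries 1 with hL
    have hLc : Nat.card L = p ^ (n - 2) := hlcs (by omega) 1 le_rfl (by omega)
    have hq : Nat.card (S ⧸ L) = p ^ 2 := by
      have h := Subgroup.card_eq_card_quotient_mul_card_subgroup L
      rw [hcard, hLc, show n = 2 + (n - 2) by omega, pow_add, show 2 + (n - 2) - 2 = n - 2 by omega] at h
      exact (Nat.eq_of_mul_eq_mul_right (pow_pos hp.pos _) h).symm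
    refine hbad ⊤ L le_top inferInstance (fun x _ y _ => ?_) (fun x _ => ?_) (by
      rw [Subgroup.card_top, hcard, hLc, ← pow_add]; congr 1; omega)
    · rw [hL, Subgroup.lowerCentralSeries_succ]
      exact Subgroup.commutator_mem_commutator (Subgroup.mem_top x) (Subgroup.mem_top y)
    · by_contra hx
      refine CfsgLib.PLocalBasics.not_isCyclic_quotient hS (fun h => ?_)
        (isCyclic_of_orderOf_eq_card (x : S ⧸ L) ?_)
      · rw [show L = ⊥ from h, Subgroup.card_bot] at hLc
        exact (Nat.one_lt_pow (by omega) hp.one_lt).ne hLc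
      · obtain ⟨e, he, hoe⟩ := (Nat.dvd_prime_pow hp).1 (hq ▸ orderOf_dvd_natCard (x : S ⧸ L))
        rw [hq, hoe]
        by_contra hne
        refine hx ((QuotientGroup.eq_one_iff _).1 ?_)
        rw [QuotientGroup.mk_pow, ← orderOf_dvd_iff_pow_eq_one, hoe]
        exact (pow_dvd_pow p (show e ≤ 1 from by
          rcases Nat.lt_or_ge e 2 with h | h
          · omega
          · exact absurd (by rw [le_antisymm he h]) hne)).trans (pow_one p).dvd
  · obtain ⟨T, c, hT⟩ := CfsgLib.MaxPearl.exists_chain (p := p) hcard hmax (by omega)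
    obtain ⟨hab, hpow⟩ := CfsgLib.MaxClassSection.pow_mem_section c hT hk2 hpk hn2
    refine hbad (T k) (T (2 * k + 1)) (c.anti (by omega)) (c.normal _) hab hpow ?_
    rw [c.card k (by omega), c.card (2 * k + 1) hn2, ← pow_add]
    congr 1
    omega

end Cfsg.Agent.S3806
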