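import Cfsg.Statements.S3807
import Cfsg.Agent.PLocalBasics.MaximalClass
import Cfsg.Agent.PGroup.Basic
-- import your own Cfsg.Agent.* helpers here

set_option autoImplicit false
open Cfsg
open scoped commutatorElement

namespace Cfsg.Agent.S3807

/-- Let S be a non-abelian finite p-group with an abelian subgroup A of index p. Then [S : Z(S)] = p·#[S,S], and either [S,S] has order p, S/Z(S) is elementary abelian of order p², and S has exactly p + 1 abelian subgroups of index p; or [S,S] has order at least p² and A is the only abelian subgroup of index p in S. -/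
theorem result {S : Type*} [Group S] [Finite S] (p : ℕ) [Fact p.Prime] (hS : IsPGroup p S) (hna : ¬ IsMulCommutative S)
    (A : Subgroup S) (hA : IsMulCommutative ↥A) (hAi : A.index = p) :
    (Subgroup.center S).index = p * Nat.card (commutator S) ∧
      ((Nat.card (commutator S) = p ∧ Cfsg.IsElementaryAbelian p (⊤ : Subgroup (S ⧸ Subgroup.center S)) ∧
          Nat.card (S ⧸ Subgroup.center S) = p ^ 2 ∧
          Nat.card {B : Subgroup S // IsMulCommutative ↥B ∧ B.index = p} = p + 1) ∨
        (p ^ 2 ≤ Nat.card (commutator S) ∧ ∀ B : Subgroup S, IsMulCommutative ↥B → B.index = p → B = A)) := by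
  classical
  have hp : p.Prime := Fact.out
  obtain ⟨_, hAco⟩ : A.Normal ∧ IsCoatom A := by
    have hc : IsCoatom A := ⟨fun h => by rw [h, Subgroup.index_top] at hAi; exact hp.one_lt.ne hAi, fun B hB => by
      by_contra hne
      have hd := Subgroup.index_dvd_of_le hB.le
      rw [hAi] at hd
      rcases (Nat.dvd_prime hp).mp hd with h | h
      · exact hne (Subgroup.index_eq_one.mp h)
      · exact hB.ne (Subgroup.eq_of_le_of_card_ge hB.le (by
          have h1 := A.card_mul_index; have h2 := B.card_mul_index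
          rw [hAi] at h1; rw [h] at h2
          exact le_of_eq (Nat.eq_of_mul_eq_mul_right hp.pos (h2.trans h1.symm))))⟩
    exact ⟨(CfsgLib.PGroup.index_coatom hS hc).1, hc⟩
  have hc : ∀ a ∈ A, ∀ b ∈ A, a * b = b * a := fun a ha b hb =>
    congrArg Subtype.val (hA.is_comm.comm (⟨a, ha⟩ : A) ⟨b, hb⟩)
  obtain ⟨x, -, hxA⟩ := SetLike.exists_of_lt (lt_top_iff_ne_top.mpr hAco.1)
  have hgen : ∀ K : Subgroup S, A ≤ K → x ∈ K → K = ⊤ := fun K hAK hxK =>
    hAco.2 K (lt_of_le_not_ge hAK fun h => hxA (h hxK))
  -- the centre lies in every abelian subgroup of index `p`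
  have hZle : ∀ B : Subgroup S, IsMulCommutative B → B.index = p → Subgroup.center S ≤ B := by
    intro B hB hBi z hz
    by_contra hzB
    apply hna
    have hBc : ∀ a ∈ B, ∀ b ∈ B, a * b = b * a := fun a ha b hb =>
      congrArg Subtype.val (hB.is_comm.comm (⟨a, ha⟩ : B) ⟨b, hb⟩)
    have htop : B ⊔ Subgroup.zpowers z = ⊤ := by
      have hlt : B < B ⊔ Subgroup.zpowers z :=
        lt_of_le_not_ge le_sup_left fun h => hzB (h (Subgroup.mem_sup_right (Subgroup.mem_zpowers z)))
      have hd := Subgroup.index_dvd_of_le hlt.le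
      rw [hBi] at hd
      rcases (Nat.dvd_prime hp).mp hd with h | h
      · exact Subgroup.index_eq_one.mp h
      · exfalso
        refine hlt.ne (Subgroup.eq_of_le_of_card_ge hlt.le ?_)
        have h1 := B.card_mul_index; have h2 := (B ⊔ Subgroup.zpowers z).card_mul_index
        rw [hBi] at h1; rw [h] at h2
        exact le_of_eq (Nat.eq_of_mul_eq_mul_right hp.pos (h2.trans h1.symm))
    have hcen : B ≤ Subgroup.center S := fun b hb => Subgroup.mem_center_iff.mpr fun g => by
      have : B ⊔ Subgroup.zpowers z ≤ Subgroup.centralizer ({b} : Set S) := sup_le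
        (fun c hc' => Subgroup.mem_centralizer_singleton_iff.mpr (hBc c hc' b hb))
        (Subgroup.zpowers_le.mpr (Subgroup.mem_centralizer_singleton_iff.mpr (Subgroup.mem_center_iff.mp hz b).symm))
      exact Subgroup.mem_centralizer_singleton_iff.mp (this (htop ▸ Subgroup.mem_top g))
    have htopZ : (⊤ : Subgroup S) ≤ Subgroup.center S := htop ▸ sup_le hcen (Subgroup.zpowers_le.mpr hz)
    exact ⟨⟨fun a b => Subgroup.mem_center_iff.mp (htopZ (Subgroup.mem_top b)) a⟩⟩
  have hZA := hZle A hA hAi
  let τ : A →* S :=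
    { toFun := fun a => ⁅(a : S), x⁆
      map_one' := commutatorElement_one_left x
      map_mul' := fun a b => by
        have hb : ⁅(b : S), x⁆ ∈ A := by
          rw [show ⁅(b : S), x⁆ = (b : S) * (x * (b : S)⁻¹ * x⁻¹) by rw [commutatorElement_def]; group]
          exact A.mul_mem b.2 (Subgroup.Normal.conj_mem inferInstance _ (A.inv_mem b.2) x)
        calc ⁅((a * b : A) : S), x⁆ = ((a : S) * ⁅(b : S), x⁆) * (a : S)⁻¹ * ⁅(a : S), x⁆ := by
              simp only [Subgroup.coe_mul, commutatorElement_def]; group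
          _ = ⁅(b : S), x⁆ * ⁅(a : S), x⁆ := by rw [hc a a.2 _ hb, mul_inv_cancel_right]
          _ = _ := hc _ hb _ (by
              rw [show ⁅(a : S), x⁆ = (a : S) * (x * (a : S)⁻¹ * x⁻¹) by rw [commutatorElement_def]; group]
              exact A.mul_mem a.2 (Subgroup.Normal.conj_mem inferInstance _ (A.inv_mem a.2) x)) }
  have hker : τ.ker = (Subgroup.center S).subgroupOf A := by
    ext a
    rw [MonoidHom.mem_ker, Subgroup.mem_subgroupOf]
    show ⁅(a : S), x⁆ = 1 ↔ _
    rw [commutatorElement_eq_one_iff_mul_comm]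
    refine ⟨fun h => Subgroup.mem_center_iff.mpr fun g => ?_, fun h => (Subgroup.mem_center_iff.mp h x).symm⟩
    have : Subgroup.centralizer ({(a : S)} : Set S) = ⊤ := hgen _
      (fun b hb => Subgroup.mem_centralizer_singleton_iff.mpr (hc b hb a a.2))
      (Subgroup.mem_centralizer_singleton_iff.mpr h.symm)
    exact Subgroup.mem_centralizer_singleton_iff.mp (this ▸ Subgroup.mem_top g)
  have hrA : τ.range ≤ A := by
    rintro _ ⟨a, rfl⟩
    show ⁅(a : S), x⁆ ∈ A
    rw [show ⁅(a : S), x⁆ = (a : S) * (x * (a : S)⁻¹ * x⁻¹) by rw [commutatorElement_def]; group]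
    exact A.mul_mem a.2 (Subgroup.Normal.conj_mem inferInstance _ (A.inv_mem a.2) x)
  haveI hrn : τ.range.Normal := by
    rw [← Subgroup.normalizer_eq_top_iff]
    refine hgen _ (fun b hb => Subgroup.mem_normalizer_fintype fun y hy => ?_)
      (Subgroup.mem_normalizer_fintype ?_)
    · show b * y * b⁻¹ ∈ τ.range
      rwa [hc b hb y (hrA hy), mul_inv_cancel_right]
    · rintro _ ⟨a, rfl⟩
      refine ⟨⟨x * a * x⁻¹, Subgroup.Normal.conj_mem inferInstance _ a.2 x⟩, ?_⟩
      show ⁅x * (a : S) * x⁻¹, x⁆ = x * ⁅(a : S), x⁆ * x⁻¹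
      simp [commutatorElement_def, mul_assoc]
  have hcomm : commutator S = τ.range := by
    refine le_antisymm ?_ ?_
    · set π := QuotientGroup.mk' τ.range
      have h1 : ∀ a ∈ A, π a * π x = π x * π a := fun a ha => by
        rw [← commutatorElement_eq_one_iff_mul_comm, ← map_commutatorElement]
        exact (QuotientGroup.eq_one_iff _).mpr ⟨⟨a, ha⟩, rfl⟩
      have h2 : (Subgroup.centralizer ({π x} : Set (S ⧸ τ.range))).comap π = ⊤ := hgen _
        (fun a ha => Subgroup.mem_centralizer_singleton_iff.mpr (h1 a ha))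
        (Subgroup.mem_centralizer_singleton_iff.mpr rfl)
      have h3 : ∀ a ∈ A, (Subgroup.centralizer ({π a} : Set (S ⧸ τ.range))).comap π = ⊤ := fun a ha => hgen _
        (fun b hb => Subgroup.mem_centralizer_singleton_iff.mpr (by rw [← map_mul, ← map_mul, hc b hb a ha]))
        (Subgroup.mem_centralizer_singleton_iff.mpr (h1 a ha).symm)
      have h4 : (Subgroup.center (S ⧸ τ.range)).comap π = ⊤ := hgen _
        (fun a ha => Subgroup.mem_center_iff.mpr fun g => by
          obtain ⟨g, rfl⟩ := QuotientGroup.mk'_surjective τ.range g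
          exact Subgroup.mem_centralizer_singleton_iff.mp
            (Subgroup.mem_comap.mp ((h3 a ha).ge (Subgroup.mem_top g))))
        (Subgroup.mem_center_iff.mpr fun g => by
          obtain ⟨g, rfl⟩ := QuotientGroup.mk'_surjective τ.range g
          exact Subgroup.mem_centralizer_singleton_iff.mp
            (Subgroup.mem_comap.mp (h2.ge (Subgroup.mem_top g))))
      rw [commutator_eq_closure, Subgroup.closure_le]
      rintro _ ⟨a, b, rfl⟩
      refine (QuotientGroup.eq_one_iff _).mp ?_
      change π ⁅a, b⁆ = 1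
      rw [map_commutatorElement, commutatorElement_eq_one_iff_mul_comm]
      exact Subgroup.mem_center_iff.mp
        (Subgroup.mem_comap.mp (h4.ge (Subgroup.mem_top b))) _
    · rintro _ ⟨a, rfl⟩
      exact Subgroup.commutator_mem_commutator (Subgroup.mem_top _) (Subgroup.mem_top _)
  have hidx : (Subgroup.center S).index = p * Nat.card (commutator S) := by
    rw [← Subgroup.relIndex_mul_index hZA, hAi, mul_comm, hcomm]
    congr 1
    show ((Subgroup.center S).subgroupOf A).index = _
    rw [← hker, Subgroup.index_ker]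
  refine ⟨hidx, ?_⟩
  obtain ⟨i, hi⟩ := (hS.to_subgroup (commutator S)).exists_card_eq
  have hi0 : i ≠ 0 := by
    rintro rfl
    rw [pow_zero, Subgroup.card_eq_one] at hi
    exact hna ⟨⟨fun a b => commutatorElement_eq_one_iff_mul_comm.mp (Subgroup.mem_bot.mp
      (hi ▸ Subgroup.commutator_mem_commutator (Subgroup.mem_top a) (Subgroup.mem_top b)))⟩⟩
  rcases (show i = 1 ∨ 2 ≤ i by omega) with h1 | h2
  · left
    have hcard : Nat.card (commutator S) = p := by rw [hi, h1, pow_one]
    have hQ : Nat.card (S ⧸ Subgroup.center S) = p ^ 2 := by rw [← Subgroup.index_eq_card, hidx, hcard, pow_two]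
    have hncyc : ¬ IsCyclic (S ⧸ Subgroup.center S) := fun h => hna ⟨⟨fun a b =>
      commutative_of_cyclic_center_quotient (QuotientGroup.mk' (Subgroup.center S)) (by simp) a b⟩⟩
    have hexp : ∀ g : S ⧸ Subgroup.center S, g ^ p = 1 := by
      intro g
      obtain ⟨j, hj, he⟩ := (Nat.dvd_prime_pow hp).mp (show orderOf g ∣ p ^ 2 from hQ ▸ orderOf_dvd_natCard g)
      apply orderOf_dvd_iff_pow_eq_one.mp
      interval_cases j
      · simp [he]
      · simp [he]
      · exact absurd (isCyclic_of_orderOf_eq_card g (by rw [he, hQ])) hncyc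
    refine ⟨hcard, ⟨⟨⟨fun a b => Subtype.ext ((IsPGroup.commGroupOfCardEqPrimeSq hQ).mul_comm a.1 b.1)⟩⟩, fun a _ => hexp a⟩, hQ, ?_⟩
    rw [← CfsgLib.PLocalBasics.card_order_p_subgroups hQ hexp]
    set π := QuotientGroup.mk' (Subgroup.center S)
    have hidx2 : ∀ K : Subgroup (S ⧸ Subgroup.center S), Nat.card K = p → (K.comap π).index = p := fun K hK => by
      rw [Subgroup.index_comap_of_surjective _ (QuotientGroup.mk'_surjective _)]
      have := K.card_mul_index
      rw [hK, hQ, pow_two] at this
      exact Nat.eq_of_mul_eq_mul_left hp.pos this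
    refine Nat.card_congr
      { toFun := fun B => ⟨B.1.map π, ?_⟩
        invFun := fun K => ⟨K.1.comap π, ?_, hidx2 K.1 K.2⟩
        left_inv := fun B => Subtype.ext (by
          show (B.1.map π).comap π = B.1
          rw [Subgroup.comap_map_eq, QuotientGroup.ker_mk', sup_eq_left.mpr (hZle B.1 B.2.1 B.2.2)])
        right_inv := fun K => Subtype.ext
          (Subgroup.map_comap_eq_self_of_surjective (QuotientGroup.mk'_surjective _) K.1) }
    · have h1 := (B.1.map π).card_mul_index
      rw [hQ, Subgroup.index_map_eq _ (QuotientGroup.mk'_surjective _)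
        (by rw [QuotientGroup.ker_mk']; exact hZle B.1 B.2.1 B.2.2), B.2.2, pow_two] at h1
      exact Nat.eq_of_mul_eq_mul_right hp.pos h1
    · haveI : IsCyclic K.1 := isCyclic_of_prime_card K.2
      let f : ↥(K.1.comap π) →* ↥K.1 := (π.comp (K.1.comap π).subtype).codRestrict K.1 fun a => a.2
      exact ⟨⟨commutative_of_cyclic_center_quotient f fun a ha => Subgroup.mem_center_iff.mpr fun b => Subtype.ext
        (Subgroup.mem_center_iff.mp ((QuotientGroup.eq_one_iff (a : S)).mp (congrArg Subtype.val ha)) b)⟩⟩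
  · right
    refine ⟨hi ▸ Nat.pow_le_pow_right hp.pos h2, fun B hB hBi => ?_⟩
    by_contra hne
    have hBc : ∀ a ∈ B, ∀ b ∈ B, a * b = b * a := fun a ha b hb =>
      congrArg Subtype.val (hB.is_comm.comm (⟨a, ha⟩ : B) ⟨b, hb⟩)
    obtain ⟨y, hyB, hyA⟩ := SetLike.not_le_iff_exists.mp
      (fun h : B ≤ A => hne (Subgroup.eq_of_le_of_card_ge h (le_of_eq (Nat.eq_of_mul_eq_mul_right hp.pos
        (show Nat.card A * p = Nat.card B * p by
          conv_lhs => rw [← hAi, A.card_mul_index, ← B.card_mul_index, hBi])))))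
    have hAB : ∀ K : Subgroup S, A ≤ K → y ∈ K → K = ⊤ := fun K hAK hyK =>
      hAco.2 K (lt_of_le_not_ge hAK fun h => hyA (h hyK))
    have hle : A ⊓ B ≤ Subgroup.center S := fun z hz => Subgroup.mem_center_iff.mpr fun g => by
      have : Subgroup.centralizer ({z} : Set S) = ⊤ := hAB _
        (fun a ha => Subgroup.mem_centralizer_singleton_iff.mpr (hc a ha z hz.1))
        (Subgroup.mem_centralizer_singleton_iff.mpr (hBc y hyB z hz.2))
      exact Subgroup.mem_centralizer_singleton_iff.mp (this ▸ Subgroup.mem_top g)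
    have h3 : (Subgroup.center S).index ≤ p * p :=
      (Nat.le_of_dvd (Nat.pos_of_ne_zero Subgroup.index_ne_zero_of_finite) (Subgroup.index_dvd_of_le hle)).trans
        (Subgroup.index_inf_le.trans (by rw [hAi, hBi]))
    rw [hidx, hi] at h3
    have := (Nat.le_of_mul_le_mul_left h3 hp.pos).trans (pow_one p).ge
    exact absurd ((Nat.pow_le_pow_iff_right hp.one_lt).mp this) (by omega)

end Cfsg.Agent.S3807
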