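import Cfsg.Statements.S3808
import Cfsg.Agent.PGroup.ExtraspecialIndex
import Mathlib.Tactic.IntervalCases

set_option autoImplicit false
open Cfsg

namespace Cfsg.Agent.S3808

/-- Let S be a finite p-group with an extraspecial subgroup Q of index p. Then either Z(S) = Z(Q), or S = Q·Z(S) and Z(S) has order p². -/
theorem result {S : Type*} [Group S] [Finite S] (p : ℕ) [Fact p.Prime] (hS : IsPGroup p S) (Q : Subgroup S) (hQ : Cfsg.IsExtraspecial p ↥Q) (hQi : Q.index = p) :
    Subgroup.center S = (Subgroup.center ↥Q).map Q.subtype ∨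
      (Q ⊔ Subgroup.center S = ⊤ ∧ Nat.card (Subgroup.center S) = p ^ 2) := by
  obtain ⟨hn, hco⟩ := CfsgLib.Extraspecial.normal_of_index_eq hS hQi
  haveI := hn
  have hZ := CfsgLib.Extraspecial.center_inf_eq hS hQ
  by_cases hle : Subgroup.center S ≤ Q
  · left; rw [← hZ]; exact (inf_eq_left.mpr hle).symm
  · right
    have htop : Q ⊔ Subgroup.center S = ⊤ :=
      hco.2 _ (lt_of_le_of_ne le_sup_left fun h => hle (h ▸ le_sup_right))
    refine ⟨htop, ?_⟩
    have h1 := CfsgLib.PGroup.card_mul_relIndex_of_le (inf_le_left : Subgroup.center S ⊓ Q ≤ Subgroup.center S)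
    have h2 : (Subgroup.center S ⊓ Q).relIndex (Subgroup.center S) = p := by
      rw [Subgroup.inf_relIndex_left, ← Subgroup.relIndex_sup_right, sup_comm, htop, Subgroup.relIndex_top_right, hQi]
    rw [h2, hZ, CfsgLib.Extraspecial.card_map_center Q hQ] at h1
    rw [← h1, pow_two]

end Cfsg.Agent.S3808
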