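import Cfsg.Statements.S3809
import Cfsg.Agent.PGroup.ExtraspecialIndex
import Mathlib.Tactic.IntervalCases

set_option autoImplicit false
open Cfsg

namespace Cfsg.Agent.S3809

/-- Let S be a finite p-group with an extraspecial subgroup of index p. Then S has order p^(2+2n) for some n ≥ 1, derived length at most 3, and exponent dividing p³. -/
theorem result {S : Type*} [Group S] [Finite S] (p : ℕ) [Fact p.Prime] (hS : IsPGroup p S) (Q : Subgroup S) (hQ : Cfsg.IsExtraspecial p ↥Q) (hQi : Q.index = p) :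
    (∃ n : ℕ, 1 ≤ n ∧ Nat.card S = p ^ (2 + 2 * n)) ∧ derivedSeries S 3 = ⊥ ∧ ∀ x : S, x ^ (p ^ 3) = 1 := by
  obtain ⟨hn, hco⟩ := CfsgLib.Extraspecial.normal_of_index_eq hS hQi
  haveI := hn
  obtain ⟨n, hn1, hn2⟩ := CfsgLib.Extraspecial.exists_card hQ
  refine ⟨⟨n, hn1, ?_⟩, ?_, fun x => ?_⟩
  · rw [← Subgroup.card_mul_index Q, hn2, hQi, ← pow_succ]; congr 1; omega
  · have hcyc : IsCyclic (S ⧸ Q) := isCyclic_of_prime_card (p := p) hQi
    have h1 : derivedSeries S 1 ≤ Q := by
      rw [derivedSeries_one]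
      exact (Subgroup.Normal.quotient_commutative_iff_commutator_le).mp IsCyclic.isMulCommutative
    have h2 : derivedSeries S 2 ≤ (Subgroup.center Q).map Q.subtype := by
      rw [derivedSeries_succ]
      refine (Subgroup.commutator_mono h1 h1).trans ?_
      rw [← hQ.1.2.2, Subgroup.map_subtype_commutator]
    rw [derivedSeries_succ, eq_bot_iff]
    refine (Subgroup.commutator_mono h2 h2).trans ?_
    rw [← Subgroup.map_commutator, Subgroup.commutator_center_left, Subgroup.map_bot]
  · have hx : x ^ p ∈ Q := hQi ▸ Q.pow_index_mem x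
    have := congrArg Subtype.val (CfsgLib.Extraspecial.pow_sq_eq_one hQ ⟨_, hx⟩)
    simpa [← pow_mul, ← pow_succ'] using this

end Cfsg.Agent.S3809
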