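import Cfsg.Statements.S3810
import Cfsg.Agent.PGroup.ExtraspecialIndex
import Mathlib.Tactic.IntervalCases

set_option autoImplicit false
open Cfsg
open scoped commutatorElement

namespace Cfsg.Agent.S3810

/-- Let S be a finite p-group with an extraspecial subgroup of index p. Then S has an abelian subgroup of index p if and only if S has order p⁴. -/
theorem result {S : Type*} [Group S] [Finite S] (p : ℕ) [Fact p.Prime] (hS : IsPGroup p S) (Q : Subgroup S) (hQ : Cfsg.IsExtraspecial p ↥Q) (hQi : Q.index = p) :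
    (∃ A : Subgroup S, IsMulCommutative ↥A ∧ A.index = p) ↔ Nat.card S = p ^ 4 := by
  obtain ⟨hn, hco⟩ := CfsgLib.Extraspecial.normal_of_index_eq hS hQi
  haveI := hn
  obtain ⟨n, hn1, hn2⟩ := CfsgLib.Extraspecial.exists_card hQ
  have hScard : Nat.card S = p ^ (2 * n + 2) := by
    rw [← Subgroup.card_mul_index Q, hn2, hQi, ← pow_succ]
  have hp2 := (Fact.out : p.Prime).two_le
  constructor
  · rintro ⟨A, hA, hAi⟩
    have hA' : IsMulCommutative ↥(A.subgroupOf Q) :=
      ⟨⟨fun a b => Subtype.ext (Subtype.ext (congrArg (fun z : A => (z : S))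
        (hA.is_comm.comm (⟨_, Subgroup.mem_subgroupOf.mp a.2⟩ : A) ⟨_, Subgroup.mem_subgroupOf.mp b.2⟩)))⟩⟩
    have h1 := CfsgLib.Extraspecial.card_abelian_sq_le hQ hA'
    have h2 := Subgroup.card_mul_index (A.subgroupOf Q)
    have h3 : A.relIndex Q ≤ p := by
      rw [← hAi, ← Subgroup.relIndex_top_right A]
      exact Subgroup.relIndex_le_of_le_right le_top Subgroup.index_ne_zero_of_finite
    have h4 : p ^ (2 * n) ≤ Nat.card (A.subgroupOf Q) := by
      refine Nat.le_of_mul_le_mul_right ?_ (show 0 < p by omega)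
      rw [← pow_succ, ← hn2, ← h2]
      exact Nat.mul_le_mul_left _ h3
    rw [hn2] at h1
    have h5 : p ^ (2 * n + 2 * n) ≤ p ^ (2 * n + 2) := by
      rw [pow_add, pow_succ' p (2 * n + 1)]
      exact (Nat.mul_le_mul h4 h4).trans h1
    have h6 := (Nat.pow_le_pow_iff_right hp2).mp h5
    rw [hScard]; congr 1; omega
  · intro h4
    rw [hScard] at h4
    have hn' := Nat.pow_right_injective hp2 h4
    have hQ3 : Nat.card Q = p ^ 3 := by rw [hn2]; congr 1; omega
    have hZ := CfsgLib.Extraspecial.center_inf_eq hS hQ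
    have hZc := CfsgLib.Extraspecial.card_map_center Q hQ
    set Z := (Subgroup.center Q).map Q.subtype with hZdef
    haveI : Z.Normal := by rw [← hZ]; exact Subgroup.normal_inf_normal _ _
    have hZQ : Z < Q := by
      refine lt_of_le_of_ne (hZ ▸ inf_le_right) fun h => ?_
      rw [h, hQ3] at hZc
      have := Nat.pow_right_injective hp2 (hZc.trans (pow_one p).symm)
      omega
    obtain ⟨x, hxQ, hxZ, hxg⟩ := CfsgLib.PGroup.exists_mem_central_mod hS hZQ
    set C := Subgroup.centralizer ({x} : Set S) with hC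
    have hCi : C.index ≤ p := (CfsgLib.PGroup.index_centralizer_le (Z := Z) fun g => by
      rw [← commutatorElement_inv]; exact Z.inv_mem (hxg g)).trans hZc.le
    have hCne : C ≠ ⊤ := fun h => hxZ (hZ.le ⟨Subgroup.mem_center_iff.mpr fun g =>
      Subgroup.mem_centralizer_singleton_iff.mp (by rw [← hC, h]; exact Subgroup.mem_top g), hxQ⟩)
    obtain ⟨k, hk⟩ := hS.index C
    have hk1 : k = 1 := by
      have hk0 : k ≠ 0 := fun h0 => hCne (Subgroup.index_eq_one.mp (by rw [hk, h0, pow_zero]))
      rw [hk] at hCi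
      have := (Nat.pow_le_pow_iff_right hp2).mp (hCi.trans_eq (pow_one p).symm)
      omega
    rw [hk1, pow_one] at hk
    refine ⟨C, ?_, hk⟩
    have hCcard : Nat.card C = p ^ 3 := by
      have e := Subgroup.card_mul_index C
      rw [hk, hScard, hn'] at e
      exact Nat.eq_of_mul_eq_mul_right (show 0 < p by omega) (e.trans (pow_succ p 3))
    have hZC : Z ≤ C := fun z hz => Subgroup.mem_centralizer_singleton_iff.mpr
      ((Subgroup.mem_center_iff.mp ((hZ.ge hz).1) x).symm)
    have hxC : x ∈ C := Subgroup.mem_centralizer_singleton_iff.mpr rfl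
    set D := (Z ⊔ Subgroup.zpowers x).subgroupOf C
    have hDc : D ≤ Subgroup.center C := by
      intro d hd
      rw [Subgroup.mem_center_iff]
      intro g
      apply Subtype.ext
      have : Z ⊔ Subgroup.zpowers x ≤ Subgroup.centralizer ({(g : S)} : Set S) := by
        refine sup_le (fun z hz => Subgroup.mem_centralizer_singleton_iff.mpr
          ((Subgroup.mem_center_iff.mp ((hZ.ge hz).1) g).symm)) (Subgroup.zpowers_le.mpr ?_)
        exact Subgroup.mem_centralizer_singleton_iff.mpr (Subgroup.mem_centralizer_singleton_iff.mp g.2).symm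
      exact (Subgroup.mem_centralizer_singleton_iff.mp (this (Subgroup.mem_subgroupOf.mp hd))).symm
    have hlt : Z < Z ⊔ Subgroup.zpowers x := lt_of_le_of_ne le_sup_left fun h =>
      hxZ (h ▸ Subgroup.mem_sup_right (Subgroup.mem_zpowers x))
    obtain ⟨j, hj⟩ := (hS.to_subgroup (Z ⊔ Subgroup.zpowers x)).exists_card_eq
    have hj2 : p ^ 2 ≤ Nat.card D := by
      rw [Nat.card_congr (Subgroup.subgroupOfEquivOfLe (sup_le hZC (Subgroup.zpowers_le.mpr hxC))).toEquiv, hj]
      refine Nat.pow_le_pow_right (by omega) ?_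
      have h0 : Nat.card Z < p ^ j := by
        rw [← hj]
        exact lt_of_le_of_ne (Subgroup.card_le_of_le hlt.le) fun h =>
          hlt.ne (Subgroup.eq_of_le_of_card_ge hlt.le h.ge)
      rw [hZc] at h0
      exact (Nat.pow_lt_pow_iff_right hp2).mp (by rwa [pow_one])
    have hcyc : IsCyclic (C ⧸ Subgroup.center C) := by
      obtain ⟨i, hi⟩ := (hS.to_subgroup C).index (Subgroup.center C)
      have hm := Subgroup.card_mul_index (Subgroup.center C)
      rw [hi, hCcard] at hm
      have hle : p ^ 2 ≤ Nat.card (Subgroup.center C) := hj2.trans (Subgroup.card_le_of_le hDc)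
      have hi1 : i ≤ 1 := by
        by_contra hi2
        have : p ^ 2 * p ^ 2 ≤ p ^ 3 := hm ▸ Nat.mul_le_mul hle (Nat.pow_le_pow_right (by omega) (by omega))
        rw [← pow_add] at this
        have := (Nat.pow_le_pow_iff_right hp2).mp this
        omega
      interval_cases i
      · rw [pow_zero] at hi
        haveI : Subsingleton (C ⧸ Subgroup.center C) := (Nat.card_eq_one_iff_unique.mp hi).1
        infer_instance
      · rw [pow_one] at hi; exact isCyclic_of_prime_card hi
    exact IsMulCommutative.of_comm (commutative_of_cyclic_center_quotient (QuotientGroup.mk' (Subgroup.center C))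
      (by rw [QuotientGroup.ker_mk']))

end Cfsg.Agent.S3810
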