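import Cfsg.Statements.S3824
import Cfsg.Agent.ClassSize.PPowerIndex

set_option autoImplicit false
open Cfsg

namespace Cfsg.Agent.S3824

universe u

theorem aux : ∀ (n : ℕ) (G : Type u) [Group G] [Finite G], Nat.card G = n →
    ∀ A : Subgroup G, IsMulCommutative A → (∃ k : ℕ, A.index = 2 ^ k) → Group.IsSolvable G := by
  intro n
  induction n using Nat.strong_induction_on with
  | _ n ih =>
    intro G _ _ hn A hA hk
    obtain ⟨k, hk⟩ := hk
    have hcomm := hA
    by_cases hN : ∃ N : Subgroup G, N.Normal ∧ N ≠ ⊥ ∧ N ≠ ⊤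
    · obtain ⟨N, hNn, hb, ht⟩ := hN
      haveI := hNn
      have h1 : Nat.card N < n := by
        rw [← hn]
        exact lt_of_le_of_ne (Subgroup.card_le_card_group N)
          (fun h' => ht (Subgroup.eq_top_of_card_eq N h'))
      have h2 : Nat.card (G ⧸ N) < n := by
        rw [← hn, Subgroup.card_eq_card_quotient_mul_card_subgroup N]
        have : 1 < Nat.card N := (Subgroup.one_lt_card_iff_ne_bot N).mpr hb
        exact lt_mul_of_one_lt_right Nat.card_pos this
      haveI := ih _ h1 N rfl (A.subgroupOf N)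
        ⟨⟨fun a b => Subtype.ext (Subtype.ext (show ((a : N) : G) * ((b : N) : G) = ((b : N) : G) * ((a : N) : G) from congrArg (fun x : A => (x : G)) (hcomm.is_comm.comm
          (⟨((a : N) : G), a.2⟩ : A) (⟨((b : N) : G), b.2⟩ : A))))⟩⟩
        (by
          obtain ⟨i, -, hi⟩ := (Nat.dvd_prime_pow Nat.prime_two).1
            (hk ▸ CfsgLib.ClassSize.relIndex_dvd_index_of_normal N A)
          exact ⟨i, hi⟩)
      haveI := ih _ h2 (G ⧸ N) rfl (A.map (QuotientGroup.mk' N))
        ⟨⟨by
          rintro ⟨_, a, ha, rfl⟩ ⟨_, b, hb, rfl⟩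
          apply Subtype.ext
          show QuotientGroup.mk' N a * QuotientGroup.mk' N b = QuotientGroup.mk' N b * QuotientGroup.mk' N a
          rw [← map_mul, ← map_mul]
          exact congrArg _ (congrArg Subtype.val (hcomm.is_comm.comm (⟨a, ha⟩ : A) ⟨b, hb⟩))⟩⟩
        (by
          obtain ⟨i, -, hi⟩ := (Nat.dvd_prime_pow Nat.prime_two).1
            (hk ▸ Subgroup.index_map_dvd A (QuotientGroup.mk'_surjective N))
          exact ⟨i, hi⟩)
      exact Group.isSolvable_of_ker_le_range N.subtype (QuotientGroup.mk' N)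
        (le_of_eq (by rw [QuotientGroup.ker_mk', Subgroup.range_subtype]))
    · by_cases hab : ∀ a b : G, a * b = b * a
      · exact Group.isSolvable_of_comm hab
      push Not at hN
      rcases eq_or_ne A ⊥ with rfl | hne
      · rw [Subgroup.index_bot] at hk
        haveI : Fact (Nat.Prime 2) := ⟨Nat.prime_two⟩
        haveI := (IsPGroup.of_card hk).isNilpotent
        infer_instance
      exfalso
      obtain ⟨⟨a, haA⟩, ha1'⟩ := Subgroup.ne_bot_iff_exists_ne_one.1 hne
      have ha1 : a ≠ 1 := fun h => ha1' (Subtype.ext h)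
      haveI : Nontrivial G := ⟨⟨a, 1, ha1⟩⟩
      have hsimple : IsSimpleGroup G := ⟨fun H hH => (em (H = ⊥)).imp id (hN H hH)⟩
      have hle : A ≤ Subgroup.centralizer ({a} : Set G) := fun b hb =>
        Subgroup.mem_centralizer_singleton_iff.2
          (congrArg Subtype.val (hcomm.is_comm.comm (⟨b, hb⟩ : A) ⟨a, haA⟩))
      obtain ⟨i, -, hi⟩ := (Nat.dvd_prime_pow Nat.prime_two).1 (hk ▸ Subgroup.index_dvd_of_le hle)
      rcases Nat.eq_zero_or_pos i with rfl | hi0
      · rw [pow_zero, Subgroup.index_eq_one] at hi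
        have hz : a ∈ Subgroup.center G := Subgroup.mem_center_iff.2 fun x =>
          Subgroup.mem_centralizer_singleton_iff.1 (hi ▸ Subgroup.mem_top x)
        rcases hsimple.eq_bot_or_eq_top_of_normal _ (inferInstance : (Subgroup.center G).Normal) with h | h
        · exact ha1 (Subgroup.mem_bot.1 (h ▸ hz))
        · exact hab fun x y => (Subgroup.mem_center_iff.1 (h ▸ Subgroup.mem_top x) y).symm
      · exact CfsgLib.CharBasics.not_isSimpleGroup_of_class_prime_pow Nat.prime_two a hi hi0 hsimple

/-- Every finite group having an abelian subgroup whose index is a power of 2 is solvable. -/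
theorem result {G : Type*} [Group G] [Finite G]
    (A : Subgroup G) (hA : IsMulCommutative A) (hidx : ∃ k : ℕ, A.index = 2 ^ k) : Group.IsSolvable G := by
  exact aux (Nat.card G) G rfl A hA hidx
end Cfsg.Agent.S3824
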