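import Cfsg.Statements.S3861
import Cfsg.Agent.Subnormal.BaerSuzuki
import Mathlib

set_option autoImplicit false
open Cfsg

namespace Cfsg.Agent.S3861

private theorem real_prime {G : Type*} [Group G] [Finite G] (N : Subgroup G) [N.Normal] (hN : IsPGroup 2 N)
    {q : ℕ} [Fact q.Prime] (hq : q ≠ 2) (u t : G ⧸ N) (hu : orderOf u = q) (ht : t * u * t⁻¹ = u⁻¹) :
    ∃ x : G, x ≠ 1 ∧ Odd (orderOf x) ∧ IsConj x x⁻¹ := by
  classical
  have hqp := (Fact.out : q.Prime)
  obtain ⟨x0, rfl⟩ := QuotientGroup.mk_surjective u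
  obtain ⟨t, rfl⟩ := QuotientGroup.mk_surjective t
  obtain ⟨m, hm⟩ : ∃ m, Nat.card N = 2 ^ m := IsPGroup.iff_card.1 hN
  set x := x0 ^ (2 ^ m) with hx
  have hcop : Nat.Coprime q (2 ^ m) := ((Nat.coprime_primes hqp Nat.prime_two).2 hq).pow_right m
  have hxq : x ^ q = 1 := by
    have h1 : x0 ^ q ∈ N := by
      rw [← QuotientGroup.eq_one_iff, QuotientGroup.mk_pow, ← hu, pow_orderOf_eq_one]
    have h2 := pow_card_eq_one' (x := (⟨x0 ^ q, h1⟩ : N))
    rw [hm] at h2
    rw [hx, ← pow_mul, mul_comm, pow_mul]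
    exact congrArg Subtype.val h2
  have hxbar : orderOf (x : G ⧸ N) = q := by
    rw [hx, QuotientGroup.mk_pow, orderOf_pow' _ (by positivity), hu, hcop.gcd_eq_one, Nat.div_one]
  have hxbarreal : (t : G ⧸ N) * x * (t : G ⧸ N)⁻¹ = (x : G ⧸ N)⁻¹ := by
    rw [hx, QuotientGroup.mk_pow, ← conj_pow, ht, inv_pow]
  have hxo : orderOf x = q := by
    refine ((Nat.dvd_prime hqp).1 (orderOf_dvd_of_pow_eq_one hxq)).resolve_left fun e => ?_
    rw [orderOf_eq_one_iff] at e
    rw [e, QuotientGroup.mk_one, orderOf_one] at hxbar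
    exact hqp.ne_one hxbar.symm
  set H : Subgroup G := N ⊔ Subgroup.zpowers x with hH
  have hxH : x ∈ H := Subgroup.mem_sup_right (Subgroup.mem_zpowers x)
  set X : Subgroup H := Subgroup.zpowers ⟨x, hxH⟩ with hX
  have hXc : Nat.card X = q := by rw [hX, Nat.card_zpowers, Subgroup.orderOf_mk, hxo]
  have hmapX : X.map H.subtype = Subgroup.zpowers x := by rw [hX, MonoidHom.map_zpowers]; rfl
  have hd : ¬ q ∣ X.index := by
    intro hdv
    have e : X.index = (Subgroup.zpowers x).relIndex H := by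
      rw [Subgroup.relIndex, ← hmapX, Subgroup.subgroupOf,
        Subgroup.comap_map_eq_self_of_injective H.subtype_injective]
    rw [e, hH, sup_comm] at hdv
    have h1 : (Subgroup.zpowers x).relIndex (Subgroup.zpowers x ⊔ N) ∣ Nat.card N := by
      have e1 := Subgroup.relIndex_mul_relIndex (⊥ : Subgroup G) (Subgroup.zpowers x) (Subgroup.zpowers x ⊔ N) bot_le le_sup_left
      rw [Subgroup.relIndex_bot_left, Subgroup.relIndex_bot_left] at e1
      have e2 := Subgroup.relIndex_mul_relIndex (⊥ : Subgroup G) N (Subgroup.zpowers x ⊔ N) bot_le le_sup_right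
      rw [Subgroup.relIndex_bot_left, Subgroup.relIndex_bot_left, Subgroup.relIndex_sup_right] at e2
      have e3 : N.relIndex (Subgroup.zpowers x) ∣ Nat.card (Subgroup.zpowers x) := Subgroup.relIndex_dvd_card _ _
      refine Nat.dvd_of_mul_dvd_mul_left (Nat.card_pos (α := Subgroup.zpowers x)) ?_
      rw [e1, ← e2, mul_comm (Nat.card (Subgroup.zpowers x))]
      exact mul_dvd_mul_left _ e3
    have h3 := dvd_trans hdv h1
    rw [hm] at h3
    exact hqp.ne_one (Nat.eq_one_of_dvd_coprimes hcop dvd_rfl h3)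
  let P : Sylow q H := (IsPGroup.of_card (n := 1) (by rw [hXc, pow_one]) : IsPGroup q X).toSylow hd
  have hyH : t * x * t⁻¹ ∈ H := by
    have h1 : t * x * t⁻¹ * x ∈ N := by
      rw [← QuotientGroup.eq_one_iff]
      simp only [QuotientGroup.mk_mul, QuotientGroup.mk_inv, hxbarreal, inv_mul_cancel]
    have := mul_mem (Subgroup.mem_sup_left h1 : _ ∈ H) (inv_mem hxH)
    simpa using this
  have hyq : IsPGroup q (Subgroup.zpowers (⟨t * x * t⁻¹, hyH⟩ : H)) := by
    refine IsPGroup.of_card (n := 1) ?_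
    rw [Nat.card_zpowers, Subgroup.orderOf_mk, pow_one, ← hxo]
    exact MulEquiv.orderOf_eq (MulAut.conj t) x
  obtain ⟨Q, hQ⟩ := hyq.exists_le_sylow
  obtain ⟨h, hh⟩ := MulAction.exists_smul_eq H P Q
  have hmem : (⟨t * x * t⁻¹, hyH⟩ : H) ∈ (Q : Subgroup H) := hQ (Subgroup.mem_zpowers _)
  rw [← hh, Sylow.coe_subgroup_smul, Subgroup.mem_smul_pointwise_iff_exists] at hmem
  obtain ⟨z, hz, hz2⟩ := hmem
  replace hz : z ∈ Subgroup.zpowers (⟨x, hxH⟩ : H) := hz
  obtain ⟨i, rfl⟩ := hz
  have hz3 : (h : G) * x ^ i * (h : G)⁻¹ = t * x * t⁻¹ := by simpa using congrArg Subtype.val hz2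
  have hbar : ((h : G) : G ⧸ N) * (x : G ⧸ N) ^ i * ((h : G) : G ⧸ N)⁻¹ = (x : G ⧸ N)⁻¹ := by
    rw [← hxbarreal, ← QuotientGroup.mk_zpow, ← QuotientGroup.mk_inv, ← QuotientGroup.mk_mul, ← QuotientGroup.mk_mul, hz3]
    rfl
  have hcomm : Commute ((h : G) : G ⧸ N) (x : G ⧸ N) := by
    have h1 : H ≤ (Subgroup.centralizer {(x : G ⧸ N)}).comap (QuotientGroup.mk' N) := by
      rw [hH, sup_le_iff, Subgroup.zpowers_le]
      refine ⟨fun n hn => ?_, ?_⟩
      · rw [Subgroup.mem_comap, Subgroup.mem_centralizer_singleton_iff, QuotientGroup.mk'_apply,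
          (QuotientGroup.eq_one_iff n).2 hn, mul_one, one_mul]
      · rw [Subgroup.mem_comap, Subgroup.mem_centralizer_singleton_iff]; rfl
    exact Subgroup.mem_centralizer_singleton_iff.1 (h1 h.2)
  rw [(hcomm.zpow_right i).eq, mul_inv_cancel_right, ← zpow_neg_one, zpow_eq_zpow_iff_modEq, hxbar] at hbar
  have hxi : x ^ i = x⁻¹ := by
    rw [← zpow_neg_one, zpow_eq_zpow_iff_modEq, hxo]
    exact hbar
  refine ⟨x, fun e => ?_, ?_, isConj_iff.2 ⟨(h : G)⁻¹ * t, ?_⟩⟩
  · rw [e, orderOf_one] at hxo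
    exact hqp.ne_one hxo.symm
  · rw [hxo]; exact hqp.odd_of_ne_two hq
  · calc (h : G)⁻¹ * t * x * ((h : G)⁻¹ * t)⁻¹ = (h : G)⁻¹ * (t * x * t⁻¹) * h := by
          simp only [mul_inv_rev, inv_inv, mul_assoc]
      _ = x ^ i := by rw [← hz3]; simp only [mul_assoc, inv_mul_cancel, mul_one, inv_mul_cancel_left]
      _ = x⁻¹ := hxi

/-- A finite group G has no non-identity element of odd order that is conjugate to its inverse if and only if the Sylow 2-subgroups of G are normal. -/
theorem result {G : Type*} [Group G] [Finite G] (P : Sylow 2 G) : (∀ x : G, x ≠ 1 → Odd (orderOf x) → ¬ IsConj x x⁻¹) ↔ (P : Subgroup G).Normal := by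
  classical
  constructor
  · intro h
    set N := Cfsg.pCore 2 G with hN
    haveI hNn : N.Normal := CfsgLib.Subnormal.normal_pCore 2
    have hN2 : IsPGroup 2 N := CfsgLib.Subnormal.isPGroup_pCore 2
    have hbar : ¬ 2 ∣ Nat.card (G ⧸ N) := by
      intro hd
      obtain ⟨t, ht⟩ := exists_prime_orderOf_dvd_card' 2 hd
      have htt : t * t = 1 := by rw [← pow_two, ← ht, pow_orderOf_eq_one]
      have hti : t⁻¹ = t := inv_eq_of_mul_eq_one_right htt
      have key : t ∈ Cfsg.pCore 2 (G ⧸ N) := by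
        refine CfsgLib.Subnormal.mem_pCore_of_forall_isPGroup fun g => ?_
        set s := g * t * g⁻¹ with hs
        have hss : s * s = 1 := by
          have : s * s = g * (t * t) * g⁻¹ := by simp only [hs, mul_assoc, inv_mul_cancel_left]
          rw [this, htt, mul_one, mul_inv_cancel]
        have hsi : s⁻¹ = s := inv_eq_of_mul_eq_one_right hss
        set u := t * s with hu
        have htu : t * u * t⁻¹ = u⁻¹ := by
          rw [hu, ← mul_assoc, htt, one_mul, mul_inv_rev, hsi]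
        obtain ⟨k, hk⟩ : ∃ k, orderOf u = 2 ^ k := by
          refine ⟨_, Nat.eq_prime_pow_of_unique_prime_dvd (p := 2) (orderOf_pos u).ne' (fun {q} hq hqd => ?_)⟩
          by_contra hq2
          haveI : Fact q.Prime := ⟨hq⟩
          have h1 := orderOf_pow_orderOf_div (orderOf_pos u).ne' hqd
          obtain ⟨x, hx1, hxo, hxr⟩ := real_prime N hN2 hq2 (u ^ (orderOf u / q)) t h1
            (by rw [← conj_pow, htu, inv_pow])
          exact h x hx1 hxo hxr
        have hU : IsPGroup 2 (Subgroup.zpowers u) := IsPGroup.of_card (n := k) (by rw [Nat.card_zpowers, hk])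
        have hT : IsPGroup 2 (Subgroup.zpowers t) := IsPGroup.of_card (n := 1) (by rw [Nat.card_zpowers, ht, pow_one])
        have hnorm : Subgroup.zpowers t ≤ Subgroup.normalizer (Subgroup.zpowers u : Set (G ⧸ N)) := by
          rw [Subgroup.zpowers_le, Subgroup.mem_normalizer_iff_map_conj_eq]
          change (Subgroup.zpowers u).map (MulAut.conj t).toMonoidHom = _
          rw [MonoidHom.map_zpowers]
          change Subgroup.zpowers (t * u * t⁻¹) = _
          rw [htu, Subgroup.zpowers_inv]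
        refine (hT.to_sup_of_normal_right' hU hnorm).to_le ?_
        rw [Subgroup.closure_le]
        rintro y (rfl | rfl)
        · exact Subgroup.mem_sup_left (Subgroup.mem_zpowers _)
        · have : s = t⁻¹ * u := by rw [hu, inv_mul_cancel_left]
          rw [SetLike.mem_coe, this]
          exact mul_mem (Subgroup.mem_sup_left (inv_mem (Subgroup.mem_zpowers _))) (Subgroup.mem_sup_right (Subgroup.mem_zpowers _))
      have hcore : Cfsg.pCore 2 (G ⧸ N) = ⊥ := by
        have h1 : (Cfsg.pCore 2 (G ⧸ N)).comap (QuotientGroup.mk' N) ≤ N := by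
          refine le_sSup ⟨(CfsgLib.Subnormal.normal_pCore 2).comap _, ?_⟩
          refine (CfsgLib.Subnormal.isPGroup_pCore 2).comap_of_ker_isPGroup _ ?_
          rw [QuotientGroup.ker_mk']
          exact hN2
        rw [Subgroup.eq_bot_iff_forall]
        intro y hy
        obtain ⟨y, rfl⟩ := QuotientGroup.mk_surjective y
        exact (QuotientGroup.eq_one_iff y).2 (h1 hy)
      rw [hcore, Subgroup.mem_bot] at key
      rw [key, orderOf_one] at ht
      norm_num at ht
    have hd : ¬ 2 ∣ N.index := hbar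
    let Q : Sylow 2 G := hN2.toSylow hd
    obtain ⟨g, rfl⟩ := MulAction.exists_smul_eq G Q P
    rw [Sylow.coe_subgroup_smul]
    exact Subgroup.Normal.map (hNn : (Q : Subgroup G).Normal) _ (MulAut.conj g).surjective
  · intro hP x hx1 hxo hreal
    haveI := hP
    obtain ⟨g, hg⟩ := isConj_iff.1 hreal
    obtain ⟨k, m, hm, hgo⟩ := Nat.exists_eq_two_pow_mul_odd (orderOf_pos g).ne'
    obtain ⟨l, rfl⟩ := hm
    have h2 : ∀ j : ℕ, g ^ (2 * j) * x * (g ^ (2 * j))⁻¹ = x := by
      intro j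
      induction j with
      | zero => simp
      | succ j ih =>
        have e : g * (g * x * g⁻¹) * g⁻¹ = x := by
          rw [hg]
          have := congrArg (·⁻¹) hg
          simp only [mul_inv_rev, inv_inv] at this
          rw [← mul_assoc] at this
          exact this
        rw [mul_add, mul_one, pow_add, pow_two, mul_inv_rev, mul_inv_rev]
        calc g ^ (2 * j) * (g * g) * x * (g⁻¹ * g⁻¹ * (g ^ (2 * j))⁻¹)
            = g ^ (2 * j) * (g * (g * x * g⁻¹) * g⁻¹) * (g ^ (2 * j))⁻¹ := by simp only [mul_assoc]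
          _ = x := by rw [e, ih]
    have htP : g ^ (2 * l + 1) ∈ (P : Subgroup G) := by
      have hto : IsPGroup 2 (Subgroup.zpowers (g ^ (2 * l + 1))) := IsPGroup.of_card (n := k) (by
        rw [Nat.card_zpowers, orderOf_pow' _ (by omega), hgo, Nat.gcd_eq_right (Dvd.intro_left _ rfl), Nat.mul_div_cancel _ (by omega)])
      obtain ⟨Q, hQ⟩ := hto.exists_le_sylow
      haveI := Sylow.unique_of_normal P hP
      rw [Subsingleton.elim P Q]
      exact hQ (Subgroup.mem_zpowers _)
    have htx : g ^ (2 * l + 1) * x * (g ^ (2 * l + 1))⁻¹ = x⁻¹ := by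
      rw [pow_succ, mul_inv_rev]
      have : g ^ (2 * l) * g * x * (g⁻¹ * (g ^ (2 * l))⁻¹) = g ^ (2 * l) * (g * x * g⁻¹) * (g ^ (2 * l))⁻¹ := by
        simp only [mul_assoc]
      rw [this, hg]
      have := congrArg (·⁻¹) (h2 l)
      simp only [mul_inv_rev, inv_inv] at this
      rw [mul_assoc]
      exact this
    set t := g ^ (2 * l + 1)
    have h3 : x⁻¹ * x⁻¹ ∈ (P : Subgroup G) := by
      have : x⁻¹ * x⁻¹ = t * (x * t⁻¹ * x⁻¹) := by
        calc x⁻¹ * x⁻¹ = (t * x * t⁻¹) * x⁻¹ := by rw [htx]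
          _ = _ := by simp only [mul_assoc]
      rw [this]
      exact mul_mem htP (hP.conj_mem _ (inv_mem htP) x)
    obtain ⟨n, hn⟩ := IsPGroup.iff_card.1 P.2
    have h4 : orderOf (x⁻¹ * x⁻¹) ∣ 2 ^ n := by
      rw [← hn]
      exact Subgroup.orderOf_dvd_natCard _ h3
    rw [← pow_two, orderOf_pow' _ two_ne_zero, orderOf_inv, (Nat.coprime_two_right.2 hxo).gcd_eq_one, Nat.div_one] at h4
    exact hx1 (orderOf_eq_one_iff.1 (Nat.eq_one_of_dvd_coprimes ((Nat.coprime_two_right.2 hxo).pow_right n) dvd_rfl h4))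

end Cfsg.Agent.S3861
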