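import Cfsg.Statements.S3867
import Cfsg.Agent.S4341
import Mathlib

set_option autoImplicit false
open Cfsg

namespace Cfsg.Agent.S3867

/-- The number of Sylow subgroups of a quotient. -/
theorem card_sylow_quotient {G : Type*} [Group G] [Finite G] {p : ℕ} [Fact p.Prime] (P : Sylow p G)
    (M : Subgroup G) [M.Normal] :
    Nat.card (Sylow p (G ⧸ M)) = (Subgroup.normalizer ((P : Subgroup G) : Set G) ⊔ M).index := by
  set π := QuotientGroup.mk' M
  have hπ : Function.Surjective π := QuotientGroup.mk'_surjective M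
  set A := Subgroup.normalizer ((P : Subgroup G) : Set G)
  have key : Subgroup.normalizer (((P.mapSurjective hπ : Sylow p (G ⧸ M)) : Subgroup (G ⧸ M)) : Set (G ⧸ M)) =
      (A ⊔ M).map π := by
    rw [Sylow.coe_mapSurjective]
    refine le_antisymm ?_ ?_
    · intro y hy
      obtain ⟨x, rfl⟩ := hπ y
      refine ⟨x, ?_, rfl⟩
      set J := (P : Subgroup G) ⊔ M
      have hJ : ((P : Subgroup G).map π).comap π = J := by
        rw [Subgroup.comap_map_eq, QuotientGroup.ker_mk']
      have hxP : ((x • P : Sylow p G) : Subgroup G) ≤ J := by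
        rw [Sylow.coe_subgroup_smul, ← hJ]
        rintro _ ⟨u, hu, rfl⟩
        show π (x * u * x⁻¹) ∈ (P : Subgroup G).map π
        rw [map_mul, map_mul, map_inv]
        exact (Subgroup.mem_normalizer_iff.1 hy (π u)).1 ⟨u, hu, rfl⟩
      obtain ⟨j, hj⟩ := MulAction.exists_smul_eq J ((x • P).subtype hxP) (P.subtype le_sup_left)
      rw [Sylow.smul_subtype] at hj
      have hn : ((j : G) * x) • P = P := by rw [mul_smul]; exact Sylow.subtype_injective hj
      have hjA : (j : G) * x ∈ A ⊔ M := Subgroup.mem_sup_left (Sylow.smul_eq_iff_mem_normalizer.1 hn)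
      have hjm : (j : G) ∈ A ⊔ M := (sup_le_sup_right Subgroup.le_normalizer M : J ≤ A ⊔ M) j.2
      have := mul_mem (inv_mem hjm) hjA
      rwa [inv_mul_cancel_left] at this
    · rw [Subgroup.map_sup, sup_le_iff]
      refine ⟨Subgroup.le_normalizer_map π, ?_⟩
      rintro _ ⟨m, hm, rfl⟩
      rw [show π m = 1 from (QuotientGroup.eq_one_iff m).2 hm]
      exact one_mem _
  rw [Sylow.card_eq_index_normalizer (P.mapSurjective hπ), ← Sylow.coe_coe, key,
    Subgroup.index_map_eq _ hπ (by rw [QuotientGroup.ker_mk']; exact le_sup_right)]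

/-- Let M and N be nontrivial normal subgroups of the finite group G with M ⊓ N trivial, and let p be a prime. Writing n(X) for the number of Sylow p-subgroups of a group X, one has n(G) · n(G/MN) = n(G/M) · n(G/N). -/
theorem result {G : Type*} [Group G] [Finite G] (p : ℕ) [Fact p.Prime] (M N : Subgroup G) [M.Normal] [N.Normal] (hM : M ≠ ⊥) (hN : N ≠ ⊥) (hMN : M ⊓ N = ⊥) : Nat.card (Sylow p G) * Nat.card (Sylow p (G ⧸ (M ⊔ N))) = Nat.card (Sylow p (G ⧸ M)) * Nat.card (Sylow p (G ⧸ N)) := by
  classical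
  obtain ⟨P⟩ : Nonempty (Sylow p G) := inferInstance
  set A := Subgroup.normalizer ((P : Subgroup G) : Set G) with hA
  rw [Sylow.card_eq_index_normalizer P, ← Sylow.coe_coe, card_sylow_quotient P (M ⊔ N), card_sylow_quotient P M,
    card_sylow_quotient P N, ← hA]
  set PI := ((P : Subgroup G) ⊔ M) ⊓ ((P : Subgroup G) ⊔ N) with hPI
  have hpow : ∀ (L : Subgroup G) [L.Normal], ∀ z ∈ (P : Subgroup G) ⊔ L, z ^ Nat.card (P : Subgroup G) ∈ L := by
    intro L _ z hz
    obtain ⟨a, ha, l, hl, rfl⟩ := Subgroup.mem_sup_of_normal_right.1 hz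
    rw [← QuotientGroup.eq_one_iff, QuotientGroup.mk_pow, QuotientGroup.mk_mul, (QuotientGroup.eq_one_iff l).2 hl,
      mul_one, ← QuotientGroup.mk_pow, show a ^ Nat.card (P : Subgroup G) = 1 from congrArg Subtype.val
        (pow_card_eq_one' (x := (⟨a, ha⟩ : (P : Subgroup G))))]
    rfl
  have hPIp : IsPGroup p PI := by
    obtain ⟨k, hk⟩ := IsPGroup.iff_card.1 P.isPGroup'
    intro z
    refine ⟨k, Subtype.ext ?_⟩
    rw [SubgroupClass.coe_pow, ← hk]
    have h1 : (z : G) ^ Nat.card (P : Subgroup G) ∈ M ⊓ N := ⟨hpow M z z.2.1, hpow N z z.2.2⟩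
    rw [hMN, Subgroup.mem_bot] at h1
    exact h1
  have hPIeq : PI = (P : Subgroup G) := P.is_maximal' hPIp (le_inf le_sup_left le_sup_left)
  have hnorm : ∀ (L : Subgroup G) [L.Normal], A ⊔ L ≤ Subgroup.normalizer (((P : Subgroup G) ⊔ L : Subgroup G) : Set G) := by
    intro L _
    refine sup_le ?_ (le_trans le_sup_right Subgroup.le_normalizer)
    intro a ha
    rw [Subgroup.mem_normalizer_iff]
    have hm : ((P : Subgroup G) ⊔ L).map (MulAut.conj a).toMonoidHom = (P : Subgroup G) ⊔ L := by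
      rw [Subgroup.map_sup]
      congr 1
      · ext y
        constructor
        · rintro ⟨u, hu, rfl⟩; exact (Subgroup.mem_normalizer_iff.1 ha u).1 hu
        · intro hy
          refine ⟨a⁻¹ * y * a, (Subgroup.mem_normalizer_iff.1 ha _).2 ?_, ?_⟩
          · simpa [mul_assoc] using hy
          · simp [mul_assoc]
      · ext y
        constructor
        · rintro ⟨u, hu, rfl⟩; exact (inferInstance : L.Normal).conj_mem u hu a
        · intro hy
          refine ⟨a⁻¹ * y * a, ?_, ?_⟩
          · simpa using (inferInstance : L.Normal).conj_mem y hy a⁻¹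
          · simp [mul_assoc]
    intro h
    constructor
    · intro hh; rw [← hm]; exact ⟨h, hh, rfl⟩
    · intro hh
      rw [← hm] at hh
      obtain ⟨u, hu, he⟩ := hh
      have he' : a * u * a⁻¹ = a * h * a⁻¹ := he
      rw [mul_left_cancel (mul_right_cancel he')] at hu
      exact hu
  have hXY : (A ⊔ M) ⊓ (A ⊔ N) = A := by
    refine le_antisymm ?_ (le_inf le_sup_left le_sup_left)
    intro g hg
    rw [hA, ← hPIeq, Subgroup.mem_normalizer_iff]
    intro h
    exact and_congr (Subgroup.mem_normalizer_iff.1 (hnorm M hg.1) h) (Subgroup.mem_normalizer_iff.1 (hnorm N hg.2) h)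
  have h1 : A.relIndex (A ⊔ N) * (A ⊔ N).index = A.index := Subgroup.relIndex_mul_index le_sup_left
  have h2 : (A ⊔ M).relIndex (A ⊔ (M ⊔ N)) * (A ⊔ (M ⊔ N)).index = (A ⊔ M).index :=
    Subgroup.relIndex_mul_index (sup_le_sup_left le_sup_left A)
  have h3 : (A ⊔ M).relIndex (A ⊔ (M ⊔ N)) = A.relIndex (A ⊔ N) := by
    rw [← sup_assoc, Cfsg.Agent.S4341.relIndex_sup_normal, Cfsg.Agent.S4341.relIndex_sup_normal,
      ← Subgroup.inf_relIndex_right, ← Subgroup.inf_relIndex_right A N]
    congr 1
    refine le_antisymm (le_inf ?_ inf_le_right) (inf_le_inf_right N le_sup_left)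
    conv_rhs => rw [← hXY]
    exact le_inf inf_le_left (inf_le_right.trans le_sup_right)
  rw [← h1, ← h2, h3]
  ring

end Cfsg.Agent.S3867
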