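import Cfsg.Statements.S3870

set_option autoImplicit false
open Cfsg

namespace Cfsg.Agent.S3870

open Subgroup

section
variable {G : Type*} [Group G] [Finite G] {p : ℕ} [Fact p.Prime]

theorem inf_normalizer_lt (P : Sylow p G) (D : Subgroup G) (hD : D < (P : Subgroup G)) :
    D < normalizer (D : Set G) ⊓ (P : Subgroup G) := by
  haveI := P.2.isNilpotent
  have hne : D.subgroupOf (P : Subgroup G) < ⊤ := by
    rw [lt_top_iff_ne_top, Ne, subgroupOf_eq_top]
    exact not_le_of_gt hD
  obtain ⟨x, hx, hx'⟩ := SetLike.exists_of_lt (Group.normalizerCondition_of_isNilpotent _ hne)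
  refine SetLike.lt_iff_le_and_exists.2
    ⟨le_inf le_normalizer hD.le, (x : G), mem_inf.2 ⟨?_, x.2⟩, fun h => hx' (mem_subgroupOf.2 h)⟩
  rw [mem_normalizer_iff] at hx ⊢
  intro y
  constructor
  · intro hy
    exact (hx ⟨y, hD.le hy⟩).1 hy
  · intro hy
    have hyP : y ∈ (P : Subgroup G) := by
      have := (P : Subgroup G).mul_mem ((P : Subgroup G).mul_mem
        ((P : Subgroup G).inv_mem x.2) (hD.le hy)) x.2
      simpa [mul_assoc] using this
    exact (hx ⟨y, hyP⟩).2 hy

theorem inf_eq_bot_of_ne [IsSimpleGroup G] (hnc : ¬ Cfsg.IsPClosed p G)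
    (hsub : ∀ H : Subgroup G, H ≠ ⊤ → Cfsg.IsPClosed p ↥H) :
    ∀ n : ℕ, ∀ P Q : Sylow p G, P ≠ Q →
      Nat.card (P : Subgroup G) < n + Nat.card ((P : Subgroup G) ⊓ (Q : Subgroup G) : Subgroup G) →
      (P : Subgroup G) ⊓ (Q : Subgroup G) = ⊥ := by
  intro n
  induction n with
  | zero =>
    intro P Q _ h
    rw [zero_add] at h
    exact absurd h (not_lt.2 (card_le_of_le inf_le_left))
  | succ n ih =>
    intro P Q hPQ hlt
    by_contra hne
    set D := (P : Subgroup G) ⊓ (Q : Subgroup G) with hD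
    have hP : D < (P : Subgroup G) := lt_of_le_of_ne inf_le_left fun h =>
      hPQ (Sylow.ext (P.3 Q.2 (inf_eq_left.1 h)).symm)
    have hQ : D < (Q : Subgroup G) := lt_of_le_of_ne inf_le_right fun h =>
      hPQ (Sylow.ext (Q.3 P.2 (inf_eq_right.1 h)))
    set N := normalizer (D : Set G)
    have hN : N ≠ ⊤ := by
      intro h
      rcases IsSimpleGroup.eq_bot_or_eq_top_of_normal D (normalizer_eq_top_iff.1 h) with h1 | h1
      · exact hne h1
      · exact absurd (h1 ▸ le_top : (P : Subgroup G) ≤ D) (not_le_of_gt hP)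
    obtain ⟨S⟩ : Nonempty (Sylow p N) := inferInstance
    haveI : (S : Subgroup N).Normal := hsub N hN S
    obtain ⟨R, hR⟩ := (S.2.map N.subtype).exists_le_sylow
    have key : ∀ T : Sylow p G, N ⊓ (T : Subgroup G) ≤ (R : Subgroup G) := fun T x hx => by
      have h1 : IsPGroup p ((T : Subgroup G).subgroupOf N) := T.2.comap_subtype
      haveI := Sylow.unique_of_normal S inferInstance
      obtain ⟨S', hS'⟩ := h1.exists_le_sylow
      exact hR ⟨⟨x, hx.1⟩, Subsingleton.elim S' S ▸ hS' hx.2, rfl⟩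
    have step : ∀ T : Sylow p G, D < N ⊓ (T : Subgroup G) → Nat.card (T : Subgroup G)
        = Nat.card (P : Subgroup G) → T = R := fun T hT hcard => by
      by_contra hTR
      have hle : N ⊓ (T : Subgroup G) ≤ (T : Subgroup G) ⊓ (R : Subgroup G) :=
        le_inf inf_le_right (key T)
      have hlt2 : Nat.card D < Nat.card ((T : Subgroup G) ⊓ (R : Subgroup G) : Subgroup G) :=
        Set.ncard_lt_ncard (lt_of_lt_of_le hT hle) (Set.toFinite _)
      have := ih T R hTR (by rw [hcard]; omega)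
      have : N ⊓ (T : Subgroup G) = ⊥ := le_bot_iff.1 (this ▸ hle)
      exact not_lt_bot (this ▸ hT)
    have cc : Nat.card (Q : Subgroup G) = Nat.card (P : Subgroup G) := by
      rw [Q.card_eq_multiplicity, P.card_eq_multiplicity]
    exact hPQ ((step P (inf_normalizer_lt P D hP) rfl).trans
      (step Q (inf_normalizer_lt Q D hQ) cc).symm)

end

/-- Let G be a finite simple group whose Sylow p-subgroups are not normal but such that every proper subgroup of G has a normal Sylow p-subgroup. Then any two distinct Sylow p-subgroups of G intersect trivially, and for every Sylow p-subgroup P the normalizer of every non-identity subgroup of P lies in the normalizer of P. -/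
theorem result {G : Type*} [Group G] [Finite G] [IsSimpleGroup G] {p : ℕ} [Fact p.Prime]
    (hnc : ¬ Cfsg.IsPClosed p G) (hsub : ∀ H : Subgroup G, H ≠ ⊤ → Cfsg.IsPClosed p ↥H) :
    (∀ P Q : Sylow p G, P ≠ Q → (P : Subgroup G) ⊓ (Q : Subgroup G) = ⊥) ∧
      ∀ (P : Sylow p G) (R : Subgroup G), R ≤ P → R ≠ ⊥ →
        Subgroup.normalizer (R : Set G) ≤ Subgroup.normalizer ((P : Subgroup G) : Set G) := by
  have h1 : ∀ P Q : Sylow p G, P ≠ Q → (P : Subgroup G) ⊓ (Q : Subgroup G) = ⊥ := fun P Q h =>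
    inf_eq_bot_of_ne hnc hsub (Nat.card (P : Subgroup G) + 1) P Q h (by omega)
  refine ⟨h1, fun P R hRP hR g hg => ?_⟩
  by_contra hg'
  have hne : g • P ≠ P := fun h => hg' (Sylow.smul_eq_iff_mem_normalizer.1 h)
  refine hR (le_bot_iff.1 (h1 (g • P) P hne ▸ le_inf ?_ hRP))
  intro x hx
  rw [Sylow.coe_subgroup_smul]
  have : g⁻¹ * x * g ∈ R := by
    have := (mem_normalizer_iff.1 ((normalizer (R : Set G)).inv_mem hg) x).1 hx
    simpa using this
  exact ⟨g⁻¹ * x * g, hRP this, by simp [MulAut.smul_def, mul_assoc]⟩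
end Cfsg.Agent.S3870
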