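import Cfsg.Statements.S3872
import Mathlib
import Cfsg.Agent.RegularClass.Basic
import Cfsg.Agent.RegularOmega.Basic
import Cfsg.Agent.RankOneP.Basic

set_option autoImplicit false
open Cfsg

namespace Cfsg.Agent.S3872

/-- Say that a finite group is p-exponent closed when its elements of order dividing p form a subgroup. Let G be a finite p-group that is not p-exponent closed, but all of whose proper subgroups and proper quotients are. Then G is generated by two elements, has nilpotency class at least p, has exponent p², has cyclic center, and has order at least p^(p+1). -/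
theorem result {G : Type*} [Group G] [Finite G] {p : ℕ} [Fact p.Prime] (hG : IsPGroup p G)
    (hnc : ¬ (∃ H : Subgroup G, (H : Set G) = {g : G | g ^ p = 1})) (hsub : ∀ K : Subgroup G, K ≠ ⊤ → (∃ H : Subgroup ↥K, (H : Set ↥K) = {g : ↥K | g ^ p = 1}))
    (hquo : ∀ (N : Subgroup G) [N.Normal], N ≠ ⊥ → (∃ H : Subgroup (G ⧸ N), (H : Set (G ⧸ N)) = {g : (G ⧸ N) | g ^ p = 1})) :
    (∃ x y : G, Subgroup.closure ({x, y} : Set G) = ⊤) ∧ (⊤ : Subgroup G).lowerCentralSeries (p - 1) ≠ ⊥ ∧
      Monoid.exponent G = p ^ 2 ∧ IsCyclic ↥(Subgroup.center G) ∧ p ^ (p + 1) ≤ Nat.card G := by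
  classical
  have hp : p.Prime := Fact.out
  obtain ⟨x, y, hx, hy, hxy⟩ : ∃ x y : G, x ^ p = 1 ∧ y ^ p = 1 ∧ (x * y) ^ p ≠ 1 := by
    by_contra h
    push_neg at h
    exact hnc ⟨{ carrier := {g | g ^ p = 1}
                 one_mem' := one_pow _
                 mul_mem' := fun {a b} ha hb => h a b ha hb
                 inv_mem' := fun {a} (ha : a ^ p = 1) => by
                   show a⁻¹ ^ p = 1
                   rw [inv_pow, ha, inv_one] }, rfl⟩
  have hgen : Subgroup.closure ({x, y} : Set G) = ⊤ := by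
    by_contra h
    obtain ⟨H, hH⟩ := hsub _ h
    have hmem : ∀ {a : ↥(Subgroup.closure ({x, y} : Set G))}, a ∈ H ↔ a ^ p = 1 := fun {a} => by
      rw [← SetLike.mem_coe, hH]; rfl
    have := hmem.1 (H.mul_mem
      (hmem.2 (show (⟨x, Subgroup.subset_closure (by simp)⟩ : ↥(Subgroup.closure ({x, y} : Set G))) ^ p = 1 from
        Subtype.ext (by simpa using hx)))
      (hmem.2 (show (⟨y, Subgroup.subset_closure (by simp)⟩ : ↥(Subgroup.closure ({x, y} : Set G))) ^ p = 1 from
        Subtype.ext (by simpa using hy))))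
    exact hxy (by simpa using congrArg Subtype.val this)
  have hcl : (⊤ : Subgroup G).lowerCentralSeries (p - 1) ≠ ⊥ := by
    intro h
    refine hxy ?_
    have hR := CfsgLib.RegularClass.regular hG h
    have h1 := (CfsgLib.RegularOmega.pow_eq_iff hR 1 _ x⁻¹ y rfl).1
      (by rw [pow_one, inv_pow, hx, inv_one, hy])
    simpa using h1
  haveI := hG.isNilpotent
  have hnab : ¬ ∀ u v : G, u * v = v * u := fun h => hxy (by rw [(show Commute x y from h x y).mul_pow, hx, hy, one_mul])
  -- a nontrivial normal subgroup contains all `p`-th powers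
  have hpow : ∀ N : Subgroup G, N.Normal → N ≠ ⊥ → ∀ g : G, g ^ p ∈ N := by
    intro N hN hN1 g
    haveI := hN
    obtain ⟨H, hH⟩ := hquo N hN1
    have hmem : ∀ {a : G ⧸ N}, a ∈ H ↔ a ^ p = 1 := fun {a} => by rw [← SetLike.mem_coe, hH]; rfl
    have htop : ∀ g : G, (g : G ⧸ N) ∈ H := by
      have : (⊤ : Subgroup G) ≤ H.comap (QuotientGroup.mk' N) := hgen ▸ (Subgroup.closure_le _).2 (by
        rintro _ (rfl | rfl) <;> (show ((_ : G) : G ⧸ N) ∈ H; rw [hmem, ← QuotientGroup.mk_pow])
        · rw [hx, QuotientGroup.mk_one]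
        · rw [hy, QuotientGroup.mk_one])
      exact fun g => this (Subgroup.mem_top g)
    have := hmem.1 (htop g)
    rwa [← QuotientGroup.mk_pow, QuotientGroup.eq_one_iff] at this
  haveI : Nontrivial G := ⟨⟨_, _, hxy⟩⟩
  have hZ : ∀ z : G, z ∈ Subgroup.center G → (Subgroup.zpowers z).Normal := fun z hz =>
    ⟨fun a ha g => by
      have hc : a ∈ Subgroup.center G := (Subgroup.zpowers_le.2 hz) ha
      rwa [Subgroup.mem_center_iff.1 hc g, mul_inv_cancel_right]⟩
  obtain ⟨z, hzc, hz⟩ : ∃ z ∈ Subgroup.center G, orderOf z = p := by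
    haveI := hG.center_nontrivial
    obtain ⟨k, hk⟩ := (hG.to_subgroup (Subgroup.center G)).exists_card_eq
    obtain ⟨z, hz⟩ := exists_prime_orderOf_dvd_card' (G := Subgroup.center G) p (by
      rw [hk]
      refine dvd_pow_self p fun h => ?_
      rw [h, pow_zero] at hk
      exact (Finite.one_lt_card (α := Subgroup.center G)).ne' hk)
    exact ⟨z, z.2, by rw [Subgroup.orderOf_coe, hz]⟩
  have hz1 : z ≠ 1 := fun h => by rw [h, orderOf_one] at hz; exact hp.ne_one hz.symm
  refine ⟨⟨x, y, hgen⟩, hcl, ?_, ?_, ?_⟩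
  · have hdvd : Monoid.exponent G ∣ p ^ 2 := by
      refine Monoid.exponent_dvd_of_forall_pow_eq_one fun g => ?_
      obtain ⟨i, hi⟩ := Subgroup.mem_zpowers_iff.1
        (hpow _ (hZ z hzc) (by simpa using hz1) g)
      rw [sq, pow_mul, ← hi, ← zpow_natCast, ← zpow_mul, mul_comm, zpow_mul, zpow_natCast, ← hz,
        pow_orderOf_eq_one, one_zpow]
    obtain ⟨k, hk, hk'⟩ := (Nat.dvd_prime_pow hp).1 hdvd
    interval_cases k
    · exact absurd (by rw [pow_zero] at hk'; exact pow_one (x * y) ▸ hk' ▸ Monoid.pow_exponent_eq_one (x * y))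
        (fun h => hxy (by rw [h, one_pow]))
    · exact absurd (by rw [pow_one] at hk'; exact hk' ▸ Monoid.pow_exponent_eq_one (x * y)) hxy
    · exact hk'
  · refine CfsgLib.RankOneP.isCyclic_of_commute (p := p) (hG.to_subgroup _) (fun u v hu hv hu1 => ?_)
      (fun a b => Subtype.ext (Subgroup.mem_center_iff.1 b.2 (a : G)))
    by_contra hvu
    have hu' : (u : G) ≠ 1 := by simpa using hu1
    have hv' : (v : G) ≠ 1 := fun e => hvu (by rw [show v = 1 from Subtype.ext e]; exact one_mem _)
    have hu2 : orderOf (u : G) = p := orderOf_eq_prime (by simpa using congrArg Subtype.val hu) hu'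
    have hv2 : orderOf (v : G) = p := orderOf_eq_prime (by simpa using congrArg Subtype.val hv) hv'
    have hmu := hpow _ (hZ _ u.2) (by simpa using hu') (x * y)
    have hmv := hpow _ (hZ _ v.2) (by simpa using hv') (x * y)
    have he : ∀ w : G, orderOf w = p → (x * y) ^ p ∈ Subgroup.zpowers w →
        Subgroup.zpowers ((x * y) ^ p) = Subgroup.zpowers w := by
      intro w hw hm
      refine Subgroup.eq_of_le_of_card_ge (Subgroup.zpowers_le.2 hm) ?_
      have hd : orderOf ((x * y) ^ p) ∣ p := by
        have h := Subgroup.card_dvd_of_le (Subgroup.zpowers_le.2 hm)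
        rwa [Nat.card_zpowers, Nat.card_zpowers, hw] at h
      rw [Nat.card_zpowers, Nat.card_zpowers, hw,
        ((Nat.dvd_prime hp).1 hd).resolve_left fun h => hxy (orderOf_eq_one_iff.1 h)]
    have hmem : (v : G) ∈ Subgroup.zpowers (u : G) := by
      rw [← he _ hu2 hmu, he _ hv2 hmv]; exact Subgroup.mem_zpowers _
    obtain ⟨i, hi⟩ := Subgroup.mem_zpowers_iff.1 hmem
    exact hvu (Subgroup.mem_zpowers_iff.2 ⟨i, Subtype.ext (by simpa using hi)⟩)
  · have hstep : ∀ k, (⊤ : Subgroup G).lowerCentralSeries k ≠ ⊥ →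
        Nat.card ↥((⊤ : Subgroup G).lowerCentralSeries (k + 1)) * p ≤ Nat.card ↥((⊤ : Subgroup G).lowerCentralSeries k) := by
      intro k hk
      have hle := Subgroup.lowerCentralSeries_antitone (⊤ : Subgroup G) (Nat.le_succ k)
      obtain ⟨a, ha⟩ := (hG.to_subgroup ((⊤ : Subgroup G).lowerCentralSeries k)).exists_card_eq
      obtain ⟨b, hb⟩ := (hG.to_subgroup ((⊤ : Subgroup G).lowerCentralSeries (k + 1))).exists_card_eq
      have hba : b < a := by
        by_contra h
        have he : (⊤ : Subgroup G).lowerCentralSeries (k + 1) = (⊤ : Subgroup G).lowerCentralSeries k :=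
          Subgroup.eq_of_le_of_card_ge hle (by rw [ha, hb]; exact Nat.pow_le_pow_right hp.pos (not_lt.1 h))
        have hall : ∀ j, k ≤ j → (⊤ : Subgroup G).lowerCentralSeries j = (⊤ : Subgroup G).lowerCentralSeries k := by
          intro j hj
          induction j, hj using Nat.le_induction with
          | base => rfl
          | succ j _ ih => rw [Subgroup.lowerCentralSeries_succ, ih, ← Subgroup.lowerCentralSeries_succ, he]
        obtain ⟨c, hc⟩ := Subgroup.nilpotent_iff_lowerCentralSeries.1 (hG.isNilpotent)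
        exact hk (le_bot_iff.1 (hall (max k c) (le_max_left _ _) ▸
          hc ▸ Subgroup.lowerCentralSeries_antitone (⊤ : Subgroup G) (le_max_right k c)))
      rw [ha, hb, ← pow_succ]
      exact Nat.pow_le_pow_right hp.pos hba
    have hne : ∀ k, k ≤ p - 1 → (⊤ : Subgroup G).lowerCentralSeries k ≠ ⊥ := fun k hk h =>
      hcl (le_bot_iff.1 (h ▸ Subgroup.lowerCentralSeries_antitone (⊤ : Subgroup G) hk))
    have hdown : ∀ d, ∀ k, k + d = p - 1 →
        p ^ (d + 1) ≤ Nat.card ↥((⊤ : Subgroup G).lowerCentralSeries k) := by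
      intro d
      induction d with
      | zero =>
        intro k hk
        obtain ⟨a, ha⟩ := (hG.to_subgroup ((⊤ : Subgroup G).lowerCentralSeries k)).exists_card_eq
        rw [ha]
        refine Nat.pow_le_pow_right hp.pos ?_
        by_contra h
        rw [show a = 0 by omega, pow_zero] at ha
        exact hne k (by omega) (Subgroup.card_eq_one.1 ha)
      | succ d ih =>
        intro k hk
        refine le_trans ?_ (hstep k (hne k (by omega)))
        rw [pow_succ]
        exact Nat.mul_le_mul_right p (ih (k + 1) (by omega))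
    have h1 : p ^ (p - 1) ≤ Nat.card ↥((⊤ : Subgroup G).lowerCentralSeries 1) := by
      refine le_trans (le_of_eq ?_) (hdown (p - 2) 1 (by have := hp.two_le; omega))
      congr 1
      have := hp.two_le
      omega
    obtain ⟨a, ha⟩ := hG.exists_card_eq
    obtain ⟨b, hb⟩ := (hG.to_subgroup ((⊤ : Subgroup G).lowerCentralSeries 1)).exists_card_eq
    have hab : b + 2 ≤ a := by
      by_contra h
      obtain ⟨g, hg⟩ : ∃ g : G, g ∉ (⊤ : Subgroup G).lowerCentralSeries 1 := by
        by_contra h'
        push_neg at h'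
        have e := hstep 0 (hne 0 (Nat.zero_le _))
        rw [(Subgroup.eq_top_iff' _).2 h', Subgroup.lowerCentralSeries_zero] at e
        nlinarith [hp.two_le, Nat.card_pos (α := (⊤ : Subgroup G))]
      have hlt := CfsgLib.PLocalBasics.card_sup_commutator_lt hG (H := (⊤ : Subgroup G)) (Subgroup.mem_top g)
        (fun h' => hnab fun u v => h' u (Subgroup.mem_top u) v (Subgroup.mem_top v))
      rw [show ⁅(⊤ : Subgroup G), (⊤ : Subgroup G)⁆ = (⊤ : Subgroup G).lowerCentralSeries 1 from rfl,
        Subgroup.card_top] at hlt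
      set K := Subgroup.zpowers g ⊔ (⊤ : Subgroup G).lowerCentralSeries 1
      obtain ⟨c, hc⟩ := (hG.to_subgroup K).exists_card_eq
      have hbc : b < c := by
        rw [← Nat.pow_lt_pow_iff_right hp.one_lt, ← hb, ← hc]
        refine lt_of_le_of_ne (Subgroup.card_le_of_le le_sup_right) fun e => hg ?_
        rw [Subgroup.eq_of_le_of_card_ge le_sup_right e.ge]
        exact Subgroup.mem_sup_left (Subgroup.mem_zpowers g)
      rw [hc, ha, Nat.pow_lt_pow_iff_right hp.one_lt] at hlt
      omega
    rw [hb, Nat.pow_le_pow_iff_right hp.one_lt] at h1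
    rw [ha]
    exact Nat.pow_le_pow_right hp.pos (by omega)

end Cfsg.Agent.S3872
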