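import Cfsg.Statements.S3888
import Cfsg.Agent.Blackburn.Three

set_option autoImplicit false
open Cfsg

namespace Cfsg.Agent.S3888

/-- The classification of the p-groups of rank at most two for odd p. Let p be an odd prime and G a group of order p^n with no elementary abelian subgroup of order p³. Then one of the following holds: G is metacyclic; n ≥ 3 and G is generated by elements x, y, z with x^p = y^p = z^(p^(n−2)) = 1, z commuting with x and y, and x⁻¹yx = y z^(p^(n−3)); n ≥ 4 and G is generated by elements x, y, z with x^p = y^p = z^(p^(n−2)) = 1, yz = zy, x⁻¹yx = y z^(s p^(n−3)) and x⁻¹zx = yz, where s = 1 or s is a quadratic non-residue modulo p; or p = 3 and G has maximal class (nilpotency class n − 1). -/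
theorem result {G : Type*} [Group G] [Finite G] {p : ℕ} [Fact p.Prime] (hp : p ≠ 2) (n : ℕ) (hG : Nat.card G = p ^ n)
    (hrk : Cfsg.PRankLE p 2 G) :
    Cfsg.IsMetacyclic G ∨
    (3 ≤ n ∧ ∃ x y z : G, Subgroup.closure ({x, y, z} : Set G) = ⊤ ∧ x ^ p = 1 ∧ y ^ p = 1 ∧ z ^ p ^ (n - 2) = 1 ∧
        x * z = z * x ∧ y * z = z * y ∧ x⁻¹ * y * x = y * z ^ p ^ (n - 3)) ∨
    (4 ≤ n ∧ ∃ (s : ℕ) (x y z : G), (s = 1 ∨ ¬ IsSquare (s : ZMod p)) ∧ Subgroup.closure ({x, y, z} : Set G) = ⊤ ∧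
        x ^ p = 1 ∧ y ^ p = 1 ∧ z ^ p ^ (n - 2) = 1 ∧ y * z = z * y ∧ x⁻¹ * y * x = y * z ^ (s * p ^ (n - 3)) ∧
        x⁻¹ * z * x = y * z) ∨
    (p = 3 ∧ 2 ≤ n ∧ (⊤ : Subgroup G).lowerCentralSeries (n - 2) ≠ ⊥) := by
  classical
  have hP : IsPGroup p G := IsPGroup.of_card hG
  by_cases hcy : IsCyclic G
  · exact Or.inl CfsgLib.Blackburn.isMetacyclic_of_isCyclic
  have hrk' : ∀ E : Subgroup G, Cfsg.IsElementaryAbelian p E → Nat.card E ≤ p ^ 2 := fun E hE => hrk E hE.1 hE.2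
  obtain ⟨A, hAn, hA, hA2⟩ := Cfsg.Agent.S0126.result hp hP hcy
  haveI := hAn
  by_cases hall : ∀ x : G, x ^ p = 1 → x ∈ A
  swap
  · push Not at hall
    obtain ⟨x, hxp, hxA⟩ := hall
    rcases CfsgLib.Blackburn.case_two hp hG hrk' hA hA2 hxp hxA with h | h
    · exact Or.inr (Or.inr (Or.inr h))
    · rcases h.1 with h1 | h1
      · exact Or.inr (Or.inl h1)
      · exact Or.inr (Or.inr (Or.inl h1))
  by_cases hp3 : p = 3
  · subst hp3
    rcases CfsgLib.Blackburn.three_groups n G hG hrk' with h | h | h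
    · exact Or.inl h
    · exact Or.inr (Or.inr (Or.inr ⟨rfl, h⟩))
    · exact absurd h (CfsgLib.Blackburn.bCond_false hall hA2)
  · have hgt : 3 < p := by
      have := (Fact.out : p.Prime).two_le
      omega
    exact Or.inl (CfsgLib.PLocalBasics.metacyclic_of_smallOmega hgt G hP (le_trans (Subgroup.card_le_of_le
      ((Subgroup.closure_le A).2 fun x hx => hall x hx.2)) hA2.le))

end Cfsg.Agent.S3888
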