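import Cfsg.Statements.S3889

set_option autoImplicit false
open Cfsg

namespace Cfsg.Agent.S3889

/-- A finite abelian group that is the union of a family of proper subgroups any two of which intersect trivially is elementary abelian: its exponent is a prime. -/
theorem result {G : Type*} [CommGroup G] [Finite G] (𝓑 : Set (Subgroup G)) (hprop : ∀ B ∈ 𝓑, B ≠ ⊤)
    (hcov : ∀ g : G, ∃ B ∈ 𝓑, g ∈ B) (hdisj : ∀ B ∈ 𝓑, ∀ C ∈ 𝓑, B ≠ C → B ⊓ C = ⊥) :
    (Monoid.exponent G).Prime := by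
  classical
  have hnt : ∀ B ∈ 𝓑, ∃ x, x ∉ B := fun B hB => by
    have := hprop B hB
    rw [ne_eq, Subgroup.eq_top_iff'] at this
    push Not at this
    exact this
  have key : ∀ a b : G, a ≠ 1 → b ≠ 1 → ∀ B ∈ 𝓑, a ∈ B → b ∉ B → orderOf b ∣ orderOf a := by
    intro a b ha hb B hB haB hbB
    obtain ⟨C, hC, hbC⟩ := hcov b
    obtain ⟨D, hD, habD⟩ := hcov (a * b)
    have hBC : B ≠ C := fun e => hbB (e ▸ hbC)
    have hCD : C ≠ D := by
      rintro rfl
      have haC : a ∈ C := by simpa using mul_mem habD (inv_mem hbC)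
      have : a ∈ (B ⊓ C : Subgroup G) := ⟨haB, haC⟩
      rw [hdisj B hB C hC hBC] at this
      exact ha this
    have h1 : b ^ orderOf a ∈ (C ⊓ D : Subgroup G) := by
      refine ⟨pow_mem hbC _, ?_⟩
      have := pow_mem habD (orderOf a)
      rwa [mul_pow, pow_orderOf_eq_one, one_mul] at this
    rw [hdisj C hC D hD hCD] at h1
    exact orderOf_dvd_of_pow_eq_one h1
  have one_ne : ∀ B ∈ 𝓑, ∀ x, x ∉ B → x ≠ 1 := fun B _ x hx e => hx (e ▸ one_mem B)
  have keq : ∀ a b : G, a ≠ 1 → b ≠ 1 → ∀ B ∈ 𝓑, a ∈ B → b ∉ B → orderOf a = orderOf b := by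
    intro a b ha hb B hB haB hbB
    obtain ⟨C, hC, hbC⟩ := hcov b
    have hBC : B ≠ C := fun e => hbB (e ▸ hbC)
    refine Nat.dvd_antisymm (key b a hb ha C hC hbC fun haC => ?_) (key a b ha hb B hB haB hbB)
    have : a ∈ (B ⊓ C : Subgroup G) := ⟨haB, haC⟩
    rw [hdisj B hB C hC hBC] at this
    exact ha this
  have all : ∀ a b : G, a ≠ 1 → b ≠ 1 → orderOf a = orderOf b := by
    intro a b ha hb
    obtain ⟨B, hB, haB⟩ := hcov a
    by_cases hbB : b ∈ B
    · obtain ⟨c, hc⟩ := hnt B hB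
      rw [keq a c ha (one_ne B hB c hc) B hB haB hc, keq b c hb (one_ne B hB c hc) B hB hbB hc]
    · exact keq a b ha hb B hB haB hbB
  obtain ⟨B, hB, -⟩ := hcov 1
  obtain ⟨c, hc⟩ := hnt B hB
  have hc1 := one_ne B hB c hc
  obtain ⟨p, hp, hpd⟩ := Nat.exists_prime_and_dvd (mt orderOf_eq_one_iff.1 hc1)
  have hp' : orderOf c = p := by
    have h1 := orderOf_pow_orderOf_div (orderOf_pos c).ne' hpd
    have h2 : c ^ (orderOf c / p) ≠ 1 := fun e => by
      rw [e, orderOf_one] at h1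
      exact hp.ne_one h1.symm
    rw [← all _ c h2 hc1, h1]
  haveI : Nontrivial G := ⟨⟨c, 1, hc1⟩⟩
  have : Monoid.exponent G = p := by
    refine Nat.dvd_antisymm (Monoid.exponent_dvd.2 fun g => ?_) (hp' ▸ Monoid.order_dvd_exponent c)
    rcases eq_or_ne g 1 with rfl | hg
    · simp
    · rw [all g c hg hc1, hp']
  rw [this]; exact hp

end Cfsg.Agent.S3889
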