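import Cfsg.Statements.S3890
import Cfsg.Agent.NilCover.Basic

set_option autoImplicit false
open Cfsg

namespace Cfsg.Agent.S3890

/-- A cover of a group is a finite set of proper subgroups whose union is the whole group; it is minimal when no cover has fewer members, and nilpotent when all its members are nilpotent. Let G be a finite group with trivial center admitting a nilpotent minimal cover 𝓐, and let P be an abelian Sylow p-subgroup of G that is not normal. Then either P is elementary abelian of order greater than p, or P is a Sylow p-subgroup of some member A of 𝓐, the normalizer N of P is a maximal subgroup of G, N meets each of its conjugates by elements outside N in a subgroup of order prime to p, and the centralizer of P equals A. -/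
theorem result {G : Type*} [Group G] [Finite G] (hZ : Subgroup.center G = ⊥) (𝓐 : Finset (Subgroup G))
    (h𝓐 : ((∀ A ∈ 𝓐, A ≠ ⊤) ∧ (∀ g : G, ∃ A ∈ 𝓐, g ∈ A)) ∧ (∀ 𝓑 : Finset (Subgroup G), (∀ A ∈ 𝓑, A ≠ ⊤) ∧ (∀ g : G, ∃ A ∈ 𝓑, g ∈ A) → 𝓐.card ≤ 𝓑.card) ∧ (∀ A ∈ 𝓐, Group.IsNilpotent ↥A)) {p : ℕ} [Fact p.Prime] (P : Sylow p G) (hab : IsMulCommutative ↥(P : Subgroup G))
    (hnn : ¬ (P : Subgroup G).Normal) :
    (Cfsg.IsElementaryAbelian p (P : Subgroup G) ∧ p < Nat.card ↥(P : Subgroup G)) ∨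
    (∃ A ∈ 𝓐, (P : Subgroup G) ≤ A ∧ ¬ p ∣ ((P : Subgroup G).subgroupOf A).index ∧
      IsCoatom (Subgroup.normalizer ((P : Subgroup G) : Set G)) ∧
      (∀ g : G, g ∉ Subgroup.normalizer ((P : Subgroup G) : Set G) →
        ¬ p ∣ Nat.card ↥(Subgroup.normalizer ((P : Subgroup G) : Set G) ⊓
          (Subgroup.normalizer ((P : Subgroup G) : Set G)).map (MulAut.conj g).toMonoidHom)) ∧
      Subgroup.centralizer ((P : Subgroup G) : Set G) = A) := by
  obtain ⟨h1, h2, h3⟩ := h𝓐
  have h : CfsgLib.NilCover.MinCover 𝓐 := ⟨h1.1, h1.2, h2, h3⟩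
  by_cases hel : Cfsg.IsElementaryAbelian p (P : Subgroup G) ∧ p < Nat.card ↥(P : Subgroup G)
  · exact Or.inl hel
  refine Or.inr ?_
  have hP1 : (P : Subgroup G) ≠ ⊥ := fun hb => hnn (hb ▸ Subgroup.normal_bot)
  have hP' : IsCyclic ↥(P : Subgroup G) ∨ ∃ x ∈ (P : Subgroup G), x ^ p ≠ 1 := by
    by_cases he : ∀ x ∈ (P : Subgroup G), x ^ p = 1
    · refine Or.inl ?_
      have hle : Nat.card ↥(P : Subgroup G) ≤ p := not_lt.1 fun hlt => hel ⟨⟨hab, he⟩, hlt⟩
      obtain ⟨k, hk⟩ := P.isPGroup'.exists_card_eq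
      have hk1 : k ≤ 1 := by
        by_contra hk'
        have := Nat.pow_lt_pow_right (Fact.out : p.Prime).one_lt (show 1 < k by omega)
        rw [pow_one, ← hk] at this
        omega
      rcases (show k = 0 ∨ k = 1 by omega) with rfl | rfl
      · exact absurd (Subgroup.eq_bot_of_card_eq _ (by rw [hk, pow_zero])) hP1
      · exact isCyclic_of_prime_card (p := p) (by rw [hk, pow_one])
    · push Not at he
      exact Or.inr he
  obtain ⟨A, hA, hCA, hPA, huniq⟩ := h.exists_member hZ P hab hP1 hP'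
  refine ⟨A, hA, hPA, ?_, (h.isCoatom_normalizer hZ P hab hnn hP').1, ?_, hCA⟩
  · intro hd
    exact P.not_dvd_index (hd.trans (Subgroup.relIndex_dvd_index_of_le hPA))
  intro g hg hdvd
  obtain ⟨⟨z, hz⟩, hzo⟩ := exists_prime_orderOf_dvd_card' _ hdvd
  rw [← Subgroup.orderOf_coe] at hzo
  change orderOf z = p at hzo
  have hzp : IsPGroup p ↥(Subgroup.zpowers z) :=
    IsPGroup.of_card (n := 1) (by rw [Nat.card_zpowers, pow_one]; exact hzo)
  have hin : ∀ w : G, w ∈ Subgroup.normalizer ((P : Subgroup G) : Set G) → IsPGroup p ↥(Subgroup.zpowers w) →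
      w ∈ (P : Subgroup G) := fun w hw hwp =>
    P.3 (IsPGroup.to_sup_of_normal_right' hwp P.isPGroup' (Subgroup.zpowers_le.2 hw)) le_sup_right ▸
      Subgroup.mem_sup_left (Subgroup.mem_zpowers w)
  have hz1 : z ∈ (P : Subgroup G) := hin z hz.1 hzp
  obtain ⟨y, hy, hyz⟩ := hz.2
  have hy' : y = g⁻¹ * z * g := by rw [← hyz]; simp [mul_assoc]
  have hyo : orderOf y = p := by
    rw [← hzo, ← hyz]
    exact (orderOf_injective _ (MulAut.conj g).injective y).symm
  have hyP : y ∈ (P : Subgroup G) :=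
    hin y hy (IsPGroup.of_card (n := 1) (by rw [Nat.card_zpowers, pow_one]; exact hyo))
  have hzne : z ≠ 1 := fun h' => by rw [h', orderOf_one] at hzo; exact (Fact.out : p.Prime).one_lt.ne hzo
  -- the member of the conjugate Sylow subgroup
  have hzQ : z ∈ ((g • P : Sylow p G) : Subgroup G) := by
    rw [Sylow.coe_subgroup_smul, Subgroup.mem_smul_pointwise_iff_exists]
    exact ⟨y, hyP, hyz⟩
  have hQ1 : ((g • P : Sylow p G) : Subgroup G) ≠ ⊥ := fun hb => hzne (Subgroup.mem_bot.1 (hb ▸ hzQ))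
  have e := Sylow.equiv P (g • P)
  have habQ : IsMulCommutative ↥((g • P : Sylow p G) : Subgroup G) := ⟨⟨fun a b => by
    apply e.symm.injective
    rw [map_mul, map_mul]
    exact hab.is_comm.comm _ _⟩⟩
  have hQ : IsCyclic ↥((g • P : Sylow p G) : Subgroup G) ∨
      ∃ x ∈ ((g • P : Sylow p G) : Subgroup G), x ^ p ≠ 1 := by
    rcases hP' with hc | ⟨x, hx, hxp⟩
    · exact Or.inl (e.isCyclic.1 hc)
    · refine Or.inr ⟨g * x * g⁻¹, ?_, fun h' => hxp ?_⟩
      · rw [Sylow.coe_subgroup_smul, Subgroup.mem_smul_pointwise_iff_exists]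
        exact ⟨x, hx, rfl⟩
      · rw [conj_pow, conj_eq_one_iff] at h'; exact h'
  obtain ⟨B, hB, hCB, hQB, huQ⟩ := h.exists_member hZ (g • P) habQ hQ1 hQ
  have hBA : B = A := huniq z hz1 hzne B hB (hQB hzQ)
  apply hg
  refine Sylow.smul_eq_iff_mem_normalizer.1 (Sylow.ext ?_)
  refine Subgroup.eq_of_le_of_card_ge ?_ (Nat.card_congr (Sylow.equiv (g • P) P).toEquiv).ge
  intro x hx
  have hxC : x ∈ Subgroup.centralizer ((P : Subgroup G) : Set G) := by
    rw [hCA, ← hBA]; exact hQB hx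
  exact hin x (Subgroup.centralizer_le_normalizer _ hxC)
    ((g • P : Sylow p G).isPGroup'.to_le (Subgroup.zpowers_le.2 hx))

end Cfsg.Agent.S3890
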