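import Cfsg.Statements.S3891
import Cfsg.Agent.NilCover.Basic

set_option autoImplicit false
open Cfsg

namespace Cfsg.Agent.S3891

/-- A cover of a group is a finite set of proper subgroups whose union is the whole group; it is minimal when no cover has fewer members, and nilpotent when all its members are nilpotent. Let G be a finite group with trivial center admitting a nilpotent minimal cover, and let P be a non-normal Sylow p-subgroup of G that is cyclic, or abelian but not elementary abelian. Then the centralizer of P is nilpotent and the normalizer of P is the unique maximal subgroup of G containing the centralizer of P. -/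
theorem result {G : Type*} [Group G] [Finite G] (hZ : Subgroup.center G = ⊥) (𝓐 : Finset (Subgroup G))
    (h𝓐 : ((∀ A ∈ 𝓐, A ≠ ⊤) ∧ (∀ g : G, ∃ A ∈ 𝓐, g ∈ A)) ∧ (∀ 𝓑 : Finset (Subgroup G), (∀ A ∈ 𝓑, A ≠ ⊤) ∧ (∀ g : G, ∃ A ∈ 𝓑, g ∈ A) → 𝓐.card ≤ 𝓑.card) ∧ (∀ A ∈ 𝓐, Group.IsNilpotent ↥A)) {p : ℕ} [Fact p.Prime] (P : Sylow p G)
    (hP : IsCyclic ↥(P : Subgroup G) ∨ (IsMulCommutative ↥(P : Subgroup G) ∧ ¬ Cfsg.IsElementaryAbelian p (P : Subgroup G)))
    (hnn : ¬ (P : Subgroup G).Normal) :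
    Group.IsNilpotent ↥(Subgroup.centralizer ((P : Subgroup G) : Set G)) ∧
      IsCoatom (Subgroup.normalizer ((P : Subgroup G) : Set G)) ∧
      ∀ M : Subgroup G, IsCoatom M → Subgroup.centralizer ((P : Subgroup G) : Set G) ≤ M →
        M = Subgroup.normalizer ((P : Subgroup G) : Set G) := by
  obtain ⟨h1, h2, h3⟩ := h𝓐
  have h : CfsgLib.NilCover.MinCover 𝓐 := ⟨h1.1, h1.2, h2, h3⟩
  have hab : IsMulCommutative ↥(P : Subgroup G) := by
    rcases hP with hc | ⟨hab, -⟩
    · exact IsCyclic.isMulCommutative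
    · exact hab
  have hP' : IsCyclic ↥(P : Subgroup G) ∨ ∃ x ∈ (P : Subgroup G), x ^ p ≠ 1 := by
    refine hP.imp_right fun hh => ?_
    by_contra hne
    push Not at hne
    exact hh.2 ⟨hh.1, hne⟩
  have hP1 : (P : Subgroup G) ≠ ⊥ := fun hb => hnn (hb ▸ Subgroup.normal_bot)
  obtain ⟨A, hA, hCA, -, -⟩ := h.exists_member hZ P hab hP1 hP'
  obtain ⟨hco, hu⟩ := h.isCoatom_normalizer hZ P hab hnn hP'
  exact ⟨hCA ▸ h3 A hA, hco, hu⟩

end Cfsg.Agent.S3891
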