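import Cfsg.Statements.S3910
import Cfsg.Agent.S3939
import Mathlib

set_option autoImplicit false
open Cfsg

namespace Cfsg.Agent.S3910

/-- A finite nilpotent group in which any two abelian subgroups of the same order are conjugate is cyclic. -/
theorem result {G : Type*} [Group G] [Finite G] (hB : ∀ A B : Subgroup G, IsMulCommutative ↥A → IsMulCommutative ↥B → Nat.card ↥A = Nat.card ↥B → ∃ g : G, B = A.map (MulAut.conj g).toMonoidHom) (hnil : Group.IsNilpotent G) : IsCyclic G := by
  classical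
  haveI := hnil
  obtain ⟨x, hx⟩ := Finite.exists_max (fun g : G => orderOf g)
  have hdvd : ∀ y : G, orderOf y ∣ orderOf x := by
    intro y
    by_contra hnd
    have hy0 := (orderOf_pos y).ne'
    have hx0 := (orderOf_pos x).ne'
    obtain ⟨p, hp, hlt⟩ : ∃ p : ℕ, p.Prime ∧ (orderOf x).factorization p < (orderOf y).factorization p := by
      by_contra hcon
      push Not at hcon
      apply hnd
      rw [← Nat.factorization_prime_le_iff_dvd hy0 hx0]
      exact hcon
    set a := (orderOf x).factorization p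
    set b := (orderOf y).factorization p
    have hm : p ^ a ∣ orderOf x := Nat.ordProj_dvd _ _
    have hn : orderOf y / p ^ b ∣ orderOf y := Nat.ordCompl_dvd _ _
    have ho1 : orderOf (x ^ (p ^ a)) = orderOf x / p ^ a :=
      orderOf_pow_of_dvd (pow_ne_zero _ hp.ne_zero) hm
    have ho2 : orderOf (y ^ (orderOf y / p ^ b)) = p ^ b := by
      rw [orderOf_pow_of_dvd (Nat.ordCompl_pos p hy0).ne' hn, Nat.div_div_self (Nat.ordProj_dvd _ _) hy0]
    have hco : (orderOf (x ^ (p ^ a))).Coprime (orderOf (y ^ (orderOf y / p ^ b))) := by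
      rw [ho1, ho2]
      exact ((Nat.coprime_ordCompl hp hx0).pow_left b).symm
    have hmul := (show Commute (x ^ (p ^ a)) (y ^ (orderOf y / p ^ b)) from
      Cfsg.Agent.S3939.commute_of_coprime_nilpotent hco).orderOf_mul_eq_mul_orderOf_of_coprime hco
    have hle := hx (x ^ (p ^ a) * y ^ (orderOf y / p ^ b))
    rw [hmul, ho1, ho2] at hle
    have h1 : orderOf x / p ^ a * p ^ a = orderOf x := Nat.div_mul_cancel hm
    have h2 : orderOf x / p ^ a * p ^ a < orderOf x / p ^ a * p ^ b :=
      Nat.mul_lt_mul_of_pos_left (Nat.pow_lt_pow_right hp.one_lt hlt) (Nat.ordCompl_pos p hx0)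
    omega
  by_contra hcyc
  have hne : Subgroup.zpowers x ≠ ⊤ := fun h => hcyc ⟨⟨x, fun y => show y ∈ Subgroup.zpowers x by rw [h]; exact Subgroup.mem_top y⟩⟩
  obtain ⟨M, hM, hxM⟩ : ∃ M : Subgroup G, IsCoatom M ∧ Subgroup.zpowers x ≤ M :=
    (eq_top_or_exists_le_coatom _).resolve_left hne
  haveI : M.Normal := Subgroup.NormalizerCondition.normal_of_coatom M Group.normalizerCondition_of_isNilpotent hM
  refine hM.1 (eq_top_iff.2 fun y _ => ?_)
  obtain ⟨c, hc⟩ := hdvd y
  have hc0 : c ≠ 0 := fun h => (orderOf_pos x).ne' (by rw [hc, h, mul_zero])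
  have hz : orderOf (x ^ c) = orderOf y := by
    rw [orderOf_pow_of_dvd hc0 ⟨orderOf y, by rw [hc, mul_comm]⟩, hc, Nat.mul_div_cancel _ (Nat.pos_of_ne_zero hc0)]
  obtain ⟨g, hg⟩ := hB (Subgroup.zpowers (x ^ c)) (Subgroup.zpowers y) inferInstance inferInstance
    (by rw [Nat.card_zpowers, Nat.card_zpowers, hz])
  have hy : y ∈ (Subgroup.zpowers (x ^ c)).map (MulAut.conj g).toMonoidHom := hg ▸ Subgroup.mem_zpowers y
  obtain ⟨w, hw, rfl⟩ := hy
  exact (inferInstance : M.Normal).conj_mem w
    (hxM ((Subgroup.zpowers_le.2 (Subgroup.pow_mem _ (Subgroup.mem_zpowers x) c)) hw)) g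


end Cfsg.Agent.S3910
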