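import Cfsg.Statements.S3919
import Cfsg.Agent.S0063
import Cfsg.Agent.S0112
import Cfsg.Agent.S0113
import Cfsg.Agent.S0114
import Cfsg.Agent.RankOneP.Basic

set_option autoImplicit false
open Cfsg

namespace Cfsg.Agent.S3919

/-- Say that a group has self-centralizing non-cyclic subgroups when every non-cyclic subgroup H satisfies C_G(H) ≤ H. A finite non-abelian 2-group G of order 2^n has self-centralizing non-cyclic subgroups if and only if G has nilpotency class n − 1 (that is, G is dihedral, semidihedral or generalized quaternion). -/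
theorem result {G : Type*} [Group G] [Finite G] (hna : ¬ IsMulCommutative G) (n : ℕ) (hG : Nat.card G = 2 ^ n) :
    (∀ H : Subgroup G, ¬ IsCyclic ↥H → Subgroup.centralizer (H : Set G) ≤ H) ↔ (⊤ : Subgroup G).lowerCentralSeries (n - 2) ≠ ⊥ := by
  classical
  haveI : Fact (Nat.Prime 2) := ⟨Nat.prime_two⟩
  have hp : IsPGroup 2 G := IsPGroup.of_card hG
  haveI : Group.IsNilpotent G := hp.isNilpotent
  have hn3 : 3 ≤ n := by
    by_contra h
    apply hna
    obtain h1 | h1 | h1 : n = 0 ∨ n = 1 ∨ n = 2 := by omega
    · haveI : Subsingleton G := (Nat.card_eq_one_iff_unique.mp (by rw [hG, h1, pow_zero])).1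
      exact ⟨⟨fun a b => Subsingleton.elim _ _⟩⟩
    · haveI : IsCyclic G := isCyclic_of_prime_card (p := 2) (by rw [hG, h1, pow_one])
      exact ⟨⟨fun a b => (IsCyclic.commGroup (α := G)).mul_comm a b⟩⟩
    · exact ⟨⟨fun a b => (IsPGroup.commGroupOfCardEqPrimeSq (p := 2) (by rw [hG, h1])).mul_comm a b⟩⟩
  have hle : Group.nilpotencyClass G ≤ n - 1 := Cfsg.Agent.S0063.result 2 n hG (by omega)
  have hiff : (⊤ : Subgroup G).lowerCentralSeries (n - 2) ≠ ⊥ ↔ Group.nilpotencyClass G = n - 1 := by
    rw [ne_eq, Subgroup.lowerCentralSeries_eq_bot_iff_nilpotencyClass_le]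
    omega
  rw [hiff]
  constructor
  · intro hsc
    by_cases hu : CfsgLib.RankOneP.UniqueOrderP 2 G
    · -- generalised quaternion
      rcases CfsgLib.RankOneP.isCyclic_or_quaternion hp hu with hc | ⟨-, k, hk, ⟨e⟩⟩
      · exact absurd ⟨⟨fun a b => (IsCyclic.commGroup (α := G)).mul_comm a b⟩⟩ hna
      haveI : NeZero (2 ^ k) := ⟨by positivity⟩
      let y : QuaternionGroup (2 ^ k) := .xa 0
      have hy4 : orderOf y = 4 := QuaternionGroup.orderOf_xa 0
      refine Cfsg.Agent.S0112.result (p := 2) n hG ((Subgroup.zpowers y).map e.symm.toMonoidHom) ?_ ?_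
      · rw [Subgroup.card_map_of_injective e.symm.injective, Nat.card_zpowers, hy4]; norm_num
      · refine le_antisymm (fun g hg => ?_) (fun g hg => Subgroup.mem_centralizer_iff.mpr fun x hx => ?_)
        · have h1 : e g * y = y * e g := by
            apply e.symm.injective
            rw [map_mul, map_mul, e.symm_apply_apply]
            exact (Subgroup.mem_centralizer_iff.mp hg _ ⟨y, Subgroup.mem_zpowers y, rfl⟩).symm
          refine ⟨e g, ?_, e.symm_apply_apply g⟩
          have h2n : ((2 : ℕ) : ZMod (2 * 2 ^ k)) * ((2 ^ k : ℕ) : ZMod (2 * 2 ^ k)) = 0 := by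
            rw [← Nat.cast_mul, ZMod.natCast_self]
          have hi : ∀ i : ZMod (2 * 2 ^ k), i + i = 0 → i = 0 ∨ i = ((2 ^ k : ℕ) : ZMod (2 * 2 ^ k)) := by
            intro i hi
            obtain ⟨j, rfl⟩ := ZMod.intCast_surjective i
            rw [← Int.cast_add, ZMod.intCast_zmod_eq_zero_iff_dvd, ← two_mul, Nat.cast_mul, Nat.cast_ofNat] at hi
            obtain ⟨c, rfl⟩ := (Int.mul_dvd_mul_iff_left two_ne_zero).mp hi
            rcases Int.even_or_odd c with ⟨d, rfl⟩ | ⟨d, rfl⟩
            · left
              rw [ZMod.intCast_zmod_eq_zero_iff_dvd, Nat.cast_mul, Nat.cast_ofNat]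
              exact ⟨d, by push_cast; ring⟩
            · right
              rw [← Int.cast_natCast (R := ZMod (2 * 2 ^ k)), ZMod.intCast_eq_intCast_iff_dvd_sub, Nat.cast_mul, Nat.cast_ofNat]
              exact ⟨-d, by push_cast; ring⟩
          generalize e g = q at h1
          rcases q with i | i
          · simp only [y, QuaternionGroup.a_mul_xa, QuaternionGroup.xa_mul_a, QuaternionGroup.xa.injEq] at h1
            rcases hi i (by linear_combination -h1) with rfl | rfl
            · exact one_mem _
            · rw [show (QuaternionGroup.a ((2 ^ k : ℕ) : ZMod (2 * 2 ^ k))) = y ^ 2 from (QuaternionGroup.xa_sq 0).symm]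
              exact Subgroup.pow_mem _ (Subgroup.mem_zpowers y) _
          · simp only [y, QuaternionGroup.xa_mul_xa, QuaternionGroup.a.injEq] at h1
            rcases hi i (by linear_combination -h1) with rfl | rfl
            · exact Subgroup.mem_zpowers y
            · rw [show (QuaternionGroup.xa ((2 ^ k : ℕ) : ZMod (2 * 2 ^ k))) = y * y ^ 2 by
                rw [QuaternionGroup.xa_sq]; simp [y]]
              exact mul_mem (Subgroup.mem_zpowers y) (Subgroup.pow_mem _ (Subgroup.mem_zpowers y) _)
        · obtain ⟨a, ha, rfl⟩ := hg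
          obtain ⟨b, hb, rfl⟩ := hx
          obtain ⟨i, rfl⟩ := Subgroup.mem_zpowers_iff.mp ha
          obtain ⟨j, rfl⟩ := Subgroup.mem_zpowers_iff.mp hb
          rw [← map_mul, ← map_mul, zpow_mul_comm]
    · -- a self-centralising four-group
      simp only [CfsgLib.RankOneP.UniqueOrderP, not_forall] at hu
      obtain ⟨s, t, hs, ht, hs1, hts⟩ := hu
      haveI : Nontrivial G := ⟨⟨s, 1, hs1⟩⟩
      haveI := hp.center_nontrivial
      obtain ⟨z0, hz0⟩ := exists_ne (1 : Subgroup.center G)
      obtain ⟨z, hzZ, hz1, hz2⟩ : ∃ z ∈ Subgroup.center G, z ≠ 1 ∧ z ^ 2 = 1 := by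
        obtain ⟨m, hm⟩ := hp (z0 : G)
        have hex : ∃ m : ℕ, (z0 : G) ^ 2 ^ m = 1 := ⟨m, hm⟩
        have hpos : Nat.find hex ≠ 0 := fun h0 => hz0 (Subtype.ext (by simpa [h0] using Nat.find_spec hex))
        obtain ⟨j, hj⟩ := Nat.exists_eq_succ_of_ne_zero hpos
        refine ⟨(z0 : G) ^ 2 ^ j, Subgroup.pow_mem _ z0.2 _, Nat.find_min hex (by omega), ?_⟩
        rw [← pow_mul, ← pow_succ, ← Nat.succ_eq_add_one, ← hj]
        exact Nat.find_spec hex
      obtain ⟨w, hw2, hw1, hwz⟩ : ∃ w : G, w ^ 2 = 1 ∧ w ≠ 1 ∧ w ≠ z := by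
        by_cases hsz : s = z
        · refine ⟨t, ht, fun h => hts (by rw [h]; exact one_mem _), fun h => hts ?_⟩
          rw [h, hsz]; exact Subgroup.mem_zpowers z
        · exact ⟨s, hs, hs1, hsz⟩
      have hcz : ∀ g, g * z = z * g := fun g => Subgroup.mem_center_iff.mp hzZ g
      have hww : w * w = 1 := by rw [← pow_two]; exact hw2
      have hzz : z * z = 1 := by rw [← pow_two]; exact hz2
      have hzz' : ∀ x, z * (z * x) = x := fun x => by rw [← mul_assoc, hzz, one_mul]
      have hww' : ∀ x, w * (w * x) = x := fun x => by rw [← mul_assoc, hww, one_mul]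
      have hwz1 : w * z = z * w := hcz w
      have hwz2 : ∀ x, w * (z * x) = z * (w * x) := fun x => by rw [← mul_assoc, hwz1, mul_assoc]
      have hwi : w⁻¹ = w := inv_eq_of_mul_eq_one_right hww
      have hzi : z⁻¹ = z := inv_eq_of_mul_eq_one_right hzz
      let V : Subgroup G :=
        { carrier := {x | x = 1 ∨ x = z ∨ x = w ∨ x = z * w}
          one_mem' := Or.inl rfl
          mul_mem' := by
            intro a b ha hb
            rcases ha with h | h | h | h <;> rcases hb with h' | h' | h' | h' <;>
              simp [h, h', hww, hzz, hzz', hww', hwz1, hwz2, mul_assoc]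
          inv_mem' := by
            intro a ha
            rcases ha with h | h | h | h <;> simp [h, hwi, hzi, hwz1] }
      have hzw1 : z * w ≠ 1 := fun h => hwz ((inv_eq_of_mul_eq_one_right h).symm.trans
        (inv_eq_of_mul_eq_one_right (by rw [← pow_two]; exact hz2)))
      have hzwz : z * w ≠ z := fun h => hw1 (by simpa using h)
      have hzww : z * w ≠ w := fun h => hz1 (by simpa using h)
      have hcard : Nat.card V = 4 := by
        show Nat.card {x : G | x = 1 ∨ x = z ∨ x = w ∨ x = z * w} = 4
        rw [Nat.card_coe_set_eq]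
        rw [show {x : G | x = 1 ∨ x = z ∨ x = w ∨ x = z * w} = ↑({1, z, w, z * w} : Finset G) by ext; simp,
          Set.ncard_coe_finset]
        simp [hz1.symm, hw1.symm, hzw1.symm, hwz.symm, hzwz.symm, hzww.symm]
      have hVnc : ¬ IsCyclic V := by
        intro hc
        obtain ⟨g, hg⟩ := hc.exists_generator
        have h4 : orderOf g = 4 := (orderOf_eq_card_of_forall_mem_zpowers hg).trans hcard
        have hg2 : g ^ 2 = 1 := by
          apply Subtype.ext
          rcases g.2 with h | h | h | h <;> simp [pow_two, h, hww, hzz, hzz', hww', hwz1, hwz2, mul_assoc]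
        have := Nat.le_of_dvd (by norm_num) (orderOf_dvd_of_pow_eq_one hg2)
        omega
      refine Cfsg.Agent.S0112.result (p := 2) n hG V hcard ?_
      refine le_antisymm (hsc V hVnc) fun a ha => Subgroup.mem_centralizer_iff.mpr fun b hb => ?_
      rcases ha with h | h | h | h <;> rcases hb with h' | h' | h' | h' <;>
        simp [h, h', hwz1, hwz2, hzz', hww', mul_assoc]
  · intro hcl H hH x hx
    obtain ⟨C, hC, hCi⟩ := Cfsg.Agent.S0113.result n hn3 hG hcl
    haveI := hC
    haveI : C.Normal := Subgroup.normal_of_index_eq_two hCi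
    obtain ⟨eD⟩ := Cfsg.Agent.S0114.result n hn3 hG hcl
    have hZ2 : Nat.card (Subgroup.center G) = 2 := by
      have h1 := Subgroup.card_eq_card_quotient_mul_card_subgroup (Subgroup.center G)
      rw [hG, Nat.card_congr eD.toEquiv, DihedralGroup.nat_card, ← pow_succ', show n - 2 + 1 = n - 1 by omega] at h1
      have h2 : 2 ^ (n - 1) * 2 = 2 ^ (n - 1) * Nat.card (Subgroup.center G) := by
        rw [← h1, ← pow_succ, show n - 1 + 1 = n by omega]
      exact (Nat.eq_of_mul_eq_mul_left (by positivity) h2).symm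
    have hCc : ∀ a ∈ C, ∀ b ∈ C, a * b = b * a := fun a ha b hb =>
      congrArg Subtype.val ((IsCyclic.commGroup (α := C)).mul_comm ⟨a, ha⟩ ⟨b, hb⟩)
    obtain ⟨h, hh, hhC⟩ : ∃ h ∈ H, h ∉ C := by
      by_contra hall
      push_neg at hall
      exact hH (isCyclic_of_surjective (Subgroup.subgroupOfEquivOfLe (show H ≤ C from hall)).toMonoidHom
        (Subgroup.subgroupOfEquivOfLe (show H ≤ C from hall)).surjective)
    have hsplit : ∀ g : G, g ∈ C ∨ g * h⁻¹ ∈ C := fun g => by
      by_cases hg : g ∈ C
      · exact Or.inl hg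
      · exact Or.inr ((Subgroup.mul_mem_iff_of_index_two hCi).mpr (iff_of_false hg (by simpa using hhC)))
    have hcen : ∀ y ∈ C, y * h = h * y → y ∈ Subgroup.center G := by
      intro y hy hyh
      rw [Subgroup.mem_center_iff]
      intro g
      rcases hsplit g with hg | hg
      · exact hCc g hg y hy
      · calc g * y = g * h⁻¹ * (h * y) := by group
          _ = g * h⁻¹ * y * h := by rw [← hyh]; group
          _ = y * (g * h⁻¹) * h := by rw [hCc _ hg y hy]
          _ = y * g := by group
    obtain ⟨y, hyH, hyC, hy1⟩ : ∃ y ∈ H, y ∈ C ∧ y ≠ 1 := by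
      by_contra hall
      push_neg at hall
      apply hH
      refine isCyclic_iff_exists_zpowers_eq_top.mpr ⟨⟨h, hh⟩, eq_top_iff.mpr ?_⟩
      rintro ⟨g, hg⟩ -
      rcases hsplit g with hgC | hgC
      · rw [show (⟨g, hg⟩ : H) = 1 from Subtype.ext (hall g hg hgC)]; exact one_mem _
      · have := hall _ (mul_mem hg (inv_mem hh)) hgC
        rw [show (⟨g, hg⟩ : H) = ⟨h, hh⟩ from Subtype.ext (mul_inv_eq_one.mp this)]
        exact Subgroup.mem_zpowers _
    obtain ⟨u, huH, huC, hu1, hu2⟩ : ∃ u ∈ H, u ∈ C ∧ u ≠ 1 ∧ u ^ 2 = 1 := by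
      obtain ⟨m, hm⟩ := hp y
      have hex : ∃ m : ℕ, y ^ 2 ^ m = 1 := ⟨m, hm⟩
      have hpos : Nat.find hex ≠ 0 := fun h0 => hy1 (by simpa [h0] using Nat.find_spec hex)
      obtain ⟨j, hj⟩ := Nat.exists_eq_succ_of_ne_zero hpos
      refine ⟨y ^ 2 ^ j, Subgroup.pow_mem _ hyH _, Subgroup.pow_mem _ hyC _, Nat.find_min hex (by omega), ?_⟩
      rw [← pow_mul, ← pow_succ, ← Nat.succ_eq_add_one, ← hj]
      exact Nat.find_spec hex
    have huZ : u ∈ Subgroup.center G := by
      refine hcen u huC ?_
      have hconj : h * u * h⁻¹ ∈ C := Subgroup.Normal.conj_mem inferInstance u huC h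
      have hmap : (⟨h * u * h⁻¹, hconj⟩ : C) = ⟨u, huC⟩ := by
        haveI : Finite C := inferInstance
        haveI : Fintype C := Fintype.ofFinite C
        have hroots := IsCyclic.card_pow_eq_one_le (α := C) (n := 2) two_pos
        by_contra hne
        have hsub : ({1, ⟨u, huC⟩, ⟨h * u * h⁻¹, hconj⟩} : Finset C) ⊆ Finset.univ.filter (fun a : C => a ^ 2 = 1) := by
          intro a ha
          simp only [Finset.mem_insert, Finset.mem_singleton] at ha
          simp only [Finset.mem_filter, Finset.mem_univ, true_and]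
          rcases ha with rfl | rfl | rfl
          · exact one_pow 2
          · exact Subtype.ext hu2
          · exact Subtype.ext (show (h * u * h⁻¹) ^ 2 = 1 by rw [conj_pow, hu2, mul_one, mul_inv_cancel])
        have h1 : (1 : C) ≠ ⟨u, huC⟩ := fun e => hu1 (congrArg Subtype.val e).symm
        have h2 : (1 : C) ≠ ⟨h * u * h⁻¹, hconj⟩ := fun e => hu1 (by
          have := (congrArg Subtype.val e).symm
          simpa [mul_inv_eq_one] using this)
        have := (Finset.card_le_card hsub).trans hroots
        rw [Finset.card_insert_of_notMem (by simp [h1, h2]), Finset.card_insert_of_notMem (by simpa using Ne.symm hne),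
          Finset.card_singleton] at this
        omega
      have := congrArg Subtype.val hmap
      exact (mul_inv_eq_iff_eq_mul.mp this).symm
    have hZH : Subgroup.center G ≤ H := by
      intro g hg
      obtain ⟨p, q, hpq, huniv⟩ := Nat.card_eq_two_iff.mp hZ2
      have key : ∀ a : Subgroup.center G, (a : G) ∈ H := by
        have hmem : ∀ a : Subgroup.center G, a = 1 ∨ a = ⟨u, huZ⟩ := by
          intro a
          have hp' : ∀ b : Subgroup.center G, b = p ∨ b = q := fun b => by
            have := Set.eq_univ_iff_forall.mp huniv b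
            simpa using this
          have hne : (1 : Subgroup.center G) ≠ ⟨u, huZ⟩ := fun e => hu1 (congrArg Subtype.val e).symm
          rcases hp' a with ha | ha <;> rcases hp' 1 with h1 | h1 <;> rcases hp' ⟨u, huZ⟩ with h2 | h2 <;>
            first
              | exact Or.inl (ha.trans h1.symm)
              | exact Or.inr (ha.trans h2.symm)
              | exact absurd (h1.trans h2.symm) hne
        intro a
        rcases hmem a with rfl | rfl
        · exact one_mem _
        · exact huH
      exact key ⟨g, hg⟩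
    have hxh : x * h = h * x := (Subgroup.mem_centralizer_iff.mp hx h hh).symm
    rcases hsplit x with hxC | hxC
    · exact hZH (hcen x hxC hxh)
    · have := hZH (hcen _ hxC (by rw [mul_assoc, inv_mul_cancel, mul_one, ← mul_assoc, ← hxh, mul_inv_cancel_right]))
      simpa using mul_mem this hh

end Cfsg.Agent.S3919
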