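import Cfsg.Statements.S4014
import Mathlib
import Cfsg.Agent.S4623
-- import your own Cfsg.Agent.* helpers here

set_option autoImplicit false
open Cfsg

namespace Cfsg.Agent.S4014

open Cfsg.Agent.S4623
open scoped commutatorElement

theorem derived_sup {X : Type*} [Group X] (N U : Subgroup X) (hn : ∀ u ∈ U, ∀ a ∈ N, u * a * u⁻¹ ∈ N)
    (hc : ∀ a ∈ N, ∀ b ∈ N, a * b = b * a) {j : ℕ} (hU : derivedSeries U j = ⊥) :
    derivedSeries ↥(N ⊔ U) (j + 1) = ⊥ := by
  have hNU : N ⊔ U ≤ Subgroup.normalizer (N : Set X) := sup_le Subgroup.le_normalizer fun u hu => by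
    rw [Subgroup.mem_normalizer_iff]
    refine fun a => ⟨hn u hu a, fun h => ?_⟩
    have h2 := hn u⁻¹ (U.inv_mem hu) _ h
    simp only [inv_inv, ← mul_assoc, inv_mul_cancel, one_mul, inv_mul_cancel_right] at h2
    exact h2
  haveI hN : (N.subgroupOf (N ⊔ U)).Normal := ⟨fun a ha g =>
    (Subgroup.mem_normalizer_iff.1 (hNU g.2) _).1 ha⟩
  let ψ : U →* ↥(N ⊔ U) ⧸ N.subgroupOf (N ⊔ U) :=
    (QuotientGroup.mk' _).comp (Subgroup.inclusion le_sup_right)
  have hψ : Function.Surjective ψ := by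
    intro x
    obtain ⟨x, rfl⟩ := QuotientGroup.mk'_surjective _ x
    have hx : (x : X) ∈ ((U ⊔ N : Subgroup X) : Set X) := by rw [sup_comm]; exact x.2
    rw [Subgroup.coe_mul_of_left_le_normalizer_right U N (le_trans le_sup_right hNU)] at hx
    obtain ⟨u, hu, a, ha, he⟩ := hx
    refine ⟨⟨u, hu⟩, (QuotientGroup.eq.2 ?_)⟩
    show ((Subgroup.inclusion le_sup_right ⟨u, hu⟩ : ↥(N ⊔ U)) : X)⁻¹ * (x : X) ∈ N
    rw [← he]
    show u⁻¹ * (u * a) ∈ N
    rw [inv_mul_cancel_left]
    exact ha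
  have h1 : derivedSeries ↥(N ⊔ U) j ≤ N.subgroupOf (N ⊔ U) := by
    intro x hx
    have h2 : QuotientGroup.mk' (N.subgroupOf (N ⊔ U)) x ∈ derivedSeries (↥(N ⊔ U) ⧸ N.subgroupOf (N ⊔ U)) j :=
      map_derivedSeries_le_derivedSeries _ j (Subgroup.mem_map_of_mem _ hx)
    rw [← map_derivedSeries_eq hψ, hU, Subgroup.map_bot, Subgroup.mem_bot] at h2
    exact (QuotientGroup.eq_one_iff x).1 h2
  rw [derivedSeries_succ, eq_bot_iff, Subgroup.commutator_le]
  intro a ha b hb
  rw [Subgroup.mem_bot, commutatorElement_eq_one_iff_commute]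
  exact Subtype.ext (hc _ (h1 ha) _ (h1 hb))

theorem derived_map {X Y : Type*} [Group X] [Group Y] {S : Subgroup X} (f : X →* Y) {j : ℕ}
    (h : derivedSeries S j = ⊥) : derivedSeries ↥(S.map f) j = ⊥ := by
  rw [← map_derivedSeries_eq (f := f.subgroupMap S) (f.subgroupMap_surjective S), h, Subgroup.map_bot]

theorem derived_of_injective {X Y : Type*} [Group X] [Group Y] (f : X →* Y) (hf : Function.Injective f) {j : ℕ}
    (h : derivedSeries Y j = ⊥) : derivedSeries X j = ⊥ :=
  (Subgroup.map_eq_bot_iff_of_injective _ hf).1 (le_bot_iff.1 (h ▸ map_derivedSeries_le_derivedSeries f j))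

theorem exists_upper (p : ℕ) [Fact p.Prime] : ∀ n : ℕ, ∃ S : Subgroup (Equiv.Perm (Fin n)),
    GenP p S ∧ IsPGroup p S ∧ Nat.card S = p ^ (n.factorial).factorization p ∧
      derivedSeries S (Nat.log p n) = ⊥ := by
  have hp : p.Prime := Fact.out
  intro n
  induction n using Nat.strong_induction_on with
  | _ n ih =>
  by_cases hn : n < p
  · refine ⟨⊥, bot_le, IsPGroup.of_bot, ?_, Subgroup.eq_bot_of_subsingleton _⟩
    rw [Subgroup.card_bot, Nat.factorization_eq_zero_of_not_dvd (fun h => absurd ((Nat.Prime.dvd_factorial hp).1 h) (not_le.2 hn)),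
      pow_zero]
  let m := n / p
  let r := n % p
  obtain ⟨S, hg, hS, hc, hd⟩ := ih m (Nat.div_lt_self (lt_of_lt_of_le hp.pos (not_lt.1 hn)) hp.one_lt)
  let e : (Fin m × ZMod p) ⊕ Fin r ≃ Fin n := Fintype.equivFinOfCardEq (by
    rw [Fintype.card_sum, Fintype.card_prod, ZMod.card, Fintype.card_fin, Fintype.card_fin]
    exact Nat.div_add_mod' n p)
  obtain ⟨h1, h2, h3⟩ := block_group p m r ⊤ S (fun _ _ _ _ => Subgroup.mem_top _) hg hS
  let f : Equiv.Perm ((Fin m × ZMod p) ⊕ Fin r) →* Equiv.Perm (Fin n) := e.permCongrHom.toMonoidHom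
  have hv : (n.factorial).factorization p = m + (m.factorial).factorization p := by
    rw [Nat.factorization_def _ hp, Nat.factorization_def _ hp, ← Nat.div_add_mod n p,
      padicValNat_factorial_mul_add _ (Nat.mod_lt n hp.pos), padicValNat_factorial_mul]
    show _ = (n / p) + padicValNat p (n / p).factorial
    ring
  refine ⟨_, genP_map h1 f, h2.map f, ?_, ?_⟩
  · have hW : Nat.card (⊤ : Subgroup (Multiplicative (Fin m → ZMod p))) = p ^ m := by
      rw [Subgroup.card_top, Nat.card_congr Multiplicative.toAdd, Nat.card_fun, Nat.card_fin, Nat.card_zmod]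
    rw [hW, hc, ← pow_add] at h3
    rw [hv]
    refine le_antisymm ?_ (h3.trans (Subgroup.card_map_of_injective e.permCongrHom.injective).ge)
    obtain ⟨P, hP⟩ := (h2.map f).exists_le_sylow
    refine (Subgroup.card_le_of_le hP).trans (le_of_eq ?_)
    rw [P.card_eq_multiplicity, Nat.card_perm, Nat.card_fin, hv]
  · have hlog : Nat.log p n = Nat.log p m + 1 := by
      have := Nat.log_div_base p n
      have := Nat.log_pos hp.one_lt (not_lt.1 hn)
      show Nat.log p n = Nat.log p (n / p) + 1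
      omega
    rw [hlog]
    refine derived_map f (derived_sup _ _ ?_ ?_ (derived_map _ hd))
    · rintro _ ⟨σ, hσ, rfl⟩ _ ⟨c, -, rfl⟩
      rw [top_conj_base]
      exact Subgroup.mem_map_of_mem _ (Subgroup.mem_top _)
    · rintro _ ⟨a, -, rfl⟩ _ ⟨b, -, rfl⟩
      rw [← map_mul, ← map_mul, mul_comm]

section Lower

variable (p : ℕ) [Fact p.Prime] {α : Type*} (Q : Subgroup (Equiv.Perm α))

/-- The base group of the wreath construction. -/
def wbase : (ZMod p → Q) →* Equiv.Perm (ZMod p × α) where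
  toFun v := Equiv.prodCongrRight fun i => (v i : Equiv.Perm α)
  map_one' := Equiv.ext fun x => rfl
  map_mul' _ _ := Equiv.ext fun x => rfl

/-- The shift. -/
def wshift : Equiv.Perm (ZMod p × α) := (Equiv.addRight (1 : ZMod p)).prodCongr (Equiv.refl α)

theorem wshift_conj (v : ZMod p → Q) :
    wshift p (α := α) * wbase p Q v * (wshift p)⁻¹ = wbase p Q (fun i => v (i - 1)) := by
  rw [mul_inv_eq_iff_eq_mul]
  refine Equiv.ext fun x => ?_
  show (x.1 + 1, (v x.1 : Equiv.Perm α) x.2) = (x.1 + 1, (v (x.1 + 1 - 1) : Equiv.Perm α) x.2)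
  rw [add_sub_cancel_right]

/-- The group generated by the base group and the shift. -/
def wgroup : Subgroup (Equiv.Perm (ZMod p × α)) := (wbase p Q).range ⊔ Subgroup.zpowers (wshift p)

theorem wshift_pow : wshift p (α := α) ^ p = 1 := by
  have h : ∀ j : ℕ, ∀ x : ZMod p × α, (wshift p (α := α) ^ j) x = (x.1 + j, x.2) := by
    intro j
    induction j with
    | zero => intro x; simp
    | succ j ih =>
      intro x
      rw [pow_succ', Equiv.Perm.mul_apply, ih]
      show (x.1 + (j : ZMod p) + 1, x.2) = _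
      push_cast
      rw [add_assoc]
  refine Equiv.ext fun x => ?_
  rw [h p x, ZMod.natCast_self, add_zero]
  rfl

theorem wgroup_isPGroup (hQ : IsPGroup p Q) [Finite α] : IsPGroup p (wgroup p Q) := by
  have hB : IsPGroup p (wbase p Q).range := by
    obtain ⟨k, hk⟩ := IsPGroup.iff_card.1 hQ
    have : IsPGroup p (ZMod p → Q) := IsPGroup.of_card (n := k * p) (by
      rw [Nat.card_fun, Nat.card_zmod, hk, pow_mul])
    exact this.of_surjective _ (wbase p Q).rangeRestrict_surjective
  refine hB.to_sup_of_normal_left' (fun x => ⟨1, ?_⟩) ?_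
  · obtain ⟨z, hz⟩ := x.2
    apply Subtype.ext
    rw [SubmonoidClass.coe_pow, pow_one, ← hz, ← zpow_natCast, ← zpow_mul, mul_comm, zpow_mul, zpow_natCast,
      wshift_pow, one_zpow]
    rfl
  · rw [Subgroup.zpowers_le, Subgroup.mem_normalizer_iff]
    intro x
    constructor
    · rintro ⟨v, rfl⟩
      exact ⟨_, (wshift_conj p Q v).symm⟩
    · rintro ⟨v, hv⟩
      refine ⟨fun i => v (i + 1), ?_⟩
      have e := wshift_conj p Q (fun i => v (i + 1))
      simp only [sub_add_cancel] at e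
      rw [hv] at e
      exact mul_left_cancel (mul_right_cancel e)

theorem exists_proj : ∀ (j : ℕ) (q : Q), q ∈ derivedSeries Q j →
    ∃ v : ZMod p → Q, v 0 = q ∧ ∃ y ∈ derivedSeries (wgroup p Q) (j + 1), (y : Equiv.Perm (ZMod p × α)) = wbase p Q v := by
  classical
  intro j
  induction j with
  | zero =>
    intro q _
    let u : ZMod p → Q := Pi.mulSingle 0 q
    have hu : wbase p Q u ∈ wgroup p Q := Subgroup.mem_sup_left ⟨u, rfl⟩
    have hs : wshift p ∈ wgroup p Q := Subgroup.mem_sup_right (Subgroup.mem_zpowers _)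
    refine ⟨fun i => u i * (u (i - 1))⁻¹, ?_, ⁅(⟨_, hu⟩ : wgroup p Q), ⟨_, hs⟩⁆, ?_, ?_⟩
    · show u 0 * (u (0 - 1))⁻¹ = q
      simp only [u, Pi.mulSingle_eq_same]
      rw [Pi.mulSingle_eq_of_ne (by simp), inv_one, mul_one]
    · rw [derivedSeries_succ, derivedSeries_zero]
      exact Subgroup.commutator_mem_commutator (Subgroup.mem_top _) (Subgroup.mem_top _)
    · show wbase p Q u * wshift p * (wbase p Q u)⁻¹ * (wshift p)⁻¹ = _
      have e := wshift_conj p Q u⁻¹
      rw [map_inv] at e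
      rw [mul_assoc (wbase p Q u), mul_assoc (wbase p Q u), e, ← map_mul]
      rfl
  | succ j ih =>
    intro q hq
    rw [derivedSeries_succ, Subgroup.commutator_def] at hq
    induction hq using Subgroup.closure_induction with
    | mem x hx =>
      obtain ⟨a, ha, b, hb, rfl⟩ := hx
      obtain ⟨va, hva, ya, hya, ea⟩ := ih a ha
      obtain ⟨vb, hvb, yb, hyb, eb⟩ := ih b hb
      refine ⟨⁅va, vb⁆, by rw [← hva, ← hvb]; rfl, ⁅ya, yb⁆, ?_, ?_⟩
      · rw [derivedSeries_succ _ (j + 1)]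
        exact Subgroup.commutator_mem_commutator hya hyb
      · rw [map_commutatorElement, ← ea, ← eb]
        exact map_commutatorElement (wgroup p Q).subtype ya yb
    | one => exact ⟨1, rfl, 1, one_mem _, by rw [map_one]; rfl⟩
    | mul x y _ _ hx hy =>
      obtain ⟨va, hva, ya, hya, ea⟩ := hx
      obtain ⟨vb, hvb, yb, hyb, eb⟩ := hy
      exact ⟨va * vb, by rw [Pi.mul_apply, hva, hvb], ya * yb, mul_mem hya hyb, by
        rw [Subgroup.coe_mul, ea, eb, map_mul]⟩
    | inv x _ hx =>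
      obtain ⟨va, hva, ya, hya, ea⟩ := hx
      exact ⟨va⁻¹, by rw [Pi.inv_apply, hva], ya⁻¹, inv_mem hya, by rw [Subgroup.coe_inv, ea, map_inv]⟩

end Lower

theorem exists_lower (p : ℕ) [Fact p.Prime] : ∀ k : ℕ, ∃ Q : Subgroup (Equiv.Perm (Fin (p ^ k))),
    IsPGroup p Q ∧ (1 ≤ k → derivedSeries Q (k - 1) ≠ ⊥) := by
  intro k
  induction k with
  | zero => exact ⟨⊥, IsPGroup.of_bot, fun h => absurd h (by norm_num)⟩
  | succ k ih =>
    obtain ⟨Q, hQ, hd⟩ := ih
    let e : ZMod p × Fin (p ^ k) ≃ Fin (p ^ (k + 1)) := Fintype.equivFinOfCardEq (by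
      rw [Fintype.card_prod, ZMod.card, Fintype.card_fin, pow_succ'])
    refine ⟨(wgroup p Q).map e.permCongrHom.toMonoidHom, (wgroup_isPGroup p Q hQ).map _, fun _ h => ?_⟩
    rw [Nat.add_sub_cancel] at h
    have h' : derivedSeries (wgroup p Q) k = ⊥ :=
      derived_of_injective (((wgroup p Q).equivMapOfInjective e.permCongrHom.toMonoidHom e.permCongrHom.injective).toMonoidHom)
        (((wgroup p Q).equivMapOfInjective e.permCongrHom.toMonoidHom e.permCongrHom.injective).injective) h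
    rcases Nat.eq_zero_or_pos k with rfl | hk
    · rw [derivedSeries_zero] at h'
      have : (⟨wshift p, Subgroup.mem_sup_right (Subgroup.mem_zpowers _)⟩ : wgroup p Q) ∈ (⊤ : Subgroup _) := trivial
      rw [h', Subgroup.mem_bot] at this
      have h2 := Equiv.ext_iff.1 (congrArg Subtype.val this) ((0 : ZMod p), (⟨0, by simp⟩ : Fin (p ^ 0)))
      change ((0 : ZMod p) + 1, _) = ((0 : ZMod p), _) at h2
      exact one_ne_zero (α := ZMod p) (by simpa using congrArg Prod.fst h2)
    · refine hd hk (eq_bot_iff.2 fun q hq => ?_)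
      obtain ⟨v, hv, y, hy, hyv⟩ := exists_proj p Q (k - 1) q hq
      rw [Nat.sub_add_cancel hk, h', Subgroup.mem_bot] at hy
      rw [hy] at hyv
      rw [Subgroup.mem_bot]
      refine Subtype.ext (Equiv.ext fun a => ?_)
      have h2 := Equiv.ext_iff.1 hyv.symm ((0 : ZMod p), a)
      rw [← hv]
      exact congrArg Prod.snd h2

/-- Let p be a prime, n ≥ 1, and P a Sylow p-subgroup of the symmetric group on n letters. Then the derived length of P is exactly k = ⌊log_p n⌋ (the largest k with p^k ≤ n): the k-th derived subgroup of P is trivial and, when k ≥ 1, the (k−1)-st is not. -/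
theorem result (p : ℕ) [Fact p.Prime] (n : ℕ) (hn : 1 ≤ n) (P : Sylow p (Equiv.Perm (Fin n))) : derivedSeries ↥(P : Subgroup (Equiv.Perm (Fin n))) (Nat.log p n) = ⊥ ∧ (1 ≤ Nat.log p n → derivedSeries ↥(P : Subgroup (Equiv.Perm (Fin n))) (Nat.log p n - 1) ≠ ⊥) := by
  classical
  obtain ⟨S, -, hS, hc, hd⟩ := exists_upper p n
  constructor
  · obtain ⟨g, hg⟩ := MulAction.exists_smul_eq (Equiv.Perm (Fin n)) (Sylow.ofCard S (by
      rw [hc, Nat.card_perm, Nat.card_fin])) P
    subst hg
    exact derived_map (MulAut.conj g).toMonoidHom hd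
  · intro hk h
    obtain ⟨Q, hQ, hQd⟩ := exists_lower p (Nat.log p n)
    have hle : p ^ Nat.log p n ≤ n := Nat.pow_log_le_self p (by omega)
    let ι : Equiv.Perm (Fin (p ^ Nat.log p n)) →* Equiv.Perm (Fin n) :=
      Equiv.Perm.viaEmbeddingHom (Fin.castLEEmb hle)
    have hι : Function.Injective ι := Equiv.Perm.viaEmbeddingHom_injective _
    obtain ⟨R, hR⟩ := (hQ.map ι).exists_le_sylow
    obtain ⟨g, hg⟩ := MulAction.exists_smul_eq (Equiv.Perm (Fin n)) R P
    subst hg
    let F : Q →* ↥((g • R : Sylow p _) : Subgroup (Equiv.Perm (Fin n))) :=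
      ((MulAut.conj g).toMonoidHom.comp (ι.comp Q.subtype)).codRestrict _
        fun q => ⟨ι q, hR (Subgroup.mem_map_of_mem ι q.2), rfl⟩
    refine hQd hk (derived_of_injective F (fun a b hab => ?_) h)
    exact Subtype.ext (hι ((MulAut.conj g).injective (congrArg Subtype.val hab)))

end Cfsg.Agent.S4014
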