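import Cfsg.Statements.S4018
import Cfsg.Agent.BSW.Main
import Cfsg.Agent.BSW.Four

set_option autoImplicit false
set_option linter.style.haveILetI false
open Cfsg

namespace Cfsg.Agent.S4018

open CfsgLib.BSW

private theorem orderOf_conj_eq {G : Type*} [Group G] (y z : G) : orderOf (y * z * y⁻¹) = orderOf z :=
  orderOf_injective (MulAut.conj y).toMonoidHom (MulAut.conj y).injective z

/-- In a simple group of order divisible by three with Sylow `2`-subgroup of order four, the involutions form one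
class. -/
private theorem invol_isConj {G : Type*} [Group G] [Finite G] [IsSimpleGroup G] (h3 : 3 ∣ Nat.card G)
    (S : Sylow 2 G) (hS : Nat.card S = 4) {z : G} (hz : orderOf z = 2) (hzS : z ∈ (S : Subgroup G)) :
    (∀ x y : G, orderOf x = 2 → orderOf y = 2 → IsConj x y) ∧
      ∃ x ∈ (S : Subgroup G), x ≠ z ∧ orderOf x = 2 ∧ ∃ g : G, g * z * g⁻¹ = x := by
  haveI : Fact (Nat.Prime 2) := ⟨Nat.prime_two⟩
  set N := Subgroup.normalizer ((S : Subgroup G) : Set G) with hN
  have hab : ∀ a ∈ (S : Subgroup G), ∀ b ∈ (S : Subgroup G), a * b = b * a := by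
    intro a ha b hb
    have h := (IsPGroup.isMulCommutative_of_card_eq_prime_sq (G := (S : Subgroup G)) (p := 2) (by rw [hS]; norm_num))
    exact congrArg Subtype.val (h.is_comm.comm ⟨a, ha⟩ ⟨b, hb⟩)
  -- the four elements
  have hz1 : z ≠ 1 := fun h => by rw [h, orderOf_one] at hz; omega
  have hz2 : z * z = 1 := by rw [← pow_two, ← hz, pow_orderOf_eq_one]
  haveI : ((Subgroup.centralizer ((S : Subgroup G) : Set G)).subgroupOf N).Normal := by
    rw [hN, ← Subgroup.normalizerMonoidHom_ker]; exact MonoidHom.normal_ker _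
  set C' := (Subgroup.centralizer ((S : Subgroup G) : Set G)).subgroupOf N with hC'
  have hodd : Odd C'.index := by
    have hdvd : Nat.card (S : Subgroup G) ∣ Nat.card C' := by
      rw [Nat.card_congr (C'.equivMapOfInjective N.subtype N.subtype_injective).toEquiv]
      refine Subgroup.card_dvd_of_le fun c hc => ?_
      exact ⟨⟨c, Subgroup.le_normalizer hc⟩, Subgroup.mem_centralizer_iff.2 fun d hd => hab d hd c hc, rfl⟩
    refine Nat.odd_iff.2 (Nat.two_dvd_ne_zero.1 fun h2 => ?_)
    have h8 : 2 ^ 3 ∣ Nat.card G := by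
      refine (?_ : 2 ^ 3 ∣ Nat.card N).trans (Subgroup.card_subgroup_dvd_card N)
      rw [← Subgroup.card_mul_index C', pow_succ]
      refine Nat.mul_dvd_mul ?_ h2
      simpa [hS] using hdvd
    obtain ⟨K, hK⟩ := Sylow.exists_subgroup_card_pow_prime 2 h8
    obtain ⟨T, hT⟩ := (IsPGroup.of_card hK).exists_le_sylow
    have hTS : Nat.card T = Nat.card S := by rw [Sylow.card_eq_multiplicity, Sylow.card_eq_multiplicity]
    have h := Subgroup.card_le_of_le hT
    rw [hK, hTS, hS] at h
    norm_num at h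
  -- no element of the normalizer swaps two elements
  have noswap : ∀ y ∈ N, ∀ a ∈ (S : Subgroup G), y * (y * a * y⁻¹) * y⁻¹ = a → y * a * y⁻¹ = a := by
    intro y hy a ha hsq
    obtain ⟨m, hm⟩ := hodd
    have hm' : y ^ (2 * m + 1) ∈ Subgroup.centralizer ((S : Subgroup G) : Set G) := by
      have h := Subgroup.pow_index_mem C' (⟨y, hy⟩ : N)
      rw [hm] at h
      exact h
    have heven : ∀ k : ℕ, y ^ (2 * k) * a * (y ^ (2 * k))⁻¹ = a := by
      intro k
      induction k with
      | zero => simp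
      | succ k ih =>
        calc y ^ (2 * (k + 1)) * a * (y ^ (2 * (k + 1)))⁻¹
            = y * (y * (y ^ (2 * k) * a * (y ^ (2 * k))⁻¹) * y⁻¹) * y⁻¹ := by
              rw [Nat.mul_succ, add_comm, pow_add, pow_two]; group
          _ = a := by rw [ih, hsq]
    calc y * a * y⁻¹ = y * (y ^ (2 * m) * a * (y ^ (2 * m))⁻¹) * y⁻¹ := by rw [heven]
      _ = y ^ (2 * m + 1) * a * (y ^ (2 * m + 1))⁻¹ := by rw [pow_succ']; group
      _ = a := by rw [← Subgroup.mem_centralizer_iff.1 hm' a ha, mul_inv_cancel_right]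
  have hmove : ∃ y ∈ N, y * z * y⁻¹ ≠ z := by
    by_contra hcon
    push Not at hcon
    have hcent : N ≤ Subgroup.centralizer ((S : Subgroup G) : Set G) := by
      intro y hy
      refine Subgroup.mem_centralizer_iff.2 fun a ha => ?_
      suffices h : y * a * y⁻¹ = a from (mul_inv_eq_iff_eq_mul.1 h).symm
      rcases eq_or_ne a 1 with rfl | ha1
      · simp
      rcases eq_or_ne a z with rfl | haz
      · exact hcon y hy
      have hbS : y * a * y⁻¹ ∈ (S : Subgroup G) := (Subgroup.mem_normalizer_iff.1 hy a).1 ha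
      rcases four_elements hS hzS ha hz1 ha1 haz.symm hz2 hbS with h | h | h | h
      · exact absurd (conj_eq_one_iff.1 h) ha1
      · exact absurd (mul_left_cancel (mul_right_cancel (h.trans (hcon y hy).symm))) haz
      · exact h
      · refine noswap y hy a ha ?_
        rw [h, show y * (z * a) * y⁻¹ = (y * z * y⁻¹) * (y * a * y⁻¹) by group, hcon y hy, h, ← mul_assoc, hz2,
          one_mul]
    have hcard := (MonoidHom.ker_transferSylow_isComplement' S hcent).card_mul_card
    rcases (MonoidHom.normal_ker (MonoidHom.transferSylow S hcent)).eq_bot_or_eq_top with h | h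
    · rw [h, Subgroup.card_bot, one_mul, hS] at hcard
      omega
    · rw [h, Subgroup.card_top] at hcard
      have := Nat.card_pos (α := G)
      rw [hS] at hcard
      omega
  obtain ⟨y, hy, hyz⟩ := hmove
  set x := y * z * y⁻¹ with hx
  have hyS : ∀ b ∈ (S : Subgroup G), y * b * y⁻¹ ∈ (S : Subgroup G) := fun b hb =>
    (Subgroup.mem_normalizer_iff.1 hy b).1 hb
  have hxS : x ∈ (S : Subgroup G) := hyS z hzS
  have hxo : orderOf x = 2 := (orderOf_conj_eq y z).trans hz
  refine ⟨?_, x, hxS, hyz, hxo, y, rfl⟩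
  have hx1 : x ≠ 1 := fun h => by rw [h, orderOf_one] at hxo; omega
  have hx2 : x * x = 1 := by rw [← pow_two, ← hxo, pow_orderOf_eq_one]
  have hfour : ∀ c ∈ (S : Subgroup G), c = 1 ∨ c = x ∨ c = z ∨ c = x * z :=
    fun c hc => four_elements hS hxS hzS hx1 hz1 hyz hx2 hc
  have hyx : y * x * y⁻¹ = x * z := by
    rcases hfour _ (hyS x hxS) with h | h | h | h
    · exact absurd (conj_eq_one_iff.1 h) hx1
    · exact absurd (mul_left_cancel (mul_right_cancel (h.trans hx))) hyz
    · exact absurd (noswap y hy z hzS h) hyz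
    · exact h
  intro u v hu hv
  have key : ∀ w : G, orderOf w = 2 → IsConj z w := by
    intro w hw
    have hwp : IsPGroup 2 (Subgroup.zpowers w) :=
      IsPGroup.of_card (n := 1) (by rw [Nat.card_zpowers, hw, pow_one])
    obtain ⟨T, hT⟩ := hwp.exists_le_sylow
    obtain ⟨g, rfl⟩ := MulAction.exists_smul_eq G S T
    obtain ⟨c, hc, hcw⟩ := hT (Subgroup.mem_zpowers w)
    refine IsConj.trans ?_ (isConj_iff.2 ⟨g, hcw⟩)
    rcases hfour c hc with h | h | h | h
    · refine absurd hw ?_
      rw [← hcw, h]; simp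
    · rw [h]; exact isConj_iff.2 ⟨y, hx.symm⟩
    · rw [h]
    · rw [h, ← hyx]; exact isConj_iff.2 ⟨y * y, by rw [hx]; group⟩
  exact (key u hu).symm.trans (key v hv)


/-- Let G be a finite group with an abelian Sylow 3-subgroup P such that the normalizer of P has order 4·#P, the centralizer C of P has order 2·#P, C meets each of its conjugates by elements outside its normalizer trivially, and every proper subgroup of G of even order has order dividing 4·#P. Then G is not simple. -/
theorem result {G : Type*} [Group G] [Finite G]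
    (P : Sylow 3 G) (hab : IsMulCommutative P)
    (hN : Nat.card (Subgroup.normalizer ((P : Subgroup G) : Set G)) = 4 * Nat.card P)
    (hC : Nat.card (Subgroup.centralizer (P : Set G)) = 2 * Nat.card P)
    (hTI : Cfsg.IsTISubset (Subgroup.centralizer (P : Set G) : Set G))
    (heven : ∀ H : Subgroup G, H ≠ ⊤ → 2 ∣ Nat.card H → Nat.card H ∣ 4 * Nat.card P) :
    ¬ IsSimpleGroup G := by
  intro hG
  haveI : Fact (Nat.Prime 2) := ⟨Nat.prime_two⟩
  haveI : Fact (Nat.Prime 3) := ⟨Nat.prime_three⟩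
  set a := Nat.card P with ha
  set C := Subgroup.centralizer (P : Set G) with hCdef
  set NP := Subgroup.normalizer ((P : Subgroup G) : Set G) with hNP
  have hcomm : ∀ x ∈ (P : Subgroup G), ∀ y ∈ (P : Subgroup G), x * y = y * x := fun x hx y hy =>
    congrArg Subtype.val (hab.is_comm.comm ⟨x, hx⟩ ⟨y, hy⟩)
  obtain ⟨n, hn⟩ := IsPGroup.iff_card.1 P.isPGroup'
  have hapos : 0 < a := Nat.card_pos
  have hncl : ∀ H : Subgroup G, H.Normal → H = ⊥ ∨ H = ⊤ := fun H h => h.eq_bot_or_eq_top
  have h3a : 3 ∣ a := by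
    rcases Nat.eq_zero_or_pos n with rfl | h
    · have hbot : (P : Subgroup G) = ⊥ := Subgroup.card_eq_one.1 (by simpa using hn)
      have hN1 : NP = ⊤ := Subgroup.normalizer_eq_top_iff.2 (hbot ▸ inferInstance)
      have hC1 : C = ⊤ := top_le_iff.1 fun g _ => Subgroup.mem_centralizer_iff.2 fun x hx => by
        have : x ∈ (P : Subgroup G) := hx
        rw [hbot, Subgroup.mem_bot] at this
        rw [this, one_mul, mul_one]
      rw [hN1] at hN; rw [hC1] at hC
      omega
    · have h' := dvd_pow_self 3 h.ne'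
      rwa [← hn] at h'
  have ha3 : 3 ≤ a := Nat.le_of_dvd hapos h3a
  have haodd : ¬ 2 ∣ a := fun h => by
    have := Nat.prime_two.dvd_of_dvd_pow (hn ▸ h : 2 ∣ 3 ^ n)
    omega
  have h3G : 3 ∣ Nat.card G := h3a.trans (Subgroup.card_subgroup_dvd_card _)
  have h4G : 4 ∣ Nat.card G := (dvd_mul_right 4 a).trans (hN ▸ Subgroup.card_subgroup_dvd_card NP)
  have hnonab : ∃ x y : G, x * y ≠ y * x := by
    by_contra hcon
    push Not at hcon
    haveI : (P : Subgroup G).Normal := ⟨fun x hx g => by rwa [hcon g x, mul_inv_cancel_right]⟩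
    rcases hncl (P : Subgroup G) inferInstance with h | h
    · have h1 : a = 1 := by rw [ha, h, Subgroup.card_bot]
      omega
    · have h1 : Nat.card NP ≤ a := by rw [ha, h]; exact Subgroup.card_le_of_le le_top
      omega
  -- the Sylow 2-subgroups have order four
  have hS4 : ∀ S : Sylow 2 G, Nat.card S = 4 := by
    intro S
    obtain ⟨k, hk⟩ := IsPGroup.iff_card.1 S.isPGroup'
    obtain ⟨K, hK⟩ := Sylow.exists_subgroup_card_pow_prime 2 (n := 2) h4G
    obtain ⟨T, hT⟩ := (IsPGroup.of_card hK).exists_le_sylow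
    have hTS : Nat.card T = Nat.card S := by rw [Sylow.card_eq_multiplicity, Sylow.card_eq_multiplicity]
    have h := Subgroup.card_le_of_le hT
    rw [hK, hTS, hk] at h
    have hk2 : 2 ≤ k := (Nat.pow_le_pow_iff_right (by omega)).1 h
    have hne : (S : Subgroup G) ≠ ⊤ := fun e => by
      rw [e, Subgroup.card_top] at hk
      have := Nat.prime_three.dvd_of_dvd_pow (hk ▸ h3G)
      omega
    have hd := heven (S : Subgroup G) hne (hk ▸ dvd_pow_self 2 (by omega))
    rw [hk] at hd ⊢
    have hcop : Nat.Coprime (2 ^ k) a := Nat.Coprime.pow_left _ ((Nat.prime_two.coprime_iff_not_dvd).2 haodd)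
    have := Nat.le_of_dvd (by omega) (hcop.dvd_of_dvd_mul_right hd)
    have h22 : 2 ^ k ≤ 2 ^ 2 := by simpa using this
    rw [show k = 2 from le_antisymm ((Nat.pow_le_pow_iff_right (by omega)).1 h22) hk2]
    rfl
  -- the involution of `C`
  obtain ⟨z', hz'⟩ := exists_prime_orderOf_dvd_card' (G := C) 2 (by rw [hC]; exact dvd_mul_right 2 a)
  set z : G := (z' : G) with hzdef
  have hzC : z ∈ C := SetLike.coe_mem z'
  have hz : orderOf z = 2 := by rw [hzdef, Subgroup.orderOf_coe, hz']
  have hzp : IsPGroup 2 (Subgroup.zpowers z) := IsPGroup.of_card (n := 1) (by rw [Nat.card_zpowers, hz, pow_one])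
  have hPC : (P : Subgroup G) ≤ C := fun x hx => Subgroup.mem_centralizer_iff.2 fun y hy => hcomm y hy x hx
  have hCNP : C ≤ NP := by
    intro x hx
    refine Subgroup.mem_normalizer_iff.2 fun y => ?_
    have key : ∀ x ∈ C, ∀ y ∈ (P : Subgroup G), x * y * x⁻¹ = y := fun x hx y hy => by
      rw [← Subgroup.mem_centralizer_iff.1 hx y hy, mul_inv_cancel_right]
    refine ⟨fun hy => by rw [key x hx y hy]; exact hy, fun hy => ?_⟩
    have h1 := key x⁻¹ (inv_mem hx) _ hy
    rw [show x⁻¹ * (x * y * x⁻¹) * x⁻¹⁻¹ = y by group] at h1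
    exact h1 ▸ hy
  have hCsup : C = (P : Subgroup G) ⊔ Subgroup.zpowers z := by
    refine (Subgroup.eq_of_le_of_card_ge (sup_le hPC (Subgroup.zpowers_le.2 hzC)) ?_).symm
    rw [hC]
    refine Nat.le_of_dvd Nat.card_pos (Nat.Coprime.mul_dvd_of_dvd_of_dvd ?_ ?_ ?_)
    · exact (Nat.prime_two.coprime_iff_not_dvd).2 haodd
    · have := Subgroup.card_dvd_of_le (le_sup_right : Subgroup.zpowers z ≤ (P : Subgroup G) ⊔ Subgroup.zpowers z)
      rwa [Nat.card_zpowers, hz] at this
    · exact Subgroup.card_dvd_of_le le_sup_left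
  have hCab : ∀ x ∈ C, ∀ y ∈ C, x * y = y * x := by
    intro x hx y hy
    have hcl : C ≤ Subgroup.centralizer (C : Set G) := by
      conv_lhs => rw [hCsup]
      refine sup_le ?_ (Subgroup.zpowers_le.2 ?_)
      · intro p hp
        refine Subgroup.mem_centralizer_iff.2 fun w hw => ?_
        exact (Subgroup.mem_centralizer_iff.1 (SetLike.mem_coe.1 hw) p hp).symm
      · refine Subgroup.mem_centralizer_iff.2 fun w hw => ?_
        have hw' : w ∈ (P : Subgroup G) ⊔ Subgroup.zpowers z := hCsup ▸ SetLike.mem_coe.1 hw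
        have : (P : Subgroup G) ⊔ Subgroup.zpowers z ≤ cz z :=
          sup_le (fun p hp => mem_cz.2 (Subgroup.mem_centralizer_iff.1 hzC p hp)) (Subgroup.zpowers_le.2 (mem_cz.2 rfl))
        exact mem_cz.1 (this hw')
    exact Subgroup.mem_centralizer_iff.1 (hcl hy) x hx
  have hCz : C ≤ cz z := fun x hx => mem_cz.2 (hCab x hx z hzC)
  obtain ⟨S, hS⟩ := hzp.exists_le_sylow
  have hzS : z ∈ (S : Subgroup G) := hS (Subgroup.mem_zpowers z)
  obtain ⟨hconj, t, htS, htz, ht, y, hyzt⟩ := invol_isConj h3G S (hS4 S) hz hzS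
  have hsS : ∀ u ∈ (S : Subgroup G), ∀ v ∈ (S : Subgroup G), u * v = v * u := by
    intro u hu v hv
    have h := IsPGroup.isMulCommutative_of_card_eq_prime_sq (G := (S : Subgroup G)) (p := 2) (by rw [hS4]; norm_num)
    exact congrArg Subtype.val (h.is_comm.comm ⟨u, hu⟩ ⟨v, hv⟩)
  -- the centralizer of `z`
  have hczne : cz z ≠ ⊤ := by
    intro h
    have hzc : z ∈ Subgroup.center G := Subgroup.mem_center_iff.2 fun g => mem_cz.1 (h ▸ Subgroup.mem_top g)
    rcases hncl (Subgroup.center G) inferInstance with hb | ht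
    · rw [hb, Subgroup.mem_bot] at hzc
      rw [hzc, orderOf_one] at hz; omega
    · obtain ⟨u, v, huv⟩ := hnonab
      exact huv (Subgroup.mem_center_iff.1 (ht ▸ Subgroup.mem_top v) u)
  have h2cz : 2 ∣ Nat.card (cz z) := (hC ▸ dvd_mul_right 2 a : 2 ∣ Nat.card C).trans (Subgroup.card_dvd_of_le hCz)
  have hczcard : Nat.card (cz z) = 4 * a := by
    refine Nat.dvd_antisymm (heven _ hczne h2cz) (Nat.Coprime.mul_dvd_of_dvd_of_dvd ?_ ?_ ?_)
    · exact Nat.Coprime.pow_left 2 ((Nat.prime_two.coprime_iff_not_dvd).2 haodd)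
    · have h := Subgroup.card_dvd_of_le (fun u hu => mem_cz.2 (hsS u hu z hzS) : (S : Subgroup G) ≤ cz z)
      rwa [hS4] at h
    · exact (Subgroup.card_dvd_of_le (hPC.trans hCz))
  have hPuniq : ∀ Q : Subgroup G, Q ≤ C → IsPGroup 3 Q → Q ≤ (P : Subgroup G) := by
    intro Q hQC hQ
    have hn : Q ≤ NP := hQC.trans hCNP
    have hsup := hQ.to_sup_of_normal_right' P.isPGroup' hn
    exact le_sup_left.trans (P.is_maximal' hsup le_sup_right).le
  have hNP' : cz z = NP := by
    refine Subgroup.eq_of_le_of_card_ge ?_ (by rw [hczcard, hN])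
    intro g hg
    have hCn : (C.subgroupOf (cz z)).Normal := Subgroup.normal_of_index_eq_two (by
      have h := Subgroup.relIndex_mul_index hCz
      have h1 := Subgroup.card_mul_index (C.subgroupOf (cz z))
      rw [Nat.card_congr (Subgroup.subgroupOfEquivOfLe hCz).toEquiv, hczcard, hC] at h1
      refine Nat.eq_of_mul_eq_mul_left (show 0 < 2 * a by omega) ?_
      rw [h1]; ring)
    have hcc : ∀ g ∈ cz z, ∀ w ∈ C, g * w * g⁻¹ ∈ C := fun g hg w hw =>
      hCn.conj_mem ⟨w, hCz hw⟩ hw ⟨g, hg⟩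
    have hmap : ∀ g ∈ cz z, ∀ w ∈ (P : Subgroup G), g * w * g⁻¹ ∈ (P : Subgroup G) := by
      intro g hg w hw
      refine hPuniq ((P : Subgroup G).map (MulAut.conj g).toMonoidHom) ?_ (P.isPGroup'.map _) ⟨w, hw, rfl⟩
      rintro _ ⟨v, hv, rfl⟩
      exact hcc g hg v (hPC hv)
    refine Subgroup.mem_normalizer_iff.2 fun w => ⟨hmap g hg w, fun hw => ?_⟩
    have := hmap g⁻¹ (inv_mem hg) _ hw
    rwa [show g⁻¹ * (g * w * g⁻¹) * g⁻¹⁻¹ = w by group] at this
  -- the involution `t` inverts `C`
  have htcz : t ∈ cz z := mem_cz.2 (hsS t htS z hzS)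
  have ht2 : t * t = 1 := by rw [← pow_two, ← ht, pow_orderOf_eq_one]
  have hz2 : z * z = 1 := by rw [← pow_two, ← hz, pow_orderOf_eq_one]
  have htne : t ≠ 1 := fun h => by rw [h, orderOf_one] at ht; omega
  have hzne : z ≠ 1 := fun h => by rw [h, orderOf_one] at hz; omega
  have htC : t ∉ C := by
    intro htC
    have hle : (S : Subgroup G) ≤ C := fun c hc => by
      rcases four_elements (hS4 S) htS hzS htne hzne htz ht2 hc with h | h | h | h <;> rw [h]
      exacts [one_mem C, htC, hzC, mul_mem htC hzC]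
    have := Subgroup.card_dvd_of_le hle
    rw [hS4, hC] at this
    exact haodd (Nat.dvd_of_mul_dvd_mul_left (k := 2) (by omega) this)
  have hfix : ∀ p ∈ (P : Subgroup G), t * p = p * t → p = 1 := by
    intro p hp htp
    have hcy : y⁻¹ * p * y ∈ cz z := by
      have h : y * (y⁻¹ * p * y) * y⁻¹ ∈ cz (y * z * y⁻¹) := by
        rw [hyzt, show y * (y⁻¹ * p * y) * y⁻¹ = p by group]
        exact mem_cz.2 htp.symm
      exact (cz_conj y).1 h
    have hin : y⁻¹ * p * y ∈ C := by
      refine hPC ?_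
      have h3 : IsPGroup 3 (Subgroup.zpowers (y⁻¹ * p * y)) := by
        have h := (P.isPGroup'.to_le (Subgroup.zpowers_le.2 hp)).map (MulAut.conj y⁻¹).toMonoidHom
        rwa [MonoidHom.map_zpowers, show (MulAut.conj y⁻¹).toMonoidHom p = y⁻¹ * p * y by simp] at h
      have hn : Subgroup.zpowers (y⁻¹ * p * y) ≤ NP := Subgroup.zpowers_le.2 (hNP' ▸ hcy)
      exact le_sup_left.trans (P.is_maximal' (h3.to_sup_of_normal_right' P.isPGroup' hn) le_sup_right).le
        (Subgroup.mem_zpowers _)
    by_contra hp1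
    by_cases hyN : y ∈ Subgroup.normalizer (C : Set G)
    · exact htC (hyzt ▸ (Subgroup.mem_normalizer_iff.1 hyN z).1 hzC)
    · have h := hTI y hyN (y⁻¹ * p * y) hin (by rw [show y * (y⁻¹ * p * y) * y⁻¹ = p by group]; exact hPC hp)
      exact hp1 (by simpa using conj_eq_one_iff.1 (show y⁻¹ * p * y⁻¹⁻¹ = 1 by rwa [inv_inv]))
  have htP : ∀ p ∈ (P : Subgroup G), t * p * t⁻¹ = p⁻¹ := by
    intro p hp
    have hq : t * p * t⁻¹ ∈ (P : Subgroup G) := (Subgroup.mem_normalizer_iff.1 (show t ∈ NP from hNP'.le htcz) p).1 hp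
    refine eq_inv_of_mul_eq_one_left (hfix _ (mul_mem hq hp) ?_)
    have hti : t⁻¹ = t := inv_eq_of_mul_eq_one_right ht2
    have e : t * (t * p * t⁻¹ * p) = p * (t * p * t⁻¹) * t := by
      rw [hti]
      calc t * (t * p * t * p) = t * t * (p * (t * p)) := by simp only [mul_assoc]
        _ = p * (t * p) * (t * t) := by rw [ht2, one_mul, mul_one]
        _ = _ := by simp only [mul_assoc]
    rw [e, hcomm _ hp _ hq]
  have htzc : t * z * t⁻¹ = z := by rw [mem_cz.1 htcz, mul_inv_cancel_right]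
  have hinv : ∀ x ∈ C, t * x * t⁻¹ = x⁻¹ := by
    intro x hx
    obtain ⟨p, hp, w, hw, rfl⟩ : ∃ p ∈ (P : Subgroup G), ∃ w ∈ Subgroup.zpowers z, p * w = x := by
      have hn : Subgroup.zpowers z ≤ Subgroup.normalizer ((P : Subgroup G) : Set G) :=
        (Subgroup.zpowers_le.2 hzC).trans hCNP
      rw [hCsup, ← SetLike.mem_coe, Subgroup.coe_mul_of_right_le_normalizer_left _ _ hn] at hx
      obtain ⟨p, hp, w, hw, e⟩ := hx
      exact ⟨p, hp, w, hw, e⟩
    obtain ⟨j, rfl⟩ := Subgroup.mem_zpowers_iff.1 hw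
    have hzi : z⁻¹ = z := inv_eq_of_mul_eq_one_right hz2
    calc t * (p * z ^ j) * t⁻¹ = (t * p * t⁻¹) * (t * z * t⁻¹) ^ j := by rw [conj_zpow]; group
      _ = p⁻¹ * z ^ j := by rw [htP p hp, htzc]
      _ = (p * z ^ j)⁻¹ := by
        rw [mul_inv_rev, ← inv_zpow, hzi]
        exact hCab _ (inv_mem (hPC hp)) _ (zpow_mem hzC j)
  have hsq : ∀ x ∈ C, x * x = 1 → x = 1 ∨ x = z := by
    intro x hx hx2
    by_contra hcon
    push Not at hcon
    have hxo : orderOf x = 2 := orderOf_eq_prime (by rw [pow_two, hx2]) hcon.1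
    have hcl : Subgroup.zpowers z ≤ Subgroup.normalizer (Subgroup.zpowers x : Set G) := by
      refine Subgroup.zpowers_le.2 ((Subgroup.centralizer_le_normalizer (s := (Subgroup.zpowers x : Set G))) ?_)
      refine Subgroup.mem_centralizer_iff.2 fun w hw => hCab w (Subgroup.zpowers_le.2 hx hw) z hzC
    have hxp : IsPGroup 2 (Subgroup.zpowers x) := IsPGroup.of_card (n := 1) (by rw [Nat.card_zpowers, hxo, pow_one])
    obtain ⟨k, hk⟩ := IsPGroup.iff_card.1 (hzp.to_sup_of_normal_right' hxp hcl)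
    have hd : Nat.card ↥(Subgroup.zpowers z ⊔ Subgroup.zpowers x) ∣ 2 * a :=
      hC ▸ Subgroup.card_dvd_of_le (sup_le (Subgroup.zpowers_le.2 hzC) (Subgroup.zpowers_le.2 hx))
    rw [hk] at hd
    have hk1 := (Nat.Coprime.pow_left k ((Nat.prime_two.coprime_iff_not_dvd).2 haodd)).dvd_of_dvd_mul_right hd
    have hle : Nat.card ↥(Subgroup.zpowers z ⊔ Subgroup.zpowers x) ≤ Nat.card (Subgroup.zpowers z) := by
      rw [hk, Nat.card_zpowers, hz]; exact Nat.le_of_dvd (by omega) hk1
    have heq := Subgroup.eq_of_le_of_card_ge le_sup_left hle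
    have hxz : x ∈ Subgroup.zpowers z := heq ▸ (le_sup_right : Subgroup.zpowers x ≤ _) (Subgroup.mem_zpowers x)
    obtain ⟨j, hj⟩ := Subgroup.mem_zpowers_iff.1 hxz
    rcases Int.even_or_odd' j with ⟨i, rfl | rfl⟩
    · exact hcon.1 (by rw [← hj, zpow_mul, zpow_two, hz2, one_zpow])
    · exact hcon.2 (by rw [← hj, zpow_add, zpow_mul, zpow_two, hz2, one_zpow, one_mul, zpow_one])
  have D : CfsgLib.BSW.Hyp z t C := by
    refine ⟨hz, hCab, hCz, hzC, ht, htcz, htC, ?_, ?_, hinv, ?_, hconj⟩
    · refine Subgroup.eq_of_le_of_card_ge (sup_le hCz (Subgroup.zpowers_le.2 htcz)) ?_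
      rw [hczcard]
      have hd1 : 2 * a ∣ Nat.card ↥(C ⊔ Subgroup.zpowers t) := hC ▸ Subgroup.card_dvd_of_le le_sup_left
      have hd2 := Subgroup.card_dvd_of_le (sup_le hCz (Subgroup.zpowers_le.2 htcz))
      rw [hczcard] at hd2
      obtain ⟨c, hc⟩ := hd1
      rw [hc, show 4 * a = 2 * a * 2 by ring] at hd2
      have hc2 := Nat.dvd_of_mul_dvd_mul_left (by omega) hd2
      rcases (Nat.dvd_prime Nat.prime_two).1 hc2 with rfl | rfl
      · exfalso
        refine htC ?_
        have he := Subgroup.eq_of_le_of_card_ge (H := C) (K := C ⊔ Subgroup.zpowers t) le_sup_left (by rw [hc, hC]; omega)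
        rw [he]
        exact (le_sup_right : Subgroup.zpowers t ≤ _) (Subgroup.mem_zpowers t)
      · rw [hc]; omega
    · refine le_antisymm (fun x hx => ?_) (Subgroup.zpowers_le.2 ⟨hzC, mem_cz.2 (mem_cz.1 htcz).symm⟩)
      have h1 : t * x * t⁻¹ = x := by rw [← mem_cz.1 hx.2, mul_inv_cancel_right]
      have h2 : x * x = 1 := by nth_rw 1 [← h1]; rw [hinv x hx.1, inv_mul_cancel]
      rcases hsq x hx.1 h2 with rfl | rfl
      exacts [one_mem _, Subgroup.mem_zpowers _]
    · intro g hg
      refine (Subgroup.eq_bot_iff_forall _).2 fun x hx => ?_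
      obtain ⟨hxC, w, hw, rfl⟩ := hx
      change g * w * g⁻¹ ∈ C at hxC
      by_cases hgN : g ∈ Subgroup.normalizer (C : Set G)
      · exfalso
        have hz' := (Subgroup.mem_normalizer_iff.1 hgN z).1 hzC
        rcases hsq _ hz' (by rw [show g * z * g⁻¹ * (g * z * g⁻¹) = g * (z * z) * g⁻¹ by group, hz2]; group) with h | h
        · exact hzne (conj_eq_one_iff.1 h)
        · exact hg (mem_cz.2 (mul_inv_eq_iff_eq_mul.1 h))
      · have h1 := hTI g hgN w hw hxC
        subst h1
        exact map_one _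
  have hk : Nat.card C = 2 * a := hC
  -- the order of `G`
  have hlow : 4 * a * ((4 * a - 1) * (2 * a - 1)) ≤ Nat.card G := by
    rcases D.order_cases with h | h <;> rw [h, hk, show 2 * (2 * a) = 4 * a by ring]
    exact Nat.mul_le_mul_left _ (Nat.mul_le_mul (by omega) (by omega))
  obtain ⟨Q, E, hord, -, hEab, hqE, -, hNQ, hX⟩ := D.structured
  set q := Nat.card Q with hq
  set d := Nat.card E with hd
  have hnotN : ∀ H : Subgroup G, H.Normal → H ≠ ⊥ → IsMulCommutative H → False := by
    intro H h hne hHab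
    have htop := (hncl H h).resolve_left hne
    obtain ⟨u, v, huv⟩ := hnonab
    exact huv (congrArg Subtype.val (hHab.is_comm.comm ⟨u, htop ▸ Subgroup.mem_top u⟩ ⟨v, htop ▸ Subgroup.mem_top v⟩))
  have hdbound : d = 1 ∨ d ∣ 4 * a := by
    rcases eq_or_ne E ⊥ with hE | hE
    · exact Or.inl (by rw [hd, hE, Subgroup.card_bot])
    · obtain ⟨-, u, hu, -, -, hNE⟩ := hX E le_rfl hE
      refine Or.inr ((Subgroup.card_dvd_of_le (Subgroup.le_normalizer (H := E))).trans (heven _ (fun htop => ?_) ?_))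
      · exact hnotN E (Subgroup.normalizer_eq_top_iff.1 htop) hE hEab
      · have h := Subgroup.card_dvd_of_le (Subgroup.zpowers_le.2 (hNE ▸ (le_sup_right : Subgroup.zpowers u ≤ E ⊔ _)
          (Subgroup.mem_zpowers u) : u ∈ Subgroup.normalizer (E : Set G)))
        rwa [Nat.card_zpowers, hu] at h
  have hqb : q ≤ 2 * a + 1 := by
    rcases Nat.even_or_odd d with hde | hdo
    · -- then the normalizer of `Q` has even order
      obtain ⟨e, he⟩ := hde
      have hqN : q ∣ Nat.card (Subgroup.normalizer (Q : Set G)) :=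
        Subgroup.card_dvd_of_le Subgroup.le_normalizer
      have hEN : E ≤ Subgroup.normalizer (Q : Set G) := hNQ ▸ le_sup_right
      have h2 : 2 ∣ Nat.card (Subgroup.normalizer (Q : Set G)) :=
        (Dvd.intro_left e (by omega) : 2 ∣ d).trans (Subgroup.card_dvd_of_le hEN)
      by_cases htop : Subgroup.normalizer (Q : Set G) = ⊤
      · exfalso
        rcases hncl Q (Subgroup.normalizer_eq_top_iff.1 htop) with h | h
        · rw [hq, h, Subgroup.card_bot] at hqE
          have := Nat.card_pos (α := E)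
          omega
        · have h1 : q = Nat.card G := by rw [hq, h, Subgroup.card_top]
          rw [← h1] at hord hlow
          have h2 : 1 < q := by
            have := Nat.card_pos (α := E)
            omega
          obtain ⟨r, hr⟩ : ∃ r, q = r + 1 := ⟨q - 1, by omega⟩
          rw [hr, Nat.add_sub_cancel] at hord
          have : 2 = (r + 1 + 1) * r := Nat.eq_of_mul_eq_mul_left (show 0 < r + 1 by omega)
            (by linarith)
          have hr2 : 2 ≤ r := by omega
          nlinarith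
      · have hdiv := hqN.trans (heven _ htop h2)
        have hcop : Nat.Coprime q 4 := by
          refine Nat.Coprime.pow_right 2 ((Nat.prime_two.coprime_iff_not_dvd).2 ?_).symm
          omega
        have := Nat.le_of_dvd hapos (hcop.dvd_of_dvd_mul_left hdiv)
        omega
    · have hda : d ≤ a := by
        rcases hdbound with h | h
        · omega
        · exact Nat.le_of_dvd hapos ((Nat.Coprime.pow_right 2 (Nat.coprime_two_right.2 hdo) : Nat.Coprime d 4).dvd_of_dvd_mul_left h)
      omega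
  -- too small
  have hup : 2 * Nat.card G ≤ (2 * a + 1) * (2 * a + 2) * (2 * a) := by
    rw [hord]
    exact Nat.mul_le_mul (Nat.mul_le_mul hqb (by omega)) (by omega)
  obtain ⟨b, hb⟩ : ∃ b, a = b + 3 := ⟨a - 3, by omega⟩
  rw [hb] at hlow hup
  rw [show 4 * (b + 3) - 1 = 4 * b + 11 by omega, show 2 * (b + 3) - 1 = 2 * b + 5 by omega] at hlow
  nlinarith

end Cfsg.Agent.S4018
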