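import Cfsg.Statements.S4027
import Cfsg.Agent.S3861

set_option autoImplicit false
open Cfsg

namespace Cfsg.Agent.S4027

/-- Let G be a finite group in which every element x of odd order satisfies N_G(⟨x⟩) = C_G(x). Then the Sylow 2-subgroups of G are normal. -/
theorem result {G : Type*} [Group G] [Finite G]
    (hirr : ∀ x : G, (∀ r : ℕ, r.Prime → r ∣ orderOf x → r ≠ 2) →
      Subgroup.normalizer ((Subgroup.zpowers x : Subgroup G) : Set G) ≤ Subgroup.centralizer {x}) (P : Sylow 2 G) :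
    (P : Subgroup G).Normal := by
  classical
  refine (Cfsg.Agent.S3861.result P).1 fun x hx1 hxo hreal => ?_
  obtain ⟨g, hg⟩ := isConj_iff.1 hreal
  have hπ : ∀ r : ℕ, r.Prime → r ∣ orderOf x → r ≠ 2 := fun r _ hd e => by
    subst e
    exact (Nat.not_even_iff_odd.2 hxo) (even_iff_two_dvd.2 hd)
  have hgN : g ∈ Subgroup.normalizer ((Subgroup.zpowers x : Subgroup G) : Set G) := by
    rw [Subgroup.mem_normalizer_iff_map_conj_eq]
    change (Subgroup.zpowers x).map (MulAut.conj g).toMonoidHom = _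
    rw [MonoidHom.map_zpowers]
    change Subgroup.zpowers (g * x * g⁻¹) = _
    rw [hg, Subgroup.zpowers_inv]
  have hc := Subgroup.mem_centralizer_singleton_iff.1 (hirr x hπ hgN)
  rw [mul_inv_eq_iff_eq_mul.2 hc] at hg
  have h2 : x ^ 2 = 1 := by rw [pow_two]; exact eq_inv_iff_mul_eq_one.1 hg
  exact hx1 (orderOf_eq_one_iff.1 (Nat.eq_one_of_dvd_coprimes (Nat.coprime_two_right.2 hxo) dvd_rfl (orderOf_dvd_of_pow_eq_one h2)))

end Cfsg.Agent.S4027
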