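import Cfsg.Statements.S4049
import Cfsg.Agent.S3861
import Mathlib

set_option autoImplicit false
open Cfsg

namespace Cfsg.Agent.S4049

/-- Let G be a finite group such that N_G(H)/C_G(H) has odd order for every nontrivial subgroup H of odd order. Then the Sylow 2-subgroups of G are normal. -/
theorem result {G : Type*} [Group G] [Finite G]
    (hhom : ∀ H : Subgroup G, H ≠ ⊥ → ¬ 2 ∣ Nat.card ↥H →
        ¬ 2 ∣ (Subgroup.centralizer (H : Set G)).relIndex (Subgroup.normalizer (H : Set G))) (P : Sylow 2 G) :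
    (P : Subgroup G).Normal := by
  classical
  refine (Cfsg.Agent.S3861.result P).1 fun x hx1 hxo hreal => ?_
  obtain ⟨g, hg⟩ := isConj_iff.1 hreal
  set H := Subgroup.zpowers x with hH
  have hgN : g ∈ Subgroup.normalizer (H : Set G) := by
    rw [Subgroup.mem_normalizer_iff_map_conj_eq]
    change (Subgroup.zpowers x).map (MulAut.conj g).toMonoidHom = _
    rw [MonoidHom.map_zpowers]
    change Subgroup.zpowers (g * x * g⁻¹) = _
    rw [hg, Subgroup.zpowers_inv]
  refine hhom H (by rw [hH, Ne, Subgroup.zpowers_eq_bot]; exact hx1) ?_ ?_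
  · rw [hH, Nat.card_zpowers]
    exact fun hd => (Nat.not_even_iff_odd.2 hxo) (even_iff_two_dvd.2 hd)
  set q : ↥(Subgroup.normalizer (H : Set G)) ⧸ _ :=
    QuotientGroup.mk' ((Subgroup.centralizer (H : Set G)).subgroupOf (Subgroup.normalizer (H : Set G))) ⟨g, hgN⟩ with hq
  have hcent : ∀ y : G, y * x * y⁻¹ = x ↔ y ∈ Subgroup.centralizer (H : Set G) := fun y => by
    rw [hH, Subgroup.zpowers_eq_closure, Subgroup.centralizer_closure, mul_inv_eq_iff_eq_mul,
      Subgroup.mem_centralizer_singleton_iff]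
  have hg2 : q ^ 2 = 1 := by
    rw [hq, ← map_pow]
    refine (QuotientGroup.eq_one_iff (N := (Subgroup.centralizer (H : Set G)).subgroupOf (Subgroup.normalizer (H : Set G))) (⟨g, hgN⟩ ^ 2)).2 ?_
    change g ^ 2 ∈ Subgroup.centralizer (H : Set G)
    rw [← hcent, pow_two, mul_inv_rev]
    calc g * g * x * (g⁻¹ * g⁻¹) = g * (g * x * g⁻¹) * g⁻¹ := by simp only [mul_assoc]
      _ = (g * x * g⁻¹)⁻¹ := by
        conv_lhs => rw [hg]
        simp only [mul_inv_rev, inv_inv, mul_assoc]
      _ = x := by rw [hg, inv_inv]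
  have hq1 : q ≠ 1 := by
    intro e
    rw [hq] at e
    have h1 : g ∈ Subgroup.centralizer (H : Set G) :=
      (QuotientGroup.eq_one_iff (N := (Subgroup.centralizer (H : Set G)).subgroupOf (Subgroup.normalizer (H : Set G))) ⟨g, hgN⟩).1 e
    rw [← hcent, hg] at h1
    have h2 : x ^ 2 = 1 := by rw [pow_two]; nth_rewrite 1 [← h1]; exact inv_mul_cancel x
    exact hx1 (orderOf_eq_one_iff.1 (Nat.eq_one_of_dvd_coprimes (Nat.coprime_two_right.2 hxo) dvd_rfl (orderOf_dvd_of_pow_eq_one h2)))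
  rw [← orderOf_eq_prime hg2 hq1]
  exact orderOf_dvd_natCard q

end Cfsg.Agent.S4049
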