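import Cfsg.Statements.S4075
import Cfsg.Agent.S3939

set_option autoImplicit false
open Cfsg

namespace Cfsg.Agent.S4075

/-- Let G be a finite nilpotent group. Every non-abelian subgroup of G is self-normalizing if and only if G is abelian or G is a minimal non-abelian p-group for some prime p (non-abelian of prime-power order with every proper subgroup abelian). -/
theorem result {G : Type*} [Group G] [Finite G]
    [Group.IsNilpotent G] :
    (∀ H : Subgroup G, ¬ IsMulCommutative H → Subgroup.normalizer (H : Set G) = H) ↔
    (IsMulCommutative G ∨ (IsPrimePow (Nat.card G) ∧ ¬ IsMulCommutative G ∧ ∀ H : Subgroup G, H ≠ ⊤ → IsMulCommutative H)) := by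
  classical
  have habel : IsMulCommutative G → ∀ H : Subgroup G, IsMulCommutative H := fun h H =>
    ⟨⟨fun a b => Subtype.ext (h.is_comm.comm (a : G) b)⟩⟩
  constructor
  · intro h
    by_cases hG : IsMulCommutative G
    · exact Or.inl hG
    refine Or.inr ⟨?_, hG, ?_⟩
    swap
    · intro H hH
      by_contra hab
      have := Group.normalizerCondition_of_isNilpotent (G := G) H (lt_top_iff_ne_top.2 hH)
      rw [h H hab] at this
      exact lt_irrefl _ this
    have hprop : ∀ H : Subgroup G, H ≠ ⊤ → IsMulCommutative H := by
      intro H hH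
      by_contra hab
      have := Group.normalizerCondition_of_isNilpotent (G := G) H (lt_top_iff_ne_top.2 hH)
      rw [h H hab] at this
      exact lt_irrefl _ this
    by_contra hnpp
    apply hG
    obtain ⟨e⟩ := (((Group.isNilpotent_of_finite_tfae (G := G)).out 0 4).1 ‹Group.IsNilpotent G›)
    refine ⟨⟨fun a b => e.symm.injective ?_⟩⟩
    rw [map_mul, map_mul]
    funext q P
    have hne : (P : Subgroup G) ≠ ⊤ := by
      intro htop
      haveI : Fact (q : ℕ).Prime := ⟨Nat.prime_of_mem_primeFactors q.2⟩
      obtain ⟨k, hk⟩ := IsPGroup.iff_card.1 P.isPGroup'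
      rw [htop, Subgroup.card_top] at hk
      refine hnpp ((isPrimePow_nat_iff _).2 ⟨q, k, Fact.out, Nat.pos_of_ne_zero ?_, hk.symm⟩)
      rintro rfl
      have hd := Nat.dvd_of_mem_primeFactors q.2
      exact (Fact.out : (q : ℕ).Prime).ne_one (Nat.dvd_one.1 (hd.trans (dvd_of_eq (hk.trans (pow_zero _)))))
    exact (hprop _ hne).is_comm.comm _ _
  · rintro (hG | ⟨-, -, hG⟩) H hH
    · exact absurd (habel hG H) hH
    · by_cases hT : H = ⊤
      · subst hT; exact Subgroup.normalizer_eq_top _
      · exact absurd (hG H hT) hH


end Cfsg.Agent.S4075
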