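import Cfsg.Statements.S4113
import Mathlib.GroupTheory.Complement
import Mathlib.Tactic.Group

set_option autoImplicit false
open Cfsg

namespace Cfsg.Agent.S4113

/-- Let G be a finite group, M ≤ N non-trivial proper normal subgroups, and H a subgroup with HM = G and H ∩ M = 1. Then every element of G outside N acts fixed-point-freely on M (C_G(x) ≤ N for every x ∈ M, x ≠ 1) if and only if H ∩ gHg⁻¹ ≤ H ∩ N for every g outside H, with H proper and non-trivial and H ∩ N proper in H. -/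
theorem result {G : Type*} [Group G] [Finite G] (N M : Subgroup G) [N.Normal] [M.Normal] (hMN : M ≤ N) (hM1 : M ≠ ⊥) (hN2 : N ≠ ⊤)
    (H : Subgroup G) (hHM : H ⊔ M = ⊤) (hHM' : H ⊓ M = ⊥) :
    (∀ x ∈ M, x ≠ 1 → Subgroup.centralizer ({x} : Set G) ≤ N) ↔
      (H ≠ ⊥ ∧ H ≠ ⊤ ∧ H ⊓ N < H ∧ ∀ g : G, g ∉ H → H ⊓ H.map (MulAut.conj g).toMonoidHom ≤ N) := by
  classical
  have hprod : ∀ g : G, ∃ m ∈ M, ∃ h ∈ H, m * h = g := fun g => by
    have : g ∈ M ⊔ H := by rw [sup_comm, hHM]; trivial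
    exact Subgroup.mem_sup_of_normal_left.1 this
  have hb : ∀ z : G, z ∈ H → z ∈ M → z = 1 := fun z h1 h2 => Subgroup.mem_bot.1 (hHM' ▸ ⟨h1, h2⟩)
  constructor
  · intro hfp
    refine ⟨fun h => hN2 ?_, fun h => hM1 ?_, lt_of_le_not_ge inf_le_left fun h => hN2 ?_, fun g hg => ?_⟩
    · rw [h, bot_sup_eq] at hHM
      exact top_le_iff.1 (hHM ▸ hMN)
    · rw [h, top_inf_eq] at hHM'
      exact hHM'
    · exact top_le_iff.1 (hHM ▸ sup_le (h.trans inf_le_right) hMN)
    obtain ⟨m, hm, h, hh, rfl⟩ := hprod g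
    intro x hx
    obtain ⟨hxH, u, hu, hux⟩ := hx
    have hux' : m * h * u * (m * h)⁻¹ = x := hux
    set v := h * u * h⁻¹ with hv
    have hvH : v ∈ H := mul_mem (mul_mem hh hu) (inv_mem hh)
    have hxv : x = m * v * m⁻¹ := by rw [← hux', hv]; group
    have h1 : x * v⁻¹ ∈ M := by
      rw [hxv, show m * v * m⁻¹ * v⁻¹ = m * (v * m⁻¹ * v⁻¹) by group]
      exact mul_mem hm (‹M.Normal›.conj_mem _ (inv_mem hm) v)
    have h2 : x = v := mul_inv_eq_one.1 (hb _ (mul_mem hxH (inv_mem hvH)) h1)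
    have hm1 : m ≠ 1 := fun e => hg (by rw [e, one_mul]; exact hh)
    refine hfp m hm hm1 (Subgroup.mem_centralizer_singleton_iff.2 ?_)
    calc x * m = m * v * m⁻¹ * m := by rw [← hxv]
      _ = m * v := by group
      _ = m * x := by rw [h2]
  · rintro ⟨-, -, -, hmal⟩ x hx hx1 c hc
    by_contra hcN
    let X := {h : H // (h : G) ∉ N} × M
    let Y := {g : G // g ∉ N}
    let e : X → Y := fun z => ⟨((z.1.1 : H) : G) * (z.2 : G), fun hmem => z.1.2 (by
      simpa using mul_mem hmem (inv_mem (hMN z.2.2)))⟩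
    have he : Function.Bijective e := by
      constructor
      · rintro ⟨⟨a, ha⟩, m⟩ ⟨⟨b, hb'⟩, n⟩ h
        have h1 : (a : G) * m = b * n := congrArg Subtype.val h
        have h2 : (b : G)⁻¹ * a = n * (m : G)⁻¹ := by
          rw [eq_mul_inv_iff_mul_eq, mul_assoc, h1, inv_mul_cancel_left]
        have h3 := hb _ (mul_mem (inv_mem b.2) a.2) (h2 ▸ mul_mem n.2 (inv_mem m.2))
        have h4 : a = b := Subtype.ext (inv_mul_eq_one.1 h3).symm
        subst h4
        exact Prod.ext rfl (Subtype.ext (mul_left_cancel h1))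
      · rintro ⟨g, hg⟩
        obtain ⟨m, hm, h, hh, rfl⟩ := hprod g
        have hm' : h⁻¹ * m * h ∈ M := by simpa using ‹M.Normal›.conj_mem m hm h⁻¹
        refine ⟨⟨⟨⟨h, hh⟩, fun hN => hg (mul_mem (hMN hm) hN)⟩, ⟨_, hm'⟩⟩, Subtype.ext ?_⟩
        show h * (h⁻¹ * m * h) = m * h
        group
    let f : X → Y := fun z => ⟨(z.2 : G) * ((z.1.1 : H) : G) * (z.2 : G)⁻¹, fun hmem => z.1.2 (by
      simpa [mul_assoc] using ‹N.Normal›.conj_mem _ hmem (z.2 : G)⁻¹)⟩
    have hf : Function.Injective f := by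
      rintro ⟨⟨a, ha⟩, m⟩ ⟨⟨b, hb'⟩, n⟩ h
      have h1 : (m : G) * a * (m : G)⁻¹ = n * b * (n : G)⁻¹ := congrArg Subtype.val h
      by_cases hmn : m = n
      · subst hmn
        have h4 : a = b := Subtype.ext (mul_left_cancel (mul_right_cancel h1))
        subst h4
        rfl
      exfalso
      have hg : (m : G)⁻¹ * n ∉ H := fun hH => hmn (Subtype.ext
        (inv_mul_eq_one.1 (hb _ hH (mul_mem (inv_mem m.2) n.2))))
      refine ha (hmal _ hg ⟨a.2, b, b.2, ?_⟩)
      show (m : G)⁻¹ * n * b * ((m : G)⁻¹ * n)⁻¹ = a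
      calc _ = (m : G)⁻¹ * (n * b * (n : G)⁻¹) * m := by group
        _ = _ := by rw [← h1]; group
    haveI : Finite X := Finite.of_injective e he.1
    have hbij : Function.Bijective f :=
      (Nat.bijective_iff_injective_and_card f).2 ⟨hf, Nat.card_eq_of_bijective e he⟩
    obtain ⟨⟨⟨h, hh⟩, m⟩, hc'⟩ := hbij.2 ⟨c, hcN⟩
    have hc'' : (m : G) * h * (m : G)⁻¹ = c := congrArg Subtype.val hc'
    have hcx : c * x = x * c := Subgroup.mem_centralizer_singleton_iff.1 hc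
    set y := (m : G)⁻¹ * x * m with hy
    have hyM : y ∈ M := mul_mem (mul_mem (inv_mem m.2) hx) m.2
    have hyh : y * (h : G) * y⁻¹ = h := by
      have h5 : (h : G) = (m : G)⁻¹ * c * m := by rw [← hc'']; group
      rw [hy, h5]
      calc _ = (m : G)⁻¹ * (x * c) * x⁻¹ * m := by group
        _ = _ := by rw [← hcx]; group
    have hy1 : y ≠ 1 := fun e' => hx1 (by
      calc x = (m : G) * y * (m : G)⁻¹ := by rw [hy]; group
        _ = 1 := by rw [e']; group)
    exact hh (hmal y (fun hH => hy1 (hb y hH hyM)) ⟨h.2, h, h.2, hyh⟩)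

end Cfsg.Agent.S4113
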