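import Cfsg.Statements.S4127
import Cfsg.Agent.S4035
import Cfsg.Agent.S4126
import Cfsg.Agent.PCore.AxB
import Cfsg.Agent.Transfer.Residual
import Mathlib

set_option autoImplicit false
open Cfsg

namespace Cfsg.Agent.S4127

theorem carrier_ncard {G : Type*} [Group G] [Finite G] (y : G) :
    (ConjClasses.mk y).carrier.ncard = (Subgroup.centralizer ({y} : Set G)).index := by
  rw [← ConjAct.orbit_eq_carrier_conjClasses, ← MulAction.index_stabilizer, Subgroup.centralizer_eq_comap_stabilizer]
  exact (Subgroup.index_comap_of_surjective (f := (ConjAct.toConjAct (G := G)).toMonoidHom) _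
    ConjAct.toConjAct.surjective).symm


/-- Let G be a finite group, p a prime and p^a the largest power of p dividing the size of any conjugacy class of G. If some element of p-power order has a conjugacy class of size exactly p^a, then G has a normal p-complement. -/
theorem result {G : Type*} [Group G] [Finite G] (p : ℕ) [Fact p.Prime]
    (a : ℕ) (hmax : ∀ y : G, ¬ p ^ (a + 1) ∣ (Subgroup.centralizer ({y} : Set G)).index)
    (hx : ∃ x : G, (∃ k : ℕ, orderOf x = p ^ k) ∧ (Subgroup.centralizer ({x} : Set G)).index = p ^ a) :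
    Cfsg.HasNormalPComplement p G := by
  obtain ⟨x, ⟨k, hk⟩, hxi⟩ := hx
  have hp : p.Prime := Fact.out
  set C := Subgroup.centralizer ({x} : Set G) with hC
  have hxC : x ∈ C := Subgroup.mem_centralizer_singleton_iff.2 rfl
  -- in `C`, classes of p'-elements have size prime to p
  have hreg : ∀ y : C, (orderOf y).Coprime p → ¬ p ∣ (ConjClasses.mk y).carrier.ncard := by
    intro y hy hdvd
    apply hmax (x * y)
    have hcomm : Commute x (y : G) := (Subgroup.mem_centralizer_singleton_iff.1 y.2).symm
    have hle : Subgroup.centralizer ({x * (y : G)} : Set G) ≤ C ⊓ Subgroup.centralizer ({(y : G)} : Set G) := by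
      intro g hg
      rw [Subgroup.mem_centralizer_singleton_iff] at hg
      have hco : (orderOf x).Coprime (orderOf (y : G)) := by
        rw [hk, Subgroup.orderOf_coe]; exact Nat.Coprime.pow_left _ hy.symm
      obtain ⟨s, t, hst⟩ := Int.isCoprime_iff_nat_coprime.2
        (show ((orderOf x : ℤ)).natAbs.Coprime ((orderOf (y : G) : ℤ)).natAbs by simpa using hco)
      have hgc : ∀ n : ℤ, Commute g ((x * (y : G)) ^ n) := fun n => Commute.zpow_right hg n
      have hX : (x * (y : G)) ^ (t * orderOf (y : G)) = x := by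
        rw [hcomm.mul_zpow, mul_comm t, zpow_mul (y : G), zpow_natCast, pow_orderOf_eq_one, one_zpow, mul_one]
        conv_rhs => rw [← zpow_one x, ← hst, zpow_add, mul_comm s, zpow_mul x (orderOf x : ℤ) s,
          zpow_natCast, pow_orderOf_eq_one, one_zpow, one_mul, mul_comm t]
      have hY : (x * (y : G)) ^ (s * orderOf x) = (y : G) := by
        rw [hcomm.mul_zpow, mul_comm s, zpow_mul x, zpow_natCast, pow_orderOf_eq_one, one_zpow, one_mul]
        conv_rhs => rw [← zpow_one (y : G), ← hst, zpow_add, mul_comm t, zpow_mul (y : G) (orderOf (y : G) : ℤ) t,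
          zpow_natCast, pow_orderOf_eq_one, one_zpow, mul_one, mul_comm s]
      refine ⟨Subgroup.mem_centralizer_singleton_iff.2 ?_, Subgroup.mem_centralizer_singleton_iff.2 ?_⟩
      · rw [← hX]; exact hgc _
      · rw [← hY]; exact hgc _
    have h1 : (Subgroup.centralizer ({y} : Set C)).index =
        (Subgroup.centralizer ({(y : G)} : Set G)).relIndex C := by
      rw [Subgroup.relIndex]
      congr 1
      ext z
      rw [Subgroup.mem_subgroupOf, Subgroup.mem_centralizer_singleton_iff, Subgroup.mem_centralizer_singleton_iff]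
      exact Subtype.ext_iff
    rw [carrier_ncard, h1, ← Subgroup.inf_relIndex_left] at hdvd
    refine dvd_trans ?_ (Subgroup.index_dvd_of_le hle)
    rw [← Subgroup.relIndex_mul_index (inf_le_left : C ⊓ _ ≤ C), pow_succ, mul_comm (p ^ a), ← hxi]
    exact mul_dvd_mul hdvd (dvd_refl _)
  obtain ⟨P0⟩ : Nonempty (Sylow p C) := inferInstance
  obtain ⟨hP0n, H0, hH0n, hH0p, hinf, hsup⟩ := Cfsg.Agent.S4035.result hreg P0
  have hH0cop : (Nat.card H0).Coprime p := ((hp.coprime_iff_not_dvd).2 hH0p).symm
  set H : Subgroup G := H0.map C.subtype with hH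
  -- elements of `C` of order prime to p lie in `H0`
  have hH0 : ∀ z : C, (orderOf z).Coprime p → z ∈ H0 := by
    intro z hz
    rw [← QuotientGroup.eq_one_iff, ← orderOf_eq_one_iff]
    obtain ⟨j, hj⟩ := IsPGroup.iff_card.1 P0.2
    refine Nat.eq_one_of_dvd_coprimes (hz.pow_right j) (orderOf_map_dvd (QuotientGroup.mk' H0) z) ?_
    refine (orderOf_dvd_natCard _).trans (dvd_of_eq ?_)
    rw [← Subgroup.index_eq_card]
    have hc : (P0 : Subgroup C).IsComplement' H0 :=
      Subgroup.isComplement'_of_disjoint_and_mul_eq_univ (disjoint_iff.2 hinf)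
        (by rw [← Subgroup.normal_mul, hsup]; rfl)
    rw [hc.index_eq_card, hj]
  -- `x` lies in `O_p(G)`
  obtain ⟨P⟩ : Nonempty (Sylow p G) := inferInstance
  have hHcard : Nat.card H = Nat.card H0 := Subgroup.card_map_of_injective C.subtype_injective
  have hxR : x ∈ Cfsg.pCore p G := by
    let N : Subgroup G := Subgroup.normalClosure {x}
    suffices hN : IsPGroup p N from
      CfsgLib.PCore.le_pCore Subgroup.normalClosure_normal hN (Subgroup.subset_normalClosure rfl)
    obtain ⟨T, hT⟩ := (IsPGroup.of_card (n := k) (by rw [Nat.card_zpowers, hk]) :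
      IsPGroup p (Subgroup.zpowers x)).exists_le_sylow
    refine T.2.to_le ((Subgroup.closure_le _).2 ?_)
    intro z hz
    obtain ⟨z0, hz0, hzc⟩ := Group.mem_conjugatesOfSet_iff.1 hz
    rw [Set.mem_singleton_iff] at hz0
    rw [hz0] at hzc
    obtain ⟨g, rfl⟩ := isConj_iff.1 hzc
    obtain ⟨y, hy, hyg⟩ := Cfsg.Agent.S4126.exists_mul T _ hxi g
    rw [Subgroup.mem_centralizer_singleton_iff] at hyg
    have : g * x * g⁻¹ = y * x * y⁻¹ := by
      calc g * x * g⁻¹ = y * ((y⁻¹ * g) * x) * g⁻¹ := by group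
        _ = y * (x * (y⁻¹ * g)) * g⁻¹ := by rw [hyg]
        _ = _ := by group
    rw [this]
    exact mul_mem (mul_mem hy (hT (Subgroup.mem_zpowers x))) (inv_mem hy)
  -- Thompson's lemma
  have hR := CfsgLib.PCore.isPGroup_pCore p G
  have hRn : (Cfsg.pCore p G).Normal := Subgroup.sSup_normal _ fun _ h => h.1
  have hHR : H ≤ Subgroup.centralizer ((Cfsg.pCore p G : Subgroup G) : Set G) := by
    refine CfsgLib.PCore.thompson_AxB (A := Subgroup.zpowers x)
      (IsPGroup.of_card (n := k) (by rw [Nat.card_zpowers, hk])) (hHcard ▸ hH0cop) hR ?_ ?_ ?_ ?_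
    · rintro _ ⟨i, rfl⟩ _ ⟨b, -, rfl⟩
      exact (show Commute x (b : G) from (Subgroup.mem_centralizer_singleton_iff.1 b.2).symm).zpow_left i
    · rw [Subgroup.normalizer_eq_top]; exact le_top
    · rw [Subgroup.normalizer_eq_top]; exact le_top
    · rintro _ ⟨b, hb, rfl⟩
      refine Subgroup.mem_centralizer_iff.2 fun r hr => ?_
      have hrC : r ∈ C := Subgroup.mem_centralizer_singleton_iff.2
        (Subgroup.mem_centralizer_iff.1 hr.2 x (Subgroup.mem_zpowers x)).symm
      have hrP0 : (⟨r, hrC⟩ : C) ∈ (P0 : Subgroup C) := by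
        have hS : IsPGroup p ((Cfsg.pCore p G).subgroupOf C) := IsPGroup.comap_of_injective hR _ C.subtype_injective
        obtain ⟨U, hU⟩ := hS.exists_le_sylow
        have := Sylow.unique_of_normal P0 hP0n
        exact Subsingleton.elim U P0 ▸ hU hr.1
      have := Subgroup.commute_of_normal_of_disjoint (P0 : Subgroup C) H0 hP0n hH0n (disjoint_iff.2 hinf) _ _ hrP0 hb
      exact congrArg Subtype.val this.eq
  have hK : ∀ g : G, g ∈ Subgroup.centralizer ((Cfsg.pCore p G : Subgroup G) : Set G) → g ∈ C :=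
    fun g hg => Subgroup.mem_centralizer_singleton_iff.2 ((Subgroup.mem_centralizer_iff.1 hg x hxR).symm)
  have hCn : (Subgroup.centralizer ((Cfsg.pCore p G : Subgroup G) : Set G)).Normal := inferInstance
  have hHn : H.Normal := ⟨by
    rintro _ ⟨b, hb, rfl⟩ g
    have hmem : g * (b : G) * g⁻¹ ∈ C := hK _ (hCn.conj_mem _ (hHR ⟨b, hb, rfl⟩) g)
    refine ⟨⟨_, hmem⟩, hH0 _ ?_, rfl⟩
    rw [← Subgroup.orderOf_coe]
    change (orderOf (MulAut.conj g (b : G))).Coprime p
    rw [show orderOf (MulAut.conj g (b : G)) = orderOf (b : G) from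
      orderOf_injective (MulAut.conj g).toMonoidHom (MulAut.conj g).injective _, Subgroup.orderOf_coe]
    exact hH0cop.coprime_dvd_left (H0.orderOf_dvd_natCard hb)⟩
  refine CfsgLib.Transfer.hasNormalPComplement_of_normal H (hHcard ▸ hH0p) ?_
  obtain ⟨j, hj⟩ := IsPGroup.iff_card.1 P0.2
  refine IsPGroup.of_card (n := j + a) ?_
  have hc : (P0 : Subgroup C).IsComplement' H0 :=
    Subgroup.isComplement'_of_disjoint_and_mul_eq_univ (disjoint_iff.2 hinf)
      (by rw [← Subgroup.normal_mul, hsup]; rfl)
  have e1 : Nat.card G = Nat.card H * (p ^ (j + a)) := by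
    rw [← C.card_mul_index, ← hc.card_mul_card, hxi, hj, hHcard, pow_add]
    ring
  rw [← Subgroup.index_eq_card]
  exact mul_left_cancel₀ Nat.card_pos.ne' (H.card_mul_index.trans e1)

end Cfsg.Agent.S4127
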