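import Cfsg.Statements.S4134
import Cfsg.Agent.TwoSizesNormal.Main

set_option autoImplicit false
open Cfsg

namespace Cfsg.Agent.S4134
open CfsgLib.OneMMN CfsgLib.TwoSizesNormal

/-- Let G be a finite group whose conjugacy classes have exactly two sizes, 1 and n > 1. Then n is a power of a prime p and G is the direct product of a p-group and an abelian group of order prime to p: its Sylow p-subgroup P is normal with an abelian normal complement centralizing it; moreover P has an abelian normal subgroup A with P/A of exponent dividing p. -/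
theorem result {G : Type*} [Group G] [Finite G] (n : ℕ) (hn : 1 < n)
    (h : ∀ x : G, (Subgroup.centralizer ({x} : Set G)).index = 1 ∨ (Subgroup.centralizer ({x} : Set G)).index = n) (hex : ∃ x : G, (Subgroup.centralizer ({x} : Set G)).index = n) :
    ∃ (p : ℕ) (_ : Fact p.Prime) (a : ℕ), n = p ^ a ∧ ∀ P : Sylow p G, (P : Subgroup G).Normal ∧
      (∃ N : Subgroup G, N.Normal ∧ N.IsComplement' (P : Subgroup G) ∧ IsMulCommutative N ∧
        ∀ x ∈ N, ∀ y ∈ (P : Subgroup G), x * y = y * x) ∧
      ∃ A : Subgroup (P : Subgroup G), A.Normal ∧ IsMulCommutative A ∧ ∀ y : (P : Subgroup G), y ^ p ∈ A := by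

  obtain ⟨x0, hx0⟩ := hex
  have hx0c : x0 ∉ Subgroup.center G := fun hc => hn.ne' (hx0.symm.trans (idx_eq_one_iff.2 hc))
  obtain ⟨p, hp, x, -, hxp, hxc⟩ : ∃ p, p.Prime ∧ ∃ x ∈ Subgroup.zpowers x0, PElt p x ∧ x ∉ Subgroup.center G := by
    by_contra hno
    push Not at hno
    exact hx0c (le_of_pElts (A := Subgroup.center G) (fun q hq b hb hbq => hno q hq b hb hbq)
      (Subgroup.mem_zpowers x0))
  haveI := Fact.mk hp
  obtain ⟨P0⟩ := (inferInstance : Nonempty (Sylow p G))
  obtain ⟨g, hg⟩ := exists_conj_mem_sylow P0 hxp.isPGroup_zpowers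
  have hR : ¬ (P0 : Subgroup G) ≤ Subgroup.center G := fun hle =>
    hxc (conj_mem_center.1 (hle (hg x (Subgroup.mem_zpowers x))))
  have D : Setup p (⊤ : Subgroup G) P0 n :=
    { normal := inferInstance, le := le_top, ncR := hR, sizes := fun y _ => h y }
  haveI := D.isNilpotent
  haveI hnilG : Group.IsNilpotent G :=
    Group.nilpotent_of_mulEquiv (Subgroup.topEquiv : (⊤ : Subgroup G) ≃* G)
  have hcomm : ∀ {q r : ℕ}, q.Prime → r.Prime → q ≠ r → ∀ {a b : G}, PElt q a → PElt r b → a * b = b * a := by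
    intro q r hq hr hqr a b ha hb
    haveI := Fact.mk hq
    haveI := Fact.mk hr
    obtain ⟨Q⟩ := (inferInstance : Nonempty (Sylow q G))
    obtain ⟨S⟩ := (inferInstance : Nonempty (Sylow r G))
    have hQn : (Q : Subgroup G).Normal := inferInstance
    have hSn : (S : Subgroup G).Normal := inferInstance
    obtain ⟨k, hk⟩ := exists_conj_mem_sylow Q ha.isPGroup_zpowers
    obtain ⟨l, hl⟩ := exists_conj_mem_sylow S hb.isPGroup_zpowers
    have haQ : a ∈ (Q : Subgroup G) := (hQn.mem_comm_iff).1 (by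
      have := hQn.conj_mem _ (hk a (Subgroup.mem_zpowers a)) k⁻¹
      simpa [mul_assoc] using this : a * 1 ∈ (Q : Subgroup G)) |> fun h => by simpa using h
    have hbS : b ∈ (S : Subgroup G) := by
      have := hSn.conj_mem _ (hl b (Subgroup.mem_zpowers b)) l⁻¹
      simpa [mul_assoc] using this
    refine (Subgroup.commute_of_normal_of_disjoint _ _ hQn hSn ?_ a b haQ hbS).eq
    exact IsPGroup.disjoint_of_ne q r hqr _ _ Q.isPGroup' S.isPGroup'
  have hxN : NC (⊤ : Subgroup G) x := ⟨trivial, hxc⟩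
  have hcen : ∀ {q : ℕ}, q.Prime → q ≠ p → ∀ {y : G}, PElt q y → y ∈ Subgroup.center G := by
    intro q hq hqp y hy
    by_contra hyc
    have hxy : C x = C y := D.eq_of_le hxN ⟨trivial, hyc⟩
      (D.C_le hxN (mem_C.2 (hcomm hp hq hqp.symm hxp hy).symm) trivial
        (hxp.coprime hp (PElt.not_dvd hp hq hqp hy)))
    refine hyc (mem_center_iff_C.2 (eq_top_iff.2 (le_of_pElts fun s hs b _ hb => ?_)))
    by_cases hsq : s = q
    · subst hsq
      rw [← hxy]
      exact mem_C.2 (hcomm hs hp hqp hb hxp)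
    · exact mem_C.2 (hcomm hs hq hsq hb hy)
  have hnd : ∀ {q : ℕ}, q.Prime → q ∣ n → q = p := by
    intro q hq hqn
    by_contra hqp
    haveI := Fact.mk hq
    obtain ⟨Q⟩ := (inferInstance : Nonempty (Sylow q G))
    have hle : (Q : Subgroup G) ≤ C x := fun y hy =>
      center_le_C x (hcen hq hqp (PElt.of_mem hq Q.isPGroup' hy))
    have hd := Subgroup.index_dvd_of_le hle
    rw [D.idx hxN] at hd
    exact Q.not_dvd_index (hqn.trans hd)
  refine ⟨p, ⟨hp⟩, _, Nat.eq_prime_pow_of_unique_prime_dvd (by omega) (fun hq hqn => hnd hq hqn), fun P => ?_⟩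
  have hPn : (P : Subgroup G).Normal := inferInstance
  refine ⟨hPn, ?_, ?_⟩
  · let N : Subgroup G :=
      { carrier := {y | y ∈ Subgroup.center G ∧ ¬ p ∣ orderOf y}
        one_mem' := ⟨one_mem _, by rw [orderOf_one]; exact hp.not_dvd_one⟩
        mul_mem' := fun {a b} ha hb => ⟨mul_mem ha.1 hb.1, fun hd => by
          have hc : Commute a b := Subgroup.mem_center_iff.1 hb.1 a
          have h1 := hd.trans (hc.orderOf_mul_dvd_lcm.trans (Nat.lcm_dvd_mul _ _))
          exact (hp.dvd_mul.1 h1).elim ha.2 hb.2⟩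
        inv_mem' := fun {a} ha => ⟨inv_mem ha.1, by rw [orderOf_inv]; exact ha.2⟩ }
    have hN : ∀ v : G, ¬ p ∣ orderOf v → v ∈ N := by
      intro v hv
      refine ⟨le_of_pElts (A := Subgroup.center G) (B := Subgroup.zpowers v) ?_ (Subgroup.mem_zpowers v), hv⟩
      intro q hq b hb hbq
      by_cases hqp : q = p
      · subst hqp
        rw [hbq.eq_one hq (fun hd => hv (hd.trans (orderOf_dvd_of_mem_zpowers hb)))]
        exact one_mem _
      · exact hcen hq hqp hbq
    refine ⟨N, ⟨fun a ha b => ?_⟩, ?_, ⟨⟨fun a b => Subtype.ext (Subgroup.mem_center_iff.1 b.2.1 a)⟩⟩,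
      fun a ha b _ => (Subgroup.mem_center_iff.1 ha.1 b).symm⟩
    · rw [Subgroup.mem_center_iff.1 ha.1 b, mul_inv_cancel_right]; exact ha
    refine Subgroup.isComplement'_of_disjoint_and_mul_eq_univ ?_ ?_
    · rw [Subgroup.disjoint_def]
      exact fun {a} ha hb => (PElt.of_mem hp P.isPGroup' hb).eq_one hp ha.2
    · rw [Set.eq_univ_iff_forall]
      intro v
      obtain ⟨a, b, rfl, hab, ha, hb, -, -⟩ := split hp v
      obtain ⟨k, hk⟩ := exists_conj_mem_sylow P ha.isPGroup_zpowers
      have haP : a ∈ (P : Subgroup G) := by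
        have := hPn.conj_mem _ (hk a (Subgroup.mem_zpowers a)) k⁻¹
        simpa [mul_assoc] using this
      exact ⟨b, hN b hb, a, haP, hab.symm⟩
  · have hPnc : ¬ (P : Subgroup G) ≤ Subgroup.center G := fun hle => by
      obtain ⟨k, hk⟩ := exists_conj_mem_sylow P hxp.isPGroup_zpowers
      exact hxc (conj_mem_center.1 (hle (hk x (Subgroup.mem_zpowers x))))
    set V := (P : Subgroup G).map (π (G := G))
    have hV : IsPGroup p V := P.isPGroup'.map _
    haveI : Nontrivial V := (Subgroup.nontrivial_iff_ne_bot _).2 fun e => hPnc fun y hy => by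
      have := Subgroup.mem_map_of_mem (π (G := G)) hy
      rw [show (P : Subgroup G).map (π (G := G)) = ⊥ from e, Subgroup.mem_bot] at this
      exact π_eq_one_iff.1 this
    haveI := hV.center_nontrivial
    obtain ⟨c, hc, hco⟩ : ∃ c : V, c ∈ Subgroup.center V ∧ orderOf c = p := by
      obtain ⟨c, hc⟩ := exists_prime_orderOf_dvd_card' p (G := Subgroup.center V) (by
        obtain ⟨k, hk⟩ := (hV.to_subgroup (Subgroup.center V)).exists_card_eq
        rw [hk]
        refine dvd_pow_self p fun h0 => ?_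
        rw [h0, pow_zero, Nat.card_eq_one_iff_unique] at hk
        exact not_subsingleton (Subgroup.center V) hk.1)
      exact ⟨c, c.2, by rw [Subgroup.orderOf_coe, hc]⟩
    obtain ⟨z, hzP, hzc⟩ := c.2
    have hzn : z ∉ Subgroup.center G := fun hz => by
      have e : (c : G ⧸ Subgroup.center G) = 1 := hzc.symm.trans (π_eq_one_iff.2 hz)
      rw [← Subgroup.orderOf_coe, e, orderOf_one] at hco
      exact hp.ne_one hco.symm
    have hzN : NC (⊤ : Subgroup G) z := ⟨trivial, hzn⟩
    have hzp : z ^ p ∈ Subgroup.center G := by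
      rw [← π_eq_one_iff, map_pow, hzc, ← SubmonoidClass.coe_pow, ← hco, pow_orderOf_eq_one]
      rfl
    have hzcom : ∀ y ∈ (P : Subgroup G), π y * π z = π z * π y := fun y hy => by
      rw [hzc]
      exact congrArg Subtype.val (Subgroup.mem_center_iff.1 hc ⟨π y, Subgroup.mem_map_of_mem _ hy⟩)
    have hCz : ∀ g ∈ (P : Subgroup G), C (g * z * g⁻¹) = C z := by
      intro g hg
      have hd : z⁻¹ * (g * z * g⁻¹) ∈ Subgroup.center G := by
        rw [← π_eq_iff, map_mul, map_mul, map_inv, hzcom g hg, mul_inv_cancel_right]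
      rw [← C_mul_central (x := z) hd, mul_inv_cancel_left]
    set Zc := Subgroup.centralizer (C z : Set G)
    refine ⟨Zc.subgroupOf (P : Subgroup G), ⟨fun a ha g => ?_⟩, ⟨⟨fun a b => Subtype.ext (Subtype.ext ?_)⟩⟩,
      fun y => Subgroup.mem_subgroupOf.2 ?_⟩
    · rw [Subgroup.mem_subgroupOf, Subgroup.mem_centralizer_iff] at ha ⊢
      intro w hw
      rw [SetLike.mem_coe, ← hCz _ g.2, mem_C_conj] at hw
      have h1 := ha _ hw
      push_cast
      calc w * ((g : G) * (a : G) * (g : G)⁻¹) = (g : G) * (((g : G)⁻¹ * w * g) * a) * (g : G)⁻¹ := by group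
        _ = _ := by rw [h1]; group
    · have ha := Subgroup.mem_subgroupOf.1 a.2
      have hb := Subgroup.mem_subgroupOf.1 b.2
      have hbz : ((b : (P : Subgroup G)) : G) ∈ C z :=
        mem_C.2 (Subgroup.mem_centralizer_iff.1 hb z (self_mem_C z)).symm
      exact (Subgroup.mem_centralizer_iff.1 ha _ hbz).symm
    · rw [SubmonoidClass.coe_pow]
      by_cases hyc : (y : G) ∈ Subgroup.center G
      · exact Subgroup.center_le_centralizer _ (pow_mem hyc p)
      by_cases hyz : C (y : G) = C z
      · refine pow_mem (Subgroup.mem_centralizer_iff.2 fun w hw => ?_) p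
        rw [SetLike.mem_coe, ← hyz] at hw
        exact mem_C.1 hw
      · exact Subgroup.center_le_centralizer _
          (D.pow_mem_center ⟨trivial, hyc⟩ hzN (hzcom y y.2) hyz hzp)

end Cfsg.Agent.S4134
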