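import Cfsg.Statements.S4145
import Cfsg.Agent.Transfer.AbelianSylow
import Cfsg.Agent.Transfer.Frobenius
import Cfsg.Agent.PCore.PSolvable
import Cfsg.Agent.CoprimeAction.Abelian

set_option autoImplicit false
open Cfsg

namespace Cfsg.Agent.S4145

open CfsgLib.Transfer
open scoped commutatorElement Pointwise

section

variable {p : ℕ} {G : Type*} [Group G] [Finite G] [hp : Fact p.Prime]

/-- A `p'`-element normalising a cyclic Sylow subgroup: it centralises it or has no fixed points and `[P,b] = P`. -/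
private theorem fix_or_fpf (P : Sylow p G) (hP : IsCyclic (P : Subgroup G)) {b : G}
    (hb : b ∈ Subgroup.normalizer ((P : Subgroup G) : Set G)) (hbp : (orderOf b).Coprime p) :
    b ∈ Subgroup.centralizer ((P : Subgroup G) : Set G) ∨
      ((P : Subgroup G) ⊓ Subgroup.centralizer (Subgroup.zpowers b : Set G) = ⊥ ∧
        ⁅(P : Subgroup G), Subgroup.zpowers b⁆ = P) := by
  have hA : Subgroup.zpowers b ≤ Subgroup.normalizer ((P : Subgroup G) : Set G) := Subgroup.zpowers_le.2 hb
  obtain ⟨k, hk⟩ := IsPGroup.iff_card.1 P.isPGroup'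
  have hcop : (Nat.card (Subgroup.zpowers b)).Coprime (Nat.card (P : Subgroup G)) := by
    rw [Nat.card_zpowers, hk]; exact hbp.pow_right k
  have hcm : IsMulCommutative (P : Subgroup G) := hP.isMulCommutative
  have h1 := CfsgLib.CoprimeAction.centralizer_inf_commutator_eq_bot hA hcop
  have h2 := CfsgLib.CoprimeAction.commutator_sup_centralizer hA hcop
    (Or.inr (by have := P.isPGroup'.isNilpotent; infer_instance))
  rcases eq_bot_or_eq_bot_of_cyclic P.isPGroup' hP inf_le_left (le_sup_left.trans h2.le) h1 with h | h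
  · refine Or.inr ⟨h, ?_⟩
    rwa [h, sup_bot_eq] at h2
  · left
    rw [h, bot_sup_eq] at h2
    exact Subgroup.le_centralizer_iff.1 (h2.ge.trans inf_le_right) (Subgroup.mem_zpowers b)

/-- A `p`-element normalising `P` lies in `P`. -/
private theorem mem_of_pElement (P : Sylow p G) {a : G} (ha : a ∈ Subgroup.normalizer ((P : Subgroup G) : Set G))
    {k : ℕ} (hk : orderOf a = p ^ k) : a ∈ (P : Subgroup G) := by
  have hg : IsPGroup p (Subgroup.zpowers a) := IsPGroup.of_card (n := k) (by rw [Nat.card_zpowers, hk])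
  have h1 : (Subgroup.zpowers a ⊔ (P : Subgroup G) : Subgroup G) = P :=
    P.3 (hg.to_sup_of_normal_right' P.isPGroup' (Subgroup.zpowers_le.mpr ha)) le_sup_right
  exact h1 ▸ Subgroup.mem_sup_left (Subgroup.mem_zpowers a)

/-- A cyclic Sylow subgroup and a nontrivial normal `p`-subgroup force `p`-solvability. -/
private theorem isPSolvable_of_normal_cyclic (P : Sylow p G) (hP : IsCyclic (P : Subgroup G)) (Q : Subgroup G)
    [Q.Normal] (hQ : IsPGroup p Q) (hQ0 : Q ≠ ⊥) : Cfsg.IsPSolvable p G := by
  have hQP : Q ≤ (P : Subgroup G) := (CfsgLib.PCore.le_pCore inferInstance hQ).trans (CfsgLib.PCore.pCore_le_sylow P)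
  have hQc : IsCyclic Q := isCyclic_of_injective (Subgroup.inclusion hQP) (Subgroup.inclusion_injective hQP)
  set C := Subgroup.centralizer (Q : Set G) with hC
  have hcm : IsMulCommutative (P : Subgroup G) := hP.isMulCommutative
  have hPC : (P : Subgroup G) ≤ C := fun x hx => Subgroup.mem_centralizer_iff.2 fun q hq =>
    congrArg Subtype.val (mul_comm' (⟨q, hQP hq⟩ : (P : Subgroup G)) ⟨x, hx⟩)
  have hCn : C.Normal := inferInstance
  refine CfsgLib.PCore.isPSolvable_of_normal C ?_ ?_
  · let PC : Sylow p C := P.subtype hPC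
    have hb : Cfsg.HasNormalPComplement p C := by
      refine burnside_normal_complement PC fun c hc => Subgroup.mem_centralizer_iff.2 fun x hx => Subtype.ext ?_
      have hcN : (c : G) ∈ Subgroup.normalizer ((P : Subgroup G) : Set G) :=
        Subgroup.mem_normalizer_fintype (S := ((P : Subgroup G) : Set G)) fun s hs =>
          (Subgroup.mem_normalizer_iff.1 hc ⟨s, hPC hs⟩).1 hs
      obtain ⟨a, b, hab, -, ⟨k, hk⟩, hbp, han, hbn⟩ := exists_pPart_mul (p := p) (c : G)
      have haP := mem_of_pElement P (Subgroup.zpowers_le.2 hcN han) hk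
      have hbC : b ∈ C := Subgroup.zpowers_le.2 c.2 hbn
      have hbc : b ∈ Subgroup.centralizer ((P : Subgroup G) : Set G) := by
        refine (fix_or_fpf P hP (Subgroup.zpowers_le.2 hcN hbn) hbp).resolve_right fun h => hQ0 ?_
        rw [eq_bot_iff, ← h.1]
        refine le_inf hQP fun q hq => Subgroup.mem_centralizer_iff.2 fun y hy => ?_
        obtain ⟨j, rfl⟩ := hy
        exact (Subgroup.mem_centralizer_iff.1 (zpow_mem hbC j) q hq).symm
      have hac : a ∈ Subgroup.centralizer ((P : Subgroup G) : Set G) := Subgroup.mem_centralizer_iff.2 fun y hy =>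
        congrArg Subtype.val (mul_comm' (⟨y, hy⟩ : (P : Subgroup G)) ⟨a, haP⟩)
      show (x : G) * c = c * x
      rw [hab]
      exact Subgroup.mem_centralizer_iff.1 (mul_mem hac hbc) x hx
    have hn : (Cfsg.pResidual p C).Normal := pResidual_normal
    exact CfsgLib.PCore.isPSolvable_of_normal (Cfsg.pResidual p C)
      (CfsgLib.PCore.isPSolvable_of_coprime (CfsgLib.PCore.coprime_of_not_dvd (hasNormalPComplement_iff.1 hb)))
      (CfsgLib.PCore.isPSolvable_of_isPGroup isPGroup_quotient_pResidual)
  · have : IsMulCommutative (G ⧸ C) := by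
      refine Subgroup.Normal.quotient_commutative_iff_commutator_le.mpr (Subgroup.commutator_le.2 fun a _ b _ => ?_)
      refine Subgroup.mem_centralizer_iff.2 fun q hq => ?_
      have h : MulAut.conjNormal (H := Q) ⁅a, b⁆ = 1 := by
        rw [map_commutatorElement, commutatorElement_eq_one_iff_mul_comm]
        exact (IsCyclic.mulAutMulEquiv Q).injective (by rw [map_mul, map_mul, mul_comm]) 
      have h2 := congrArg (fun f : MulAut Q => ((f ⟨q, hq⟩ : Q) : G)) h
      simp only [MulAut.conjNormal_apply, MulAut.one_apply] at h2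
      exact (mul_inv_eq_iff_eq_mul.1 h2).symm
    have : Group.IsSolvable (G ⧸ C) := Group.isSolvable_of_comm fun a b => mul_comm' a b
    exact CfsgLib.PCore.isPSolvable_of_isSolvable

end

/-- Let G be a finite group with a cyclic Sylow p-subgroup and H a normal subgroup such that p divides both the order of H and the index of H. Then H has a normal p-complement and G is p-solvable. -/
theorem result {G : Type*} [Group G] [Finite G] (p : ℕ) [Fact p.Prime]
    (P : Sylow p G) (hP : IsCyclic (P : Subgroup G)) (H : Subgroup G) [H.Normal] (h1 : p ∣ Nat.card H) (h2 : p ∣ H.index) :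
    Cfsg.HasNormalPComplement p H ∧ Cfsg.IsPSolvable p G := by
  set Q := (P : Subgroup G) ⊓ H with hQdef
  obtain ⟨T, hT⟩ := exists_sylow_map_eq_inf P H
  have hQP : Q ≤ (P : Subgroup G) := inf_le_left
  have hQH : Q ≤ H := inf_le_right
  have hcm : IsMulCommutative (P : Subgroup G) := hP.isMulCommutative
  have hPQ : ∀ x ∈ (P : Subgroup G), ∀ q ∈ Q, x * q = q * x := fun x hx q hq =>
    congrArg Subtype.val (mul_comm' (⟨x, hx⟩ : (P : Subgroup G)) ⟨q, hQP hq⟩)
  have hQne : ¬ (P : Subgroup G) ≤ H := fun h =>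
    P.not_dvd_index (h2.trans (Subgroup.index_dvd_of_le h))
  have hcompl : Cfsg.HasNormalPComplement p H := by
    by_contra hne
    obtain ⟨n, hnH, hnQ, hnC⟩ : ∃ n ∈ H, n ∈ Subgroup.normalizer (Q : Set G) ∧ n ∉ Subgroup.centralizer (Q : Set G) := by
      by_contra hall
      push Not at hall
      refine hne (burnside_normal_complement T fun c hc => Subgroup.mem_centralizer_iff.2 fun x hx => Subtype.ext ?_)
      have hxQ : (x : G) ∈ Q := hT.le (Subgroup.mem_map_of_mem H.subtype hx)
      have hcN : (c : G) ∈ Subgroup.normalizer (Q : Set G) := by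
        have := Subgroup.le_normalizer_map H.subtype (Subgroup.mem_map_of_mem H.subtype hc)
        rwa [hT] at this
      exact Subgroup.mem_centralizer_iff.1 (hall _ c.2 hcN) _ hxQ
    set C' := (Subgroup.centralizer (Q : Set G)).subgroupOf H with hC'
    have hTC : (T : Subgroup H) ≤ C' := fun x hx => by
      have hxQ : (x : G) ∈ Q := hT.le (Subgroup.mem_map_of_mem H.subtype hx)
      exact Subgroup.mem_centralizer_iff.2 fun q hq => hPQ q (hQP hq) _ hxQ
    let TC : Sylow p C' := T.subtype hTC
    have hCc : Cfsg.HasNormalPComplement p C' := by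
      refine burnside_normal_complement TC fun c _ => Subgroup.mem_centralizer_iff.2 fun x hx => Subtype.ext (Subtype.ext ?_)
      exact Subgroup.mem_centralizer_iff.1 c.2 _ (hT.le (Subgroup.mem_map_of_mem H.subtype hx))
    set K0 : Subgroup G := Subgroup.closure
      {g : G | g ∈ H ∧ g ∈ Subgroup.centralizer (Q : Set G) ∧ (orderOf g).Coprime p} with hK0
    have hK0le : K0 ≤ ((Cfsg.pResidual p C').map C'.subtype).map H.subtype := by
      rw [hK0, Subgroup.closure_le]
      rintro g ⟨hg, hgC, hgo⟩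
      refine ⟨⟨g, hg⟩, ⟨⟨⟨g, hg⟩, hgC⟩, mem_pResidual_of_coprime ?_, rfl⟩, rfl⟩
      show (orderOf (⟨⟨g, hg⟩, _⟩ : C')).Coprime p
      rwa [← Subgroup.orderOf_coe, ← Subgroup.orderOf_coe]
    have hK0C : K0 ≤ Subgroup.centralizer (Q : Set G) := by
      rw [hK0, Subgroup.closure_le]; exact fun g hg => hg.2.1
    have hK0H : K0 ≤ H := by
      rw [hK0, Subgroup.closure_le]; exact fun g hg => hg.1
    have hdecomp : ∀ g ∈ H, g ∈ Subgroup.centralizer (Q : Set G) → ∃ k ∈ K0, ∃ q ∈ Q, k * q = g := by
      intro g hg hgC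
      have : (Cfsg.pResidual p C').Normal := pResidual_normal
      obtain ⟨r, hr, t, ht, hrt⟩ := Subgroup.mem_sup_of_normal_left.mp
        (show (⟨⟨g, hg⟩, hgC⟩ : C') ∈ Cfsg.pResidual p C' ⊔ (TC : Subgroup C') by rw [pResidual_sup_sylow]; trivial)
      refine ⟨((r : H) : G), Subgroup.subset_closure ⟨(r : H).2, r.2, ?_⟩, ((t : H) : G),
        hT.le (Subgroup.mem_map_of_mem H.subtype ht), congrArg (fun z : C' => ((z : H) : G)) hrt⟩
      rw [Subgroup.orderOf_coe, Subgroup.orderOf_coe]
      exact (CfsgLib.PCore.coprime_of_not_dvd (hasNormalPComplement_iff.1 hCc)).coprime_dvd_left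
        (Subgroup.orderOf_dvd_natCard _ hr)
    have hPK : (P : Subgroup G) ≤ Subgroup.normalizer (K0 : Set G) := fun x hx => by
      refine Subgroup.mem_normalizer_fintype (S := (K0 : Set G)) fun k hk => ?_
      suffices K0 ≤ K0.comap (MulAut.conj x).toMonoidHom from this hk
      conv_lhs => rw [hK0]
      rw [Subgroup.closure_le]
      rintro g ⟨hg, hgC, hgo⟩
      refine Subgroup.subset_closure ⟨(inferInstance : H.Normal).conj_mem g hg x, ?_, ?_⟩
      · refine Subgroup.mem_centralizer_iff.2 fun q hq => ?_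
        show q * (x * g * x⁻¹) = x * g * x⁻¹ * q
        have hxq : x⁻¹ * q = q * x⁻¹ := hPQ x⁻¹ (inv_mem hx) q hq
        calc q * (x * g * x⁻¹) = (x * q) * g * x⁻¹ := by rw [hPQ x hx q hq]; group
          _ = x * (g * q) * x⁻¹ := by rw [← Subgroup.mem_centralizer_iff.1 hgC q hq]; group
          _ = x * g * x⁻¹ * q := by rw [mul_assoc _ x⁻¹ q, hxq]; group
      · show (orderOf (MulAut.conj x g)).Coprime p
        rwa [MulEquiv.orderOf_eq]
    set L := (P : Subgroup G) ⊔ K0 with hL
    have hnP : ((n • P : Sylow p G) : Subgroup G) ≤ L := by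
      intro y hy
      have hx := mem_smul_sylow_iff.1 hy
      set x := n⁻¹ * y * n with hxdef
      have hc1 : x⁻¹ * n * x * n⁻¹ ∈ H := mul_mem (by simpa using (inferInstance : H.Normal).conj_mem n hnH x⁻¹) (inv_mem hnH)
      have hc2 : x⁻¹ * n * x * n⁻¹ ∈ Subgroup.centralizer (Q : Set G) := by
        refine Subgroup.mem_centralizer_iff.2 fun q hq => ?_
        have hq' : n⁻¹ * q * n ∈ Q := (Subgroup.mem_normalizer_iff''.1 hnQ q).1 hq
        have e1 : x * (n⁻¹ * q * n) = (n⁻¹ * q * n) * x := hPQ x hx _ hq'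
        have e2 : x⁻¹ * q = q * x⁻¹ := hPQ x⁻¹ (inv_mem hx) q hq
        calc q * (x⁻¹ * n * x * n⁻¹) = (x⁻¹ * q) * n * x * n⁻¹ := by rw [e2]; group
          _ = x⁻¹ * n * ((n⁻¹ * q * n) * x) * n⁻¹ := by group
          _ = x⁻¹ * n * x * n⁻¹ * q := by rw [← e1]; group
      obtain ⟨k, hk, q, hq, hkq⟩ := hdecomp _ hc1 hc2
      have e : y = x * (k * q) := by rw [hkq, hxdef]; group
      rw [e]
      exact mul_mem (Subgroup.mem_sup_left hx) (mul_mem (Subgroup.mem_sup_right hk) (Subgroup.mem_sup_left (hQP hq)))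
    obtain ⟨k, hk⟩ := MulAction.exists_smul_eq L ((n • P).subtype hnP) (P.subtype le_sup_left)
    simp_rw [Sylow.smul_subtype, Subgroup.smul_def] at hk
    have hk' : ((k : G) * n) • P = P := by rw [mul_smul]; exact Sylow.subtype_injective hk
    rw [Sylow.smul_eq_iff_mem_normalizer] at hk'
    obtain ⟨y, hy, k0, hk0, hyk⟩ := CfsgLib.CoprimeAction.exists_mul_of_mem_sup hPK k.2
    set n' := k0 * n with hn'def
    have hn'N : n' ∈ Subgroup.normalizer ((P : Subgroup G) : Set G) := by
      have h := mul_mem (inv_mem (Subgroup.le_normalizer hy)) hk'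
      rwa [← hyk, mul_assoc, inv_mul_cancel_left] at h
    have hn'H : n' ∈ H := mul_mem (hK0H hk0) hnH
    obtain ⟨a, b, hab, -, ⟨j, hj⟩, hbp, han, hbn⟩ := exists_pPart_mul (p := p) n'
    have haP := mem_of_pElement P (Subgroup.zpowers_le.2 hn'N han) hj
    have haC : a ∈ Subgroup.centralizer (Q : Set G) := Subgroup.mem_centralizer_iff.2 fun q hq => (hPQ a haP q hq).symm
    have hbC : b ∉ Subgroup.centralizer (Q : Set G) := fun h => hnC (by
      have h1 : n' ∈ Subgroup.centralizer (Q : Set G) := hab ▸ mul_mem haC h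
      have := mul_mem (inv_mem (hK0C hk0)) h1
      rwa [hn'def, inv_mul_cancel_left] at this)
    have hbN := Subgroup.zpowers_le.2 hn'N hbn
    rcases fix_or_fpf P hP hbN hbp with h | ⟨-, h⟩
    · exact hbC (Subgroup.centralizer_le hQP h)
    · refine hQne (h.ge.trans (Subgroup.commutator_le.2 fun x hx c hc => ?_))
      have hcH : c ∈ H := Subgroup.zpowers_le.2 (Subgroup.zpowers_le.2 hn'H hbn) hc
      rw [commutatorElement_def]
      exact mul_mem ((inferInstance : H.Normal).conj_mem c hcH x) (inv_mem hcH)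
  refine ⟨hcompl, ?_⟩
  set K := (Cfsg.pResidual p H).map H.subtype with hK
  have hchar : (Cfsg.pResidual p H).Characteristic := pResidual_characteristic
  have hKn : K.Normal := ConjAct.normal_of_characteristic_of_normal
  have hKc : ¬ p ∣ Nat.card K := by
    rw [hK, Subgroup.card_map_of_injective H.subtype_injective]; exact hasNormalPComplement_iff.1 hcompl
  refine CfsgLib.PCore.isPSolvable_of_normal K
    (CfsgLib.PCore.isPSolvable_of_coprime (CfsgLib.PCore.coprime_of_not_dvd hKc)) ?_
  let PK := P.mapSurjective (QuotientGroup.mk'_surjective K)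
  have hPKc : IsCyclic (PK : Subgroup (G ⧸ K)) :=
    isCyclic_of_surjective ((QuotientGroup.mk' K).subgroupMap (P : Subgroup G)) (MonoidHom.subgroupMap_surjective _ _)
  have hHn : (H.map (QuotientGroup.mk' K)).Normal :=
    Subgroup.Normal.map inferInstance _ (QuotientGroup.mk'_surjective K)
  refine isPSolvable_of_normal_cyclic PK hPKc (H.map (QuotientGroup.mk' K)) ?_ ?_
  · refine (isPGroup_quotient_pResidual (p := p) (G := H)).of_surjective
      (QuotientGroup.lift _ ((QuotientGroup.mk' K).subgroupMap H) fun x hx => ?_) ?_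
    · exact Subtype.ext ((QuotientGroup.eq_one_iff _).2 ⟨x, hx, rfl⟩)
    · intro y
      obtain ⟨x, hx⟩ := MonoidHom.subgroupMap_surjective (QuotientGroup.mk' K) H y
      exact ⟨x, hx⟩
  · intro h
    rw [Subgroup.map_eq_bot_iff, QuotientGroup.ker_mk'] at h
    exact hKc (h1.trans (Subgroup.card_dvd_of_le h))

end Cfsg.Agent.S4145
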