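import Cfsg.Statements.S4155
import Mathlib
import Cfsg.Agent.S3939
import Cfsg.Agent.Hall.StructBatch
import Cfsg.Agent.Frob.Semidirect
import Cfsg.Agent.Frob.Structure

set_option autoImplicit false
open Cfsg

namespace Cfsg.Agent.S4155

/-- In an equal-order pair, a `q`-element outside `N` commutes with no nontrivial element of `N` of order prime to `q`. -/
theorem no_fixed {G : Type*} [Group G] [Finite G] {N : Subgroup G}
    (heq : ∀ x : G, x ∉ N → ∀ n ∈ N, orderOf (x * n) = orderOf x) {x n : G}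
    (hx : x ∉ N) (hn : n ∈ N) (hc : Commute x n) (hco : (orderOf x).Coprime (orderOf n)) : n = 1 := by
  have h := heq x hx n hn
  rw [hc.orderOf_mul_eq_mul_orderOf_of_coprime hco] at h
  exact orderOf_eq_one_iff.1 ((Nat.mul_eq_left (orderOf_pos x).ne').1 h)

/-- Let G be a finite group and N a proper non-trivial normal nilpotent subgroup whose order is not a prime power, such that for every x outside N all elements of the coset xN have the same order as x. Then N is the Fitting subgroup of G, and for every prime q every Sylow q-subgroup of G/N is cyclic or generalized quaternion. -/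
theorem result {G : Type*} [Group G] [Finite G] (N : Subgroup G) [N.Normal] (hN1 : N ≠ ⊥) (hN2 : N ≠ ⊤)
    (heq : ∀ x : G, x ∉ N → ∀ n ∈ N, orderOf (x * n) = orderOf x)
    (hnil : Group.IsNilpotent N) (hnpp : ¬ IsPrimePow (Nat.card N)) :
    N = Cfsg.fittingSubgroup G ∧
    ∀ (q : ℕ) [Fact q.Prime] (Q : Sylow q (G ⧸ N)), IsCyclic (Q : Subgroup (G ⧸ N)) ∨ ∃ n : ℕ, Nonempty ((Q : Subgroup (G ⧸ N)) ≃* QuaternionGroup (2 ^ n)) := by
  classical
  haveI := hnil
  -- a prime different from a given one dividing |N|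
  have hr : ∀ q : ℕ, q.Prime → ∃ r : ℕ, r.Prime ∧ r ≠ q ∧ r ∣ Nat.card N := by
    intro q hq
    by_contra hcon
    push Not at hcon
    apply hnpp
    have h1 : Nat.card N ≠ 1 := fun h => hN1 (Subgroup.card_eq_one.1 h)
    have hfac : (Nat.card N).primeFactors ⊆ {q} := by
      intro r hr
      rw [Finset.mem_singleton]
      by_contra hne
      exact hcon r (Nat.prime_of_mem_primeFactors hr) hne (Nat.dvd_of_mem_primeFactors hr)
    refine ⟨q, (Nat.card N).factorization q, hq.prime, ?_, ?_⟩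
    · obtain ⟨s, hs, hsd⟩ := Nat.exists_prime_and_dvd h1
      have hmem : s ∈ (Nat.card N).primeFactors := Nat.mem_primeFactors.2 ⟨hs, hsd, Nat.card_pos.ne'⟩
      have := Finset.mem_singleton.1 (hfac hmem)
      subst this
      exact hs.factorization_pos_of_dvd Nat.card_pos.ne' hsd
    · refine (Nat.eq_pow_of_factorization_eq_single Nat.card_pos.ne' ?_).symm
      ext r
      rcases eq_or_ne r q with rfl | hne
      · simp
      · rw [Finsupp.single_eq_of_ne hne]
        by_contra h0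
        exact hne (Finset.mem_singleton.1 (hfac (Nat.support_factorization (Nat.card N) ▸ Finsupp.mem_support_iff.2 h0)))
  -- the part of a lift which is a q-element
  have hlift : ∀ (q : ℕ), q.Prime → ∀ g : G, ∀ k : ℕ, g ^ q ^ k ∈ N → g ∉ N →
      ∃ x : G, x ∉ N ∧ (∃ j, orderOf x = q ^ j) ∧ ∃ b, x = g ^ b := by
    intro q hq g k hk hg
    obtain ⟨a, b, hqb, hab⟩ := Nat.exists_eq_pow_mul_and_not_dvd (orderOf_pos g).ne' q hq.ne_one
    refine ⟨g ^ b, fun hb => ?_, ⟨a, ?_⟩, b, rfl⟩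
    · apply hg
      have h1 : ((g : G ⧸ N)) ^ q ^ k = 1 := by
        rw [← QuotientGroup.mk_pow, QuotientGroup.eq_one_iff]; exact hk
      have h2 : ((g : G ⧸ N)) ^ b = 1 := by
        rw [← QuotientGroup.mk_pow, QuotientGroup.eq_one_iff]; exact hb
      rw [← QuotientGroup.eq_one_iff, ← orderOf_eq_one_iff]
      exact Nat.eq_one_of_dvd_coprimes ((hq.coprime_iff_not_dvd.2 hqb).pow_left k)
        (orderOf_dvd_of_pow_eq_one h1) (orderOf_dvd_of_pow_eq_one h2)
    · rw [orderOf_pow_of_dvd ?_ (hab ▸ dvd_mul_left b (q ^ a)), hab, Nat.mul_div_cancel _ ?_]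
      · exact Nat.pos_of_ne_zero (by rintro rfl; exact hqb (dvd_zero q))
      · rintro rfl; exact hqb (dvd_zero q)
  -- a normal subgroup centralized by `N` consisting of elements of order 1 or r
  have hW : ∀ r : ℕ, r.Prime → r ∣ Nat.card N → ∃ W : Subgroup G, W.Normal ∧ W ≠ ⊥ ∧
      ∀ w ∈ W, w ∈ N ∧ (∀ n ∈ N, Commute n w) ∧ w ^ r = 1 := by
    intro r hr hd
    haveI := Fact.mk hr
    let W : Subgroup G :=
      { carrier := {w | w ∈ N ∧ (∀ n ∈ N, Commute n w) ∧ w ^ r = 1}
        one_mem' := ⟨one_mem _, fun n _ => Commute.one_right n, one_pow r⟩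
        mul_mem' := fun {a b} ha hb => ⟨mul_mem ha.1 hb.1, fun n hn => (ha.2.1 n hn).mul_right (hb.2.1 n hn), by
          rw [(hb.2.1 a ha.1).mul_pow, ha.2.2, hb.2.2, one_mul]⟩
        inv_mem' := fun {a} ha => ⟨inv_mem ha.1, fun n hn => (ha.2.1 n hn).inv_right, by
          rw [inv_pow, ha.2.2, inv_one]⟩ }
    refine ⟨W, ⟨fun w hw g => ⟨‹N.Normal›.conj_mem w hw.1 g, fun n hn => ?_, ?_⟩⟩, ?_, fun w hw => hw⟩
    · have h := (hw.2.1 _ (‹N.Normal›.conj_mem n hn g⁻¹)).eq
      show n * (g * w * g⁻¹) = g * w * g⁻¹ * n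
      have := congrArg (fun t => g * t * g⁻¹) h
      simpa [mul_assoc] using this
    · rw [conj_pow, hw.2.2, mul_one, mul_inv_cancel]
    · obtain ⟨R⟩ : Nonempty (Sylow r N) := inferInstance
      haveI : (R : Subgroup N).Normal :=
        Sylow.normal_of_normalizerCondition normalizerCondition_of_isNilpotent R
      have hne := CfsgLib.Hall.Struct.inf_center_ne_bot (R : Subgroup N) (R.ne_bot_of_dvd_card hd)
      intro hbot
      apply hne
      rw [Subgroup.eq_bot_iff_forall]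
      intro z hz
      obtain ⟨j, hj⟩ := IsPGroup.iff_orderOf.1 R.2 ⟨z, hz.1⟩
      rw [Subgroup.orderOf_mk] at hj
      rcases j with _ | j
      · exact orderOf_eq_one_iff.1 (by simpa using hj)
      exfalso
      have hy : ((z ^ r ^ j : N) : G) ∈ W := by
        refine ⟨(z ^ r ^ j : N).2, fun n hn => ?_, ?_⟩
        · exact congrArg Subtype.val (Subgroup.mem_center_iff.1 (pow_mem hz.2 (r ^ j)) ⟨n, hn⟩)
        · rw [← Subgroup.coe_pow, ← pow_mul, ← pow_succ, ← hj, pow_orderOf_eq_one]; rfl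
      rw [hbot, Subgroup.mem_bot] at hy
      have h1 : orderOf z ∣ r ^ j := orderOf_dvd_of_pow_eq_one (Subtype.ext hy)
      rw [hj] at h1
      have := (Nat.pow_dvd_pow_iff_le_right hr.one_lt).1 h1
      omega
  refine ⟨?_, ?_⟩
  · refine le_antisymm (le_sSup ⟨inferInstance, hnil⟩) (sSup_le ?_)
    rintro M ⟨hMn, hMnil⟩ x hxM
    haveI := hMn
    haveI := hMnil
    by_contra hxN
    -- some prime power part of x lies outside N
    obtain ⟨y, hyM, hyN, q, hq, j, hj⟩ : ∃ y ∈ M, y ∉ N ∧ ∃ q : ℕ, q.Prime ∧ ∃ j, orderOf y = q ^ j := by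
      have hx1 : (x : G ⧸ N) ≠ 1 := by rwa [Ne, QuotientGroup.eq_one_iff]
      obtain ⟨q, hq, hqd⟩ := Nat.exists_prime_and_dvd (fun h => hx1 (orderOf_eq_one_iff.1 h))
      obtain ⟨m, hm⟩ := hqd
      have hg : x ^ m ∉ N := fun h => by
        have h1 : orderOf (x : G ⧸ N) ∣ m := orderOf_dvd_of_pow_eq_one
          (by rw [← QuotientGroup.mk_pow, QuotientGroup.eq_one_iff]; exact h)
        have hmpos : 0 < m := Nat.pos_of_ne_zero (by rintro rfl; exact (orderOf_pos (x : G ⧸ N)).ne' (by simp [hm]))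
        have h2 := Nat.le_of_dvd hmpos h1
        rw [hm] at h2
        nlinarith [hq.two_le]
      have hgq : (x ^ m) ^ q ^ 1 ∈ N := by
        rw [pow_one, ← pow_mul, ← QuotientGroup.eq_one_iff, QuotientGroup.mk_pow, mul_comm, ← hm, pow_orderOf_eq_one]
      obtain ⟨y, hy, ⟨j, hj⟩, b, rfl⟩ := hlift q hq _ 1 hgq hg
      exact ⟨_, pow_mem (pow_mem hxM m) b, hy, q, hq, j, hj⟩
    obtain ⟨r, hr', hrq, hrd⟩ := hr q hq
    obtain ⟨W, hWn, hWne, hW'⟩ := hW r hr' hrd
    haveI := hWn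
    obtain ⟨⟨w, hwW⟩, hw1⟩ : ∃ w : W, w ≠ 1 := by
      haveI := (Subgroup.nontrivial_iff_ne_bot W).2 hWne
      exact exists_ne 1
    obtain ⟨hwN, hwc, hwr⟩ := hW' w hwW
    have hw1' : w ≠ 1 := fun h => hw1 (Subtype.ext h)
    have how : orderOf w = r := by
      haveI := Fact.mk hr'
      exact orderOf_eq_prime hwr hw1'
    have hco : (orderOf y).Coprime (orderOf w) := by
      rw [hj, how]; exact Nat.Coprime.pow_left _ ((Nat.coprime_primes hq hr').2 hrq.symm)
    -- the commutator of y and w lies in M ∩ W and, as both are nilpotent normal, vanishes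
    have hMF : M ≤ Cfsg.fittingSubgroup G := le_sSup ⟨hMn, hMnil⟩
    have hNF : N ≤ Cfsg.fittingSubgroup G := le_sSup ⟨inferInstance, hnil⟩
    haveI : Group.IsNilpotent ↥(Cfsg.fittingSubgroup G) := CfsgLib.Components.fittingSubgroup_isNilpotent
    have hyw : Commute y w := congrArg Subtype.val (Cfsg.Agent.S3939.commute_of_coprime_nilpotent
      (a := (⟨y, hMF hyM⟩ : ↥(Cfsg.fittingSubgroup G))) (b := ⟨w, hNF hwN⟩)
      (by rwa [Subgroup.orderOf_mk, Subgroup.orderOf_mk]))
    exact hw1' (no_fixed heq hyN hwN hyw hco)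
  · intro q hq Q
    rcases subsingleton_or_nontrivial (Q : Subgroup (G ⧸ N)) with hs | hnt
    · exact Or.inl inferInstance
    obtain ⟨r, hr', hrq, hrd⟩ := hr q hq.out
    haveI := Fact.mk hr'
    obtain ⟨W, hWn, hWne, hW'⟩ := hW r hr' hrd
    haveI := hWn
    haveI := (Subgroup.nontrivial_iff_ne_bot W).2 hWne
    let ψ : G ⧸ N →* MulAut W := QuotientGroup.lift N (MulAut.conjNormal (H := W)) (fun n hn => by
      refine MulEquiv.ext fun w => Subtype.ext ?_
      rw [MulAut.conjNormal_apply, ((hW' w w.2).2.1 n hn).eq, mul_inv_cancel_right]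
      rfl)
    have hfpf : ∀ u : (Q : Subgroup (G ⧸ N)), u ≠ 1 → ∀ w : W,
        (ψ.comp (Q : Subgroup (G ⧸ N)).subtype) u w = w → w = 1 := by
      rintro ⟨u, hu⟩ hu1 ⟨w, hw⟩ hfix
      obtain ⟨g, rfl⟩ := QuotientGroup.mk_surjective u
      obtain ⟨k, hk⟩ := Q.2 ⟨(g : G ⧸ N), hu⟩
      have hgN : g ∉ N := fun h => hu1 (Subtype.ext ((QuotientGroup.eq_one_iff g).2 h))
      obtain ⟨x, hxN, ⟨j, hj⟩, b, rfl⟩ := hlift q hq.out g k (by
        rw [← QuotientGroup.eq_one_iff, QuotientGroup.mk_pow]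
        exact congrArg Subtype.val hk) hgN
      have hgw : Commute g w := by
        have h := congrArg Subtype.val hfix
        simp only [ψ, MonoidHom.comp_apply, Subgroup.coe_subtype, QuotientGroup.lift_mk,
          MulAut.conjNormal_apply] at h
        exact mul_inv_eq_iff_eq_mul.1 h
      obtain ⟨hwN, -, hwr⟩ := hW' w hw
      refine Subtype.ext (no_fixed heq hxN hwN (hgw.pow_left b) ?_)
      rw [hj]
      refine Nat.Coprime.pow_left _ (Nat.Coprime.coprime_dvd_right (orderOf_dvd_of_pow_eq_one hwr) ?_)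
      exact (Nat.coprime_primes hq.out hr').2 hrq.symm
    obtain ⟨L, i1, i2, C, hC, ⟨e⟩, -⟩ :=
      CfsgLib.Frob.hasFC_of_aut (ψ.comp (Q : Subgroup (G ⧸ N)).subtype) hfpf
    have hlat : CfsgLib.Frob.LatFpf (Q : Subgroup (G ⧸ N)) :=
      (CfsgLib.Frob.latFpf_of_complement hC).comp e.toMonoidHom e.injective
    have hu := hlat.uniqueOrderP (P := (⊤ : Subgroup (Q : Subgroup (G ⧸ N)))) (Q.2.to_subgroup ⊤)
    have hu' : CfsgLib.RankOneP.UniqueOrderP q (Q : Subgroup (G ⧸ N)) := fun a c ha hc ha1 => by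
      obtain ⟨i, hi⟩ := hu ⟨a, trivial⟩ ⟨c, trivial⟩ (Subtype.ext ha) (Subtype.ext hc)
        (fun h => ha1 (congrArg Subtype.val h))
      exact ⟨i, congrArg Subtype.val hi⟩
    rcases CfsgLib.RankOneP.isCyclic_or_quaternion Q.2 hu' with hc | ⟨-, k, -, he⟩
    · exact Or.inl hc
    · exact Or.inr ⟨k, he⟩

end Cfsg.Agent.S4155
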