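import Cfsg.Statements.S4237
import Cfsg.Agent.H29.KulakoffMain

set_option autoImplicit false
open Cfsg

namespace Cfsg.Agent.S4237

/-- Let G be a finite group, p a prime and a a natural number such that p^(a+1) divides the order of G. Then the number of subgroups of G of order p^a is congruent to 1 or to 1 + p modulo p². -/
theorem result {G : Type*} [Group G] [Finite G] (p a : ℕ) (hp : p.Prime) (hdvd : p ^ (a + 1) ∣ Nat.card G) :
    Nat.card {H : Subgroup G // Nat.card H = p ^ a} ≡ 1 [MOD p ^ 2] ∨
      Nat.card {H : Subgroup G // Nat.card H = p ^ a} ≡ 1 + p [MOD p ^ 2] := by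
  classical
  haveI : Fact p.Prime := ⟨hp⟩
  obtain ⟨P⟩ : Nonempty (Sylow p G) := inferInstance
  have hP := P.card_eq_multiplicity
  have ha : a < (Nat.card G).factorization p := by
    have := (hp.pow_dvd_iff_le_factorization Nat.card_pos.ne').1 hdvd
    omega
  have h1 := H29.Kulakoff.sylow_reduce P hP ha
  have h2 := H29.Kulakoff.value (p := p) _ a (G := (P : Subgroup G)) hP ha
  rw [H29.Kulakoff.top_eq_bot] at h2
  have e : Nat.card {H : Subgroup G // Nat.card H = p ^ a} =
      (H29.Kulakoff.between (⊥ : Subgroup G) ⊤ (p ^ a)).card := by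
    rw [H29.Kulakoff.between_bot]
    exact Nat.card_congr
      { toFun := fun S => ⟨S.1.subgroupOf ⊤,
          (Nat.card_congr (Subgroup.subgroupOfEquivOfLe le_top).toEquiv).trans S.2⟩
        invFun := fun S => ⟨S.1.map (Subgroup.subtype _),
          (Subgroup.card_map_of_injective (Subgroup.subtype_injective _)).trans S.2⟩
        left_inv := fun S => Subtype.ext (Subgroup.map_subgroupOf_eq_of_le le_top)
        right_inv := fun S => Subtype.ext (Subgroup.comap_map_eq_self_of_injective
          (Subgroup.subtype_injective _) _) }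
  rw [e]
  exact h2.imp h1.trans h1.trans

end Cfsg.Agent.S4237
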