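import Cfsg.Statements.S4242
import Cfsg.Agent.Transfer.Frobenius
import Cfsg.Agent.S3939
import Cfsg.Agent.Hall.Schmidt

set_option autoImplicit false
open Cfsg
open scoped Pointwise

namespace Cfsg.Agent.S4242

theorem commute_le {G : Type*} [Group G] [Finite G] {L : Subgroup G} (hL : Group.IsNilpotent L)
    {a b : G} (ha : a ∈ L) (hb : b ∈ L) (h : (orderOf a).Coprime (orderOf b)) : a * b = b * a := by
  have := hL
  have h1 := Cfsg.Agent.S3939.commute_of_coprime_nilpotent (K := L) (a := ⟨a, ha⟩) (b := ⟨b, hb⟩)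
    (by rwa [Subgroup.orderOf_mk, Subgroup.orderOf_mk])
  exact congrArg Subtype.val h1

theorem forward {G : Type*} [Group G] [Finite G] {p : ℕ} [hp : Fact p.Prime]
    (hpG : p ∣ Nat.card G) (h : ∀ M : Subgroup G, IsCoatom M → p ∣ Nat.card M → Group.IsNilpotent M)
    (hnil : ¬ Group.IsNilpotent G) (hmnn : ¬ Cfsg.IsMinimalNonNilpotent G) :
    ∃ Z K : Subgroup G, Z.Normal ∧ K.Normal ∧ Z ⊓ K = ⊥ ∧ Z ⊔ K = ⊤ ∧ Nat.card Z = p ∧
      Cfsg.IsMinimalNonNilpotent K ∧ ¬ p ∣ Nat.card K := by
  classical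
  have hsub : ∀ L : Subgroup G, L ≠ ⊤ → p ∣ Nat.card L → Group.IsNilpotent L := fun L hL hd => by
    obtain ⟨M, hM, hle⟩ := (eq_top_or_exists_le_coatom L).resolve_left hL
    have := h M hM (hd.trans (Subgroup.card_dvd_of_le hle))
    exact CfsgLib.Hall.isNilpotent_of_le hle
  obtain ⟨M, hM, hMn, hMp⟩ : ∃ M : Subgroup G, IsCoatom M ∧ ¬ Group.IsNilpotent M ∧ ¬ p ∣ Nat.card M := by
    by_contra hno
    refine hmnn ⟨hnil, fun L hL => ?_⟩
    obtain ⟨M, hM, hle⟩ := (eq_top_or_exists_le_coatom L).resolve_left hL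
    by_contra hc
    have hMn : ¬ Group.IsNilpotent M := fun hn => hc (by
      have := hn; exact CfsgLib.Hall.isNilpotent_of_le hle)
    exact hno ⟨M, hM, hMn, fun hd => hMn (h M hM hd)⟩
  have hcop : ∀ a b : G, (∃ k, orderOf a = p ^ k) → (¬ p ∣ orderOf b) → (orderOf a).Coprime (orderOf b) := by
    rintro a b ⟨k, hk⟩ hb
    rw [hk]
    exact (hp.out.coprime_iff_not_dvd.mpr hb).pow_left k
  have hord : ∀ m ∈ M, ¬ p ∣ orderOf m := fun m hm hd =>
    hMp (hd.trans (Subgroup.orderOf_dvd_natCard _ hm))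
  by_cases hU : ∃ U : Subgroup G, U.Normal ∧ IsPGroup p U ∧ U ≠ ⊥
  · obtain ⟨U, hUn, hUp, hUb⟩ := hU
    have hWM : ∀ W : Subgroup G, W.Normal → IsPGroup p W → W ≠ ⊥ → W ⊓ M = ⊥ ∧ M.index = Nat.card W ∧
        W ⊔ M = ⊤ := by
      intro W hWn hW hWb
      have := hWn
      obtain ⟨k, hk⟩ := IsPGroup.iff_card.mp hW
      have hdisj : W ⊓ M = ⊥ := Subgroup.inf_eq_bot_of_coprime (by
        rw [hk]; exact (hp.out.coprime_iff_not_dvd.mpr hMp).pow_left k)
      have hsup : W ⊔ M = ⊤ := hM.2 _ (lt_of_le_of_ne le_sup_right fun e => hWb (by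
        rw [← hdisj, inf_eq_left.mpr (le_sup_left.trans e.ge)]))
      refine ⟨hdisj, ?_, hsup⟩
      have hc : W.IsComplement' M := Subgroup.isComplement'_of_disjoint_and_mul_eq_univ
        (disjoint_iff.mpr hdisj) (by rw [← Subgroup.normal_mul W M, hsup, Subgroup.coe_top])
      exact hc.index_eq_card
    obtain ⟨hdisj, hidx, hsup⟩ := hWM U hUn hUp hUb
    have hpU : p ∣ Nat.card U := by
      obtain ⟨k, hk⟩ := IsPGroup.iff_card.mp hUp
      rw [hk]
      refine dvd_pow_self p fun hk0 => hUb ?_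
      rw [← Subgroup.card_eq_one, hk, hk0, pow_zero]
    have hUL : ∀ L : Subgroup G, L < M → U ⊔ L ≠ ⊤ := by
      intro L hL e
      refine hL.not_ge fun m hm => ?_
      have hm' : m ∈ U ⊔ L := e ▸ Subgroup.mem_top m
      obtain ⟨u, hu, l, hl, rfl⟩ := Subgroup.mem_sup_of_normal_left.mp hm'
      have : u ∈ U ⊓ M := ⟨hu, by simpa using M.mul_mem hm (M.inv_mem (hL.le hl))⟩
      rw [hdisj, Subgroup.mem_bot] at this
      rwa [this, one_mul]
    have hUo : ∀ u ∈ U, ∃ k, orderOf u = p ^ k := fun u hu => by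
      obtain ⟨k, hk⟩ := IsPGroup.iff_orderOf.mp hUp ⟨u, hu⟩
      exact ⟨k, by rwa [Subgroup.orderOf_mk] at hk⟩
    have hcomm : ∀ u ∈ U, ∀ m ∈ M, u * m = m * u := by
      intro u hu m hm
      have hlt : Subgroup.zpowers m < M := lt_of_le_of_ne (Subgroup.zpowers_le.mpr hm) fun e => hMn (by
        rw [← e]
        letI := IsCyclic.commGroup (α := Subgroup.zpowers m)
        exact CommGroup.isNilpotent)
      have hn := hsub _ (hUL _ hlt) (hpU.trans (Subgroup.card_dvd_of_le le_sup_left))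
      exact commute_le hn (Subgroup.mem_sup_left hu) (Subgroup.mem_sup_right (Subgroup.mem_zpowers m))
        (hcop u m (hUo u hu) (hord m hm))
    have hMnormal : M.Normal := by
      rw [← Subgroup.normalizer_eq_top_iff, eq_top_iff, ← hsup, sup_le_iff]
      refine ⟨fun u hu => Subgroup.mem_normalizer_fintype fun m hm => ?_, Subgroup.le_normalizer⟩
      rw [hcomm u hu m hm, mul_inv_cancel_right]
      exact hm
    have hcard : Nat.card U = p := by
      have : Nontrivial U := U.nontrivial_iff_ne_bot.2 hUb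
      have := hUp.center_nontrivial
      obtain ⟨k, hk⟩ := IsPGroup.iff_card.mp (hUp.to_subgroup (Subgroup.center U))
      have hk0 : k ≠ 0 := fun e => by
        rw [e, pow_zero] at hk
        exact Nat.not_lt.mpr hk.le Finite.one_lt_card
      obtain ⟨z, hz⟩ := exists_prime_orderOf_dvd_card' (G := Subgroup.center U) p (hk ▸ dvd_pow_self p hk0)
      have hz' : orderOf ((z : U) : G) = p := by
        rw [Subgroup.orderOf_coe, Subgroup.orderOf_coe]; exact hz
      have hzc : ((z : U) : G) ∈ Subgroup.center G := by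
        rw [Subgroup.mem_center_iff]
        intro g
        have hg : g ∈ U ⊔ M := hsup ▸ Subgroup.mem_top g
        obtain ⟨u, hu, m, hm, rfl⟩ := Subgroup.mem_sup_of_normal_left.mp hg
        have e1 : u * (z : U) = ((z : U) : G) * u :=
          congrArg Subtype.val (Subgroup.mem_center_iff.mp z.2 ⟨u, hu⟩)
        rw [mul_assoc, ← hcomm _ (z : U).2 m hm, ← mul_assoc, e1, mul_assoc]
      have hWn : (Subgroup.zpowers ((z : U) : G)).Normal := by
        refine ⟨fun n hn g => ?_⟩
        have : n ∈ Subgroup.center G := Subgroup.zpowers_le.mpr hzc hn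
        rw [Subgroup.mem_center_iff.mp this g, mul_inv_cancel_right]
        exact hn
      have hWc : Nat.card (Subgroup.zpowers ((z : U) : G)) = p := by rw [Nat.card_zpowers, hz']
      have h2 := (hWM _ hWn (IsPGroup.of_card (n := 1) (by rw [hWc, pow_one])) (fun e => hp.out.ne_one (by
        rw [← hWc, e, Subgroup.card_bot]))).2.1
      rw [← hidx, h2, hWc]
    refine ⟨U, M, hUn, hMnormal, hdisj, hsup, hcard, ⟨hMn, fun L hL => ?_⟩, hMp⟩
    have hlt : L.map M.subtype < M := by
      refine lt_of_le_of_ne (Subgroup.map_subtype_le L) fun e => hL ?_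
      apply Subgroup.map_injective M.subtype_injective
      rw [e, ← MonoidHom.range_eq_map, Subgroup.range_subtype]
    have hn := hsub _ (hUL _ hlt) (hpU.trans (Subgroup.card_dvd_of_le le_sup_left))
    have := hn
    have h2 : Group.IsNilpotent (L.map M.subtype) := CfsgLib.Hall.isNilpotent_of_le (le_sup_right (a := U))
    exact Group.nilpotent_of_mulEquiv (L.equivMapOfInjective M.subtype M.subtype_injective).symm
  exfalso
  push Not at hU
  have hloc : CfsgLib.Transfer.LocallyTrivial p G := by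
    intro Q hQ g hg hgo
    rw [Subgroup.mem_centralizer_iff]
    intro x hx
    by_cases hb : Q = ⊥
    · rw [hb, SetLike.mem_coe, Subgroup.mem_bot] at hx
      simp [hx]
    · have hN : Subgroup.normalizer (Q : Set G) ≠ ⊤ := fun e =>
        hb (hU Q (Subgroup.normalizer_eq_top_iff.mp e) hQ)
      obtain ⟨k, hk⟩ := IsPGroup.iff_card.mp hQ
      have hk0 : k ≠ 0 := fun e => hb (by rw [← Subgroup.card_eq_one, hk, e, pow_zero])
      have hd : p ∣ Nat.card (Subgroup.normalizer (Q : Set G)) :=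
        (hk ▸ dvd_pow_self p hk0).trans (Subgroup.card_dvd_of_le Subgroup.le_normalizer)
      refine commute_le (hsub _ hN hd) (Subgroup.le_normalizer hx) hg ?_
      obtain ⟨j, hj⟩ := IsPGroup.iff_orderOf.mp hQ ⟨x, hx⟩
      rw [Subgroup.orderOf_mk] at hj
      exact hcop x g ⟨j, hj⟩ fun hd => hp.out.coprime_iff_not_dvd.mp hgo.symm hd
  let P : Sylow p G := default
  obtain ⟨K, hKn, hKc⟩ := CfsgLib.Transfer.exists_complement (CfsgLib.Transfer.frobenius_normal_complement hloc) P
  have hKp : ¬ p ∣ Nat.card K := by rw [← hKc.index_eq_card]; exact P.not_dvd_index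
  have hKi : K.index = Nat.card (P : Subgroup G) := hKc.symm.index_eq_card
  have hPbot : (P : Subgroup G) ≠ ⊥ := P.ne_bot_of_dvd_card hpG
  have hMK : M ≤ K := by
    intro m hm
    rw [← QuotientGroup.eq_one_iff, ← orderOf_eq_one_iff]
    refine Nat.eq_one_of_dvd_coprimes ?_ (orderOf_map_dvd (QuotientGroup.mk' K) m) dvd_rfl
      |>.trans rfl
    obtain ⟨k, hk⟩ := IsPGroup.iff_orderOf.mp ((IsPGroup.of_card (G := G ⧸ K) (n := (Nat.card G).factorization p)
      (by rw [← Subgroup.index_eq_card, hKi, P.card_eq_multiplicity]))) (m : G ⧸ K)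
    rw [show orderOf ((QuotientGroup.mk' K) m) = p ^ k from hk]
    exact ((hp.out.coprime_iff_not_dvd.mpr (hord m hm)).pow_left k).symm
  have hKP : ∀ x ∈ (P : Subgroup G), x ∈ K → x = 1 := fun x hx hxK =>
    Subgroup.disjoint_def.mp hKc.disjoint hxK hx
  let C : Subgroup K := (Subgroup.centralizer ((P : Subgroup G) : Set G)).subgroupOf K
  have hC : C = ⊤ := by
    rw [← Subgroup.index_eq_one]
    by_contra hne
    obtain ⟨r, hr, hdr⟩ := Nat.exists_prime_and_dvd hne
    have := Fact.mk hr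
    let Q0 : Sylow r K := default
    have hfr : Subgroup.normalizer ((((Q0 : Subgroup K).map K.subtype) : Subgroup G) : Set G) ⊔ K = ⊤ :=
      Sylow.normalizer_sup_eq_top Q0
    set N := Subgroup.normalizer ((((Q0 : Subgroup K).map K.subtype) : Subgroup G) : Set G) with hN
    have hdvd : p ^ (Nat.card G).factorization p ∣ Nat.card N := by
      have h1 : K.relIndex N = K.index := by
        rw [← Subgroup.relIndex_sup_right N K, hfr, Subgroup.relIndex_top_right]
      rw [← P.card_eq_multiplicity, ← hKi, ← h1]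
      exact Subgroup.relIndex_dvd_card K N
    obtain ⟨S, hS⟩ := Sylow.exists_subgroup_card_pow_prime (G := N) p hdvd
    let P' : Sylow p G := Sylow.ofCard (S.map N.subtype)
      (by rw [Subgroup.card_map_of_injective N.subtype_injective]; exact hS)
    obtain ⟨c, hc⟩ := MulAction.exists_smul_eq G P' P
    let Q : Sylow r K := (⟨Q0, Q0.2, Q0.3⟩ : Sylow r K)
    let cK : MulAut K := MulAut.conjNormal c
    have hQn : ∀ x ∈ (P : Subgroup G), ∀ y ∈ ((Q0 : Subgroup K).map cK.toMonoidHom).map K.subtype,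
        x * y * x⁻¹ ∈ ((Q0 : Subgroup K).map cK.toMonoidHom).map K.subtype := by
      intro x hx y hy
      obtain ⟨z, ⟨w, hw, rfl⟩, rfl⟩ := hy
      rw [← hc] at hx
      obtain ⟨s, hs, rfl⟩ := hx
      obtain ⟨s', -, rfl⟩ := hs
      have h1 : (s' : G) * (w : G) * (s' : G)⁻¹ ∈ (Q0 : Subgroup K).map K.subtype :=
        (Subgroup.mem_normalizer_iff.mp s'.2 _).mp ⟨w, hw, rfl⟩
      obtain ⟨w', hw', he⟩ := h1
      refine ⟨cK w', ⟨w', hw', rfl⟩, ?_⟩
      change c * (w' : G) * c⁻¹ = c * (s' : G) * c⁻¹ * (c * (w : G) * c⁻¹) * (c * (s' : G) * c⁻¹)⁻¹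
      rw [show (w' : G) = (s' : G) * (w : G) * (s' : G)⁻¹ from he]
      group
    set R := (Q0 : Subgroup K).map cK.toMonoidHom with hR
    have hRp : IsPGroup r R := Q0.2.map _
    have hRidx : R.index = (Q0 : Subgroup K).index := Subgroup.index_map_equiv (Q0 : Subgroup K) cK
    have hPR : (P : Subgroup G) ≤ Subgroup.normalizer ((R.map K.subtype : Subgroup G) : Set G) :=
      fun x hx => Subgroup.mem_normalizer_fintype fun y hy => hQn x hx y hy
    by_cases htop : R.map K.subtype ⊔ (P : Subgroup G) = ⊤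
    · have hKR : ∀ k ∈ K, k ∈ R.map K.subtype := by
        intro k hk
        have hk' : k ∈ ((R.map K.subtype ⊔ (P : Subgroup G) : Subgroup G) : Set G) := htop ▸ Subgroup.mem_top k
        rw [Subgroup.coe_mul_of_right_le_normalizer_left _ _ hPR] at hk'
        obtain ⟨a, ha, b, hb, rfl⟩ := hk'
        have : b ∈ K := by
          simpa using K.mul_mem (K.inv_mem (Subgroup.map_subtype_le R ha)) hk
        show a * b ∈ _
        rwa [hKP b hb this, mul_one]
      exact hMn (((hRp.map K.subtype).to_le (fun m hm => hKR m (hMK hm))).isNilpotent)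
    · have hn := hsub _ htop ((Nat.dvd_of_mod_eq_zero (Nat.mod_eq_zero_of_dvd (show p ∣ Nat.card (P : Subgroup G) from by
          rw [P.card_eq_multiplicity]; exact dvd_pow_self p (hp.out.factorization_pos_of_dvd Nat.card_pos.ne' hpG).ne'))).trans
          (Subgroup.card_dvd_of_le le_sup_right))
      have hle : R ≤ C := by
        intro y hy
        rw [Subgroup.mem_subgroupOf, Subgroup.mem_centralizer_iff]
        intro x hx
        obtain ⟨k, hk⟩ := IsPGroup.iff_orderOf.mp P.2 ⟨x, hx⟩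
        rw [Subgroup.orderOf_mk] at hk
        exact commute_le hn (Subgroup.mem_sup_right hx) (Subgroup.mem_sup_left ⟨y, hy, rfl⟩)
          (hcop x y ⟨k, hk⟩ fun hd => hKp (hd.trans (Subgroup.orderOf_dvd_natCard K y.2)))
      exact Q0.not_dvd_index (hRidx ▸ hdr.trans (Subgroup.index_dvd_of_le hle))
  refine hPbot (hU P ?_ P.2)
  rw [← Subgroup.normalizer_eq_top_iff, eq_top_iff, ← hKc.sup_eq_top, sup_le_iff]
  refine ⟨fun k hk => Subgroup.mem_normalizer_fintype fun x hx => ?_, Subgroup.le_normalizer⟩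
  have hkC : (⟨k, hk⟩ : K) ∈ C := hC ▸ Subgroup.mem_top _
  rw [← Subgroup.mem_centralizer_iff.mp (Subgroup.mem_subgroupOf.mp hkC) x hx, mul_inv_cancel_right]
  exact hx

/-- Let G be a finite group and p a prime dividing its order. Every maximal subgroup of G of order divisible by p is nilpotent if and only if G is nilpotent, or G is a minimal non-nilpotent group, or G is the internal direct product of a normal subgroup of order p and a normal minimal non-nilpotent subgroup of order prime to p. -/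
theorem result {G : Type*} [Group G] [Finite G] (p : ℕ) (hp : p.Prime) (hpG : p ∣ Nat.card G) :
    (∀ M : Subgroup G, IsCoatom M → p ∣ Nat.card M → Group.IsNilpotent M) ↔
      (Group.IsNilpotent G ∨ Cfsg.IsMinimalNonNilpotent G ∨
        ∃ Z K : Subgroup G, Z.Normal ∧ K.Normal ∧ Z ⊓ K = ⊥ ∧ Z ⊔ K = ⊤ ∧ Nat.card Z = p ∧
          Cfsg.IsMinimalNonNilpotent K ∧ ¬ p ∣ Nat.card K) := by
  have := Fact.mk hp
  constructor
  · intro h
    by_cases hnil : Group.IsNilpotent G
    · exact Or.inl hnil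
    by_cases hmnn : Cfsg.IsMinimalNonNilpotent G
    · exact Or.inr (Or.inl hmnn)
    exact Or.inr (Or.inr (forward hpG h hnil hmnn))
  · rintro (hn | hn | ⟨Z, K, hZ, hK, hinf, hsup, hZc, ⟨-, hKn⟩, hKp⟩) M hM hdM
    · infer_instance
    · exact hn.2 M hM.1
    have hcomm : ∀ z ∈ Z, ∀ k ∈ K, z * k = k * z := fun z hz k hk =>
      (Subgroup.commute_of_normal_of_disjoint Z K hZ hK (disjoint_iff.mpr hinf) z k hz hk).eq
    obtain ⟨⟨m, hm⟩, hmo⟩ := exists_prime_orderOf_dvd_card' p hdM
    rw [Subgroup.orderOf_mk] at hmo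
    have hmd : m ∈ Z ⊔ K := hsup ▸ Subgroup.mem_top m
    obtain ⟨a, ha, k, hk, rfl⟩ := Subgroup.mem_sup_of_normal_left.mp hmd
    have hmp : a ^ p * k ^ p = 1 := by
      rw [← (show Commute a k from hcomm a ha k hk).mul_pow, ← hmo, pow_orderOf_eq_one]
    have hkp : k ^ p = 1 := by
      have hap : a ^ p = 1 := by
        rw [← hZc]; exact congrArg Subtype.val (pow_card_eq_one' (G := Z) (x := ⟨a, ha⟩))
      rwa [hap, one_mul] at hmp
    have hk1 : k = 1 := orderOf_eq_one_iff.mp (Nat.eq_one_of_dvd_coprimes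
      ((Fact.out : p.Prime).coprime_iff_not_dvd.mpr hKp) (orderOf_dvd_of_pow_eq_one hkp)
      (Subgroup.orderOf_dvd_natCard K hk))
    subst hk1
    rw [mul_one] at hm hmo
    have hZM : Z ≤ M := by
      have : Subgroup.zpowers a = Z := Subgroup.eq_of_le_of_card_ge (Subgroup.zpowers_le.mpr ha)
        (by rw [Nat.card_zpowers, hmo, hZc])
      exact this ▸ Subgroup.zpowers_le.mpr hm
    have hL : (M.subgroupOf K) ≠ ⊤ := fun e => hM.1 (eq_top_iff.mpr
      (hsup ▸ sup_le hZM (Subgroup.subgroupOf_eq_top.mp e)))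
    have := hKn _ hL
    have : IsCyclic Z := isCyclic_of_prime_card hZc
    let φ : Z →* M := (Subgroup.inclusion hZM)
    let ψ : M.subgroupOf K →* M :=
      (K.subtype.comp (M.subgroupOf K).subtype).codRestrict M fun x => x.2
    have : Group.IsNilpotent Z := (IsPGroup.of_card (p := p) (n := 1) (by rw [hZc, pow_one])).isNilpotent
    refine Group.nilpotent_of_surjective (φ.noncommCoprod ψ fun z y => Subtype.ext (hcomm z z.2 y y.1.2)) ?_
    rintro ⟨g, hg⟩
    have hgd : g ∈ Z ⊔ K := hsup ▸ Subgroup.mem_top g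
    obtain ⟨z, hz, y, hy, rfl⟩ := Subgroup.mem_sup_of_normal_left.mp hgd
    have hyM : y ∈ M := by simpa using M.mul_mem (M.inv_mem (hZM hz)) hg
    exact ⟨(⟨z, hz⟩, ⟨⟨y, hy⟩, hyM⟩), rfl⟩

end Cfsg.Agent.S4242
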