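import Cfsg.Statements.S4244

set_option autoImplicit false
open Cfsg

namespace Cfsg.Agent.S4244

/-- Let H be a subnormal subgroup of a finite group G. Then for every subgroup K of G the index of H ∩ K in H divides the index of K in G. -/
theorem result {G : Type*} [Group G] [Finite G] (H : Subgroup G) (hH : H.IsSubnormal) (K : Subgroup G) :
    (H ⊓ K).relIndex H ∣ K.index := by
  rw [Subgroup.inf_relIndex_left]
  induction hH with
  | top => rw [Subgroup.relIndex_top_right]
  | step H L hle hsub hN ih =>
    refine dvd_trans ?_ ih
    have := hN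
    have h1 : (K.subgroupOf L).relIndex (H.subgroupOf L) = K.relIndex H := by
      rw [Subgroup.relIndex_subgroupOf hle]
    rw [← h1, show K.relIndex L = (K.subgroupOf L).index from rfl]
    set A := K.subgroupOf L
    set B := H.subgroupOf L
    have e1 := Subgroup.relIndex_mul_index (inf_le_left : A ⊓ B ≤ A)
    have e2 := Subgroup.relIndex_mul_index (inf_le_right : A ⊓ B ≤ B)
    rw [Subgroup.inf_relIndex_left] at e1
    rw [Subgroup.inf_relIndex_right] at e2
    obtain ⟨c, hc⟩ : B.relIndex A ∣ B.index :=
      Subgroup.relIndex_dvd_index_of_normal B A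
    have hpos : 0 < B.relIndex A := 
      Nat.pos_of_ne_zero Subgroup.index_ne_zero_of_finite
    refine ⟨c, Nat.eq_of_mul_eq_mul_left hpos ?_⟩
    calc B.relIndex A * A.index = (A ⊓ B).index := e1
      _ = A.relIndex B * B.index := e2.symm
      _ = B.relIndex A * (A.relIndex B * c) := by rw [hc]; ring

end Cfsg.Agent.S4244
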