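import Cfsg.Statements.S4245
import Cfsg.Agent.CharBasics.Burnside
import Cfsg.Agent.S4244

set_option autoImplicit false
open Cfsg

namespace Cfsg.Agent.S4245

universe u

/-- A subgroup of prime power index which is cyclic-by-cyclic 2-group. -/
def Good (p : ℕ) (G : Type u) [Group G] : Prop :=
  ∃ (A : Subgroup G) (s : ℕ) (B : Subgroup A) (_ : B.Normal),
    A.index ∣ p ^ s ∧ IsCyclic B ∧ IsCyclic (A ⧸ B) ∧ IsPGroup 2 (A ⧸ B)

theorem good_subgroup {G : Type u} [Group G] [Finite G] {p : ℕ} (N : Subgroup G) [N.Normal]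
    (h : Good p G) : Good p N := by
  obtain ⟨A, s, B, hB, hi, hc, hq, h2⟩ := h
  let ι : A.subgroupOf N →* A := (N.subtype.comp (A.subgroupOf N).subtype).codRestrict A fun x => x.2
  have hι : Function.Injective ι := fun a b hab =>
    Subtype.ext (Subtype.ext (congrArg (fun z : A => (z : G)) hab))
  refine ⟨A.subgroupOf N, s, B.comap ι, inferInstance, ?_, ?_, ?_, ?_⟩
  · refine dvd_trans ?_ hi
    have := Cfsg.Agent.S4244.result N (Subgroup.Normal.isSubnormal inferInstance) A
    rwa [Subgroup.inf_relIndex_left] at this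
  · exact isCyclic_of_injective (ι.subgroupComap B) fun a b hab =>
      Subtype.ext (hι (congrArg (fun z : B => (z : A)) hab))
  all_goals
    have hinj : Function.Injective (QuotientGroup.map (B.comap ι) B ι le_rfl) := by
      rw [← MonoidHom.ker_eq_bot_iff, Subgroup.eq_bot_iff_forall]
      intro x hx
      obtain ⟨a, rfl⟩ := QuotientGroup.mk_surjective x
      rw [MonoidHom.mem_ker, QuotientGroup.map_mk] at hx
      exact (QuotientGroup.eq_one_iff a).mpr ((QuotientGroup.eq_one_iff (ι a)).mp hx)
  · exact isCyclic_of_injective _ hinj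
  · exact h2.of_injective _ hinj

theorem good_quotient {G : Type u} [Group G] [Finite G] {p : ℕ} (N : Subgroup G) [N.Normal]
    (h : Good p G) : Good p (G ⧸ N) := by
  obtain ⟨A, s, B, hB, hi, hc, hq, h2⟩ := h
  let π : A →* A.map (QuotientGroup.mk' N) := (QuotientGroup.mk' N).subgroupMap A
  have hπ : Function.Surjective π := MonoidHom.subgroupMap_surjective _ _
  have hn : (B.map π).Normal := hB.map π hπ
  refine ⟨A.map (QuotientGroup.mk' N), s, B.map π, hn, ?_, ?_, ?_, ?_⟩
  · exact (Subgroup.index_map_dvd A (QuotientGroup.mk'_surjective N)).trans hi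
  · exact isCyclic_of_surjective _ (π.subgroupMap_surjective B)
  all_goals
    have hsurj : Function.Surjective (QuotientGroup.map B (B.map π) π (Subgroup.le_comap_map _ _)) := by
      intro x
      obtain ⟨a, rfl⟩ := QuotientGroup.mk_surjective x
      obtain ⟨a, rfl⟩ := hπ a
      exact ⟨a, rfl⟩
  · exact isCyclic_of_surjective _ hsurj
  · exact h2.of_surjective _ hsurj

theorem simple_comm_of_good {G : Type u} [Group G] [Finite G] [IsSimpleGroup G] {p : ℕ} (hp : p.Prime)
    (h : Good p G) : ∀ x y : G, x * y = y * x := by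
  classical
  by_contra hna
  obtain ⟨A, s, B, hB, hi, hc, hq, h2⟩ := h
  have := Fact.mk hp
  have hcen : ∀ g : G, g ≠ 1 → Subgroup.centralizer ({g} : Set G) ≠ ⊤ := by
    intro g hg e
    rcases IsSimpleGroup.eq_bot_or_eq_top_of_normal (Subgroup.center G) inferInstance with h | h
    · have : g ∈ Subgroup.center G := Subgroup.mem_center_iff.mpr fun x =>
        Subgroup.mem_centralizer_singleton_iff.mp (e ▸ Subgroup.mem_top x)
      rw [h, Subgroup.mem_bot] at this
      exact hg this
    · exact hna fun x y => Subgroup.mem_center_iff.mp (h ▸ Subgroup.mem_top y) x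
  have hclass : ∀ (q : ℕ) (k : ℕ) (g : G), q.Prime → g ≠ 1 →
      (Subgroup.centralizer ({g} : Set G)).index ∣ q ^ k → False := by
    intro q k g hq hg hd
    obtain ⟨a, -, ha⟩ := (Nat.dvd_prime_pow hq).mp hd
    refine CfsgLib.CharBasics.not_isSimpleGroup_of_class_prime_pow hq g ha (Nat.pos_of_ne_zero fun h0 => ?_)
      inferInstance
    rw [h0, pow_zero, Subgroup.index_eq_one] at ha
    exact hcen g hg ha
  have hpg : ∀ (q k : ℕ), q.Prime → Nat.card G ∣ q ^ k → False := by
    intro q k hq hd
    have := Fact.mk hq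
    obtain ⟨a, -, ha⟩ := (Nat.dvd_prime_pow hq).mp hd
    have := (IsPGroup.of_card (G := G) ha).isNilpotent
    exact hna (IsSimpleGroup.comm_iff_isSolvable.mpr inferInstance)
  obtain ⟨r, hr⟩ := IsPGroup.iff_card.mp h2
  have hAc : Nat.card A = 2 ^ r * Nat.card B := by
    rw [← hr, ← Subgroup.card_eq_card_quotient_mul_card_subgroup]
  have hBi : (B.map A.subtype).index ∣ 2 ^ r * p ^ s := by
    rw [Subgroup.index_map_subtype, Subgroup.index_eq_card, hr]
    exact mul_dvd_mul_left _ hi
  by_cases hsame : p = 2 ∨ r = 0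
  · obtain ⟨q, k, hq, hqk⟩ : ∃ q k, q.Prime ∧ 2 ^ r * p ^ s ∣ q ^ k := by
      rcases hsame with h | h
      · exact ⟨2, r + s, Nat.prime_two, by rw [h, ← pow_add]⟩
      · exact ⟨p, s, hp, by rw [h, pow_zero, one_mul]⟩
    by_cases hBb : B = ⊥
    · refine hpg q k hq (dvd_trans ?_ hqk)
      rw [← A.card_mul_index, hAc, hBb, Subgroup.card_bot, mul_one]
      exact mul_dvd_mul_left _ hi
    · obtain ⟨b, hb⟩ : ∃ b : B, b ≠ 1 := by
        have := B.nontrivial_iff_ne_bot.2 hBb
        exact exists_ne 1
      refine hclass q k ((b : A) : G) hq (fun e => hb (Subtype.ext (Subtype.ext e))) (dvd_trans ?_ hqk)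
      refine dvd_trans (Subgroup.index_dvd_of_le ?_) hBi
      rintro _ ⟨x, hx, rfl⟩
      rw [Subgroup.mem_centralizer_singleton_iff]
      have := hc
      letI := IsCyclic.commGroup (α := B)
      exact congrArg (fun z : B => ((z : A) : G)) (mul_comm (⟨x, hx⟩ : B) b)
  rw [not_or] at hsame
  obtain ⟨hp2, hr0⟩ := hsame
  by_cases hB2 : 2 ∣ Nat.card B
  · obtain ⟨z, hz⟩ := exists_prime_orderOf_dvd_card' (G := B) 2 hB2
    have hz1 : z ≠ 1 := fun e => by rw [e, orderOf_one] at hz; omega
    have hz2 : z ^ 2 = 1 := hz ▸ pow_orderOf_eq_one z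
    have huniq : ∀ w : B, w ^ 2 = 1 → w ≠ 1 → w = z := by
      intro w hw hw1
      by_contra hne
      have := Fintype.ofFinite B
      have h3 : ({1, z, w} : Finset B) ⊆ (Finset.univ.filter fun a : B => a ^ 2 = 1) := by
        intro a ha
        simp only [Finset.mem_insert, Finset.mem_singleton] at ha
        rw [Finset.mem_filter]
        rcases ha with rfl | rfl | rfl <;> simp [hz2, hw]
      have h4 := Finset.card_le_card h3
      rw [Finset.card_insert_of_notMem (by simp [Ne.symm hz1, Ne.symm hw1]),
        Finset.card_insert_of_notMem (by simp [Ne.symm hne]), Finset.card_singleton] at h4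
      have := hc
      have h5 := IsCyclic.card_pow_eq_one_le (α := B) (n := 2) (by norm_num)
      omega
    refine hclass p s ((z : A) : G) hp (fun e => hz1 (Subtype.ext (Subtype.ext e))) (dvd_trans ?_ hi)
    refine Subgroup.index_dvd_of_le fun a ha => ?_
    rw [Subgroup.mem_centralizer_singleton_iff]
    have h1 : (⟨(⟨a, ha⟩ : A) * z * (⟨a, ha⟩ : A)⁻¹, hB.conj_mem _ z.2 _⟩ : B) = z := by
      refine huniq _ ?_ ?_
      · ext1
        rw [SubmonoidClass.coe_pow, conj_pow, ← SubmonoidClass.coe_pow, hz2]
        simp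
      · intro e
        have := congrArg Subtype.val e
        simp only [OneMemClass.coe_one, conj_eq_one_iff] at this
        exact hz1 (Subtype.ext this)
    have h2 := congrArg (fun w : B => ((w : A) : G)) h1
    simp only [Subgroup.coe_mul, InvMemClass.coe_inv, mul_inv_eq_iff_eq_mul] at h2
    exact h2
  · have := Fact.mk Nat.prime_two
    obtain ⟨S, hS⟩ := Sylow.exists_subgroup_card_pow_prime (G := A) 2 (hAc ▸ dvd_mul_right (2 ^ r) _)
    have hScyc : IsCyclic S := by
      refine isCyclic_of_injective ((QuotientGroup.mk' B).comp S.subtype) ?_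
      rw [← MonoidHom.ker_eq_bot_iff, Subgroup.eq_bot_iff_forall]
      intro x hx
      rw [MonoidHom.mem_ker, MonoidHom.comp_apply, QuotientGroup.mk'_apply, QuotientGroup.eq_one_iff] at hx
      have hd : S ⊓ B = ⊥ := Subgroup.inf_eq_bot_of_coprime (by
        rw [hS]; exact (Nat.prime_two.coprime_iff_not_dvd.mpr hB2).pow_left r)
      exact Subtype.ext (Subgroup.mem_bot.mp (hd ▸ ⟨x.2, hx⟩))
    obtain ⟨j, -, hj⟩ := (Nat.dvd_prime_pow hp).mp hi
    have hGf : (Nat.card G).factorization 2 = r := by
      rw [← A.card_mul_index, hj, hAc, Nat.factorization_mul (Nat.mul_ne_zero (by positivity) Nat.card_pos.ne')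
          (pow_ne_zero _ hp.ne_zero), Nat.factorization_mul (by positivity) Nat.card_pos.ne']
      simp [hp.factorization_pow, Finsupp.single_eq_of_ne (Ne.symm hp2), Nat.factorization_eq_zero_of_not_dvd hB2,
        Nat.prime_two.factorization_pow]
    let P : Sylow 2 G := Sylow.ofCard (S.map A.subtype)
      (by rw [Subgroup.card_map_of_injective A.subtype_injective, hGf]; exact hS)
    have hPc : IsCyclic P := isCyclic_of_surjective (S.equivMapOfInjective A.subtype A.subtype_injective).toMonoidHom
      (S.equivMapOfInjective A.subtype A.subtype_injective).surjective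
    have h2G : 2 ∣ Nat.card G := by
      have : r ≠ 0 := hr0
      exact (dvd_pow_self 2 this).trans ((hAc ▸ dvd_mul_right _ _ : 2 ^ r ∣ Nat.card A).trans (Subgroup.card_subgroup_dvd_card A))
    have hmin : (Nat.card G).minFac = 2 := by rw [Nat.minFac_eq_two_iff]; exact h2G
    have hcompl := IsCyclic.isComplement' hmin hPc
    rcases IsSimpleGroup.eq_bot_or_eq_top_of_normal _
      (MonoidHom.normal_ker (MonoidHom.transferSylow P (hPc.normalizer_le_centralizer hmin))) with h | h
    · rw [h, Subgroup.isComplement'_bot_left] at hcompl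
      refine hna fun x y => ?_
      letI := IsCyclic.commGroup (α := P)
      exact congrArg Subtype.val (mul_comm (⟨x, hcompl.ge (Subgroup.mem_top x)⟩ : P) ⟨y, hcompl.ge (Subgroup.mem_top y)⟩)
    · rw [h, Subgroup.isComplement'_top_left] at hcompl
      exact P.ne_bot_of_dvd_card h2G hcompl

theorem solvable_of_good : ∀ (n : ℕ) {G : Type u} [Group G] [Finite G], Nat.card G = n →
    ∀ {p : ℕ}, p.Prime → Good p G → Group.IsSolvable G := by
  intro n
  induction n using Nat.strong_induction_on with
  | _ n ih =>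
    intro G _ _ hn p hp h
    rcases subsingleton_or_nontrivial G with hs | hnt
    · exact Group.isSolvable_of_comm fun a b => Subsingleton.elim _ _
    by_cases hN : ∃ N : Subgroup G, N.Normal ∧ N ≠ ⊥ ∧ N ≠ ⊤
    · obtain ⟨N, hNn, hb, ht⟩ := hN
      have := hNn
      refine (Group.isSolvable_iff_subgroup_quotient N).mpr ⟨?_, ?_⟩
      · refine ih _ ?_ rfl hp (good_subgroup N h)
        rw [← hn]
        exact lt_of_le_of_ne (Subgroup.card_le_card_group N) fun e => ht (Subgroup.eq_top_of_card_eq N e)
      · refine ih _ ?_ rfl hp (good_quotient N h)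
        rw [← hn, Subgroup.card_eq_card_quotient_mul_card_subgroup N]
        exact lt_mul_of_one_lt_right Nat.card_pos ((Subgroup.one_lt_card_iff_ne_bot N).mpr hb)
    · push Not at hN
      have : IsSimpleGroup G := ⟨fun N hNn => (em (N = ⊥)).imp id (hN N hNn)⟩
      exact Group.isSolvable_of_comm (simple_comm_of_good hp h)

/-- Let G be a finite group with a subgroup A of prime-power index. Suppose A has a normal cyclic subgroup B such that A/B is cyclic of order a power of 2. Then G is solvable. -/
theorem result {G : Type*} [Group G] [Finite G] (A : Subgroup G) (p s : ℕ) (hp : p.Prime) (hA : A.index = p ^ s)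
    (B : Subgroup A) [B.Normal] (hB : IsCyclic B) (hAB : IsCyclic (A ⧸ B)) (r : ℕ) (hr : Nat.card (A ⧸ B) = 2 ^ r) :
    Group.IsSolvable G := by
  exact solvable_of_good _ rfl hp ⟨A, s, B, inferInstance, hA ▸ dvd_rfl, hB, hAB, IsPGroup.of_card hr⟩

end Cfsg.Agent.S4245
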