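import Cfsg.Statements.S4339
import Cfsg.Agent.S4341
import Cfsg.Agent.PCore.PSolvable
import Cfsg.Agent.CoprimeAction.Invariant
import Cfsg.Agent.BrauerFew.Reduce
import Cfsg.Agent.BrauerReynolds.Main

set_option autoImplicit false
open Cfsg

namespace Cfsg.Agent.S4339


universe u

open Subgroup
open scoped commutatorElement

section
variable {G : Type u} [Group G] [Finite G] {p : ℕ} [hpf : Fact p.Prime]

omit [Finite G] in
theorem orbit_card (P Q : Sylow p G) :
    Nat.card (MulAction.orbit (P : Subgroup G) Q) =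
      ((P : Subgroup G) ⊓ (Q : Subgroup G)).relIndex (P : Subgroup G) := by
  rw [Nat.card_coe_set_eq, ← MulAction.index_stabilizer]
  have : MulAction.stabilizer (P : Subgroup G) Q =
      ((P : Subgroup G) ⊓ (Q : Subgroup G)).subgroupOf (P : Subgroup G) := by
    ext x
    rw [MulAction.mem_stabilizer_iff, Subgroup.smul_def, Sylow.smul_eq_iff_mem_normalizer,
      Subgroup.mem_subgroupOf, ← IsPGroup.inf_normalizer_sylow P.isPGroup' Q]
    simp [x.2]
  rw [this]; rfl

theorem orbit_eq (hn : Nat.card (Sylow p G) < p ^ 2) {P Q : Sylow p G} (hPQ : P ≠ Q) :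
    Nat.card (MulAction.orbit (P : Subgroup G) Q) = p := by
  obtain ⟨k, hk⟩ := (P.isPGroup'.to_le le_rfl).card_orbit (α := Sylow p G) Q
  have h1 : k ≠ 0 := by
    rintro rfl
    rw [orbit_card, pow_zero, Subgroup.relIndex_eq_one] at hk
    have h2 : (P : Subgroup G) ≤ Q := hk.trans inf_le_right
    exact hPQ (Sylow.ext (P.is_maximal' Q.isPGroup' h2).symm)
  have h2 : p ^ k < p ^ 2 := hk ▸ (Finite.card_subtype_le _).trans_lt hn
  have h3 : k < 2 := (Nat.pow_lt_pow_iff_right hpf.out.one_lt).1 h2
  rw [hk, show k = 1 by omega, pow_one]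

theorem card_inter (hn : Nat.card (Sylow p G) < p ^ 2) {P Q : Sylow p G} (hPQ : P ≠ Q) :
    Nat.card ↥((P : Subgroup G) ⊓ (Q : Subgroup G)) * p = Nat.card (P : Subgroup G) := by
  have h := (((P : Subgroup G) ⊓ (Q : Subgroup G)).subgroupOf (P : Subgroup G)).card_mul_index
  rw [Nat.card_congr (Subgroup.subgroupOfEquivOfLe inf_le_left).toEquiv] at h
  have h2 := orbit_eq hn hPQ
  rw [orbit_card] at h2
  unfold Subgroup.relIndex at h2
  rw [h2] at h
  exact h

theorem inter_eq (hn : Nat.card (Sylow p G) < p ^ 2) {P Q R S : Sylow p G} (hPQ : P ≠ Q) (hRS : R ≠ S)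
    (hR : (P : Subgroup G) ⊓ (Q : Subgroup G) ≤ R) (hS : (P : Subgroup G) ⊓ (Q : Subgroup G) ≤ S) :
    (P : Subgroup G) ⊓ (Q : Subgroup G) = (R : Subgroup G) ⊓ (S : Subgroup G) := by
  refine Subgroup.eq_of_le_of_card_ge (le_inf hR hS) ?_
  have h1 := card_inter hn hPQ
  have h2 := card_inter hn hRS
  have h3 : Nat.card (R : Subgroup G) = Nat.card (P : Subgroup G) :=
    R.card_eq_multiplicity.trans P.card_eq_multiplicity.symm
  exact Nat.le_of_mul_le_mul_right (by omega) hpf.out.pos

theorem smul_mem_line (hn : Nat.card (Sylow p G) < p ^ 2) {P Q : Sylow p G} (hPQ : P ≠ Q)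
    {R : Sylow p G} (hR : R ∈ MulAction.orbit (P : Subgroup G) Q) :
    (P : Subgroup G) ⊓ (Q : Subgroup G) ≤ R ∧ R ≠ P := by
  obtain ⟨⟨a, ha⟩, rfl⟩ := hR
  set D := (P : Subgroup G) ⊓ (Q : Subgroup G) with hD
  haveI : (D.subgroupOf (P : Subgroup G)).Normal := by
    refine Subgroup.normal_of_index_eq_minFac_card ?_
    have h2 := orbit_eq hn hPQ
    rw [orbit_card] at h2
    obtain ⟨k, hk⟩ := IsPGroup.iff_card.1 P.isPGroup'
    have hk0 : k ≠ 0 := by
      rintro rfl
      have h := card_inter hn hPQ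
      rw [pow_zero] at hk
      rw [hk] at h
      exact hpf.out.ne_one (Nat.eq_one_of_mul_eq_one_left h)
    unfold Subgroup.relIndex at h2
    rw [← hD] at h2
    rw [h2, hk, hpf.out.pow_minFac hk0]
  refine ⟨fun x hx => ?_, fun he => hPQ ?_⟩
  · have h1 := (inferInstance : (D.subgroupOf (P : Subgroup G)).Normal).conj_mem ⟨x, hx.1⟩
      (by rw [Subgroup.mem_subgroupOf]; exact hx) ⟨a⁻¹, inv_mem ha⟩
    rw [Subgroup.mem_subgroupOf] at h1
    change x ∈ (((⟨a, ha⟩ : (P : Subgroup G)) • Q : Sylow p G) : Subgroup G)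
    rw [Subgroup.smul_def, Sylow.coe_subgroup_smul, Subgroup.mem_pointwise_smul_iff_inv_smul_mem]
    have h2 := h1.2
    simp at h2 ⊢
    exact h2
  · have h1 : a • P = P := Sylow.smul_eq_iff_mem_normalizer.2 (Subgroup.le_normalizer ha)
    have h2 : a • Q = a • P := by rw [h1]; exact he
    exact (MulAction.injective a h2).symm

/-- Fewer than `p ^ 2` Sylow subgroups: the intersection of all has index `p` in each. -/
theorem exists_common (hn : Nat.card (Sylow p G) < p ^ 2) {P Q : Sylow p G} (hPQ : P ≠ Q) (R : Sylow p G) :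
    (P : Subgroup G) ⊓ (Q : Subgroup G) ≤ R := by
  classical
  haveI := Fintype.ofFinite (Sylow p G)
  by_contra hR
  set D := (P : Subgroup G) ⊓ (Q : Subgroup G) with hD
  have hne : ∀ S : Sylow p G, D ≤ (S : Subgroup G) → R ≠ S := fun S hS he => hR (he ▸ hS)
  have hp1 : 1 < p := hpf.out.one_lt
  -- the line through P and Q
  set L : Finset (Sylow p G) := Finset.univ.filter fun S => D ≤ (S : Subgroup G) with hL
  have hLc : p + 1 ≤ L.card := by
    have h1 : insert P (MulAction.orbit (P : Subgroup G) Q).toFinset ⊆ L := by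
      intro S hS
      rw [hL, Finset.mem_filter]
      refine ⟨Finset.mem_univ _, ?_⟩
      rcases Finset.mem_insert.1 hS with rfl | hS
      · exact inf_le_left
      · exact (smul_mem_line hn hPQ (Set.mem_toFinset.1 hS)).1
    refine le_trans (le_of_eq ?_) (Finset.card_le_card h1)
    rw [Finset.card_insert_of_notMem, ← Nat.card_eq_card_toFinset, orbit_eq hn hPQ]
    intro h
    exact (smul_mem_line hn hPQ (Set.mem_toFinset.1 h)).2 rfl
  set f : Sylow p G → Subgroup G := fun S => (R : Subgroup G) ⊓ (S : Subgroup G) with hf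
  have hinj : Set.InjOn f L := by
    intro S hS T hT he
    by_contra hST
    rw [Finset.mem_coe, hL, Finset.mem_filter] at hS hT
    have h1 : f S ≤ (S : Subgroup G) ⊓ (T : Subgroup G) := by
      refine le_inf inf_le_right ?_
      rw [he]; exact inf_le_right
    have h2 := inter_eq hn hPQ hST hS.2 hT.2
    have h3 : f S = (S : Subgroup G) ⊓ (T : Subgroup G) :=
      inter_eq hn (hne S hS.2) hST (h1.trans inf_le_left) (h1.trans inf_le_right)
    exact hR ((h2.trans h3.symm).le.trans inf_le_left)
  have himg : L.image f ⊆ (Finset.univ.erase R).image f := by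
    refine Finset.image_subset_image fun S hS => Finset.mem_erase.2 ⟨?_, Finset.mem_univ _⟩
    rw [hL, Finset.mem_filter] at hS
    exact (hne S hS.2).symm
  have hfib : ∀ a ∈ (Finset.univ.erase R).image f, p ≤ ((Finset.univ.erase R).filter fun x => f x = a).card := by
    intro a ha
    obtain ⟨S, hS, rfl⟩ := Finset.mem_image.1 ha
    have hRS : R ≠ S := (Finset.ne_of_mem_erase hS).symm
    have h1 : (MulAction.orbit (R : Subgroup G) S).toFinset ⊆
        (Finset.univ.erase R).filter fun x => f x = f S := by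
      intro T hT
      obtain ⟨h2, h3⟩ := smul_mem_line hn hRS (Set.mem_toFinset.1 hT)
      exact Finset.mem_filter.2 ⟨Finset.mem_erase.2 ⟨h3, Finset.mem_univ _⟩,
        (inter_eq hn hRS (Ne.symm h3) inf_le_left h2).symm⟩
    refine le_trans (le_of_eq ?_) (Finset.card_le_card h1)
    rw [← Nat.card_eq_card_toFinset, orbit_eq hn hRS]
  have h1 := Finset.mul_card_image_le_card (Finset.univ.erase R) p hfib
  have h2 : p + 1 ≤ ((Finset.univ.erase R).image f).card :=
    hLc.trans ((Finset.card_image_of_injOn hinj).ge.trans (Finset.card_le_card himg))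
  have h3 : (Finset.univ.erase R).card < p ^ 2 := by
    rw [Nat.card_eq_fintype_card] at hn
    exact lt_of_le_of_lt (Finset.card_le_univ _) hn
  have h4 : p * (p + 1) ≤ p * ((Finset.univ.erase R).image f).card := Nat.mul_le_mul_left p h2
  nlinarith

/-- The reduction: a normal `p`-subgroup of index `p` in every Sylow subgroup. -/
theorem exists_normal_index (hn : Nat.card (Sylow p G) < p ^ 2) {P Q : Sylow p G} (hPQ : P ≠ Q) :
    ∃ D : Subgroup G, D.Normal ∧ IsPGroup p D ∧ (∀ R : Sylow p G, D ≤ (R : Subgroup G)) ∧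
      Nat.card D * p = Nat.card (P : Subgroup G) := by
  refine ⟨(P : Subgroup G) ⊓ (Q : Subgroup G), ⟨fun x hx g => ?_⟩, P.isPGroup'.to_le inf_le_left,
    exists_common hn hPQ, card_inter hn hPQ⟩
  have h : ∀ R : Sylow p G, g * x * g⁻¹ ∈ (R : Subgroup G) := by
    intro R
    have h1 := exists_common hn hPQ (g⁻¹ • R) hx
    rw [Sylow.coe_subgroup_smul, Subgroup.mem_pointwise_smul_iff_inv_smul_mem] at h1
    simpa using h1
  exact ⟨h P, h Q⟩

end

section
variable {p : ℕ} [hpf : Fact p.Prime]

omit hpf in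
theorem psolv_of_coprime {G : Type u} [Group G] (h : (Nat.card G).Coprime p) : IsPSolvable p G := by
  refine ⟨1, ![⊥, ⊤], rfl, rfl, ?_, ?_, ?_⟩
  · refine Fin.monotone_iff_le_succ.2 fun i => ?_
    fin_cases i
    exact bot_le
  · intro i
    fin_cases i
    · exact (inferInstance : (⊥ : Subgroup G).Normal)
    · exact (inferInstance : (⊤ : Subgroup G).Normal)
  · intro i
    fin_cases i
    exact Or.inr (by simpa using h)

omit hpf in
theorem psolv_extend {G : Type u} [Group G] (N : Subgroup G) [N.Normal]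
    (hN : (∃ m : ℕ, Nat.card N = p ^ m) ∨ (Nat.card N).Coprime p) (h : IsPSolvable p (G ⧸ N)) :
    IsPSolvable p G := by
  obtain ⟨n, H, h0, h1, hmono, hnorm, hfac⟩ := h
  have hc : ∀ i, N ≤ (H i).comap (QuotientGroup.mk' N) := fun i => by
    refine le_trans (le_of_eq (QuotientGroup.ker_mk' N).symm) ?_
    exact Subgroup.comap_mono bot_le
  refine ⟨n + 1, Fin.cons ⊥ (fun i => (H i).comap (QuotientGroup.mk' N)), Fin.cons_zero _ _, ?_, ?_, ?_, ?_⟩
  · rw [← Fin.succ_last, Fin.cons_succ, h1, Subgroup.comap_top]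
  · refine Fin.monotone_iff_le_succ.2 fun i => ?_
    cases i using Fin.cases with
    | zero => rw [Fin.castSucc_zero, Fin.cons_zero]; exact bot_le
    | succ j =>
      rw [Fin.castSucc_succ, Fin.cons_succ, Fin.cons_succ]
      exact Subgroup.comap_mono (hmono (Fin.castSucc_le_succ j))
  · intro i
    cases i using Fin.cases with
    | zero => rw [Fin.cons_zero]; infer_instance
    | succ j => rw [Fin.cons_succ]; exact (hnorm j).comap _
  · intro i
    cases i using Fin.cases with
    | zero =>
      rw [Fin.castSucc_zero, Fin.cons_zero, Fin.cons_succ, Subgroup.relIndex_bot_left, h0,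
        MonoidHom.comap_bot, QuotientGroup.ker_mk']
      exact hN
    | succ j =>
      rw [Fin.castSucc_succ, Fin.cons_succ, Fin.cons_succ, Subgroup.relIndex_comap,
        Subgroup.map_comap_eq_self_of_surjective (QuotientGroup.mk'_surjective N)]
      exact hfac j

theorem psolv_of_normal_sylow {G : Type u} [Group G] [Finite G] (P : Sylow p G)
    [hP : (P : Subgroup G).Normal] : IsPSolvable p G := by
  refine psolv_extend (P : Subgroup G) (Or.inl ⟨_, P.card_eq_multiplicity⟩) (psolv_of_coprime ?_)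
  exact CfsgLib.PCore.coprime_of_not_dvd (hp := hpf) (by
    rw [← Subgroup.index_eq_card]; exact P.not_dvd_index)

/-- The Sylow number of a quotient divides that of the group. -/
theorem card_sylow_quotient_dvd {G : Type u} [Group G] [Finite G] (N : Subgroup G) [N.Normal] :
    Nat.card (Sylow p (G ⧸ N)) ∣ Nat.card (Sylow p G) := by
  obtain ⟨P⟩ := (inferInstance : Nonempty (Sylow p G))
  have hsur := QuotientGroup.mk'_surjective N
  rw [Sylow.card_eq_index_normalizer (P.mapSurjective hsur), ← Sylow.coe_coe, Sylow.coe_mapSurjective,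
    P.card_eq_index_normalizer, ← Subgroup.index_comap_of_surjective _ hsur]
  refine Subgroup.index_dvd_of_le ?_
  intro g hg
  rw [Subgroup.mem_comap]
  exact Subgroup.le_normalizer_map _ ⟨g, hg, rfl⟩

theorem coprime_factor_one {G : Type u} [Group G] [Finite G] (A H : Subgroup G) (hA : IsPGroup p A)
    (hH : (Nat.card H).Coprime p) (hAH : A ≤ normalizer (H : Set G)) (q : ℕ) [Fact q.Prime]
    (hq : q ≠ p) :
    q ^ (((centralizer (A : Set G)).relIndex H).factorization q) ≡ 1 [MOD p] := by
  have hp : p.Prime := hpf.out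
  set C := centralizer (A : Set G) with hC
  have hcop : (Nat.card A).Coprime (Nat.card H) := by
    obtain ⟨k, hk⟩ := IsPGroup.iff_card.1 hA
    rw [hk]; exact (Nat.Coprime.pow_right k hH).symm
  obtain ⟨S⟩ := (inferInstance : Nonempty (Sylow q ↥(H ⊓ C)))
  set U : Subgroup G := (S : Subgroup ↥(H ⊓ C)).map (H ⊓ C).subtype with hU
  have hUH : U ≤ H ⊓ C := map_subtype_le _
  have hUA : A ≤ normalizer (U : Set G) := fun a ha => centralizer_le_normalizer _
    (mem_centralizer_iff.2 fun x hx => (mem_centralizer_iff.1 (hUH hx).2 a ha).symm)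
  haveI hsolA : Group.IsSolvable A := by
    haveI := hA.isNilpotent
    infer_instance
  obtain ⟨T, hUT, hAT⟩ := CfsgLib.CoprimeAction.exists_invariant_sylow_ge hAH hcop (Or.inl hsolA)
    (p := q) (hUH.trans inf_le_left) (S.isPGroup'.map _) hUA
  set V : Subgroup G := (T : Subgroup H).map H.subtype with hV
  have hUc : Nat.card U = q ^ (Nat.card ↥(H ⊓ C)).factorization q := CfsgLib.CoprimeAction.card_sylow_map S
  have hVc : Nat.card V = q ^ (Nat.card H).factorization q := CfsgLib.CoprimeAction.card_sylow_map T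
  have hVC : V ⊓ C = U := by
    have hle : V ⊓ C ≤ H ⊓ C := inf_le_inf_right _ (map_subtype_le _)
    have hge : U ≤ V ⊓ C := le_inf hUT (hUH.trans inf_le_right)
    refine (Subgroup.eq_of_le_of_card_ge hge ?_).symm
    obtain ⟨b, hb⟩ := IsPGroup.iff_card.1 ((T.isPGroup'.map H.subtype).to_le (inf_le_left : V ⊓ C ≤ V))
    rw [hb, hUc]
    refine Nat.pow_le_pow_right (Fact.out : q.Prime).pos ?_
    exact ((Fact.out : q.Prime).pow_dvd_iff_le_factorization Nat.card_pos.ne').1
      (hb ▸ Subgroup.card_dvd_of_le hle)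
  have hconj : ∀ (a : A) (x : V), (a : G) * x * (a : G)⁻¹ ∈ V := fun a x =>
    (mem_normalizer_iff.1 (hAT a.2) _).1 x.2
  let act : MulAction A V :=
    { smul := fun a x => ⟨(a : G) * x * (a : G)⁻¹, hconj a x⟩
      one_smul := fun x => Subtype.ext (by show (1 : G) * x * (1 : G)⁻¹ = x; group)
      mul_smul := fun a b x => Subtype.ext (by
        show ((a * b : A) : G) * x * ((a * b : A) : G)⁻¹ = (a : G) * ((b : G) * x * (b : G)⁻¹) * (a : G)⁻¹
        rw [Subgroup.coe_mul]; group) }
  have hfix : Nat.card (MulAction.fixedPoints A V) = Nat.card U := by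
    rw [← hVC]
    refine Nat.card_congr
      { toFun := fun x => ⟨x.1.1, x.1.2, mem_centralizer_iff.2 fun a ha => by
          have h : ((⟨a, ha⟩ : A) • x.1 : V).1 = x.1.1 := congrArg Subtype.val (x.2 ⟨a, ha⟩)
          exact mul_inv_eq_iff_eq_mul.1 h⟩
        invFun := fun x => ⟨⟨x.1, x.2.1⟩, fun a => Subtype.ext (by
          show (a : G) * x.1 * (a : G)⁻¹ = x.1
          rw [mem_centralizer_iff.1 x.2.2 a a.2, mul_inv_cancel_right])⟩
        left_inv := fun x => rfl
        right_inv := fun x => rfl }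
  have hmod := hA.card_modEq_card_fixedPoints V
  rw [hfix, hUc, hVc] at hmod
  have hrel : Nat.card ↥(H ⊓ C) * C.relIndex H = Nat.card H := by
    rw [← Nat.card_congr (Subgroup.subgroupOfEquivOfLe (inf_le_left : H ⊓ C ≤ H)).toEquiv,
      Subgroup.inf_subgroupOf_left]
    exact (C.subgroupOf H).card_mul_index
  have hfac : (Nat.card H).factorization q =
      (Nat.card ↥(H ⊓ C)).factorization q + (C.relIndex H).factorization q := by
    have hr : C.relIndex H ≠ 0 := fun h => by
      rw [h, mul_zero] at hrel; exact Nat.card_pos.ne hrel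
    rw [← hrel, Nat.factorization_mul Nat.card_pos.ne' hr]; rfl
  rw [hfac, pow_add] at hmod
  have hgcd : Nat.gcd p (q ^ (Nat.card ↥(H ⊓ C)).factorization q) = 1 :=
    Nat.Coprime.pow_right _ ((Nat.coprime_primes hp Fact.out).2 (Ne.symm hq))
  exact Nat.ModEq.cancel_left_of_coprime hgcd (hmod.trans (by rw [mul_one]))

/-- `P` of order `p` acting on a `p'`-group: an index below `p ^ 2` of the centralizer is a prime power. -/
theorem index_prime_power {G : Type u} [Group G] [Finite G] (A H : Subgroup G) (hA : IsPGroup p A)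
    (hH : (Nat.card H).Coprime p) (hAH : A ≤ normalizer (H : Set G))
    (hlt : (centralizer (A : Set G)).relIndex H < p ^ 2) :
    ∃ q k : ℕ, q.Prime ∧ (centralizer (A : Set G)).relIndex H = q ^ k := by
  set r := (centralizer (A : Set G)).relIndex H with hr
  have hr0 : r ≠ 0 := by
    intro h
    exact (Subgroup.index_ne_zero_of_finite (H := (centralizer (A : Set G)).subgroupOf H)) h
  by_cases hr1 : r = 1
  · exact ⟨2, 0, Nat.prime_two, by rw [hr1, pow_zero]⟩
  have hrp : r.Coprime p := Nat.Coprime.coprime_dvd_left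
    (Subgroup.relIndex_dvd_card _ _) hH
  have key : ∀ q : ℕ, q.Prime → q ∣ r → p < q ^ r.factorization q := by
    intro q hq hqr
    haveI := Fact.mk hq
    have hne : q ≠ p := by
      rintro rfl
      exact hq.ne_one (Nat.eq_one_of_dvd_coprimes hrp hqr dvd_rfl)
    have h1 := coprime_factor_one A H hA hH hAH q hne
    have h2 : 1 < q ^ r.factorization q :=
      Nat.one_lt_pow (hq.factorization_pos_of_dvd hr0 hqr).ne' hq.one_lt
    have h3 := (Nat.modEq_iff_dvd' h2.le).1 h1.symm
    have h4 := Nat.le_of_dvd (by omega) h3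
    omega
  obtain ⟨q, hq, hqr⟩ := Nat.exists_prime_and_dvd hr1
  refine ⟨q, r.factorization q, hq, ?_⟩
  by_contra hne
  have hord := Nat.ordProj_mul_ordCompl_eq_self r q
  set a := q ^ r.factorization q with ha
  set b := r / a with hb
  have hb1 : b ≠ 1 := fun h => hne (by rw [h, mul_one] at hord; exact hord.symm)
  obtain ⟨s, hs, hsb⟩ := Nat.exists_prime_and_dvd hb1
  have hsr : s ∣ r := hord ▸ hsb.trans (dvd_mul_left _ _)
  have hsq : s ≠ q := by
    rintro rfl
    exact (Nat.not_dvd_ordCompl hs hr0) hsb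
  have hcp : (a).Coprime (s ^ r.factorization s) :=
    Nat.Coprime.pow _ _ ((Nat.coprime_primes hq hs).2 (Ne.symm hsq))
  have hdvd : a * s ^ r.factorization s ∣ r :=
    hcp.mul_dvd_of_dvd_of_dvd (Nat.ordProj_dvd r q) (Nat.ordProj_dvd r s)
  have h1 := Nat.le_of_dvd (Nat.pos_of_ne_zero hr0) hdvd
  have h2 := key q hq hqr
  have h3 := key s hs hsr
  nlinarith

/-- The arithmetic of the exceptional form. -/
theorem noForm {p n q k : ℕ} (hp : p.Prime) (hq : q.Prime) (hnp : n < p) (he : n * p + 1 = q ^ k) :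
    CfsgLib.BrauerFew.NoForm (p : ℤ) (n : ℤ) := by
  intro h u hh hu heq
  have hp2 : (2 : ℤ) ≤ p := by exact_mod_cast hp.two_le
  have hn : (n : ℤ) + 1 ≤ p := by exact_mod_cast hnp
  have hh1 : h = 1 := by
    by_contra hne
    have : 2 ≤ h := by omega
    nlinarith [mul_le_mul_of_nonneg_right this (mul_nonneg hu.le (by omega : (0 : ℤ) ≤ p))]
  subst hh1
  obtain ⟨d, hd⟩ : ∃ d : ℤ, d = u + 1 := ⟨_, rfl⟩
  obtain ⟨t, ht⟩ : ∃ t : ℤ, t = p + d - 1 - n := ⟨_, rfl⟩
  have hdt : (p : ℤ) - 1 = d * t := by subst hd ht; linarith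
  have hd2 : 2 ≤ d := by omega
  have htd : d ≤ t := by omega
  have hfac : ((p : ℤ) - t) * (p + d) = n * p + 1 := by subst ht; linear_combination hdt
  have ha : 0 < (p : ℤ) - t := by nlinarith
  obtain ⟨a, haa⟩ : ∃ a : ℕ, (a : ℤ) = p - t := ⟨_, Int.toNat_of_nonneg ha.le⟩
  obtain ⟨b, hbb⟩ : ∃ b : ℕ, (b : ℤ) = p + d := ⟨_, Int.toNat_of_nonneg (by omega)⟩
  have hab : a * b = q ^ k := by
    rw [← he]
    have : ((a * b : ℕ) : ℤ) = ((n * p + 1 : ℕ) : ℤ) := by push_cast; rw [haa, hbb, hfac]
    exact_mod_cast this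
  obtain ⟨i, -, hi⟩ := (Nat.dvd_prime_pow hq).1 (Dvd.intro b hab)
  obtain ⟨j, -, hj⟩ := (Nat.dvd_prime_pow hq).1 (Dvd.intro_left a hab)
  have hle : a < b := by omega
  have hij : i ≤ j := by
    subst hi hj
    exact ((Nat.pow_lt_pow_iff_right hq.one_lt).1 hle).le
  have hdiv : a ∣ b := hi ▸ hj ▸ pow_dvd_pow q hij
  have hz : ((p : ℤ) - t) ∣ (d + t) := by
    have : ((a : ℤ)) ∣ (b : ℤ) := Int.natCast_dvd_natCast.2 hdiv
    rw [haa, hbb] at this
    have h2 := dvd_sub this (dvd_refl ((p : ℤ) - t))
    rwa [show (p : ℤ) + d - (p - t) = d + t by ring] at h2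
  rcases eq_or_lt_of_le hd2 with h2 | h2
  · subst h2
    have h3 : ((p : ℤ) - t) ∣ 1 := by
      have h4 := dvd_sub hz (dvd_refl ((p : ℤ) - t))
      rwa [show (2 : ℤ) + t - (p - t) = 1 by linarith] at h4
    have := Int.le_of_dvd one_pos h3
    omega
  · have := Int.le_of_dvd (by omega) hz
    nlinarith [mul_le_mul (show (1 : ℤ) ≤ d - 2 by omega) (show (2 : ℤ) ≤ t - 1 by omega) (by norm_num) (by omega)]

/-- A perfect group with Sylow subgroup of order `p` and a prime power number `< p ^ 2` of them: the prime is Mersenne. -/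
theorem perfect_case {M : Type u} [Group M] [Finite M] (hperf : commutator M = ⊤) (P : Sylow p M)
    (hP : Nat.card P = p) (hH : pPrimeCore p M = ⊥) {q k : ℕ} (hq : q.Prime)
    (hn : Nat.card (Sylow p M) = q ^ k) (hlt : Nat.card (Sylow p M) < p ^ 2)
    (hne : Nat.card (Sylow p M) ≠ 1) : 3 < p ∧ ∃ j : ℕ, p + 1 = 2 ^ j := by
  classical
  haveI : Fintype M := Fintype.ofFinite M
  have hp : p.Prime := hpf.out
  obtain ⟨n, hn'⟩ : ∃ n, Nat.card (Sylow p M) = n * p + 1 := by
    have h := card_sylow_modEq_one p M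
    rw [Nat.ModEq, Nat.one_mod_eq_one.2 hp.ne_one] at h
    exact ⟨Nat.card (Sylow p M) / p, by
      have := Nat.div_add_mod (Nat.card (Sylow p M)) p
      rw [mul_comm]; omega⟩
  have hnp : n < p := by
    rw [hn', sq] at hlt
    exact Nat.lt_of_mul_lt_mul_right (lt_of_le_of_lt (Nat.le_succ _) hlt)
  have hnf := noForm hp hq hnp (hn'.symm.trans hn)
  obtain ⟨hdvd', hbig', -, -⟩ := CfsgLib.BrauerFew.quotient_small hperf p P hP hn' hnf
  have hcardM : Nat.card (M ⧸ pPrimeCore p M) = Nat.card M := by
    rw [← Subgroup.index_eq_card, hH, Subgroup.index_bot]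
  rw [hcardM] at hbig'
  have h2 : ∀ N : Subgroup M, N.Normal → Nat.card N ≠ 2 := by
    intro N hN h
    by_cases hp2 : p = 2
    · subst hp2
      have hfac : (Nat.card M).factorization 2 = 1 := by
        have := P.card_eq_multiplicity
        rw [show Nat.card (P : Subgroup M) = 2 from hP] at this
        exact ((Nat.pow_eq_self_iff (by norm_num)).1 this.symm)
      let S : Sylow 2 M := Sylow.ofCard N (by rw [h, hfac, pow_one])
      haveI : (S : Subgroup M).Normal := hN
      haveI : Subsingleton (Sylow 2 M) := S.unique_of_normal inferInstance |>.instSubsingleton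
      exact hne Nat.card_unique
    · have hle : N ≤ pPrimeCore p M := CfsgLib.PCore.le_pPrimeCore hN
        (by rw [h]; exact (Nat.coprime_primes Nat.prime_two hp).2 (Ne.symm hp2))
      rw [hH] at hle
      rw [le_bot_iff.1 hle, Subgroup.card_bot] at h
      omega
  by_cases hk2 : 2 ≤ n
  · exfalso
    obtain ⟨D, hD⟩ := CfsgLib.DefectOne.exists_data P hP
    have hcardG : Nat.card M = p * (Nat.card D.H * (n * p + 1)) := by
      rw [← hn', ← mul_assoc, ← D.card_normalizer, hD, P.card_eq_index_normalizer]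
      exact (Subgroup.card_mul_index (normalizer ((P : Subgroup M) : Set M))).symm
    have hyp : CfsgLib.BrauerReynolds.Hyp D n := ⟨hperf, hbig', hcardG, hk2⟩
    obtain ⟨z, m, hm, hpm, -, -, -, -, -, hcard⟩ := hyp.involution
    have hN : q ^ k ∣ 2 ^ m * (2 ^ m - 1) := by
      rw [← hn, hn']
      have h1 : Nat.card D.H * (n * p + 1) = 2 ^ m * (2 ^ m - 1) := by
        refine Nat.eq_of_mul_eq_mul_left hp.pos ?_
        rw [← hcardG, hcard, hpm]
      exact h1 ▸ dvd_mul_left _ _
    have hbig : 2 ^ m < q ^ k := by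
      rw [← hn, hn']
      have : 1 * p ≤ n * p := Nat.mul_le_mul_right _ (by omega)
      omega
    have hpos : 1 < 2 ^ m := Nat.one_lt_pow (by omega) one_lt_two
    by_cases hq2 : q = 2
    · subst hq2
      have hc : Nat.Coprime (2 ^ k) (2 ^ m - 1) := by
        refine Nat.Coprime.pow_left _ ((Nat.Prime.coprime_iff_not_dvd Nat.prime_two).2 fun h => ?_)
        have h2m : 2 ∣ 2 ^ m := dvd_pow_self 2 (by omega)
        omega
      exact absurd (Nat.le_of_dvd (by omega) (hc.dvd_of_dvd_mul_right hN)) (by omega)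
    · have hc : Nat.Coprime (q ^ k) (2 ^ m) :=
        Nat.Coprime.pow _ _ ((Nat.coprime_primes hq Nat.prime_two).2 hq2)
      exact absurd (Nat.le_of_dvd (by omega) (hc.dvd_of_dvd_mul_left hN)) (by omega)
  · have hn1 : n = 1 := by
      rcases Nat.eq_zero_or_pos n with h | h
      · exact absurd (by rw [hn', h, zero_mul]) hne
      · omega
    obtain ⟨F, _, _, -, hp3, -⟩ := CfsgLib.BrauerReynolds.small_case hperf p hbig' P hP
      (by rw [hn', hn1, one_mul]) h2
    refine ⟨hp3, k, ?_⟩
    have hq2 : q = 2 := by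
      have hpo : Odd p := hp.odd_of_ne_two (by omega)
      have hev : 2 ∣ q ^ k := by
        rw [← hn, hn', hn1, one_mul]
        obtain ⟨j, hj⟩ := hpo
        exact ⟨j + 1, by omega⟩
      exact ((Nat.prime_dvd_prime_iff_eq Nat.prime_two hq).1 (Nat.prime_two.dvd_of_dvd_pow hev)).symm
    rw [← hq2, ← hn, hn', hn1, one_mul]

/-- The statement for a group with Sylow subgroups of order `p`. -/
theorem order_p_case {G : Type u} [Group G] [Finite G] (hp' : ¬ (3 < p ∧ ∃ k : ℕ, p + 1 = 2 ^ k))
    (hlt : Nat.card (Sylow p G) < p ^ 2) (P : Sylow p G) (hP : Nat.card (P : Subgroup G) = p) :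
    IsPSolvable p G ↔ ∃ q k : ℕ, q.Prime ∧ Nat.card (Sylow p G) = q ^ k := by
  classical
  have hp : p.Prime := hpf.out
  set H := pPrimeCore p G with hH
  haveI : H.Normal := (CfsgLib.PCore.pPrimeCore_mem p G).1
  have hHc : (Nat.card H).Coprime p := CfsgLib.PCore.pPrimeCore_coprime p G
  set Q := G ⧸ H with hQ
  have hsur := QuotientGroup.mk'_surjective H
  set P' : Sylow p Q := P.mapSurjective hsur with hP'
  have hP'c : Nat.card (P' : Subgroup Q) = p := by
    rw [hP', Sylow.coe_mapSurjective]
    rcases hp.eq_one_or_self_of_dvd _ (hP ▸ Subgroup.card_map_dvd (P : Subgroup G) (QuotientGroup.mk' H))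
      with e | e
    · exfalso
      have hle := (Subgroup.map_eq_bot_iff (P : Subgroup G)).1 (Subgroup.card_eq_one.1 e)
      rw [QuotientGroup.ker_mk'] at hle
      exact hp.ne_one (Nat.eq_one_of_dvd_coprimes hHc (hP ▸ Subgroup.card_dvd_of_le hle) dvd_rfl)
    · exact e
  constructor
  · intro hs
    have hsQ : IsPSolvable p Q := CfsgLib.PCore.isPSolvable_quotient hs H
    haveI : Nontrivial Q := Finite.one_lt_card_iff_nontrivial.1
      (lt_of_lt_of_le (hP'c ▸ hp.one_lt) (Subgroup.card_le_card_group _))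
    have hcore : pCore p Q ≠ ⊥ := by
      rcases CfsgLib.PCore.cores_ne_bot hsQ with h | h
      · exact h
      · exact absurd CfsgLib.PCore.pPrimeCore_quotient h
    have heq : pCore p Q = (P' : Subgroup Q) := by
      refine Subgroup.eq_of_le_of_card_ge (CfsgLib.PCore.pCore_le_sylow P') ?_
      rw [hP'c]
      rcases hp.eq_one_or_self_of_dvd _ (hP'c ▸ Subgroup.card_dvd_of_le (CfsgLib.PCore.pCore_le_sylow P'))
        with e | e
      · exact absurd (Subgroup.card_eq_one.1 e) hcore
      · exact e.ge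
    set K : Subgroup G := (pCore p Q).comap (QuotientGroup.mk' H) with hK
    haveI : K.Normal := inferInstanceAs ((pCore p Q).comap (QuotientGroup.mk' H)).Normal
    have hK' : K = (P : Subgroup G) ⊔ H := by
      rw [hK, heq, hP', Sylow.coe_mapSurjective, Subgroup.comap_map_eq, QuotientGroup.ker_mk']
    set N := normalizer ((P : Subgroup G) : Set G) with hNdef
    have hPK : (P : Subgroup G) ≤ K := hK' ▸ le_sup_left
    have htop : N ⊔ H = ⊤ := by
      have h1 : N ⊔ K = ⊤ := Sylow.normalizer_sup_eq_top' P hPK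
      rw [hK', ← sup_assoc, sup_eq_left.2 (Subgroup.le_normalizer : (P : Subgroup G) ≤ N)] at h1
      exact h1
    have hidx : Nat.card (Sylow p G) = N.relIndex H := by
      rw [P.card_eq_index_normalizer, ← Cfsg.Agent.S4341.relIndex_sup_normal, htop,
        Subgroup.relIndex_top_right]
      rfl
    have hNC : N ⊓ H = centralizer ((P : Subgroup G) : Set G) ⊓ H := by
      refine le_antisymm (fun h hh => ⟨mem_centralizer_iff.2 fun x hx => ?_, hh.2⟩)
        (inf_le_inf_right _ (centralizer_le_normalizer _))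
      have h1 : h * x * h⁻¹ * x⁻¹ ∈ (P : Subgroup G) ⊓ H := by
        have hh1 : h ∈ normalizer ((P : Subgroup G) : Set G) := hh.1
        have hx' : x ∈ (P : Subgroup G) := hx
        refine Subgroup.mem_inf.2 ⟨(P : Subgroup G).mul_mem ((mem_normalizer_iff.1 hh1 x).1 hx') ((P : Subgroup G).inv_mem hx'), ?_⟩
        change h * x * h⁻¹ * x⁻¹ ∈ H
        rw [show h * x * h⁻¹ * x⁻¹ = h * (x * h⁻¹ * x⁻¹) by group]
        exact mul_mem hh.2 ((inferInstance : H.Normal).conj_mem _ (inv_mem hh.2) x)
      have hbot : (P : Subgroup G) ⊓ H = ⊥ :=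
        Subgroup.inf_eq_bot_of_coprime (by rw [hP]; exact hHc.symm)
      rw [hbot, Subgroup.mem_bot, mul_inv_eq_one, mul_inv_eq_iff_eq_mul] at h1
      exact h1.symm
    rw [hidx, ← Subgroup.inf_relIndex_right, hNC, Subgroup.inf_relIndex_right]
    refine index_prime_power (P : Subgroup G) H P.isPGroup' hHc ?_ ?_
    · rw [Subgroup.normalizer_eq_top H]; exact le_top
    · rw [← Subgroup.inf_relIndex_right, ← hNC, Subgroup.inf_relIndex_right, ← hidx]; exact hlt
  · rintro ⟨q, k, hq, hn⟩
    by_contra hns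
    have hnsQ : ¬ IsPSolvable p Q := fun h => hns (psolv_extend H (Or.inr hHc) h)
    have hnn : ∀ R : Sylow p Q, ¬ (R : Subgroup Q).Normal := fun R h => hnsQ (psolv_of_normal_sylow R)
    obtain ⟨M, hM⟩ : ∃ M : Subgroup Q, M = normalClosure ((P' : Subgroup Q) : Set Q) := ⟨_, rfl⟩
    haveI : M.Normal := hM ▸ normalClosure_normal
    have hall : ∀ R : Sylow p Q, (R : Subgroup Q) ≤ M := by
      intro R x hx
      obtain ⟨g, rfl⟩ := MulAction.exists_smul_eq Q P' R
      rw [Sylow.coe_subgroup_smul, Subgroup.mem_pointwise_smul_iff_inv_smul_mem] at hx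
      have h1 : _ ∈ M := hM ▸ subset_normalClosure hx
      have h2 := (inferInstance : M.Normal).conj_mem _ h1 g
      simpa [mul_assoc] using h2
    let PM : Sylow p M := P'.subtype (hall P')
    have hPMc : Nat.card (PM : Subgroup M) = p := by
      rw [Sylow.coe_subtype, Nat.card_congr (subgroupOfEquivOfLe (hall P')).toEquiv, hP'c]
    have hcM : pPrimeCore p M = ⊥ := by
      have h := CfsgLib.PCore.map_pPrimeCore_normal (p := p) M
      rw [show pPrimeCore p Q = ⊥ from CfsgLib.PCore.pPrimeCore_quotient, bot_inf_eq] at h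
      exact (Subgroup.map_eq_bot_iff_of_injective _ M.subtype_injective).1 h
    have hnum : Nat.card (Sylow p M) = Nat.card (Sylow p Q) := by
      refine (Nat.card_congr (Equiv.ofBijective (fun R : Sylow p Q => R.subtype (hall R)) ⟨?_, ?_⟩)).symm
      · intro R S h
        exact Sylow.subtype_injective h
      · intro S
        obtain ⟨R, hR⟩ := S.exists_comap_subtype_eq
        exact ⟨R, Sylow.ext hR⟩
    have hdvd : Nat.card (Sylow p M) ∣ q ^ k := by
      rw [hnum, ← hn]
      exact card_sylow_quotient_dvd H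
    obtain ⟨j, hj, hMn⟩ := (Nat.dvd_prime_pow hq).1 hdvd
    have hne : Nat.card (Sylow p M) ≠ 1 := by
      rw [hnum]
      intro h
      haveI := (Nat.card_eq_one_iff_unique.1 h).1
      exact hnn P' (Sylow.normal_of_subsingleton P')
    have hMlt : Nat.card (Sylow p M) < p ^ 2 :=
      lt_of_le_of_lt (Nat.le_of_dvd (pow_pos hq.pos k) hdvd) (hn ▸ hlt)
    have hperf : commutator M = ⊤ := by
      by_contra hne'
      set D : Subgroup M := commutator M with hD
      haveI : (D.map M.subtype).Normal := by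
        rw [hD, _root_.commutator_def, Subgroup.map_commutator, ← MonoidHom.range_eq_map, Subgroup.range_subtype]
        infer_instance
      by_cases hpd : p ∣ Nat.card D
      · obtain ⟨R₀⟩ := (inferInstance : Nonempty (Sylow p ↥(D.map M.subtype)))
        have hle : M ≤ D.map M.subtype := by
          refine (le_of_eq hM).trans (normalClosure_le_normal fun x hx => ?_)
          have hc : Nat.card ((R₀ : Subgroup ↥(D.map M.subtype)).map (D.map M.subtype).subtype) = p := by
            rw [CfsgLib.CoprimeAction.card_sylow_map, Subgroup.card_map_of_injective M.subtype_injective]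
            have h1 : (Nat.card Q).factorization p = 1 := by
              have := P'.card_eq_multiplicity
              rw [hP'c] at this
              exact (Nat.pow_eq_self_iff hp.one_lt).1 this.symm
            have h2 : (Nat.card D).factorization p ≤ 1 := h1 ▸
              (hp.pow_dvd_iff_le_factorization Nat.card_pos.ne').1
                (((Nat.ordProj_dvd _ _).trans (Subgroup.card_subgroup_dvd_card D)).trans
                  (Subgroup.card_subgroup_dvd_card M))
            have h3 := hp.factorization_pos_of_dvd Nat.card_pos.ne' hpd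
            rw [show (Nat.card D).factorization p = 1 by omega, pow_one]
          let R : Sylow p Q := Sylow.ofCard _ (hc.trans (hP'c.symm.trans P'.card_eq_multiplicity))
          obtain ⟨g, hg⟩ := MulAction.exists_smul_eq Q R P'
          rw [← hg] at hx
          change x ∈ ((g • R : Sylow p Q) : Subgroup Q) at hx
          rw [Sylow.coe_subgroup_smul, Subgroup.mem_pointwise_smul_iff_inv_smul_mem] at hx
          have h4 : _ ∈ D.map M.subtype := map_subtype_le _ hx
          have h5 := (inferInstance : (D.map M.subtype).Normal).conj_mem _ h4 g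
          simpa [mul_assoc] using h5
        refine hne' (eq_top_iff.2 fun x _ => ?_)
        obtain ⟨y, hy, he⟩ := hle x.2
        exact Subtype.ext he ▸ hy
      · have hbot : D = ⊥ := by
          have h1 : D.map M.subtype ≤ pPrimeCore p Q := CfsgLib.PCore.le_pPrimeCore inferInstance
            (by rw [Subgroup.card_map_of_injective M.subtype_injective]
                exact CfsgLib.PCore.coprime_of_not_dvd hpd)
          rw [show pPrimeCore p Q = ⊥ from CfsgLib.PCore.pPrimeCore_quotient, le_bot_iff] at h1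
          exact (Subgroup.map_eq_bot_iff_of_injective _ M.subtype_injective).1 h1
        haveI hn2 : (PM : Subgroup M).Normal := ⟨fun x hx g => by
          have h : ⁅g, x⁆ ∈ D := Subgroup.commutator_mem_commutator (mem_top g) (mem_top x)
          rw [hbot, Subgroup.mem_bot, commutatorElement_eq_one_iff_mul_comm] at h
          rwa [h, mul_inv_cancel_right]⟩
        exact hne (by
          haveI := PM.unique_of_normal hn2
          exact Nat.card_unique)
    exact hp' (perfect_case hperf PM hPMc hcM hq hMn hMlt hne)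

end

/-- Let G be a finite group and p a prime such that it is not the case that p > 3 with p + 1 a power of 2. If the number of Sylow p-subgroups of G is less than p², then G is p-solvable if and only if that number is a power of a prime (possibly 1). -/
theorem result {G : Type*} [Group G] [Finite G]
    (p : ℕ) [Fact p.Prime] (hp : ¬ (3 < p ∧ ∃ k : ℕ, p + 1 = 2 ^ k)) (hn : Nat.card (Sylow p G) < p ^ 2) :
    Cfsg.IsPSolvable p G ↔ ∃ q k : ℕ, q.Prime ∧ Nat.card (Sylow p G) = q ^ k := by
  classical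
  have hp' : p.Prime := Fact.out
  obtain ⟨P⟩ := (inferInstance : Nonempty (Sylow p G))
  by_cases hQ : ∃ Q : Sylow p G, P ≠ Q
  · obtain ⟨Q, hPQ⟩ := hQ
    obtain ⟨D, hDn, hDp, hDle, hDc⟩ := exists_normal_index hn hPQ
    have hsur := QuotientGroup.mk'_surjective D
    have hbij : Function.Bijective (Sylow.mapSurjective hsur : Sylow p G → Sylow p (G ⧸ D)) := by
      refine ⟨fun R S h => Sylow.ext ?_, Sylow.mapSurjective_surjective hsur p⟩
      have h' := congrArg (fun T : Sylow p (G ⧸ D) => (T : Subgroup (G ⧸ D)).comap (QuotientGroup.mk' D)) h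
      simp only [Sylow.coe_mapSurjective, Subgroup.comap_map_eq, QuotientGroup.ker_mk',
        sup_eq_left.2 (hDle _)] at h'
      exact h'
    have hnum : Nat.card (Sylow p (G ⧸ D)) = Nat.card (Sylow p G) :=
      (Nat.card_eq_of_bijective _ hbij).symm
    have hPc : Nat.card ((P.mapSurjective hsur : Sylow p (G ⧸ D)) : Subgroup (G ⧸ D)) = p := by
      rw [Sylow.coe_mapSurjective]
      refine Nat.eq_of_mul_eq_mul_left (Nat.card_pos (α := D)) ?_
      rw [hDc, ← CfsgLib.PCore.card_comap_mk' D, Subgroup.comap_map_eq, QuotientGroup.ker_mk',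
        sup_eq_left.2 (hDle P)]
    have key := order_p_case hp (hnum ▸ hn) (P.mapSurjective hsur) hPc
    rw [hnum] at key
    rw [← key]
    exact ⟨fun h => CfsgLib.PCore.isPSolvable_quotient h D,
      psolv_extend D (Or.inl (IsPGroup.iff_card.1 hDp))⟩
  · push Not at hQ
    haveI : Subsingleton (Sylow p G) := ⟨fun a b => (hQ a).symm.trans (hQ b)⟩
    haveI := Sylow.normal_of_subsingleton P
    exact ⟨fun _ => ⟨2, 0, Nat.prime_two, by rw [Nat.card_unique, pow_zero]⟩,
      fun _ => psolv_of_normal_sylow P⟩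

end Cfsg.Agent.S4339
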