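import Cfsg.Statements.S4347


set_option autoImplicit false
open Cfsg

namespace Cfsg.Agent.S4347

/-- Let G be a finite group and p a prime. Say a Sylow p-subgroup Q is redundant when every element of p-power order lies in some Sylow p-subgroup other than Q. Then G has no redundant Sylow p-subgroup if and only if some element of p-power order lies in exactly one Sylow p-subgroup. -/
theorem result {G : Type*} [Group G] [Finite G]
    (p : ℕ) [Fact p.Prime] :
    (¬ ∃ Q : Sylow p G, ∀ x : G, (∃ k : ℕ, orderOf x = p ^ k) → ∃ P : Sylow p G, P ≠ Q ∧ x ∈ P) ↔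
      ∃ x : G, (∃ k : ℕ, orderOf x = p ^ k) ∧ ∃! P : Sylow p G, x ∈ P := by
  constructor
  · intro h
    push Not at h
    obtain ⟨P⟩ : Nonempty (Sylow p G) := inferInstance
    obtain ⟨x, hx, hne⟩ := h P
    have hp : IsPGroup p (Subgroup.zpowers x) :=
      hx.elim fun k hk => IsPGroup.of_card (n := k) (by rw [Nat.card_zpowers, hk])
    obtain ⟨Q, hQ⟩ := hp.exists_le_sylow
    exact ⟨x, hx, Q, hQ (Subgroup.mem_zpowers x), fun R hR => by
      by_contra hRQ
      rcases eq_or_ne R P with rfl | hRP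
      · exact hne Q (fun h => hRQ h.symm) (hQ (Subgroup.mem_zpowers x))
      · exact hne R hRP hR⟩
  · rintro ⟨x, ⟨k, hk⟩, P, hxP, huniq⟩ ⟨Q, hQ⟩
    obtain ⟨g, rfl⟩ := MulAction.exists_smul_eq G P Q
    obtain ⟨R, hR, hxR⟩ := hQ (g * x * g⁻¹) ⟨k, (MulEquiv.orderOf_eq (MulAut.conj g) x).trans hk⟩
    apply hR
    have : g⁻¹ • R = P := by
      apply huniq
      show x ∈ ((g⁻¹ • R : Sylow p G) : Subgroup G)
      rw [Sylow.coe_subgroup_smul]
      exact ⟨g * x * g⁻¹, hxR, by simp [mul_assoc]⟩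
    rw [← this, smul_inv_smul]

end Cfsg.Agent.S4347
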