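import Cfsg.Statements.S4348


set_option autoImplicit false
open Cfsg

namespace Cfsg.Agent.S4348

/-- Let G be a finite group, p a prime and P a Sylow p-subgroup of G, and let O_p(G) be the largest normal p-subgroup of G. If P/O_p(G) is cyclic, then some element of p-power order of G lies in exactly one Sylow p-subgroup. -/
theorem result {G : Type*} [Group G] [Finite G]
    (p : ℕ) [Fact p.Prime] (P : Sylow p G)
    [hn : ((Cfsg.pCore p G).subgroupOf (P : Subgroup G)).Normal]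
    (hc : IsCyclic ((P : Subgroup G) ⧸ (Cfsg.pCore p G).subgroupOf (P : Subgroup G))) :
    ∃ x : G, (∃ k : ℕ, orderOf x = p ^ k) ∧ ∃! Q : Sylow p G, x ∈ Q := by
  obtain ⟨a, ha⟩ := hc.exists_zpow_surjective
  obtain ⟨⟨x, hx⟩, rfl⟩ := QuotientGroup.mk'_surjective _ a
  have hord : ∃ k : ℕ, orderOf x = p ^ k := by
    obtain ⟨j, hj⟩ := P.isPGroup' ⟨x, hx⟩
    have hj' : x ^ p ^ j = 1 := congrArg Subtype.val hj
    obtain ⟨i, -, hi⟩ := (Nat.dvd_prime_pow Fact.out).mp (orderOf_dvd_of_pow_eq_one hj')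
    exact ⟨i, hi⟩
  refine ⟨x, hord, P, hx, fun Q hQ => ?_⟩
  have hcore : Cfsg.pCore p G ≤ (Q : Subgroup G) :=
    sSup_le fun N hN => by
      haveI : N.Normal := hN.1
      exact IsPGroup.le_sylow_of_normal hN.2 Q
  have hle : (P : Subgroup G) ≤ (Q : Subgroup G) := by
    intro y hy
    obtain ⟨n, hn⟩ := ha (QuotientGroup.mk' _ ⟨y, hy⟩)
    simp only [← map_zpow, QuotientGroup.mk'_eq_mk'] at hn
    obtain ⟨z, hz, hz2⟩ := hn
    have : x ^ n * (z : G) = y := congrArg Subtype.val hz2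
    rw [← this]
    exact (Q : Subgroup G).mul_mem ((Q : Subgroup G).zpow_mem hQ n) (hcore hz)
  exact Sylow.ext (P.3 Q.2 hle)

end Cfsg.Agent.S4348
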