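import Cfsg.Statements.S4349

set_option autoImplicit false
open Cfsg Equiv

namespace Cfsg.Agent.S4349

open scoped Classical

/-- At most two fixed points, and moved points of equal period share a cycle. -/
def Cond {α : Type} (x : Perm α) : Prop :=
  (∀ a b c : α, x a = a → x b = b → x c = c → a = b ∨ a = c ∨ b = c) ∧
    ∀ a b : α, x a ≠ a → MulAction.period x a = MulAction.period x b → ∃ i : ℕ, (x ^ i) a = b

variable {α : Type} [Finite α] {x : Perm α}

lemma pow_eq_iff (k : ℕ) (a : α) : (x ^ k) a = a ↔ MulAction.period x a ∣ k :=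
  by exact (MulAction.pow_smul_eq_iff_period_dvd : (x ^ k) • a = a ↔ _)

lemma period_two_pow (hx : ∃ k, orderOf x = 2 ^ k) (a : α) : ∃ e, MulAction.period x a = 2 ^ e := by
  obtain ⟨k, hk⟩ := hx
  have h : MulAction.period x a ∣ orderOf x := (pow_eq_iff (x := x) _ a).1 (by rw [pow_orderOf_eq_one]; rfl)
  rw [hk] at h
  obtain ⟨e, -, he⟩ := (Nat.dvd_prime_pow Nat.prime_two).1 h
  exact ⟨e, he⟩

lemma period_even (hx : ∃ k, orderOf x = 2 ^ k) {a : α} (ha : x a ≠ a) :
    2 * (MulAction.period x a / 2) = MulAction.period x a ∧ 0 < MulAction.period x a / 2 := by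
  obtain ⟨e, he⟩ := period_two_pow hx a
  rcases e with - | e
  · exact absurd (by simpa using (pow_eq_iff (x := x) 1 a).2 (by simp [he])) ha
  · have h2 : 2 ^ (e + 1) = 2 * 2 ^ e := by ring
    have := Nat.two_pow_pos e
    rw [he, h2, Nat.mul_div_cancel_left _ two_pos]
    exact ⟨rfl, this⟩

lemma exists_z0 (hx : ∃ k, orderOf x = 2 ^ k) (hc : Cond x) :
    ∃ z : Perm α, z * z = 1 ∧ x * z = z * x ∧
      (∀ a, x a ≠ a → z a = (x ^ (MulAction.period x a / 2)) a ∧ z a ≠ a) ∧
      (∀ a b, x a = a → x b = b → b ≠ a → z a = b) ∧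
      (∀ a, x a = a → x (z a) = z a) := by
  have hper : ∀ (k : ℕ) a, MulAction.period x ((x ^ k) a) = MulAction.period x a := fun k a => by
    refine Nat.dvd_antisymm ((pow_eq_iff _ _).1 ?_) ((pow_eq_iff _ _).1 ?_)
    · rw [← Perm.mul_apply, ← pow_add, add_comm, pow_add, Perm.mul_apply, (pow_eq_iff _ _).2 dvd_rfl]
    · have h := (pow_eq_iff (x := x) (MulAction.period x ((x ^ k) a)) ((x ^ k) a)).2 dvd_rfl
      rw [← Perm.mul_apply, ← pow_add, add_comm, pow_add, Perm.mul_apply] at h
      exact (x ^ k).injective h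
  let other : α → α := fun a => if h : ∃ b, x b = b ∧ b ≠ a then h.choose else a
  let f : α → α := fun a => if x a = a then other a else (x ^ (MulAction.period x a / 2)) a
  have hfix : ∀ a, x a = a → x (f a) = f a := fun a ha => by
    simp only [f, if_pos ha, other]
    split
    · next h => exact h.choose_spec.1
    · exact ha
  have hoth : ∀ a b, x a = a → x b = b → b ≠ a → f a = b := fun a b ha hb hne => by
    simp only [f, if_pos ha, other]
    rw [dif_pos ⟨b, hb, hne⟩]
    set h : ∃ b, x b = b ∧ b ≠ a := ⟨b, hb, hne⟩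
    rcases hc.1 a b h.choose ha hb h.choose_spec.1 with e | e | e
    · exact absurd e.symm hne
    · exact absurd e.symm h.choose_spec.2
    · exact e.symm
  have hmov : ∀ a, x a ≠ a → f a = (x ^ (MulAction.period x a / 2)) a ∧ f a ≠ a := fun a ha => by
    refine ⟨if_neg ha, fun h => ?_⟩
    rw [show f a = (x ^ (MulAction.period x a / 2)) a from if_neg ha, pow_eq_iff] at h
    have := period_even hx ha
    have := Nat.le_of_dvd this.2 h
    omega
  have hinv : Function.Involutive f := fun a => by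
    by_cases ha : x a = a
    · by_cases h : ∃ b, x b = b ∧ b ≠ a
      · obtain ⟨b, hb, hne⟩ := h
        rw [hoth a b ha hb hne, hoth b a hb ha hne.symm]
      · have : f a = a := by simp only [f, if_pos ha, other, dif_neg h]
        rw [this, this]
    · have hm : x ((x ^ (MulAction.period x a / 2)) a) ≠ (x ^ (MulAction.period x a / 2)) a := fun h => by
        rw [← Perm.mul_apply, ← pow_succ', pow_succ, Perm.mul_apply] at h
        exact ha ((x ^ (MulAction.period x a / 2)).injective h)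
      rw [(hmov a ha).1, (hmov _ hm).1, hper, ← Perm.mul_apply, ← pow_add, ← two_mul, (period_even hx ha).1]
      exact (pow_eq_iff _ _).2 dvd_rfl
  refine ⟨hinv.toPerm, Perm.ext fun a => hinv a, Perm.ext fun a => ?_, hmov, hoth, hfix⟩
  show x (f a) = f (x a)
  by_cases ha : x a = a
  · rw [ha, hfix a ha]
  · have hm : x (x a) ≠ x a := fun h => ha (x.injective h)
    rw [(hmov a ha).1, (hmov _ hm).1, show MulAction.period x (x a) = MulAction.period x a from by simpa using hper 1 a,
      ← Perm.mul_apply, ← Perm.mul_apply, ← pow_succ', ← pow_succ]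

lemma z0_commutes (hx : ∃ k, orderOf x = 2 ^ k) (hc : Cond x) {z : Perm α}
    (hz1 : ∀ a, x a ≠ a → z a = (x ^ (MulAction.period x a / 2)) a ∧ z a ≠ a)
    (hz2 : ∀ a b, x a = a → x b = b → b ≠ a → z a = b) (hz3 : ∀ a, x a = a → x (z a) = z a)
    (Q : Subgroup (Perm α)) (hQ : IsPGroup 2 Q) (hxQ : x ∈ Q) (g : Perm α) (hg : g ∈ Q) : g * z = z * g := by
  haveI : Fact (Nat.Prime 2) := ⟨Nat.prime_two⟩
  have key : ∀ a : α, (∀ g ∈ Q, g a = a) ∨ ∀ g ∈ Q, g (z a) = z (g a) := by
    intro a
    by_cases htriv : ∀ g ∈ Q, g a = a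
    · exact Or.inl htriv
    right
    push Not at htriv
    obtain ⟨g₀, hg₀, hg₀a⟩ := htriv
    let O := MulAction.orbit ↥Q a
    let f := MulAction.toPermHom ↥Q O
    let a₀ : O := ⟨a, MulAction.mem_orbit_self a⟩
    haveI : Nontrivial ↥f.range := by
      refine ⟨⟨⟨f ⟨g₀, hg₀⟩, ⟨_, rfl⟩⟩, 1, fun h => hg₀a ?_⟩⟩
      have := DFunLike.congr_fun (congrArg Subtype.val h) a₀
      exact congrArg Subtype.val this
    have hRp : IsPGroup 2 ↥f.range := hQ.of_surjective f.rangeRestrict f.rangeRestrict_surjective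
    haveI := hRp.center_nontrivial
    obtain ⟨⟨⟨w, hwR⟩, hw⟩, hw2⟩ := exists_prime_orderOf_dvd_card' (G := ↥(Subgroup.center ↥f.range)) 2 (by
      obtain ⟨e, he⟩ := IsPGroup.iff_card.1 (hRp.to_subgroup (Subgroup.center ↥f.range))
      rcases e with - | e
      · exact absurd (Finite.one_lt_card (α := ↥(Subgroup.center ↥f.range))) (by simp [he])
      · rw [he]; exact dvd_pow_self 2 (by omega))
    have hw1 : w ≠ 1 := fun h => by
      subst h
      rw [show (⟨⟨1, hwR⟩, hw⟩ : ↥(Subgroup.center ↥f.range)) = 1 from rfl, orderOf_one] at hw2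
      omega
    have hww : w * w = 1 := by
      have := pow_orderOf_eq_one (⟨⟨w, hwR⟩, hw⟩ : ↥(Subgroup.center ↥f.range))
      rw [hw2, pow_two] at this
      exact congrArg (fun t : ↥(Subgroup.center ↥f.range) => ((t : ↥f.range) : Perm O)) this
    have hcen : ∀ (g : ↥Q) (b : O), w (g • b) = g • w b := fun g b => by
      have := congrArg (fun t : ↥f.range => (t : Perm O) b) (Subgroup.mem_center_iff.1 hw ⟨f g, g, rfl⟩)
      exact this.symm
    have hfpf : ∀ b : O, w b ≠ b := fun b hb => hw1 (Perm.ext fun c => by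
      obtain ⟨g, rfl⟩ := MulAction.exists_smul_eq ↥Q b c
      rw [hcen, hb]; rfl)
    have hwz : ∀ b : O, ((w b : O) : α) = z b := by
      intro b
      have hwx : ∀ k : ℕ, (x ^ k) ((w b : O) : α) = (w ((⟨x ^ k, pow_mem hxQ k⟩ : ↥Q) • b) : O) := fun k => by
        rw [hcen]; rfl
      by_cases hb : x (b : α) = b
      · refine (hz2 _ _ hb ?_ fun h => hfpf b (Subtype.ext h)).symm
        have hbb : ((⟨x ^ 1, pow_mem hxQ 1⟩ : ↥Q) • b) = b := Subtype.ext (show (x ^ 1) (b : α) = b by rw [pow_one]; exact hb)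
        have := hwx 1
        rw [hbb] at this
        simpa using this
      · have hper : MulAction.period x ((w b : O) : α) = MulAction.period x (b : α) := by
          have hiff : ∀ k : ℕ, (x ^ k) ((w b : O) : α) = (w b : O) ↔ (x ^ k) (b : α) = b := fun k => by
            rw [hwx, ← Subtype.ext_iff, w.injective.eq_iff, Subtype.ext_iff]; rfl
          exact Nat.dvd_antisymm ((pow_eq_iff _ _).1 ((hiff _).2 ((pow_eq_iff _ _).2 dvd_rfl)))
            ((pow_eq_iff _ _).1 ((hiff _).1 ((pow_eq_iff _ _).2 dvd_rfl)))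
        obtain ⟨i, hi⟩ := hc.2 _ _ hb hper.symm
        have hne : ¬ MulAction.period x (b : α) ∣ i := fun h => hfpf b (Subtype.ext (by rw [← hi, (pow_eq_iff _ _).2 h]))
        have h2i : MulAction.period x (b : α) ∣ 2 * i := by
          rw [← pow_eq_iff, two_mul, pow_add, Perm.mul_apply, hi, hwx,
            show ((⟨x ^ i, pow_mem hxQ i⟩ : ↥Q) • b) = w b from Subtype.ext hi, ← Perm.mul_apply, hww]
          rfl
        obtain ⟨hev, hpos⟩ := period_even hx hb
        obtain ⟨c, hc'⟩ := h2i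
        have hci : i = MulAction.period x (b : α) / 2 * c := by
          rw [← hev] at hc'
          linarith
        obtain ⟨d, rfl⟩ : Odd c := Nat.not_even_iff_odd.1 fun ⟨d, hd⟩ => hne ⟨d, by rw [hci, hd, ← hev]; simp; ring⟩
        rw [(hz1 _ hb).1, ← hi, hci, mul_add, mul_one, ← mul_assoc, mul_comm _ 2, hev, add_comm, pow_add, Perm.mul_apply,
          (pow_eq_iff _ _).2 (dvd_mul_right _ _)]
    intro g hg
    have h := congrArg Subtype.val (hcen ⟨g, hg⟩ a₀)
    rw [hwz] at h
    change z (g a) = g ((w a₀ : O) : α) at h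
    rw [hwz] at h
    exact h.symm
  refine Perm.ext fun a => ?_
  show g (z a) = z (g a)
  rcases key a with h | h
  · rw [h g hg]
    by_cases he : z a = a
    · rw [he, h g hg]
    rcases key (z a) with h' | h'
    · exact h' g hg
    · have hxa : x a = a := h x hxQ
      have hzz : z (z a) = a := hz2 _ _ (hz3 a hxa) hxa (Ne.symm he)
      have h1 := h' g hg
      rw [hzz, h g hg] at h1
      exact z.injective (h1.symm.trans hzz.symm)
  · exact h g hg

omit [Finite α] in
/-- The pairs `{a, z a}`. -/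
def pairSetoid (z : Perm α) (hz : z * z = 1) : Setoid α where
  r a b := b = a ∨ b = z a
  iseqv := by
    have hzz : ∀ a, z (z a) = a := fun a => by rw [← Perm.mul_apply, hz]; rfl
    refine ⟨fun a => Or.inl rfl, @fun a b h => ?_, @fun a b c h h' => ?_⟩
    · rcases h with rfl | rfl
      · exact Or.inl rfl
      · exact Or.inr (hzz a).symm
    · rcases h with rfl | rfl <;> rcases h' with rfl | rfl
      · exact Or.inl rfl
      · exact Or.inr rfl
      · exact Or.inr rfl
      · exact Or.inl (hzz a)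

lemma exists_top : ∀ (n : ℕ) (α : Type) [Finite α], Nat.card α ≤ n → ∀ x : Perm α, (∃ k, orderOf x = 2 ^ k) → Cond x →
    ∃ R : Subgroup (Perm α), IsPGroup 2 R ∧ ∀ Q : Subgroup (Perm α), IsPGroup 2 Q → x ∈ Q → Q ≤ R := by
  intro n
  induction n using Nat.strong_induction_on with
  | _ n IH =>
  intro α _ hn x hx hc
  haveI : Fact (Nat.Prime 2) := ⟨Nat.prime_two⟩
  obtain ⟨z, hzz, hxz, hz1, hz2, hz3⟩ := exists_z0 hx hc
  have hzza : ∀ a, z (z a) = a := fun a => by rw [← Perm.mul_apply, hzz]; rfl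
  by_cases hz : z = 1
  · subst hz
    haveI : Subsingleton α := ⟨fun a b => by
      have hfix : ∀ a, x a = a := fun a => by_contra fun h => (hz1 a h).2 rfl
      by_contra h
      exact h (hz2 a b (hfix a) (hfix b) (Ne.symm h))⟩
    exact ⟨⊥, IsPGroup.of_bot, fun Q _ _ g _ => Subgroup.mem_bot.2 (Subsingleton.elim g 1)⟩
  let s := pairSetoid z hzz
  let C := Subgroup.centralizer ({z} : Set (Perm α))
  have hC : ∀ g : ↥C, ∀ a, (g : Perm α) (z a) = z ((g : Perm α) a) := fun g a =>
    DFunLike.congr_fun (Subgroup.mem_centralizer_singleton_iff.1 g.2) a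
  have hres : ∀ (g : ↥C) (a b : α), s.r a b ↔ s.r ((g : Perm α) a) ((g : Perm α) b) := fun g a b => by
    show (b = a ∨ b = z a) ↔ ((g : Perm α) b = (g : Perm α) a ∨ (g : Perm α) b = z ((g : Perm α) a))
    rw [← hC, EmbeddingLike.apply_eq_iff_eq, EmbeddingLike.apply_eq_iff_eq]
  let φ : ↥C →* Perm (Quotient s) :=
    { toFun := fun g => Quotient.congr (g : Perm α) (hres g)
      map_one' := Perm.ext fun q => Quotient.inductionOn q fun a => rfl
      map_mul' := fun g h => Perm.ext fun q => Quotient.inductionOn q fun a => rfl }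
  have hxC : x ∈ C := Subgroup.mem_centralizer_singleton_iff.2 hxz
  let y : ↥C := ⟨x, hxC⟩
  have hy : ∀ (k : ℕ) a, (φ y ^ k) (Quotient.mk s a) = Quotient.mk s ((x ^ k) a) := fun k a => by
    rw [← map_pow]; rfl
  have heq : ∀ a b, Quotient.mk s a = Quotient.mk s b ↔ b = a ∨ b = z a := fun a b => Quotient.eq
  have hfix : ∀ a, φ y (Quotient.mk s a) = Quotient.mk s a → x a = a ∨ (x a ≠ a ∧ MulAction.period x a = 2 ∧ x a = z a) := by
    intro a h
    by_cases ha : x a = a
    · exact Or.inl ha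
    refine Or.inr ⟨ha, ?_, ?_⟩
    swap
    all_goals
      have h1 : x a = z a := by
        rcases (heq _ _).1 h with e | e
        · exact absurd e.symm ha
        · exact (congrArg z e).trans (hzza _) |>.symm
    · exact h1
    · have h2 : (x ^ 2) a = a := by
        rw [pow_two, Perm.mul_apply, h1, hC y, h1, hzza]
      have := Nat.le_of_dvd two_pos ((pow_eq_iff _ _).1 h2)
      have := period_even hx ha
      omega
  have hper : ∀ a, x a ≠ a → MulAction.period (φ y) (Quotient.mk s a) = MulAction.period x a / 2 := by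
    intro a ha
    obtain ⟨hev, hpos⟩ := period_even hx ha
    have hiff : ∀ k, MulAction.period (φ y) (Quotient.mk s a) ∣ k ↔ MulAction.period x a / 2 ∣ k := fun k => by
      rw [← pow_eq_iff, hy, eq_comm, heq, (hz1 a ha).1]
      constructor
      · rintro (h | h)
        · exact (Dvd.intro_left _ hev).trans ((pow_eq_iff _ _).1 h)
        · have h2 : (x ^ (2 * k)) a = a := by
            rw [two_mul, pow_add, Perm.mul_apply, h, ← Perm.mul_apply, ← pow_add, add_comm, pow_add, Perm.mul_apply, h,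
              ← Perm.mul_apply, ← pow_add, ← two_mul, hev]
            exact (pow_eq_iff _ _).2 dvd_rfl
          have := (pow_eq_iff _ _).1 h2
          rw [← hev] at this
          exact Nat.dvd_of_mul_dvd_mul_left two_pos this
      · rintro ⟨c, rfl⟩
        rcases Nat.even_or_odd' c with ⟨d, rfl | rfl⟩
        · exact Or.inl ((pow_eq_iff _ _).2 ⟨d, by rw [← mul_assoc, mul_comm _ 2, hev]⟩)
        · refine Or.inr ?_
          rw [mul_add, mul_one, ← mul_assoc, mul_comm _ 2, hev, add_comm, pow_add, Perm.mul_apply,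
            (pow_eq_iff _ _).2 (dvd_mul_right _ _)]
    exact Nat.dvd_antisymm ((hiff _).2 dvd_rfl) ((hiff _).1 dvd_rfl)
  have hcond : Cond (φ y) := by
    constructor
    · intro A B C'
      refine Quotient.inductionOn₃ A B C' fun a b c ha hb hc' => ?_
      have two : ∀ a b, x a = a → x b = b → Quotient.mk s a = Quotient.mk s b := fun a b ha hb => by
        by_cases e : b = a
        · rw [e]
        · exact (heq _ _).2 (Or.inr (hz2 a b ha hb e).symm)
      have two' : ∀ a b, (x a ≠ a ∧ MulAction.period x a = 2 ∧ x a = z a) → (x b ≠ b ∧ MulAction.period x b = 2 ∧ x b = z b) →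
          Quotient.mk s a = Quotient.mk s b := fun a b ha hb => by
        obtain ⟨i, hi⟩ := hc.2 a b ha.1 (ha.2.1.trans hb.2.1.symm)
        rcases Nat.even_or_odd' i with ⟨d, rfl | rfl⟩
        · rw [(pow_eq_iff _ _).2 ⟨d, by rw [ha.2.1]⟩] at hi
          rw [hi]
        · rw [pow_succ', Perm.mul_apply, (pow_eq_iff _ _).2 ⟨d, by rw [ha.2.1]⟩, ha.2.2] at hi
          exact (heq _ _).2 (Or.inr hi.symm)
      rcases hfix a ha with fa | fa <;> rcases hfix b hb with fb | fb
      · exact Or.inl (two _ _ fa fb)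
      · rcases hfix c hc' with fc | fc
        · exact Or.inr (Or.inl (two _ _ fa fc))
        · exact Or.inr (Or.inr (two' _ _ fb fc))
      · rcases hfix c hc' with fc | fc
        · exact Or.inr (Or.inr (two _ _ fb fc))
        · exact Or.inr (Or.inl (two' _ _ fa fc))
      · exact Or.inl (two' _ _ fa fb)
    · intro A B
      refine Quotient.inductionOn₂ A B fun a b hA he => ?_
      have hne : ∀ a, φ y (Quotient.mk s a) ≠ Quotient.mk s a → x a ≠ a := fun a h e => h (by
        rw [← pow_one (φ y), hy, pow_one, e])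
      have hB : φ y (Quotient.mk s b) ≠ Quotient.mk s b := fun h => hA (by
        have h1 := (pow_eq_iff (x := φ y) 1 (Quotient.mk s b)).1 (by rw [pow_one]; exact h)
        rw [← he] at h1
        simpa using (pow_eq_iff (x := φ y) 1 (Quotient.mk s a)).2 h1)
      rw [hper a (hne a hA), hper b (hne b hB)] at he
      obtain ⟨hea, -⟩ := period_even hx (hne a hA)
      obtain ⟨heb, -⟩ := period_even hx (hne b hB)
      obtain ⟨i, hi⟩ := hc.2 a b (hne a hA) (by omega)
      exact ⟨i, by rw [hy, hi]⟩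
  have hlt : Nat.card (Quotient s) < n := by
    refine lt_of_lt_of_le ?_ hn
    haveI := Fintype.ofFinite α
    rw [Nat.card_eq_fintype_card, Nat.card_eq_fintype_card]
    refine Fintype.card_lt_of_surjective_not_injective _ (Quotient.mk_surjective (s := s)) fun hinj => hz (Perm.ext fun a => ?_)
    exact (hinj ((heq a (z a)).2 (Or.inr rfl))).symm
  obtain ⟨k, hk⟩ := hx
  obtain ⟨j, -, hj⟩ := (Nat.dvd_prime_pow Nat.prime_two).1
    (show orderOf (φ y) ∣ 2 ^ k by rw [← hk, ← Subgroup.orderOf_mk x hxC]; exact orderOf_map_dvd φ y)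
  obtain ⟨R', hR', hmax⟩ := IH _ hlt (Quotient s) le_rfl (φ y) ⟨j, hj⟩ hcond
  have hker : IsPGroup 2 φ.ker := fun g => ⟨1, Subtype.ext (Subtype.ext (Perm.ext fun a => by
    have h1 : ∀ a, ((g : ↥C) : Perm α) a = a ∨ ((g : ↥C) : Perm α) a = z a := fun a =>
      ((heq _ _).1 (DFunLike.congr_fun (MonoidHom.mem_ker.1 g.2) (Quotient.mk s a)).symm)
    rw [pow_one, Subgroup.coe_pow, Subgroup.coe_pow, pow_two, Perm.mul_apply]
    show _ = a
    rcases h1 a with e | e
    · rw [e, e]
    · rw [e, hC, e, hzza]))⟩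
  refine ⟨(R'.comap φ).map C.subtype, (hR'.comap_of_ker_isPGroup φ hker).map _, fun Q hQ hxQ g hg => ?_⟩
  have hQC : Q ≤ C := fun g hg => Subgroup.mem_centralizer_singleton_iff.2 (z0_commutes ⟨k, hk⟩ hc hz1 hz2 hz3 Q hQ hxQ g hg)
  exact ⟨⟨g, hQC hg⟩, hmax ((Q.subgroupOf C).map φ) ((hQ.comap_subtype (H := Q) (K := C)).map _)
    ⟨y, hxQ, rfl⟩ ⟨⟨g, hQC hg⟩, hg, rfl⟩, rfl⟩

/-- Two overlapping transpositions, each compatible with `x`, obstruct uniqueness. -/
lemma swap_mem [DecidableEq α] {x : Perm α} (hx : ∃ k, orderOf x = 2 ^ k) {p q : α} (hpq : p ≠ q)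
    (hp : ∀ i : ℤ, (x ^ i) p = p ∨ (x ^ i) p = q → ((x ^ i) p = p ∧ (x ^ i) q = q) ∨ ((x ^ i) p = q ∧ (x ^ i) q = p))
    (hq : ∀ i : ℤ, (x ^ i) q = p ∨ (x ^ i) q = q → ((x ^ i) p = p ∧ (x ^ i) q = q) ∨ ((x ^ i) p = q ∧ (x ^ i) q = p)) :
    ∃ Q : Subgroup (Perm α), IsPGroup 2 Q ∧ x ∈ Q ∧ Equiv.swap p q ∈ Q := by
  haveI : Fact (Nat.Prime 2) := ⟨Nat.prime_two⟩
  let c : ℤ → Perm α := fun i => x ^ i * Equiv.swap p q * (x ^ i)⁻¹
  have hc0 : ∀ i, Commute (c i) (Equiv.swap p q) := fun i => by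
    have e : c i = Equiv.swap ((x ^ i) p) ((x ^ i) q) := by
      show x ^ i * Equiv.swap p q * (x ^ i)⁻¹ = _
      rw [Equiv.mul_swap_eq_swap_mul, mul_inv_cancel_right]
    rw [e]
    by_cases h : ((x ^ i) p = p ∨ (x ^ i) p = q) ∨ ((x ^ i) q = p ∨ (x ^ i) q = q)
    · rcases (h.elim (hp i) (hq i)) with ⟨e1, e2⟩ | ⟨e1, e2⟩
      · rw [e1, e2]
      · rw [e1, e2, Equiv.swap_comm]
    · push Not at h
      haveI := Fintype.ofFinite α
      refine (Perm.disjoint_iff_disjoint_support.2 ?_).commute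
      rw [Perm.support_swap (fun e => hpq ((x ^ i).injective e)), Perm.support_swap hpq]
      simp [Finset.disjoint_left, h.1.1, h.1.2, h.2.1, h.2.2]
  have hc : ∀ i j, c i * c j = c j * c i := fun i j => by
    have e : ∀ k, c k = MulAut.conj (x ^ j) (c (k - j)) := fun k => by
      show _ = x ^ j * (x ^ (k - j) * Equiv.swap p q * (x ^ (k - j))⁻¹) * (x ^ j)⁻¹
      simp only [c]; group
    rw [e i, e j, sub_self, ← map_mul, ← map_mul, show c 0 = Equiv.swap p q by simp [c], (hc0 _).eq]
  let N := Subgroup.closure (Set.range c)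
  haveI : IsMulCommutative ↥N := Subgroup.isMulCommutative_closure (by
    rintro _ ⟨i, rfl⟩ _ ⟨j, rfl⟩; exact hc i j)
  have hN : ∀ g ∈ N, g * g = 1 := fun g hg => by
    induction hg using Subgroup.closure_induction with
    | mem g hg =>
      obtain ⟨i, rfl⟩ := hg
      simp [c, mul_assoc]
    | one => simp
    | mul a b ha hb iha ihb =>
      have hab : b * a = a * b := congrArg Subtype.val (mul_comm' (⟨b, hb⟩ : ↥N) ⟨a, ha⟩)
      rw [mul_assoc, ← mul_assoc b, hab, mul_assoc, ihb, mul_one, iha]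
    | inv a _ iha => rw [← mul_inv_rev, iha, inv_one]
  have hNp : IsPGroup 2 ↥N := fun g => ⟨1, Subtype.ext (by simpa [pow_two] using hN g g.2)⟩
  have hX : IsPGroup 2 ↥(Subgroup.zpowers x) := by
    obtain ⟨k, hk⟩ := hx
    exact IsPGroup.of_card (n := k) (by rw [Nat.card_zpowers, hk])
  have hnorm : Subgroup.zpowers x ≤ Subgroup.normalizer (N : Set (Perm α)) := by
    refine le_trans ?_ (Subgroup.normalizer_le_normalizer_closure (Set.range c))
    rw [Subgroup.zpowers_le, Subgroup.mem_set_normalizer_iff]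
    intro g
    constructor
    · rintro ⟨i, rfl⟩; exact ⟨i + 1, by simp only [c]; group⟩
    · rintro ⟨i, hi⟩
      refine ⟨i - 1, ?_⟩
      rw [show g = x⁻¹ * (x * g * x⁻¹) * x by group, ← hi]
      simp only [c]; group
  exact ⟨N ⊔ Subgroup.zpowers x, IsPGroup.to_sup_of_normal_left' hNp hX hnorm, le_sup_right (a := N) (Subgroup.mem_zpowers x),
    le_sup_left (b := Subgroup.zpowers x) (Subgroup.subset_closure ⟨0, by simp [c]⟩)⟩

/-- Let n ≥ 2 and let x be an element of 2-power order of the symmetric group of degree n. Then x lies in exactly one Sylow 2-subgroup if and only if x has at most two fixed points and the nontrivial cycles of x have pairwise different lengths. -/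
theorem result (n : ℕ) (hn : 2 ≤ n)
    (x : Equiv.Perm (Fin n)) (hx : ∃ k : ℕ, orderOf x = 2 ^ k) :
    (∃! P : Sylow 2 (Equiv.Perm (Fin n)), x ∈ P) ↔ (n ≤ x.support.card + 2 ∧ x.cycleType.Nodup) := by
  haveI : Fact (Nat.Prime 2) := ⟨Nat.prime_two⟩
  have hfp : ∀ a : Fin n, a ∈ x.supportᶜ ↔ x a = a := fun a => by simp
  have hcard : n ≤ x.support.card + 2 ↔ x.supportᶜ.card ≤ 2 := by
    rw [Finset.card_compl, Fintype.card_fin]; omega
  -- period = size of the cycle
  have hcyc : ∀ a, x a ≠ a → (x.cycleOf a).support.card = MulAction.period x a := fun a ha => by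
    have hic := Perm.isCycle_cycleOf x ha
    have hiff : ∀ k : ℕ, (x.cycleOf a).support.card ∣ k ↔ MulAction.period x a ∣ k := fun k => by
      rw [← hic.orderOf, orderOf_dvd_iff_pow_eq_one, hic.pow_eq_one_iff' (x := a) (by rwa [Perm.cycleOf_apply_self]),
        Perm.cycleOf_pow_apply_self, pow_eq_iff]
    exact Nat.dvd_antisymm ((hiff _).2 dvd_rfl) ((hiff _).1 dvd_rfl)
  have hmemc : ∀ a, x a ≠ a → x.cycleOf a ∈ x.cycleFactorsFinset := fun a ha => by
    rw [Perm.cycleOf_mem_cycleFactorsFinset_iff, Perm.mem_support]; exact ha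
  -- the uniqueness statement as a statement about 2-subgroups
  have huniq : (∃! P : Sylow 2 (Perm (Fin n)), x ∈ P) → ∃ R : Subgroup (Perm (Fin n)), IsPGroup 2 R ∧
      ∀ Q : Subgroup (Perm (Fin n)), IsPGroup 2 Q → x ∈ Q → Q ≤ R := fun ⟨P, _, hP⟩ =>
    ⟨P, P.2, fun Q hQ hxQ => by
      obtain ⟨P', hP'⟩ := hQ.exists_le_sylow
      rw [← hP P' (hP' hxQ)]; exact hP'⟩
  have htwo : ∀ {R : Subgroup (Perm (Fin n))}, IsPGroup 2 R → ∀ {p q r : Fin n}, p ≠ q → p ≠ r → q ≠ r →
      Equiv.swap p q ∈ R → Equiv.swap p r ∈ R → False := fun {R} hR {p q r} hpq hpr hqr h1 h2 => by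
    obtain ⟨k, hk⟩ := hR ⟨_, R.mul_mem h1 h2⟩
    have h3 := (Perm.isThreeCycle_swap_mul_swap_same hpq hpr hqr).orderOf
    have hdvd : 3 ∣ 2 ^ k := h3 ▸ orderOf_dvd_of_pow_eq_one (congrArg Subtype.val hk)
    have := (Nat.prime_dvd_prime_iff_eq Nat.prime_three Nat.prime_two).1 (Nat.prime_three.dvd_of_dvd_pow hdvd)
    omega
  constructor
  · intro h
    obtain ⟨R, hR, hmax⟩ := huniq h
    refine ⟨hcard.2 ?_, ?_⟩
    · by_contra hlt
      obtain ⟨a, ha, b, hb, c, hc, hab, hac, hbc⟩ := Finset.two_lt_card.1 (not_le.1 hlt)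
      rw [hfp] at ha hb hc
      have hz : ∀ (a : Fin n), x a = a → ∀ i : ℤ, (x ^ i) a = a := fun a ha i =>
        Perm.zpow_apply_eq_self_of_apply_eq_self ha i
      have mk : ∀ b, x b = b → a ≠ b → Equiv.swap a b ∈ R := fun b hb hab => by
        obtain ⟨Q, hQ, hxQ, hs⟩ := swap_mem hx hab (fun i _ => Or.inl ⟨hz a ha i, hz b hb i⟩)
          (fun i _ => Or.inl ⟨hz a ha i, hz b hb i⟩)
        exact hmax Q hQ hxQ hs
      exact htwo hR hab hac hbc (mk b hb hab) (mk c hc hac)
    · rw [Perm.cycleType_def]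
      refine Multiset.Nodup.map_on (fun c hc d hd he => ?_) x.cycleFactorsFinset.nodup
      replace hc : c ∈ x.cycleFactorsFinset := hc
      replace hd : d ∈ x.cycleFactorsFinset := hd
      by_contra hne
      obtain ⟨hcc, hca⟩ := Perm.mem_cycleFactorsFinset_iff.1 hc
      obtain ⟨hdc, hda⟩ := Perm.mem_cycleFactorsFinset_iff.1 hd
      obtain ⟨a, ha⟩ := hcc.nonempty_support
      obtain ⟨b, hb⟩ := hdc.nonempty_support
      have hxa : x a ≠ a := by rw [← hca a ha]; exact Perm.mem_support.1 ha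
      have hxb : x b ≠ b := by rw [← hda b hb]; exact Perm.mem_support.1 hb
      have hce : c = x.cycleOf a := Perm.cycle_is_cycleOf ha hc
      have hde : d = x.cycleOf b := Perm.cycle_is_cycleOf hb hd
      have hL : MulAction.period x a = MulAction.period x b := by
        rw [← hcyc a hxa, ← hcyc b hxb, ← hce, ← hde]; exact he
      have hns : ∀ i : ℤ, (x ^ i) a ≠ b := fun i h => hne (by
        rw [hce, hde]
        exact Perm.SameCycle.cycleOf_eq ⟨i, h⟩)
      have hz : ∀ (a : Fin n) (i : ℤ), (x ^ i) a = a ↔ ((MulAction.period x a : ℕ) : ℤ) ∣ i := fun a i =>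
        (MulAction.zpow_smul_eq_iff_period_dvd (g := x) (a := a) (j := i))
      set L := MulAction.period x a with hLdef
      obtain ⟨hev, hpos⟩ := period_even hx hxa
      have hm : (x ^ (L / 2)) a ≠ a := fun h => by
        have := Nat.le_of_dvd hpos ((pow_eq_iff _ _).1 h)
        omega
      have hLL : (x ^ (L / 2)) ((x ^ (L / 2)) a) = a := by
        rw [← Perm.mul_apply, ← pow_add, ← two_mul, hev]; exact (pow_eq_iff _ _).2 dvd_rfl
      -- the antipodal pair
      obtain ⟨Q₁, hQ₁, hxQ₁, hs₁⟩ := swap_mem hx (p := a) (q := (x ^ (L / 2)) a) hm.symm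
        (fun i hi => by
          have hc : ∀ i : ℤ, (x ^ i) ((x ^ (L / 2)) a) = (x ^ (L / 2)) ((x ^ i) a) := fun i => by
            rw [← Perm.mul_apply, ← Perm.mul_apply, ← zpow_natCast x (L / 2), ← zpow_add, add_comm, zpow_add]
          rcases hi with h | h
          · exact Or.inl ⟨h, by rw [hc, h]⟩
          · exact Or.inr ⟨h, by rw [hc, h, hLL]⟩)
        (fun i hi => by
          have hc : ∀ i : ℤ, (x ^ i) ((x ^ (L / 2)) a) = (x ^ (L / 2)) ((x ^ i) a) := fun i => by
            rw [← Perm.mul_apply, ← Perm.mul_apply, ← zpow_natCast x (L / 2), ← zpow_add, add_comm, zpow_add]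
          rcases hi with h | h
          · exact Or.inr ⟨(x ^ (L / 2)).injective (by rw [← hc, h, hLL]), h⟩
          · exact Or.inl ⟨(x ^ (L / 2)).injective (by rw [← hc, h]), h⟩)
      -- the crossing pair
      have hab : a ≠ b := fun e => hns 0 (by simpa using e)
      obtain ⟨Q₂, hQ₂, hxQ₂, hs₂⟩ := swap_mem hx (p := a) (q := b) hab
        (fun i hi => hi.elim (fun h => Or.inl ⟨h, (hz b i).2 (hL ▸ (hz a i).1 h)⟩) (fun h => absurd h (hns i)))
        (fun i hi => hi.elim (fun h => absurd (show (x ^ (-i)) a = b by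
            rw [← h, ← Perm.mul_apply, ← zpow_add, neg_add_cancel, zpow_zero]; rfl) (hns _))
          (fun h => Or.inl ⟨(hz a i).2 (by have := (hz b i).1 h; rw [← hL] at this; exact this), h⟩))
      exact htwo hR hm.symm hab (fun e => hns (L / 2 : ℕ) (by rw [zpow_natCast]; exact e))
        (hmax Q₁ hQ₁ hxQ₁ hs₁) (hmax Q₂ hQ₂ hxQ₂ hs₂)
  · rintro ⟨hf, hnd⟩
    rw [Perm.cycleType_def] at hnd
    have hcond : Cond x := by
      refine ⟨fun a b c ha hb hc => ?_, fun a b ha hab => ?_⟩
      · by_contra h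
        push Not at h
        exact absurd (hcard.1 hf) (not_le.2 (Finset.two_lt_card.2
          ⟨a, (hfp a).2 ha, b, (hfp b).2 hb, c, (hfp c).2 hc, h.1, h.2.1, h.2.2⟩))
      · have hb : x b ≠ b := fun hb => by
          have h1 := (pow_eq_iff (x := x) 1 b).1 (by rw [pow_one]; exact hb)
          rw [← hab] at h1
          exact ha (by simpa using (pow_eq_iff (x := x) 1 a).2 h1)
        have e : x.cycleOf a = x.cycleOf b := Multiset.inj_on_of_nodup_map hnd _ (hmemc a ha) _ (hmemc b hb)
          (by show (x.cycleOf a).support.card = (x.cycleOf b).support.card; rw [hcyc a ha, hcyc b hb, hab])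
        have hsc : x.SameCycle a b := by
          have hmem : b ∈ (x.cycleOf a).support := by
            rw [e, Perm.mem_support, Perm.cycleOf_apply_self]; exact hb
          exact (Perm.mem_support_cycleOf_iff.1 hmem).1
        obtain ⟨i, -, hi⟩ := hsc.exists_pow_eq'
        exact ⟨i, hi⟩
    obtain ⟨R, hR, hmax⟩ := exists_top _ (Fin n) le_rfl x hx hcond
    obtain ⟨P, hP⟩ := hR.exists_le_sylow
    obtain ⟨k, hk⟩ := hx
    have hxP : x ∈ P := hP (hmax (Subgroup.zpowers x) (IsPGroup.of_card (n := k) (by rw [Nat.card_zpowers, hk]))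
      (Subgroup.mem_zpowers x) (Subgroup.mem_zpowers x))
    refine ⟨P, hxP, fun P' hP' => Sylow.ext (P'.3 P.2 ((hmax P' P'.2 hP').trans hP)).symm⟩

end Cfsg.Agent.S4349
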