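import Cfsg.Statements.S4358
import Cfsg.Agent.GLSylowWreath.Redundant

set_option autoImplicit false
open Cfsg

namespace Cfsg.Agent.S4358

/-- The property of having a redundant Sylow subgroup transports along isomorphisms. -/
theorem transport {G H : Type*} [Group G] [Group H] [Finite G] [Finite H] (φ : G ≃* H) (p : ℕ)
    [Fact p.Prime]
    (h : ∃ Q : Sylow p G, ∀ x : G, (∃ k : ℕ, orderOf x = p ^ k) →
      ∃ P : Sylow p G, P ≠ Q ∧ x ∈ P) :
    ∃ Q : Sylow p H, ∀ x : H, (∃ k : ℕ, orderOf x = p ^ k) →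
      ∃ P : Sylow p H, P ≠ Q ∧ x ∈ P := by
  obtain ⟨Q, hQ⟩ := h
  have hs : Function.Surjective φ.toMonoidHom := φ.surjective
  refine ⟨Q.mapSurjective hs, fun x ⟨k, hk⟩ => ?_⟩
  obtain ⟨P, hPQ, hxP⟩ := hQ (φ.symm x) ⟨k, by
    rw [← hk]; exact MulEquiv.orderOf_eq φ.symm x⟩
  refine ⟨P.mapSurjective hs, fun he => hPQ (Sylow.ext ?_), ?_⟩
  · exact Subgroup.map_injective (f := φ.toMonoidHom) φ.injective (congrArg Sylow.toSubgroup he)
  · exact ⟨φ.symm x, hxP, φ.apply_symm_apply x⟩

/-- Let p be an odd prime and F a finite field with q elements such that p divides q - 1 but p² does not. Then GL(p, F) has a Sylow p-subgroup Q such that every element of p-power order lies in some Sylow p-subgroup other than Q (a redundant Sylow p-subgroup). -/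
theorem result {F : Type*} [Field F] [Fintype F] (p : ℕ) [Fact p.Prime]
    (hp : p ≠ 2) (h1 : p ∣ Fintype.card F - 1) (h2 : ¬ p ^ 2 ∣ Fintype.card F - 1) :
    ∃ Q : Sylow p (Matrix.GeneralLinearGroup (Fin p) F), ∀ x : Matrix.GeneralLinearGroup (Fin p) F,
      (∃ k : ℕ, orderOf x = p ^ k) → ∃ P : Sylow p (Matrix.GeneralLinearGroup (Fin p) F), P ≠ Q ∧ x ∈ P := by
  classical
  let e : ZMod p ≃ Fin p :=
    { toFun := fun i => ⟨i.val, ZMod.val_lt i⟩
      invFun := fun j => (j.val : ZMod p)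
      left_inv := fun i => ZMod.natCast_zmod_val i
      right_inv := fun j => Fin.ext (ZMod.val_natCast_of_lt j.isLt) }
  have φ : GL (ZMod p) F ≃* Matrix.GeneralLinearGroup (Fin p) F :=
    Units.mapEquiv (Matrix.reindexAlgEquiv F F e).toMulEquiv
  rw [← Nat.card_eq_fintype_card] at h1 h2
  exact transport φ p (GLSylowWreath.exists_redundant hp h1 h2)

end Cfsg.Agent.S4358
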