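import Cfsg.Statements.S4370
import Mathlib
import Cfsg.Agent.S3939
import Cfsg.Agent.RankOneP.Basic

set_option autoImplicit false
open Cfsg

namespace Cfsg.Agent.S4370

open Subgroup in
/-- The centralizer of a noncentral element of a quaternion group lies in a cyclic subgroup. -/
theorem quaternion_centralizer {n : ℕ} [NeZero n] (u : QuaternionGroup n)
    (hu : u ∉ center (QuaternionGroup n)) :
    ∃ w : QuaternionGroup n, centralizer ({u} : Set (QuaternionGroup n)) ≤ zpowers w := by
  have key : ∀ j : ZMod (2 * n), j + j = 0 → j = 0 ∨ j = (n : ZMod (2 * n)) := by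
    intro j hj
    have hj' : ((2 * j.val : ℕ) : ZMod (2 * n)) = 0 := by
      rw [Nat.cast_mul, Nat.cast_two, ZMod.natCast_zmod_val]
      linear_combination hj
    obtain ⟨c, hc⟩ := (ZMod.natCast_eq_zero_iff _ _).1 hj'
    have hlt := j.val_lt
    have hc' : j.val = n * c := by linarith
    rcases c with _ | _ | c
    · left; rw [← ZMod.natCast_zmod_val j, hc', mul_zero, Nat.cast_zero]
    · right; rw [← ZMod.natCast_zmod_val j, hc', zero_add, mul_one]
    · exfalso; rw [hc'] at hlt; nlinarith
  have ha : ∀ j : ZMod (2 * n), QuaternionGroup.a j ∈ zpowers (QuaternionGroup.a 1 : QuaternionGroup n) := by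
    intro j
    refine mem_zpowers_iff.2 ⟨(j.val : ℤ), ?_⟩
    rw [zpow_natCast, QuaternionGroup.a_one_pow, ZMod.natCast_zmod_val]
  cases u with
  | a i =>
    refine ⟨QuaternionGroup.a 1, fun g hg => ?_⟩
    cases g with
    | a j => exact ha j
    | xa j =>
      exfalso
      rw [mem_centralizer_singleton_iff, QuaternionGroup.xa_mul_a, QuaternionGroup.a_mul_xa] at hg
      have h2 : i + i = 0 := by
        have := QuaternionGroup.xa.inj hg
        linear_combination this
      apply hu
      rw [mem_center_iff]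
      intro g
      cases g with
      | a k => simp [add_comm]
      | xa k =>
        rw [QuaternionGroup.xa_mul_a, QuaternionGroup.a_mul_xa]
        exact congrArg _ (by linear_combination h2)
  | xa i =>
    refine ⟨QuaternionGroup.xa i, fun g hg => ?_⟩
    have hsq : (QuaternionGroup.a (n : ZMod (2 * n)) : QuaternionGroup n) ∈ zpowers (QuaternionGroup.xa i) := by
      rw [← QuaternionGroup.xa_sq i]; exact pow_mem (mem_zpowers _) 2
    cases g with
    | a j =>
      rw [mem_centralizer_singleton_iff, QuaternionGroup.xa_mul_a, QuaternionGroup.a_mul_xa] at hg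
      have h2 : j + j = 0 := by
        have := QuaternionGroup.xa.inj hg
        linear_combination -this
      rcases key j h2 with rfl | rfl
      · rw [QuaternionGroup.a_zero]; exact one_mem _
      · exact hsq
    | xa j =>
      rw [mem_centralizer_singleton_iff, QuaternionGroup.xa_mul_xa, QuaternionGroup.xa_mul_xa] at hg
      have h2 : (j - i) + (j - i) = 0 := by
        have := QuaternionGroup.a.inj hg
        linear_combination -this
      have hj : QuaternionGroup.xa j = QuaternionGroup.xa i * QuaternionGroup.a (j - i) := by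
        rw [QuaternionGroup.xa_mul_a]; exact congrArg _ (by ring)
      rcases key _ h2 with h | h
      · rw [sub_eq_zero] at h; rw [h]; exact mem_zpowers _
      · rw [hj, h]; exact mul_mem (mem_zpowers _) hsq

open Subgroup in
/-- The centralizers of noncentral elements in quaternion × odd cyclic are cyclic. -/
theorem cyclic_centralizer_prod {k m : ℕ} (hm : Odd m)
    (x : QuaternionGroup (2 ^ k) × Multiplicative (ZMod m))
    (hx : x ∉ center (QuaternionGroup (2 ^ k) × Multiplicative (ZMod m))) :
    IsCyclic (centralizer ({x} : Set (QuaternionGroup (2 ^ k) × Multiplicative (ZMod m)))) := by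
  haveI : NeZero m := ⟨hm.pos.ne'⟩
  obtain ⟨u, v⟩ := x
  have hu : u ∉ center (QuaternionGroup (2 ^ k)) := fun h => hx (mem_center_iff.2 fun g =>
    Prod.ext (mem_center_iff.1 h g.1) (mul_comm _ _))
  obtain ⟨w, hw⟩ := quaternion_centralizer u hu
  haveI : IsCyclic ↥((zpowers w).prod (⊤ : Subgroup (Multiplicative (ZMod m)))) := by
    rw [((zpowers w).prodEquiv (⊤ : Subgroup (Multiplicative (ZMod m)))).isCyclic, Group.isCyclic_prod_iff]
    refine ⟨inferInstance, (Subgroup.topEquiv).isCyclic.2 inferInstance, ?_⟩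
    rw [Subgroup.card_top, Nat.card_eq_fintype_card (α := Multiplicative (ZMod m)),
      Fintype.card_multiplicative, ZMod.card]
    have h4 : Nat.card (QuaternionGroup (2 ^ k)) = 2 ^ (k + 2) := by
      rw [Nat.card_eq_fintype_card, QuaternionGroup.card, pow_add]; ring
    refine Nat.Coprime.coprime_dvd_left (h4 ▸ Subgroup.card_subgroup_dvd_card (zpowers w)) ?_
    exact Nat.Coprime.pow_left _ (Nat.coprime_two_left.2 hm)
  refine Subgroup.isCyclic_of_le (H' := (zpowers w).prod ⊤) fun g hg => ?_
  exact mem_prod.2 ⟨hw (mem_centralizer_singleton_iff.2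
    (congrArg Prod.fst (mem_centralizer_singleton_iff.1 hg))), mem_top _⟩

/-- Let G be a finite non-abelian nilpotent group. Then the centralizer of every non-central element of G is cyclic if and only if G is isomorphic to the direct product of a generalized quaternion group and a cyclic group of odd order. -/
theorem result {G : Type*} [Group G] [Finite G] (hG : Group.IsNilpotent G)
    (hna : ¬ IsMulCommutative G) :
    (∀ x : G, x ∉ Subgroup.center G → IsCyclic (Subgroup.centralizer ({x} : Set G))) ↔
      ∃ (k m : ℕ), 1 ≤ k ∧ Odd m ∧ Nonempty (G ≃* QuaternionGroup (2 ^ k) × Multiplicative (ZMod m)) := by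
  classical
  constructor
  swap
  · rintro ⟨k, m, -, hm, ⟨e⟩⟩ x hx
    have hx' : e x ∉ Subgroup.center (QuaternionGroup (2 ^ k) × Multiplicative (ZMod m)) := fun h =>
      hx (Subgroup.mem_center_iff.2 fun g => e.injective (by
        rw [map_mul, map_mul]; exact Subgroup.mem_center_iff.1 h (e g)))
    haveI := cyclic_centralizer_prod hm (e x) hx'
    refine isCyclic_of_injective (G' := Subgroup.centralizer ({e x} : Set _))
      ((e.toMonoidHom.comp (Subgroup.centralizer ({x} : Set G)).subtype).codRestrict _ fun g => ?_) ?_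
    · rw [Subgroup.mem_centralizer_singleton_iff]
      have := congrArg e (Subgroup.mem_centralizer_singleton_iff.1 g.2)
      simpa using this
    · intro a b hab
      exact Subtype.ext (e.injective (congrArg Subtype.val hab))
  intro hC
  haveI := hG
  -- a Sylow subgroup containing a noncentral element
  obtain ⟨p, hp, P, x, hxP, hxZ⟩ : ∃ (p : ℕ) (_ : Fact p.Prime) (P : Sylow p G) (x : G),
      x ∈ (P : Subgroup G) ∧ x ∉ Subgroup.center G := by
    by_contra hcon
    push_neg at hcon
    apply hna
    have hdvd : Nat.card G ∣ Nat.card (Subgroup.center G) := by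
      rw [Nat.dvd_iff_prime_pow_dvd_dvd]
      intro p k hp hk
      haveI := Fact.mk hp
      obtain ⟨P⟩ : Nonempty (Sylow p G) := inferInstance
      refine dvd_trans ?_ (Subgroup.card_dvd_of_le (show (P : Subgroup G) ≤ Subgroup.center G from
        fun y hy => hcon p ⟨hp⟩ P y hy))
      rw [P.card_eq_multiplicity]
      exact Nat.pow_dvd_pow p ((hp.pow_dvd_iff_le_factorization Nat.card_pos.ne').1 hk)
    have htop : Subgroup.center G = ⊤ := Subgroup.eq_top_of_le_card _ (Nat.le_of_dvd Nat.card_pos hdvd)
    exact ⟨⟨fun a b => (Subgroup.mem_center_iff.1 (htop ▸ Subgroup.mem_top b) a)⟩⟩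
  haveI := hp
  haveI hPn : (P : Subgroup G).Normal :=
    Sylow.normal_of_normalizerCondition normalizerCondition_of_isNilpotent P
  obtain ⟨R, hR⟩ := Subgroup.exists_right_complement'_of_coprime
    (N := (P : Subgroup G)) P.card_coprime_index
  have hcop : (Nat.card (P : Subgroup G)).Coprime (Nat.card R) := by
    rw [← hR.symm.index_eq_card]; exact P.card_coprime_index
  have hcomm : ∀ a ∈ (P : Subgroup G), ∀ b ∈ R, Commute a b := fun a ha b hb =>
    Cfsg.Agent.S3939.commute_of_coprime_nilpotent (Nat.Coprime.coprime_dvd_left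
      (Subgroup.orderOf_dvd_natCard _ ha) (Nat.Coprime.coprime_dvd_right (Subgroup.orderOf_dvd_natCard _ hb) hcop))
  haveI hcx := hC x hxZ
  haveI hRc : IsCyclic R := Subgroup.isCyclic_of_le (H' := Subgroup.centralizer ({x} : Set G))
    fun r hr => Subgroup.mem_centralizer_singleton_iff.2 (hcomm x hxP r hr).eq.symm
  let φ : ↥(P : Subgroup G) × ↥R →* G :=
    MonoidHom.noncommCoprod (P : Subgroup G).subtype R.subtype fun a b => hcomm a a.2 b b.2
  have hφ : Function.Bijective φ := by
    have h := hR
    exact h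
  let e : G ≃* ↥(P : Subgroup G) × ↥R := (MulEquiv.ofBijective φ hφ).symm
  -- P is noncommutative
  have hPna : ¬ ∀ a b : (P : Subgroup G), a * b = b * a := by
    intro h
    apply hna
    letI := hRc.commGroup
    exact ⟨⟨fun a b => e.injective (by
      rw [map_mul, map_mul]; exact Prod.ext (h _ _) (mul_comm _ _))⟩⟩
  haveI : Nontrivial (P : Subgroup G) := ⟨⟨⟨x, hxP⟩, 1, fun h => hxZ (by
    rw [show x = 1 from congrArg Subtype.val h]; exact one_mem _)⟩⟩
  -- a central element of order p
  obtain ⟨z, hz, hzo⟩ : ∃ z ∈ Subgroup.center G, orderOf z = p := by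
    haveI := P.2.center_nontrivial
    obtain ⟨j, hj⟩ := IsPGroup.iff_card.1 (P.2.to_subgroup (Subgroup.center (P : Subgroup G)))
    have hd : p ∣ Nat.card (Subgroup.center (P : Subgroup G)) := by
      rw [hj]; refine dvd_pow_self _ ?_
      rintro rfl
      have := Finite.one_lt_card (α := Subgroup.center (P : Subgroup G))
      rw [hj, pow_zero] at this; omega
    obtain ⟨⟨z, hzc⟩, hz⟩ := exists_prime_orderOf_dvd_card' p hd
    rw [Subgroup.orderOf_mk, ← Subgroup.orderOf_coe] at hz
    refine ⟨(z : G), Subgroup.mem_center_iff.2 fun g => ?_, hz⟩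
    obtain ⟨⟨a, b⟩, rfl⟩ := hφ.2 g
    show (a : G) * b * z = z * (a * b)
    have h1 : (a : G) * z = z * a := congrArg Subtype.val (Subgroup.mem_center_iff.1 hzc a)
    rw [mul_assoc, (hcomm z z.2 b b.2).eq.symm, ← mul_assoc, h1, mul_assoc]
  -- elements of order p are central
  have hcent : ∀ y : G, y ^ p = 1 → y ∈ Subgroup.center G := by
    intro y hy
    by_contra hyZ
    rcases (Nat.dvd_prime hp.out).1 (orderOf_dvd_of_pow_eq_one hy) with h1 | h1
    · exact hyZ (by rw [orderOf_eq_one_iff.1 h1]; exact one_mem _)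
    haveI := hC y hyZ
    let y' : Subgroup.centralizer ({y} : Set G) := ⟨y, Subgroup.mem_centralizer_singleton_iff.2 rfl⟩
    let z' : Subgroup.centralizer ({y} : Set G) :=
      ⟨z, Subgroup.mem_centralizer_singleton_iff.2 (Subgroup.mem_center_iff.1 hz y).symm⟩
    have hyz : y' ∈ Subgroup.zpowers z' := by
      rw [CfsgLib.RankOneP.zpowers_eq_of_orderOf_eq (a := z') (b := y') (by simp [y', z', hzo, h1])]
      exact Subgroup.mem_zpowers _
    obtain ⟨i, hi⟩ := hyz
    apply hyZ
    have : z ^ i = y := congrArg Subtype.val hi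
    rw [← this]
    exact zpow_mem hz i
  have hu : CfsgLib.RankOneP.UniqueOrderP p (P : Subgroup G) := by
    intro a b ha hb ha1
    have ha' : (a : G) ^ p = 1 := congrArg Subtype.val ha
    have hb' : (b : G) ^ p = 1 := congrArg Subtype.val hb
    have hin : ∀ c : G, c ^ p = 1 → c ∈ Subgroup.centralizer ({x} : Set G) := fun c hc =>
      Subgroup.mem_centralizer_singleton_iff.2 (Subgroup.mem_center_iff.1 (hcent c hc) x).symm
    rcases (Nat.dvd_prime hp.out).1 (orderOf_dvd_of_pow_eq_one hb') with hb1 | hb1
    · rw [orderOf_eq_one_iff] at hb1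
      rw [show b = 1 from Subtype.ext hb1]; exact one_mem _
    have ha2 : orderOf (a : G) = p := orderOf_eq_prime ha' fun h => ha1 (Subtype.ext h)
    obtain ⟨i, hi⟩ : (⟨b, hin b hb'⟩ : Subgroup.centralizer ({x} : Set G)) ∈
        Subgroup.zpowers (⟨a, hin a ha'⟩ : Subgroup.centralizer ({x} : Set G)) := by
      rw [CfsgLib.RankOneP.zpowers_eq_of_orderOf_eq
        (a := (⟨a, hin a ha'⟩ : Subgroup.centralizer ({x} : Set G)))
        (b := ⟨b, hin b hb'⟩) (by rw [Subgroup.orderOf_mk, Subgroup.orderOf_mk, ha2, hb1])]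
      exact Subgroup.mem_zpowers _
    exact ⟨i, Subtype.ext (by simpa using congrArg Subtype.val hi)⟩
  rcases CfsgLib.RankOneP.isCyclic_or_quaternion P.2 hu with hc | ⟨rfl, k, hk, ⟨eQ⟩⟩
  · exfalso
    letI := hc.commGroup
    exact hPna fun a b => mul_comm a b
  have hodd : Odd (Nat.card R) := by
    refine Nat.coprime_two_left.1 (Nat.Coprime.coprime_dvd_left ?_ hcop)
    haveI : Nontrivial (P : Subgroup G) := inferInstance
    obtain ⟨j, hj⟩ := IsPGroup.iff_card.1 P.2
    rw [hj]
    refine dvd_pow_self _ ?_
    rintro rfl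
    have := Finite.one_lt_card (α := (P : Subgroup G))
    rw [hj, pow_zero] at this; omega
  exact ⟨k, Nat.card R, hk, hodd, ⟨e.trans (MulEquiv.prodCongr eQ (zmodCyclicMulEquiv hRc).symm)⟩⟩

end Cfsg.Agent.S4370
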