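import Cfsg.Statements.S4395
import Cfsg.Agent.SchmidtCover.Main
import Cfsg.Agent.ZJ.Complement

set_option autoImplicit false
universe u
open Cfsg

namespace Cfsg.Agent.S4395

/-- Let p ≠ q be primes, r ≥ 1, a the multiplicative order of p modulo q, and a₀ = a when a is odd, a₀ = 3a/2 when a is even. Call a finite group minimal non-p-nilpotent when it has no normal p-complement but every proper subgroup has one. Then there is a minimal non-p-nilpotent group G₀ of order p^a₀ · q^r such that every minimal non-p-nilpotent group of order p^t · q^r (any t) is a quotient of G₀ by a central subgroup. -/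
theorem result (p q r : ℕ) [Fact p.Prime] [Fact q.Prime] (hpq : p ≠ q) (hr : 1 ≤ r) (a a₀ : ℕ)
    (ha : a = orderOf (p : ZMod q)) (ha₀ : a₀ = if a % 2 = 1 then a else 3 * a / 2) :
    ∃ (G₀ : Type u) (_ : Group G₀) (_ : Finite G₀),
      (¬ Cfsg.HasNormalPComplement p G₀ ∧ ∀ K : Subgroup G₀, K ≠ ⊤ → Cfsg.HasNormalPComplement p ↥K) ∧ Nat.card G₀ = p ^ a₀ * q ^ r ∧
      ∀ (X : Type u) [Group X] [Finite X], (¬ Cfsg.HasNormalPComplement p X ∧ ∀ K : Subgroup X, K ≠ ⊤ → Cfsg.HasNormalPComplement p ↥K) →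
        (∃ t : ℕ, Nat.card X = p ^ t * q ^ r) → ∃ φ : G₀ →* X, Function.Surjective φ ∧ φ.ker ≤ Subgroup.center G₀ := by
  subst ha ha₀
  haveI : NeZero (q ^ r) := ⟨pow_ne_zero _ (Fact.out : q.Prime).ne_zero⟩
  have hp := (Fact.out : p.Prime)
  have hq := (Fact.out : q.Prime)
  set a := orderOf (p : ZMod q) with ha
  have hapos : 0 < a := CfsgLib.SchmidtCover.order_pos hp hq hpq
  haveI : Finite (GaloisField p a) := inferInstance
  haveI := Fintype.ofFinite (GaloisField p a)
  have hK : Nat.card (GaloisField p a) = p ^ a := GaloisField.card p a hapos.ne'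
  obtain ⟨w, hw⟩ := exists_prime_orderOf_dvd_card' (G := (GaloisField p a)ˣ) q (by
    rw [Nat.card_units, hK]; exact CfsgLib.SchmidtCover.dvd_pow_order_sub_one hp)
  have D : CfsgLib.SchmidtCover.FData p q a (GaloisField p a) (w : GaloisField p a) :=
    ⟨hp, hq, hpq, rfl, hK, inferInstance, by rw [orderOf_units]; exact hw⟩
  obtain ⟨W, δ, hW, hinv, hcl⟩ := D.exists_cocycle
  let M := CfsgLib.SchmidtCover.Model D hinv (dvd_pow_self q (by omega : r ≠ 0))
  haveI : Finite M := Finite.of_equiv _ SemidirectProduct.equivProd.symm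
  refine ⟨ULift.{u} M, inferInstance, inferInstance, ⟨fun h => ?_, fun L hL => ?_⟩, ?_, fun X _ _ hX ⟨t, ht⟩ => ?_⟩
  · exact CfsgLib.SchmidtCover.model_not_complement D hinv hr hW
      ((CfsgLib.Transfer.hasNormalPComplement_congr MulEquiv.ulift).1 h)
  · let e : ULift.{u} M ≃* M := MulEquiv.ulift
    have hne : L.map e.toMonoidHom ≠ ⊤ := fun h => hL (by
      rw [← Subgroup.map_top_of_surjective e.toMonoidHom e.surjective] at h
      exact Subgroup.map_injective e.injective h)
    exact CfsgLib.ZJ.hasNormalPComplement_of_map_le e.toMonoidHom e.injective le_rfl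
      (CfsgLib.SchmidtCover.model_subgroup_complement D hinv hr hW hcl _ hne)
  · rw [Nat.card_congr Equiv.ulift, CfsgLib.SchmidtCover.card_model D hinv hr hW, CfsgLib.SchmidtCover.a_add_half]
  · obtain ⟨φ, hφ, hker⟩ := CfsgLib.SchmidtCover.exists_epi D hinv hW hcl hr hX.1 hX.2 ht
    refine ⟨φ.comp (MulEquiv.ulift : ULift.{u} M ≃* M).toMonoidHom, hφ.comp MulEquiv.ulift.surjective, fun g hg => ?_⟩
    refine Subgroup.mem_center_iff.2 fun h => ULift.down_injective ?_
    exact Subgroup.mem_center_iff.1 (hker hg) h.down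

end Cfsg.Agent.S4395
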