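import Cfsg.Statements.S4403
import Cfsg.Agent.S4145
import Cfsg.Agent.Components.Basic
import Cfsg.Agent.Components.Cores
import Cfsg.Agent.Components.Fixed
import Cfsg.Agent.PCore.Basic

set_option autoImplicit false
open Cfsg

namespace Cfsg.Agent.S4403

open scoped commutatorElement

section

variable {p : ℕ} {G : Type*} [Group G] [Finite G] [hp : Fact p.Prime]

set_option linter.unusedSectionVars false

/-- In a cyclic group, two elements of the same order generate the same subgroup. -/
private theorem mem_zpowers_of_orderOf_eq {H : Subgroup G} (hH : IsCyclic H) {x y : G} (hx : x ∈ H) (hy : y ∈ H)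
    (h : orderOf y = orderOf x) : y ∈ Subgroup.zpowers x := by
  classical
  have := Fintype.ofFinite H
  set S := Finset.univ.filter fun a : H => a ^ orderOf x = 1 with hS
  set T := Finset.univ.filter fun a : H => (a : G) ∈ Subgroup.zpowers x with hT
  have hle : Subgroup.zpowers x ≤ H := Subgroup.zpowers_le.2 hx
  have hsub : T ⊆ S := fun a ha => by
    simp only [hS, hT, Finset.mem_filter, Finset.mem_univ, true_and] at ha ⊢
    obtain ⟨j, hj⟩ := Subgroup.mem_zpowers_iff.1 ha
    refine Subtype.ext ?_
    rw [SubgroupClass.coe_pow, ← hj, ← zpow_natCast, ← zpow_mul, mul_comm j, zpow_mul, zpow_natCast,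
      pow_orderOf_eq_one, one_zpow, OneMemClass.coe_one]
  have hTc : T.card = orderOf x := by
    rw [← Nat.card_zpowers x, ← Nat.card_congr (Subgroup.subgroupOfEquivOfLe hle).toEquiv,
      Nat.card_eq_fintype_card, Fintype.card_subtype]
    simp [hT, Subgroup.mem_subgroupOf]
  have he : T = S := Finset.eq_of_subset_of_card_le hsub
    ((IsCyclic.card_pow_eq_one_le (orderOf_pos x)).trans hTc.ge)
  have hyS : (⟨y, hy⟩ : H) ∈ S := by
    simp only [hS, Finset.mem_filter, Finset.mem_univ, true_and]
    exact Subtype.ext (by simp [← h, pow_orderOf_eq_one])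
  rw [← he] at hyS
  exact (Finset.mem_filter.1 hyS).2

/-- A `p`-element normalising `P` lies in `P`. -/
private theorem mem_of_pElement (P : Sylow p G) {a : G} (ha : a ∈ Subgroup.normalizer ((P : Subgroup G) : Set G))
    {k : ℕ} (hk : orderOf a = p ^ k) : a ∈ (P : Subgroup G) := by
  have hg : IsPGroup p (Subgroup.zpowers a) := IsPGroup.of_card (n := k) (by rw [Nat.card_zpowers, hk])
  have h1 : (Subgroup.zpowers a ⊔ (P : Subgroup G) : Subgroup G) = P :=
    P.3 (hg.to_sup_of_normal_right' P.isPGroup' (Subgroup.zpowers_le.mpr ha)) le_sup_right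
  exact h1 ▸ Subgroup.mem_sup_left (Subgroup.mem_zpowers a)

/-- A `p'`-element normalising a cyclic Sylow subgroup and fixing a nontrivial element centralises it. -/
private theorem centralizes (P : Sylow p G) (hP : IsCyclic (P : Subgroup G)) {b : G}
    (hb : b ∈ Subgroup.normalizer ((P : Subgroup G) : Set G)) (hbp : (orderOf b).Coprime p) {z : G}
    (hz : z ∈ (P : Subgroup G)) (hz1 : z ≠ 1) (hzb : z * b = b * z) :
    b ∈ Subgroup.centralizer ((P : Subgroup G) : Set G) := by
  have hA : Subgroup.zpowers b ≤ Subgroup.normalizer ((P : Subgroup G) : Set G) := Subgroup.zpowers_le.2 hb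
  obtain ⟨k, hk⟩ := IsPGroup.iff_card.1 P.isPGroup'
  have hcop : (Nat.card (Subgroup.zpowers b)).Coprime (Nat.card (P : Subgroup G)) := by
    rw [Nat.card_zpowers, hk]; exact hbp.pow_right k
  have hcm : IsMulCommutative (P : Subgroup G) := hP.isMulCommutative
  have h1 := CfsgLib.CoprimeAction.centralizer_inf_commutator_eq_bot hA hcop
  have h2 := CfsgLib.CoprimeAction.commutator_sup_centralizer hA hcop
    (Or.inr (by have := P.isPGroup'.isNilpotent; infer_instance))
  rcases CfsgLib.Transfer.eq_bot_or_eq_bot_of_cyclic P.isPGroup' hP inf_le_left (le_sup_left.trans h2.le) h1 with h | h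
  · exfalso
    refine hz1 (Subgroup.mem_bot.1 (h ▸ Subgroup.mem_inf.2 ⟨hz, Subgroup.mem_centralizer_iff.2 fun y hy => ?_⟩))
    obtain ⟨j, rfl⟩ := Subgroup.mem_zpowers_iff.1 hy
    exact (Commute.zpow_right (show Commute z b from hzb) j).eq.symm
  · rw [h, bot_sup_eq] at h2
    exact Subgroup.le_centralizer_iff.1 (h2.ge.trans inf_le_right) (Subgroup.mem_zpowers b)

/-- With `O_{p'} = 1`, the centraliser of a normal subgroup of order `p` is the cyclic Sylow subgroup. -/
private theorem centralizer_eq_sylow (P : Sylow p G) (hP : IsCyclic (P : Subgroup G)) (hO : Cfsg.pPrimeCore p G = ⊥)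
    {z : G} (hz : z ∈ (P : Subgroup G)) (hz1 : z ≠ 1) (hn : (Subgroup.zpowers z).Normal) :
    Subgroup.centralizer (Subgroup.zpowers z : Set G) = (P : Subgroup G) := by
  set C := Subgroup.centralizer (Subgroup.zpowers z : Set G) with hC
  have hcm : IsMulCommutative (P : Subgroup G) := hP.isMulCommutative
  have hPC : (P : Subgroup G) ≤ C := fun x hx => Subgroup.mem_centralizer_iff.2 fun q hq =>
    congrArg Subtype.val (mul_comm' (⟨q, Subgroup.zpowers_le.2 hz hq⟩ : (P : Subgroup G)) ⟨x, hx⟩)
  have hCn : C.Normal := Subgroup.normal_centralizer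
  let PC : Sylow p C := P.subtype hPC
  have hb : Cfsg.HasNormalPComplement p C := by
    refine CfsgLib.Transfer.burnside_normal_complement PC fun c hc => Subgroup.mem_centralizer_iff.2 fun x hx => Subtype.ext ?_
    have hcN : (c : G) ∈ Subgroup.normalizer ((P : Subgroup G) : Set G) :=
      Subgroup.mem_normalizer_fintype (S := ((P : Subgroup G) : Set G)) fun s hs =>
        (Subgroup.mem_normalizer_iff.1 hc ⟨s, hPC hs⟩).1 hs
    obtain ⟨a, b, hab, -, ⟨k, hk⟩, hbp, han, hbn⟩ := CfsgLib.Transfer.exists_pPart_mul (p := p) (c : G)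
    have haP := mem_of_pElement P (Subgroup.zpowers_le.2 hcN han) hk
    have hbC : b ∈ C := Subgroup.zpowers_le.2 c.2 hbn
    have hbc : b ∈ Subgroup.centralizer ((P : Subgroup G) : Set G) :=
      centralizes P hP (Subgroup.zpowers_le.2 hcN hbn) hbp hz hz1
        (Subgroup.mem_centralizer_iff.1 hbC z (Subgroup.mem_zpowers z))
    have hac : a ∈ Subgroup.centralizer ((P : Subgroup G) : Set G) := Subgroup.mem_centralizer_iff.2 fun y hy =>
      congrArg Subtype.val (mul_comm' (⟨y, hy⟩ : (P : Subgroup G)) ⟨a, haP⟩)
    show (x : G) * c = c * x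
    rw [hab]
    exact Subgroup.mem_centralizer_iff.1 (Subgroup.mul_mem _ hac hbc) x hx
  have hch : (Cfsg.pResidual p C).Characteristic := CfsgLib.Transfer.pResidual_characteristic
  set R := (Cfsg.pResidual p C).map C.subtype with hR
  have hRn : R.Normal := ConjAct.normal_of_characteristic_of_normal
  have hRb : Cfsg.pResidual p C = ⊥ := by
    rw [← Subgroup.map_eq_bot_iff_of_injective _ C.subtype_injective, eq_bot_iff, ← hO]
    refine CfsgLib.PCore.le_pPrimeCore_of_not_dvd hRn ?_
    rw [Subgroup.card_map_of_injective C.subtype_injective]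
    exact CfsgLib.Transfer.hasNormalPComplement_iff.1 hb
  have hCp : IsPGroup p C := by
    have := CfsgLib.Transfer.isPGroup_quotient_pResidual (p := p) (G := C)
    exact this.of_injective (QuotientGroup.mk' _) (by
      rw [← MonoidHom.ker_eq_bot_iff, QuotientGroup.ker_mk', hRb])
  exact P.3 hCp hPC

private theorem fitting_eq_bot (hO : Cfsg.pPrimeCore p G = ⊥) (hp0 : Cfsg.pCore p G = ⊥) :
    Cfsg.fittingSubgroup G = ⊥ := by
  rw [CfsgLib.Components.fittingSubgroup_eq_iSup, eq_bot_iff]
  refine iSup_le fun q => ?_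
  by_cases hq : (q : ℕ) = p
  · rw [hq, hp0]
  have : Fact (q : ℕ).Prime := ⟨Nat.prime_of_mem_primeFactors q.2⟩
  rw [← hO]
  obtain ⟨k, hk⟩ := IsPGroup.iff_card.1 (CfsgLib.PCore.isPGroup_pCore q G)
  refine CfsgLib.PCore.le_pPrimeCore inferInstance ?_
  rw [hk]
  exact ((Nat.coprime_primes this.out hp.out).2 hq).pow_left k

end

/-- Let K be a finite group, p a prime dividing its order with O_{p'}(K) = 1 (no nontrivial normal subgroup of order prime to p), and P a cyclic Sylow p-subgroup of K. Then either P is normal and self-centralizing in K with K/P cyclic of order dividing p − 1 (so K is the semidirect product of P by a group of automorphisms of P of order dividing p − 1), or the generalized Fitting subgroup F*(K) is a non-abelian simple group and p does not divide the index of F*(K) in K. -/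
theorem result {K : Type*} [Group K] [Finite K] (p : ℕ) [Fact p.Prime] (hp : p ∣ Nat.card K) (hO : Cfsg.pPrimeCore p K = ⊥)
    (P : Sylow p K) (hP : IsCyclic ↥(P : Subgroup K)) :
    ((P : Subgroup K).Normal ∧ Subgroup.centralizer ((P : Subgroup K) : Set K) = (P : Subgroup K) ∧
      (∀ (_ : (P : Subgroup K).Normal), IsCyclic (K ⧸ (P : Subgroup K))) ∧ (P : Subgroup K).index ∣ p - 1) ∨
    (IsSimpleGroup ↥(Cfsg.generalizedFittingSubgroup K) ∧ ¬ IsMulCommutative ↥(Cfsg.generalizedFittingSubgroup K) ∧
      ¬ p ∣ (Cfsg.generalizedFittingSubgroup K).index) := by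
  have hp' : p.Prime := Fact.out
  by_cases hp0 : Cfsg.pCore p K = ⊥
  · right
    have hF := fitting_eq_bot hO hp0
    have hGF : Cfsg.generalizedFittingSubgroup K = Cfsg.layer K := by
      rw [Cfsg.generalizedFittingSubgroup, hF, sup_bot_eq]
    obtain ⟨L, hL⟩ : ∃ L : Subgroup K, Cfsg.IsComponent L := by
      by_contra hne
      push Not at hne
      have h := CfsgLib.Components.layer_eq_bot_of_no_component hne
      have hc := CfsgLib.Components.centralizer_generalizedFittingSubgroup_le (G := K)
      rw [hGF, h] at hc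
      have h1 : (⊤ : Subgroup K) ≤ ⊥ := fun x _ => hc (Subgroup.mem_centralizer_iff.2 fun y hy => by
        rw [Subgroup.mem_bot.1 hy, one_mul, mul_one])
      have : Nat.card K = 1 := by
        rw [← Subgroup.card_top, le_bot_iff.1 h1, Subgroup.card_bot]
      exact hp'.not_dvd_one (this ▸ hp)
    have key : ∀ M : Subgroup K, Cfsg.IsComponent M → ∃ x ∈ M, orderOf x = p ∧ Subgroup.center M = ⊥ := by
      intro M hM
      have hz : Subgroup.center M = ⊥ := by
        rw [← Subgroup.map_eq_bot_iff_of_injective _ M.subtype_injective, eq_bot_iff, ← hF]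
        refine CfsgLib.Components.subnormal_le_fittingSubgroup
          (CfsgLib.Components.subnormal_map_subtype (inferInstance : (Subgroup.center M).Normal).isSubnormal hM.1) ?_
        letI : CommGroup (Subgroup.center M) :=
          { (inferInstance : Group (Subgroup.center M)) with
            mul_comm := fun a b => Subtype.ext (Subgroup.mem_center_iff.1 b.2 a) }
        have : Group.IsNilpotent (Subgroup.center M) := CommGroup.isNilpotent
        exact Group.nilpotent_of_mulEquiv
          ((Subgroup.center M).equivMapOfInjective M.subtype M.subtype_injective)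
      have hd : p ∣ Nat.card M := by
        by_contra h
        have h1 := CfsgLib.Components.subnormal_le_pPrimeCore (p := p) hM.1 ((hp'.coprime_iff_not_dvd.2 h).symm)
        rw [hO, le_bot_iff] at h1
        exact CfsgLib.Components.quasisimple_ne_bot_of hM.2 h1
      obtain ⟨x, hx⟩ := exists_prime_orderOf_dvd_card' p hd
      exact ⟨x, x.2, (Subgroup.orderOf_coe x).trans hx, hz⟩
    have huniq : ∀ M : Subgroup K, Cfsg.IsComponent M → M = L := by
      intro M hM
      by_contra hne
      obtain ⟨x, hxM, hxp, hzM⟩ := key M hM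
      obtain ⟨y, hyL, hyp, -⟩ := key L hL
      have hc : ⁅M, L⁆ = ⊥ := CfsgLib.Components.components_commute hM hL hne
      rw [Subgroup.commutator_eq_bot_iff_le_centralizer] at hc
      have hxy : y * x = x * y := Subgroup.mem_centralizer_iff.1 (hc hxM) y hyL
      have hS : IsPGroup p (Subgroup.zpowers x ⊔ Subgroup.zpowers y : Subgroup K) := by
        refine IsPGroup.to_sup_of_normal_right' (IsPGroup.of_card (n := 1) (by rw [Nat.card_zpowers, hxp, pow_one]))
          (IsPGroup.of_card (n := 1) (by rw [Nat.card_zpowers, hyp, pow_one]))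
          (Subgroup.zpowers_le.2 (Subgroup.centralizer_le_normalizer _ (Subgroup.mem_centralizer_iff.2 ?_)))
        intro w hw
        obtain ⟨j, rfl⟩ := Subgroup.mem_zpowers_iff.1 hw
        exact (Commute.zpow_left (show Commute y x from hxy) j).eq
      obtain ⟨S, hSle⟩ := hS.exists_le_sylow
      have hScyc : IsCyclic (S : Subgroup K) := isCyclic_of_surjective _ (Sylow.equiv P S).surjective
      have hyx := mem_zpowers_of_orderOf_eq hScyc (hSle (Subgroup.mem_sup_left (Subgroup.mem_zpowers x)))
        (hSle (Subgroup.mem_sup_right (Subgroup.mem_zpowers y))) (hyp.trans hxp.symm)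
      have hyM : y ∈ M := Subgroup.zpowers_le.2 hxM hyx
      have hy1 : (⟨y, hyM⟩ : M) ∈ Subgroup.center M := Subgroup.mem_center_iff.2 fun g => Subtype.ext
        (Subgroup.mem_centralizer_iff.1 (hc g.2) y hyL).symm
      rw [hzM, Subgroup.mem_bot] at hy1
      have : y = 1 := congrArg Subtype.val hy1
      rw [this, orderOf_one] at hyp
      exact hp'.one_lt.ne hyp
    have hLay : Cfsg.layer K = L :=
      le_antisymm (sSup_le fun M hM => (huniq M hM).le) (CfsgLib.Components.component_le_layer hL)
    have hLn : L.Normal := hLay ▸ CfsgLib.Components.layer_normal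
    obtain ⟨x, hxL, hxp, hz⟩ := key L hL
    have hsimple : IsSimpleGroup L := by
      have := hL.2.2
      exact (((QuotientGroup.quotientMulEquivOfEq hz).trans QuotientGroup.quotientBot).isSimpleGroup_congr).1 this
    have hnc : ¬ IsMulCommutative L := fun h =>
      CfsgLib.Components.quasisimple_not_solvable hL.2 (Group.isSolvable_of_comm fun a b => mul_comm' a b)
    rw [hGF, hLay]
    refine ⟨hsimple, hnc, fun hidx => ?_⟩
    have hd : p ∣ Nat.card L := hxp ▸ Subgroup.orderOf_dvd_natCard _ hxL
    obtain ⟨hcomp, -⟩ := S4145.result p P hP L hd hidx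
    have hRn : (Cfsg.pResidual p L).Normal := CfsgLib.Transfer.pResidual_normal
    rcases hRn.eq_bot_or_eq_top with h | h
    · have hq := CfsgLib.Transfer.isPGroup_quotient_pResidual (p := p) (G := L)
      refine CfsgLib.Components.quasisimple_not_nilpotent hL.2 ?_
      exact (hq.of_injective (QuotientGroup.mk' _) (by
        rw [← MonoidHom.ker_eq_bot_iff, QuotientGroup.ker_mk', h])).isNilpotent
    · exact CfsgLib.Transfer.hasNormalPComplement_iff.1 hcomp (by rw [h, Subgroup.card_top]; exact hd)
  · left
    have hle : Cfsg.pCore p K ≤ (P : Subgroup K) := CfsgLib.PCore.pCore_le_sylow P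
    have hQc : IsCyclic (Cfsg.pCore p K) :=
      isCyclic_of_injective (Subgroup.inclusion hle) (Subgroup.inclusion_injective hle)
    obtain ⟨k, hk⟩ := IsPGroup.iff_card.1 (CfsgLib.PCore.isPGroup_pCore p K)
    have hk0 : k ≠ 0 := fun h => hp0 (Subgroup.card_eq_one.1 (by rw [hk, h, pow_zero]))
    obtain ⟨⟨z, hzQ⟩, hz⟩ := exists_prime_orderOf_dvd_card' (G := Cfsg.pCore p K) p (hk ▸ dvd_pow_self p hk0)
    rw [Subgroup.orderOf_mk] at hz
    have hz1 : z ≠ 1 := fun h => hp'.one_lt.ne (by rw [← hz, h, orderOf_one])
    have hn : (Subgroup.zpowers z).Normal := ⟨fun w hw g => by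
      have hconj : g * z * g⁻¹ ∈ Subgroup.zpowers z :=
        mem_zpowers_of_orderOf_eq hQc hzQ ((have := CfsgLib.PCore.pCore_characteristic p K; (inferInstance : (Cfsg.pCore p K).Normal)).conj_mem z hzQ g)
          (MulEquiv.orderOf_eq (MulAut.conj g) z)
      obtain ⟨j, rfl⟩ := Subgroup.mem_zpowers_iff.1 hw
      rw [← conj_zpow]
      exact Subgroup.zpow_mem _ hconj j⟩
    set Z := Subgroup.zpowers z with hZ
    have hC := centralizer_eq_sylow P hP hO (hle hzQ) hz1 hn
    have hPn : (P : Subgroup K).Normal := hC ▸ Subgroup.normal_centralizer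
    refine ⟨hPn, le_antisymm ((Subgroup.centralizer_le (Subgroup.zpowers_le.2 (hle hzQ))).trans hC.le) ?_, ?_⟩
    · have hcm : IsMulCommutative (P : Subgroup K) := hP.isMulCommutative
      exact fun x hx => Subgroup.mem_centralizer_iff.2 fun y hy =>
        congrArg Subtype.val (mul_comm' (⟨y, hy⟩ : (P : Subgroup K)) ⟨x, hx⟩)
    have hZp : Nat.card Z = p := (Nat.card_zpowers z).trans hz
    have hker : (MulAut.conjNormal (H := Z) : K →* MulAut Z).ker = (P : Subgroup K) := by
      rw [← hC]
      ext g
      rw [MonoidHom.mem_ker, Subgroup.mem_centralizer_iff, MulEquiv.ext_iff]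
      constructor
      · intro h w hw
        have := congrArg Subtype.val (h ⟨w, hw⟩)
        simp only [MulAut.conjNormal_apply, MulAut.one_apply] at this
        exact (mul_inv_eq_iff_eq_mul.1 this).symm
      · intro h w
        apply Subtype.ext
        simp only [MulAut.conjNormal_apply, MulAut.one_apply]
        exact mul_inv_eq_iff_eq_mul.2 (h w w.2).symm
    have hcardAut : Nat.card (MulAut Z) = p - 1 := by
      rw [Nat.card_congr (IsCyclic.mulAutMulEquiv Z).toEquiv, Nat.card_eq_fintype_card, ZMod.card_units_eq_totient,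
        hZp, Nat.totient_prime hp']
    have hAc : IsCyclic (MulAut Z) := by
      have : IsCyclic (ZMod (Nat.card Z))ˣ := by rw [hZp]; infer_instance
      exact isCyclic_of_surjective _ (IsCyclic.mulAutMulEquiv Z).symm.surjective
    refine ⟨fun _ => ?_, ?_⟩
    · exact isCyclic_of_injective
        (QuotientGroup.lift (P : Subgroup K) (MulAut.conjNormal (H := Z) : K →* MulAut Z) hker.ge)
        (by
          rw [← MonoidHom.ker_eq_bot_iff, QuotientGroup.ker_lift, hker]
          exact QuotientGroup.map_mk'_self _)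
    · rw [← hker, Subgroup.index_ker, ← hcardAut]
      exact Subgroup.card_subgroup_dvd_card _

end Cfsg.Agent.S4403
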