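import Cfsg.Statements.S4419
import Cfsg.Agent.MetaAut.Basic
import Cfsg.Agent.MetaResistant.Main
import Cfsg.Agent.PLocalBasics.AutRankTwo
import Cfsg.Agent.S4207
import Cfsg.Agent.Transfer.Frobenius
import Cfsg.Agent.PCore.Basic
import Cfsg.Agent.QDWr.WreathedAut

set_option autoImplicit false
open Cfsg CfsgLib.QDWr

namespace Cfsg.Agent.S4419

section

variable {P : Type*} [Group P] [Finite P]

/-- An automorphism of prime order `q ≠ p` of a metacyclic `p`-group has `q ∣ p ^ 2 - 1`. -/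
theorem dvd_of_aut {p : ℕ} [Fact p.Prime] (hP : IsPGroup p P) (hm : Cfsg.IsMetacyclic P) {q : ℕ} (hq : q.Prime)
    (hqp : q ≠ p) {σ : MulAut P} (hσ : orderOf σ = q) : q ∣ p ^ 2 - 1 := by
  set Φ := frattini P with hΦ
  have hΦσ : Φ.map σ.toMonoidHom = Φ := Subgroup.characteristic_iff_map_eq.1 frattini_characteristic σ
  have hmove : ∃ x : P ⧸ Φ, QuotientGroup.congr Φ Φ σ hΦσ x ≠ x := by
    by_contra hall
    push Not at hall
    obtain ⟨n, hn⟩ := IsPGroup.iff_card.1 hP
    obtain ⟨r, -, hr⟩ := (Nat.dvd_prime_pow (Fact.out : p.Prime)).1 (hn ▸ Φ.index_dvd_card)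
    let A : Subgroup (MulAut P) :=
      { carrier := {γ | ∀ t, γ t * t⁻¹ ∈ Φ}
        one_mem' := fun t => by simp
        mul_mem' := fun {a b} ha hb t => by
          have := Φ.mul_mem (ha (b t)) (hb t)
          simpa [mul_assoc] using this
        inv_mem' := fun {a} ha t => by
          have := Φ.inv_mem (ha (a⁻¹ t))
          simpa [mul_assoc] using this }
    have hσA : σ ∈ A := fun t => by
      have h1 : ((σ t : P) : P ⧸ Φ) = (t : P ⧸ Φ) := hall (t : P ⧸ Φ)
      rw [← QuotientGroup.eq_one_iff, QuotientGroup.mk_mul, QuotientGroup.mk_inv, h1, mul_inv_cancel]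
    have h1 : q ∣ p ^ (r * (n - r)) :=
      hσ ▸ (Subgroup.orderOf_dvd_natCard A hσA).trans (Cfsg.Agent.S4207.result hn hr A fun α hα => hα)
    exact hqp ((Nat.prime_dvd_prime_iff_eq hq Fact.out).1 (hq.dvd_of_dvd_pow h1))
  refine CfsgLib.PLocalBasics.dvd_sq_sub_one_of_small (hP.to_quotient Φ) ?_ hq hqp
    (σ := QuotientGroup.congr Φ Φ σ hΦσ) ?_ hmove
  · refine CfsgLib.MetaAut.card_le_sq (CfsgLib.MetaAut.isMetacyclic_quot hm Φ) (Fact.out : p.Prime).pos fun x => ?_
    induction x using QuotientGroup.induction_on with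
    | H x => exact (QuotientGroup.eq_one_iff _).2 (CfsgLib.PGroup.pow_mem_frattini hP x)
  · refine MulEquiv.ext fun x => ?_
    induction x using QuotientGroup.induction_on with
    | H x =>
      have hpow : ∀ k : ℕ, ((QuotientGroup.congr Φ Φ σ hΦσ : MulAut (P ⧸ Φ)) ^ k) (x : P ⧸ Φ) = ((σ ^ k) x : P) := by
        intro k
        induction k with
        | zero => simp
        | succ k ih => rw [pow_succ', MulAut.mul_apply, ih, pow_succ', MulAut.mul_apply]; rfl
      rw [hpow, ← hσ, pow_orderOf_eq_one]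
      rfl

end



/-- Let p be a prime and G a finite group whose Sylow p-subgroups are metacyclic (a cyclic normal subgroup with cyclic quotient). Then G has a normal p-complement if and only if the order of G/O_{p′,p}(G) is coprime to p² − 1. -/
theorem result {G : Type*} [Group G] [Finite G] (p : ℕ) [Fact p.Prime] (S : Sylow p G) (hS : Cfsg.IsMetacyclic ↥(S : Subgroup G)) : Cfsg.HasNormalPComplement p G ↔ Nat.Coprime (Nat.card (G ⧸ Cfsg.pPrimePCore p G)) (p ^ 2 - 1) := by
  have hp : p.Prime := Fact.out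
  haveI hKn : (Cfsg.pPrimeCore p G).Normal := Cfsg.pPrimeCore_normal p G
  haveI hMn : (Cfsg.pPrimePCore p G).Normal := CfsgLib.PCore.pPrimePCore_normal p G
  set K := Cfsg.pPrimeCore p G with hK
  constructor
  · rintro ⟨P, N, hN, hc⟩
    have hNc : ¬ p ∣ Nat.card N := hc.index_eq_card ▸ P.not_dvd_index
    have hNK : N ≤ K := CfsgLib.PCore.le_pPrimeCore_of_not_dvd hN hNc
    have htop : Cfsg.pPrimePCore p G = ⊤ := by
      rw [eq_top_iff]
      intro x _
      rw [CfsgLib.PCore.mem_pPrimePCore]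
      refine CfsgLib.PCore.le_pCore (N := ⊤) inferInstance ?_ (Subgroup.mem_top _)
      have hpK : IsPGroup p (G ⧸ K) := by
        refine IsPGroup.of_surjective P.isPGroup' ((QuotientGroup.mk' K).comp (P : Subgroup G).subtype) ?_
        intro y
        induction y using QuotientGroup.induction_on with
        | H g =>
          obtain ⟨n, hn, s, hs, rfl⟩ := Subgroup.mem_sup_of_normal_left.1 (hc.sup_eq_top ▸ Subgroup.mem_top g)
          refine ⟨⟨s, hs⟩, ?_⟩
          simp [(QuotientGroup.eq_one_iff n).2 (hNK hn)]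
      exact hpK.of_equiv Subgroup.topEquiv.symm
    rw [← Subgroup.index_eq_card, htop, Subgroup.index_top]
    exact Nat.coprime_one_left _
  · intro hcop
    refine CfsgLib.Transfer.frobenius_normal_complement (CfsgLib.Transfer.locallyTrivial_of_sylow S ?_)
    intro Q hQS g hg hgp
    by_contra hne
    have hQp : IsPGroup p Q := S.isPGroup'.to_le hQS
    have hQm : Cfsg.IsMetacyclic Q := CfsgLib.MetaResistant.isMetacyclic_of_surjective
      (f := (Subgroup.subgroupOfEquivOfLe hQS).toMonoidHom) (MulEquiv.surjective _)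
      (CfsgLib.MetaAut.isMetacyclic_sub hS _)
    set N := Subgroup.normalizer (Q : Set G)
    let φ : N →* MulAut Q := Subgroup.normalizerMonoidHom Q
    set σ := φ ⟨g, hg⟩ with hσ
    have hσ1 : σ ≠ 1 := by
      intro h
      refine hne (Subgroup.mem_centralizer_iff.2 fun x hx => ?_)
      exact (mul_inv_eq_iff_eq_mul.1 (congrArg Subtype.val (DFunLike.congr_fun h ⟨x, hx⟩))).symm
    have hdvd : orderOf σ ∣ orderOf g := (orderOf_map_dvd φ ⟨g, hg⟩).trans (Subgroup.orderOf_mk g hg).dvd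
    obtain ⟨q, hq, hqσ⟩ := Nat.exists_prime_and_dvd (n := orderOf σ) fun h => hσ1 (orderOf_eq_one_iff.1 h)
    have hqp : q ≠ p := fun e => by
      subst e
      exact hq.not_dvd_one (hgp ▸ Nat.dvd_gcd (hqσ.trans hdvd) dvd_rfl)
    haveI := finite_mulAut (X := Q)
    have hm0 : orderOf σ ≠ 0 := (orderOf_pos σ).ne'
    have hτ : orderOf (σ ^ (orderOf σ / q)) = q := orderOf_pow_orderOf_div hm0 hqσ
    have hq2 := dvd_of_aut hQp hQm hq hqp hτ
    set g' := g ^ (orderOf σ / q) with hg'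
    obtain ⟨a, r, hr, har⟩ := Nat.exists_eq_pow_mul_and_not_dvd (orderOf_pos g').ne' q hq.ne_one
    set u := g' ^ r with hu
    have huo : u ^ q ^ a = 1 := by rw [hu, ← pow_mul, mul_comm, ← har, pow_orderOf_eq_one]
    have huN : u ∈ N := pow_mem (pow_mem hg _) _
    have hφu : φ ⟨u, huN⟩ = (σ ^ (orderOf σ / q)) ^ r := by
      rw [hσ, ← map_pow, ← map_pow]
      exact congrArg φ (Subtype.ext rfl)
    have hτr : (σ ^ (orderOf σ / q)) ^ r ≠ 1 := fun h => hr (hτ ▸ orderOf_dvd_of_pow_eq_one h)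
    have huM : u ∈ Cfsg.pPrimePCore p G := by
      rw [← QuotientGroup.eq_one_iff, ← orderOf_eq_one_iff]
      refine Nat.eq_one_of_dvd_coprimes (Nat.Coprime.pow_right a ?_)
        (orderOf_dvd_natCard (u : G ⧸ Cfsg.pPrimePCore p G))
        (orderOf_dvd_of_pow_eq_one (by rw [← QuotientGroup.mk_pow, huo, QuotientGroup.mk_one]))
      exact hcop.coprime_dvd_right hq2
    have huK : u ∈ K := by
      rw [CfsgLib.PCore.mem_pPrimePCore] at huM
      obtain ⟨b, hb⟩ := CfsgLib.PCore.isPGroup_pCore p (G ⧸ K) ⟨_, huM⟩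
      rw [← QuotientGroup.eq_one_iff, ← orderOf_eq_one_iff]
      refine Nat.eq_one_of_dvd_coprimes (Nat.Coprime.pow a b ((Nat.coprime_primes hq hp).2 hqp))
        (orderOf_dvd_of_pow_eq_one (by rw [← QuotientGroup.mk_pow, huo, QuotientGroup.mk_one]))
        (orderOf_dvd_of_pow_eq_one (congrArg Subtype.val hb :))
    refine hτr (hφu ▸ MulEquiv.ext fun x => Subtype.ext ?_)
    show u * (x : G) * u⁻¹ = x
    have hxQ : u * (x : G) * u⁻¹ * (x : G)⁻¹ ∈ Q ⊓ K :=
      ⟨Q.mul_mem ((Subgroup.mem_normalizer_iff.1 huN _).1 x.2) (Q.inv_mem x.2), by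
        rw [show u * (x : G) * u⁻¹ * (x : G)⁻¹ = u * ((x : G) * u⁻¹ * (x : G)⁻¹) by group]
        exact K.mul_mem huK (hKn.conj_mem _ (K.inv_mem huK) _)⟩
    rw [CfsgLib.PCore.inf_eq_bot_of_isPGroup_of_coprime hQp (CfsgLib.PCore.pPrimeCore_coprime p G),
      Subgroup.mem_bot] at hxQ
    exact mul_inv_eq_one.1 hxQ

end Cfsg.Agent.S4419
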