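import Cfsg.Statements.S4429
import Cfsg.Agent.SmallOrders.Search
import Cfsg.Agent.SmallOrders.DegreeMod

/-!
The degrees of a simple group of order 7920, from the principal 11-block and the congruences modulo 5.
-/

set_option autoImplicit false
set_option linter.style.haveILetI false

open Cfsg CfsgLib CfsgLib.SmallOrd CfsgLib.CharBasics

namespace Cfsg.Agent.S4429

universe u

variable {G : Type u} [Group G] [Finite G]

/-- A self-centralising Sylow subgroup of order `p` divides the degrees outside the principal block. -/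
theorem dvd_of_outside [IsSimpleGroup G] {p e : ℕ} [Fact p.Prime] (P : Sylow p G) (hP : Nat.card P = p)
    (hCP : Subgroup.centralizer ((P : Subgroup G) : Set G) = P) (S : Split (G := G) p e (P : Subgroup G))
    (χ : IrrCharacter G) (h1 : χ ≠ oneChar) (hR : χ ∉ S.R) (hY : χ ∉ S.Y) :
    p ∣ charDegree (χ : G → ℂ) := by
  classical
  haveI := Fintype.ofFinite G
  have hp : p.Prime := Fact.out
  by_contra hd
  obtain ⟨M, hM⟩ := Blocks.exists_modular hp
  obtain ⟨D, hD⟩ := DefectOne.exists_data P hP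
  haveI : Subsingleton D.V := by
    refine (Nat.card_eq_one_iff_unique.1 ?_).1
    have h := D.card_centralizer
    rw [hD, hCP, hP] at h
    exact (Nat.mul_eq_left hp.ne_zero).1 h.symm
  obtain ⟨φ, hφ⟩ := (D.dvd_deg_iff hM χ).1 hd
  have hφ1 : φ = D.one := Subtype.ext (funext fun v => by
    rw [D.one_apply, Subsingleton.elim v 1, apply_one (isCharacter_of_irr φ.2)]
    haveI : IsMulCommutative D.V := ⟨⟨fun _ _ => Subsingleton.elim _ _⟩⟩
    rw [charDegree_comm φ.2, Nat.cast_one])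
  rw [hφ1, ← D.principalBlock_eq hM] at hφ
  rcases S.block M hM χ hφ with h | h | h
  · exact h1 h
  · exact hR h
  · exact hY h

theorem centralizer_eq_of_card {p : ℕ} [Fact p.Prime] (P : Subgroup G) (hP : Nat.card P = p)
    (hC : Nat.card (Subgroup.centralizer (P : Set G)) = p) : Subgroup.centralizer (P : Set G) = P := by
  haveI : IsCyclic P := isCyclic_of_prime_card hP
  haveI : IsMulCommutative P := IsCyclic.isMulCommutative
  exact (Subgroup.eq_of_le_of_card_ge (Subgroup.le_centralizer _) (by rw [hC, hP])).symm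

theorem eleven [IsSimpleGroup G] (h : Nat.card G = 7920) [Fact (Nat.Prime 11)] (P : Sylow 11 G) :
    Nat.card P = 11 ∧ Nat.card (Subgroup.centralizer ((P : Subgroup G) : Set G)) = 11 ∧
      (Subgroup.centralizer ((P : Subgroup G) : Set G)).relIndex
        (Subgroup.normalizer ((P : Subgroup G) : Set G)) = 5 := by
  have hG : ¬ IsMulCommutative G := not_comm (by rw [h]; norm_num)
  have hP : Nat.card P = 11 := by
    have := sylow_card (k := 1) (m := 720) (by rw [h]; norm_num) (by norm_num) P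
    rwa [pow_one] at this
  obtain ⟨L⟩ := exists_localData P hP (by rw [h]; norm_num)
  obtain ⟨c, hc⟩ := L.p_dvd
  have hnm := L.n_mul
  rw [h, ← L.e_mul, hc] at hnm
  have hec : L.n * (L.e * c) = 720 := by
    refine Nat.eq_of_mul_eq_mul_left (show 0 < 11 by norm_num) ?_
    rw [show 11 * 720 = 7920 from rfl, ← hnm]
    ring
  have hn : L.n ∣ 720 := ⟨_, hec.symm⟩
  have hn' := mem_list (by norm_num) hn L.n_mod L.n_ne
  rw [show (List.range (720 + 1)).filter (fun d => decide (d ∣ 720 ∧ d % 11 = 1 ∧ d ≠ 1)) = [12, 45, 144] by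
    decide +kernel] at hn'
  simp only [List.mem_cons, List.not_mem_nil, or_false] at hn'
  have he10 : L.e ∣ 10 := L.e_dvd
  rcases hn' with e | e | e
  · exfalso
    have hd := card_normalizer_dvd_of_succ (p := 11) (by norm_num) hG P hP
      (by rw [P.card_eq_index_normalizer]; exact L.hn.symm.trans e)
    rw [← L.hN, ← L.e_mul, hc, show L.e * (11 * c) = 11 * (L.e * c) by ring,
      show L.e * c = 60 by rw [e] at hec; omega] at hd
    norm_num at hd
  · exfalso
    have h16 : L.e * c = 16 := by rw [e] at hec; omega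
    have he : L.e = 2 := by
      have := Nat.le_of_dvd (by norm_num) ((Nat.dvd_gcd he10 (Dvd.intro c h16)).trans (by norm_num : Nat.gcd 10 16 ∣ 2))
      have := L.e_ne
      interval_cases h : L.e <;> simp_all
    have hev : 2 ∣ Nat.card (Subgroup.centralizer ((P : Subgroup G) : Set G)) := by
      rw [← L.hC, hc, show c = 8 by rw [he] at h16; omega]
      norm_num
    obtain ⟨B⟩ := exists_blockData hG (by norm_num) P hP (he ▸ L.he)
    obtain ⟨i, -, hE⟩ := B.sum_two
    have hm := B.D_mem (b := 88) (by rw [h]; norm_num) i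
    have hl := (B.large (by decide) hev).1 i
    have hd := B.E_spec.2.1
    rw [h, show cands 7920 11 88 = [-10, 12, 45] by decide +kernel] at hm
    rw [hE, h] at hd
    simp only [List.mem_cons, List.not_mem_nil, or_false] at hm
    rcases hm with e' | e' | e' <;> rw [e'] at hl hd <;> first | (norm_num at hl; done) | (norm_num at hd)
  · have h5 : L.e * c = 5 := by rw [e] at hec; omega
    rcases (Nat.dvd_prime (by norm_num)).1 (Dvd.intro c h5) with he | he
    · exact absurd he L.e_ne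
    · refine ⟨hP, ?_, by rw [L.he, he]⟩
      rw [← L.hC, hc, show c = 1 by rw [he] at h5; omega]

theorem no_involution [IsSimpleGroup G] (hG : ¬ IsMulCommutative G) [Fact (Nat.Prime 5)] (P : Sylow 5 G)
    (hP : Nat.card P = 5) (χ : IrrCharacter G) (hχ : charDegree (χ : G → ℂ) = 10) :
    ¬ 2 ∣ Nat.card (Subgroup.centralizer ((P : Subgroup G) : Set G)) := by
  classical
  haveI := Fintype.ofFinite G
  intro hev
  obtain ⟨y, hy, hyC⟩ := exists_involution_centralizing hev
  obtain ⟨M, hM⟩ := Blocks.exists_modular (p := 5) Fact.out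
  obtain ⟨D, hD⟩ := DefectOne.exists_data P hP
  have hv : ∀ g : G, 5 ∣ orderOf g → (χ : G → ℂ) g = 0 := fun g hg =>
    D.vanish_of_not_blk (fun φ hφ => D.not_dvd_deg_blk hM hφ (by rw [hχ]; norm_num)) hg
  have hne : χ ≠ oneChar := fun e => by
    have := apply_one (isCharacter_of_irr (oneChar (G := G)).2)
    rw [oneChar_apply, ← e, hχ] at this
    norm_num at this
  obtain ⟨a, ha, hlt, h4⟩ := exists_involution_value hG χ hne hy
  have hxy : Commute D.x y := Subgroup.mem_centralizer_iff.1 hyC D.x (by rw [← hD]; exact Subgroup.mem_zpowers _)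
  have hco : ∀ j : ℕ, ¬ 5 ∣ j → 5 ∣ orderOf (D.x ^ j) ∧ 5 ∣ orderOf (D.x ^ j * y) := fun j hj => by
    have h1 : orderOf (D.x ^ j) = 5 := by
      rw [Nat.Coprime.orderOf_pow (by rw [D.hx]; exact (Nat.Prime.coprime_iff_not_dvd (by norm_num)).2 hj), D.hx]
    refine ⟨dvd_of_eq h1.symm, ?_⟩
    rw [(hxy.pow_left j).orderOf_mul_eq_mul_orderOf_of_coprime (by rw [h1, hy]; norm_num), h1]
    exact dvd_mul_right _ _
  have h5 := value_congr (p := 5) (by norm_num) (by norm_num) (isCharacter_of_irr χ.2) D.hx hy hxy (s := 0) ha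
    (fun j hj => by
      rw [Int.cast_zero]
      exact ⟨hv _ (hco j hj).1, hv _ (hco j hj).2⟩) (by rw [hχ]; norm_num)
  rw [hχ] at hlt h4 h5
  have := abs_lt.1 hlt
  omega

theorem five [IsSimpleGroup G] (h : Nat.card G = 7920) [Fact (Nat.Prime 5)] (P : Sylow 5 G)
    (χ : IrrCharacter G) (hχ : charDegree (χ : G → ℂ) = 10) :
    Nat.card P = 5 ∧ Subgroup.centralizer ((P : Subgroup G) : Set G) = P ∧
      (Subgroup.centralizer ((P : Subgroup G) : Set G)).relIndex
        (Subgroup.normalizer ((P : Subgroup G) : Set G)) = 4 := by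
  have hG : ¬ IsMulCommutative G := not_comm (by rw [h]; norm_num)
  have hP : Nat.card P = 5 := by
    have := sylow_card (k := 1) (m := 1584) (by rw [h]; norm_num) (by norm_num) P
    rwa [pow_one] at this
  obtain ⟨L⟩ := exists_localData P hP (by rw [h]; norm_num)
  obtain ⟨c, hc⟩ := L.p_dvd
  have hnm := L.n_mul
  rw [h, ← L.e_mul, hc] at hnm
  have hec : L.n * (L.e * c) = 1584 := by
    refine Nat.eq_of_mul_eq_mul_left (show 0 < 5 by norm_num) ?_
    rw [show 5 * 1584 = 7920 from rfl, ← hnm]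
    ring
  have h11 : ¬ 11 ∣ c := by
    intro hd
    haveI : Fact (Nat.Prime 11) := ⟨by norm_num⟩
    obtain ⟨⟨z, hz⟩, hzo⟩ := exists_prime_orderOf_dvd_card' (G := Subgroup.centralizer ((P : Subgroup G) : Set G)) 11
      (by rw [← L.hC, hc]; exact hd.mul_left 5)
    rw [Subgroup.orderOf_mk] at hzo
    obtain ⟨Q, hQ⟩ := (IsPGroup.of_card (p := 11) (n := 1) (G := Subgroup.zpowers z)
      (by rw [Nat.card_zpowers, hzo, pow_one])).exists_le_sylow
    obtain ⟨hQc, hQC, -⟩ := eleven h Q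
    have hQz : Subgroup.zpowers z = Q := Subgroup.eq_of_le_of_card_ge hQ (by rw [hQc, Nat.card_zpowers, hzo])
    have hle : (P : Subgroup G) ≤ Subgroup.centralizer ((Q : Subgroup G) : Set G) := fun x hx => by
      rw [← hQz, Subgroup.zpowers_eq_closure, Subgroup.centralizer_closure, Subgroup.mem_centralizer_singleton_iff]
      exact Subgroup.mem_centralizer_iff.1 hz x hx
    have := Subgroup.card_dvd_of_le hle
    rw [hP, hQC] at this
    norm_num at this
  have hodd : ¬ 2 ∣ c := fun hd => no_involution hG P hP χ hχ (by rw [← L.hC, hc]; exact hd.mul_left 5)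
  have he4 : L.e ∣ 4 := L.e_dvd
  have he1 := L.e_ne
  have hn' := mem_list (by norm_num) (⟨_, hec.symm⟩ : L.n ∣ 1584) L.n_mod L.n_ne
  rw [show (List.range (1584 + 1)).filter (fun d => decide (d ∣ 1584 ∧ d % 5 = 1 ∧ d ≠ 1)) =
    [6, 11, 16, 36, 66, 176, 396] by decide +kernel] at hn'
  simp only [List.mem_cons, List.not_mem_nil, or_false] at hn'
  have he : L.e = 2 ∨ L.e = 4 := by
    have := Nat.le_of_dvd (by norm_num) he4
    interval_cases h : L.e <;> simp_all
  have hres : L.e = 4 ∧ c = 1 := by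
    rcases hn' with e | e | e | e | e | e | e <;> rw [e] at hec <;> rcases he with e' | e' <;> rw [e'] at hec ⊢ <;>
      omega
  refine ⟨hP, centralizer_eq_of_card _ hP ?_, by rw [L.he, hres.1]⟩
  rw [← L.hC, hc, hres.2]

theorem deg_list : ∀ d : ℕ, d < 89 → 7920 % d = 0 → (d % 5 = 0 ∨ d % 5 = 1 ∨ d % 5 = 4) → d ≠ 1 →
    ((d % 11 = 1 → d = 45) ∧ (d % 11 = 10 → d = 10) ∧
      (d % 11 = 5 ∨ d % 11 = 6 → d = 5 ∨ d = 6 ∨ d = 16 ∨ d = 60) ∧
      (d % 11 = 0 → d = 11 ∨ d = 44 ∨ d = 55 ∨ d = 66)) := by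
  intro d hd h1 h2 h3
  interval_cases d <;> omega

set_option maxHeartbeats 2000000 in
theorem result {G : Type*} [Group G] [Finite G] [IsSimpleGroup G] (hG : Nat.card G = 7920) : Nat.card (Cfsg.IrrCharacter G) = 10 ∧ ∀ n : ℕ, Nat.card {χ : Cfsg.IrrCharacter G // Cfsg.charDegree (χ : G → ℂ) = n} = (if n = 1 ∨ n = 11 ∨ n = 44 ∨ n = 45 ∨ n = 55 then 1 else if n = 10 then 3 else if n = 16 then 2 else 0) := by
  classical
  haveI := Fintype.ofFinite G
  haveI := Fintype.ofFinite (IrrCharacter G)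
  haveI : Fact (Nat.Prime 11) := ⟨by norm_num⟩
  haveI : Fact (Nat.Prime 5) := ⟨by norm_num⟩
  have hnc : ¬ IsMulCommutative G := not_comm (by rw [hG]; norm_num)
  obtain ⟨P⟩ : Nonempty (Sylow 11 G) := inferInstance
  obtain ⟨hP, hC, he⟩ := eleven hG P
  obtain ⟨S⟩ := exists_split hnc (by norm_num) P hP he
  set f : IrrCharacter G → ℕ := fun χ => charDegree (χ : G → ℂ) with hf
  obtain ⟨θ₀, hθ₀⟩ := S.nonempty_Y
  have hone : ¬ 11 ∣ orderOf (1 : G) := by rw [orderOf_one]; norm_num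
  have hY : ∀ θ ∈ S.Y, f θ = f θ₀ := fun θ hθ => by
    have h := S.agree θ hθ θ₀ hθ₀ 1 hone
    rw [apply_one (isCharacter_of_irr θ.2), apply_one (isCharacter_of_irr θ₀.2)] at h
    exact_mod_cast h
  have hrel : 1 + ∑ χ ∈ S.R, S.σ χ * (f χ : ℤ) + S.δ * (f θ₀ : ℤ) = 0 := by
    have h := S.rel θ₀ hθ₀ 1 hone
    rw [Finset.sum_congr rfl fun χ (_ : χ ∈ S.R) => by rw [apply_one (isCharacter_of_irr χ.2)],
      apply_one (isCharacter_of_irr θ₀.2)] at h
    exact_mod_cast h
  have hsq : ∑ χ, f χ ^ 2 = 7920 := (sum_sq_degree (G := G)).trans hG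
  have hlt : ∀ χ, f χ < 89 := fun χ => by
    have h1 := Finset.single_le_sum (f := fun χ => f χ ^ 2) (fun χ _ => Nat.zero_le _) (Finset.mem_univ χ)
    rw [hsq] at h1
    nlinarith
  have hdvd : ∀ χ, 7920 % f χ = 0 := fun χ => Nat.mod_eq_zero_of_dvd (hG ▸ degree_dvd χ)
  have h1 : f oneChar = 1 := by
    have := apply_one (isCharacter_of_irr (oneChar (G := G)).2)
    rw [oneChar_apply] at this
    exact_mod_cast this.symm
  have hne1 : ∀ χ : IrrCharacter G, χ ≠ oneChar → f χ ≠ 1 := fun χ h => (one_lt_degree hnc χ h).ne'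
  have hR1 : ∀ χ ∈ S.R, χ ≠ oneChar := fun χ h e => S.one_notMem.1 (e ▸ h)
  have hY1 : ∀ χ ∈ S.Y, χ ≠ oneChar := fun χ h e => S.one_notMem.2 (e ▸ h)
  have hRmod : ∀ χ ∈ S.R, (S.σ χ = 1 ∧ f χ % 11 = 1) ∨ (S.σ χ = -1 ∧ f χ % 11 = 10) := fun χ hχ => by
    have hd := S.deg_R χ hχ
    rcases S.sign_R χ hχ with e | e <;> rw [e] at hd
    · exact Or.inl ⟨e, by change (11 : ℤ) ∣ 1 * (f χ : ℤ) - 1 at hd; omega⟩
    · exact Or.inr ⟨e, by change (11 : ℤ) ∣ (-1) * (f χ : ℤ) - 1 at hd; omega⟩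
  have hYmod : f θ₀ % 11 = 5 ∨ f θ₀ % 11 = 6 := by
    have hd := S.deg_Y θ₀ hθ₀
    rcases S.sign_Y with e | e <;> rw [e] at hd
    · change (11 : ℤ) ∣ 1 * (f θ₀ : ℤ) + (5 : ℕ) at hd; omega
    · change (11 : ℤ) ∣ (-1) * (f θ₀ : ℤ) + (5 : ℕ) at hd; omega
  have hlist11 : ∀ d : ℕ, d < 89 → 7920 % d = 0 → d ≠ 1 →
      (d % 11 = 1 → d = 12 ∨ d = 45) ∧ (d % 11 = 10 → d = 10) := by
    intro d hd hd1 hd2
    interval_cases d <;> omega
  have hcR : S.R.card = 4 := by have := S.card_R; omega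
  -- a character of degree ten
  obtain ⟨χ10, hχ10⟩ : ∃ χ, f χ = 10 := by
    by_contra hno
    push Not at hno
    have hall : ∀ χ ∈ S.R, S.σ χ * (f χ : ℤ) = 12 + (if f χ = 45 then (33 : ℤ) else 0) := fun χ hχ => by
      obtain ⟨l1, l2⟩ := hlist11 _ (hlt χ) (hdvd χ) (hne1 χ (hR1 χ hχ))
      rcases hRmod χ hχ with ⟨e, e'⟩ | ⟨e, e'⟩
      · rcases l1 e' with k | k <;> rw [e, k] <;> norm_num
      · exact absurd (l2 e') (hno χ)
    rw [Finset.sum_congr rfl hall, Finset.sum_add_distrib, Finset.sum_const, hcR, ← Finset.sum_filter,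
      Finset.sum_const, nsmul_eq_mul, nsmul_eq_mul] at hrel
    have hle : (S.R.filter fun χ => f χ = 45).card ≤ 4 := hcR ▸ Finset.card_filter_le _ _
    generalize (S.R.filter fun χ => f χ = 45).card = a at hrel hle
    have hbad : f θ₀ = 49 ∨ f θ₀ = 82 := by
      have := hlt θ₀
      rcases S.sign_Y with e | e <;> rw [e] at hrel <;> push_cast at hrel <;> omega
    have hd := hdvd θ₀
    rcases hbad with e | e <;> rw [e] at hd <;> norm_num at hd
  -- congruences modulo five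
  obtain ⟨Q⟩ : Nonempty (Sylow 5 G) := inferInstance
  obtain ⟨hQ, hQC, hQe⟩ := five hG Q χ10 hχ10
  have h5 : ∀ χ, f χ % 5 = 0 ∨ f χ % 5 = 1 ∨ f χ % 5 = 4 := fun χ => by
    have h := deg_mod (p := 5) (by norm_num) Q hQ hQC hQe χ
    change (5 : ℤ) ∣ (f χ : ℤ) ∨ (5 : ℤ) ∣ (f χ : ℤ) - 1 ∨ (5 : ℤ) ∣ (f χ : ℤ) + 1 at h
    omega
  have hL : ∀ χ, χ ≠ oneChar → _ := fun χ hχ => deg_list (f χ) (hlt χ) (hdvd χ) (h5 χ) (hne1 χ hχ)
  have hRv : ∀ χ ∈ S.R, (S.σ χ = 1 ∧ f χ = 45) ∨ (S.σ χ = -1 ∧ f χ = 10) := fun χ hχ => by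
    rcases hRmod χ hχ with ⟨e, e'⟩ | ⟨e, e'⟩
    · exact Or.inl ⟨e, (hL χ (hR1 χ hχ)).1 e'⟩
    · exact Or.inr ⟨e, (hL χ (hR1 χ hχ)).2.1 e'⟩
  set A := S.R.filter fun χ => f χ = 45 with hA
  have hsumR : ∑ χ ∈ S.R, S.σ χ * (f χ : ℤ) = 55 * (A.card : ℤ) - 40 := by
    rw [Finset.sum_congr rfl (g := fun χ => (if f χ = 45 then (55 : ℤ) else 0) - 10) (fun χ hχ => by
      rcases hRv χ hχ with ⟨e, e'⟩ | ⟨e, e'⟩ <;> rw [e, e'] <;> norm_num), Finset.sum_sub_distrib,
      Finset.sum_const, hcR, ← Finset.sum_filter, Finset.sum_const]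
    simp [A, mul_comm]
  rw [hsumR] at hrel
  have hA1 : A.card = 1 ∧ f θ₀ = 16 := by
    have hle : A.card ≤ 4 := hcR ▸ Finset.card_filter_le _ _
    rcases (hL θ₀ (hY1 θ₀ hθ₀)).2.2.1 hYmod with e | e | e | e <;> rw [e] at hrel ⊢ <;>
      rcases S.sign_Y with e' | e' <;> rw [e'] at hrel <;> omega
  -- the seven characters of the block and the rest
  set B : Finset (IrrCharacter G) := insert oneChar (S.R ∪ S.Y) with hB
  set U : Finset (IrrCharacter G) := Finset.univ \ B with hU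
  have hU11 : ∀ χ ∈ U, f χ = 11 ∨ f χ = 44 ∨ f χ = 55 ∨ f χ = 66 := fun χ hχ => by
    have hnot : χ ∉ B := (Finset.mem_sdiff.1 hχ).2
    simp only [B, Finset.mem_insert, Finset.mem_union, not_or] at hnot
    obtain ⟨n1, nR, nY⟩ := hnot
    have hd := dvd_of_outside P hP (centralizer_eq_of_card _ hP hC) S χ n1 nR nY
    exact (hL χ n1).2.2.2 (Nat.mod_eq_zero_of_dvd hd)
  have hBdis : oneChar ∉ S.R ∪ S.Y := fun h => (Finset.mem_union.1 h).elim S.one_notMem.1 S.one_notMem.2
  have hcY : S.Y.card = 2 := S.card_Y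
  have hsplit : ∀ g : IrrCharacter G → ℕ, ∑ χ, g χ =
      g oneChar + (∑ χ ∈ S.R, g χ + ∑ χ ∈ S.Y, g χ) + ∑ χ ∈ U, g χ := fun g => by
    rw [← Finset.sum_union S.disj, ← Finset.sum_insert hBdis, ← hB, add_comm, hU,
      Finset.sum_sdiff (Finset.subset_univ B)]
  set N : ℕ → ℕ := fun n => (U.filter fun χ => f χ = n).card with hN
  have hRcount : ∀ n, (S.R.filter fun χ => f χ = n).card = if n = 45 then 1 else if n = 10 then 3 else 0 := by
    intro n
    split_ifs with h45 h10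
    · subst h45; exact hA1.1
    · subst h10
      have hnot : (S.R.filter fun χ => f χ = 10) = S.R.filter fun χ => ¬ f χ = 45 :=
        Finset.filter_congr fun χ hχ => by rcases hRv χ hχ with ⟨-, e⟩ | ⟨-, e⟩ <;> rw [e] <;> norm_num
      have := Finset.card_filter_add_card_filter_not (s := S.R) (fun χ => f χ = 45)
      rw [← hnot, ← hA, hA1.1, hcR] at this
      omega
    · rw [Finset.card_eq_zero, Finset.filter_eq_empty_iff]
      intro χ hχ
      rcases hRv χ hχ with ⟨-, e⟩ | ⟨-, e⟩ <;> rw [e] <;> omega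
  have hYcount : ∀ n, (S.Y.filter fun χ => f χ = n).card = if n = 16 then 2 else 0 := by
    intro n
    split_ifs with h16
    · subst h16
      rw [Finset.filter_true_of_mem fun θ hθ => by rw [hY θ hθ, hA1.2], hcY]
    · rw [Finset.card_eq_zero, Finset.filter_eq_empty_iff]
      intro θ hθ
      rw [hY θ hθ, hA1.2]
      omega
  have hsqU : ∑ χ ∈ U, f χ ^ 2 = 121 * N 11 + 1936 * N 44 + 3025 * N 55 + 4356 * N 66 := by
    rw [Finset.sum_congr rfl (g := fun χ => (if f χ = 11 then 121 else 0) + (if f χ = 44 then 1936 else 0) +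
        (if f χ = 55 then 3025 else 0) + (if f χ = 66 then 4356 else 0)) (fun χ hχ => by
      rcases hU11 χ hχ with e | e | e | e <;> rw [e] <;> norm_num)]
    simp only [Finset.sum_add_distrib, ← Finset.sum_filter, Finset.sum_const, smul_eq_mul, N, mul_comm]
  have hsqR : ∑ χ ∈ S.R, f χ ^ 2 = 2325 := by
    rw [Finset.sum_congr rfl (g := fun χ => (if f χ = 45 then 1925 else 0) + 100) (fun χ hχ => by
      rcases hRv χ hχ with ⟨-, e⟩ | ⟨-, e⟩ <;> rw [e] <;> norm_num), Finset.sum_add_distrib, ← Finset.sum_filter,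
      Finset.sum_const, Finset.sum_const, ← hA, hA1.1, hcR]
    norm_num
  have htot := hsplit fun χ => f χ ^ 2
  rw [hsq, h1, hsqR, hsqU, Finset.sum_congr rfl (fun θ (hθ : θ ∈ S.Y) => by rw [hY θ hθ, hA1.2]), Finset.sum_const,
    hcY] at htot
  -- five characters of degree prime to five
  have hfive : (Finset.univ.filter fun χ => ¬ 5 ∣ f χ).card = 5 := by
    obtain ⟨S5⟩ := exists_split hnc (by norm_num) Q hQ hQe
    have hne5 : ∀ χ ∈ insert oneChar (S5.R ∪ S5.Y), ¬ 5 ∣ f χ := by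
      intro χ hχ hd
      rcases Finset.mem_insert.1 hχ with e | hχ
      · rw [e, h1] at hd; norm_num at hd
      · rcases Finset.mem_union.1 hχ with hχ | hχ
        · have hd' := S5.deg_R χ hχ
          rcases S5.sign_R χ hχ with e | e <;> rw [e] at hd' <;>
            (obtain ⟨k, hk⟩ := hd; change (5 : ℤ) ∣ _ * (f χ : ℤ) - 1 at hd'; omega)
        · have hd' := S5.deg_Y χ hχ
          rcases S5.sign_Y with e | e <;> rw [e] at hd' <;>
            (obtain ⟨k, hk⟩ := hd; change (5 : ℤ) ∣ _ * (f χ : ℤ) + (4 : ℕ) at hd'; omega)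
    have heq : (Finset.univ.filter fun χ => ¬ 5 ∣ f χ) = insert oneChar (S5.R ∪ S5.Y) := by
      refine Finset.Subset.antisymm (fun χ hχ => ?_) fun χ hχ => Finset.mem_filter.2 ⟨Finset.mem_univ _, hne5 χ hχ⟩
      by_contra hno
      simp only [Finset.mem_insert, Finset.mem_union, not_or] at hno
      exact (Finset.mem_filter.1 hχ).2 (dvd_of_outside Q hQ hQC S5 χ hno.1 hno.2.1 hno.2.2)
    have hd5 : oneChar ∉ S5.R ∪ S5.Y := fun h => (Finset.mem_union.1 h).elim S5.one_notMem.1 S5.one_notMem.2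
    have hc := S5.card_R
    have hc' := S5.card_Y
    rw [heq, Finset.card_insert_of_notMem hd5, Finset.card_union_of_disjoint S5.disj]
    omega
  have hfive' := hsplit fun χ => if ¬ 5 ∣ f χ then 1 else 0
  rw [Finset.sum_boole] at hfive'
  rw [show ((Finset.univ.filter fun χ => ¬ 5 ∣ f χ).card : ℕ) = 5 from hfive] at hfive'
  have hR5 : ∑ χ ∈ S.R, (if ¬ 5 ∣ f χ then 1 else 0) = 0 := Finset.sum_eq_zero fun χ hχ => by
    rcases hRv χ hχ with ⟨-, e⟩ | ⟨-, e⟩ <;> rw [e] <;> norm_num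
  have hY5 : ∑ χ ∈ S.Y, (if ¬ 5 ∣ f χ then 1 else 0) = 2 := by
    rw [Finset.sum_congr rfl (fun θ (hθ : θ ∈ S.Y) => by rw [hY θ hθ, hA1.2]), Finset.sum_const, hcY]
    norm_num
  have hU5 : ∑ χ ∈ U, (if ¬ 5 ∣ f χ then 1 else 0) = N 11 + N 44 + N 66 := by
    rw [Finset.sum_congr rfl (g := fun χ => (if f χ = 11 then 1 else 0) + (if f χ = 44 then 1 else 0) +
        (if f χ = 66 then 1 else 0)) (fun χ hχ => by
      rcases hU11 χ hχ with e | e | e | e <;> rw [e] <;> norm_num)]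
    simp only [Finset.sum_add_distrib, Finset.sum_boole, N, Nat.cast_id]
  rw [hR5, hY5, hU5, h1] at hfive'
  norm_num at hfive' htot
  have hNv : N 11 = 1 ∧ N 44 = 1 ∧ N 55 = 1 ∧ N 66 = 0 := by
    have b1 : N 44 ≤ 2 := by omega
    have b2 : N 55 ≤ 1 := by omega
    have b3 : N 66 ≤ 1 := by omega
    generalize N 11 = a at *
    generalize N 44 = b at *
    generalize N 55 = c at *
    generalize N 66 = d at *
    interval_cases b <;> interval_cases c <;> interval_cases d <;> omega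
  have hcount : ∀ n, Nat.card {χ : IrrCharacter G // f χ = n} =
      (if n = 1 ∨ n = 11 ∨ n = 44 ∨ n = 45 ∨ n = 55 then 1 else if n = 10 then 3 else if n = 16 then 2 else 0) := by
    intro n
    have h := hsplit fun χ => if f χ = n then 1 else 0
    simp only [Finset.sum_boole, Nat.cast_id] at h
    rw [hRcount, hYcount, h1] at h
    rw [Nat.card_eq_fintype_card, Fintype.card_subtype, h]
    have hz : n ≠ 11 → n ≠ 44 → n ≠ 55 → n ≠ 66 → N n = 0 := fun a b c d => by
      rw [hN, Finset.card_eq_zero, Finset.filter_eq_empty_iff]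
      intro χ hχ e
      rcases hU11 χ hχ with e' | e' | e' | e' <;> omega
    change _ + _ + N n = _
    rcases eq_or_ne n 11 with rfl | a
    · rw [hNv.1]; rfl
    rcases eq_or_ne n 44 with rfl | b
    · rw [hNv.2.1]; rfl
    rcases eq_or_ne n 55 with rfl | c
    · rw [hNv.2.2.1]; rfl
    rcases eq_or_ne n 66 with rfl | d
    · rw [hNv.2.2.2]; rfl
    rw [hz a b c d]
    simp only [a, b, c, or_false, false_or, add_zero]
    split_ifs <;> first | rfl | omega
  refine ⟨?_, hcount⟩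
  have h := hsplit fun _ => 1
  simp only [Finset.sum_const, Finset.card_univ, smul_eq_mul, mul_one] at h
  have hUc : U.card = N 11 + N 44 + N 55 + N 66 := by
    have hs : ∑ χ ∈ U, 1 = ∑ χ ∈ U, ((if f χ = 11 then 1 else 0) + (if f χ = 44 then 1 else 0) +
        (if f χ = 55 then 1 else 0) + (if f χ = 66 then 1 else 0)) :=
      Finset.sum_congr rfl fun χ hχ => by rcases hU11 χ hχ with e | e | e | e <;> rw [e] <;> norm_num
    simp only [Finset.sum_const, smul_eq_mul, mul_one, Finset.sum_add_distrib, Finset.sum_boole, Nat.cast_id] at hs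
    exact hs
  rw [Nat.card_eq_fintype_card, h, hcR, hcY, hUc]
  omega

end Cfsg.Agent.S4429
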