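import Cfsg.Statements.S4441
import Cfsg.Agent.DefectOne.Bridge

set_option autoImplicit false
open Cfsg CfsgLib.DefectOne CfsgLib.CharBasics

namespace Cfsg.Agent.S4441

/-- Let p be an odd prime and G a finite group whose Sylow p-subgroup P has order p; let C = C_G(P), N = N_G(P), e the index of C in N and t = (p − 1)/e; fix a maximal ideal M of the algebraic integers containing p and let B₀ be the principal block. Then B₀ is the disjoint union of a set X of e characters and a set Y of t characters such that: each χ ∈ X has a sign ε_χ with χ(1) ≡ ε_χ (mod p) and χ(x y) = ε_χ for every non-identity x ∈ P and every p-regular y ∈ C; all members of Y agree on the p-regular elements of G; there is one sign ε with θ(1) ≡ ε e (mod p) for every θ ∈ Y; and for every θ ∈ Y and every p-regular g, ε θ(g) = Σ_{χ ∈ X} ε_χ χ(g). -/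
theorem result {G : Type*} [Group G] [Fintype G] (p : ℕ) [Fact p.Prime] (M : Ideal Cfsg.AlgInt) (hM : Cfsg.IsPModular p M) (hodd : p ≠ 2) (P : Sylow p G) (hP : Nat.card P = p) (e : ℕ) (he : (Subgroup.centralizer ((P : Subgroup G) : Set G)).relIndex (Subgroup.normalizer ((P : Subgroup G) : Set G)) = e) : ∃ X Y : Set (Cfsg.IrrCharacter G), Cfsg.principalBlock M G = X ∪ Y ∧ Disjoint X Y ∧ Nat.card X = e ∧ Nat.card Y = (p - 1) / e ∧ ∃ (εX : Cfsg.IrrCharacter G → ℤ) (ε : ℤ), (∀ χ ∈ X, (εX χ = 1 ∨ εX χ = -1) ∧ (Cfsg.charDegree (χ : G → ℂ) : ℤ) ≡ εX χ [ZMOD p] ∧ ∀ x : G, x ∈ (P : Subgroup G) → x ≠ 1 → ∀ y : G, y ∈ Subgroup.centralizer ((P : Subgroup G) : Set G) → ¬ p ∣ orderOf y → (χ : G → ℂ) (x * y) = (εX χ : ℂ)) ∧ (ε = 1 ∨ ε = -1) ∧ (∀ θ ∈ Y, (Cfsg.charDegree (θ : G → ℂ) : ℤ) ≡ ε * (e : ℤ) [ZMOD p]) ∧ (∀ θ ∈ Y, ∀ θ' ∈ Y, ∀ g : G, ¬ p ∣ orderOf g → (θ : G → ℂ) g = (θ' : G → ℂ) g) ∧ ∀ θ ∈ Y, ∀ g : G, ¬ p ∣ orderOf g → (ε : ℂ) * (θ : G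 → ℂ) g = ∑ᶠ χ ∈ X, (εX χ : ℂ) * (χ : G → ℂ) g := by
  classical
  obtain ⟨D, hD⟩ := exists_data P hP
  rw [← hD] at he ⊢
  rw [D.relIndex_eq, ← D.card_U_one] at he
  subst he
  obtain ⟨F⟩ := D.exists_family hM D.one
  refine ⟨D.rest F, Set.range F.θ, (D.principalBlock_eq hM).trans (D.blk_eq_union F), D.disjoint_rest F,
    D.card_rest hM F, (D.card_range F).trans (D.index_eq _), fun χ => -D.d χ 1 D.one, F.ε, fun χ hχ => ?_,
    F.sign, ?_, ?_, ?_⟩
  · refine ⟨?_, ?_, fun x hx hx1 y hy hreg => ?_⟩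
    · rcases D.rest_d hM F hχ with h | h <;> simp [h]
    · have h := D.deg_rest hM F hχ
      rwa [D.odeg_one, Nat.cast_one, mul_one] at h
    · obtain ⟨k, rfl⟩ := mem_powers_iff_mem_zpowers.2 hx
      obtain ⟨⟨i, v⟩, rfl⟩ := D.exists_pt (D.mem_centralizer_iff_commute.1 hy)
      have hi : i = 0 := by
        by_contra hi
        exact hreg (D.dvd_orderOf_pt hi v)
      subst hi
      simp only at hx1 ⊢
      have hk : (k : ZMod p) ≠ 0 := fun h => hx1 (by
        have h3 : D.x ^ k = D.x ^ 0 := D.pow_eq_iff.2 (by rw [h, Nat.cast_zero])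
        rwa [pow_zero] at h3)
      have e : D.x ^ k * D.pt (0, v) = D.pt ((k : ZMod p), v) := by
        rw [Data.pt, Data.pt, ← mul_assoc, ← pow_add, show D.x ^ (k + ((0 : ZMod p), v).1.val) = D.x ^ ((k : ZMod p), v).1.val by
          rw [D.pow_eq_iff]; simp]
      rw [e, D.apply_pt_rest hM F hχ hk, D.osum_one, mul_one, Int.cast_neg]
  · rintro _ ⟨q, rfl⟩
    have h := D.deg_theta hM F q
    rw [show charDegree (D.one : D.V → ℂ) = 1 from by
      have := D.odeg_one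
      rwa [Data.odeg, D.orb_one, Finset.card_singleton, one_mul] at this, mul_one, ← D.card_U_one] at h
    exact h
  · rintro _ ⟨q, rfl⟩ _ ⟨q', rfl⟩ g hg
    rw [D.theta_regular F q hg, D.theta_regular F q' hg]
  · rintro _ ⟨q, rfl⟩ g hg
    haveI : Fintype (IrrCharacter G) := Fintype.ofFinite _
    haveI : Fintype (D.rest F) := Fintype.ofFinite _
    rw [eq_neg_of_add_eq_zero_left (D.regular_relation F q hg), finsum_mem_eq_toFinset_sum,
      finsum_mem_eq_toFinset_sum, ← Finset.sum_neg_distrib]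
    exact Finset.sum_congr rfl fun χ _ => by rw [Int.cast_neg, neg_mul]

end Cfsg.Agent.S4441
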