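import Cfsg.Statements.S4459
import Cfsg.Agent.DegreeOneP.PGroup
import Cfsg.Agent.DegreeOneP.Thompson
import Cfsg.Agent.CA.TICent.Chars

set_option autoImplicit false
open Cfsg

namespace Cfsg.Agent.S4459

open CfsgLib CfsgLib.CharBasics CfsgLib.DegreeOneP
open scoped IsMulCommutative

universe u

section

variable {G : Type u} [Group G] [Finite G] {p : ℕ} [hp : Fact p.Prime]

private theorem structure_of_degDvd (hD : DegDvd p G) :
    IsMulCommutative G ∨ (∃ A : Subgroup G, A.Normal ∧ IsMulCommutative A ∧ A.index = p) ∨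
      (Subgroup.center G).index = p ^ 3 := by
  classical
  set N := Cfsg.pResidual p G with hN
  have hres : ¬ p ∣ Nat.card N := not_dvd_card_pResidual fun χ => (Nat.dvd_prime hp.out).1 (hD χ) |>.imp id fun h => by rw [h]
  haveI hNn : N.Normal := CfsgLib.Transfer.pResidual_normal
  haveI hNc : IsMulCommutative N := ItoConverse.isMulCommutative_of_all_linear fun θ => by
    rcases (Nat.dvd_prime hp.out).1 (degDvd_subgroup N hD θ) with h | h
    · exact h
    · exact absurd (h ▸ degree_dvd θ) hres
  have hQ : IsPGroup p (G ⧸ N) := CfsgLib.Transfer.isPGroup_quotient_pResidual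
  obtain ⟨k, hk⟩ := hQ.exists_card_eq
  rw [← Subgroup.index_eq_card] at hk
  by_cases hcent : N ≤ Subgroup.center G
  · obtain ⟨P⟩ : Nonempty (Sylow p G) := inferInstance
    have hsup : N ⊔ (P : Subgroup G) = ⊤ := CfsgLib.Transfer.pResidual_sup_sylow P
    have hdec : ∀ g : G, ∃ n ∈ N, ∃ x ∈ (P : Subgroup G), n * x = g := fun g =>
      Subgroup.mem_sup_of_normal_left.1 (hsup ▸ Subgroup.mem_top g)
    have hint : ∀ z : G, z ∈ N → z ∈ (P : Subgroup G) → z = 1 := by
      intro z hz hzP
      obtain ⟨i, hi⟩ := P.isPGroup'.exists_card_eq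
      have h1 : orderOf z ∣ Nat.gcd (Nat.card N) (p ^ i) :=
        Nat.dvd_gcd (Subgroup.orderOf_dvd_natCard N hz) (hi ▸ Subgroup.orderOf_dvd_natCard _ hzP)
      rw [Nat.Coprime.gcd_eq_one ((Nat.Coprime.pow_right i ((hp.out.coprime_iff_not_dvd.2 hres).symm))), Nat.dvd_one,
        orderOf_eq_one_iff] at h1
      exact h1
    have hcomm : ∀ a b : G, a * b * a⁻¹ * b⁻¹ ∈ N → a * b = b * a := by
      intro a b hab
      obtain ⟨n, hn, x, hx, rfl⟩ := hdec a
      obtain ⟨m, hm, y, hy, rfl⟩ := hdec b
      have hnc := Subgroup.mem_center_iff.1 (hcent hn)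
      have hmc := Subgroup.mem_center_iff.1 (hcent hm)
      have e : n * x * (m * y) * (n * x)⁻¹ * (m * y)⁻¹ = x * y * x⁻¹ * y⁻¹ := by
        rw [mul_inv_rev, mul_inv_rev]
        calc n * x * (m * y) * (x⁻¹ * n⁻¹) * (y⁻¹ * m⁻¹) = n * (x * m) * y * x⁻¹ * (n⁻¹ * y⁻¹) * m⁻¹ := by group
          _ = n * (m * x) * y * x⁻¹ * (y⁻¹ * n⁻¹) * m⁻¹ := by
            rw [hmc x, Subgroup.mem_center_iff.1 (inv_mem (hcent hn)) y⁻¹]
          _ = (n * m) * (x * y * x⁻¹ * y⁻¹) * (n * m)⁻¹ * ((n * m) * n⁻¹ * m⁻¹) := by group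
          _ = x * y * x⁻¹ * y⁻¹ := by
            rw [← Subgroup.mem_center_iff.1 ((Subgroup.center G).mul_mem (hcent hn) (hcent hm)) (x * y * x⁻¹ * y⁻¹),
              mul_inv_cancel_right, ← hnc m, mul_inv_cancel_right, mul_inv_cancel, mul_one]
      rw [e] at hab
      have h1 := hint _ hab (Subgroup.mul_mem _ (Subgroup.mul_mem _ (Subgroup.mul_mem _ hx hy) (inv_mem hx)) (inv_mem hy))
      have hxy : x * y = y * x := by
        have := congrArg (fun t : G => t * y * x) h1
        simpa [mul_assoc] using this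
      calc n * x * (m * y) = n * (x * m) * y := by group
        _ = (n * m) * (x * y) := by rw [hmc x]; group
        _ = (m * n) * (y * x) := by rw [hxy, hnc m]
        _ = m * (n * y) * x := by group
        _ = m * y * (n * x) := by rw [← hnc y]; group
    have hmk : ∀ a b : G, (a : G ⧸ N) * b = b * a → a * b * a⁻¹ * b⁻¹ ∈ N := by
      intro a b hh
      rw [← QuotientGroup.eq_one_iff, QuotientGroup.mk_mul, QuotientGroup.mk_mul, QuotientGroup.mk_mul, hh,
        QuotientGroup.mk_inv, QuotientGroup.mk_inv]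
      group
    have hcz : (Subgroup.center (G ⧸ N)).comap (QuotientGroup.mk' N) = Subgroup.center G := by
      ext z
      rw [Subgroup.mem_comap, Subgroup.mem_center_iff, Subgroup.mem_center_iff]
      refine ⟨fun h g => hcomm g z (hmk g z (h g)), fun h q => ?_⟩
      obtain ⟨g, rfl⟩ := QuotientGroup.mk'_surjective N q
      rw [← map_mul, ← map_mul, h g]
    rcases goal_pGroup (p := p) (G ⧸ N) hQ (degDvd_quotient N hD) with h | ⟨B, hBn, hBc, hBi⟩ | h
    · exact Or.inl ⟨⟨fun a b => hcomm a b (hmk a b (h.is_comm.comm _ _))⟩⟩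
    · refine Or.inr (Or.inl ⟨B.comap (QuotientGroup.mk' N), hBn.comap _, ⟨⟨fun a b => Subtype.ext ?_⟩⟩, ?_⟩)
      · exact hcomm _ _ (hmk _ _ (congrArg Subtype.val (hBc.is_comm.comm (⟨_, a.2⟩ : B) ⟨_, b.2⟩)))
      · rw [Subgroup.index_comap_of_surjective _ (QuotientGroup.mk'_surjective N), hBi]
    · exact Or.inr (Or.inr (by rw [← hcz, Subgroup.index_comap_of_surjective _ (QuotientGroup.mk'_surjective N), h]))
  · obtain ⟨n₀, hn₀, hnc⟩ := SetLike.not_le_iff_exists.1 hcent
    rw [Subgroup.mem_center_iff] at hnc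
    push Not at hnc
    obtain ⟨g, hg⟩ := hnc
    obtain ⟨φ₁, hφ₁⟩ := exists_hom_ne_one N (a := delta N g ⟨n₀, hn₀⟩)
      fun h => hg ((delta_eq_one_iff N g ⟨n₀, hn₀⟩).1 h)
    have hmoved : ∀ φ : N →* ℂˣ, stab N φ ≠ ⊤ → (stab N φ).index = p ∧ (stab N φ).Normal := by
      intro φ hne
      have hi : (stab N φ).index = p := ((Nat.dvd_prime hp.out).1 (index_stab_dvd N hD φ)).resolve_left
        fun h => hne (Subgroup.index_eq_one.1 h)
      refine ⟨hi, ?_⟩
      have hle := le_stab N φ
      have e : stab N φ = ((stab N φ).map (QuotientGroup.mk' N)).comap (QuotientGroup.mk' N) := by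
        rw [Subgroup.comap_map_eq_self]; rwa [QuotientGroup.ker_mk']
      rw [e]
      refine (normal_of_index_p hQ ?_).comap _
      rw [Subgroup.index_map_eq _ (QuotientGroup.mk'_surjective N) (by rwa [QuotientGroup.ker_mk']), hi]
    have h1ne : stab N φ₁ ≠ ⊤ := fun h => hφ₁ ((mem_stab N).1 (h ▸ Subgroup.mem_top g) _)
    obtain ⟨hM1, hM1n⟩ := hmoved φ₁ h1ne
    set M := stab N φ₁ with hM
    have hconj : ∀ (φ : N →* ℂˣ) (c x : G), x ∈ stab N φ → (stab N φ).Normal →
        ∀ a, φ (MulAut.conjNormal (H := N) c (MulAut.conjNormal (H := N) x a)) =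
          φ (MulAut.conjNormal (H := N) c a) := by
      intro φ c x hx hn a
      have h := (mem_stab N).1 (hn.conj_mem x hx c) (MulAut.conjNormal (H := N) c a)
      rw [delta_apply, map_mul, map_inv, mul_inv_eq_one] at h
      rw [h]
      congr 1
      apply Subtype.ext
      simp [mul_assoc]
    have hsame : ∀ φ₂ : N →* ℂˣ, stab N φ₂ ≠ ⊤ → stab N φ₂ = M := by
      intro φ₂ h2ne
      by_contra hne
      obtain ⟨hM2, hM2n⟩ := hmoved φ₂ h2ne
      have hsup12 : M ⊔ stab N φ₂ = ⊤ := by
        rw [← Subgroup.index_eq_one]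
        rcases (Nat.dvd_prime hp.out).1 (hM1 ▸ Subgroup.index_dvd_of_le (le_sup_left : M ≤ M ⊔ stab N φ₂)) with h | h
        · exact h
        · exfalso
          have he := Subgroup.index_strictAnti (lt_of_le_of_ne (le_sup_left : M ≤ M ⊔ stab N φ₂) fun e => hne (by
            refine Subgroup.eq_of_le_of_card_ge (e ▸ le_sup_right) ?_
            have h1 := M.card_mul_index
            have h2 := (stab N φ₂).card_mul_index
            rw [hM1] at h1; rw [hM2] at h2
            exact (Nat.eq_of_mul_eq_mul_right hp.out.pos (h1.trans h2.symm)).le))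
          omega
      -- some element outside `M` stabilises the product
      obtain ⟨c, hc, hcM⟩ : ∃ c ∈ stab N (φ₁ * φ₂), c ∉ M := by
        by_contra hcon
        push Not at hcon
        have hle : stab N (φ₁ * φ₂) ≤ M := hcon
        have h3 : stab N (φ₁ * φ₂) = M := by
          refine le_antisymm hle (fun x hx => ?_)
          by_contra hx3
          have hi := index_stab_dvd N hD (φ₁ * φ₂)
          have hlt := Subgroup.index_strictAnti (lt_of_le_of_ne hle fun e => hx3 (e ▸ hx))
          rw [hM1] at hlt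
          exact absurd (Nat.le_of_dvd hp.out.pos hi) (by omega)
        refine hne (Subgroup.eq_of_le_of_card_ge (fun x hx => ?_) (le_of_eq ?_)).symm
        · rw [mem_stab]
          intro a
          have h := (mem_stab N).1 (h3 ▸ hx : x ∈ stab N (φ₁ * φ₂)) a
          rwa [MonoidHom.mul_apply, (mem_stab N).1 hx, one_mul] at h
        · have h1 := M.card_mul_index
          have h2 := (stab N φ₂).card_mul_index
          rw [hM1] at h1; rw [hM2] at h2
          exact Nat.eq_of_mul_eq_mul_right hp.out.pos (h2.trans h1.symm)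
      set μ : N →* ℂˣ := φ₁ / φ₁.comp (MulAut.conjNormal (H := N) c).toMonoidHom with hμ
      have hμ1 : ∀ a, μ a = φ₁ (delta N c a) := fun a => by
        rw [hμ, MonoidHom.div_apply, delta_apply, map_mul, map_inv, div_eq_mul_inv]; rfl
      have hμ2 : ∀ a, μ a = (φ₂ (delta N c a))⁻¹ := fun a => by
        have h := (mem_stab N).1 hc a
        rw [MonoidHom.mul_apply] at h
        rw [hμ1]
        exact eq_inv_of_mul_eq_one_left h
      have hμfix : ∀ x, ∀ a, μ (MulAut.conjNormal (H := N) x a) = μ a := by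
        intro x
        have hx : x ∈ M ⊔ stab N φ₂ := hsup12 ▸ Subgroup.mem_top x
        rw [Subgroup.sup_eq_closure] at hx
        induction hx using Subgroup.closure_induction with
        | mem y hy =>
          intro a
          rcases hy with hy | hy
          · have h := (mem_stab N).1 hy a
            rw [delta_apply, map_mul, map_inv, mul_inv_eq_one] at h
            rw [hμ1, hμ1, delta_apply, delta_apply, map_mul, map_mul, map_inv, map_inv, hconj φ₁ c y hy hM1n a, ← h]
          · have h := (mem_stab N).1 hy a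
            rw [delta_apply, map_mul, map_inv, mul_inv_eq_one] at h
            rw [hμ2, hμ2, delta_apply, delta_apply, map_mul, map_mul, map_inv, map_inv, hconj φ₂ c y hy hM2n a, ← h]
        | one => intro a; rw [map_one]; rfl
        | mul y z _ _ hy hz => intro a; rw [map_mul, MulAut.mul_apply, hy, hz]
        | inv y _ hy => intro a; rw [← hy (MulAut.conjNormal (H := N) y⁻¹ a), map_inv, MulAut.apply_inv_self]
      have hpow : ∀ (j : ℕ) a, φ₁ (MulAut.conjNormal (H := N) (c ^ j) a) * μ a ^ j = φ₁ a := by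
        intro j
        induction j with
        | zero => intro a; simp
        | succ j ih =>
          intro a
          have h := ih (MulAut.conjNormal (H := N) c a)
          rw [hμfix] at h
          rw [pow_succ, map_mul, MulAut.mul_apply, pow_succ, ← mul_assoc, h]
          have h1 := hμ1 a
          rw [delta_apply, map_mul, map_inv] at h1
          rw [h1, mul_comm (φ₁ a), mul_inv_cancel_left]
      have hcp : c ^ p ∈ M := by
        haveI := hM1n
        rw [← QuotientGroup.eq_one_iff, QuotientGroup.mk_pow, ← hM1, Subgroup.index_eq_card]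
        exact pow_card_eq_one'
      refine hcM ((mem_stab N).2 fun a => ?_)
      have h := hpow p a
      have h' := (mem_stab N).1 hcp a
      rw [delta_apply, map_mul, map_inv, mul_inv_eq_one] at h'
      rw [← h', mul_eq_left] at h
      rw [← hμ1]
      have h1 : orderOf (μ a) ∣ p := orderOf_dvd_of_pow_eq_one h
      rcases (Nat.dvd_prime hp.out).1 h1 with h2 | h2
      · exact orderOf_eq_one_iff.1 h2
      · exact absurd (h2 ▸ (orderOf_map_dvd μ a).trans (orderOf_dvd_natCard a)) hres
    have hMN : ∀ m ∈ M, ∀ a : N, (m : G) * a = a * m := by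
      intro m hm a
      rw [← delta_eq_one_iff N m a]
      by_contra hne
      obtain ⟨φ, hφ⟩ := exists_hom_ne_one N hne
      by_cases hφt : stab N φ = ⊤
      · exact hφ ((mem_stab N).1 (hφt ▸ Subgroup.mem_top m) a)
      · exact hφ ((mem_stab N).1 (hsame φ hφt ▸ hm) a)
    refine Or.inr (Or.inl ⟨M, hM1n, ⟨⟨fun a b => Subtype.ext ?_⟩⟩, hM1⟩)
    show (a : G) * b = b * a
    obtain ⟨hc, hφc⟩ := commutator_mem_of_index N hD hM1 a.2 b.2
    -- `N` is central in `M` with a `p`-group as quotient
    set cab := (a : G) * b * (a : G)⁻¹ * (b : G)⁻¹ with hcab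
    have hbk : ∀ j : ℕ, (a : G) * (b : G) ^ j * (a : G)⁻¹ * ((b : G) ^ j)⁻¹ = cab ^ j := by
      intro j
      induction j with
      | zero => simp
      | succ j ih =>
        have hcb : (b : G) * cab = cab * b := hMN b b.2 ⟨cab, hc⟩
        have h1 : (a : G) * (b : G) * (a : G)⁻¹ = cab * b := by rw [hcab]; group
        have h2 : (a : G) * (b : G) ^ j * (a : G)⁻¹ = cab ^ j * (b : G) ^ j := by rw [← ih]; group
        have h3 : (a : G) * (b : G) ^ (j + 1) * (a : G)⁻¹ = cab ^ (j + 1) * (b : G) ^ (j + 1) := by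
          calc (a : G) * (b : G) ^ (j + 1) * (a : G)⁻¹
              = ((a : G) * (b : G) ^ j * (a : G)⁻¹) * ((a : G) * b * (a : G)⁻¹) := by rw [pow_succ]; group
            _ = cab ^ j * ((b : G) ^ j * cab) * b := by rw [h2, h1]; group
            _ = cab ^ (j + 1) * (b : G) ^ (j + 1) := by
              rw [((show Commute (b : G) cab from hcb).pow_left j).eq, pow_succ, pow_succ]; group
        rw [h3, mul_inv_cancel_right]
    have hbN : (b : G) ^ (p ^ k) ∈ N := by
      rw [← QuotientGroup.eq_one_iff, QuotientGroup.mk_pow, ← hk, Subgroup.index_eq_card]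
      exact pow_card_eq_one'
    have h1 := hbk (p ^ k)
    rw [hMN a a.2 ⟨_, hbN⟩, mul_inv_cancel_right, mul_inv_cancel, eq_comm] at h1
    have h2 : orderOf cab ∣ Nat.gcd (p ^ k) (Nat.card N) :=
      Nat.dvd_gcd (orderOf_dvd_of_pow_eq_one h1) (Subgroup.orderOf_dvd_natCard N hc)
    rw [Nat.Coprime.gcd_eq_one ((hp.out.coprime_iff_not_dvd.2 hres).pow_left k), Nat.dvd_one, orderOf_eq_one_iff] at h2
    have := congrArg (fun t : G => t * (b : G) * (a : G)) h2
    simpa [hcab, mul_assoc] using this

end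

/-- Let G be a non-abelian finite group and p a prime. Then the irreducible character degrees of G are exactly 1 and p if and only if either G has an abelian normal subgroup of index p or the centre of G has index p³. -/
theorem result {G : Type*} [Group G] [Finite G] (hG : ∃ a b : G, a * b ≠ b * a) (p : ℕ) (hp : p.Prime) : ((∀ χ : Cfsg.IrrCharacter G, Cfsg.charDegree (χ : G → ℂ) = 1 ∨ Cfsg.charDegree (χ : G → ℂ) = p) ∧ ∃ χ : Cfsg.IrrCharacter G, Cfsg.charDegree (χ : G → ℂ) = p) ↔ ((∃ A : Subgroup G, A.Normal ∧ (∀ a ∈ A, ∀ b ∈ A, a * b = b * a) ∧ A.index = p) ∨ (Subgroup.center G).index = p ^ 3) := by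
  haveI : Fact p.Prime := ⟨hp⟩
  have hna : ¬ IsMulCommutative G := fun h => by
    obtain ⟨a, b, hab⟩ := hG
    exact hab (h.is_comm.comm a b)
  constructor
  · rintro ⟨hdeg, -⟩
    have hD : DegDvd p G := fun χ => by rcases hdeg χ with h | h <;> rw [h] <;> simp
    rcases structure_of_degDvd hD with h | ⟨A, hn, hc, hi⟩ | h
    · exact absurd h hna
    · exact Or.inl ⟨A, hn, fun a ha b hb => congrArg Subtype.val (hc.is_comm.comm (⟨a, ha⟩ : A) ⟨b, hb⟩), hi⟩
    · exact Or.inr h
  · intro h
    have hdvd : ∀ χ : Cfsg.IrrCharacter G, Cfsg.charDegree (χ : G → ℂ) = 1 ∨ Cfsg.charDegree (χ : G → ℂ) = p := by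
      intro χ
      rcases h with ⟨A, hn, hc, hi⟩ | hZ
      · haveI : IsMulCommutative A := ⟨⟨fun a b => Subtype.ext (hc a a.2 b b.2)⟩⟩
        exact (Nat.dvd_prime hp).1 (hi ▸ Clifford.ito_dvd χ.2 A)
      · haveI : IsMulCommutative (Subgroup.center G) := inferInstance
        obtain ⟨i, hi3, hi⟩ := (Nat.dvd_prime_pow hp).1 (hZ ▸ Clifford.ito_dvd χ.2 (Subgroup.center G))
        have hsq := (CfsgLib.TICent.degree_sq_le χ.2).1
        rw [hZ, hi, ← pow_mul] at hsq
        have : i * 2 ≤ 3 := (Nat.pow_le_pow_iff_right hp.one_lt).1 hsq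
        rw [hi]
        rcases (show i = 0 ∨ i = 1 by omega) with rfl | rfl
        · exact Or.inl (pow_zero p)
        · exact Or.inr (pow_one p)
    refine ⟨hdvd, ?_⟩
    by_contra hne
    push Not at hne
    exact hna (ItoConverse.isMulCommutative_of_all_linear fun χ => (hdvd χ).resolve_right (hne χ))

end Cfsg.Agent.S4459
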