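import Cfsg.Statements.S4468
import Cfsg.Agent.LinGroup.SmallDegree
import Cfsg.Agent.PCore.PConstrained
import Cfsg.Agent.CoprimeAction.Invariant

set_option autoImplicit false
open Cfsg

namespace Cfsg.Agent.S4468

/-- Let the finite p-solvable group G have a faithful character χ of degree n ≤ p − 1 and suppose that a Sylow p-subgroup of G is not normal. Then n = p − 1, n is a power of 2, and χ is irreducible. -/
theorem result {G : Type*} [Group G] [Finite G] (χ : G → ℂ) (hχ : Cfsg.IsCharacter G χ) (hfaith : ∀ g : G, χ g = χ 1 → g = 1) (n : ℕ) (hn : Cfsg.charDegree χ = n) (p : ℕ) (hp : p.Prime) (hsolv : Cfsg.IsPSolvable p G) (hnp : n + 1 ≤ p) (P : Sylow p G) (hP : ¬ (P : Subgroup G).Normal) : n + 1 = p ∧ (∃ k : ℕ, n = 2 ^ k) ∧ Cfsg.IsIrrCharacter G χ := by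
  classical
  open CfsgLib.CharBasics in
  have main : ∃ (Q : Subgroup G) (_ : Fintype Q) (θ : Cfsg.IrrCharacter Q),
      Cfsg.classInner (fun a : Q => χ a) (θ : Q → ℂ) ≠ 0 ∧ Cfsg.charDegree (θ : Q → ℂ) = n ∧ n + 1 = p ∧
        ∃ k, n = 2 ^ k := by
    haveI := Fact.mk hp
    haveI := Fintype.ofFinite G
    have hres : ∀ H : Subgroup G, Cfsg.IsCharacter H (fun a : H => χ a) := fun H => isCharacter_restrict hχ H
    have hdegres : ∀ H : Subgroup G, Cfsg.charDegree (fun a : H => χ a) = n := fun H => by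
      rw [← @Nat.cast_inj ℂ, ← apply_one (hres H), ← hn, ← apply_one hχ]
      rfl
    haveI := Fintype.ofFinite (P : Subgroup G)
    obtain ⟨m, hm⟩ := IsPGroup.iff_card.1 P.2
    have hlin : ∀ θ : Cfsg.IrrCharacter (P : Subgroup G),
        Cfsg.classInner (fun a : (P : Subgroup G) => χ a) (θ : ↥(P : Subgroup G) → ℂ) ≠ 0 →
        Cfsg.charDegree (θ : ↥(P : Subgroup G) → ℂ) = 1 := by
      intro θ hθ
      have h1 := CfsgLib.LinGroup.sum_degree_le (hres _) {θ} (fun η hη => by
        rw [Finset.mem_singleton.1 hη]; exact hθ)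
      rw [Finset.sum_singleton, hdegres] at h1
      obtain ⟨i, -, hi⟩ := (Nat.dvd_prime_pow hp).1 (hm ▸ degree_dvd θ)
      rcases i with _ | i
      · rw [hi, pow_zero]
      · have h2 : p ≤ p ^ (i + 1) := Nat.le_self_pow (by omega) p
        omega
    have hab : ∀ a ∈ (P : Subgroup G), ∀ b ∈ (P : Subgroup G), a * b = b * a := by
      intro a ha b hb
      set A : (P : Subgroup G) := ⟨a, ha⟩
      set B : (P : Subgroup G) := ⟨b, hb⟩
      have h : (fun a : (P : Subgroup G) => χ a) (A * B * A⁻¹ * B⁻¹) = (fun a : (P : Subgroup G) => χ a) 1 :=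
        CfsgLib.LinGroup.apply_eq_of_constituents (isClassFunction (hres _)) fun θ hθ => by
          simp only [← linHomOf_apply θ (hlin θ hθ)]
          rw [map_mul, map_mul, map_mul, mul_assoc (linHomOf θ (hlin θ hθ) A * linHomOf θ (hlin θ hθ) B),
            mul_mul_mul_comm, ← map_mul, ← map_mul, mul_inv_cancel, mul_inv_cancel, map_one, one_mul]
      have h' := hfaith _ h
      simp only [A, B, Subgroup.coe_mul, Subgroup.coe_inv] at h'
      rwa [mul_inv_eq_one, mul_inv_eq_iff_eq_mul] at h'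
    set K := Cfsg.pPrimeCore p G with hK
    haveI hKn : K.Normal := (CfsgLib.PCore.pPrimeCore_mem p G).1
    have hKp : (Nat.card K).Coprime p := CfsgLib.PCore.pPrimeCore_coprime p G
    -- some element of `P` moves `K`
    obtain ⟨x, hx, hxK⟩ : ∃ x ∈ (P : Subgroup G), ¬ K ≤ Subgroup.centralizer ({x} : Set G) := by
      by_contra hc
      push Not at hc
      apply hP
      set f := QuotientGroup.mk' K with hf
      have hfs : Function.Surjective f := QuotientGroup.mk'_surjective K
      have hR : Cfsg.pCore p (G ⧸ K) ≤ (P : Subgroup G).map f :=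
        CfsgLib.PCore.pCore_le_sylow (P.mapSurjective hfs)
      have hc' := CfsgLib.PCore.hall_higman (CfsgLib.PCore.isPSolvable_quotient hsolv K)
        (CfsgLib.PCore.pPrimeCore_quotient (p := p) (G := G))
      have hPR : (P : Subgroup G).map f = Cfsg.pCore p (G ⧸ K) := by
        refine le_antisymm (le_trans ?_ hc') hR
        rintro _ ⟨a, ha, rfl⟩
        rw [Subgroup.mem_centralizer_iff]
        intro z hz
        obtain ⟨b, hb, rfl⟩ := hR hz
        rw [← map_mul, ← map_mul, hab a ha b hb]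
      refine ⟨fun a ha g => ?_⟩
      haveI := CfsgLib.PCore.pCore_characteristic p (G ⧸ K)
      have h1 : f (g * a * g⁻¹) ∈ (P : Subgroup G).map f := by
        rw [hPR, map_mul, map_mul, map_inv]
        exact (inferInstance : (Cfsg.pCore p (G ⧸ K)).Normal).conj_mem _
          (hPR ▸ Subgroup.mem_map_of_mem f ha) _
      obtain ⟨t, ht, hte⟩ := h1
      have hk : g * a * g⁻¹ * t⁻¹ ∈ K := (QuotientGroup.eq_one_iff _).1 (by
        show f (g * a * g⁻¹ * t⁻¹) = 1
        rw [map_mul _ _ t⁻¹, map_inv, hte, mul_inv_cancel])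
      set k := g * a * g⁻¹ * t⁻¹ with hkdef
      have hcomm : Commute k t := by
        have := hc t ht hk
        exact Subgroup.mem_centralizer_singleton_iff.1 this
      have hap : a ^ p ^ m = 1 := by
        have := Subgroup.orderOf_dvd_natCard _ ha
        rw [hm] at this
        exact orderOf_dvd_iff_pow_eq_one.1 this
      have htp : t ^ p ^ m = 1 := by
        have := Subgroup.orderOf_dvd_natCard _ ht
        rw [hm] at this
        exact orderOf_dvd_iff_pow_eq_one.1 this
      have hkt : k * t = g * a * g⁻¹ := by rw [hkdef]; group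
      have hk1 : k ^ p ^ m = 1 := by
        have h2 := hcomm.mul_pow (p ^ m)
        rw [htp, mul_one, hkt, conj_pow, hap, mul_one, mul_inv_cancel] at h2
        exact h2.symm
      have hk2 : k = 1 := orderOf_eq_one_iff.1 (Nat.eq_one_of_dvd_coprimes (hKp.pow_right m)
        (Subgroup.orderOf_dvd_natCard _ hk) (orderOf_dvd_of_pow_eq_one hk1))
      rw [← hkt, hk2, one_mul]
      exact ht
    obtain ⟨a, hxa⟩ : ∃ a, orderOf x = p ^ a := by
      obtain ⟨i, -, hi⟩ := (Nat.dvd_prime_pow hp).1 (hm ▸ Subgroup.orderOf_dvd_natCard _ hx)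
      exact ⟨i, hi⟩
    obtain ⟨q, Q₀, hq, hQ₀K, hQ₀p, hxQ₀, hQ₀x⟩ : ∃ (q : ℕ) (Q₀ : Subgroup G), q.Prime ∧ Q₀ ≤ K ∧ IsPGroup q Q₀ ∧
        x ∈ Subgroup.normalizer (Q₀ : Set G) ∧ ¬ Q₀ ≤ Subgroup.centralizer ({x} : Set G) := by
      by_contra hcon
      push Not at hcon
      apply hxK
      have hAK : Subgroup.zpowers x ≤ Subgroup.normalizer (K : Set G) := by
        rw [Subgroup.normalizer_eq_top_iff.2 hKn]; exact le_top
      have hcop : (Nat.card (Subgroup.zpowers x)).Coprime (Nat.card K) := by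
        rw [Nat.card_zpowers, hxa]
        exact (hKp.pow_right a).symm
      refine inf_eq_left.1 (Subgroup.eq_of_le_of_card_ge inf_le_left (Nat.le_of_dvd Nat.card_pos ?_))
      refine (Nat.factorization_le_iff_dvd Nat.card_pos.ne' Nat.card_pos.ne').1 fun q => ?_
      rcases Decidable.em q.Prime with hq | hq
      swap
      · rw [Nat.factorization_eq_zero_of_not_prime _ hq]; exact Nat.zero_le _
      haveI := Fact.mk hq
      obtain ⟨S, hS⟩ := CfsgLib.CoprimeAction.exists_invariant_sylow hAK hcop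
        (Or.inl (Group.isSolvable_of_comm fun a b => by
          let _ := IsCyclic.commGroup (α := Subgroup.zpowers x)
          exact mul_comm a b)) q
      refine (hq.pow_dvd_iff_le_factorization Nat.card_pos.ne').1 ?_
      rw [← CfsgLib.CoprimeAction.card_sylow_map S]
      exact Subgroup.card_dvd_of_le (le_inf (Subgroup.map_subtype_le _)
        (hcon q _ hq (Subgroup.map_subtype_le _) (S.2.map _) (hS (Subgroup.mem_zpowers x))))
    haveI := Fact.mk hq
    have hqp : q ≠ p := by
      rintro rfl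
      obtain ⟨i, hi⟩ := IsPGroup.iff_card.1 hQ₀p
      have h1 : Nat.card Q₀ = 1 := Nat.eq_one_of_dvd_coprimes (hKp.pow_right i)
        (Subgroup.card_dvd_of_le hQ₀K) (dvd_of_eq hi)
      exact hQ₀x (by rw [Subgroup.card_eq_one.1 h1]; exact bot_le)
    have hex : ∃ j, Q₀ ≤ Subgroup.centralizer ({x ^ p ^ j} : Set G) := ⟨a, fun z _ => by
      rw [← hxa, pow_orderOf_eq_one, Subgroup.mem_centralizer_singleton_iff, one_mul, mul_one]⟩
    obtain ⟨j, hj⟩ : ∃ j, Nat.find hex = j + 1 := by
      refine ⟨Nat.find hex - 1, (Nat.succ_pred_eq_of_pos (Nat.pos_of_ne_zero fun h => hQ₀x ?_)).symm⟩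
      have := Nat.find_spec hex
      rwa [h, pow_zero, pow_one] at this
    set g := x ^ p ^ j with hg
    have hgQ₀ : g ∈ Subgroup.normalizer (Q₀ : Set G) := Subgroup.pow_mem _ hxQ₀ _
    have hgne : ¬ Q₀ ≤ Subgroup.centralizer ({g} : Set G) := Nat.find_min hex (by omega)
    have hgp : Q₀ ≤ Subgroup.centralizer ({g ^ p} : Set G) := by
      have := Nat.find_spec hex
      rwa [hj, pow_succ, pow_mul] at this
    obtain ⟨Q, ⟨hQQ₀, hgQ, hQg⟩, hmin⟩ := (Set.toFinite {Q : Subgroup G | Q ≤ Q₀ ∧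
        g ∈ Subgroup.normalizer (Q : Set G) ∧ ¬ Q ≤ Subgroup.centralizer ({g} : Set G)}).exists_minimal
      ⟨Q₀, le_rfl, hgQ₀, hgne⟩
    haveI := Fintype.ofFinite Q
    let σ : MulAut Q :=
      { toFun := fun z => ⟨g * z * g⁻¹, ((Subgroup.mem_normalizer_iff.1 hgQ) z).1 z.2⟩
        invFun := fun z => ⟨g⁻¹ * z * g, ((Subgroup.mem_normalizer_iff.1 hgQ) _).2 (by
          rw [show g * (g⁻¹ * (z : G) * g) * g⁻¹ = (z : G) by group]; exact z.2)⟩
        left_inv := fun z => Subtype.ext (by show g⁻¹ * (g * z * g⁻¹) * g = z; group)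
        right_inv := fun z => Subtype.ext (by show g * (g⁻¹ * z * g) * g⁻¹ = z; group)
        map_mul' := fun z w => Subtype.ext (by show g * (z * w) * g⁻¹ = g * z * g⁻¹ * (g * w * g⁻¹); group) }
    have hσ : ∀ z : Q, ((σ z : Q) : G) = g * z * g⁻¹ := fun z => rfl
    have hσpow : ∀ (i : ℕ) (z : Q), (((σ ^ i) z : Q) : G) = g ^ i * z * (g ^ i)⁻¹ := by
      intro i z
      induction i with
      | zero => simp
      | succ i ih => rw [pow_succ', MulAut.mul_apply, hσ, ih, pow_succ']; group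
    have hσp : ∀ z : Q, (σ ^ p) z = z := fun z => Subtype.ext (by
      rw [hσpow, ← Subgroup.mem_centralizer_singleton_iff.1 (hgp (hQQ₀ z.2)), mul_inv_cancel_right])
    have hne : ∃ z : Q, σ z ≠ z := by
      by_contra hc
      push Not at hc
      refine hQg fun z hz => Subgroup.mem_centralizer_singleton_iff.2 ?_
      have := congrArg Subtype.val (hc ⟨z, hz⟩)
      rw [hσ, mul_inv_eq_iff_eq_mul] at this
      exact this.symm
    obtain ⟨θ, hθ, hθd, hnp', k, hk⟩ := CfsgLib.LinGroup.small_degree σ hqp (hQ₀p.to_le hQQ₀) hσp hne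
      (fun D hD hDσ z hz => by
        by_contra hzne
        have hlt : D.map Q.subtype < Q := lt_of_le_of_ne (Subgroup.map_subtype_le _) fun he => hD (by
          apply Subgroup.map_injective Q.subtype_injective
          rw [he, ← MonoidHom.range_eq_map, Subgroup.range_subtype])
        refine hlt.not_ge (hmin (y := D.map Q.subtype) ⟨hlt.le.trans hQQ₀, ?_, ?_⟩ hlt.le)
        · refine Subgroup.mem_normalizer_fintype ?_
          rintro _ ⟨w, hw, rfl⟩
          exact ⟨σ w, hDσ w hw, rfl⟩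
        · intro hle
          refine hzne (Subtype.ext ?_)
          have := Subgroup.mem_centralizer_singleton_iff.1 (hle ⟨z, hz, rfl⟩)
          rw [hσ, mul_inv_eq_iff_eq_mul]
          exact this.symm)
      (hres Q) (fun z hz => Subtype.ext (hfaith _ hz))
      (fun z => by show χ (σ z : G) = χ z; rw [hσ, isClassFunction hχ]) (by rw [hdegres]; exact hnp)
    rw [hdegres] at hθd hnp' hk
    exact ⟨Q, inferInstance, θ, hθ, hθd, hnp', k, hk⟩
  obtain ⟨Q, iQ, θ, hθ, hθd, hnp', k, hk⟩ := main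
  refine ⟨hnp', ⟨k, hk⟩, ?_⟩
  open CfsgLib.CharBasics in
  haveI := Fintype.ofFinite G
  haveI := Fintype.ofFinite (Cfsg.IrrCharacter G)
  obtain ⟨ψ, hψ1, hψ2⟩ : ∃ ψ : Cfsg.IrrCharacter G, Cfsg.classInner χ (ψ : G → ℂ) ≠ 0 ∧
      Cfsg.classInner (fun a : Q => (ψ : G → ℂ) a) (θ : Q → ℂ) ≠ 0 := by
    by_contra hc
    push Not at hc
    apply hθ
    rw [show (fun a : Q => χ a) = ∑ ψ : Cfsg.IrrCharacter G,
      Cfsg.classInner χ (ψ : G → ℂ) • (fun a : Q => (ψ : G → ℂ) a) from funext fun a => by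
        rw [Finset.sum_apply]
        exact (congrFun (CfsgLib.CharBasics.classFun_expand (CfsgLib.CharBasics.isClassFunction hχ)) a).trans
          (Finset.sum_apply _ _ _), CfsgLib.CharBasics.classInner_sum_left]
    refine Finset.sum_eq_zero fun ψ _ => ?_
    rw [CfsgLib.CharBasics.classInner_smul_left]
    by_cases h : Cfsg.classInner χ (ψ : G → ℂ) = 0
    · rw [h, zero_mul]
    · rw [hc ψ h, mul_zero]
  obtain ⟨ξ, hξ, he⟩ := CfsgLib.CharBasics.split_constituent hχ ψ hψ1
  have h1 := CfsgLib.LinGroup.sum_degree_le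
    (CfsgLib.CharBasics.isCharacter_restrict (CfsgLib.CharBasics.isCharacter_of_irr ψ.2) Q) {θ}
    (fun η hη => by rw [Finset.mem_singleton.1 hη]; exact hψ2)
  rw [Finset.sum_singleton, hθd] at h1
  have h2 : Cfsg.charDegree (fun a : Q => (ψ : G → ℂ) a) = Cfsg.charDegree (ψ : G → ℂ) := rfl
  rw [h2] at h1
  have h3 : Cfsg.charDegree χ = Cfsg.charDegree (ψ : G → ℂ) + Cfsg.charDegree ξ := by
    rw [he]; exact CfsgLib.CharBasics.charDegree_add (CfsgLib.CharBasics.isCharacter_of_irr ψ.2) hξ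
  have h0 : ξ = 0 := funext fun g => by
    have := CfsgLib.CharBasics.norm_le hξ g
    rw [show Cfsg.charDegree ξ = 0 by omega, Nat.cast_zero] at this
    exact norm_le_zero_iff.mp this
  rw [he, h0, add_zero]
  exact ψ.2

end Cfsg.Agent.S4468
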