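import Cfsg.Statements.S4553
import Cfsg.Agent.Blocks.DetTwist
import Cfsg.Agent.Clifford.ResidualExt
import Cfsg.Agent.Clifford.Gallagher
import Cfsg.Agent.Blocks.PIndex
import Cfsg.Agent.Blocks.AlperinDade
import Cfsg.Agent.CharBasics.LinearOver
import Cfsg.Agent.Transfer.Residual
import Mathlib.GroupTheory.FiniteAbelian.Duality

set_option autoImplicit false
set_option linter.style.haveILetI false
open Cfsg CfsgLib CfsgLib.CharBasics CfsgLib.Clifford CfsgLib.Blocks

namespace Cfsg.Agent.S4553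

/-- In a finite cyclic group of order divisible by the prime `p` there are exactly `p` solutions of `x ^ p = 1`. -/
theorem card_pow_eq_one {A : Type*} [CommGroup A] [Finite A] [IsCyclic A] {p : ℕ} (h : p ∣ Nat.card A) :
    Nat.card {a : A // a ^ p = 1} = p := by
  have h' := IsCyclic.card_powMonoidHom_ker (G := A) p
  rw [Nat.gcd_eq_right h] at h'
  exact h'

/-- Linear characters of a cyclic group with `f ^ p = 1`. -/
theorem card_dual_pow_eq_one {A : Type*} [Group A] [Finite A] (hc : IsCyclic A) {p : ℕ} (h : p ∣ Nat.card A) :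
    Nat.card {f : A →* ℂˣ // f ^ p = 1} = p := by
  haveI := hc
  letI : CommGroup A := IsCyclic.commGroup
  haveI : NeZero (Monoid.exponent A : ℂ) := ⟨Nat.cast_ne_zero.2 Monoid.exponent_ne_zero_of_finite⟩
  obtain ⟨e⟩ := CommGroup.monoidHom_mulEquiv_of_hasEnoughRootsOfUnity A ℂ
  rw [Nat.card_congr (e.toEquiv.subtypeEquiv (q := fun a : A => a ^ p = 1) fun f => ?_), card_pow_eq_one h]
  show f ^ p = 1 ↔ (e f) ^ p = 1
  rw [← map_pow, map_eq_one_iff e e.injective]

/-- Let G be a finite group, p a prime, P a Sylow p-subgroup, N the p-residual of G (the subgroup generated by the elements of order prime to p, the smallest normal subgroup with G/N a p-group), and M a maximal ideal of the algebraic integers containing p; suppose G/N is cyclic and nontrivial. Let k be a natural number with g ^ k = g ^ (1 + p) for every p-element g and g ^ k = g for every element g of order prime to p (so that χ (g ^ k) is the image of χ g under the field automorphism that raises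 p-power roots of unity to the power 1 + p and fixes the roots of unity of order prime to p). Then the number of members χ of the principal block of G of degree prime to p with χ (g ^ k) = χ g for all g equals p times the number of members θ of the principal block of N of degree prime to p that are invariant under conjugation by P and satisfy θ (n ^ k) = θ n for all n. -/
theorem result {G : Type*} [Group G] [Finite G] (p : ℕ) [Fact p.Prime] (M : Ideal Cfsg.AlgInt) (hM : Cfsg.IsPModular p M) (P : Sylow p G) (N : Subgroup G) [hN : N.Normal] (hNres : N = Cfsg.pResidual p G) (hcyc : IsCyclic (G ⧸ N)) (hnt : N ≠ ⊤) (k : ℕ) (hk₁ : ∀ g : G, (∃ j : ℕ, orderOf g = p ^ j) → g ^ k = g ^ (1 + p)) (hk₂ : ∀ g : G, Nat.Coprime (orderOf g) p → g ^ k = g) : Nat.card {χ : Cfsg.IrrCharacter G // χ ∈ Cfsg.principalBlock M G ∧ ¬ p ∣ Cfsg.charDegree (χ : G → ℂ) ∧ ∀ g : G, (χ : G → ℂ) (g ^ k) = (χ : G → ℂ) g} = p * Nat.card {θ : Cfsg.IrrCharacter ↥N // θ ∈ Cfsg.principalBlock M ↥N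 ∧ ¬ p ∣ Cfsg.charDegree (θ : ↥N → ℂ) ∧ (∀ x ∈ (P : Subgroup G), ∀ n : ↥N, (θ : ↥N → ℂ) ⟨x * n * x⁻¹, hN.conj_mem n n.2 x⟩ = (θ : ↥N → ℂ) n) ∧ ∀ n : ↥N, (θ : ↥N → ℂ) (n ^ k) = (θ : ↥N → ℂ) n} := by
  classical
  letI : Fintype G := Fintype.ofFinite G
  letI : Fintype N := Fintype.ofFinite N
  have hp : p.Prime := Fact.out
  have hQp : IsPGroup p (G ⧸ N) := by
    obtain ⟨a, ha⟩ := CfsgLib.Transfer.index_pResidual (p := p) (G := G)
    rw [← hNres] at ha
    exact IsPGroup.of_card (n := a) (by rw [← Subgroup.index_eq_card, ha])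
  obtain ⟨a, ha⟩ := hQp.exists_card_eq
  have ha0 : p ∣ Nat.card (G ⧸ N) := by
    rw [ha]
    refine dvd_pow_self p fun h0 => hnt ?_
    rw [h0, pow_zero, ← Subgroup.index_eq_card] at ha
    exact Subgroup.index_eq_one.1 ha
  have hidx : ∃ k : ℕ, N.index = p ^ k := ⟨a, by rw [Subgroup.index_eq_card, ha]⟩
  have hpG : p ∣ Nat.card G := ha0.trans (by rw [← Subgroup.index_eq_card]; exact N.index_dvd_card)
  have hk : k.Coprime (Nat.card G) := by
    refine Nat.coprime_of_dvd fun q hq hqk hqG => ?_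
    haveI := Fact.mk hq
    obtain ⟨g, hg⟩ := exists_prime_orderOf_dvd_card' q hqG
    have hg0 : g ^ k = 1 := orderOf_dvd_iff_pow_eq_one.1 (hg ▸ hqk)
    rcases eq_or_ne q p with rfl | hne
    · have h2 := hk₁ g ⟨1, by rw [hg, pow_one]⟩
      rw [hg0, eq_comm, ← orderOf_dvd_iff_pow_eq_one, hg, Nat.dvd_add_left dvd_rfl] at h2
      exact hq.not_dvd_one h2
    · have h2 := hk₂ g (hg ▸ (Nat.coprime_primes hq hp).2 hne)
      rw [hg0] at h2
      rw [← h2, orderOf_one] at hg
      exact hq.ne_one hg.symm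
  have hkN : k.Coprime (Nat.card N) := hk.coprime_dvd_right (Subgroup.card_subgroup_dvd_card N)
  let X := {χ : Cfsg.IrrCharacter G // χ ∈ Cfsg.principalBlock M G ∧ ¬ p ∣ Cfsg.charDegree (χ : G → ℂ) ∧
    ∀ g : G, (χ : G → ℂ) (g ^ k) = (χ : G → ℂ) g}
  let Y := {θ : Cfsg.IrrCharacter N // θ ∈ Cfsg.principalBlock M N ∧ ¬ p ∣ Cfsg.charDegree (θ : N → ℂ) ∧
    (∀ x ∈ (P : Subgroup G), ∀ n : N, (θ : N → ℂ) ⟨x * n * x⁻¹, hN.conj_mem n n.2 x⟩ = (θ : N → ℂ) n) ∧
      ∀ n : N, (θ : N → ℂ) (n ^ k) = (θ : N → ℂ) n}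
  let resIrr : X → Cfsg.IrrCharacter N := fun χ => ⟨fun n : N => (χ.1 : G → ℂ) n,
    isIrr_restrict_of_pow_index hp N hidx.choose_spec χ.1.2 χ.2.2.1⟩
  have hres : ∀ χ : X, resIrr χ ∈ Cfsg.principalBlock M N ∧ ¬ p ∣ Cfsg.charDegree (resIrr χ : N → ℂ) ∧
      (∀ x ∈ (P : Subgroup G), ∀ n : N, (resIrr χ : N → ℂ) ⟨x * n * x⁻¹, hN.conj_mem n n.2 x⟩ = (resIrr χ : N → ℂ) n) ∧
      ∀ n : N, (resIrr χ : N → ℂ) (n ^ k) = (resIrr χ : N → ℂ) n := by
    intro χ
    refine ⟨constituent_mem_principal hM χ.2.1 ?_, ?_, fun x _ n => isClassFunction (isCharacter_of_irr χ.1.2) (n : G) x,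
      fun n => ?_⟩
    · show classInner (resIrr χ : N → ℂ) (resIrr χ : N → ℂ) ≠ 0
      rw [classInner_self (resIrr χ).2]
      exact one_ne_zero
    · exact χ.2.2.1
    · show (χ.1 : G → ℂ) ((n ^ k : N) : G) = _
      rw [Subgroup.coe_pow]
      exact χ.2.2.2 n
  let R : X → Y := fun χ => ⟨resIrr χ, hres χ⟩
  show Nat.card X = p * Nat.card Y
  haveI := finite_irrCharacter (G := G)
  haveI := finite_irrCharacter (G := N)
  haveI : Finite X := Subtype.finite
  haveI : Finite Y := Subtype.finite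
  haveI : Fintype Y := Fintype.ofFinite Y
  suffices hfib : ∀ θ : Y, Nat.card {χ : X // R χ = θ} = p by
    rw [← Nat.card_congr (Equiv.sigmaFiberEquiv R), Nat.card_sigma]
    simp only [hfib, Finset.sum_const, Finset.card_univ, smul_eq_mul, Nat.card_eq_fintype_card (α := Y)]
    ring
  rintro ⟨θ, hθB, hθd, hθP, hθk⟩
  have hinv : ∀ (g : G) (n : N), (θ : N → ℂ) ⟨g * n * g⁻¹, hN.conj_mem (n : G) n.2 g⟩ = (θ : N → ℂ) n := by
    intro g n
    have hT : (⊤ : Subgroup G) ≤ inertia (θ : N → ℂ) := by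
      subst hNres
      rw [← CfsgLib.Transfer.pResidual_sup_sylow P]
      refine sup_le (le_inertia (isClassFunction (isCharacter_of_irr θ.2))) fun s hs => ?_
      rw [mem_inertia]
      funext m
      exact hθP s hs m
    exact congrFun (mem_inertia.1 (hT (Subgroup.mem_top g))) n
  obtain ⟨ψ, hψ, hψres, hψo⟩ := exists_canonical_extension N hNres θ.2 hinv hθd
  have hψd : charDegree ψ = charDegree (θ : N → ℂ) := by
    simp only [charDegree, ← hψres 1, Subgroup.coe_one]
  have hψk : ∀ g, ψ (g ^ k) = ψ g := fun g => congrFun (canonical_extension_unique N hNres θ.2 hθd hψ hψres hψo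
    (BrauerInd.isIrr_pow hk hψ) (fun n => by rw [← Subgroup.coe_pow, hψres, hθk])
    fun h => hψo (h.trans (DetTwist.detOrder_pow_dvd hk hψ))) g
  let lam : ((G ⧸ N) →* ℂˣ) → (G →* ℂ) := fun f => (Units.coeHom ℂ).comp (f.comp (QuotientGroup.mk' N))
  have hlamN : ∀ f, ∀ n : N, lam f n = 1 := fun f n => by
    show ((f (n : G) : ℂˣ) : ℂ) = 1
    rw [(QuotientGroup.eq_one_iff _).2 n.2, map_one, Units.val_one]
  have hpow : ∀ (f : (G ⧸ N) →* ℂˣ) (g : G), lam f (g ^ k) = ((f g) ^ k : ℂˣ) := fun f g => by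
    show ((f ((g ^ k : G) : G ⧸ N) : ℂˣ) : ℂ) = _
    rw [QuotientGroup.mk_pow, map_pow]
  have hkQ : ∀ q : G ⧸ N, q ^ k = q ^ (1 + p) := by
    intro q
    obtain ⟨g, rfl⟩ := QuotientGroup.mk_surjective q
    obtain ⟨x, y, hxy, -, hx, hy, -, -⟩ := ZStar.exists_pPart hp g
    have hy1 : (y : G ⧸ N) = 1 := (QuotientGroup.eq_one_iff y).2 (hNres ▸ Subgroup.subset_closure ((hp.coprime_iff_not_dvd.2 hy).symm))
    rw [← hxy, QuotientGroup.mk_mul, hy1, mul_one, ← QuotientGroup.mk_pow, ← QuotientGroup.mk_pow, hk₁ x hx]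
  have hfk : ∀ f : (G ⧸ N) →* ℂˣ, f ^ p = 1 ↔ ∀ q, f q ^ k = f q := by
    intro f
    refine ⟨fun h q => ?_, fun h => MonoidHom.ext fun q => ?_⟩
    · rw [← map_pow, hkQ, map_pow, pow_add, pow_one, ← MonoidHom.pow_apply, h, MonoidHom.one_apply, mul_one]
    · have h2 := h q
      rw [← map_pow, hkQ, map_pow, pow_add, pow_one] at h2
      rw [MonoidHom.pow_apply, MonoidHom.one_apply]
      exact mul_eq_left.1 h2
  have h1θ : ((fun _ => 1) * (θ : N → ℂ) : N → ℂ) = (θ : N → ℂ) := funext fun n => one_mul _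
  have hgal := gallagher_bijOn (G := G) (φ := fun _ : N => (1 : ℂ)) CfsgLib.CharBasics.isIrrCharacter_one
    (fun g => rfl) (h1θ.symm ▸ θ.2) (isCharacter_of_irr hψ) hψres
  rw [h1θ] at hgal
  have hlirr : ∀ f, IsIrrCharacter G (fun g => lam f g) := fun f => by
    have h := isIrrCharacter_linear_mul (G := G) isIrrCharacter_one (lam f)
    simpa only [mul_one] using h
  have hlmem : ∀ f, (fun g => lam f g) ∈ {β : G → ℂ | IsIrrCharacter G β ∧ classInner (indFun N fun _ => 1) β ≠ 0} := fun f =>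
    ⟨hlirr f, (mem_over_one_iff (hlirr f)).2 fun n hn => (hlamN f ⟨n, hn⟩).trans (map_one _).symm⟩
  have hchi : ∀ f, IsIrrCharacter G (fun g => lam f g * ψ g) := fun f => isIrrCharacter_linear_mul hψ (lam f)
  let mk : {f : (G ⧸ N) →* ℂˣ // f ^ p = 1} → {χ : X // R χ = ⟨θ, hθB, hθd, hθP, hθk⟩} := fun f =>
    ⟨⟨⟨_, hchi f.1⟩, by
      have hne1 : classInner (fun n : N => lam f.1 n * ψ n) (θ : N → ℂ) ≠ 0 := by
        rw [show (fun n : N => lam f.1 n * ψ n) = (θ : N → ℂ) from funext fun n => by rw [hlamN, hψres, one_mul],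
          classInner_self θ.2]
        exact one_ne_zero
      refine ⟨?_, ?_, fun g => ?_⟩
      · refine sameBlock_symm (sameBlock_of_constituents hM hidx (ψ := oneChar) (φ := oneChar)
          (sameBlock_symm hθB) hne1 ?_)
        show classInner ((oneChar : IrrCharacter N) : N → ℂ) ((oneChar : IrrCharacter N) : N → ℂ) ≠ 0
        rw [classInner_self (oneChar : IrrCharacter N).2]
        exact one_ne_zero
      · show ¬ p ∣ charDegree (fun g => lam f.1 g * ψ g)
        have e : charDegree (fun g => lam f.1 g * ψ g) = charDegree ψ := by simp only [charDegree, map_one, one_mul]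
        rwa [e, hψd]
      · show lam f.1 (g ^ k) * ψ (g ^ k) = lam f.1 g * ψ g
        rw [hψk, hpow, (hfk f.1).1 f.2]
        rfl⟩,
      Subtype.ext (Subtype.ext (funext fun n : N => by
        show lam f.1 n * ψ n = _
        rw [hlamN, hψres, one_mul]))⟩
  rw [← Nat.card_eq_of_bijective mk ⟨?_, ?_⟩, card_dual_pow_eq_one hcyc ha0]
  · intro f f' he
    have h2 : (fun g => lam f.1 g * ψ g) = fun g => lam f'.1 g * ψ g := congrArg (fun c => (c.1.1 : G → ℂ)) he
    have h3 := hgal.injOn (hlmem f.1) (hlmem f'.1) h2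
    refine Subtype.ext (MonoidHom.ext fun q => ?_)
    obtain ⟨g, rfl⟩ := QuotientGroup.mk_surjective q
    exact Units.ext (congrFun h3 g)
  · rintro ⟨⟨χ, hχB, hχd, hχk⟩, hR⟩
    have hR' : ∀ n : N, (χ : G → ℂ) n = (θ : N → ℂ) n := fun n =>
      congrFun (congrArg (fun c => ((c : Y).1 : N → ℂ)) hR) n
    obtain ⟨β, hβm, hβχ⟩ := hgal.surjOn (show (χ : G → ℂ) ∈ {c : G → ℂ | IsIrrCharacter G c ∧
        classInner (indFun N (θ : N → ℂ)) c ≠ 0} from ⟨χ.2, by
      rw [classInner_indFun N _ (isClassFunction (isCharacter_of_irr χ.2)), classInner_comm,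
        show (fun n : N => (χ : G → ℂ) n) = (θ : N → ℂ) from funext hR', classInner_self θ.2, map_one]
      exact one_ne_zero⟩)
    have hβker := (mem_over_one_iff hβm.1).1 hβm.2
    have hβ1 : charDegree β = 1 := by
      have h : (β * ψ) 1 = (χ : G → ℂ) 1 := congrFun hβχ 1
      rw [Pi.mul_apply, apply_one (isCharacter_of_irr hβm.1)] at h
      have h2 := hR' 1
      rw [Subgroup.coe_one, ← h, ← hψres 1, Subgroup.coe_one] at h2
      exact_mod_cast mul_eq_right₀ (apply_one_ne_zero hψ) |>.1 h2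
    let l := linHomOf (⟨β, hβm.1⟩ : IrrCharacter G) hβ1
    have hker : N ≤ l.toHomUnits.ker := fun n hn => Units.ext (by
      show β n = 1
      rw [hβker n hn, apply_one (isCharacter_of_irr hβm.1), hβ1, Nat.cast_one])
    let f : (G ⧸ N) →* ℂˣ := QuotientGroup.lift N l.toHomUnits hker
    have hlf : ∀ g, lam f g = β g := fun g => rfl
    refine ⟨⟨f, (hfk f).2 fun q => ?_⟩, Subtype.ext (Subtype.ext (Subtype.ext (funext fun g => ?_)))⟩
    · obtain ⟨g, rfl⟩ := QuotientGroup.mk_surjective q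
      have hβk : (fun x => β (x ^ k)) = β := hgal.injOn ⟨BrauerInd.isIrr_pow hk hβm.1,
          (mem_over_one_iff (BrauerInd.isIrr_pow hk hβm.1)).2 fun n hn => by
            rw [hβker _ (N.pow_mem hn k), one_pow]⟩ hβm (funext fun x => by
          show β (x ^ k) * ψ x = β x * ψ x
          rw [← hψk x, ← Pi.mul_apply β ψ (x ^ k)]
          conv_rhs => rw [hψk x, ← Pi.mul_apply β ψ x]
          simp only at hβχ
          rw [hβχ]
          exact hχk x)
      refine Units.ext ?_
      rw [← hpow f g]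
      exact congrFun hβk g
    · show lam f g * ψ g = (χ : G → ℂ) g
      rw [hlf]
      exact congrFun hβχ g

end Cfsg.Agent.S4553
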