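import Cfsg.Statements.S4573
import Cfsg.Agent.Clifford.InvariantAbove


set_option autoImplicit false
universe u
open Cfsg

namespace Cfsg.Agent.S4573

open CfsgLib.CharBasics
open scoped ComplexConjugate

/-- All irreducible characters are induced from linear ones. -/
def Mono (W : Type u) [Group W] [Fintype W] : Prop :=
  ∀ χ : W → ℂ, IsIrrCharacter W χ → ∃ (H : Subgroup W) (lam : H →* ℂˣ), χ = indFun H fun h => (lam h : ℂ)

/-- `G` embeds in such a group. -/
def GoodM (G : Type u) [Group G] : Prop :=
  ∃ (W : Type u) (_ : Group W) (_ : Fintype W), Mono W ∧ ∃ f : G →* W, Function.Injective f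

/-- An induced linear character of degree at most that of a constituent. -/
theorem monomial_of_inner {W : Type u} [Group W] [Fintype W] (K : Subgroup W) [Fintype K] (lam : K →* ℂˣ)
    {χ : W → ℂ} (hχ : IsIrrCharacter W χ)
    (hne : classInner (fun k : K => (lam k : ℂ)) (fun k : K => χ k) ≠ 0) (hdeg : K.index ≤ charDegree χ) :
    ∃ (H : Subgroup W) (l : H →* ℂˣ), χ = indFun H fun h => (l h : ℂ) := by
  have hl : IsCharacter K (fun k : K => (lam k : ℂ)) :=
    isCharacter_of_irr (CfsgLib.Clifford.isIrrCharacter_of_hom ((Units.coeHom ℂ).comp lam))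
  have h := classInner_indFun K (fun k : K => (lam k : ℂ)) (isClassFunction (isCharacter_of_irr hχ))
  rw [← h] at hne
  obtain ⟨R, hR, hsum⟩ := CfsgLib.Clifford.exists_eq_add_of_constituent (isCharacter_indFun K hl) hχ hne
  refine ⟨K, lam, ?_⟩
  have h1 := congrFun hsum 1
  rw [indFun_apply_one, map_one, Units.val_one, mul_one, Pi.add_apply, apply_one (isCharacter_of_irr hχ),
    apply_one hR] at h1
  have h2 : K.index = charDegree χ + charDegree R := by exact_mod_cast h1
  rw [hsum, CfsgLib.Clifford.eq_zero_of_apply_one hR (by rw [apply_one hR, show charDegree R = 0 by omega, Nat.cast_zero]),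
    add_zero]

theorem mono_of_subsingleton (W : Type u) [Group W] [Fintype W] [Subsingleton W] : Mono W := by
  intro χ hχ
  haveI := Fintype.ofFinite (⊤ : Subgroup W)
  refine monomial_of_inner ⊤ 1 hχ ?_ ?_
  · rw [classInner_comm, Ne, map_eq_zero, classInner_eq,
      Finset.sum_congr rfl (g := fun _ : (⊤ : Subgroup W) => χ 1) (fun k _ => by
        rw [MonoidHom.one_apply, Units.val_one, map_one, mul_one, Subsingleton.elim (k : W) 1]),
      Finset.sum_const, Finset.card_univ, ← Nat.card_eq_fintype_card, nsmul_eq_mul,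
      inv_mul_cancel_left₀ (Nat.cast_ne_zero.2 Nat.card_pos.ne')]
    exact apply_one_ne_zero hχ
  · rw [Subgroup.index_top]
    exact charDegree_pos hχ

theorem goodM_of_subsingleton (G : Type u) [Group G] [Subsingleton G] : GoodM G := by
  refine ⟨PUnit.{u + 1}, inferInstance, inferInstance, mono_of_subsingleton _,
    1, fun a b _ => Subsingleton.elim a b⟩

section Pi

variable {Q W : Type u} [Fintype Q] [DecidableEq Q] [Group W] [Fintype W]

/-- The product of functions, coordinatewise. -/
def tens (F : Q → W → ℂ) : (Q → W) → ℂ := fun g => ∏ x, F x (g x)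

theorem tens_inner (F F' : Q → W → ℂ) :
    classInner (tens F) (tens F') = ∏ x, classInner (F x) (F' x) := by
  simp only [classInner_eq, tens, map_prod, ← Finset.prod_mul_distrib]
  rw [← Fintype.prod_sum (f := fun x w => F x w * conj (F' x w)), Nat.card_fun, Nat.cast_pow, ← inv_pow,
    Nat.card_eq_fintype_card (α := Q), ← Finset.card_univ (α := Q), ← Finset.prod_const, ← Finset.prod_mul_distrib]

theorem tens_irr {F : Q → W → ℂ} (h : ∀ x, IsIrrCharacter W (F x)) : IsIrrCharacter (Q → W) (tens F) := by
  refine isIrr_of_norm_one ?_ ?_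
  · have : ∀ s : Finset Q, IsCharacter (Q → W) (fun g => ∏ x ∈ s, F x (g x)) := by
      intro s
      induction s using Finset.induction_on with
      | empty => simpa using isCharacter_of_irr (isIrrCharacter_one (G := Q → W))
      | @insert a s ha ih =>
        simp only [Finset.prod_insert ha]
        exact CfsgLib.CharBasics.isCharacter_mul
          (CfsgLib.CharBasics.isCharacter_comp (isCharacter_of_irr (h a)) (Pi.evalMonoidHom (fun _ => W) a)) ih
    exact this Finset.univ
  · rw [tens_inner, Finset.prod_eq_one fun x _ => classInner_self (h x)]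

theorem exists_tens_eq {χ : (Q → W) → ℂ} (hχ : IsIrrCharacter (Q → W) χ) :
    ∃ F : Q → W → ℂ, (∀ x, IsIrrCharacter W (F x)) ∧ χ = tens F := by
  classical
  haveI : Finite (IrrCharacter W) := finite_irrCharacter
  haveI : Finite (IrrCharacter (Q → W)) := finite_irrCharacter
  haveI := Fintype.ofFinite (IrrCharacter W)
  haveI := Fintype.ofFinite (IrrCharacter (Q → W))
  let Φ : (Q → IrrCharacter W) → IrrCharacter (Q → W) := fun f => ⟨_, tens_irr fun x => (f x).2⟩
  have hinj : Function.Injective Φ := by
    intro f f' he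
    refine funext fun x => ?_
    by_contra hne
    have h1 : classInner (tens fun x => (f x : W → ℂ)) (tens fun x => (f' x : W → ℂ)) = 1 := by
      have := congrArg Subtype.val he
      simp only [Φ] at this
      rw [← this]
      exact classInner_self (tens_irr fun x => (f x).2)
    rw [tens_inner, Finset.prod_eq_zero (Finset.mem_univ x)
      (classInner_ne (f x).2 (f' x).2 fun h => hne (Subtype.ext h))] at h1
    exact zero_ne_one h1
  by_contra hno
  have hout : (⟨χ, hχ⟩ : IrrCharacter (Q → W)) ∉ Finset.univ.image Φ := by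
    intro hm
    obtain ⟨f, -, hf⟩ := Finset.mem_image.1 hm
    exact hno ⟨fun x => f x, fun x => (f x).2, (congrArg Subtype.val hf).symm⟩
  have hlt : ∑ ψ ∈ Finset.univ.image Φ, charDegree (ψ : (Q → W) → ℂ) ^ 2 <
      ∑ ψ : IrrCharacter (Q → W), charDegree (ψ : (Q → W) → ℂ) ^ 2 :=
    Finset.sum_lt_sum_of_subset (Finset.subset_univ _) (Finset.mem_univ _) hout
      (pow_pos (charDegree_pos hχ) 2) fun _ _ _ => Nat.zero_le _
  rw [sum_sq_degree, Finset.sum_image fun a _ b _ h => hinj h, Nat.card_fun,
    Nat.card_eq_fintype_card (α := Q), ← Finset.card_univ (α := Q), ← Finset.prod_const] at hlt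
  refine hlt.ne ?_
  rw [← sum_sq_degree, Fintype.prod_sum]
  refine Finset.sum_congr rfl fun f _ => ?_
  have : charDegree ((Φ f : IrrCharacter (Q → W)) : (Q → W) → ℂ) = ∏ x, charDegree (f x : W → ℂ) := by
    have h1 := apply_one (isCharacter_of_irr (Φ f).2)
    change tens (fun x => (f x : W → ℂ)) 1 = _ at h1
    simp only [tens, Pi.one_apply, apply_one (isCharacter_of_irr (f _).2), ← Nat.cast_prod] at h1
    exact_mod_cast h1.symm
  rw [this, Finset.prod_pow]

/-- The product of subgroups. -/
def piSub (H : Q → Subgroup W) : Subgroup (Q → W) where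
  carrier := {g | ∀ x, g x ∈ H x}
  one_mem' x := (H x).one_mem
  mul_mem' ha hb x := (H x).mul_mem (ha x) (hb x)
  inv_mem' ha x := (H x).inv_mem (ha x)

theorem card_piSub (H : Q → Subgroup W) : Nat.card (piSub H) = ∏ x, Nat.card (H x) := by
  rw [← Nat.card_pi]
  exact Nat.card_congr ⟨fun g x => ⟨g.1 x, g.2 x⟩, fun g => ⟨fun x => g x, fun x => (g x).2⟩, fun g => rfl, fun g => rfl⟩

/-- The product of linear characters. -/
noncomputable def piLam {H : Q → Subgroup W} (lam : ∀ x, H x →* ℂˣ) : piSub H →* ℂˣ where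
  toFun g := ∏ x, lam x ⟨(g : Q → W) x, g.2 x⟩
  map_one' := Finset.prod_eq_one fun x _ => map_one (lam x)
  map_mul' g g' := by
    rw [← Finset.prod_mul_distrib]
    exact Finset.prod_congr rfl fun x _ => map_mul (lam x) ⟨(g : Q → W) x, g.2 x⟩ ⟨(g' : Q → W) x, g'.2 x⟩

theorem tens_ind (H : Q → Subgroup W) (lam : ∀ x, H x →* ℂˣ) :
    tens (fun x => indFun (H x) fun h => (lam x h : ℂ)) = indFun (piSub H) fun h => (piLam lam h : ℂ) := by
  funext g
  have hterm : ∀ y : Q → W, extendByZero (piSub H) (fun h => (piLam lam h : ℂ)) (y⁻¹ * g * y) =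
      ∏ x, extendByZero (H x) (fun h => (lam x h : ℂ)) ((y x)⁻¹ * g x * y x) := by
    intro y
    by_cases hy : y⁻¹ * g * y ∈ piSub H
    · refine (extendByZero_coe (piSub H) _ ⟨_, hy⟩).trans ?_
      simp only [piLam, MonoidHom.coe_mk, OneHom.coe_mk, Units.coe_prod]
      exact Finset.prod_congr rfl fun x _ => (extendByZero_coe (H x) (fun h => (lam x h : ℂ)) ⟨_, hy x⟩).symm
    · rw [extendByZero_of_not_mem _ _ hy]
      obtain ⟨x, hx⟩ : ∃ x, (y⁻¹ * g * y) x ∉ H x := by
        by_contra hh
        push Not at hh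
        exact hy hh
      exact (Finset.prod_eq_zero (Finset.mem_univ x) (extendByZero_of_not_mem (H x) _ hx)).symm
  simp only [tens, indFun, hterm, Finset.prod_mul_distrib, card_piSub, Nat.cast_prod, Finset.prod_inv_distrib,
    Fintype.prod_sum]

end Pi

/-- The shift of functions on a group. -/
def shiftHom (Q W : Type u) [Group Q] [Group W] : Q →* MulAut (Q → W) where
  toFun q :=
    { toFun := fun f x => f (q⁻¹ * x)
      invFun := fun f x => f (q * x)
      left_inv := fun f => funext fun x => by simp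
      right_inv := fun f => funext fun x => by simp
      map_mul' := fun f g => rfl }
  map_one' := MulEquiv.ext fun f => funext fun x => show f (1⁻¹ * x) = f x by simp
  map_mul' a b := MulEquiv.ext fun f => funext fun x =>
    show f ((a * b)⁻¹ * x) = f (b⁻¹ * (a⁻¹ * x)) by simp [mul_assoc]

theorem shiftHom_apply {Q W : Type u} [Group Q] [Group W] (q : Q) (f : Q → W) (x : Q) :
    shiftHom Q W q f x = f (q⁻¹ * x) := rfl


/-- The wreath step keeps monomiality. -/
theorem mono_wreath {Q W : Type u} [Group Q] [Fintype Q] [Group W] [Fintype W] (p : ℕ) [Fact p.Prime]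
    (hQ : Nat.card Q = p) (hW : Mono W) [Fintype ((Q → W) ⋊[shiftHom Q W] Q)] :
    Mono ((Q → W) ⋊[shiftHom Q W] Q) := by
  classical
  have hp : p.Prime := Fact.out
  haveI : IsCyclic Q := isCyclic_of_prime_card hQ
  intro χ hχ
  have hχc := isCharacter_of_irr hχ
  set ι : (Q → W) →* (Q → W) ⋊[shiftHom Q W] Q := SemidirectProduct.inl with hι
  haveI : (ι.range).Normal := by
    rw [hι, SemidirectProduct.range_inl_eq_ker_rightHom]; infer_instance
  haveI := Fintype.ofFinite ι.range
  let e : (Q → W) ≃* ι.range := MonoidHom.ofInjective SemidirectProduct.inl_injective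
  have hres : IsCharacter (Q → W) (fun g => χ (ι g)) := CfsgLib.CharBasics.isCharacter_comp hχc ι
  obtain ⟨Θ, m, hm, hΘ⟩ := exists_constituent hres (show χ (ι 1) ≠ 0 by rw [map_one]; exact apply_one_ne_zero hχ)
  obtain ⟨F, hF, hΘF⟩ := exists_tens_eq Θ.2
  choose H lam hlam using fun x => hW (F x) (hF x)
  have hgen : ∀ (H' : Q → Subgroup W) (lam' : ∀ x, H' x →* ℂˣ) [Fintype (piSub H')],
      (∀ x, F x = indFun (H' x) fun h => (lam' x h : ℂ)) →
        classInner (fun h : piSub H' => χ (ι h)) (fun h : piSub H' => (piLam lam' h : ℂ)) ≠ 0 ∧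
          (Θ : (Q → W) → ℂ) 1 = ((piSub H').index : ℂ) := by
    intro H' lam' _ hF'
    have hΘind : (Θ : (Q → W) → ℂ) = indFun (piSub H') fun h => (piLam lam' h : ℂ) := by
      rw [hΘF, show F = fun x => indFun (H' x) fun h => (lam' x h : ℂ) from funext hF', tens_ind]
    refine ⟨?_, by rw [hΘind, indFun_apply_one, map_one, Units.val_one, mul_one]⟩
    rw [classInner_comm, Ne, map_eq_zero, ← classInner_indFun (piSub H') _ (isClassFunction hres), ← hΘind,
      classInner_comm, hΘ, Complex.conj_natCast]
    exact Nat.cast_ne_zero.2 hm.ne'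
  -- the character on the range
  set θ : ι.range → ℂ := fun b => (Θ : (Q → W) → ℂ) (e.symm b) with hθdef
  have hθ : IsIrrCharacter ι.range θ :=
    CfsgLib.Clifford.isIrrCharacter_comp Θ.2 e.symm.toMonoidHom e.symm.surjective
  have hθne : classInner (fun b : ι.range => χ b) θ ≠ 0 := by
    rw [← CfsgLib.Clifford.classInner_comp_equiv e (fun b : ι.range => χ b) θ]
    intro h0
    refine Nat.cast_ne_zero.2 hm.ne' (hΘ.symm.trans (Eq.trans ?_ h0))
    congr 1
    funext g
    simp [θ]
  have hdeg := CfsgLib.Clifford.restrict_one_eq hχ hθ hθne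
  obtain ⟨c, hc⟩ := classInner_characters_nat (CfsgLib.CharBasics.isCharacter_restrict hχc ι.range)
    (isCharacter_of_irr hθ)
  rw [hc, apply_one hχc, show θ 1 = (Θ : (Q → W) → ℂ) 1 by simp [θ]] at hdeg
  have hc0 : 1 ≤ c := Nat.one_le_iff_ne_zero.2 fun h => hθne (hc.trans (by rw [h, Nat.cast_zero]))
  have hιidx : ι.range.index = p := by
    rw [hι, SemidirectProduct.range_inl_eq_ker_rightHom, Subgroup.index_ker,
      MonoidHom.range_eq_top.2 SemidirectProduct.rightHom_surjective, Subgroup.card_top, hQ]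
  have hdvd : (CfsgLib.Clifford.inertia (G := (Q → W) ⋊[shiftHom Q W] Q) θ).index ∣ p :=
    hιidx ▸ Subgroup.index_dvd_of_le (CfsgLib.Clifford.le_inertia (isClassFunction (isCharacter_of_irr hθ)))
  rcases (Nat.dvd_prime hp).1 hdvd with hT | hT
  · -- invariant: all factors are equal
    have hinv := fun g => CfsgLib.Clifford.mem_inertia.1 ((Subgroup.index_eq_one.1 hT) ▸ Subgroup.mem_top g)
    have hshift : ∀ (q : Q) (g : Q → W), (Θ : (Q → W) → ℂ) (fun x => g (q⁻¹ * x)) = (Θ : (Q → W) → ℂ) g := by
      intro q g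
      have h1 := congrFun (hinv (SemidirectProduct.inr q)) (e g)
      rw [CfsgLib.Clifford.conjFun_apply, hθdef] at h1
      simp only [MulEquiv.symm_apply_apply] at h1
      refine Eq.trans (congrArg (Θ : (Q → W) → ℂ) ?_) h1
      refine e.injective ?_
      rw [MulEquiv.apply_symm_apply]
      refine Subtype.ext ?_
      show ι _ = SemidirectProduct.inr q * ι g * (SemidirectProduct.inr q)⁻¹
      rw [← map_inv, ← SemidirectProduct.inl_aut]
      rfl
    have hFeq : ∀ x, F x = F 1 := by
      intro x
      by_contra hne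
      have h1 : classInner (tens fun y => F (x * y)) (tens F) = 0 := by
        rw [tens_inner]
        refine Finset.prod_eq_zero (Finset.mem_univ 1) ?_
        rw [mul_one]
        exact classInner_ne (hF x) (hF 1) hne
      have h2 : tens (fun y => F (x * y)) = tens F := by
        funext g
        have h3 := hshift x g
        rw [hΘF] at h3
        simp only [tens] at h3 ⊢
        rw [← h3]
        exact Fintype.prod_equiv (Equiv.mulLeft x) _ _ fun y => by simp
      rw [h2, classInner_self (tens_irr hF)] at h1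
      exact one_ne_zero h1
    -- one subgroup for all coordinates
    let H₁ := H 1
    let K : Subgroup ((Q → W) ⋊[shiftHom Q W] Q) :=
      { carrier := {w | ∀ x, w.left x ∈ H₁}
        one_mem' := fun x => H₁.one_mem
        mul_mem' := fun {a b} ha hb x => by
          rw [SemidirectProduct.mul_left, Pi.mul_apply, shiftHom_apply]
          exact H₁.mul_mem (ha x) (hb _)
        inv_mem' := fun {a} ha x => by
          rw [SemidirectProduct.inv_left, shiftHom_apply, Pi.inv_apply]
          exact H₁.inv_mem (ha _) }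
    haveI := Fintype.ofFinite K
    let l₀ : K →* ℂˣ :=
      { toFun := fun w => ∏ x, lam 1 ⟨w.1.left x, w.2 x⟩
        map_one' := Finset.prod_eq_one fun x _ => map_one (lam 1)
        map_mul' := fun a b => by
          rw [← Equiv.prod_comp (Equiv.mulLeft a.1.right⁻¹) (fun x => lam 1 ⟨b.1.left x, b.2 x⟩), ← Finset.prod_mul_distrib]
          refine Finset.prod_congr rfl fun x _ => ?_
          refine (congrArg (lam 1) (Subtype.ext ?_)).trans (map_mul (lam 1) _ _)
          rfl }
    haveI := Fintype.ofFinite (piSub fun _ : Q => H₁)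
    obtain ⟨hne1, hidx1⟩ := hgen (fun _ => H₁) (fun _ => lam 1) fun x => (hFeq x).trans (hlam 1)
    let M₀ : Subgroup K := ι.range.subgroupOf K
    haveI := Fintype.ofFinite M₀
    have hmemK : ∀ g : piSub (fun _ : Q => H₁), ι (g : Q → W) ∈ K := fun g x => g.2 x
    let e₀ : piSub (fun _ : Q => H₁) ≃* M₀ :=
      MulEquiv.mk ⟨fun g => ⟨⟨ι g, hmemK g⟩, ⟨g, rfl⟩⟩, fun w => ⟨w.1.1.left, w.1.2⟩,
        fun g => rfl, fun w => by
          obtain ⟨⟨w, hw⟩, g, hg⟩ := w
          have hg' : ι g = w := hg
          subst hg'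
          rfl⟩ fun g g' => Subtype.ext (Subtype.ext (map_mul ι _ _))
    have hψ : IsIrrCharacter M₀ (fun w : M₀ => (l₀ w : ℂ)) :=
      CfsgLib.Clifford.isIrrCharacter_of_hom ((Units.coeHom ℂ).comp (l₀.comp M₀.subtype))
    have hne2 : classInner (fun w : M₀ => χ ((w : K) : (Q → W) ⋊[shiftHom Q W] Q))
        (fun w : M₀ => (l₀ w : ℂ)) ≠ 0 := by
      rw [← CfsgLib.Clifford.classInner_comp_equiv e₀ (fun w : M₀ => χ ((w : K) : (Q → W) ⋊[shiftHom Q W] Q))]
      exact hne1
    have hχK := CfsgLib.CharBasics.isCharacter_restrict hχc K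
    obtain ⟨r, f, hf, hdec⟩ := exists_decomp hχK
    obtain ⟨i, hi⟩ : ∃ i, classInner (fun w : M₀ => f i w) (fun w : M₀ => (l₀ w : ℂ)) ≠ 0 := by
      by_contra hh
      push Not at hh
      refine hne2 ?_
      rw [show (fun w : M₀ => χ ((w : K) : (Q → W) ⋊[shiftHom Q W] Q)) = ∑ i, fun w : M₀ => f i w from funext fun w => by
        have := congrFun hdec (w : K)
        simpa [Finset.sum_apply] using this, classInner_sum_left]
      exact Finset.sum_eq_zero fun i _ => hh i
    letI : CommGroup Q := IsCyclic.commGroup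
    have hab : ∀ a b : K, a * b * a⁻¹ * b⁻¹ ∈ M₀ := fun a b => by
      rw [Subgroup.mem_subgroupOf, hι, SemidirectProduct.range_inl_eq_ker_rightHom, MonoidHom.mem_ker]
      simp only [Subgroup.coe_mul, Subgroup.coe_inv, map_mul, map_inv]
      rw [mul_inv_eq_one, mul_inv_eq_iff_eq_mul]
      exact mul_comm _ _
    obtain ⟨l, hl⟩ := CfsgLib.Clifford.exists_twist_of_abelian hab hψ
      (CfsgLib.Clifford.isIrrCharacter_of_hom ((Units.coeHom ℂ).comp l₀)) (hf i)
      (fun h => one_ne_zero ((classInner_self hψ).symm.trans h)) hi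
    refine monomial_of_inner K ((l.comp (QuotientGroup.mk' M₀)) * l₀) hχ ?_ ?_
    · have hfi : (fun k : K => ((((l.comp (QuotientGroup.mk' M₀)) * l₀) k : ℂˣ) : ℂ)) = f i := by
        rw [hl]
        funext k
        simp
      rw [hfi, classInner_comm, Ne, map_eq_zero]
      intro h0
      rw [hdec, classInner_sum_left, ← Finset.add_sum_erase _ _ (Finset.mem_univ i), classInner_self (hf i)] at h0
      obtain ⟨j, hj⟩ := classInner_characters_nat
        (CfsgLib.CharBasics.isCharacter_sum (Finset.univ.erase i) f fun j _ => isCharacter_of_irr (hf j))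
        (isCharacter_of_irr (hf i))
      rw [← classInner_sum_left, hj] at h0
      norm_cast at h0
      omega
    · have hKi : K.index = (piSub fun _ : Q => H₁).index := by
        have hKcard : Nat.card K = Nat.card (piSub fun _ : Q => H₁) * Nat.card Q := by
          rw [← Nat.card_prod]
          exact Nat.card_congr ⟨fun w => (⟨w.1.left, w.2⟩, w.1.right), fun z => ⟨⟨z.1.1, z.2⟩, z.1.2⟩,
            fun w => rfl, fun z => rfl⟩
        refine Nat.eq_of_mul_eq_mul_right (Nat.card_pos (α := K)) ?_
        rw [Subgroup.index_mul_card, hKcard, SemidirectProduct.card, ← mul_assoc, Subgroup.index_mul_card]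
      rw [hidx1, hT, Nat.cast_one, mul_one] at hdeg
      have h5 : charDegree χ = c * (piSub fun _ : Q => H₁).index := by exact_mod_cast hdeg
      rw [hKi, h5]
      exact Nat.le_mul_of_pos_left _ hc0
  · -- not invariant
    haveI := Fintype.ofFinite (piSub H)
    obtain ⟨hne1, hidx1⟩ := hgen H lam hlam
    let K : Subgroup ((Q → W) ⋊[shiftHom Q W] Q) := (piSub H).map ι
    haveI := Fintype.ofFinite K
    let e₁ : piSub H ≃* K := (piSub H).equivMapOfInjective ι SemidirectProduct.inl_injective
    refine monomial_of_inner K ((piLam lam).comp e₁.symm.toMonoidHom) hχ ?_ ?_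
    · rw [← CfsgLib.Clifford.classInner_comp_equiv e₁, classInner_comm, Ne, map_eq_zero]
      simp only [MonoidHom.coe_comp, MulEquiv.coe_toMonoidHom, Function.comp_apply, MulEquiv.symm_apply_apply]
      exact hne1
    · have hKi : K.index = p * (piSub H).index := by
        have hKcard : Nat.card K = Nat.card (piSub H) := (Nat.card_congr e₁.toEquiv).symm
        refine Nat.eq_of_mul_eq_mul_right (Nat.card_pos (α := K)) ?_
        rw [Subgroup.index_mul_card, hKcard, SemidirectProduct.card, mul_assoc, Subgroup.index_mul_card, hQ, mul_comm]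
      rw [hidx1, hT] at hdeg
      have h5 : charDegree χ = c * p * (piSub H).index := by exact_mod_cast hdeg
      rw [hKi, h5, mul_assoc]
      exact Nat.le_mul_of_pos_left _ hc0

/-- The Kaloujnine–Krasner step. -/
theorem goodM_step {G : Type u} [Group G] [Finite G] (N : Subgroup G) [N.Normal] (p : ℕ) (hp : p.Prime)
    (hidx : Nat.card (G ⧸ N) = p) (h : GoodM N) : GoodM G := by
  classical
  haveI := Fact.mk hp
  obtain ⟨W, _, _, hW, f, hf⟩ := h
  haveI := Fintype.ofFinite (G ⧸ N)
  haveI : Finite ((G ⧸ N → W) ⋊[shiftHom (G ⧸ N) W] (G ⧸ N)) := Finite.of_equiv _ SemidirectProduct.equivProd.symm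
  haveI := Fintype.ofFinite ((G ⧸ N → W) ⋊[shiftHom (G ⧸ N) W] (G ⧸ N))
  refine ⟨((G ⧸ N → W) ⋊[shiftHom (G ⧸ N) W] (G ⧸ N)), inferInstance, inferInstance, mono_wreath p hidx hW, ?_⟩
  have hmem : ∀ (g : G) (q : G ⧸ N),
      (Quotient.out q)⁻¹ * g * Quotient.out ((g : G ⧸ N)⁻¹ * q) ∈ N := fun g q => by
    rw [← QuotientGroup.eq_one_iff, QuotientGroup.mk_mul, QuotientGroup.mk_mul, QuotientGroup.mk_inv,
      QuotientGroup.out_eq', QuotientGroup.out_eq']
    group
  let F : G →* ((G ⧸ N → W) ⋊[shiftHom (G ⧸ N) W] (G ⧸ N)) :=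
    MonoidHom.mk' (fun g => (⟨fun q => f ⟨_, hmem g q⟩, (g : G ⧸ N)⟩ : ((G ⧸ N → W) ⋊[shiftHom (G ⧸ N) W] (G ⧸ N)))) fun g h => by
      refine SemidirectProduct.ext (funext fun q => ?_) rfl
      rw [SemidirectProduct.mul_left, Pi.mul_apply, shiftHom_apply, ← map_mul]
      refine congrArg f (Subtype.ext ?_)
      simp only [Subgroup.coe_mul, QuotientGroup.mk_mul, mul_inv_rev, mul_assoc]
      rw [mul_inv_cancel_left]
  refine ⟨F, (injective_iff_map_eq_one F).2 fun g hg => ?_⟩
  have h2 : (g : G ⧸ N) = 1 := congrArg SemidirectProduct.right hg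
  have h1 : f ⟨_, hmem g 1⟩ = 1 := congrFun (congrArg SemidirectProduct.left hg) 1
  rw [← map_one f] at h1
  have h3 := congrArg Subtype.val (hf h1)
  simp only [h2, inv_one, one_mul, Subgroup.coe_one] at h3
  have := congrArg (fun z => Quotient.out (1 : G ⧸ N) * z * (Quotient.out (1 : G ⧸ N))⁻¹) h3
  simpa [mul_assoc] using this


theorem goodM_of_solvable : ∀ (k : ℕ) (G : Type u) [Group G] [Finite G], Group.IsSolvable G → Nat.card G = k →
    GoodM G := by
  intro k
  induction k using Nat.strong_induction_on with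
  | _ k ih =>
    intro G _ _ hs hk
    rcases subsingleton_or_nontrivial G with h | h
    · exact goodM_of_subsingleton G
    haveI := hs
    have hne : commutator G ≠ ⊤ := (Group.IsSolvable.commutator_lt_top_of_nontrivial G).ne
    obtain ⟨N, hN, hle⟩ := (eq_top_or_exists_le_coatom (commutator G)).resolve_left hne
    haveI hNn : N.Normal := by
      refine ⟨fun n hn g => ?_⟩
      have h1 : g * n * g⁻¹ * n⁻¹ ∈ N :=
        hle (Subgroup.commutator_mem_commutator (Subgroup.mem_top g) (Subgroup.mem_top n))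
      simpa using N.mul_mem h1 hn
    have hprime : (Nat.card (G ⧸ N)).Prime := by
      haveI hnt : Nontrivial (G ⧸ N) := QuotientGroup.nontrivial_iff.2 hN.1
      obtain ⟨p, hp, hpd⟩ := Nat.exists_prime_and_dvd (Finite.one_lt_card (α := G ⧸ N)).ne'
      haveI := Fact.mk hp
      obtain ⟨x, hx⟩ := exists_prime_orderOf_dvd_card' p hpd
      obtain ⟨g, rfl⟩ := QuotientGroup.mk_surjective x
      have htop : (Subgroup.zpowers (g : G ⧸ N)).comap (QuotientGroup.mk' N) = ⊤ := by
        refine hN.2 _ (lt_of_le_of_ne (fun n hn => ?_) fun he => ?_)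
        · rw [Subgroup.mem_comap, QuotientGroup.mk'_apply, (QuotientGroup.eq_one_iff n).2 hn]
          exact Subgroup.one_mem _
        · have : g ∈ N := he ▸ (Subgroup.mem_zpowers (g : G ⧸ N))
          rw [(QuotientGroup.eq_one_iff g).2 this, orderOf_one] at hx
          exact hp.ne_one hx.symm
      have h2 : Subgroup.zpowers (g : G ⧸ N) = ⊤ := by
        rw [← Subgroup.map_comap_eq_self_of_surjective (QuotientGroup.mk'_surjective N)
          (Subgroup.zpowers (g : G ⧸ N)), htop, Subgroup.map_top_of_surjective _ (QuotientGroup.mk'_surjective N)]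
      rw [← Subgroup.card_top (G := G ⧸ N), ← h2, Nat.card_zpowers, hx]
      exact hp
    have hlt : Nat.card N < k := by
      rw [← hk, Subgroup.card_eq_card_quotient_mul_card_subgroup N]
      exact lt_mul_of_one_lt_left Nat.card_pos hprime.one_lt
    exact goodM_step N _ hprime rfl (ih _ hlt N inferInstance rfl)

/-- Every finite solvable group is isomorphic to a subgroup of a finite M-group, a group each of whose irreducible characters is induced from a homomorphism of some subgroup into ℂˣ. -/
theorem result {G : Type u} [Group G] [Finite G] (hsolv : Group.IsSolvable G) : ∃ (M : Type u) (_ : Group M) (_ : Fintype M), (∀ χ : M → ℂ, Cfsg.IsIrrCharacter M χ → (∃ (H : Subgroup M) (lam : ↥H →* ℂˣ), χ = Cfsg.indFun H (fun h => (lam h : ℂ)))) ∧ ∃ f : G →* M, Function.Injective f := by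
  classical
  obtain ⟨W, iW, iF, hW, f, hf⟩ := goodM_of_solvable _ G hsolv rfl
  exact ⟨W, iW, iF, hW, f, hf⟩

end Cfsg.Agent.S4573
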