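import Cfsg.Statements.S4634
import Cfsg.Agent.Blocks.CyclicExc.Model

set_option autoImplicit false
open Cfsg

namespace Cfsg.Agent.S4634

open CfsgLib CfsgLib.Blocks

/-- Let B be a block of the finite group G relative to a maximal ideal M of the algebraic integers containing the prime p, with a nontrivial cyclic defect group P, let c be a block of C_G(P) inducing B, T the stabilizer of c in N_G(P) and e the index of C_G(P) in T. Let F be any finite group of order #P · e having a cyclic subgroup Q of order #P that is its own centralizer (F is then the semidirect product of Q by a cyclic group of order e acting faithfully). Then there is a perfect isometry from the set of all irreducible characters of F onto B whose signs agree on all the characters of F that do not contain Q in their kernel. -/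
theorem result {G : Type*} [Group G] [Finite G] (p : ℕ) [Fact p.Prime] (M : Ideal Cfsg.AlgInt) (hM : Cfsg.IsPModular p M) (B : Set (Cfsg.IrrCharacter G)) (hB : Cfsg.IsPBlock M B) (P : Subgroup G) (hPD : Cfsg.IsDefectGroup p M B P) (hP1 : P ≠ ⊥) (hcyc : IsCyclic P) (c : Set (Cfsg.IrrCharacter (Subgroup.centralizer (P : Set G)))) (hc : Cfsg.IsInducedBlock M (Subgroup.centralizer (P : Set G)) c B) (T : Subgroup G) (hT : ∀ g : G, g ∈ T ↔ (g ∈ Subgroup.normalizer (P : Set G) ∧ Cfsg.StabilizesBlock (Subgroup.centralizer (P : Set G)) c g)) (e : ℕ) (he : (Subgroup.centralizer (P : Set G)).relIndex T = e) (F : Type*) [Group F] [Finite F] (hF : Nat.card F = Nat.card P * e) (Q : Subgroup F) (hQ : IsCyclic Q) (hQcard : Nat.card Q = Nat.card P) (hQC : Subgroup.centralizer (Q : Set F) = Q) : ∃ (I : Cfsg.IrrCharacter F → Cfsg.IrrCharacter G) (ε : Cfsg.IrrCharacter F → ℤ), Cfsg.IsPerfectIsometry p M (Set.univ : Set (Cfsg.IrrCharacter F)) B I ε ∧ ∀ η η' : Cfsg.IrrCharacter F, (∃ x ∈ Q,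 (η : F → ℂ) x ≠ (η : F → ℂ) 1) → (∃ x ∈ Q, (η' : F → ℂ) x ≠ (η' : F → ℂ) 1) → ε η = ε η' := by
  classical
  haveI : Fintype G := Fintype.ofFinite G
  haveI : Fintype F := Fintype.ofFinite F
  haveI : Fintype (IrrCharacter G) := @Fintype.ofFinite _ CfsgLib.CharBasics.finite_irrCharacter
  haveI : Fintype (IrrCharacter F) := @Fintype.ofFinite _ CfsgLib.CharBasics.finite_irrCharacter
  have hpp : p.Prime := Fact.out
  obtain ⟨a, hP⟩ := IsPGroup.iff_card.1 (isPGroup_of_isDefectGroup hPD)
  have ha : 1 ≤ a := Nat.one_le_iff_ne_zero.2 fun h => hP1 (Subgroup.card_eq_one.1 (by rw [hP, h, pow_zero]))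
  rw [hP] at hF hQcard
  obtain ⟨hdvd, R, ⟨FB⟩⟩ := CyclicExc.exists_frame hM hB hPD hcyc ha hP hc hT he
  obtain ⟨R', Fc, hnt⟩ := CyclicExc.exists_model hM ha hdvd hF hQ hQcard hQC
  obtain rfl : R = R' := FB.mult.unique Fc.mult hdvd
  obtain ⟨I, ε, hI, hεf, hεX⟩ := CyclicExc.exists_perfect hM FB Fc
  refine ⟨I, ε, hI, fun η η' hη hη' => ?_⟩
  have he1 : 1 ≤ e := FB.mult.card ▸ Finset.card_pos.2 ⟨1, FB.mult.one⟩
  obtain rfl | he2 : e = 1 ∨ 2 ≤ e := by omega
  · have hne : Nonempty (CyclicExc.Orb R) := by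
      haveI : Fact (1 < p ^ a) := ⟨Nat.one_lt_pow (by omega) hpp.one_lt⟩
      exact ⟨⟨_, Finset.mem_image_of_mem _ (Finset.mem_erase.2 ⟨one_ne_zero, Finset.mem_univ (1 : ZMod (p ^ a))⟩)⟩⟩
    have hall : ∀ η : IrrCharacter F, ε η = FB.ε * Fc.ε := fun η => by
      by_cases h : ∃ O, η = Fc.f O
      · obtain ⟨O, rfl⟩ := h
        exact hεf O
      · push Not at h
        obtain ⟨h1, h2, h3⟩ := hεX η (Set.mem_univ η) h
        rw [h1, FB.w_of_one hne h2 h3, Fc.w_of_one hne (Set.mem_univ η) h, neg_mul_neg]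
    rw [hall, hall]
  · rcases hnt he2 η η' hη hη' with h | ⟨⟨O, rfl⟩, ⟨O', rfl⟩⟩
    · rw [h]
    · rw [hεf, hεf]

end Cfsg.Agent.S4634
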