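import Cfsg.Statements.S4706
import Cfsg.Agent.PrimeDegDihedral.Main
import Cfsg.Agent.S4702

set_option autoImplicit false
open Cfsg

namespace Cfsg.Agent.S4706

/-- Let p > 2 be a prime and G a permutation group on p letters whose Sylow p-subgroup P has normalizer of order 2p. Then either P is normal in G, or p − 1 = 2^a for some a and G is isomorphic to SL(2, 2^a). -/
theorem result {α : Type*} [Fintype α] [DecidableEq α] {p : ℕ} [Fact p.Prime] (hp : 2 < p) (hα : Fintype.card α = p) (G : Subgroup (Equiv.Perm α)) (P : Sylow p G) (hN : Nat.card (Subgroup.normalizer ((P : Subgroup G) : Set G)) = 2 * p) : (P : Subgroup G).Normal ∨ ∃ (a : ℕ) (F : Type) (_ : Field F) (_ : Fintype F), p = 2 ^ a + 1 ∧ Fintype.card F = 2 ^ a ∧ Nonempty (G ≃* Matrix.SpecialLinearGroup (Fin 2) F) := by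
  classical
  by_cases hnorm : (P : Subgroup G).Normal
  · exact Or.inl hnorm
  right
  have hp' : p.Prime := Fact.out
  have hP1 : (P : Subgroup G) ≠ ⊥ := fun e => hnorm (by rw [e]; infer_instance)
  obtain ⟨k, hk⟩ := (IsPGroup.iff_card).mp P.isPGroup'
  have hk1 : k ≠ 0 := fun e => hP1 (Subgroup.eq_bot_of_card_eq _ (by rw [hk, e, pow_zero]))
  obtain ⟨g, hg⟩ := exists_prime_orderOf_dvd_card' p (G := (P : Subgroup G)) (hk ▸ dvd_pow_self p hk1)
  obtain ⟨e, he⟩ := CfsgLib.PrimeDegree.exists_model_of hα ((g : G) : Equiv.Perm α)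
    (by rw [Subgroup.orderOf_coe, Subgroup.orderOf_coe, hg])
  haveI : MulAction.IsPretransitive G α := by
    haveI : NeZero p := ⟨hp'.ne_zero⟩
    have hmove : ∀ (i : ℕ) (j : ZMod p), ((g : G) ^ i) • e j = e (j + i) := by
      intro i
      induction i with
      | zero => simp
      | succ i ih =>
        intro j
        rw [pow_succ, mul_smul]
        show ((g : G) ^ i) • (((g : G) : Equiv.Perm α) (e j)) = _
        rw [he, ih]
        congr 1
        push_cast
        ring
    refine ⟨fun a b => ⟨(g : G) ^ (e.symm b - e.symm a).val, ?_⟩⟩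
    conv_lhs => rw [← e.apply_symm_apply a]
    rw [hmove, ZMod.natCast_zmod_val, e.symm_apply_apply, add_sub_cancel, e.apply_symm_apply]
  have hsol : ¬ Group.IsSolvable G := fun h => hnorm (CfsgLib.PrimeDegDihedral.normal_of_solvable hα G h P)
  obtain ⟨h3, hfix⟩ := CfsgLib.PrimeDegDihedral.fix_three hα G hsol P hN
  obtain ⟨a, -, hcard, F, hF, hFf, hFc, hiso⟩ := Cfsg.Agent.S4702.result (by omega)
    (hα ▸ hp'.odd_of_ne_two (by omega)) G h3 hfix
  exact ⟨a, F, hF, hFf, by omega, hFc, hiso⟩

end Cfsg.Agent.S4706
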