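import Cfsg.Statements.S4711
import Cfsg.Agent.S0938
import Cfsg.Agent.Blocks.PrincipalSolvable
import Cfsg.Agent.PLocalBasics.PLength

set_option autoImplicit false
open Cfsg

namespace Cfsg.Agent.S4711

theorem principal_trivial_on_core {G : Type*} [Group G] [Finite G] {p : ℕ} [Fact p.Prime]
    {M : Ideal Cfsg.AlgInt} (hM : Cfsg.IsPModular p M) {χ : IrrCharacter G} (hχ : χ ∈ principalBlock M G)
    {n : G} (hn : n ∈ pPrimeCore p G) : (χ : G → ℂ) n = (χ : G → ℂ) 1 := by
  haveI := Fintype.ofFinite G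
  haveI : (pPrimeCore p G).Normal := (CfsgLib.PCore.pPrimeCore_mem p G).1
  have hv : n ∈ centralizerPPrimeCore p (1 : G) := by
    refine ⟨⟨n, Subgroup.mem_centralizer_singleton_iff.2 (by simp)⟩, ?_, rfl⟩
    refine (CfsgLib.PCore.le_pPrimeCore_of_not_dvd (N := (pPrimeCore p G).subgroupOf _) inferInstance ?_) hn
    exact fun h => CfsgLib.PCore.not_dvd_card_pPrimeCore p G (h.trans (CfsgLib.PCore.card_subgroupOf_dvd _ _))
  have h := CfsgLib.ZStar.principal_apply_mul_core hM (u := (1 : G)) ⟨0, by simp⟩ hχ hv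
  rwa [one_mul] at h

open CfsgLib.Blocks CfsgLib.CharBasics in
/-- The `p`-regular elements of the normal closure of `P` lie in `O_p'`. -/
theorem regular_mem_core {G : Type*} [Group G] [Finite G] {p : ℕ} [Fact p.Prime]
    {M : Ideal Cfsg.AlgInt} (hM : Cfsg.IsPModular p M) (P : Sylow p G)
    (hres : ∀ χ ∈ Cfsg.principalBlock M G, Cfsg.IsIrrCharacter ↥(Subgroup.normalizer ((P : Subgroup G) : Set G))
      (fun n : ↥(Subgroup.normalizer ((P : Subgroup G) : Set G)) => (χ : G → ℂ) n))
    {y : G} (hy : ¬ p ∣ orderOf y) (hyM : y ∈ Subgroup.normalClosure ((P : Subgroup G) : Set G)) :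
    y ∈ pPrimeCore p G := by
  classical
  haveI := Fintype.ofFinite G
  haveI : Fintype (IrrCharacter G) := @Fintype.ofFinite _ finite_irrCharacter
  haveI := Fintype.ofFinite (P : Subgroup G)
  set S := Finset.univ.filter fun χ : IrrCharacter G => χ ∈ principalBlock M G with hS
  -- characters whose sum over `P` is non-zero are trivial on the normal closure
  have htriv : ∀ χ ∈ S, ∑ x : (P : Subgroup G), (χ : G → ℂ) x ≠ 0 → (χ : G → ℂ) y = (χ : G → ℂ) 1 := by
    intro χ hχ hne
    have hi := hres χ (Finset.mem_filter.1 hχ).2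
    let N := Subgroup.normalizer ((P : Subgroup G) : Set G)
    haveI : ((P : Subgroup G).subgroupOf N).Normal := inferInstance
    haveI := Fintype.ofFinite ((P : Subgroup G).subgroupOf N)
    have hc : classInner (fun n : (P : Subgroup G).subgroupOf N => (⟨_, hi⟩ : IrrCharacter N).1 n)
        (fun _ => (1 : ℂ)) ≠ 0 := by
      rw [classInner_eq]
      simp only [map_one, mul_one]
      refine mul_ne_zero (inv_ne_zero (Nat.cast_ne_zero.2 Nat.card_pos.ne')) ?_
      rw [← Equiv.sum_comp (Subgroup.subgroupOfEquivOfLe Subgroup.le_normalizer).symm.toEquiv]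
      exact hne
    have hle : ((P : Subgroup G) : Set G) ⊆ charKer _ (isCharacter_of_irr χ.2) := fun x hx =>
      eq_one_of_constituent_one (χ := ⟨_, hi⟩) hc (n := ⟨x, Subgroup.le_normalizer hx⟩) hx
    haveI := charKer_normal (isCharacter_of_irr χ.2)
    exact Subgroup.normalClosure_le_normal hle hyM
  -- weak orthogonality
  have hcol : ∀ x : (P : Subgroup G), x ≠ 1 → ∀ z : G, ¬ p ∣ orderOf z →
      ∑ χ ∈ S, (χ : G → ℂ) x * (χ : G → ℂ) z = 0 := by
    intro x hx z hz
    have hpx : p ∣ orderOf (x : G) := by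
      obtain ⟨k, hk⟩ := IsPGroup.iff_orderOf.1 P.isPGroup' x
      rw [Subgroup.orderOf_coe, hk]
      refine dvd_pow_self p fun h0 => hx ?_
      rw [← orderOf_eq_one_iff, hk, h0, pow_zero]
    have h := weak_block_orth' hM (isPBlock_principal (M := M) (G := G)) (x := z⁻¹) (y := (x : G))
      (by rwa [orderOf_inv]) hpx
    rw [finsum_mem_def, finsum_eq_sum_of_fintype] at h
    rw [hS, Finset.sum_filter]
    refine (Finset.sum_congr rfl fun χ _ => ?_).trans h
    rw [Set.indicator_apply]
    split_ifs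
    · rw [apply_inv (isCharacter_of_irr χ.2), Complex.conj_conj]
    · rfl
  have hE : ∀ z : G, ¬ p ∣ orderOf z →
      ∑ χ ∈ S, (∑ x : (P : Subgroup G), (χ : G → ℂ) x) * (χ : G → ℂ) z =
        ∑ χ ∈ S, (χ : G → ℂ) 1 * (χ : G → ℂ) z := by
    intro z hz
    simp only [Finset.sum_mul]
    rw [Finset.sum_comm, Finset.sum_eq_single (1 : (P : Subgroup G))]
    · simp
    · exact fun x _ hx => hcol x hx z hz
    · simp
  have heq : ∑ χ ∈ S, (χ : G → ℂ) 1 * (χ : G → ℂ) y = ∑ χ ∈ S, (χ : G → ℂ) 1 * (χ : G → ℂ) 1 := by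
    rw [← hE y hy, ← hE 1 (by simp [(Fact.out : p.Prime).ne_one])]
    refine Finset.sum_congr rfl fun χ hχ => ?_
    by_cases h : ∑ x : (P : Subgroup G), (χ : G → ℂ) x = 0
    · rw [h, zero_mul, zero_mul]
    · rw [htriv χ hχ h]
  -- hence `y` is in the kernel of the block
  have hker : y ∈ blockKer (principalBlock M G) := by
    intro χ hχ
    have hnn : ∀ ψ ∈ S, 0 ≤ (charDegree (ψ : G → ℂ) : ℝ) * ((charDegree (ψ : G → ℂ) : ℝ) - ((ψ : G → ℂ) y).re) := by
      intro ψ _
      refine mul_nonneg (Nat.cast_nonneg _) ?_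
      have := Complex.re_le_norm ((ψ : G → ℂ) y)
      have := norm_le (isCharacter_of_irr ψ.2) y
      linarith
    have hsum : ∑ ψ ∈ S, (charDegree (ψ : G → ℂ) : ℝ) * ((charDegree (ψ : G → ℂ) : ℝ) - ((ψ : G → ℂ) y).re) = 0 := by
      have h := congrArg Complex.re heq
      rw [Complex.re_sum, Complex.re_sum] at h
      simp only [mul_sub, Finset.sum_sub_distrib]
      rw [sub_eq_zero]
      convert h.symm using 1
      · refine Finset.sum_congr rfl fun ψ _ => ?_
        simp [apply_one (isCharacter_of_irr ψ.2)]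
      · refine Finset.sum_congr rfl fun ψ _ => ?_
        simp [apply_one (isCharacter_of_irr ψ.2)]
    have hχS : χ ∈ S := Finset.mem_filter.2 ⟨Finset.mem_univ _, hχ⟩
    have h1 := (mul_eq_zero.1 ((Finset.sum_eq_zero_iff_of_nonneg hnn).1 hsum χ hχS)).resolve_left
      (Nat.cast_ne_zero.2 (charDegree_pos χ.2).ne')
    rw [sub_eq_zero] at h1
    have h2 : ‖(χ : G → ℂ) y‖ ≤ ((χ : G → ℂ) y).re := by
      rw [← h1]; exact norm_le (isCharacter_of_irr χ.2) y
    have h3 : ((χ : G → ℂ) y).im = 0 := by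
      have h4 : Complex.normSq ((χ : G → ℂ) y) ≤ ((χ : G → ℂ) y).re ^ 2 := by
        rw [Complex.normSq_eq_norm_sq]
        exact pow_le_pow_left₀ (norm_nonneg _) h2 2
      rw [Complex.normSq_apply] at h4
      nlinarith [mul_self_nonneg ((χ : G → ℂ) y).im]
    rw [apply_one (isCharacter_of_irr χ.2)]
    exact Complex.ext (by simp [h1]) (by simp [h3])
  obtain ⟨K, hKn, hKeq, hKp, -, -⟩ := Cfsg.Agent.S0938.result (G := G) p M hM
    (principalBlock M G) isPBlock_principal oneChar (oneChar_mem_principal hM)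
  have hyK : y ∈ (K : Set G) := by rw [hKeq]; exact hker
  exact CfsgLib.PCore.le_pPrimeCore_of_not_dvd hKn hKp hyK

/-- Let p be a prime, M a maximal ideal of the algebraic integers containing p, G a finite group, P a Sylow p-subgroup and N = N_G(P). Then G has p-length 1 (G = O_{p',p,p'}(G)) if and only if every irreducible character in the principal p-block of G restricts to an irreducible character of N. -/
theorem result {G : Type*} [Group G] [Finite G] (p : ℕ) [Fact p.Prime] (M : Ideal Cfsg.AlgInt) (hM : Cfsg.IsPModular p M) (P : Sylow p G) : Cfsg.PLengthLE p 1 G ↔ ∀ χ ∈ Cfsg.principalBlock M G, Cfsg.IsIrrCharacter ↥(Subgroup.normalizer ((P : Subgroup G) : Set G)) (fun n : ↥(Subgroup.normalizer ((P : Subgroup G) : Set G)) => (χ : G → ℂ) n) := by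
  classical
  haveI := Fintype.ofFinite G
  have hp : p.Prime := Fact.out
  have h1 : (upperPSeries p G 1).1 = pPrimeCore p G := CfsgLib.PLocalBasics.upperPSeries_one
  set U1 := (upperPSeries p G 1).1 with hU1
  have h2 : (upperPSeries p G 2).1 = (pCore p (G ⧸ U1)).comap (QuotientGroup.mk' U1) :=
    CfsgLib.PLocalBasics.upperPSeries_succ_odd (by decide)
  set U2 := (upperPSeries p G 2).1 with hU2
  have h3 : (upperPSeries p G 3).1 = (pPrimeCore p (G ⧸ U2)).comap (QuotientGroup.mk' U2) :=
    CfsgLib.PLocalBasics.upperPSeries_succ_even (by decide)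
  let Pb : Sylow p (G ⧸ U1) := P.mapSurjective (QuotientGroup.mk'_surjective U1)
  constructor
  · intro hlen χ hχ
    have htop : pPrimeCore p (G ⧸ U2) = ⊤ := by
      apply Subgroup.comap_injective (QuotientGroup.mk'_surjective U2)
      rw [← h3, Subgroup.comap_top]
      exact hlen
    -- `P ≤ U2`
    have hPU2 : (P : Subgroup G) ≤ U2 := by
      intro x hx
      have hmap : IsPGroup p ((P : Subgroup G).map (QuotientGroup.mk' U2)) := P.isPGroup'.map _
      have hcop : (Nat.card (pPrimeCore p (G ⧸ U2))).Coprime p := CfsgLib.PCore.pPrimeCore_coprime p _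
      have hbot := CfsgLib.PCore.inf_eq_bot_of_isPGroup_of_coprime hmap hcop
      rw [htop, inf_top_eq] at hbot
      have hm : QuotientGroup.mk' U2 x ∈ (P : Subgroup G).map (QuotientGroup.mk' U2) := Subgroup.mem_map_of_mem _ hx
      rw [hbot, Subgroup.mem_bot] at hm
      exact (QuotientGroup.eq_one_iff x).1 hm
    -- `U2 ≤ U1 P`
    have hU2le : U2 ≤ U1 ⊔ (P : Subgroup G) := by
      rw [h2]
      refine (Subgroup.comap_mono (CfsgLib.PCore.pCore_le_sylow Pb)).trans ?_
      rw [Sylow.coe_mapSurjective, Subgroup.comap_map_eq, QuotientGroup.ker_mk', sup_comm]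
    set N := Subgroup.normalizer ((P : Subgroup G) : Set G) with hN
    have hsup : N ⊔ U1 = ⊤ := by
      refine top_le_iff.1 ((Sylow.normalizer_sup_eq_top' P hPU2).symm.le.trans (sup_le le_sup_left ?_))
      exact hU2le.trans (sup_le le_sup_right (Subgroup.le_normalizer.trans le_sup_left))
    obtain ⟨ψ, hψ⟩ := CfsgLib.CharBasics.exists_quotient_irr χ U1
      (fun n hn => principal_trivial_on_core hM hχ (h1 ▸ hn))
    have hsurj : Function.Surjective ((QuotientGroup.mk' U1).comp N.subtype) := by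
      rw [← MonoidHom.range_eq_top, MonoidHom.range_comp, Subgroup.range_subtype]
      refine top_le_iff.1 ?_
      calc (⊤ : Subgroup (G ⧸ U1)) = (N ⊔ U1).map (QuotientGroup.mk' U1) := by
            rw [hsup, Subgroup.map_top_of_surjective _ (QuotientGroup.mk'_surjective U1)]
        _ ≤ N.map (QuotientGroup.mk' U1) := by
            rw [Subgroup.map_sup, QuotientGroup.map_mk'_self, sup_bot_eq]
    have hi := CfsgLib.CharBasics.irr_comp_of_surjective ψ.2 _ hsurj
    convert hi using 1
    funext n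
    exact (hψ n).symm
  · intro hres
    show (upperPSeries p G 3).1 = ⊤
    set Mc := Subgroup.normalClosure ((P : Subgroup G) : Set G) with hMc
    have hPMc : (P : Subgroup G) ≤ Mc := Subgroup.le_normalClosure
    have hMp : IsPGroup p (Mc.map (QuotientGroup.mk' U1)) := by
      rintro ⟨_, x, hx, rfl⟩
      refine ⟨(orderOf x).factorization p, Subtype.ext ?_⟩
      show QuotientGroup.mk' U1 x ^ _ = 1
      rw [← map_pow, QuotientGroup.mk'_apply, QuotientGroup.eq_one_iff, h1]
      refine regular_mem_core hM P hres ?_ (pow_mem hx _)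
      rw [orderOf_pow_of_dvd (pow_ne_zero _ hp.ne_zero) (Nat.ordProj_dvd _ _)]
      exact Nat.not_dvd_ordCompl hp (orderOf_pos x).ne'
    haveI : (Mc.map (QuotientGroup.mk' U1)).Normal :=
      Subgroup.Normal.map inferInstance _ (QuotientGroup.mk'_surjective U1)
    have hPU2 : (P : Subgroup G) ≤ U2 := fun x hx => by
      rw [h2]
      exact CfsgLib.PCore.le_pCore inferInstance hMp (Subgroup.mem_map_of_mem _ (hPMc hx))
    have hcop : (Nat.card (⊤ : Subgroup (G ⧸ U2))).Coprime p := by
      rw [Subgroup.card_top, ← Subgroup.index_eq_card]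
      exact CfsgLib.PCore.coprime_of_not_dvd fun h => P.not_dvd_index (h.trans (Subgroup.index_dvd_of_le hPU2))
    rw [h3, top_le_iff.1 (CfsgLib.PCore.le_pPrimeCore inferInstance hcop), Subgroup.comap_top]

end Cfsg.Agent.S4711
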