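import Cfsg.Statements.S4757
import Cfsg.Agent.CharBasics.LinearOver
import Cfsg.Agent.Clifford.ExtCriteria
import Cfsg.Agent.PCore.Basic
-- import your own Cfsg.Agent.* helpers here

set_option autoImplicit false
open Cfsg

namespace Cfsg.Agent.S4757

/-- Let u ≠ 1 be an element of the finite group G and c a complex number such that every non-principal irreducible character χ satisfies χ(1) − χ(u) = c or χ(u) = 0. Then the following are equivalent: (a) u has order 2, G is generated by u together with O(G), the largest normal subgroup of G of odd order, and the centralizer of u is {1, u}; (b) G is not perfect; (c) c = 2. -/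
theorem result {G : Type*} [Group G] [Finite G] (u : G) (hu : u ≠ 1) (c : ℂ) (hyp : ∀ χ : Cfsg.IrrCharacter G, (χ : G → ℂ) ≠ (fun _ => (1 : ℂ)) → ((χ : G → ℂ) 1 - (χ : G → ℂ) u = c ∨ (χ : G → ℂ) u = 0)) : ((orderOf u = 2 ∧ Subgroup.zpowers u ⊔ Cfsg.oddCore G = ⊤ ∧ Subgroup.centralizer ({u} : Set G) = Subgroup.zpowers u) ↔ commutator G ≠ ⊤) ∧ (commutator G ≠ ⊤ ↔ c = 2) := by
  classical
  haveI := Fintype.ofFinite G
  haveI := Fintype.ofFinite (Cfsg.IrrCharacter G)
  have hsum := CfsgLib.CharBasics.sum_mul_degree hu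
  have h10 : ((CfsgLib.CharBasics.oneChar : Cfsg.IrrCharacter G) : G → ℂ) = fun _ => 1 := rfl
  have hdeg1 : Cfsg.charDegree (fun _ : G => (1 : ℂ)) = 1 := by simp [Cfsg.charDegree]
  -- (b) → (c)
  have bc : commutator G ≠ ⊤ → c = 2 := by
    intro hb
    obtain ⟨a, -, ha⟩ := SetLike.exists_of_lt (lt_top_iff_ne_top.2 hb)
    have ha' : Abelianization.of a ≠ 1 := fun h => ha ((QuotientGroup.eq_one_iff a).1 h)
    obtain ⟨φ, hφ⟩ := CommGroup.exists_apply_ne_one_of_hasEnoughRootsOfUnity (Abelianization G) ℂ ha'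
    let f : G →* ℂ := (Units.coeHom ℂ).comp (φ.comp Abelianization.of)
    have hf1 : (fun g => f g) ≠ fun _ => (1 : ℂ) := fun h => hφ (Units.ext (congrFun h a))
    have hfu : ∀ ψ : G →* ℂ, ψ u ≠ 0 := fun ψ h0 => by
      have := ψ.map_one; rw [← mul_inv_cancel u, map_mul, h0, zero_mul] at this; exact zero_ne_one this
    have hc : 1 - f u = c := by
      rcases hyp ⟨_, CfsgLib.Clifford.isIrrCharacter_of_hom f⟩ hf1 with h | h
      · simpa using h
      · exact absurd h (hfu f)
    have hne : f u ≠ 1 := by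
      intro h1
      have hc0 : c = 0 := by rw [← hc, h1, sub_self]
      have hnn : ∀ χ : Cfsg.IrrCharacter G, (Cfsg.charDegree (χ : G → ℂ) : ℂ) * (χ : G → ℂ) u =
          ((if (χ : G → ℂ) u = 0 then 0 else Cfsg.charDegree (χ : G → ℂ) ^ 2 : ℕ) : ℂ) := by
        intro χ
        split_ifs with h0
        · simp [h0]
        · by_cases hχ : (χ : G → ℂ) = fun _ => 1
          · rw [hχ, hdeg1]; simp
          · rcases hyp χ hχ with h | h
            · rw [hc0, sub_eq_zero, CfsgLib.CharBasics.apply_one (CfsgLib.CharBasics.isCharacter_of_irr χ.2)] at h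
              rw [← h, sq, Nat.cast_mul]
            · exact absurd h h0
      rw [Finset.sum_congr rfl (fun χ _ => hnn χ), ← Nat.cast_sum, Nat.cast_eq_zero,
        Finset.sum_eq_zero_iff] at hsum
      have := hsum CfsgLib.CharBasics.oneChar (Finset.mem_univ _)
      rw [h10, hdeg1, if_neg one_ne_zero] at this
      exact absurd this one_ne_zero
    have h2 : f u * f u = 1 := by
      by_cases hsq : (fun g => (f * f) g) = fun _ => (1 : ℂ)
      · exact congrFun hsq u
      · rcases hyp ⟨_, CfsgLib.Clifford.isIrrCharacter_of_hom (f * f)⟩ hsq with h | h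
        · simp only [map_one, MonoidHom.mul_apply] at h
          exact absurd (mul_left_cancel₀ (hfu f) (by linear_combination hc - h : f u * f u = f u * 1)) hne
        · exact absurd h (hfu (f * f))
    rcases mul_self_eq_one_iff.1 h2 with h | h
    · exact absurd h hne
    · rw [← hc, h]; norm_num
  -- (c) → (a)
  have ca : c = 2 → orderOf u = 2 ∧ Subgroup.zpowers u ⊔ Cfsg.oddCore G = ⊤ ∧
      Subgroup.centralizer ({u} : Set G) = Subgroup.zpowers u := by
    intro hc
    set L : Finset (Cfsg.IrrCharacter G) := Finset.univ.filter fun χ =>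
      (χ : G → ℂ) ≠ (fun _ => 1) ∧ Cfsg.charDegree (χ : G → ℂ) = 1 with hL
    have hlinv : ∀ χ ∈ L, (χ : G → ℂ) u = -1 := by
      intro χ hχ
      rw [hL, Finset.mem_filter] at hχ
      rcases hyp χ hχ.2.1 with h | h
      · rw [CfsgLib.CharBasics.apply_one (CfsgLib.CharBasics.isCharacter_of_irr χ.2), hχ.2.2, Nat.cast_one, hc] at h
        linear_combination -h
      · exfalso
        have := (CfsgLib.CharBasics.linHomOf χ hχ.2.2).map_one
        rw [← mul_inv_cancel u, map_mul, CfsgLib.CharBasics.linHomOf_apply, h, zero_mul] at this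
        exact zero_ne_one this
    have hLle : L.card ≤ 1 := by
      refine Finset.card_le_one.2 fun χ hχ ψ hψ => ?_
      have dχ := (Finset.mem_filter.1 hχ).2.2
      have dψ := (Finset.mem_filter.1 hψ).2.2
      let f := CfsgLib.CharBasics.linHomOf χ dχ
      let g := CfsgLib.CharBasics.linHomOf ψ dψ
      have key : ∀ h k : G →* ℂ, h u = -1 → k u = -1 → (fun x => (h * k) x) = fun _ => (1 : ℂ) := by
        intro h k hh hk
        by_contra hne
        rcases hyp ⟨_, CfsgLib.Clifford.isIrrCharacter_of_hom (h * k)⟩ hne with e | e <;>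
          simp only [map_one, MonoidHom.mul_apply, hh, hk, hc] at e <;> norm_num at e
      have e1 := key f g (hlinv χ hχ) (hlinv ψ hψ)
      have e2 := key g g (hlinv ψ hψ) (hlinv ψ hψ)
      refine Subtype.ext (funext fun x => ?_)
      have a := congrFun e1 x
      have b := congrFun e2 x
      simp only [MonoidHom.mul_apply] at a b
      have hg : g x ≠ 0 := left_ne_zero_of_mul_eq_one b
      exact mul_right_cancel₀ hg (a.trans b.symm)
    have hrest : ∀ χ : Cfsg.IrrCharacter G, χ ≠ CfsgLib.CharBasics.oneChar → χ ∉ L →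
        (Cfsg.charDegree (χ : G → ℂ) : ℂ) * (χ : G → ℂ) u =
          ((if (χ : G → ℂ) u = 0 then 0 else Cfsg.charDegree (χ : G → ℂ) * (Cfsg.charDegree (χ : G → ℂ) - 2) : ℕ) : ℂ) ∧
          2 ≤ Cfsg.charDegree (χ : G → ℂ) := by
      intro χ h1 h2
      have hne : (χ : G → ℂ) ≠ fun _ => 1 := fun h => h1 (Subtype.ext h)
      have hd : 2 ≤ Cfsg.charDegree (χ : G → ℂ) := by
        have := CfsgLib.CharBasics.charDegree_pos χ.2
        by_contra hlt
        exact h2 (Finset.mem_filter.2 ⟨Finset.mem_univ _, hne, by omega⟩)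
      refine ⟨?_, hd⟩
      split_ifs with h0
      · simp [h0]
      · rcases hyp χ hne with h | h
        · rw [CfsgLib.CharBasics.apply_one (CfsgLib.CharBasics.isCharacter_of_irr χ.2), hc] at h
          rw [Nat.cast_mul, Nat.cast_sub hd]
          push_cast
          linear_combination (-(Cfsg.charDegree (χ : G → ℂ) : ℂ)) * h
        · exact absurd h h0
    set R := (Finset.univ.erase CfsgLib.CharBasics.oneChar) \ L with hR
    have hone_notin : (CfsgLib.CharBasics.oneChar : Cfsg.IrrCharacter G) ∉ L := fun h =>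
      (Finset.mem_filter.1 h).2.1 rfl
    have hLsub : L ⊆ Finset.univ.erase CfsgLib.CharBasics.oneChar := fun x hx =>
      Finset.mem_erase.2 ⟨fun e => hone_notin (e ▸ hx), Finset.mem_univ _⟩
    have hsplit : ∀ φ : Cfsg.IrrCharacter G → ℂ, ∑ χ, φ χ =
        φ CfsgLib.CharBasics.oneChar + (∑ χ ∈ L, φ χ) + ∑ χ ∈ R, φ χ := fun φ => by
      rw [← Finset.add_sum_erase _ _ (Finset.mem_univ (CfsgLib.CharBasics.oneChar : Cfsg.IrrCharacter G)),
        ← Finset.sum_sdiff hLsub, hR]
      ring
    have hRmem : ∀ χ ∈ R, χ ≠ CfsgLib.CharBasics.oneChar ∧ χ ∉ L := fun χ hχ => by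
      rw [hR, Finset.mem_sdiff, Finset.mem_erase] at hχ; exact ⟨hχ.1.1, hχ.2⟩
    rw [hsplit, h10, hdeg1, Nat.cast_one, one_mul,
      Finset.sum_congr rfl (fun χ hχ => by
        rw [hlinv χ hχ, (Finset.mem_filter.1 hχ).2.2] : ∀ χ ∈ L,
          (Cfsg.charDegree (χ : G → ℂ) : ℂ) * (χ : G → ℂ) u = ((1 : ℕ) : ℂ) * -1),
      Finset.sum_congr rfl (fun χ hχ => (hrest χ (hRmem χ hχ).1 (hRmem χ hχ).2).1), ← Nat.cast_sum,
      Finset.sum_const, nsmul_eq_mul] at hsum
    set T := ∑ χ ∈ R, (if (χ : G → ℂ) u = 0 then 0 else Cfsg.charDegree (χ : G → ℂ) * (Cfsg.charDegree (χ : G → ℂ) - 2)) with hT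
    have hnat : 1 + T = L.card := by
      have : ((1 + T : ℕ) : ℂ) = (L.card : ℂ) := by push_cast at hsum ⊢; linear_combination hsum
      exact_mod_cast this
    have hL1 : L.card = 1 := by omega
    have hT0 : T = 0 := by omega
    have hR0 : ∀ χ ∈ R, (χ : G → ℂ) u = 0 := by
      intro χ hχ
      rw [hT, Finset.sum_eq_zero_iff] at hT0
      by_contra h0
      have h := hT0 χ hχ
      rw [if_neg h0] at h
      obtain ⟨hne, hnL⟩ := hRmem χ hχ
      have hd := (hrest χ hne hnL).2
      have hd2 : Cfsg.charDegree (χ : G → ℂ) = 2 := by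
        rcases Nat.mul_eq_zero.1 h with h | h <;> omega
      rcases hyp χ (fun e => hne (Subtype.ext e)) with e | e
      · rw [CfsgLib.CharBasics.apply_one (CfsgLib.CharBasics.isCharacter_of_irr χ.2), hd2, hc] at e
        exact h0 (by push_cast at e; linear_combination -e)
      · exact h0 e
    have hcard : Nat.card (Subgroup.centralizer ({u} : Set G)) = 2 := by
      have h := CfsgLib.CharBasics.sum_normSq_col u
      have hC : ∑ χ : Cfsg.IrrCharacter G, ((‖(χ : G → ℂ) u‖ ^ 2 : ℝ) : ℂ) = ((2 : ℕ) : ℂ) := by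
        rw [hsplit, h10,
          Finset.sum_congr rfl (fun χ hχ => by rw [hlinv χ hχ] : ∀ χ ∈ L,
            ((‖(χ : G → ℂ) u‖ ^ 2 : ℝ) : ℂ) = ((‖(-1 : ℂ)‖ ^ 2 : ℝ) : ℂ)),
          Finset.sum_eq_zero (s := R) fun χ hχ => by rw [hR0 χ hχ]; simp]
        simp [hL1]; norm_num
      rw [← Complex.ofReal_sum, h, Complex.ofReal_natCast] at hC
      exact_mod_cast hC
    have hle : Subgroup.zpowers u ≤ Subgroup.centralizer ({u} : Set G) := by
      rw [Subgroup.zpowers_le, Subgroup.mem_centralizer_singleton_iff]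
    have ho : orderOf u = 2 := by
      have h1 := Subgroup.card_dvd_of_le hle
      rw [hcard, Nat.card_zpowers] at h1
      rcases (Nat.dvd_prime Nat.prime_two).1 h1 with h | h
      · exact absurd (orderOf_eq_one_iff.1 h) hu
      · exact h
    have hCz : Subgroup.centralizer ({u} : Set G) = Subgroup.zpowers u :=
      (Subgroup.eq_of_le_of_card_ge hle (by rw [hcard, Nat.card_zpowers, ho])).symm
    refine ⟨ho, ?_, hCz⟩
    obtain ⟨P, hP⟩ := IsPGroup.exists_le_sylow (p := 2)
      (IsPGroup.of_card (n := 1) (by rw [Nat.card_zpowers, ho, pow_one]) : IsPGroup 2 (Subgroup.zpowers u))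
    have huP : u ∈ (P : Subgroup G) := hP (Subgroup.mem_zpowers u)
    haveI : Nontrivial (P : Subgroup G) := ⟨⟨⟨u, huP⟩, 1, fun h => hu (congrArg Subtype.val h)⟩⟩
    haveI := P.isPGroup'.center_nontrivial
    obtain ⟨z, hz⟩ := exists_ne (1 : Subgroup.center (P : Subgroup G))
    have hzu : ((z : (P : Subgroup G)) : G) ∈ Subgroup.centralizer ({u} : Set G) := by
      rw [Subgroup.mem_centralizer_singleton_iff]
      exact congrArg Subtype.val ((Subgroup.mem_center_iff.1 z.2 ⟨u, huP⟩).symm)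
    rw [hCz, Subgroup.mem_zpowers_iff] at hzu
    obtain ⟨k, hk⟩ := hzu
    have hsq : u * u = 1 := by rw [← sq, ← ho]; exact pow_orderOf_eq_one u
    have hzeq : ((z : (P : Subgroup G)) : G) = u := by
      rcases Int.even_or_odd k with ⟨j, rfl⟩ | ⟨j, rfl⟩
      · exfalso; apply hz; apply Subtype.ext; apply Subtype.ext
        rw [← hk, zpow_add, ← (Commute.refl u).mul_zpow, hsq, one_zpow]; rfl
      · rw [← hk, zpow_add, zpow_one, two_mul, zpow_add, ← (Commute.refl u).mul_zpow, hsq, one_zpow, one_mul]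
    have hPle : (P : Subgroup G) ≤ Subgroup.zpowers u := by
      intro x hx
      rw [← hCz, Subgroup.mem_centralizer_singleton_iff, ← hzeq]
      exact congrArg Subtype.val (Subgroup.mem_center_iff.1 z.2 ⟨x, hx⟩)
    have hPeq : (P : Subgroup G) = Subgroup.zpowers u := le_antisymm hPle hP
    have hcyc : IsCyclic (P : Subgroup G) := by rw [hPeq]; infer_instance
    have hmin : (Nat.card G).minFac = 2 :=
      le_antisymm (Nat.minFac_le_of_dvd le_rfl (ho ▸ orderOf_dvd_natCard u))
        (Nat.minFac_prime (fun h => hu ((Nat.card_eq_one_iff_unique.1 h).1.elim u 1))).two_le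
    have hK := IsCyclic.isComplement' (P := P) hmin hcyc
    have hnd := MonoidHom.not_dvd_card_ker_transferSylow P (hcyc.normalizer_le_centralizer hmin)
    refine top_le_iff.1 (le_of_eq_of_le hK.sup_eq_top.symm ?_)
    exact sup_le (le_sup_of_le_right (CfsgLib.PCore.le_pPrimeCore_of_not_dvd inferInstance hnd))
      (le_sup_of_le_left hPeq.le)
  -- (a) → (b)
  have ab : (orderOf u = 2 ∧ Subgroup.zpowers u ⊔ Cfsg.oddCore G = ⊤ ∧
      Subgroup.centralizer ({u} : Set G) = Subgroup.zpowers u) → commutator G ≠ ⊤ := by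
    rintro ⟨ho, hgen, -⟩ hperf
    haveI : (Cfsg.oddCore G).Normal := (CfsgLib.PCore.pPrimeCore_mem 2 G).1
    have hc : commutator G ≤ Cfsg.oddCore G := by
      rw [commutator_eq_closure, Subgroup.closure_le]
      rintro x ⟨a, b, rfl⟩
      have hmk : ∀ g : G, ∃ k : ℤ, (QuotientGroup.mk g : G ⧸ Cfsg.oddCore G) = (QuotientGroup.mk u) ^ k := by
        intro g
        have hg : g ∈ Subgroup.zpowers u ⊔ Cfsg.oddCore G := hgen ▸ Subgroup.mem_top g
        obtain ⟨y, hy, z, hz, rfl⟩ := Subgroup.mem_sup_of_normal_right.1 hg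
        obtain ⟨k, rfl⟩ := hy
        exact ⟨k, by rw [QuotientGroup.mk_mul, (QuotientGroup.eq_one_iff z).2 hz, mul_one]; rfl⟩
      obtain ⟨i, hi⟩ := hmk a
      obtain ⟨j, hj⟩ := hmk b
      refine (QuotientGroup.eq_one_iff _).1 ?_
      rw [commutatorElement_def, QuotientGroup.mk_mul, QuotientGroup.mk_mul, QuotientGroup.mk_mul,
        QuotientGroup.mk_inv, QuotientGroup.mk_inv, hi, hj, ← _root_.zpow_neg, ← _root_.zpow_neg, ← zpow_add,
        ← zpow_add, ← zpow_add]
      rw [show i + j + -i + -j = 0 by ring, zpow_zero]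
    have hcop := (CfsgLib.PCore.pPrimeCore_mem 2 G).2
    rw [show Cfsg.pPrimeCore 2 G = ⊤ from top_le_iff.1 (hperf ▸ hc), Subgroup.card_top] at hcop
    exact Nat.prime_two.coprime_iff_not_dvd.1 hcop.symm (ho ▸ orderOf_dvd_natCard u)
  exact ⟨⟨ab, fun h => ca (bc h)⟩, ⟨bc, fun h => ab (ca h)⟩⟩

end Cfsg.Agent.S4757
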