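import Cfsg.Statements.S4776
import Cfsg.Agent.RelDegGraph.Main

set_option autoImplicit false
open Cfsg

namespace Cfsg.Agent.S4776

open CfsgLib.RelDegGraph

/-- Let N be a normal subgroup of the finite group G that is not perfect and is contained in the derived subgroup of G. Consider the common-divisor graph on the relative degree set cd(G|N) (the degrees of the irreducible complex characters of G whose kernel does not contain N; two distinct degrees adjacent when they have a common divisor greater than one). Then this graph has at most two connected components; and if a, b ∈ cd(G|N) lie in different components, then one of a, b is coprime to the index m of the derived subgroup of N in N while the other is divisible by every prime divisor of m. -/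
theorem result {G : Type*} [Group G] [Finite G] (N : Subgroup G) [N.Normal] (hN : ⁅N, N⁆ < N) (hNG : N ≤ commutator G) : Nat.card (Cfsg.commonDivisorGraph.induce (Cfsg.relCharDegrees N)).ConnectedComponent ≤ 2 ∧ ∀ (a b : ℕ) (ha : a ∈ Cfsg.relCharDegrees N) (hb : b ∈ Cfsg.relCharDegrees N), ¬ (Cfsg.commonDivisorGraph.induce (Cfsg.relCharDegrees N)).Reachable ⟨a, ha⟩ ⟨b, hb⟩ → (Nat.Coprime a (⁅N, N⁆.relIndex N) ∧ ∀ r : ℕ, r.Prime → r ∣ ⁅N, N⁆.relIndex N → r ∣ b) ∨ (Nat.Coprime b (⁅N, N⁆.relIndex N) ∧ ∀ r : ℕ, r.Prime → r ∣ ⁅N, N⁆.relIndex N → r ∣ a) := by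
  classical
  set m := ⁅N, N⁆.relIndex N with hm
  have hm1 : m ≠ 1 := fun h => hN.not_ge (Subgroup.relIndex_eq_one.1 h)
  obtain ⟨p0, hp0, hp0m⟩ := Nat.exists_prime_and_dvd hm1
  have hpos : ∀ d ∈ Cfsg.relCharDegrees N, 0 < d := by
    rintro d ⟨χ, -, rfl⟩
    exact CfsgLib.CharBasics.charDegree_pos χ.2
  have two : ∀ a b c, a ∈ Cfsg.relCharDegrees N → b ∈ Cfsg.relCharDegrees N → c ∈ Cfsg.relCharDegrees N →
      Conn N a b ∨ Conn N a c ∨ Conn N b c := by
    intro a b c ha hb hc
    by_cases h1 : p0 ∣ a <;> by_cases h2 : p0 ∣ b <;> by_cases h3 : p0 ∣ c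
    · exact Or.inl (conn_of_dvd hp0.one_lt ha hb h1 h2 (hpos a ha))
    · exact Or.inl (conn_of_dvd hp0.one_lt ha hb h1 h2 (hpos a ha))
    · exact Or.inr (Or.inl (conn_of_dvd hp0.one_lt ha hc h1 h3 (hpos a ha)))
    · exact Or.inr (Or.inr (conn_of_not_dvd hNG hp0 hp0m hb hc h2 h3))
    · exact Or.inr (Or.inr (conn_of_dvd hp0.one_lt hb hc h2 h3 (hpos b hb)))
    · exact Or.inr (Or.inl (conn_of_not_dvd hNG hp0 hp0m ha hc h1 h3))
    · exact Or.inl (conn_of_not_dvd hNG hp0 hp0m ha hb h1 h2)
    · exact Or.inl (conn_of_not_dvd hNG hp0 hp0m ha hb h1 h2)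
  refine ⟨?_, fun a b ha hb hab => ?_⟩
  · by_contra hgt
    rw [not_le] at hgt
    haveI := Nat.finite_of_card_ne_zero (α := (Cfsg.commonDivisorGraph.induce (Cfsg.relCharDegrees N)).ConnectedComponent)
      (by omega)
    haveI := Fintype.ofFinite (Cfsg.commonDivisorGraph.induce (Cfsg.relCharDegrees N)).ConnectedComponent
    rw [Nat.card_eq_fintype_card] at hgt
    obtain ⟨A, B, C, hAB, hAC, hBC⟩ := Fintype.two_lt_card_iff.1 hgt
    induction A using SimpleGraph.ConnectedComponent.ind with | h a => ?_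
    induction B using SimpleGraph.ConnectedComponent.ind with | h b => ?_
    induction C using SimpleGraph.ConnectedComponent.ind with | h c => ?_
    rcases two a b c a.2 b.2 c.2 with ⟨_, _, h⟩ | ⟨_, _, h⟩ | ⟨_, _, h⟩
    · exact hAB (SimpleGraph.ConnectedComponent.sound h)
    · exact hAC (SimpleGraph.ConnectedComponent.sound h)
    · exact hBC (SimpleGraph.ConnectedComponent.sound h)
  · have hnab : ¬ Conn N a b := fun ⟨_, _, h⟩ => hab h
    by_cases h : p0 ∣ b
    · left
      obtain ⟨-, hall⟩ := separated hNG ha hb hnab (hpos a ha) hp0 hp0m h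
      exact ⟨Nat.coprime_of_dvd fun q hq hqa hqm => (hall q hq hqm).2 hqa, fun r hr hrm => (hall r hr hrm).1⟩
    · right
      have h' : p0 ∣ a := by
        by_contra h1
        exact hnab (conn_of_not_dvd hNG hp0 hp0m ha hb h1 h)
      obtain ⟨-, hall⟩ := separated hNG hb ha (fun e => hnab e.symm) (hpos b hb) hp0 hp0m h'
      exact ⟨Nat.coprime_of_dvd fun q hq hqb hqm => (hall q hq hqm).2 hqb, fun r hr hrm => (hall r hr hrm).1⟩

end Cfsg.Agent.S4776
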