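import Cfsg.Statements.S4779
import Cfsg.Agent.RelDegGraph.Diam
-- import your own Cfsg.Agent.* helpers here

set_option autoImplicit false
open Cfsg

namespace Cfsg.Agent.S4779

open CfsgLib.RelDegGraph

/-- Let N be a solvable normal subgroup of the finite group G contained in the derived subgroup of G, and consider the common-divisor graph on the relative degree set cd(G|N) (degrees of irreducible complex characters of G whose kernel does not contain N, two distinct degrees adjacent when not coprime). If this graph has two vertices that are not joined by any path, then there is a vertex a₀ such that any two distinct vertices in the component of a₀ are adjacent, and any two distinct vertices outside that component are adjacent or have a common neighbour (one component is complete, the other has diameter at most 2). -/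
theorem result {G : Type*} [Group G] [Finite G] (N : Subgroup G) [N.Normal] [Group.IsSolvable N] (hNG : N ≤ commutator G) (hdisc : ¬ (Cfsg.commonDivisorGraph.induce (Cfsg.relCharDegrees N)).Preconnected) : ∃ a₀ : ↥(Cfsg.relCharDegrees N), (∀ b c : ↥(Cfsg.relCharDegrees N), (Cfsg.commonDivisorGraph.induce (Cfsg.relCharDegrees N)).Reachable a₀ b → (Cfsg.commonDivisorGraph.induce (Cfsg.relCharDegrees N)).Reachable a₀ c → b ≠ c → (Cfsg.commonDivisorGraph.induce (Cfsg.relCharDegrees N)).Adj b c) ∧ (∀ b c : ↥(Cfsg.relCharDegrees N), ¬ (Cfsg.commonDivisorGraph.induce (Cfsg.relCharDegrees N)).Reachable a₀ b → ¬ (Cfsg.commonDivisorGraph.induce (Cfsg.relCharDegrees N)).Reachable a₀ c → b ≠ c → (Cfsg.commonDivisorGraph.induce (Cfsg.relCharDegrees N)).Adj b c ∨ ∃ d : ↥(Cfsg.relCharDegrees N), (Cfsg.commonDivisorGraph.induce (Cfsg.relCharDegrees N)).Adj b d ∧ (Cfsg.commonDivisorGraph.induce (Cfsg.relCharDegrees N)).Adj d c) := by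
  classical
  unfold SimpleGraph.Preconnected at hdisc
  push Not at hdisc
  obtain ⟨a1, b1, hab⟩ := hdisc
  have hN0 : N ≠ ⊥ := by
    rintro rfl
    obtain ⟨χ, ⟨x, hx, hne⟩, -⟩ := a1.2
    rw [Subgroup.mem_bot] at hx
    exact hne (hx ▸ rfl)
  haveI := (Subgroup.nontrivial_iff_ne_bot N).2 hN0
  obtain ⟨p, hp, hpm⟩ := Nat.exists_prime_and_dvd (fun h => (IsSolvable.commutator_lt_top_of_nontrivial ↥N).ne
    (Subgroup.index_eq_one.1 ((relIndex_commutator N).symm.trans h)) : ⁅N, N⁆.relIndex N ≠ 1)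
  have hconn : ∀ x ∈ Cfsg.relCharDegrees N, ∀ y ∈ Cfsg.relCharDegrees N, (p ∣ x ↔ p ∣ y) → Conn N x y := by
    intro x hx y hy h
    by_cases hpx : p ∣ x
    · exact conn_of_dvd hp.one_lt hx hy hpx (h.1 hpx) (pos_of_mem hx)
    · exact conn_of_not_dvd hNG hp hpm hx hy hpx fun e => hpx (h.2 e)
  obtain ⟨a₀, hpa₀⟩ : ∃ a₀ : ↥(Cfsg.relCharDegrees N), p ∣ (a₀ : ℕ) := by
    by_contra hall
    push Not at hall
    exact hab (hconn a1 a1.2 b1 b1.2 (iff_of_false (hall a1) (hall b1))).2.2
  have key : ∀ x : ↥(Cfsg.relCharDegrees N), ¬ p ∣ (x : ℕ) → ¬ Conn N x a₀ := by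
    intro x hx hcon
    have all : ∀ z : ↥(Cfsg.relCharDegrees N), Conn N z a₀ := fun z => by
      by_cases hz : p ∣ (z : ℕ)
      · exact hconn z z.2 a₀ a₀.2 (iff_of_true hz hpa₀)
      · exact (hconn z z.2 x x.2 (iff_of_false hz hx)).trans hcon
    exact hab ((all a1).trans (all b1).symm).2.2
  refine ⟨a₀, fun b c hb hc hbc => ?_, fun b c hb hc hbc => ?_⟩
  · have hb' : p ∣ (b : ℕ) := by_contra fun h => key b h ⟨b.2, a₀.2, hb.symm⟩
    have hc' : p ∣ (c : ℕ) := by_contra fun h => key c h ⟨c.2, a₀.2, hc.symm⟩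
    exact adj_of_sh hbc (sh_of_dvd hp.ne_one hb' hc')
  · have free : ∀ x : ↥(Cfsg.relCharDegrees N),
        ¬ (Cfsg.commonDivisorGraph.induce (Cfsg.relCharDegrees N)).Reachable a₀ x →
        ∀ r : ℕ, r.Prime → r ∣ ⁅N, N⁆.relIndex N → ¬ r ∣ (x : ℕ) := fun x hx r hr hrm =>
      ((separated hNG x.2 a₀.2 (fun h => hx h.2.2.symm) (pos_of_mem x.2) hp hpm hpa₀).2 r hr hrm).2
    have hnear : Near N b c := by
      obtain ⟨q, hq1, hcases⟩ := cases_mem (N := N)
      have hnl : ∀ x : ↥(Cfsg.relCharDegrees N),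
          ¬ (Cfsg.commonDivisorGraph.induce (Cfsg.relCharDegrees N)).Reachable a₀ x →
          ∀ d, NL N q x d → q ∣ d := by
        intro x hx d hd
        refine hd.2.2.2.2.resolve_right ?_
        rintro ⟨e, r, he, hr, hrm, hre, hde⟩
        have h1 : Conn N x e := conn_of_dvd hd.2.1 x.2 he hd.2.2.1 hde (pos_of_mem x.2)
        have h2 : r ∣ (a₀ : ℕ) :=
          ((separated hNG x.2 a₀.2 (fun h => hx h.2.2.symm) (pos_of_mem x.2) hp hpm hpa₀).2 r hr hrm).1
        exact hx (h1.trans (conn_of_dvd hr.one_lt he a₀.2 hre h2 (pos_of_mem he))).2.2.symm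
      rcases hcases b b.2 with ⟨s, hs⟩ | ⟨d, hd⟩
      · exact near_lin_free hNG hcases hs (free b hb s hs.1 hs.2.1) c.2 (free c hc s hs.1 hs.2.1)
      · rcases hcases c c.2 with ⟨s, hs⟩ | ⟨d', hd'⟩
        · exact (near_lin_free hNG hcases hs (free c hc s hs.1 hs.2.1) b.2 (free b hb s hs.1 hs.2.1)).symm
        · exact near_of_sh b.2 (sh_of_dvd hq1 ((hnl b hb d hd).trans hd.2.2.1) ((hnl c hc d' hd').trans hd'.2.2.1))
    obtain ⟨z, hz, h1, h2⟩ := hnear
    rcases eq_or_ne (b : ℕ) z with e | hbz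
    · subst e; exact Or.inl (adj_of_sh hbc h2)
    rcases eq_or_ne z (c : ℕ) with e | hzc
    · subst e; exact Or.inl (adj_of_sh hbc h1)
    exact Or.inr ⟨⟨z, hz⟩, adj_of_sh (fun e => hbz (congrArg Subtype.val e)) h1,
      adj_of_sh (fun e => hzc (congrArg Subtype.val e)) h2⟩


end Cfsg.Agent.S4779
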