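import Cfsg.Statements.S4805
import Cfsg.Agent.OneClassDerived.Main
import Cfsg.Agent.CharBasics.Extra
import Cfsg.Agent.S4811
import Cfsg.Agent.GaloisDegree.Basic

set_option autoImplicit false
open Cfsg CfsgLib.CharBasics
open scoped commutatorElement ComplexConjugate

namespace Cfsg.Agent.S4805

/-- Orthogonality of the linear characters. -/
theorem sum_linear {G : Type*} [Group G] [Fintype G] [Fintype (IrrCharacter G)]
    [DecidablePred fun χ : IrrCharacter G => charDegree (χ : G → ℂ) ≠ 1] (x g : G)
    [Decidable (x⁻¹ * g ∈ commutator G)] :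
    ∑ χ ∈ Finset.univ.filter (fun χ : IrrCharacter G => ¬ charDegree (χ : G → ℂ) ≠ 1),
        (χ : G → ℂ) x * conj ((χ : G → ℂ) g) =
      if x⁻¹ * g ∈ commutator G then ((commutator G).index : ℂ) else 0 := by
  classical
  haveI := finite_irrCharacter (G := G ⧸ commutator G)
  haveI := Fintype.ofFinite (G ⧸ commutator G)
  haveI := Fintype.ofFinite (IrrCharacter (G ⧸ commutator G))
  haveI : IsMulCommutative (G ⧸ commutator G) :=
    Subgroup.Normal.quotient_commutative_iff_commutator_le.2 le_rfl
  have h := sum_col (QuotientGroup.mk' (commutator G) x) (QuotientGroup.mk' (commutator G) g)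
  have hc : IsConj (QuotientGroup.mk' (commutator G) x) (QuotientGroup.mk' (commutator G) g) ↔
      x⁻¹ * g ∈ commutator G := by
    rw [← QuotientGroup.eq]
    refine ⟨fun h => ?_, fun h => ?_⟩
    · obtain ⟨c, hc⟩ := isConj_iff.1 h
      rw [mul_comm' c, mul_inv_cancel_right] at hc
      exact hc
    · rw [QuotientGroup.mk'_apply, QuotientGroup.mk'_apply, h]
  have hcent : Nat.card (Subgroup.centralizer ({QuotientGroup.mk' (commutator G) x} : Set (G ⧸ commutator G))) =
      (commutator G).index := by
    rw [Subgroup.index_eq_card]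
    exact Nat.card_congr (Equiv.subtypeUnivEquiv fun c => Subgroup.mem_centralizer_singleton_iff.2 (mul_comm' _ _))
  rw [if_congr hc rfl rfl, hcent] at h
  rw [← h]
  refine (Finset.sum_bij (fun (ψ : IrrCharacter (G ⧸ commutator G)) _ =>
    (⟨fun x => (ψ : G ⧸ commutator G → ℂ) (QuotientGroup.mk' _ x),
      CfsgLib.Clifford.isIrrCharacter_comp ψ.2 _ (QuotientGroup.mk'_surjective _)⟩ : IrrCharacter G)) ?_ ?_ ?_ ?_).symm
  · intro ψ _
    simp only [Finset.mem_filter, Finset.mem_univ, true_and, not_not]
    show ⌊((ψ : G ⧸ commutator G → ℂ) (QuotientGroup.mk' _ 1)).re⌋₊ = 1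
    rw [map_one]
    exact charDegree_comm ψ.2
  · intro ψ _ ψ' _ he
    refine Subtype.ext (funext fun x => ?_)
    obtain ⟨y, rfl⟩ := QuotientGroup.mk'_surjective _ x
    exact congrFun (congrArg Subtype.val he) y
  · intro χ hχ
    simp only [Finset.mem_filter, Finset.mem_univ, true_and, not_not] at hχ
    obtain ⟨ψ, hψ⟩ := exists_quotient_irr χ (commutator G) fun g hg =>
      CfsgLib.GaloisDegree.apply_commutator_of_linear χ.2 hχ hg
    exact ⟨ψ, Finset.mem_univ _, Subtype.ext (funext hψ)⟩
  · intro ψ _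
    rfl

/-- Let G be a finite group, g an element outside the centre of G, and χ an irreducible complex character of degree greater than one with χ(g) ≠ 0 such that every other irreducible character of degree greater than one vanishes at g. Then g lies in the derived subgroup G′ and χ(g) = −[G : G′]/χ(1); G′ is the union of the kernel of χ (the elements where χ takes the value χ(1)) and the conjugacy class of g, and χ vanishes outside G′; every irreducible character of degree greater than one whose kernel contains that of χ equals χ; and G is solvable. -/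
theorem result {G : Type*} [Group G] [Finite G] (g : G) (hg : g ∉ Subgroup.center G) (χ : Cfsg.IrrCharacter G) (hχ1 : Cfsg.charDegree (χ : G → ℂ) ≠ 1) (hχg : (χ : G → ℂ) g ≠ 0) (hother : ∀ ψ : Cfsg.IrrCharacter G, Cfsg.charDegree (ψ : G → ℂ) ≠ 1 → ψ ≠ χ → (ψ : G → ℂ) g = 0) : g ∈ commutator G ∧ (χ : G → ℂ) g = -(((commutator G).index : ℂ) / (χ : G → ℂ) 1) ∧ ((commutator G : Set G) = {x : G | (χ : G → ℂ) x = (χ : G → ℂ) 1} ∪ {h : G | IsConj g h}) ∧ (∀ x : G, x ∉ commutator G → (χ : G → ℂ) x = 0) ∧ (∀ ψ : Cfsg.IrrCharacter G, Cfsg.charDegree (ψ : G → ℂ) ≠ 1 → (∀ x : G, (χ : G → ℂ) x = (χ : G → ℂ) 1 → (ψ : G → ℂ) x = (ψ : G → ℂ) 1) → ψ = χ) ∧ Group.IsSolvable G := by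
  classical
  haveI := Fintype.ofFinite G
  haveI := finite_irrCharacter (G := G)
  haveI := Fintype.ofFinite (IrrCharacter G)
  set D := commutator G with hDdef
  set c : G → ℂ := (χ : G → ℂ) with hc
  have hχc : IsCharacter G c := isCharacter_of_irr χ.2
  have hc1 : c 1 = (charDegree c : ℂ) := apply_one hχc
  have hc10 : c 1 ≠ 0 := apply_one_ne_zero χ.2
  have hg1 : g ≠ 1 := fun e => hg (e ▸ one_mem _)
  set m : ℂ := (D.index : ℂ) with hm
  have hm0 : m ≠ 0 := Nat.cast_ne_zero.2 Subgroup.index_ne_zero_of_finite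
  -- second orthogonality with the column of `g`
  have hcol : ∀ x : G, (if x⁻¹ * g ∈ D then m else 0) + c x * conj (c g) =
      if IsConj x g then (Nat.card (Subgroup.centralizer ({x} : Set G)) : ℂ) else 0 := by
    intro x
    rw [← sum_col x g, ← sum_linear x g,
      ← Finset.sum_filter_add_sum_filter_not Finset.univ
        (fun ψ : IrrCharacter G => charDegree (ψ : G → ℂ) ≠ 1), add_comm]
    congr 1
    symm
    refine Finset.sum_eq_single χ (fun ψ hψ hne => ?_) (fun h => (h (Finset.mem_filter.2 ⟨Finset.mem_univ χ, hχ1⟩)).elim)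
    rw [hother ψ (Finset.mem_filter.1 hψ).2 hne, map_zero, mul_zero]
  -- `g` lies in the derived subgroup
  have hgD : g ∈ D := by
    by_contra h
    have h1 := hcol 1
    rw [inv_one, one_mul, if_neg h, zero_add, if_neg (fun k => hg1 (isConj_one_right.1 k))] at h1
    rcases mul_eq_zero.1 h1 with h2 | h2
    · exact hc10 h2
    · exact hχg ((map_eq_zero _).1 h2)
  have hmem : ∀ x : G, x⁻¹ * g ∈ D ↔ x ∈ D := fun x =>
    ⟨fun h => by simpa using mul_mem hgD (inv_mem h), fun h => mul_mem (inv_mem h) hgD⟩
  have hgval : c g = -(m / c 1) := by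
    have h1 := hcol 1
    rw [if_pos ((hmem 1).2 (one_mem D)), if_neg (fun k => hg1 (isConj_one_right.1 k))] at h1
    have h2 : conj (c g) = -(m / c 1) := by
      field_simp
      linear_combination h1
    have h3 := congrArg conj h2
    rw [Complex.conj_conj, map_neg, map_div₀, hc1, hm, Complex.conj_natCast, Complex.conj_natCast] at h3
    rw [h3, hc1]
  have hgconj : conj (c g) = -(m / c 1) := by
    rw [hgval, map_neg, map_div₀, hc1, hm, Complex.conj_natCast, Complex.conj_natCast]
  have hout : ∀ x : G, x ∉ D → c x = 0 := by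
    intro x hx
    have hnc : ¬ IsConj x g := fun h => by
      obtain ⟨t, ht⟩ := isConj_iff.1 h.symm
      exact hx (ht ▸ (inferInstance : D.Normal).conj_mem g hgD t)
    have h1 := hcol x
    rw [if_neg (fun h => hx ((hmem x).1 h)), zero_add, if_neg hnc] at h1
    exact (mul_eq_zero.1 h1).resolve_right (fun h => hχg ((map_eq_zero _).1 h))
  have hin : ∀ x ∈ D, ¬ IsConj g x → c x = c 1 := by
    intro x hx hnc
    have h1 := hcol x
    rw [if_pos ((hmem x).2 hx), if_neg (fun h => hnc h.symm), hgconj] at h1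
    field_simp at h1
    apply mul_left_cancel₀ hm0
    linear_combination -h1
  have hneq : c g ≠ c 1 := by
    intro e
    rw [hgval] at e
    have h1 : ((charDegree c * charDegree c + D.index : ℕ) : ℂ) = 0 := by
      push_cast
      field_simp at e
      rw [hc1, hm] at e
      linear_combination -e
    rw [Nat.cast_eq_zero] at h1
    have : D.index ≠ 0 := Subgroup.index_ne_zero_of_finite
    omega
  -- the kernel
  set K := charKer c hχc with hK
  haveI : K.Normal := charKer_normal hχc
  have hKmem : ∀ x, x ∈ K ↔ c x = c 1 := fun x => Iff.rfl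
  have hKD : K ≤ D := fun x hx => by
    by_contra h
    exact hc10 (((hKmem x).1 hx).symm.trans (hout x h))
  have hcls : ∀ x : G, IsConj g x → x ∈ D ∧ x ∉ K := by
    intro x hx
    refine ⟨?_, fun h => hneq ((apply_isConj hχc hx).trans ((hKmem x).1 h))⟩
    obtain ⟨t, rfl⟩ := isConj_iff.1 hx
    exact (inferInstance : D.Normal).conj_mem g hgD t
  have hset : (D : Set G) = {x : G | c x = c 1} ∪ {h : G | IsConj g h} := by
    ext x
    refine ⟨fun hx => ?_, fun hx => hx.elim (fun h => hKD ((hKmem x).2 h)) (fun h => (hcls x h).1)⟩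
    by_cases h : IsConj g x
    · exact Or.inr h
    · exact Or.inl (hin x hx h)
  refine ⟨hgD, hgval, hset, hout, ?_, ?_⟩
  · intro ψ hψ1 hker
    by_contra hne
    have hψg : (ψ : G → ℂ) g = 0 := hother ψ hψ1 hne
    have hψv : ∀ x ∈ D, (ψ : G → ℂ) x = if x ∈ K then (ψ : G → ℂ) 1 else 0 := by
      intro x hx
      by_cases h : x ∈ K
      · rw [if_pos h, hker x ((hKmem x).1 h)]
      · have hcx : IsConj g x := by
          by_contra h'
          exact h ((hKmem x).2 (hin x hx h'))
        rw [if_neg h, ← apply_isConj (isCharacter_of_irr ψ.2) hcx, hψg]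
    -- a nonlinear character sums to zero over the derived subgroup
    have hz : ∑ x : G, (if x ∈ D then m else 0) * (ψ : G → ℂ) x = 0 := by
      have h1 : ∀ x : G, (if x ∈ D then m else 0) =
          ∑ φ ∈ Finset.univ.filter (fun φ : IrrCharacter G => ¬ charDegree (φ : G → ℂ) ≠ 1),
            (φ : G → ℂ) 1 * conj ((φ : G → ℂ) x) := fun x => by
        rw [sum_linear, inv_one, one_mul]
      simp only [h1, Finset.sum_mul]
      rw [Finset.sum_comm]
      refine Finset.sum_eq_zero fun φ hφ => ?_
      have h2 : classInner (ψ : G → ℂ) (φ : G → ℂ) = 0 := classInner_ne ψ.2 φ.2 (fun e => by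
        simp only [Finset.mem_filter, not_not] at hφ
        exact hψ1 (by rw [e]; exact hφ.2))
      rw [classInner_eq, mul_eq_zero, or_iff_right (inv_ne_zero (Nat.cast_ne_zero.2 Nat.card_pos.ne'))] at h2
      calc ∑ x : G, (φ : G → ℂ) 1 * conj ((φ : G → ℂ) x) * (ψ : G → ℂ) x
          = (φ : G → ℂ) 1 * ∑ x : G, (ψ : G → ℂ) x * conj ((φ : G → ℂ) x) := by
            rw [Finset.mul_sum]; exact Finset.sum_congr rfl fun x _ => by ring
        _ = 0 := by rw [h2, mul_zero]
    have h3 : ∀ x : G, (if x ∈ D then m else 0) * (ψ : G → ℂ) x = if x ∈ K then m * (ψ : G → ℂ) 1 else 0 := by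
      intro x
      by_cases hx : x ∈ D
      · rw [if_pos hx, hψv x hx]
        split_ifs <;> simp
      · rw [if_neg hx, if_neg (fun h => hx (hKD h)), zero_mul]
    simp only [h3] at hz
    rw [← Finset.sum_filter, Finset.sum_const, nsmul_eq_mul, mul_eq_zero, Nat.cast_eq_zero,
      Finset.card_eq_zero] at hz
    rcases hz with h | h
    · exact Finset.notMem_empty 1 (h ▸ Finset.mem_filter.2 ⟨Finset.mem_univ _, one_mem K⟩)
    · exact mul_ne_zero hm0 (apply_one_ne_zero ψ.2) h
  · refine CfsgLib.OneClassDerived.isSolvable_of_one_class K hKD (fun h => ?_) ?_ ?_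
    · exact (hcls g (IsConj.refl g)).2 (h hgD)
    · intro x hx hxK y hy hyK
      have key : ∀ z ∈ D, z ∉ K → IsConj g z := fun z hz hzK => by
        by_contra h
        exact hzK ((hKmem z).2 (hin z hz h))
      exact (key x hx hxK).symm.trans (key y hy hyK)
    · intro z hz
      by_contra hzD
      obtain ⟨ψ, hψ⟩ := exists_quotient_irr χ K fun x hx => (hKmem x).1 hx
      have hcen : (z : G ⧸ K) ∈ Subgroup.center (G ⧸ K) := by
        rw [Subgroup.mem_center_iff]
        intro q
        obtain ⟨x, rfl⟩ := QuotientGroup.mk_surjective q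
        have h1 : QuotientGroup.mk' K ⁅z, x⁆ = 1 := (QuotientGroup.eq_one_iff _).2 (hz x)
        rw [map_commutatorElement, commutatorElement_eq_one_iff_mul_comm] at h1
        exact h1.symm
      have h2 := center_mul ψ.2 hcen ((z : G ⧸ K))⁻¹
      rw [mul_inv_cancel, hψ z, show (ψ : G ⧸ K → ℂ) 1 = c 1 from (congrArg _ (QuotientGroup.mk_one K).symm).trans (hψ 1),
        (show (χ : G → ℂ) z = 0 from hout z hzD), zero_mul] at h2
      exact mul_ne_zero hc10 hc10 h2

end Cfsg.Agent.S4805
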