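import Cfsg.Statements.S4856
import Cfsg.Agent.CharBasics.Extra
import Mathlib.Algebra.BigOperators.Field

set_option autoImplicit false
open Cfsg

namespace Cfsg.Agent.S4856

open CfsgLib.CharBasics
open scoped ComplexConjugate

theorem count_eq {G : Type*} [Group G] [Fintype G] [Fintype (Cfsg.IrrCharacter G)] (z : G) :
    (Nat.card {xy : G × G // xy.1 * xy.2 * xy.1⁻¹ * xy.2⁻¹ = z} : ℂ) =
      (Nat.card G : ℂ) * ∑ χ : Cfsg.IrrCharacter G, (χ : G → ℂ) z / (χ : G → ℂ) 1 := by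
  classical
  have hG : (Nat.card G : ℂ) ≠ 0 := Nat.cast_ne_zero.mpr Nat.card_pos.ne'
  have hδ : ∀ w : G, (if w = z then (1 : ℂ) else 0) =
      (Nat.card G : ℂ)⁻¹ * ∑ χ : Cfsg.IrrCharacter G, (χ : G → ℂ) 1 * (χ : G → ℂ) (w * z⁻¹) := by
    intro w
    by_cases h : w = z
    · subst h
      simp only [if_true, mul_inv_cancel]
      have : ∑ χ : Cfsg.IrrCharacter G, (χ : G → ℂ) 1 * (χ : G → ℂ) 1 = (Nat.card G : ℂ) := by
        rw [← sum_sq_degree (G := G)]
        push_cast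
        exact Finset.sum_congr rfl fun χ _ => by rw [apply_one (isCharacter_of_irr χ.2), sq]
      rw [this, inv_mul_cancel₀ hG]
    · rw [if_neg h]
      have h0 := sum_mul_degree (g := w * z⁻¹) (fun h1 => h (mul_inv_eq_one.mp h1))
      rw [Finset.sum_congr rfl (fun χ _ => by rw [apply_one (isCharacter_of_irr χ.2)]), h0, mul_zero]
  have hcount : (Nat.card {xy : G × G // xy.1 * xy.2 * xy.1⁻¹ * xy.2⁻¹ = z} : ℂ) =
      ∑ b : G, ∑ a : G, if a * b * a⁻¹ * b⁻¹ = z then (1 : ℂ) else 0 := by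
    rw [Finset.sum_comm, ← Fintype.sum_prod_type' (f := fun a b => if a * b * a⁻¹ * b⁻¹ = z then (1 : ℂ) else 0),
      Finset.sum_boole, Nat.card_eq_fintype_card, Fintype.card_subtype]
  rw [hcount]
  simp only [hδ]
  have hkey : ∀ χ : Cfsg.IrrCharacter G,
      ∑ b : G, ∑ a : G, (χ : G → ℂ) 1 * (χ : G → ℂ) (a * b * a⁻¹ * b⁻¹ * z⁻¹) =
        (Nat.card G : ℂ) * ((Nat.card G : ℂ) * (χ : G → ℂ) z⁻¹ / (χ : G → ℂ) 1) := by
    intro χ
    have h1 := apply_one_ne_zero χ.2
    have hin : ∀ b : G, ∑ a : G, (χ : G → ℂ) 1 * (χ : G → ℂ) (a * b * a⁻¹ * b⁻¹ * z⁻¹) =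
        (Nat.card G : ℂ) * ((χ : G → ℂ) b * (χ : G → ℂ) (b⁻¹ * z⁻¹)) := by
      intro b
      rw [← Finset.mul_sum]
      have := sum_conj_apply_mul χ.2 b (b⁻¹ * z⁻¹)
      simp only [← mul_assoc] at this ⊢
      exact this
    rw [Finset.sum_congr rfl (fun b _ => hin b), ← Finset.mul_sum]
    congr 1
    have h2 := conv_irr χ χ z⁻¹
    rw [if_pos rfl] at h2
    field_simp
    linear_combination h2
  calc ∑ b : G, ∑ a : G, (Nat.card G : ℂ)⁻¹ * ∑ χ : Cfsg.IrrCharacter G, (χ : G → ℂ) 1 * (χ : G → ℂ) (a * b * a⁻¹ * b⁻¹ * z⁻¹)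
      = (Nat.card G : ℂ)⁻¹ * ∑ χ : Cfsg.IrrCharacter G, ∑ b : G, ∑ a : G, (χ : G → ℂ) 1 * (χ : G → ℂ) (a * b * a⁻¹ * b⁻¹ * z⁻¹) := by
        rw [Finset.mul_sum]
        simp only [Finset.mul_sum]
        conv_rhs => rw [Finset.sum_comm]
        refine Finset.sum_congr rfl fun b _ => ?_
        exact Finset.sum_comm
    _ = ∑ χ : Cfsg.IrrCharacter G, (Nat.card G : ℂ) * (χ : G → ℂ) z⁻¹ / (χ : G → ℂ) 1 := by
        rw [Finset.sum_congr rfl (fun χ _ => hkey χ), ← Finset.mul_sum, inv_mul_cancel_left₀ hG]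
    _ = _ := by
        have hreal : conj ((Nat.card G : ℂ) * ∑ χ : Cfsg.IrrCharacter G, (χ : G → ℂ) z / (χ : G → ℂ) 1) =
            (Nat.card G : ℂ) * ∑ χ : Cfsg.IrrCharacter G, (χ : G → ℂ) z / (χ : G → ℂ) 1 := by
          rw [map_mul, Complex.conj_natCast, map_sum]
          congr 1
          let e : Cfsg.IrrCharacter G ≃ Cfsg.IrrCharacter G :=
            Function.Involutive.toPerm (fun χ => ⟨fun g => conj ((χ : G → ℂ) g), by
              refine isIrr_of_norm_one (isCharacter_star (isCharacter_of_irr χ.2)) ?_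
              have h := congrArg (fun z => conj z) (classInner_self χ.2)
              simpa [classInner_eq, map_sum, mul_comm] using h⟩)
              (fun χ => Subtype.ext (funext fun g => Complex.conj_conj _))
          refine Fintype.sum_equiv e _ _ fun χ => ?_
          show conj ((χ : G → ℂ) z / (χ : G → ℂ) 1) = conj ((χ : G → ℂ) z) / conj ((χ : G → ℂ) 1)
          rw [map_div₀]
        conv_rhs => rw [← hreal, map_mul, Complex.conj_natCast, map_sum, Finset.mul_sum]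
        refine Finset.sum_congr rfl fun χ _ => ?_
        rw [map_div₀, apply_inv (isCharacter_of_irr χ.2), apply_one (isCharacter_of_irr χ.2), Complex.conj_natCast]
        ring

/-- For an element z of a finite group G, the number of pairs (x, y) of elements with x y x⁻¹ y⁻¹ = z equals the order of G times the sum over the irreducible characters χ of χ(z)/χ(1). -/
theorem result {G : Type*} [Group G] [Finite G] (z : G) : (Nat.card {xy : G × G // xy.1 * xy.2 * xy.1⁻¹ * xy.2⁻¹ = z} : ℂ) = (Nat.card G : ℂ) * ∑ᶠ χ : Cfsg.IrrCharacter G, (χ : G → ℂ) z / (χ : G → ℂ) 1 := by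
  haveI := Fintype.ofFinite G
  haveI := Fintype.ofFinite (Cfsg.IrrCharacter G)
  rw [finsum_eq_sum_of_fintype]
  exact count_eq z

end Cfsg.Agent.S4856
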