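import Cfsg.Statements.S4814
import Cfsg.Agent.S4856

set_option autoImplicit false
open Cfsg

namespace Cfsg.Agent.S4814

open CfsgLib.CharBasics
open scoped ComplexConjugate

/-- Let G be a finite group such that the sum, over the irreducible complex characters χ of G, of 1/χ(1)² is less than 2. Then every element of G is a product of two commutators. -/
theorem result {G : Type*} [Group G] [Finite G]
    (h : ∑ᶠ χ : Cfsg.IrrCharacter G, 1 / ‖(χ : G → ℂ) 1‖ ^ 2 < (2 : ℝ)) (g : G) :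
    ∃ a b c d : G, (a * b * a⁻¹ * b⁻¹) * (c * d * c⁻¹ * d⁻¹) = g := by
  classical
  haveI := Fintype.ofFinite G
  haveI := Fintype.ofFinite (Cfsg.IrrCharacter G)
  by_contra hno
  push Not at hno
  have hG : (Nat.card G : ℂ) ≠ 0 := Nat.cast_ne_zero.mpr Nat.card_pos.ne'
  let N : G → ℂ := fun w => (Nat.card {xy : G × G // xy.1 * xy.2 * xy.1⁻¹ * xy.2⁻¹ = w} : ℂ)
  have hN : ∀ w, N w = (Nat.card G : ℂ) * ∑ χ : Cfsg.IrrCharacter G, (χ : G → ℂ) w / (χ : G → ℂ) 1 :=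
    fun w => Cfsg.Agent.S4856.count_eq w
  have h0 : ∑ w : G, N w * N (w⁻¹ * g) = 0 := by
    refine Finset.sum_eq_zero fun w _ => ?_
    by_contra hne
    obtain ⟨h1, h2⟩ := mul_ne_zero_iff.mp hne
    obtain ⟨⟨⟨a, b⟩, hab⟩⟩ : Nonempty {xy : G × G // xy.1 * xy.2 * xy.1⁻¹ * xy.2⁻¹ = w} :=
      not_isEmpty_iff.mp fun hem => h1 (by simp [N, Nat.card_of_isEmpty])
    obtain ⟨⟨⟨c, d⟩, hcd⟩⟩ : Nonempty {xy : G × G // xy.1 * xy.2 * xy.1⁻¹ * xy.2⁻¹ = w⁻¹ * g} :=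
      not_isEmpty_iff.mp fun hem => h2 (by simp [N, Nat.card_of_isEmpty])
    exact hno a b c d (by rw [show a * b * a⁻¹ * b⁻¹ = w from hab, show c * d * c⁻¹ * d⁻¹ = w⁻¹ * g from hcd, mul_inv_cancel_left])
  have hconv : ∀ χ : Cfsg.IrrCharacter G,
      ∑ ψ : Cfsg.IrrCharacter G, ∑ w : G, (χ : G → ℂ) w / (χ : G → ℂ) 1 * ((ψ : G → ℂ) (w⁻¹ * g) / (ψ : G → ℂ) 1) =
        (Nat.card G : ℂ) * (χ : G → ℂ) g / (χ : G → ℂ) 1 ^ 3 := by
    intro χ
    have h1 := apply_one_ne_zero χ.2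
    have hpt : ∀ ψ : Cfsg.IrrCharacter G,
        ∑ w : G, (χ : G → ℂ) w / (χ : G → ℂ) 1 * ((ψ : G → ℂ) (w⁻¹ * g) / (ψ : G → ℂ) 1) =
          (if χ = ψ then (Nat.card G : ℂ) * (ψ : G → ℂ) g else 0) / ((χ : G → ℂ) 1 * (ψ : G → ℂ) 1 ^ 2) := by
      intro ψ
      have h2 := apply_one_ne_zero ψ.2
      rw [← conv_irr χ ψ g, Finset.mul_sum, Finset.sum_div]
      refine Finset.sum_congr rfl fun w _ => ?_
      field_simp
    rw [Finset.sum_congr rfl (fun ψ _ => hpt ψ), Finset.sum_eq_single χ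
      (fun ψ _ hne => by rw [if_neg (Ne.symm hne), zero_div]) (fun hh => absurd (Finset.mem_univ χ) hh), if_pos rfl]
    field_simp
  have hexp : ∑ w : G, N w * N (w⁻¹ * g) =
      (Nat.card G : ℂ) ^ 3 * ∑ χ : Cfsg.IrrCharacter G, (χ : G → ℂ) g / (χ : G → ℂ) 1 ^ 3 := by
    simp only [hN]
    calc _ = (Nat.card G : ℂ) ^ 2 * ∑ w : G, ∑ χ : Cfsg.IrrCharacter G, ∑ ψ : Cfsg.IrrCharacter G,
          (χ : G → ℂ) w / (χ : G → ℂ) 1 * ((ψ : G → ℂ) (w⁻¹ * g) / (ψ : G → ℂ) 1) := by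
            rw [Finset.mul_sum]
            refine Finset.sum_congr rfl fun w _ => ?_
            rw [← Finset.sum_mul_sum]
            ring
      _ = (Nat.card G : ℂ) ^ 2 * ∑ χ : Cfsg.IrrCharacter G, (Nat.card G : ℂ) * (χ : G → ℂ) g / (χ : G → ℂ) 1 ^ 3 := by
            congr 1
            rw [Finset.sum_comm]
            refine Finset.sum_congr rfl fun χ _ => ?_
            rw [Finset.sum_comm]
            exact hconv χ
      _ = _ := by
            rw [Finset.mul_sum, Finset.mul_sum]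
            exact Finset.sum_congr rfl fun χ _ => by ring
  rw [hexp, mul_eq_zero] at h0
  have h0' := h0.resolve_left (pow_ne_zero 3 hG)
  rw [← Finset.add_sum_erase _ _ (Finset.mem_univ oneChar)] at h0'
  simp only [oneChar_apply, one_pow, div_one] at h0'
  rw [finsum_eq_sum_of_fintype, ← Finset.add_sum_erase _ _ (Finset.mem_univ oneChar)] at h
  simp only [oneChar_apply, norm_one, one_pow, div_one] at h
  have hle : ‖∑ χ ∈ Finset.univ.erase (oneChar : Cfsg.IrrCharacter G), (χ : G → ℂ) g / (χ : G → ℂ) 1 ^ 3‖ ≤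
      ∑ χ ∈ Finset.univ.erase (oneChar : Cfsg.IrrCharacter G), 1 / ‖(χ : G → ℂ) 1‖ ^ 2 := by
    refine (norm_sum_le _ _).trans (Finset.sum_le_sum fun χ _ => ?_)
    have hc := isCharacter_of_irr χ.2
    have hpos : (0 : ℝ) < ‖(χ : G → ℂ) 1‖ := norm_pos_iff.mpr (apply_one_ne_zero χ.2)
    have hb : ‖(χ : G → ℂ) g‖ ≤ ‖(χ : G → ℂ) 1‖ := by
      rw [apply_one hc, Complex.norm_natCast]; exact norm_le hc g
    rw [norm_div, norm_pow]
    calc ‖(χ : G → ℂ) g‖ / ‖(χ : G → ℂ) 1‖ ^ 3 ≤ ‖(χ : G → ℂ) 1‖ / ‖(χ : G → ℂ) 1‖ ^ 3 :=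
          div_le_div_of_nonneg_right hb (by positivity)
      _ = _ := by field_simp
  rw [show ∑ χ ∈ Finset.univ.erase (oneChar : Cfsg.IrrCharacter G), (χ : G → ℂ) g / (χ : G → ℂ) 1 ^ 3 = -1 by
    linear_combination h0', norm_neg, norm_one] at hle
  linarith

end Cfsg.Agent.S4814
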