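import Cfsg.Statements.S4825
import Cfsg.Agent.Blocks.Section
import Cfsg.Agent.Clifford.Basic
import Cfsg.Agent.Clifford.ExtCriteria
import Cfsg.Agent.CharBasics.LinearOver
-- import your own Cfsg.Agent.* helpers here

set_option autoImplicit false
open Cfsg

namespace Cfsg.Agent.S4825

/-- Let p be a prime, G a finite group with Sylow p-subgroup P, M a maximal ideal of the algebraic integers containing p, and B a p-block of G with defect group P. Let N be a normal subgroup of G not containing P and θ an irreducible character of N. Then the number of irreducible characters in B of degree prime to p lying over θ (having θ as a constituent on restriction to N) is either 0 or at least 2, and when p ≤ 3 it is divisible by p. -/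
theorem result {G : Type*} [Group G] [Fintype G] (p : ℕ) [Fact p.Prime] (P : Sylow p G) (M : Ideal Cfsg.AlgInt) (hM : Cfsg.IsPModular p M) (B : Set (Cfsg.IrrCharacter G)) (hB : Cfsg.IsPBlock M B) (hBP : Cfsg.IsDefectGroup p M B P) (N : Subgroup G) [N.Normal] [Fintype N] (hPN : ¬ (P : Subgroup G) ≤ N) (θ : Cfsg.IrrCharacter N) :
    (Nat.card {χ : Cfsg.IrrCharacter G // χ ∈ B ∧ ¬ p ∣ Cfsg.charDegree (χ : G → ℂ) ∧ Cfsg.classInner (fun n : N => (χ : G → ℂ) n) (θ : N → ℂ) ≠ 0} = 0 ∨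
      2 ≤ Nat.card {χ : Cfsg.IrrCharacter G // χ ∈ B ∧ ¬ p ∣ Cfsg.charDegree (χ : G → ℂ) ∧ Cfsg.classInner (fun n : N => (χ : G → ℂ) n) (θ : N → ℂ) ≠ 0}) ∧
    (p ≤ 3 → p ∣ Nat.card {χ : Cfsg.IrrCharacter G // χ ∈ B ∧ ¬ p ∣ Cfsg.charDegree (χ : G → ℂ) ∧ Cfsg.classInner (fun n : N => (χ : G → ℂ) n) (θ : N → ℂ) ≠ 0}) := by
  classical
  haveI := Fintype.ofFinite (Cfsg.IrrCharacter G)
  haveI := Fintype.ofFinite (P : Subgroup G)
  haveI := Fintype.ofFinite (Cfsg.IrrCharacter (P : Subgroup G))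
  have hp : p.Prime := Fact.out
  set T := Subgroup.index (CfsgLib.Clifford.inertia (θ : N → ℂ)) * Cfsg.charDegree (θ : N → ℂ) with hT
  choose e he using fun χ : Cfsg.IrrCharacter G => CfsgLib.CharBasics.classInner_character_nat
    (CfsgLib.Clifford.isCharacter_restrict (CfsgLib.CharBasics.isCharacter_of_irr χ.2) N) θ
  have he' : ∀ χ : Cfsg.IrrCharacter G, Cfsg.classInner (fun n : N => (χ : G → ℂ) n) (θ : N → ℂ) = (e χ : ℂ) := he
  have hdeg : ∀ χ : Cfsg.IrrCharacter G, e χ ≠ 0 → Cfsg.charDegree (χ : G → ℂ) = e χ * T := by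
    intro χ h0
    have h := CfsgLib.Clifford.restrict_one_eq χ.2 θ.2 (by rw [he' χ]; exact_mod_cast h0)
    rw [he' χ, CfsgLib.CharBasics.apply_one (CfsgLib.CharBasics.isCharacter_of_irr χ.2),
      CfsgLib.CharBasics.apply_one (CfsgLib.CharBasics.isCharacter_of_irr θ.2)] at h
    rw [hT, ← mul_assoc]
    exact_mod_cast h
  -- the block part of the induced character vanishes on `P` outside `N`
  set f : G → ℂ := Cfsg.blockPart B (Cfsg.indFun N (θ : N → ℂ)) with hf
  have hfsum : ∀ g, f g = ∑ χ ∈ Finset.univ.filter (fun χ => χ ∈ B), (e χ : ℂ) * (χ : G → ℂ) g := by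
    intro g
    rw [hf, Cfsg.blockPart]
    rw [finsum_mem_def, finsum_eq_sum_of_fintype, Finset.sum_filter]
    refine Finset.sum_congr rfl fun χ _ => ?_
    rw [Set.indicator_apply]
    split_ifs with h
    · congr 1
      have hind : Cfsg.classInner (Cfsg.indFun N (θ : N → ℂ)) (χ : G → ℂ) = (e χ : ℂ) := by
        rw [CfsgLib.CharBasics.classInner_indFun N (θ : N → ℂ) (CfsgLib.CharBasics.isClassFunction
          (CfsgLib.CharBasics.isCharacter_of_irr χ.2)),
          CfsgLib.CharBasics.classInner_comm (fun n : N => (χ : G → ℂ) n) (θ : N → ℂ), he' χ, Complex.conj_natCast]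
      convert hind using 2
    · rfl
  have hvan : ∀ x : (P : Subgroup G), (x : G) ∉ N → f x = 0 := by
    intro x hx
    refine CfsgLib.Blocks.blockPart_eq_zero hM (x := (x : G)) ?_ hB (u := (x : G)) (z := (x : G)) ?_ (IsConj.refl _)
    · intro u z huz hxz
      have hu : u ∉ N := by
        intro huN
        apply hx
        obtain ⟨y, hzy, hc, ⟨k, hk⟩, hy⟩ := huz
        have hmk : QuotientGroup.mk' N z * QuotientGroup.mk' N y = 1 := by
          rw [← map_mul, hzy]; exact (QuotientGroup.eq_one_iff u).2 huN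
        have h1 : orderOf (QuotientGroup.mk' N z) ∣ p ^ k := hk ▸ orderOf_map_dvd _ z
        have h2 : orderOf (QuotientGroup.mk' N z) ∣ orderOf y := by
          rw [eq_inv_of_mul_eq_one_left hmk, orderOf_inv]; exact orderOf_map_dvd _ y
        have h3 : z ∈ N := (QuotientGroup.eq_one_iff z).1 (orderOf_eq_one_iff.1
          (Nat.eq_one_of_dvd_coprimes ((hp.coprime_iff_not_dvd.2 hy).pow_left k) h1 h2))
        obtain ⟨c, rfl⟩ := isConj_iff.1 hxz
        simpa [mul_assoc] using (inferInstance : N.Normal).conj_mem _ h3 c⁻¹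
      rw [Cfsg.indFun, Finset.sum_eq_zero, mul_zero]
      intro c _
      rw [CfsgLib.IndFun.extendByZero_not_mem]
      intro h
      apply hu
      have := (inferInstance : N.Normal).conj_mem _ h c
      simpa [mul_assoc] using this
    · obtain ⟨k, hk⟩ := IsPGroup.iff_orderOf.1 P.isPGroup' x
      exact ⟨1, mul_one _, Commute.one_right _, ⟨k, by rw [Subgroup.orderOf_coe, hk]⟩, by
        rw [orderOf_one]; exact hp.not_dvd_one⟩
  -- a linear character of `P` trivial on `N`
  set R : Subgroup (P : Subgroup G) := N.subgroupOf (P : Subgroup G) with hR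
  haveI : R.Normal := Subgroup.normal_subgroupOf
  have hRne : R ≠ ⊤ := fun h => hPN (Subgroup.subgroupOf_eq_top.1 h)
  haveI : Nontrivial ((P : Subgroup G) ⧸ R) := by
    rw [← Finite.one_lt_card_iff_nontrivial]; exact Subgroup.one_lt_index_of_ne_top hRne
  haveI : Group.IsNilpotent ((P : Subgroup G) ⧸ R) := (P.isPGroup'.to_quotient R).isNilpotent
  have hcne : commutator ((P : Subgroup G) ⧸ R) ≠ ⊤ :=
    (Group.IsSolvable.commutator_lt_top_of_nontrivial ((P : Subgroup G) ⧸ R)).ne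
  obtain ⟨a, -, ha⟩ := SetLike.exists_of_lt (lt_top_iff_ne_top.2 hcne)
  obtain ⟨φ, hφ⟩ := CommGroup.exists_apply_ne_one_of_hasEnoughRootsOfUnity (Abelianization ((P : Subgroup G) ⧸ R)) ℂ
    (fun h => ha ((QuotientGroup.eq_one_iff a).1 h) : Abelianization.of a ≠ 1)
  set ν : (P : Subgroup G) →* ℂˣ := φ.comp (Abelianization.of.comp (QuotientGroup.mk' R)) with hν
  have hν1 : ν ≠ 1 := by
    intro h
    obtain ⟨a', rfl⟩ := QuotientGroup.mk'_surjective R a
    exact hφ (DFunLike.congr_fun h a')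
  have hνN : ∀ x : (P : Subgroup G), (x : G) ∈ N → ν x = 1 := fun x hx => by
    rw [hν, MonoidHom.comp_apply, MonoidHom.comp_apply, QuotientGroup.mk'_apply, (QuotientGroup.eq_one_iff x).2 hx,
      map_one, map_one]
  haveI : Finite ((P : Subgroup G) →* ℂˣ) := Finite.of_injective (fun f : (P : Subgroup G) →* ℂˣ =>
      (⟨fun g => ((f g : ℂˣ) : ℂ), CfsgLib.Clifford.isIrrCharacter_of_hom ((Units.coeHom ℂ).comp f)⟩ :
        Cfsg.IrrCharacter (P : Subgroup G)))
    fun a b h => MonoidHom.ext fun g => Units.ext (congrFun (congrArg Subtype.val h) g)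
  haveI := Fintype.ofFinite ((P : Subgroup G) →* ℂˣ)
  have hνp : p ∣ Nat.card (Subgroup.zpowers ν) := by
    obtain ⟨k, hk⟩ := IsPGroup.iff_card.1 P.isPGroup'
    have hpow : ν ^ p ^ k = 1 := by
      ext x
      rw [MonoidHom.pow_apply, ← map_pow, ← hk, pow_card_eq_one', map_one, MonoidHom.one_apply]
    obtain ⟨j, -, hj⟩ := (Nat.dvd_prime_pow hp).1 (orderOf_dvd_of_pow_eq_one (x := ν) (by convert hpow using 1))
    rw [Nat.card_zpowers, hj]
    refine dvd_pow_self p fun h0 => hν1 ?_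
    have h1 : orderOf ν = 1 := by rw [hj, h0, pow_zero]
    rw [orderOf_eq_one_iff.1 h1]
  let lin : ((P : Subgroup G) →* ℂˣ) → Cfsg.IrrCharacter (P : Subgroup G) := fun l =>
    ⟨fun g => ((l g : ℂˣ) : ℂ), CfsgLib.Clifford.isIrrCharacter_of_hom ((Units.coeHom ℂ).comp l)⟩
  choose m hm using fun (χ : Cfsg.IrrCharacter G) (ψ : Cfsg.IrrCharacter (P : Subgroup G)) =>
    CfsgLib.CharBasics.classInner_character_nat
      (CfsgLib.Clifford.isCharacter_restrict (CfsgLib.CharBasics.isCharacter_of_irr χ.2) (P : Subgroup G)) ψ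
  have hres : ∀ χ : Cfsg.IrrCharacter G,
      (Cfsg.charDegree (χ : G → ℂ) : ZMod p) = ∑ l : (P : Subgroup G) →* ℂˣ, (m χ (lin l) : ZMod p) := by
    intro χ
    have h := congrFun (CfsgLib.CharBasics.classFun_expand (CfsgLib.CharBasics.isClassFunction
      (CfsgLib.Clifford.isCharacter_restrict (CfsgLib.CharBasics.isCharacter_of_irr χ.2) (P : Subgroup G)))) 1
    rw [Finset.sum_apply] at h
    simp only [hm, Pi.smul_apply, smul_eq_mul, Subgroup.coe_one] at h
    rw [CfsgLib.CharBasics.apply_one (CfsgLib.CharBasics.isCharacter_of_irr χ.2),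
      Finset.sum_congr rfl (fun ψ _ => by
        rw [CfsgLib.CharBasics.apply_one (CfsgLib.CharBasics.isCharacter_of_irr ψ.2), ← Nat.cast_mul])] at h
    rw [← Nat.cast_sum, Nat.cast_inj] at h
    rw [h, Nat.cast_sum]
    symm
    rw [← Finset.sum_filter_add_sum_filter_not (Finset.univ : Finset (Cfsg.IrrCharacter (P : Subgroup G)))
      (fun ψ => Cfsg.charDegree (ψ : ↥(P : Subgroup G) → ℂ) = 1)]
    rw [Finset.sum_eq_zero (s := Finset.univ.filter fun ψ : Cfsg.IrrCharacter (P : Subgroup G) =>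
      ¬ Cfsg.charDegree (ψ : ↥(P : Subgroup G) → ℂ) = 1), add_zero]
    · refine Finset.sum_bij (fun l _ => lin l) ?_ ?_ ?_ ?_
      · intro l _
        refine Finset.mem_filter.2 ⟨Finset.mem_univ _, ?_⟩
        simp [lin, Cfsg.charDegree]
      · intro a _ b _ h
        exact MonoidHom.ext fun g => Units.ext (congrFun (congrArg Subtype.val h) g)
      · intro ψ hψ
        refine ⟨(CfsgLib.CharBasics.linHomOf ψ (Finset.mem_filter.1 hψ).2).toHomUnits, Finset.mem_univ _,
          Subtype.ext rfl⟩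
      · intro l _
        rw [Nat.cast_mul, show Cfsg.charDegree ((lin l : Cfsg.IrrCharacter (P : Subgroup G)) : ↥(P : Subgroup G) → ℂ) = 1
          by simp [lin, Cfsg.charDegree], Nat.cast_one, mul_one]
    · intro ψ hψ
      have hd := CfsgLib.CharBasics.degree_dvd ψ
      obtain ⟨k, hk⟩ := IsPGroup.iff_card.1 P.isPGroup'
      rw [hk] at hd
      obtain ⟨j, -, hj⟩ := (Nat.dvd_prime_pow hp).1 hd
      have hj0 : j ≠ 0 := fun h0 => (Finset.mem_filter.1 hψ).2 (by rw [hj, h0, pow_zero])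
      rw [Nat.cast_mul, hj, Nat.cast_pow, ZMod.natCast_self, zero_pow hj0, mul_zero]
  set S := Finset.univ.filter fun χ : Cfsg.IrrCharacter G => χ ∈ B with hS
  have hinv : ∀ l : (P : Subgroup G) →* ℂˣ,
      ∑ χ ∈ S, e χ * m χ (lin (l * ν)) = ∑ χ ∈ S, e χ * m χ (lin l) := by
    have key : ∀ l : (P : Subgroup G) →* ℂˣ, ((∑ χ ∈ S, e χ * m χ (lin l) : ℕ) : ℂ) =
        (Nat.card (P : Subgroup G) : ℂ)⁻¹ * ∑ x : (P : Subgroup G), f x * (starRingEnd ℂ) ((l x : ℂˣ) : ℂ) := by
      intro l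
      push_cast
      simp only [← hm, CfsgLib.CharBasics.classInner_eq, hfsum, Finset.mul_sum, Finset.sum_mul]
      rw [Finset.sum_comm]
      refine Finset.sum_congr rfl fun x _ => Finset.sum_congr rfl fun χ _ => ?_
      simp [lin]
      ring
    intro l
    have : ((∑ χ ∈ S, e χ * m χ (lin (l * ν)) : ℕ) : ℂ) = ((∑ χ ∈ S, e χ * m χ (lin l) : ℕ) : ℂ) := by
      rw [key, key]
      congr 1
      refine Finset.sum_congr rfl fun x _ => ?_
      by_cases hx : (x : G) ∈ N
      · rw [MonoidHom.mul_apply, hνN x hx, mul_one]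
      · rw [hvan x hx, zero_mul, zero_mul]
    exact_mod_cast this
  have hsum0 : ((∑ χ ∈ S, e χ * Cfsg.charDegree (χ : G → ℂ) : ℕ) : ZMod p) = 0 := by
    have e1 : ((∑ χ ∈ S, e χ * Cfsg.charDegree (χ : G → ℂ) : ℕ) : ZMod p) =
        ∑ l : (P : Subgroup G) →* ℂˣ, ((∑ χ ∈ S, e χ * m χ (lin l) : ℕ) : ZMod p) := by
      push_cast
      simp only [hres, Finset.mul_sum]
      exact Finset.sum_comm
    rw [e1]
    set F : ((P : Subgroup G) →* ℂˣ) → ZMod p := fun l => ((∑ χ ∈ S, e χ * m χ (lin l) : ℕ) : ZMod p) with hF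
    have hFz : ∀ (l : (P : Subgroup G) →* ℂˣ) (z : Subgroup.zpowers ν), F (l * z) = F l := by
      let St : Submonoid ((P : Subgroup G) →* ℂˣ) :=
        { carrier := {z | ∀ l, F (l * z) = F l}
          one_mem' := fun l => by rw [mul_one]
          mul_mem' := fun {a b} ha hb l => by rw [← mul_assoc, hb (l * a), ha l] }
      have hle : Submonoid.powers ν ≤ St := Submonoid.powers_le.2 fun l => by simp only [hF]; rw [hinv]
      rintro l ⟨z, hz⟩
      rw [← mem_powers_iff_mem_zpowers] at hz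
      exact hle hz l
    show ∑ l, F l = 0
    haveI := Fintype.ofFinite (((P : Subgroup G) →* ℂˣ) ⧸ Subgroup.zpowers ν)
    haveI := Fintype.ofFinite (Subgroup.zpowers ν)
    rw [← Equiv.sum_comp (Subgroup.groupEquivQuotientProdSubgroup (s := Subgroup.zpowers ν)).symm F,
      Fintype.sum_prod_type, Finset.sum_eq_zero]
    intro q _
    have hval : ∀ z : Subgroup.zpowers ν, F ((Subgroup.groupEquivQuotientProdSubgroup (s := Subgroup.zpowers ν)).symm (q, z)) = F q.out := by
      intro z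
      have hmem : (q.out)⁻¹ * (Subgroup.groupEquivQuotientProdSubgroup (s := Subgroup.zpowers ν)).symm (q, z) ∈
          Subgroup.zpowers ν := by
        refine QuotientGroup.eq.1 ?_
        rw [QuotientGroup.out_eq']
        exact (congrArg Prod.fst ((Subgroup.groupEquivQuotientProdSubgroup (s := Subgroup.zpowers ν)).apply_symm_apply
          (q, z))).symm
      rw [← hFz q.out ⟨_, hmem⟩]
      exact congrArg F (mul_inv_cancel_left q.out _).symm
    simp only [hval, Finset.sum_const, Finset.card_univ, ← Nat.card_eq_fintype_card, nsmul_eq_mul]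
    rw [(ZMod.natCast_eq_zero_iff _ _).2 hνp, zero_mul]
  -- count
  set S' := Finset.univ.filter fun χ : Cfsg.IrrCharacter G =>
    χ ∈ B ∧ ¬ p ∣ Cfsg.charDegree (χ : G → ℂ) ∧ Cfsg.classInner (fun n : N => (χ : G → ℂ) n) (θ : N → ℂ) ≠ 0 with hS'
  have hN : Nat.card {χ : Cfsg.IrrCharacter G // χ ∈ B ∧ ¬ p ∣ Cfsg.charDegree (χ : G → ℂ) ∧
      Cfsg.classInner (fun n : N => (χ : G → ℂ) n) (θ : N → ℂ) ≠ 0} = S'.card := by
    rw [Nat.card_eq_fintype_card, Fintype.card_subtype]
  rw [hN]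
  rcases Finset.eq_empty_or_nonempty S' with h0 | ⟨χ0, hχ0⟩
  · simp [h0]
  have hS'e : ∀ χ ∈ S', e χ ≠ 0 ∧ ¬ p ∣ e χ ∧ ¬ p ∣ T := by
    intro χ hχ
    obtain ⟨-, -, hd, hne⟩ := Finset.mem_filter.1 hχ
    have h0 : e χ ≠ 0 := fun h => hne (by rw [he' χ, h, Nat.cast_zero])
    rw [hdeg χ h0, hp.dvd_mul, not_or] at hd
    exact ⟨h0, hd⟩
  have hsq : ((∑ χ ∈ S', e χ ^ 2 : ℕ) : ZMod p) = 0 := by
    have hTne : (T : ZMod p) ≠ 0 := fun h => (hS'e χ0 hχ0).2.2 ((ZMod.natCast_eq_zero_iff _ _).1 h)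
    refine (mul_eq_zero.1 ?_).resolve_right hTne
    rw [← hsum0, hS', Finset.sum_filter, hS, Finset.sum_filter]
    push_cast
    rw [Finset.sum_mul]
    refine Finset.sum_congr rfl fun χ _ => ?_
    by_cases hB' : χ ∈ B
    · by_cases h0 : e χ = 0
      · simp [h0]
      · rw [hdeg χ h0, he' χ]
        by_cases hd : p ∣ e χ * T
        · rcases hp.dvd_mul.1 hd with hd' | hd'
          · simp [hB', hd, (ZMod.natCast_eq_zero_iff _ _).2 hd']
          · exact absurd hd' (hS'e χ0 hχ0).2.2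
        · simp [hB', hd, h0]; ring
    · simp [hB']
  refine ⟨Or.inr ?_, fun hp3 => ?_⟩
  · by_contra hlt
    push Not at hlt
    have hc : S' = {χ0} := (Finset.eq_singleton_iff_unique_mem).2 ⟨hχ0, fun χ hχ =>
      Finset.card_le_one.1 (by omega) χ hχ χ0 hχ0⟩
    rw [hc, Finset.sum_singleton, ZMod.natCast_eq_zero_iff] at hsq
    exact (hS'e χ0 hχ0).2.1 (hp.dvd_of_dvd_pow hsq)
  · rw [← ZMod.natCast_eq_zero_iff, ← hsq, Nat.cast_sum, Finset.card_eq_sum_ones, Nat.cast_sum]
    refine Finset.sum_congr rfl fun χ hχ => ?_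
    rw [Nat.cast_pow, Nat.cast_one]
    have hne : (e χ : ZMod p) ≠ 0 := fun h => (hS'e χ hχ).2.1 ((ZMod.natCast_eq_zero_iff _ _).1 h)
    have h2 : p = 2 ∨ p = 3 := by have := hp.two_le; omega
    rcases h2 with rfl | rfl
    · rw [show (e χ : ZMod 2) = 1 by simpa using ZMod.pow_card_sub_one_eq_one hne, one_pow]
    · exact (ZMod.pow_card_sub_one_eq_one hne).symm

end Cfsg.Agent.S4825
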