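import Cfsg.Statements.S4840
import Cfsg.Agent.S4837
import Cfsg.Agent.PCore.Basic
import Cfsg.Agent.Gagola.SolvableCase

set_option autoImplicit false
open Cfsg

namespace Cfsg.Agent.S4840

/-- Let G be a finite solvable group of order greater than 2 with an irreducible character nonzero on exactly two conjugacy classes. Then there is exactly one prime p with O_p(G) ≠ 1, and the quotient G/O_p(G) has a normal p-complement and commutative Sylow p-subgroups. -/
theorem result {G : Type*} [Group G] [Finite G] [hs : Group.IsSolvable G] (hG : 2 < Nat.card G) (χ : Cfsg.IrrCharacter G) (hχ : Nat.card {C : ConjClasses G // ∃ g ∈ C.carrier, (χ : G → ℂ) g ≠ 0} = 2) :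
    ∃ p : ℕ, p.Prime ∧ (∀ q : ℕ, q.Prime → (Cfsg.pCore q G ≠ ⊥ ↔ q = p)) ∧
      Cfsg.HasNormalPComplement p (G ⧸ Cfsg.pCore p G) ∧ ∀ Q : Sylow p (G ⧸ Cfsg.pCore p G), IsMulCommutative (Q : Subgroup (G ⧸ Cfsg.pCore p G)) := by
  classical
  obtain ⟨N, hNn, hN1, hmin, ⟨p, hp, hNc, hexp⟩, hsupp, hconj⟩ := Cfsg.Agent.S4835.result hG χ hχ
  haveI := hNn
  haveI : Fact p.Prime := ⟨hp⟩
  have hNp : IsPGroup p N := fun a => ⟨1, Subtype.ext (by rw [pow_one]; exact hexp a a.2)⟩
  set M := Cfsg.pCore p G with hM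
  haveI : M.Normal := by
    haveI := CfsgLib.Components.pCore_characteristic (G := G) p
    infer_instance
  have hNM : N ≤ M := CfsgLib.Components.le_pCore hNn hNp
  have hMp : IsPGroup p M := CfsgLib.Components.pCore_isPGroup p
  have hM1 : M ≠ ⊥ := fun h => hN1 (le_bot_iff.mp (h ▸ hNM))
  -- the centraliser of N is M
  let c : G →* MulAut N := MulAut.conjNormal
  have hker : c.ker = M := by
    apply le_antisymm
    · obtain ⟨x, hx, hx1⟩ := N.bot_or_exists_ne_one.resolve_left hN1
      obtain ⟨hCp, -, -⟩ := Cfsg.Agent.S4837.centralizer_sylow hG χ hχ p N (fun g => (hsupp g).symm) hNp hx hx1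
      refine CfsgLib.Components.le_pCore c.normal_ker (hCp.to_le fun g hg => ?_)
      rw [Subgroup.mem_centralizer_singleton_iff]
      have h := congrArg Subtype.val (DFunLike.congr_fun (MonoidHom.mem_ker.mp hg) (⟨x, hx⟩ : N))
      exact mul_inv_eq_iff_eq_mul.mp ((MulAut.conjNormal_apply _ _).symm.trans h)
    · intro g hg
      haveI : Nontrivial M := (Subgroup.nontrivial_iff_ne_bot M).mpr hM1
      have hle := hmin ((Subgroup.center M).map M.subtype) inferInstance (by
        rw [Ne, Subgroup.map_eq_bot_iff_of_injective _ M.subtype_injective]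
        exact (Subgroup.nontrivial_iff_ne_bot _).mp hMp.center_nontrivial)
      refine MonoidHom.mem_ker.mpr (MulEquiv.ext fun n => Subtype.ext ?_)
      obtain ⟨z, hz, hzn⟩ := hle n.2
      rw [MulAut.conjNormal_apply, MulAut.one_apply, ← hzn, mul_inv_eq_iff_eq_mul]
      exact congrArg Subtype.val (Subgroup.mem_center_iff.mp hz ⟨g, hg⟩)
  letI : CommGroup N := { (inferInstance : Group N) with mul_comm := hNc.is_comm.comm }
  haveI : Nontrivial N := (Subgroup.nontrivial_iff_ne_bot N).mpr hN1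
  let f : G ⧸ M →* MulAut N := QuotientGroup.lift M c hker.ge
  have hf : Function.Injective f := by
    rw [injective_iff_map_eq_one]
    intro q hq
    induction q using QuotientGroup.induction_on with
    | H g => exact (QuotientGroup.eq_one_iff g).mpr (hker ▸ MonoidHom.mem_ker.mpr hq)
  haveI : Group.IsSolvable (G ⧸ M) := inferInstance
  have htr : ∀ v w : N, v ≠ 1 → w ≠ 1 → ∃ k, f k v = w := by
    intro v w hv hw
    obtain ⟨g, hg⟩ := hconj v v.2 w w.2 (fun h => hv (Subtype.ext h)) (fun h => hw (Subtype.ext h))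
    exact ⟨(g : G ⧸ M), Subtype.ext ((MulAut.conjNormal_apply _ _).trans hg)⟩
  have hstab : ∀ (k : G ⧸ M) (v : N), v ≠ 1 → f k v = v → IsPGroup p (Subgroup.zpowers k) := by
    intro k v hv hk
    induction k using QuotientGroup.induction_on with
    | H g =>
      obtain ⟨hCp, -, -⟩ := Cfsg.Agent.S4837.centralizer_sylow hG χ hχ p N (fun g => (hsupp g).symm) hNp v.2
        (fun h => hv (Subtype.ext h))
      have hg : g ∈ Subgroup.centralizer ({(v : G)} : Set G) := Subgroup.mem_centralizer_singleton_iff.mpr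
        (mul_inv_eq_iff_eq_mul.mp ((MulAut.conjNormal_apply _ _).symm.trans (congrArg Subtype.val hk)))
      rw [← QuotientGroup.mk'_apply, ← MonoidHom.map_zpowers]
      exact (hCp.to_le (Subgroup.zpowers_le.mpr hg)).map _
  have hO : Cfsg.pCore p (G ⧸ M) = ⊥ := CfsgLib.PCore.pCore_quotient
  have hfree : ∀ (Q : Sylow p (G ⧸ M)) (x : G ⧸ M), x ∈ (Q : Subgroup (G ⧸ M)) → x ∈ commutator (G ⧸ M) → x = 1 := by
    intro Q x hxQ hxc
    obtain ⟨n, hn⟩ := Q.isPGroup' ⟨x, hxQ⟩
    exact CfsgLib.GagolaSolv.derived_p_free f (fun v => Subtype.ext (hexp v v.2)) htr hf hstab hO hxc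
      (congrArg Subtype.val hn : x ^ p ^ n = 1)
  refine ⟨p, hp, fun q hq => ⟨fun hne => ?_, fun h => h ▸ hM1⟩, ?_, ?_⟩
  · by_contra hqp
    haveI : Fact q.Prime := ⟨hq⟩
    haveI := CfsgLib.Components.pCore_characteristic (G := G) q
    have hle := hmin (Cfsg.pCore q G) inferInstance hne
    exact hN1 (disjoint_self.mp ((IsPGroup.disjoint_of_ne q p hqp _ _
      (CfsgLib.Components.pCore_isPGroup q) hNp).mono_left hle))
  · let Q : Sylow p (G ⧸ M) := default
    have hQ : Subgroup.normalizer ((Q : Subgroup (G ⧸ M)) : Set (G ⧸ M)) ≤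
        Subgroup.centralizer ((Q : Subgroup (G ⧸ M)) : Set (G ⧸ M)) := by
      intro g hg
      rw [Subgroup.mem_centralizer_iff]
      intro x hx
      have h1 : g * x * g⁻¹ * x⁻¹ = 1 := hfree Q _
        (mul_mem ((Subgroup.mem_normalizer_iff.mp hg x).mp hx) (inv_mem hx))
        (Subgroup.commutator_mem_commutator (Subgroup.mem_top g) (Subgroup.mem_top x))
      exact (mul_inv_eq_iff_eq_mul.mp (mul_inv_eq_one.mp h1)).symm
    exact ⟨Q, _, inferInstance, MonoidHom.ker_transferSylow_isComplement' Q hQ⟩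
  · intro Q
    refine ⟨⟨fun a b => Subtype.ext ?_⟩⟩
    have h1 : (a : G ⧸ M) * b * (a : G ⧸ M)⁻¹ * (b : G ⧸ M)⁻¹ = 1 := hfree Q _
      (mul_mem (mul_mem (mul_mem a.2 b.2) (inv_mem a.2)) (inv_mem b.2))
      (Subgroup.commutator_mem_commutator (Subgroup.mem_top _) (Subgroup.mem_top _))
    exact mul_inv_eq_iff_eq_mul.mp (mul_inv_eq_one.mp h1)

end Cfsg.Agent.S4840
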