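import Cfsg.Statements.S4862
import Cfsg.Agent.RealPDeg.Core

open CfsgLib CfsgLib.CharBasics CfsgLib.RealPDeg
open scoped ComplexConjugate

set_option autoImplicit false
open Cfsg

namespace Cfsg.Agent.S4862

universe u

/-- A character of degree prime to `p` restricts to the derived subgroup of a `p`-subgroup with trivial constituents. -/
theorem one_constituent {G : Type u} [Group G] [Fintype G] (p : ℕ) [hpf : Fact p.Prime] (P M : Subgroup G) [Fintype M]
    (hP : IsPGroup p P) (hMP : M ≤ ⁅P, P⁆) {χ : G → ℂ} (hχ : IsCharacter G χ) (hd : ¬ p ∣ charDegree χ) :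
    classInner (fun x : M => χ x) (fun _ => 1) ≠ 0 := by
  classical
  haveI : Fintype P := Fintype.ofFinite P
  haveI : Fintype (IrrCharacter P) := @Fintype.ofFinite _ finite_irrCharacter
  have hMle : M ≤ P := hMP.trans (Subgroup.commutator_le_self P)
  have hχP := isCharacter_restrict hχ P
  obtain ⟨m, hm, hdeg⟩ := RealOdd.exists_mult hχP
  have hd' : charDegree (fun x : P => χ x) = charDegree χ := by simp [charDegree]
  obtain ⟨μ, hμ1, hμm⟩ : ∃ μ : IrrCharacter P, charDegree (μ : P → ℂ) = 1 ∧ m μ ≠ 0 := by
    by_contra hcon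
    push Not at hcon
    refine hd ?_
    rw [← hd', hdeg]
    refine Finset.dvd_sum fun β _ => ?_
    by_cases hb : charDegree (β : P → ℂ) = 1
    · rw [hcon β hb, zero_mul]; exact dvd_zero p
    · obtain ⟨k, hk⟩ := IsPGroup.iff_card.1 hP
      obtain ⟨i, -, hi⟩ := (Nat.dvd_prime_pow hpf.out).1 (hk ▸ degree_dvd β)
      refine dvd_mul_of_dvd_right (hi ▸ dvd_pow_self p ?_) _
      rintro rfl
      exact hb (by rw [hi, pow_zero])
  obtain ⟨f, hf⟩ := Clifford.exists_hom_of_linear (isCharacter_of_irr μ.2)
    (by rw [apply_one (isCharacter_of_irr μ.2), hμ1, Nat.cast_one])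
  have hker : ∀ x : M, (μ : P → ℂ) ⟨(x : G), hMle x.2⟩ = 1 := by
    intro x
    have h1 : (⟨(x : G), hMle x.2⟩ : P) ∈ commutator P := by
      have h2 := hMP x.2
      rw [← Subgroup.map_subtype_commutator] at h2
      obtain ⟨w, hw, hwx⟩ := h2
      rwa [show (⟨(x : G), hMle x.2⟩ : P) = w from Subtype.ext hwx.symm]
    have h3 : f.toHomUnits ⟨(x : G), hMle x.2⟩ = 1 := Abelianization.commutator_subset_ker f.toHomUnits h1
    rw [hf]
    exact congrArg Units.val h3
  choose c hc using fun β : IrrCharacter P => classInner_characters_nat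
    (CharBasics.isCharacter_comp (isCharacter_of_irr β.2) (Subgroup.inclusion hMle))
    (isCharacter_of_irr (oneChar : IrrCharacter M).2)
  have hexp := classFun_expand (CharBasics.isClassFunction hχP)
  have he : classInner (fun x : M => χ x) (fun _ => 1) = ((∑ β, m β * c β : ℕ) : ℂ) := by
    have e1 : (fun x : M => χ x) = ∑ β : IrrCharacter P, (m β : ℂ) • fun x : M => (β : P → ℂ) (Subgroup.inclusion hMle x) := by
      funext x
      rw [show χ x = _ from congrFun hexp (Subgroup.inclusion hMle x)]
      simp only [Finset.sum_apply, Pi.smul_apply, smul_eq_mul, hm]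
    rw [e1, classInner_sum_left, Nat.cast_sum]
    refine Finset.sum_congr rfl fun β _ => ?_
    rw [classInner_smul_left, Nat.cast_mul]
    congr 1
    exact hc β
  rw [he, Nat.cast_ne_zero]
  intro h0
  have h1 := Finset.sum_eq_zero_iff.1 h0 μ (Finset.mem_univ _)
  have h2 : c μ = 1 := by
    have h3 := hc μ
    rw [show (fun x : M => (μ : P → ℂ) (Subgroup.inclusion hMle x)) = fun _ => 1 from funext hker] at h3
    change classInner (fun _ : M => (1 : ℂ)) (fun _ => 1) = _ at h3
    rw [classInner_self isIrrCharacter_one] at h3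
    exact_mod_cast h3.symm
  rw [h2, mul_one] at h1
  exact hμm h1

theorem aux {G : Type u} [Group G] [Fintype G] (p : ℕ) [Fact p.Prime] (hp : p ≠ 2)
    (hreal : ∀ χ : IrrCharacter G, (∀ g : G, ((χ : G → ℂ) g).im = 0) → ¬ p ∣ charDegree (χ : G → ℂ))
    (P : Subgroup G) (hP : IsPGroup p P) : ∀ (n : ℕ) (M : Subgroup G), Nat.card M = n → M.Normal →
      M ≤ ⁅P, P⁆ → elemClosure 2 G ≤ Subgroup.centralizer (M : Set G) := by
  intro n
  induction n using Nat.strong_induction_on with
  | _ n ih =>
    intro M hn hMn hMP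
    classical
    haveI := hMn
    haveI := Fintype.ofFinite M
    have hMp : IsPGroup p M := hP.to_le (hMP.trans (Subgroup.commutator_le_self P))
    by_cases hM : M = ⊥
    · rw [hM]
      intro x _
      rw [Subgroup.mem_centralizer_iff]
      intro y hy
      rw [show y = 1 from Subgroup.mem_bot.1 hy, one_mul, mul_one]
    haveI : Nontrivial M := (Subgroup.nontrivial_iff_ne_bot M).2 hM
    haveI : Group.IsNilpotent M := hMp.isNilpotent
    have hlt : ⁅M, M⁆ < M := by
      refine lt_of_le_of_ne (Subgroup.commutator_le_self M) fun h => ?_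
      rw [← Subgroup.map_subtype_commutator] at h
      refine (Group.IsSolvable.commutator_lt_top_of_nontrivial M).ne (Subgroup.map_injective M.subtype_injective ?_)
      rw [h, ← MonoidHom.range_eq_map, Subgroup.range_subtype]
    have hIH := ih _ (by
        rw [← hn]
        exact Set.Finite.card_lt_card (Set.toFinite _) hlt) ⁅M, M⁆ rfl (Subgroup.commutator_normal M M) (hlt.le.trans hMP)
    unfold elemClosure
    rw [Subgroup.closure_le]
    rintro a ⟨j, hj⟩
    have haM' : a ∈ Subgroup.centralizer ((⁅M, M⁆ : Subgroup G) : Set G) := hIH (mem_elemClosure ⟨j, hj⟩)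
    -- the action on linear characters
    let Fix : G → Prop := fun g => ∀ (l : M →* ℂ) (x : M), l ⟨g * x * g⁻¹, hMn.conj_mem _ x.2 g⟩ = l x
    by_cases hfix : Fix a
    · change a ∈ Subgroup.centralizer (M : Set G)
      rw [Subgroup.mem_centralizer_iff]
      intro x hx
      have hcomm : a * x * a⁻¹ * x⁻¹ ∈ ⁅M, M⁆ := by
        set y : M := ⟨a * x * a⁻¹, hMn.conj_mem _ hx a⟩ * ⟨x, hx⟩⁻¹ with hy
        have h1 : y ∈ commutator M := by
          by_contra h
          have h' : Abelianization.of y ≠ 1 := fun e => h ((QuotientGroup.eq_one_iff y).1 e)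
          obtain ⟨l, hl⟩ := exists_hom_ne (fun u v => mul_comm u v) h'
          refine hl ?_
          have h2 := hfix (l.comp Abelianization.of) ⟨x, hx⟩
          rw [hy, map_mul, map_mul, map_inv]
          change l (Abelianization.of _) = l (Abelianization.of _) at h2
          rw [h2, ← map_mul, mul_inv_cancel, map_one]
        rw [← Subgroup.map_subtype_commutator]
        exact ⟨y, h1, rfl⟩
      set c := a * x * a⁻¹ * x⁻¹ with hc
      have hac : a * c = c * a := (Subgroup.mem_centralizer_iff.1 haM' c hcomm).symm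
      have hpow : ∀ k : ℕ, a ^ k * x * (a ^ k)⁻¹ = c ^ k * x := by
        intro k
        induction k with
        | zero => simp
        | succ k ihk =>
          rw [pow_succ', mul_inv_rev, show a * a ^ k * x * ((a ^ k)⁻¹ * a⁻¹) = a * (a ^ k * x * (a ^ k)⁻¹) * a⁻¹ by group,
            ihk, ← mul_assoc, (show Commute a (c ^ k) from (show Commute a c from hac).pow_right k).eq,
            pow_succ, hc]
          group
      have h2 := hpow (orderOf a)
      rw [pow_orderOf_eq_one, one_mul, inv_one, mul_one, eq_comm, mul_eq_right, hj] at h2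
      have h3 : c = 1 := by
        obtain ⟨i, hi⟩ := hMp ⟨c, Subgroup.commutator_le_self M hcomm⟩
        rw [← orderOf_eq_one_iff]
        refine Nat.eq_one_of_dvd_coprimes (((Nat.coprime_primes Nat.prime_two (Fact.out : p.Prime)).2 hp.symm).pow j i)
          (orderOf_dvd_of_pow_eq_one h2) (orderOf_dvd_of_pow_eq_one ?_)
        exact congrArg Subtype.val hi
      rw [hc, mul_inv_eq_one, mul_inv_eq_iff_eq_mul] at h3
      exact h3.symm
    exfalso
    have hex : ∃ i : ℕ, Fix (a ^ 2 ^ i) := ⟨j, fun l x => congrArg l (Subtype.ext (by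
      show a ^ 2 ^ j * (x : G) * (a ^ 2 ^ j)⁻¹ = x
      rw [← hj, pow_orderOf_eq_one, one_mul, inv_one, mul_one]))⟩
    obtain ⟨i, hi⟩ : ∃ i, Nat.find hex = i + 1 := by
      rcases Nat.eq_zero_or_pos (Nat.find hex) with h | h
      · have := Nat.find_spec hex
        rw [h, pow_zero, pow_one] at this
        exact absurd this hfix
      · exact ⟨_, (Nat.succ_pred_eq_of_pos h).symm⟩
    have hg2 : Fix (a ^ 2 ^ i * a ^ 2 ^ i) := by
      have := Nat.find_spec hex
      rwa [hi, pow_succ, pow_mul, pow_two] at this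
    have hg1 := Nat.find_min hex (show i < Nat.find hex by omega)
    set g := a ^ 2 ^ i
    simp only [Fix, not_forall] at hg1
    obtain ⟨l, y, hly⟩ := hg1
    let cg : M →* M := (MulAut.conjNormal g : MulAut M).toMonoidHom
    let m : M →* ℂ :=
      { toFun := fun x => l (cg x * x⁻¹)
        map_one' := by simp
        map_mul' := fun x z => by simp only [map_mul, mul_inv_rev]; ring }
    have hl0 : ∀ x, l x ≠ 0 := fun x h0 => by
      have := RealOdd.hom_norm l x
      rw [h0] at this
      simp at this
    have hinv : Clifford.conjFun g (fun x : M => m x) = fun x => conj (m x) := by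
      funext x
      rw [Clifford.conjFun_eq_comp]
      show l (cg (cg x) * (cg x)⁻¹) = conj (l (cg x * x⁻¹))
      have hgg : l (cg (cg x)) = l x := by
        refine Eq.trans ?_ (hg2 l x)
        refine congrArg l (Subtype.ext ?_)
        show ((MulAut.conjNormal g) ((MulAut.conjNormal g) x) : G) = _
        rw [MulAut.conjNormal_apply, MulAut.conjNormal_apply]
        group
      have hnorm : ‖l (cg x * x⁻¹)‖ = 1 := RealOdd.hom_norm l _
      rw [← Complex.inv_eq_conj hnorm, ← mul_eq_one_iff_eq_inv₀ (hl0 _), map_mul l (cg (cg x)), hgg, ← map_mul, ← map_mul,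
        show x * (cg x)⁻¹ * (cg x * x⁻¹) = 1 by group, map_one]
    have h2 : ¬ 2 ∣ Nat.card M := by
      obtain ⟨e, he⟩ := IsPGroup.iff_card.1 hMp
      rw [he]
      exact fun h => hp ((Nat.prime_dvd_prime_iff_eq Nat.prime_two (Fact.out : p.Prime)).1
        (Nat.prime_two.dvd_of_dvd_pow h)).symm
    obtain ⟨θ, hθ⟩ : ∃ θ : IrrCharacter M, (θ : M → ℂ) = fun x => m x :=
      ⟨⟨_, Clifford.isIrrCharacter_of_hom m⟩, rfl⟩
    obtain ⟨χ, hr, hne⟩ := exists_real_over M θ
      (by rw [Nat.factorization_eq_zero_of_not_dvd h2, pow_zero]; exact one_dvd _) g (by rw [hθ]; exact hinv)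
    have h1 := one_constituent p P M hP hMP (isCharacter_of_irr χ.2) (hreal χ hr)
    obtain ⟨w, hw⟩ := Clifford.constituent_conj χ.2 isIrrCharacter_one θ.2 h1 hne
    have h3 := congrFun hw y
    rw [hθ] at h3
    change l (cg y * y⁻¹) = 1 at h3
    refine hly ?_
    rw [map_mul] at h3
    have h4 : l y⁻¹ * l y = 1 := by rw [← map_mul, inv_mul_cancel, map_one]
    calc l _ = l (cg y) := congrArg l (Subtype.ext (MulAut.conjNormal_apply g y).symm)
      _ = l (cg y) * (l y⁻¹ * l y) := by rw [h4, mul_one]
      _ = l y := by rw [← mul_assoc, h3, one_mul]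

/-- Let p be an odd prime and G a finite group such that the subgroup generated by the p-elements of G is solvable and every real-valued irreducible complex character of G has degree prime to p. Let K be the subgroup generated by the 2-elements of G and P a Sylow p-subgroup of G. Then every normal subgroup M of G contained in K and in the derived subgroup of P is centralized by K. -/
theorem result {G : Type*} [Group G] [Finite G] (p : ℕ) [Fact p.Prime] (hp : p ≠ 2) (hsolv : Group.IsSolvable ↥(Subgroup.closure {g : G | ∃ k : ℕ, orderOf g = p ^ k})) (hreal : ∀ χ : Cfsg.IrrCharacter G, (∀ g : G, ((χ : G → ℂ) g).im = 0) → ¬ p ∣ Cfsg.charDegree (χ : G → ℂ)) (P : Sylow p G) (M : Subgroup G) (hM : M.Normal) (hMK : M ≤ (Subgroup.closure {g : G | ∃ k : ℕ, orderOf g = 2 ^ k})) (hMP : M ≤ ⁅(P : Subgroup G), (P : Subgroup G)⁆) : (Subgroup.closure {g : G | ∃ k : ℕ, orderOf g = 2 ^ k}) ≤ Subgroup.centralizer (M : Set G) := by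
  classical
  haveI : Fintype G := Fintype.ofFinite G
  exact aux p hp hreal (P : Subgroup G) P.isPGroup' _ M rfl hM hMP

end Cfsg.Agent.S4862
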