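import Cfsg.Statements.S4864
import Cfsg.Agent.RealPDeg.Orbits

open CfsgLib CfsgLib.RealPDeg

set_option autoImplicit false
open Cfsg

namespace Cfsg.Agent.S4864

/-- Let p be a prime and G a finite group such that the subgroup generated by the p-elements of G is solvable and every real-valued irreducible complex character of G has degree prime to p. Then the normalizer of a Sylow p-subgroup of G contains an element of every real conjugacy class of G: every element conjugate to its inverse is conjugate to an element of that normalizer. -/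
theorem result {G : Type*} [Group G] [Finite G] (p : ℕ) [Fact p.Prime] (hsolv : Group.IsSolvable ↥(Subgroup.closure {g : G | ∃ k : ℕ, orderOf g = p ^ k})) (hreal : ∀ χ : Cfsg.IrrCharacter G, (∀ g : G, ((χ : G → ℂ) g).im = 0) → ¬ p ∣ Cfsg.charDegree (χ : G → ℂ)) (P : Sylow p G) (x : G) (hx : IsConj x x⁻¹) : ∃ y ∈ Subgroup.normalizer ((P : Subgroup G) : Set G), IsConj x y := by
  classical
  have hp : p.Prime := Fact.out
  haveI : (elemClosure 2 G).Normal := elemClosure_normal Nat.prime_two
  set K := elemClosure 2 G with hK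
  have hodd : Odd K.index := by
    obtain ⟨S⟩ : Nonempty (Sylow 2 G) := inferInstance
    have hle : (S : Subgroup G) ≤ K := fun s hs => by
      obtain ⟨k, hk⟩ := IsPGroup.iff_orderOf.1 S.isPGroup' ⟨s, hs⟩
      exact mem_elemClosure ⟨k, by rwa [← Subgroup.orderOf_coe] at hk⟩
    exact Nat.odd_iff.2 (Nat.two_dvd_ne_zero.1 fun h => S.not_dvd_index (h.trans (Subgroup.index_dvd_of_le hle)))
  have hxK : x ∈ K := by
    obtain ⟨c, hc⟩ := isConj_iff.1 hx
    obtain ⟨j, hj⟩ := hodd
    have hcl : ∀ z : G ⧸ K, z ^ (2 * j + 1) = 1 := fun z => by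
      induction z using QuotientGroup.induction_on with
      | _ g => rw [← QuotientGroup.mk_pow, QuotientGroup.eq_one_iff, ← hj]; exact Subgroup.pow_index_mem K g
    set w : G ⧸ K := (x : G ⧸ K) with hw
    set d : G ⧸ K := (c : G ⧸ K) with hd
    have h1 : d * w * d⁻¹ = w⁻¹ := by
      rw [hd, hw, ← QuotientGroup.mk_inv, ← QuotientGroup.mk_mul, ← QuotientGroup.mk_mul, hc, QuotientGroup.mk_inv]
    have h2 : Commute (d * d) w := by
      show d * d * w = w * (d * d)
      calc d * d * w = d * (d * w * d⁻¹) * d := by group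
        _ = d * w⁻¹ * d := by rw [h1]
        _ = (d * w * d⁻¹)⁻¹ * (d * d) := by group
        _ = w * (d * d) := by rw [h1, inv_inv]
    have h3 : d = ((d * d) ^ j)⁻¹ := by
      refine eq_inv_of_mul_eq_one_right ?_
      rw [← pow_two, ← pow_mul, ← pow_succ]
      exact hcl d
    have h4 : Commute d w := by rw [h3]; exact (h2.pow_left j).inv_left
    rw [h4.eq, mul_inv_cancel_right] at h1
    have h5 : w * w = 1 := by
      nth_rewrite 2 [h1]
      exact mul_inv_cancel w
    have h6 := hcl w
    rw [pow_succ, pow_mul, pow_two, h5, one_pow, one_mul] at h6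
    exact (QuotientGroup.eq_one_iff x).1 h6
  obtain ⟨Q⟩ : Nonempty (Sylow p K) := inferInstance
  set R := (Q : Subgroup K).map K.subtype with hR
  haveI hRn : R.Normal := core _ G rfl p hsolv hreal K inferInstance le_rfl (fun y hy => ⟨0, by simpa using hy⟩) Q
  have hRp : IsPGroup p R := Q.isPGroup'.map K.subtype
  have hRP : R ≤ (P : Subgroup G) := hRp.le_sylow_of_normal P
  set f := QuotientGroup.mk' R with hf
  have hfs : Function.Surjective f := QuotientGroup.mk'_surjective R
  haveI : (K.map f).Normal := Subgroup.Normal.map inferInstance f hfs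
  have hcop : ¬ p ∣ Nat.card (K.map f) := by
    intro h
    have e1 : Nat.card (K.map f) = R.relIndex K := by
      rw [← Subgroup.relIndex_bot_left (K.map f), ← Subgroup.relIndex_comap, MonoidHom.comap_bot, hf, QuotientGroup.ker_mk']
    rw [e1, hR] at h
    exact Q.not_dvd_index (by
      rwa [Subgroup.relIndex, Subgroup.subgroupOf, Subgroup.comap_map_eq_self_of_injective K.subtype_injective] at h)
  have hodd' : Odd (K.map f).index := Odd.of_dvd_nat hodd (Subgroup.index_map_dvd K hfs)
  have hsolv' : Group.IsSolvable ↥(elemClosure p (G ⧸ R)) := by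
    haveI : Group.IsSolvable ↥(elemClosure p G) := hsolv
    rw [← map_elemClosure hp f hfs]
    exact Group.isSolvable_of_surjective (f.subgroupMap_surjective (elemClosure p G))
  obtain ⟨z, hxz, hz⟩ := exists_centralized (K.map f) p hsolv' (hyp_quot f hfs hreal) hodd' hcop
    (P.mapSurjective hfs) (f x) ⟨x, hxK, rfl⟩ (by rw [← map_inv]; exact MonoidHom.map_isConj f hx)
  obtain ⟨d, hd⟩ := isConj_iff.1 hxz
  obtain ⟨g, rfl⟩ := hfs d
  refine ⟨g * x * g⁻¹, ?_, isConj_iff.2 ⟨g, rfl⟩⟩
  rw [← map_inv, ← map_mul, ← map_mul] at hd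
  rw [← hd, Subgroup.mem_centralizer_iff] at hz
  have hmem : ∀ v : G, v ∈ (P : Subgroup G) → (g * x * g⁻¹) * v * (g * x * g⁻¹)⁻¹ ∈ (P : Subgroup G) := by
    intro v hv
    have h1 := hz (f v) (by rw [Sylow.coe_mapSurjective]; exact ⟨v, hv, rfl⟩)
    have h2 : f (v⁻¹ * ((g * x * g⁻¹) * v * (g * x * g⁻¹)⁻¹)) = 1 := by
      rw [map_mul, map_inv, map_mul, map_inv, map_mul, ← h1]
      group
    rw [hf, QuotientGroup.mk'_apply, QuotientGroup.eq_one_iff] at h2
    have := (P : Subgroup G).mul_mem hv (hRP h2)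
    rwa [← mul_assoc, mul_inv_cancel, one_mul] at this
  rw [Subgroup.mem_normalizer_iff]
  intro v
  refine ⟨hmem v, fun hv => ?_⟩
  have hpow : ∀ k : ℕ, ∀ u ∈ (P : Subgroup G), (g * x * g⁻¹) ^ k * u * ((g * x * g⁻¹) ^ k)⁻¹ ∈ (P : Subgroup G) := by
    intro k
    induction k with
    | zero => intro u hu; simpa using hu
    | succ k ih =>
      intro u hu
      have := hmem _ (ih u hu)
      rw [pow_succ', mul_inv_rev]
      simpa only [mul_assoc] using this
  have h3 := hpow (orderOf (g * x * g⁻¹) - 1) _ hv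
  set y := g * x * g⁻¹ with hy
  have h4 : y ^ (orderOf y - 1) = y⁻¹ := by
    refine eq_inv_of_mul_eq_one_left ?_
    rw [← pow_succ, Nat.sub_add_cancel (orderOf_pos y), pow_orderOf_eq_one]
  rw [h4] at h3
  simpa [mul_assoc] using h3

end Cfsg.Agent.S4864
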