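import Cfsg.Statements.S4865
import Cfsg.Agent.RealPDeg.Corr

set_option autoImplicit false
set_option linter.style.haveILetI false
open Cfsg CfsgLib CfsgLib.CharBasics CfsgLib.RealOdd CfsgLib.RealPDeg

namespace Cfsg.Agent.S4865

/-- Let p be a prime and G a finite group such that the subgroup generated by the p-elements of G is solvable and every real-valued irreducible complex character of G has degree prime to p. Let N be the normalizer of a Sylow p-subgroup of G. Then there is a bijection from the real-valued irreducible characters of G onto the real-valued irreducible characters of N of degree prime to p under which corresponding degrees are congruent modulo p up to sign. -/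
theorem result {G : Type*} [Group G] [Finite G] (p : ℕ) [Fact p.Prime] (hsolv : Group.IsSolvable ↥(Subgroup.closure {g : G | ∃ k : ℕ, orderOf g = p ^ k})) (hreal : ∀ χ : Cfsg.IrrCharacter G, (∀ g : G, ((χ : G → ℂ) g).im = 0) → ¬ p ∣ Cfsg.charDegree (χ : G → ℂ)) (P : Sylow p G) : ∃ f : {χ : Cfsg.IrrCharacter G // ∀ g : G, ((χ : G → ℂ) g).im = 0} → {ξ : Cfsg.IrrCharacter ↥(Subgroup.normalizer ((P : Subgroup G) : Set G)) // (∀ n, ((ξ : ↥(Subgroup.normalizer ((P : Subgroup G) : Set G)) → ℂ) n).im = 0) ∧ ¬ p ∣ Cfsg.charDegree (ξ : ↥(Subgroup.normalizer ((P : Subgroup G) : Set G)) → ℂ)}, Function.Bijective f ∧ ∀ χ, ((Cfsg.charDegree ((f χ).1 : ↥(Subgroup.normalizer ((P : Subgroup G) : Set G)) → ℂ) : ZMod p) = (Cfsg.charDegree (χ.1 : G → ℂ) : ZMod p) ∨ (Cfsg.charDegree ((f χ).1 : ↥(Subgroup.normalizer ((P : Subgroup G) : Set G)) → ℂ) : ZMod p) = -(Cfsg.charDegree (χ.1 : G → ℂ) : ZMod p)) := by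
  classical
  have hp : p.Prime := Fact.out
  haveI := Fintype.ofFinite G
  set K := elemClosure 2 G with hK
  haveI hKn : K.Normal := elemClosure_normal Nat.prime_two
  haveI := Fintype.ofFinite K
  -- the index is odd
  have hodd : Odd K.index := by
    rw [← Nat.not_even_iff_odd, even_iff_two_dvd]
    intro h
    haveI : Fact (Nat.Prime 2) := ⟨Nat.prime_two⟩
    obtain ⟨S⟩ : Nonempty (Sylow 2 G) := inferInstance
    have hSK : (S : Subgroup G) ≤ K := fun x hx => by
      obtain ⟨k, hk⟩ := IsPGroup.iff_orderOf.1 S.isPGroup' ⟨x, hx⟩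
      exact mem_elemClosure ⟨k, by rwa [← Subgroup.orderOf_coe] at hk⟩
    exact S.not_dvd_index (h.trans (Subgroup.index_dvd_of_le hSK))
  -- the Sylow subgroup of `K` is normal
  have hR : ((P : Subgroup G).subgroupOf K).Normal := by
    obtain ⟨Q⟩ : Nonempty (Sylow p K) := inferInstance
    have h := core _ G rfl p hsolv hreal K hKn le_rfl
      (fun x hx => ⟨0, by rw [pow_zero, pow_one]; exact hx⟩) Q
    have hle : (Q : Subgroup K) ≤ (P : Subgroup G).subgroupOf K := by
      haveI := h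
      have h2 := (Q.isPGroup'.map K.subtype).le_sylow_of_normal P
      exact fun x hx => h2 ⟨x, hx, rfl⟩
    have e : (P : Subgroup G).subgroupOf K = Q := Q.is_maximal' P.isPGroup'.comap_subtype hle
    rw [e]
    have := h.comap K.subtype
    rwa [Subgroup.comap_map_eq_self_of_injective K.subtype_injective] at this
  set N := Subgroup.normalizer ((P : Subgroup G) : Set G) with hN
  haveI := Fintype.ofFinite N
  haveI := Fintype.ofFinite (K.subgroupOf N)
  have hoddN : Odd (K.subgroupOf N).index :=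
    Odd.of_dvd_nat hodd (Subgroup.relIndex_dvd_index_of_normal K N)
  have hPN : (P : Subgroup G) ≤ N := sylow_le hN
  -- the graph of the map
  let Φ : IrrCharacter G → IrrCharacter N → Prop := fun χ ξ => ∃ (θ : IrrCharacter K)
    (η : IrrCharacter (K.subgroupOf N)), IsReal (θ : K → ℂ) ∧ Inv P θ ∧ InvN P η ∧ Rel p θ η ∧
      Over K χ θ ∧ Over (K.subgroupOf N) ξ η
  have hfix : ∀ χ : IrrCharacter G, IsReal (χ : G → ℂ) →
      ∃ θ : IrrCharacter K, IsReal (θ : K → ℂ) ∧ Inv P θ ∧ Over K χ θ := by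
    intro χ hχ
    obtain ⟨θ, hθ, ho⟩ := exists_real_over' hodd χ hχ
    set T := Clifford.inertia (G := G) (θ : K → ℂ) with hT
    have hpT : ¬ p ∣ T.index := fun h => hreal χ hχ (h.trans (index_inertia_dvd ho))
    obtain ⟨S⟩ : Nonempty (Sylow p T) := inferInstance
    have hi : ¬ p ∣ ((S : Subgroup T).map T.subtype).index := by
      rw [Subgroup.index_map_subtype]
      exact fun h => (hp.dvd_mul.1 h).elim S.not_dvd_index hpT
    obtain ⟨g, hg⟩ := MulAction.exists_smul_eq G ((S.isPGroup'.map T.subtype).toSylow hi) P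
    refine ⟨conjIrr g⁻¹ θ, fun k => hθ _, fun v hv => ?_, ?_⟩
    · have h1 : g⁻¹ * v * g ∈ T := by
        rw [← hg] at hv
        exact Subgroup.map_subtype_le _ (Transfer.mem_smul_sylow_iff.1 hv)
      show Clifford.conjFun v (Clifford.conjFun g⁻¹ (θ : K → ℂ)) = _
      rw [Clifford.conjFun_mul, show g⁻¹ * v = g⁻¹ * v * g * g⁻¹ by group, ← Clifford.conjFun_mul,
        Clifford.mem_inertia.1 h1]
      rfl
    · show classInner _ (Clifford.conjFun g⁻¹ (θ : K → ℂ)) ≠ 0
      rw [← Clifford.conjFun_restrict (CharBasics.isClassFunction (isCharacter_of_irr χ.2)) g⁻¹,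
        Clifford.classInner_conjFun]
      exact ho
  -- degrees of the two sides
  have hdeg : ∀ (χ : IrrCharacter G) (ξ : IrrCharacter N), IsReal (χ : G → ℂ) → IsReal (ξ : N → ℂ) → Φ χ ξ →
      ((charDegree (ξ : N → ℂ) : ZMod p) = (charDegree (χ : G → ℂ) : ZMod p) ∨
        (charDegree (ξ : N → ℂ) : ZMod p) = -(charDegree (χ : G → ℂ) : ZMod p)) := by
    rintro χ ξ hχ hξ ⟨θ, η, hθ, hθi, hηi, hr, ho, ho'⟩
    have hη := (corr_real hN hR hθi hηi hr).1 hθ
    obtain ⟨η', hi', hr', hd, -⟩ := (corr_both hN hR).1 θ hθi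
    obtain rfl := corr_right_unique hN hR hθi hηi hi' hr hr'
    rw [real_over_degree hodd hχ hθ ho, real_over_degree hoddN hξ hη ho', Nat.cast_mul, Nat.cast_mul,
      corr_inertia hN hR hθi hηi hr,
      index_congr hN (Clifford.inertia (G := G) (θ : K → ℂ)) fun v hv => hθi v hv]
    rcases hd with h | h <;> rw [h]
    · exact Or.inl rfl
    · exact Or.inr (by ring)
  have hex : ∀ χ : {χ : IrrCharacter G // ∀ g : G, ((χ : G → ℂ) g).im = 0},
      ∃ ξ : {ξ : IrrCharacter N // (∀ n, ((ξ : N → ℂ) n).im = 0) ∧ ¬ p ∣ charDegree (ξ : N → ℂ)},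
        Φ χ.1 ξ.1 := by
    rintro ⟨χ, hχ⟩
    obtain ⟨θ, hθ, hθi, ho⟩ := hfix χ hχ
    obtain ⟨η, hηi, hr, -, -⟩ := (corr_both hN hR).1 θ hθi
    have hη := (corr_real hN hR hθi hηi hr).1 hθ
    obtain ⟨ξ, hξ, ho'⟩ := exists_real_above (K.subgroupOf N) hoddN η hη
    refine ⟨⟨ξ, hξ, fun h => hreal χ hχ ?_⟩, θ, η, hθ, hθi, hηi, hr, ho, ho'⟩
    rw [← ZMod.natCast_eq_zero_iff] at h ⊢
    rcases hdeg χ ξ hχ hξ ⟨θ, η, hθ, hθi, hηi, hr, ho, ho'⟩ with e | e <;> rw [h] at e
    · exact e.symm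
    · exact neg_eq_zero.1 e.symm
  choose f hf using hex
  refine ⟨f, ⟨fun χ₁ χ₂ he => ?_, fun ξ => ?_⟩, fun χ => hdeg χ.1 _ χ.2 (f χ).2.1 (hf χ)⟩
  · obtain ⟨θ, η, hθ, hθi, hηi, hr, ho, ho'⟩ := hf χ₁
    obtain ⟨θ', η', hθ', hθi', hηi', hr', ho₂, ho₂'⟩ := hf χ₂
    rw [← he] at ho₂'
    obtain ⟨n, hn⟩ := Clifford.constituent_conj (f χ₁).1.2 η.2 η'.2 ho' ho₂'
    have e : conjIrr n η = η' := Subtype.ext hn.symm
    have e' : θ' = conjIrr (n : G) θ :=
      corr_left_unique hN hR hηi' hθi' (hθi.conj hN n) hr' (e ▸ hr.conj n)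
    refine Subtype.ext (real_over_unique hodd χ₁.2 χ₂.2 hθ' ?_ ho₂)
    show classInner _ (θ' : K → ℂ) ≠ 0
    rw [e']
    show classInner _ (Clifford.conjFun (n : G) (θ : K → ℂ)) ≠ 0
    rw [← Clifford.conjFun_restrict (CharBasics.isClassFunction (isCharacter_of_irr χ₁.1.2)) (n : G),
      Clifford.classInner_conjFun]
    exact ho
  · obtain ⟨ξ, hξ, hξp⟩ := ξ
    obtain ⟨η, hη, hoη⟩ := exists_real_over' hoddN ξ hξ
    -- the Sylow subgroup is normal in `N`, so it fixes every real constituent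
    have hηi : InvN P η := by
      intro v hv
      set T := Clifford.inertia (G := N) (η : K.subgroupOf N → ℂ) with hT
      have hpT : ¬ p ∣ T.index := fun h => hξp (h.trans (index_inertia_dvd hoη))
      obtain ⟨S⟩ : Nonempty (Sylow p T) := inferInstance
      have hi : ¬ p ∣ ((S : Subgroup T).map T.subtype).index := by
        rw [Subgroup.index_map_subtype]
        exact fun h => (hp.dvd_mul.1 h).elim S.not_dvd_index hpT
      haveI : ((P.subtype hPN : Sylow p N) : Subgroup N).Normal := by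
        rw [P.coe_subtype hPN]
        exact (Subgroup.normal_subgroupOf_iff_le_normalizer hPN).2 hN.le
      have h2 := (P.subtype hPN).isPGroup'.le_sylow_of_normal ((S.isPGroup'.map T.subtype).toSylow hi)
      have h3 : v ∈ ((P.subtype hPN : Sylow p N) : Subgroup N) := by rw [P.coe_subtype hPN]; exact hv
      exact Clifford.mem_inertia.1 (Subgroup.map_subtype_le _ (h2 h3))
    obtain ⟨θ, hθi, hr, -⟩ := (corr_both hN hR).2 η hηi
    have hθ := (corr_real hN hR hθi hηi hr).2 hη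
    obtain ⟨χ, hχ, ho⟩ := exists_real_above K hodd θ hθ
    refine ⟨⟨χ, hχ⟩, ?_⟩
    obtain ⟨θ', η', hθ', hθi', hηi', hr', ho₂, ho₂'⟩ := hf ⟨χ, hχ⟩
    obtain ⟨g, hg⟩ := Clifford.constituent_conj χ.2 θ.2 θ'.2 ho ho₂
    obtain ⟨n, hn, hne⟩ := exists_normalizer_conj P hθi hθi' hg
    set n' : N := ⟨n, hn⟩ with hn'
    have e : θ' = conjIrr (n' : G) θ := Subtype.ext hne
    have e' : η' = conjIrr n' η :=
      corr_right_unique hN hR hθi' hηi' (hηi.conj hN n') hr' (e ▸ hr.conj n')
    have hηr := (corr_real hN hR hθi' hηi' hr').1 hθ'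
    refine Subtype.ext (real_over_unique hoddN (f ⟨χ, hχ⟩).2.1 hξ hηr ho₂' ?_)
    show classInner _ (η' : K.subgroupOf N → ℂ) ≠ 0
    rw [e']
    show classInner _ (Clifford.conjFun n' (η : K.subgroupOf N → ℂ)) ≠ 0
    rw [← Clifford.conjFun_restrict (CharBasics.isClassFunction (isCharacter_of_irr ξ.2)) n',
      Clifford.classInner_conjFun]
    exact hoη

end Cfsg.Agent.S4865
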