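import Cfsg.Statements.S4873
import Cfsg.Agent.S4866
import Cfsg.Agent.CharBasics.Extra
import Cfsg.Agent.Clifford.Basic

set_option autoImplicit false
open Cfsg CfsgLib.CharBasics CfsgLib.BrauerInd
open scoped ComplexConjugate

namespace Cfsg.Agent.S4873

/-- The number of real irreducible characters is the number of real classes. -/
theorem card_real {G : Type*} [Group G] [Finite G] :
    Nat.card {χ : IrrCharacter G // ∀ g, ((χ : G → ℂ) g).im = 0} =
      Nat.card {C : ConjClasses G // ∀ g, ConjClasses.mk g = C → IsConj g g⁻¹} := by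
  classical
  haveI : Fintype G := Fintype.ofFinite G
  let σ : IrrCharacter G → IrrCharacter G := fun χ => ⟨fun g => conj ((χ : G → ℂ) g), isIrr_star χ.2⟩
  let τ : ConjClasses G → ConjClasses G := Quotient.lift (fun a : G => ConjClasses.mk a⁻¹) fun a b h => by
    obtain ⟨d, rfl⟩ := isConj_iff.1 (h : IsConj a b)
    exact ConjClasses.mk_eq_mk_iff_isConj.2 (isConj_iff.2 ⟨d, by group⟩)
  have hσ : ∀ χ, σ (σ χ) = χ := fun χ => Subtype.ext (funext fun g => Complex.conj_conj _)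
  have hτ : ∀ C, τ (τ C) = C := fun C => by
    obtain ⟨a, rfl⟩ := ConjClasses.exists_rep C
    show ConjClasses.mk a⁻¹⁻¹ = _
    rw [inv_inv]
  have h := CfsgLib.Clifford.brauer_perm ⟨σ, σ, hσ, hσ⟩ ⟨τ, τ, hτ, hτ⟩ fun χ g g' hg => by
    have hc := isCharacter_of_irr χ.2
    have hg' : ConjClasses.mk g' = ConjClasses.mk g⁻¹ := hg
    show conj ((χ : G → ℂ) g') = _
    rw [apply_isConj hc (ConjClasses.mk_eq_mk_iff_isConj.1 hg'), apply_inv hc, Complex.conj_conj]
  refine ((Nat.card_congr (Equiv.subtypeEquivRight fun χ => ?_)).trans h).trans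
    (Nat.card_congr (Equiv.subtypeEquivRight fun C => ?_))
  · exact ⟨fun hr => Subtype.ext (funext fun g => Complex.conj_eq_iff_im.2 (hr g)),
      fun he g => Complex.conj_eq_iff_im.1 (congrFun (congrArg Subtype.val he) g)⟩
  · obtain ⟨a, rfl⟩ := ConjClasses.exists_rep C
    show ConjClasses.mk a⁻¹ = ConjClasses.mk a ↔ _
    rw [ConjClasses.mk_eq_mk_iff_isConj]
    refine ⟨fun h1 g hg => ?_, fun h1 => (h1 a rfl).symm⟩
    have hga := ConjClasses.mk_eq_mk_iff_isConj.1 hg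
    refine hga.trans (h1.symm.trans ?_)
    obtain ⟨d, hd⟩ := isConj_iff.1 hga.symm
    exact isConj_iff.2 ⟨d, by rw [← hd]; group⟩

/-- Let N be a normal subgroup of odd index in the finite group G. Then every irreducible complex character of N with Frobenius–Schur indicator +1 lies under exactly one irreducible character of G with Frobenius–Schur indicator +1. -/
theorem result {G : Type*} [Group G] [Finite G] (N : Subgroup G) [N.Normal] (hodd : Odd N.index) (φ : Cfsg.IrrCharacter ↥N) (hφ : (Nat.card ↥N : ℂ)⁻¹ * ∑ᶠ g : ↥N, (φ : ↥N → ℂ) (g * g) = 1) : ∃! χ : Cfsg.IrrCharacter G, (Nat.card G : ℂ)⁻¹ * ∑ᶠ g : G, (χ : G → ℂ) (g * g) = 1 ∧ (∑ᶠ n : ↥N, (χ : G → ℂ) n * (starRingEnd ℂ) ((φ : ↥N → ℂ) n)) ≠ 0 := by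
  classical
  haveI : Fintype G := Fintype.ofFinite G
  haveI : Fintype N := Fintype.ofFinite N
  haveI : Fintype (IrrCharacter G) := Fintype.ofFinite _
  simp only [finsum_eq_sum_of_fintype] at hφ ⊢
  have hne : ∀ (χ : G → ℂ) (θ : N → ℂ), (∑ n : N, χ n * conj (θ n)) ≠ 0 ↔
      classInner (fun n : N => χ n) θ ≠ 0 := by
    intro χ θ
    rw [classInner_eq, Ne, Ne, mul_eq_zero, inv_eq_zero, Nat.cast_eq_zero]
    simp [Nat.card_pos.ne']
  have hodd' : ∀ g : G, g ^ 2 ∈ N → g ∈ N := by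
    intro g hg
    obtain ⟨k, hk⟩ := hodd
    have hm : g ^ N.index ∈ N := by
      rw [← QuotientGroup.eq_one_iff, QuotientGroup.mk_pow, Subgroup.index_eq_card, pow_card_eq_one']
    rw [hk, pow_succ', pow_mul] at hm
    exact (N.mul_mem_cancel_right (pow_mem hg k)).1 hm
  -- the signed count
  have hcount : ∀ θ : IrrCharacter N,
      ∑ χ : IrrCharacter G, classInner (indFun N (θ : N → ℂ)) (χ : G → ℂ) * ind (χ : G → ℂ) = ind (θ : N → ℂ) := by
    intro θ
    have hc := isCharacter_indFun N (isCharacter_of_irr θ.2)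
    have h1 : (Nat.card G : ℂ)⁻¹ * ∑ g : G, indFun N (θ : N → ℂ) (g * g) =
        ∑ χ : IrrCharacter G, classInner (indFun N (θ : N → ℂ)) (χ : G → ℂ) * ind (χ : G → ℂ) := by
      conv_lhs => rw [classFun_expand (isClassFunction hc)]
      simp only [Finset.sum_apply, Pi.smul_apply, smul_eq_mul, ind]
      rw [Finset.sum_comm, Finset.mul_sum]
      exact Finset.sum_congr rfl fun χ _ => by rw [← Finset.mul_sum]; ring
    rw [← h1]
    simp only [indFun]
    rw [← Finset.mul_sum, Finset.sum_comm]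
    have h2 : ∀ x : G, ∑ g : G, extendByZero N (θ : N → ℂ) (x⁻¹ * (g * g) * x) = ∑ n : N, (θ : N → ℂ) (n * n) := by
      intro x
      rw [← Equiv.sum_comp (MulAut.conj x).toEquiv]
      have e : ∀ g : G, x⁻¹ * (((MulAut.conj x).toEquiv g) * ((MulAut.conj x).toEquiv g)) * x = g * g := fun g => by
        simp [mul_assoc]
      simp only [e]
      rw [← Finset.sum_subset (Finset.subset_univ (Finset.univ.filter fun g : G => g ∈ N))]
      · rw [Finset.sum_subtype (p := fun g : G => g ∈ N) _ (fun g => by simp)]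
        exact Finset.sum_congr rfl fun n _ => extendByZero_coe N _ (n * n)
      · intro g _ hg
        exact extendByZero_of_not_mem N _ fun h => hg (Finset.mem_filter.2
          ⟨Finset.mem_univ _, hodd' g (by rwa [sq])⟩)
    rw [Finset.sum_congr rfl (fun x _ => h2 x), Finset.sum_const, Finset.card_univ, nsmul_eq_mul,
      Nat.card_eq_fintype_card (α := G), ind]
    have : (Fintype.card G : ℂ) ≠ 0 := Nat.cast_ne_zero.2 Fintype.card_ne_zero
    field_simp
  have hrecip : ∀ (θ : IrrCharacter N) (χ : IrrCharacter G),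
      classInner (indFun N (θ : N → ℂ)) (χ : G → ℂ) ≠ 0 ↔ classInner (fun n : N => (χ : G → ℂ) n) (θ : N → ℂ) ≠ 0 := by
    intro θ χ
    rw [classInner_indFun N _ (isClassFunction (isCharacter_of_irr χ.2)), classInner_comm (fun n : N => (χ : G → ℂ) n)]
    simp
  -- every real character below lies under a real character
  have hex : ∀ θ : IrrCharacter N, (∀ k, ((θ : N → ℂ) k).im = 0) → ∃ χ : IrrCharacter G,
      (∀ g, ((χ : G → ℂ) g).im = 0) ∧ classInner (fun n : N => (χ : G → ℂ) n) (θ : N → ℂ) ≠ 0 := by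
    intro θ hθ
    have h0 : ∑ χ : IrrCharacter G, classInner (indFun N (θ : N → ℂ)) (χ : G → ℂ) * ind (χ : G → ℂ) ≠ 0 := by
      rw [hcount θ]
      rcases ind_real θ.2 hθ with h | h <;> rw [h] <;> simp
    obtain ⟨χ, -, hχ⟩ := Finset.exists_ne_zero_of_sum_ne_zero h0
    refine ⟨χ, fun g => ?_, (hrecip θ χ).1 (mul_ne_zero_iff.1 hχ).1⟩
    by_contra hg
    exact (mul_ne_zero_iff.1 hχ).2 (ind_nonreal χ.2 ⟨g, hg⟩)
  set rθ := fun θ η : {θ : IrrCharacter ↥N // (∀ k : ↥N, ((θ : ↥N → ℂ) k).im = 0)} =>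
    ∃ g : G, ∀ k k' : ↥N, (k' : G) = g * (k : G) * g⁻¹ → (η.1 : ↥N → ℂ) k' = (θ.1 : ↥N → ℂ) k
  choose f hfr hfn using fun q : Quot rθ => hex q.out.1 q.out.2
  let F : Quot rθ → {χ : IrrCharacter G // ∀ g, ((χ : G → ℂ) g).im = 0} := fun q => ⟨f q, hfr q⟩
  have horb : ∀ (χ : IrrCharacter G) (a b : {θ : IrrCharacter ↥N // (∀ k : ↥N, ((θ : ↥N → ℂ) k).im = 0)}),
      classInner (fun n : N => (χ : G → ℂ) n) (a.1 : N → ℂ) ≠ 0 →
      classInner (fun n : N => (χ : G → ℂ) n) (b.1 : N → ℂ) ≠ 0 → Quot.mk rθ a = Quot.mk rθ b := by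
    intro χ a b ha hb
    obtain ⟨g, hg⟩ := CfsgLib.Clifford.constituent_conj χ.2 a.1.2 b.1.2 ha hb
    refine Quot.sound ⟨g⁻¹, fun k k' hk => ?_⟩
    rw [hg]
    show (a.1 : N → ℂ) _ = (a.1 : N → ℂ) k
    exact congrArg _ (Subtype.ext (show g * (k' : G) * g⁻¹ = (k : G) by rw [hk]; group))
  have hFinj : Function.Injective F := by
    intro q q' h
    have h' : f q = f q' := congrArg Subtype.val h
    have hmem := hfn q'
    rw [← h'] at hmem
    rw [← Quot.out_eq q, ← Quot.out_eq q']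
    exact horb (f q) q.out q'.out (hfn q) hmem
  have hreal : ∀ g : G, IsConj g g⁻¹ → ∃ hg : g ∈ N, IsConj (⟨g, hg⟩ : N) (⟨g, hg⟩ : N)⁻¹ := by
    intro g hg
    obtain ⟨x, hx⟩ := isConj_iff.1 hg
    have hgN : g ∈ N := by
      apply hodd'
      rw [sq, ← QuotientGroup.eq_one_iff]
      have e1 : ((g : G ⧸ N)) ^ 2 = 1 → ((g * g : G) : G ⧸ N) = 1 := fun h => by rwa [QuotientGroup.mk_mul, ← sq]
      apply e1
      -- the image of `g` is fixed by conjugation by the odd power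
      have hk : ∀ k : ℕ, x ^ (2 * k) * g * (x ^ (2 * k))⁻¹ = g := by
        intro k
        induction k with
        | zero => simp
        | succ k ih =>
          calc x ^ (2 * (k + 1)) * g * (x ^ (2 * (k + 1)))⁻¹
              = x * (x * (x ^ (2 * k) * g * (x ^ (2 * k))⁻¹) * x⁻¹) * x⁻¹ := by
                rw [show 2 * (k + 1) = 2 * k + 1 + 1 by ring, pow_succ', pow_succ']; group
            _ = (x * g * x⁻¹)⁻¹ := by
                rw [ih]
                nth_rw 1 [hx]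
                exact conj_inv.symm
            _ = g := by rw [hx, inv_inv]
      obtain ⟨k, hk'⟩ := hodd
      have hm : ((x ^ N.index : G) : G ⧸ N) = 1 := by
        rw [QuotientGroup.mk_pow, Subgroup.index_eq_card, pow_card_eq_one']
      have h2 : ((x ^ N.index * g * (x ^ N.index)⁻¹ : G) : G ⧸ N) = (g : G ⧸ N) := by
        rw [QuotientGroup.mk_mul, QuotientGroup.mk_mul, QuotientGroup.mk_inv, hm, one_mul, inv_one, mul_one]
      have h3 : x ^ N.index * g * (x ^ N.index)⁻¹ = g⁻¹ := by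
        calc x ^ N.index * g * (x ^ N.index)⁻¹ = x * (x ^ (2 * k) * g * (x ^ (2 * k))⁻¹) * x⁻¹ := by
              rw [hk', pow_succ']; group
          _ = g⁻¹ := by rw [hk k, hx]
      rw [h3, QuotientGroup.mk_inv] at h2
      rw [sq]
      nth_rw 1 [← h2]
      exact inv_mul_cancel _
    refine ⟨hgN, isConj_iff.2 ⟨⟨x ^ N.index, ?_⟩, Subtype.ext ?_⟩⟩
    · rw [← QuotientGroup.eq_one_iff, QuotientGroup.mk_pow, Subgroup.index_eq_card, pow_card_eq_one']
    · obtain ⟨k, hk'⟩ := hodd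
      show x ^ N.index * g * (x ^ N.index)⁻¹ = g⁻¹
      rw [hk']
      clear hk'
      induction k with
      | zero => simpa using hx
      | succ k ih =>
        calc x ^ (2 * (k + 1) + 1) * g * (x ^ (2 * (k + 1) + 1))⁻¹
            = x * (x * (x ^ (2 * k + 1) * g * (x ^ (2 * k + 1))⁻¹) * x⁻¹) * x⁻¹ := by
              rw [show 2 * (k + 1) + 1 = 2 * k + 1 + 1 + 1 by ring, pow_succ', pow_succ']; group
          _ = g⁻¹ := by
              rw [ih, show x * g⁻¹ * x⁻¹ = (x * g * x⁻¹)⁻¹ from conj_inv.symm, hx, inv_inv, hx]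
  have hcard : Nat.card (Quot rθ) = Nat.card {χ : IrrCharacter G // ∀ g, ((χ : G → ℂ) g).im = 0} := by
    rw [card_real]
    refine (Cfsg.Agent.S4866.result N hodd).trans ?_
    set rX := fun x y : {x : ↥N // IsConj x x⁻¹} => ∃ g : G, (y.1 : G) = g * x.1 * g⁻¹
    have heqv : Equivalence rX := by
      refine ⟨fun x => ⟨1, by simp⟩, fun {x y} ⟨g, hg⟩ => ⟨g⁻¹, by rw [hg]; group⟩,
        fun {x y z} ⟨g, hg⟩ ⟨g', hg'⟩ => ⟨g' * g, by rw [hg', hg]; group⟩⟩
    let Ψ : Quot rX → {C : ConjClasses G // ∀ g, ConjClasses.mk g = C → IsConj g g⁻¹} := Quot.lift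
      (fun x => ⟨ConjClasses.mk (x.1 : G), fun g hg => by
        obtain ⟨d, hd⟩ := isConj_iff.1 (ConjClasses.mk_eq_mk_iff_isConj.1 hg.symm)
        have h1 : IsConj (x.1 : G) (x.1 : G)⁻¹ := MonoidHom.map_isConj N.subtype x.2
        refine (ConjClasses.mk_eq_mk_iff_isConj.1 hg).trans (h1.trans (isConj_iff.2 ⟨d, ?_⟩))
        rw [← hd]; group⟩)
      (fun x y ⟨g, hg⟩ => Subtype.ext (ConjClasses.mk_eq_mk_iff_isConj.2 (isConj_iff.2 ⟨g, hg.symm⟩)))
    refine Nat.card_congr (Equiv.ofBijective Ψ ⟨fun a b hab => ?_, fun C => ?_⟩)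
    · obtain ⟨x, rfl⟩ := Quot.exists_rep a
      obtain ⟨y, rfl⟩ := Quot.exists_rep b
      obtain ⟨g, hg⟩ := isConj_iff.1 (ConjClasses.mk_eq_mk_iff_isConj.1 (congrArg Subtype.val hab))
      exact Quot.sound ⟨g, hg.symm⟩
    · obtain ⟨g, hg⟩ := ConjClasses.exists_rep C.1
      obtain ⟨hgN, hgr⟩ := hreal g (C.2 g hg)
      exact ⟨Quot.mk rX ⟨⟨g, hgN⟩, hgr⟩, Subtype.ext hg⟩
  have hFbij : Function.Bijective F := hFinj.bijective_of_nat_card_le hcard.ge
  have hφr : ∀ k, ((φ : N → ℂ) k).im = 0 := fun k => by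
    by_contra hk
    have := ind_nonreal φ.2 ⟨k, hk⟩
    rw [ind, hφ] at this
    exact one_ne_zero this
  -- a unique real character over `φ`
  have huniq : ∀ χ : IrrCharacter G, (∀ g, ((χ : G → ℂ) g).im = 0) →
      classInner (fun n : N => (χ : G → ℂ) n) (φ : N → ℂ) ≠ 0 → χ = f (Quot.mk rθ ⟨φ, hφr⟩) := by
    intro χ hr hn
    obtain ⟨q, hq⟩ := hFbij.2 ⟨χ, hr⟩
    have hq' : f q = χ := congrArg Subtype.val hq
    have h := horb χ q.out ⟨φ, hφr⟩ (hq' ▸ hfn q) hn
    rw [Quot.out_eq] at h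
    rw [← hq', h]
  set χ₀ := f (Quot.mk rθ ⟨φ, hφr⟩)
  have hsum := hcount φ
  rw [show ind (φ : N → ℂ) = 1 from hφ, Finset.sum_eq_single χ₀] at hsum
  · have hne0 : classInner (indFun N (φ : N → ℂ)) (χ₀ : G → ℂ) * ind (χ₀ : G → ℂ) ≠ 0 := by
      rw [hsum]; exact one_ne_zero
    refine ⟨χ₀, ⟨?_, (hne _ _).2 ((hrecip φ χ₀).1 (mul_ne_zero_iff.1 hne0).1)⟩, fun χ hχ => huniq χ (fun g => ?_) ((hne _ _).1 hχ.2)⟩
    · obtain ⟨m, hm⟩ := classInner_character_nat (isCharacter_indFun N (isCharacter_of_irr φ.2)) χ₀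
      show ind (χ₀ : G → ℂ) = 1
      rcases (fs_trichotomy χ₀.2).1 with e | e | e
      · exact absurd e (mul_ne_zero_iff.1 hne0).2
      · exact e
      · rw [hm, e, mul_neg, mul_one] at hsum
        have : ((m : ℂ)).re = (-1 : ℂ).re := by rw [← hsum, neg_neg]
        simp at this
        have h0 : (0 : ℝ) ≤ m := Nat.cast_nonneg m
        linarith
    · by_contra hg
      have := ind_nonreal χ.2 ⟨g, hg⟩
      rw [ind, hχ.1] at this
      exact one_ne_zero this
  · intro χ _ hχ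
    by_contra h0
    refine hχ (huniq χ (fun g => ?_) ((hrecip φ χ).1 (mul_ne_zero_iff.1 h0).1))
    by_contra hg
    exact (mul_ne_zero_iff.1 h0).2 (ind_nonreal χ.2 ⟨g, hg⟩)
  · exact fun h => absurd (Finset.mem_univ _) h

end Cfsg.Agent.S4873
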