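import Cfsg.Statements.S4885
import Cfsg.Agent.Blocks.PrincipalSolvable
import Cfsg.Agent.Transfer.Tate
import Cfsg.Agent.PCore.PSolvable
import Cfsg.Agent.CoprimeAction.Conjugacy
import Cfsg.Agent.CoprimeAction.Frattini
-- import your own Cfsg.Agent.* helpers here

set_option autoImplicit false
open Cfsg

namespace Cfsg.Agent.S4885

open scoped Pointwise in
/-- A normal `p`-subgroup inside the derived subgroup of every Sylow `p`-subgroup lies in the Frattini subgroup. -/
theorem le_frattini_of_le_commutator {G : Type*} [Group G] [Finite G] {p : ℕ} [Fact p.Prime] (A : Subgroup G)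
    [A.Normal] (hA : IsPGroup p A) (h : ∀ P : Sylow p G, A ≤ ⁅(P : Subgroup G), (P : Subgroup G)⁆) :
    A ≤ frattini G := by
  refine le_iInf₂ fun M hM => ?_
  by_contra hAM
  have htop : A ⊔ M = ⊤ := hM.2 _ (lt_of_le_of_ne le_sup_right fun e => hAM (e ▸ le_sup_left))
  obtain ⟨S⟩ : Nonempty (Sylow p M) := inferInstance
  obtain ⟨P, hP⟩ := (S.isPGroup'.map M.subtype).exists_le_sylow
  have hAP : A ≤ (P : Subgroup G) := (h P).trans (Subgroup.commutator_le_self _)
  have hmeet : (P : Subgroup G) ⊓ M = (S : Subgroup M).map M.subtype := by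
    refine le_antisymm ?_ (le_inf hP (Subgroup.map_subtype_le _))
    intro x hx
    have hT : IsPGroup p ((P : Subgroup G).subgroupOf M) :=
      P.isPGroup'.comap_of_injective M.subtype M.subtype_injective
    have hle : (S : Subgroup M) ≤ (P : Subgroup G).subgroupOf M := fun y hy => hP ⟨y, hy, rfl⟩
    exact ⟨⟨x, hx.2⟩, (S.3 hT hle).le (show (⟨x, hx.2⟩ : M) ∈ (P : Subgroup G).subgroupOf M from hx.1), rfl⟩
  have hsup : A.subgroupOf (P : Subgroup G) ⊔ M.subgroupOf (P : Subgroup G) = ⊤ := by
    rw [eq_top_iff]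
    intro x _
    obtain ⟨a, ha, m, hm, he⟩ := Subgroup.mem_sup_of_normal_left.1 (htop ▸ Subgroup.mem_top (x : G))
    have hmP : m ∈ (P : Subgroup G) := by
      have : m = a⁻¹ * x := by rw [← he, inv_mul_cancel_left]
      rw [this]
      exact (P : Subgroup G).mul_mem ((P : Subgroup G).inv_mem (hAP ha)) x.2
    rw [show x = ⟨a, hAP ha⟩ * ⟨m, hmP⟩ from Subtype.ext he.symm]
    exact Subgroup.mul_mem _ (Subgroup.mem_sup_left ha) (Subgroup.mem_sup_right hm)
  have hle : A.subgroupOf (P : Subgroup G) ≤ frattini (P : Subgroup G) := by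
    intro x hx
    have h' := h P hx
    rw [← Subgroup.map_subtype_commutator] at h'
    obtain ⟨y, hy, hyx⟩ := h'
    rw [← Subtype.ext hyx]
    exact CfsgLib.CoprimeAction.commutator_le_frattini' P.isPGroup' hy
  have hPM : M.subgroupOf (P : Subgroup G) = ⊤ := by
    refine frattini_nongenerating (top_le_iff.1 ?_)
    rw [← hsup, sup_comm]
    exact sup_le_sup_left hle _
  refine hAM fun a ha => ?_
  have := Subgroup.mem_top (⟨a, hAP ha⟩ : (P : Subgroup G))
  rw [← hPM] at this
  exact this

open scoped Pointwise in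
/-- No nontrivial group has both coprime cores inside the Frattini subgroup. -/
theorem no_small_cores {G : Type*} [Group G] [Finite G] {p q : ℕ} [Fact p.Prime] [Fact q.Prime] (hpq : p ≠ q)
    (hp : p ∣ Nat.card G) (hs : Cfsg.IsPSolvable p G)
    (hA : Cfsg.pPrimeCore q G ≤ frattini G) (hAp : IsPGroup p (Cfsg.pPrimeCore q G))
    (hB : Cfsg.pPrimeCore p G ≤ frattini G) : False := by
  classical
  have hne : frattini G ≠ ⊤ := by
    intro h
    have hcard : Nat.card G ≠ 1 := fun e => (Fact.out : p.Prime).not_dvd_one (e ▸ hp)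
    have : (⊥ : Subgroup G) = ⊤ := frattini_nongenerating (by rw [h, sup_top_eq])
    exact hcard (by rw [← Subgroup.card_top (G := G), ← this, Subgroup.card_bot])
  haveI : Nontrivial (G ⧸ frattini G) := by
    rw [← Finite.one_lt_card_iff_nontrivial]
    exact Subgroup.one_lt_index_of_ne_top hne
  rcases CfsgLib.PCore.cores_ne_bot (CfsgLib.PCore.isPSolvable_quotient hs (frattini G)) with h | h
  · -- a p-group over the Frattini subgroup
    refine h (eq_bot_iff.2 fun x hx => ?_)
    haveI : (Cfsg.pCore p (G ⧸ frattini G)).Normal := Cfsg.pCore_normal p (G ⧸ frattini G)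
    set T := (Cfsg.pCore p (G ⧸ frattini G)).comap (QuotientGroup.mk' (frattini G)) with hT
    haveI hTn : T.Normal := inferInstance
    obtain ⟨S⟩ : Nonempty (Sylow p T) := inferInstance
    have hΦT : frattini G ≤ T := fun y hy => by
      rw [hT, Subgroup.mem_comap, QuotientGroup.mk'_apply, (QuotientGroup.eq_one_iff y).2 hy]
      exact Subgroup.one_mem _
    have hgen : (S : Subgroup T).map T.subtype ⊔ frattini G = T := by
      refine le_antisymm (sup_le (Subgroup.map_subtype_le _) hΦT) ?_
      have hpq' : IsPGroup p (T ⧸ (frattini G).subgroupOf T) := by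
        obtain ⟨k, hk⟩ := IsPGroup.iff_card.1 (CfsgLib.PCore.isPGroup_pCore p (G ⧸ frattini G))
        refine IsPGroup.of_card (n := k) ?_
        have h1 := Subgroup.card_eq_card_quotient_mul_card_subgroup ((frattini G).subgroupOf T)
        rw [Nat.card_congr (Subgroup.subgroupOfEquivOfLe hΦT).toEquiv, hT, CfsgLib.PCore.card_comap_mk', hk,
          mul_comm (Nat.card (frattini G))] at h1
        exact (Nat.eq_of_mul_eq_mul_right Nat.card_pos h1).symm
      obtain ⟨k, hk⟩ := IsPGroup.iff_card.1 hpq'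
      have htop : (frattini G).subgroupOf T ⊔ (S : Subgroup T) = ⊤ :=
        CfsgLib.Transfer.sup_sylow_eq_top (k := k) (by rw [Subgroup.index_eq_card, hk]) S
      intro y hy
      obtain ⟨a, ha, b, hb, he⟩ := Subgroup.mem_sup_of_normal_left.1 (htop ▸ Subgroup.mem_top (⟨y, hy⟩ : T))
      have hye : y = (a : G) * (b : G) := (congrArg Subtype.val he).symm
      rw [hye]
      exact Subgroup.mul_mem _ (Subgroup.mem_sup_right ha) (Subgroup.mem_sup_left ⟨b, hb, rfl⟩)
    have hN := Sylow.normalizer_sup_eq_top S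
    have hSn : Subgroup.normalizer (((S : Subgroup T).map T.subtype : Subgroup G) : Set G) = ⊤ := by
      refine frattini_nongenerating (top_le_iff.1 ?_)
      refine le_trans hN.ge (sup_le le_sup_left ?_)
      exact hgen.ge.trans (sup_le (le_sup_of_le_left Subgroup.le_normalizer) le_sup_right)
    haveI : ((S : Subgroup T).map T.subtype).Normal := Subgroup.normalizer_eq_top_iff.1 hSn
    have hSA : (S : Subgroup T).map T.subtype ≤ Cfsg.pPrimeCore q G := by
      refine CfsgLib.PCore.le_pPrimeCore_of_not_dvd inferInstance fun hd => ?_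
      obtain ⟨k, hk⟩ := IsPGroup.iff_card.1 (S.isPGroup'.map T.subtype)
      rw [hk] at hd
      exact hpq ((Nat.prime_dvd_prime_iff_eq Fact.out Fact.out).1 ((Fact.out : q.Prime).dvd_of_dvd_pow hd)).symm
    obtain ⟨g, rfl⟩ := QuotientGroup.mk'_surjective _ x
    have hg : g ∈ frattini G := by
      have hgT : g ∈ T := hx
      rw [← hgen] at hgT
      exact (sup_le (hSA.trans hA) le_rfl) hgT
    exact Subgroup.mem_bot.2 ((QuotientGroup.eq_one_iff g).2 hg)
  · -- a p'-group over the Frattini subgroup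
    refine h (eq_bot_iff.2 fun x hx => ?_)
    haveI : (Cfsg.pPrimeCore p (G ⧸ frattini G)).Normal := (CfsgLib.PCore.pPrimeCore_mem p _).1
    set T := (Cfsg.pPrimeCore p (G ⧸ frattini G)).comap (QuotientGroup.mk' (frattini G)) with hT
    haveI hTn : T.Normal := inferInstance
    have hΦT : frattini G ≤ T := fun y hy => by
      rw [hT, Subgroup.mem_comap, QuotientGroup.mk'_apply, (QuotientGroup.eq_one_iff y).2 hy]
      exact Subgroup.one_mem _
    -- the p-part of the Frattini subgroup
    haveI : Group.IsNilpotent (frattini G) := frattini_nilpotent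
    obtain ⟨R⟩ : Nonempty (Sylow p (frattini G)) := inferInstance
    have hRn : (R : Subgroup (frattini G)).Normal :=
      Sylow.normal_of_normalizerCondition Group.normalizerCondition_of_isNilpotent R
    haveI : ((R : Subgroup (frattini G)).map (frattini G).subtype).Normal := by
      haveI := R.characteristic_of_normal hRn
      infer_instance
    set A := (R : Subgroup (frattini G)).map (frattini G).subtype with hAdef
    have hAT : A ≤ T := (Subgroup.map_subtype_le _).trans hΦT
    have hcardA : Nat.card A = p ^ (Nat.card T).factorization p := by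
      rw [hAdef, Subgroup.card_map_of_injective (frattini G).subtype_injective, R.card_eq_multiplicity, hT,
        CfsgLib.PCore.card_comap_mk',
        Nat.factorization_mul Nat.card_pos.ne' Nat.card_pos.ne', Finsupp.add_apply,
        Nat.factorization_eq_zero_of_not_dvd (CfsgLib.PCore.not_dvd_card_pPrimeCore p (G ⧸ frattini G)), add_zero]
    haveI : (A.subgroupOf T).Normal := Subgroup.normal_subgroupOf
    have hAsub : Nat.card (A.subgroupOf T) = p ^ (Nat.card T).factorization p := by
      rw [Nat.card_congr (Subgroup.subgroupOfEquivOfLe hAT).toEquiv, hcardA]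
    have hidx : ¬ p ∣ (A.subgroupOf T).index := by
      intro hd
      have h1 := mul_dvd_mul_left (Nat.card (A.subgroupOf T)) hd
      rw [Subgroup.card_mul_index, hAsub, ← pow_succ] at h1
      exact Nat.pow_succ_factorization_not_dvd Nat.card_pos.ne' Fact.out h1
    have hcop : (Nat.card (A.subgroupOf T)).Coprime (A.subgroupOf T).index := by
      rw [hAsub]; exact ((Fact.out : p.Prime).coprime_iff_not_dvd.2 hidx).pow_left _
    obtain ⟨H, hH⟩ := Subgroup.exists_right_complement'_of_coprime hcop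
    have hsolA : Group.IsSolvable (A.subgroupOf T) := by
      have hpA : IsPGroup p (A.subgroupOf T) := IsPGroup.of_card hAsub
      haveI := hpA.isNilpotent
      infer_instance
    set H' := H.map T.subtype with hH'
    have hgenT : A ⊔ H' = T := by
      refine le_antisymm (sup_le hAT (Subgroup.map_subtype_le _)) fun y hy => ?_
      obtain ⟨a, ha, b, hb, he⟩ := Subgroup.mem_sup_of_normal_left.1 (hH.sup_eq_top ▸ Subgroup.mem_top (⟨y, hy⟩ : T))
      rw [show y = (a : G) * (b : G) from (congrArg Subtype.val he).symm]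
      exact Subgroup.mul_mem _ (Subgroup.mem_sup_left ha) (Subgroup.mem_sup_right ⟨b, hb, rfl⟩)
    have hHn : Subgroup.normalizer (H' : Set G) = ⊤ := by
      refine frattini_nongenerating (top_le_iff.1 fun g _ => ?_)
      let c : T ≃* T := MulAut.conjNormal g
      have hcA : (A.subgroupOf T).map c.toMonoidHom = A.subgroupOf T := by
        refine Subgroup.eq_of_le_of_card_ge ?_ (by rw [Subgroup.card_map_of_injective (f := c.toMonoidHom) c.injective])
        rintro _ ⟨y, hy, rfl⟩
        exact (inferInstance : A.Normal).conj_mem _ hy g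
      have hK : Subgroup.IsComplement' (A.subgroupOf T) (H.map c.toMonoidHom) := by
        apply Subgroup.isComplement'_of_coprime
        · rw [Subgroup.card_map_of_injective (f := c.toMonoidHom) c.injective]; exact hH.card_mul
        · rw [Subgroup.card_map_of_injective (f := c.toMonoidHom) c.injective, ← hH.symm.index_eq_card]; exact hcop
      obtain ⟨a, ha, hae⟩ := CfsgLib.CoprimeAction.complement_conj' (A.subgroupOf T) hcop (Or.inl hsolA) hH hK
      have hagN : (a : G)⁻¹ * g ∈ Subgroup.normalizer (H' : Set G) := by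
        refine Subgroup.mem_normalizer_iff.2 fun z => ?_
        constructor
        · rintro ⟨w, hw, rfl⟩
          have h1 : c w ∈ MulAut.conj a • H := hae ▸ ⟨w, hw, rfl⟩
          obtain ⟨v, hv, hvw⟩ := h1
          refine ⟨v, hv, ?_⟩
          have h2 : (a : G) * (v : G) * (a : G)⁻¹ = g * (w : G) * g⁻¹ := congrArg Subtype.val hvw
          show (v : G) = (a : G)⁻¹ * g * (w : G) * ((a : G)⁻¹ * g)⁻¹
          calc (v : G) = (a : G)⁻¹ * ((a : G) * (v : G) * (a : G)⁻¹) * (a : G) := by group
            _ = _ := by rw [h2]; group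
        · rintro ⟨v, hv, hvz⟩
          have h1 : (MulAut.conj a) v ∈ MulAut.conj a • H := ⟨v, hv, rfl⟩
          rw [hae] at h1
          obtain ⟨w, hw, hwv⟩ := h1
          refine ⟨w, hw, ?_⟩
          have h2 : g * (w : G) * g⁻¹ = (a : G) * (v : G) * (a : G)⁻¹ := congrArg Subtype.val hwv
          have h3 : (v : G) = (a : G)⁻¹ * g * z * ((a : G)⁻¹ * g)⁻¹ := hvz
          show (w : G) = z
          calc (w : G) = g⁻¹ * (g * (w : G) * g⁻¹) * g := by group
            _ = z := by rw [h2, h3]; group
      rw [sup_comm]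
      rw [show g = (a : G) * ((a : G)⁻¹ * g) by group]
      exact Subgroup.mul_mem _ (Subgroup.mem_sup_left (Subgroup.map_subtype_le _ ha)) (Subgroup.mem_sup_right hagN)
    haveI : H'.Normal := Subgroup.normalizer_eq_top_iff.1 hHn
    have hH'B : H' ≤ Cfsg.pPrimeCore p G := by
      refine CfsgLib.PCore.le_pPrimeCore_of_not_dvd inferInstance fun hd => hidx ?_
      rwa [hH', Subgroup.card_map_of_injective T.subtype_injective, ← hH.symm.index_eq_card] at hd
    obtain ⟨g, rfl⟩ := QuotientGroup.mk'_surjective _ x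
    have hg : g ∈ frattini G := by
      have hgT : g ∈ T := hx
      rw [← hgenT] at hgT
      exact (sup_le (Subgroup.map_subtype_le _) (hH'B.trans hB)) hgT
    exact Subgroup.mem_bot.2 ((QuotientGroup.eq_one_iff g).2 hg)

/-- Let p and q be primes dividing the order of the finite group G, and suppose G is p-solvable and q-solvable. Fix maximal ideals of the algebraic integers containing p and q, defining the principal p-block and the principal q-block. If the irreducible characters of degree prime to p in the principal p-block are exactly the irreducible characters of degree prime to q in the principal q-block, then p = q. -/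
theorem result {G : Type*} [Group G] [Finite G] (p q : ℕ) [Fact p.Prime] [Fact q.Prime] (hp : p ∣ Nat.card G) (hq : q ∣ Nat.card G) (hps : Cfsg.IsPSolvable p G) (hqs : Cfsg.IsPSolvable q G) (Mp Mq : Ideal Cfsg.AlgInt) (hMp : Cfsg.IsPModular p Mp) (hMq : Cfsg.IsPModular q Mq) (h : ∀ χ : Cfsg.IrrCharacter G, (χ ∈ Cfsg.principalBlock Mp G ∧ ¬ p ∣ Cfsg.charDegree (χ : G → ℂ)) ↔ (χ ∈ Cfsg.principalBlock Mq G ∧ ¬ q ∣ Cfsg.charDegree (χ : G → ℂ))) : p = q := by
  classical
  by_contra hpq
  set Kp := Cfsg.pPrimeCore p G with hKp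
  set Kq := Cfsg.pPrimeCore q G with hKq
  haveI hKpn : Kp.Normal := (CfsgLib.PCore.pPrimeCore_mem p G).1
  haveI hKqn : Kq.Normal := (CfsgLib.PCore.pPrimeCore_mem q G).1
  have hPc := CfsgLib.Blocks.PrincipalSolvable.inf_sylow_le_commutator hMp hps Kq fun χ hχ hd =>
    (CfsgLib.Blocks.PrincipalSolvable.mem_iff_core hMq hqs χ).1 ((h χ).1 ⟨hχ, hd⟩).1
  have hQc := CfsgLib.Blocks.PrincipalSolvable.inf_sylow_le_commutator hMq hqs Kp fun χ hχ hd =>
    (CfsgLib.Blocks.PrincipalSolvable.mem_iff_core hMp hps χ).1 ((h χ).2 ⟨hχ, hd⟩).1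
  set L := Kp ⊓ Kq with hL
  haveI : L.Normal := Subgroup.normal_inf_normal Kp Kq
  let f := QuotientGroup.mk' L
  have key : ∀ (r s : ℕ) [Fact r.Prime] [Fact s.Prime], Cfsg.pPrimeCore r G ⊓ Cfsg.pPrimeCore s G = L →
      (∀ P : Sylow r G, Cfsg.pPrimeCore s G ⊓ (P : Subgroup G) ≤ ⁅(P : Subgroup G), (P : Subgroup G)⁆) →
      Cfsg.pPrimeCore s (G ⧸ L) ≤ frattini (G ⧸ L) ∧ IsPGroup r (Cfsg.pPrimeCore s (G ⧸ L)) := by
    intro r s _ _ hrs hcom
    have hls : L ≤ Cfsg.pPrimeCore s G := hrs ▸ inf_le_right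
    haveI hsn : (Cfsg.pPrimeCore s G).Normal := (CfsgLib.PCore.pPrimeCore_mem s G).1
    have heq : Cfsg.pPrimeCore s (G ⧸ L) = (Cfsg.pPrimeCore s G).map f := by
      refine le_antisymm (fun x hx => ?_) (CfsgLib.PCore.map_pPrimeCore_le f (QuotientGroup.mk'_surjective L))
      obtain ⟨g, rfl⟩ := QuotientGroup.mk'_surjective L x
      haveI : (Cfsg.pPrimeCore s (G ⧸ L)).Normal := (CfsgLib.PCore.pPrimeCore_mem s _).1
      refine ⟨g, ?_, rfl⟩
      refine CfsgLib.PCore.le_pPrimeCore (N := (Cfsg.pPrimeCore s (G ⧸ L)).comap f) inferInstance ?_ hx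
      rw [CfsgLib.PCore.card_comap_mk']
      exact ((CfsgLib.PCore.pPrimeCore_coprime s G).coprime_dvd_left (Subgroup.card_dvd_of_le hls)).mul_left
        (CfsgLib.PCore.pPrimeCore_coprime s (G ⧸ L))
    obtain ⟨P₀⟩ : Nonempty (Sylow r G) := inferInstance
    have htate : Cfsg.HasNormalPComplement r (Cfsg.pPrimeCore s G) := by
      refine CfsgLib.Transfer.tate P₀ _ ((hcom P₀).trans ?_)
      rw [← Subgroup.map_subtype_commutator]
      exact Subgroup.map_mono (CfsgLib.CoprimeAction.commutator_le_frattini' P₀.isPGroup')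
    have hpg : IsPGroup r (Cfsg.pPrimeCore s (G ⧸ L)) := by
      rw [heq]
      rintro ⟨_, g, hg, rfl⟩
      obtain ⟨a, b, hab, hc, ⟨k, hk⟩, hbcop, haz, hbz⟩ := CfsgLib.Transfer.exists_pPart_mul (p := r) g
      have hbs : b ∈ Cfsg.pPrimeCore s G := (Subgroup.zpowers_le.2 hg) hbz
      have hbr : b ∈ Cfsg.pPrimeCore r G := by
        obtain ⟨P, N, hNn, hNc⟩ := htate
        obtain ⟨j, hj⟩ := CfsgLib.Transfer.index_of_isComplement' hNc
        haveI := hNn
        have hNd := CfsgLib.Transfer.not_dvd_card_of_isComplement' hNc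
        have hres : N = Cfsg.pResidual r (Cfsg.pPrimeCore s G) := CfsgLib.Transfer.eq_pResidual hNd hj
        have hmem : (⟨b, hbs⟩ : Cfsg.pPrimeCore s G) ∈ N := by
          rw [hres]; exact CfsgLib.Transfer.mem_pResidual_of_coprime (by rwa [Subgroup.orderOf_mk])
        haveI : N.Characteristic := hres ▸ CfsgLib.Transfer.pResidual_characteristic
        refine CfsgLib.PCore.le_pPrimeCore_of_not_dvd (N := N.map (Cfsg.pPrimeCore s G).subtype) inferInstance ?_
          ⟨_, hmem, rfl⟩
        rwa [Subgroup.card_map_of_injective (Cfsg.pPrimeCore s G).subtype_injective]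
      refine ⟨k, Subtype.ext ?_⟩
      show (f g) ^ r ^ k = 1
      have hfb : f b = 1 := (QuotientGroup.eq_one_iff b).2 (hrs ▸ ⟨hbr, hbs⟩)
      rw [hab, map_mul, hfb, mul_one, ← map_pow, ← hk, pow_orderOf_eq_one, map_one]
    refine ⟨?_, hpg⟩
    haveI : (Cfsg.pPrimeCore s (G ⧸ L)).Normal := (CfsgLib.PCore.pPrimeCore_mem s _).1
    refine le_frattini_of_le_commutator _ hpg fun Pb x hx => ?_
    obtain ⟨c, hc⟩ := MulAction.exists_smul_eq (G ⧸ L) (P₀.mapSurjective (QuotientGroup.mk'_surjective L)) Pb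
    obtain ⟨cg, rfl⟩ := QuotientGroup.mk'_surjective L c
    have hPb : (Pb : Subgroup (G ⧸ L)) = ((cg • P₀ : Sylow r G) : Subgroup G).map f := by
      rw [← hc, Sylow.coe_subgroup_smul, Sylow.coe_subgroup_smul]
      ext z
      constructor
      · rintro ⟨_, ⟨w, hw, rfl⟩, rfl⟩
        exact ⟨_, ⟨w, hw, rfl⟩, by simp [f]⟩
      · rintro ⟨_, ⟨w, hw, rfl⟩, rfl⟩
        exact ⟨_, ⟨w, hw, rfl⟩, by simp [f]⟩
    have hxP : x ∈ (Pb : Subgroup (G ⧸ L)) := hpg.le_sylow_of_normal Pb hx
    rw [heq] at hx
    obtain ⟨g, hg, rfl⟩ := hx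
    rw [hPb] at hxP ⊢
    obtain ⟨w, hw, hwg⟩ := hxP
    have hws : w ∈ Cfsg.pPrimeCore s G := by
      have hd : g⁻¹ * w ∈ L := QuotientGroup.eq.1 hwg.symm
      simpa using mul_mem hg (hls hd)
    rw [← Subgroup.map_commutator, ← hwg]
    exact ⟨w, hcom _ ⟨hws, hw⟩, rfl⟩
  haveI : Fact p.Prime := inferInstance
  obtain ⟨hA, hAp⟩ := key p q rfl hPc
  obtain ⟨hB, -⟩ := key q p (inf_comm _ _) hQc
  refine no_small_cores hpq ?_ (CfsgLib.PCore.isPSolvable_quotient hps L) hA hAp hB
  rw [← Subgroup.index_eq_card L]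
  have hd : ¬ p ∣ Nat.card L := fun hd =>
    CfsgLib.PCore.not_dvd_card_pPrimeCore p G (hd.trans (Subgroup.card_dvd_of_le inf_le_left))
  exact ((Fact.out : p.Prime).dvd_mul.1 ((L.card_mul_index).symm ▸ hp)).resolve_left hd

end Cfsg.Agent.S4885
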