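import Cfsg.Statements.S4888
import Cfsg.Agent.S0939
import Cfsg.Agent.Transfer.Tate
import Cfsg.Agent.Transfer.FrattiniP
import Cfsg.Agent.Clifford.ExtCriteria
import Cfsg.Agent.CharBasics.LinearOver
import Cfsg.Agent.CharBasics.ModP
import Cfsg.Agent.Blocks.Idempotent
-- import your own Cfsg.Agent.* helpers here

set_option autoImplicit false
open Cfsg

namespace Cfsg.Agent.S4888

/-- Let G be a finite group, p a prime and M a maximal ideal of the algebraic integers containing p. Then all height-zero irreducible characters of the principal p-block of G (equivalently, all its characters of degree prime to p) have the same degree if and only if G has a normal p-complement. -/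
theorem result {G : Type*} [Group G] [Finite G] (p : ℕ) [Fact p.Prime] (M : Ideal Cfsg.AlgInt) (hM : Cfsg.IsPModular p M) : (∃ d : ℕ, ∀ χ : Cfsg.IrrCharacter G, χ ∈ (Cfsg.principalBlock M G) → Cfsg.blockHeight p (Cfsg.principalBlock M G) (χ : G → ℂ) = 0 → Cfsg.charDegree (χ : G → ℂ) = d) ↔ Cfsg.HasNormalPComplement p G := by
  classical
  haveI := Fintype.ofFinite G
  haveI := Fintype.ofFinite (Cfsg.IrrCharacter G)
  have hp : p.Prime := Fact.out
  set B := Cfsg.principalBlock M G with hB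
  have hBb : Cfsg.IsPBlock M B := CfsgLib.Blocks.isPBlock_principal
  have h1B : (CfsgLib.CharBasics.oneChar : Cfsg.IrrCharacter G) ∈ B := CfsgLib.Blocks.oneChar_mem_principal hM
  have hone : Cfsg.charDegree (fun _ : G => (1 : ℂ)) = 1 := by simp [Cfsg.charDegree]
  have hs0 : sInf ((fun ψ : Cfsg.IrrCharacter G => (Cfsg.charDegree (ψ : G → ℂ)).factorization p) '' B) = 0 :=
    Nat.sInf_eq_zero.2 (Or.inl ⟨CfsgLib.CharBasics.oneChar, h1B, by
      show (Cfsg.charDegree (fun _ : G => (1 : ℂ))).factorization p = 0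
      rw [hone]; simp⟩)
  have hh : ∀ χ : Cfsg.IrrCharacter G,
      Cfsg.blockHeight p B (χ : G → ℂ) = 0 ↔ ¬ p ∣ Cfsg.charDegree (χ : G → ℂ) := by
    intro χ
    rw [Cfsg.blockHeight, hs0, Nat.sub_zero, Nat.factorization_eq_zero_iff]
    simp [hp, (CfsgLib.CharBasics.charDegree_pos χ.2).ne']
  constructor
  swap
  · intro hN
    have hpi : ∃ k : ℕ, (Cfsg.pPrimeCore p G).index = p ^ k := by
      obtain ⟨P, N, hNn, hc⟩ := hN
      obtain ⟨k, hk⟩ := CfsgLib.Transfer.index_of_isComplement' hc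
      have hle : N ≤ Cfsg.pPrimeCore p G :=
        CfsgLib.PCore.le_pPrimeCore_of_not_dvd hNn (CfsgLib.Transfer.not_dvd_card_of_isComplement' hc)
      obtain ⟨j, -, hj⟩ := (Nat.dvd_prime_pow hp).1 (hk ▸ Subgroup.index_dvd_of_le hle)
      exact ⟨j, hj⟩
    refine ⟨1, fun χ hχ hht => ?_⟩
    rw [hh] at hht
    haveI : (Cfsg.pPrimeCore p G).Normal := (CfsgLib.PCore.pPrimeCore_mem p G).1
    rw [hB, Cfsg.Agent.S0939.result p M hM hpi] at hχ
    obtain ⟨ψ, hψ⟩ := CfsgLib.CharBasics.exists_quotient_irr χ (Cfsg.pPrimeCore p G) hχ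
    have hdeg : Cfsg.charDegree (ψ : G ⧸ Cfsg.pPrimeCore p G → ℂ) = Cfsg.charDegree (χ : G → ℂ) := by
      rw [Cfsg.charDegree, Cfsg.charDegree, ← hψ 1]; rfl
    obtain ⟨k, hk⟩ := hpi
    have hdvd : Cfsg.charDegree (χ : G → ℂ) ∣ p ^ k := by
      rw [← hdeg, ← hk]; exact CfsgLib.CharBasics.degree_dvd ψ
    obtain ⟨j, -, hj⟩ := (Nat.dvd_prime_pow hp).1 hdvd
    rcases Nat.eq_zero_or_pos j with rfl | hj0
    · simpa using hj
    · exact absurd (hj ▸ dvd_pow_self p hj0.ne') hht
  rintro ⟨d, hd⟩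
  have hd1 : d = 1 := by
    have := hd _ h1B ((hh _).2 (by show ¬ p ∣ Cfsg.charDegree (fun _ : G => (1 : ℂ)); rw [hone]; exact hp.not_dvd_one))
    rw [← this]; exact hone
  subst hd1
  have hlin : ∀ χ ∈ B, Cfsg.charDegree (χ : G → ℂ) ≠ 1 → p ∣ Cfsg.charDegree (χ : G → ℂ) := fun χ hχ hne => by
    by_contra h
    exact hne (hd χ hχ ((hh χ).2 h))
  obtain ⟨P⟩ : Nonempty (Sylow p G) := inferInstance
  haveI := Fintype.ofFinite (P : Subgroup G)
  set S := Finset.univ.filter fun χ : Cfsg.IrrCharacter G => χ ∈ B with hS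
  -- the regular character of the block on `P`
  have hvan : ∀ x : (P : Subgroup G), x ≠ 1 → ∑ χ ∈ S, (Cfsg.charDegree (χ : G → ℂ) : ℂ) * (χ : G → ℂ) x = 0 := by
    intro x hx
    have hpx : p ∣ orderOf (x : G) := by
      obtain ⟨k, hk⟩ := IsPGroup.iff_orderOf.1 P.isPGroup' x
      rw [Subgroup.orderOf_coe, hk]
      refine dvd_pow_self p fun h0 => hx ?_
      rw [← orderOf_eq_one_iff, hk, h0, pow_zero]
    have h := CfsgLib.Blocks.weak_block_orth hM hBb (x := (1 : G)) (by simp [hp.ne_one]) hpx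
    rw [finsum_mem_def, finsum_eq_sum_of_fintype] at h
    have h' := congrArg (starRingEnd ℂ) h
    rw [map_sum, map_zero] at h'
    rw [hS, Finset.sum_filter]
    refine (Finset.sum_congr rfl fun χ _ => ?_).trans h'
    rw [Set.indicator_apply]
    split_ifs
    · rw [map_mul, Complex.conj_conj, CfsgLib.CharBasics.apply_one (CfsgLib.CharBasics.isCharacter_of_irr χ.2),
        Complex.conj_natCast]
    · rw [map_zero]
  let mult : ((P : Subgroup G) →* ℂ) → Cfsg.IrrCharacter G → ℕ := fun μ χ =>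
    (CfsgLib.CharBasics.classInner_characters_nat (G := (P : Subgroup G))
      (CfsgLib.Clifford.isCharacter_restrict (CfsgLib.CharBasics.isCharacter_of_irr χ.2) (P : Subgroup G))
      (CfsgLib.Clifford.isCharacter_of_hom μ)).choose
  have hmult : ∀ (μ : (P : Subgroup G) →* ℂ) (χ : Cfsg.IrrCharacter G), Cfsg.classInner (fun x : (P : Subgroup G) => (χ : G → ℂ) x) (fun x => μ x) = (mult μ χ : ℂ) :=
    fun μ χ => (CfsgLib.CharBasics.classInner_characters_nat (G := (P : Subgroup G))
      (CfsgLib.Clifford.isCharacter_restrict (CfsgLib.CharBasics.isCharacter_of_irr χ.2) (P : Subgroup G))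
      (CfsgLib.Clifford.isCharacter_of_hom μ)).choose_spec
  have hconst : ∀ μ : (P : Subgroup G) →* ℂ,
      ∑ χ ∈ S, Cfsg.charDegree (χ : G → ℂ) * mult μ χ = ∑ χ ∈ S, Cfsg.charDegree (χ : G → ℂ) * mult 1 χ := by
    have key : ∀ μ : (P : Subgroup G) →* ℂ, ((∑ χ ∈ S, Cfsg.charDegree (χ : G → ℂ) * mult μ χ : ℕ) : ℂ) =
        (Nat.card (P : Subgroup G) : ℂ)⁻¹ * ∑ χ ∈ S, (Cfsg.charDegree (χ : G → ℂ) : ℂ) * (χ : G → ℂ) 1 := by
      intro μ
      push_cast
      simp only [← hmult, CfsgLib.CharBasics.classInner_eq, Finset.mul_sum]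
      rw [Finset.sum_comm, Finset.sum_eq_single (1 : (P : Subgroup G))]
      · refine Finset.sum_congr rfl fun χ _ => ?_
        simp
        ring
      · intro x _ hx
        have h := hvan x hx
        calc _ = (Nat.card (P : Subgroup G) : ℂ)⁻¹ * (starRingEnd ℂ) (μ x) *
            ∑ χ ∈ S, (Cfsg.charDegree (χ : G → ℂ) : ℂ) * (χ : G → ℂ) x := by
              rw [Finset.mul_sum]; exact Finset.sum_congr rfl fun χ _ => by ring
          _ = 0 := by rw [h, mul_zero]
      · simp
    exact fun μ => Nat.cast_injective ((key μ).trans (key 1).symm)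
  -- the linear members of the block
  let lins : ((P : Subgroup G) →* ℂ) → Finset (Cfsg.IrrCharacter G) := fun μ =>
    S.filter fun χ : Cfsg.IrrCharacter G => Cfsg.charDegree (χ : G → ℂ) = 1 ∧ ∀ x : (P : Subgroup G), (χ : G → ℂ) x = μ x
  have hmod : ∀ μ : (P : Subgroup G) →* ℂ,
      ∑ χ ∈ S, Cfsg.charDegree (χ : G → ℂ) * mult μ χ ≡ (lins μ).card [MOD p] := by
    intro μ
    rw [Finset.card_filter, ← ZMod.natCast_eq_natCast_iff, Nat.cast_sum, Nat.cast_sum]
    refine Finset.sum_congr rfl fun χ hχ => ?_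
    have hχB : χ ∈ B := (Finset.mem_filter.1 hχ).2
    by_cases h1 : Cfsg.charDegree (χ : G → ℂ) = 1
    · rw [h1, one_mul]
      let f : (P : Subgroup G) →* ℂ := (CfsgLib.CharBasics.linHomOf χ h1).comp (P : Subgroup G).subtype
      have hfv : ∀ x : (P : Subgroup G), (χ : G → ℂ) x = f x := fun x => rfl
      have hm := hmult μ χ
      by_cases he : ∀ x : (P : Subgroup G), (χ : G → ℂ) x = μ x
      · rw [if_pos ⟨rfl, he⟩, funext he, CfsgLib.CharBasics.classInner_self
          (CfsgLib.Clifford.isIrrCharacter_of_hom μ)] at *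
        rw [show mult μ χ = 1 by exact_mod_cast hm.symm]
      · rw [if_neg (fun h => he h.2)]
        rw [funext hfv, CfsgLib.CharBasics.classInner_ne (CfsgLib.Clifford.isIrrCharacter_of_hom f)
          (CfsgLib.Clifford.isIrrCharacter_of_hom μ) (fun h => he fun x => congrFun h x)] at hm
        rw [show mult μ χ = 0 by exact_mod_cast hm.symm]
    · rw [if_neg (fun h => h1 h.1), Nat.cast_mul,
        (ZMod.natCast_eq_zero_iff _ _).2 (hlin χ hχB h1), zero_mul, Nat.cast_zero]
  -- the members trivial on `P` form a group of order prime to `p`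
  let Hs : Subgroup (G →* ℂˣ) :=
    { carrier := {f | (∀ x ∈ (P : Subgroup G), f x = 1) ∧ ∀ g : G,
        Cfsg.MemLocalIdeal M (((Subgroup.centralizer ({g} : Set G)).index : ℂ) * (((f g : ℂˣ) : ℂ) - 1))}
      one_mem' := ⟨fun _ _ => rfl, fun g => by simpa using CfsgLib.Blocks.memLocalIdeal_zero hM⟩
      mul_mem' := by
        intro a b ha hb
        refine ⟨fun x hx => by rw [MonoidHom.mul_apply, ha.1 x hx, hb.1 x hx, one_mul], fun g => ?_⟩
        have hint : IsIntegral ℤ ((a g : ℂˣ) : ℂ) :=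
          IsIntegral.of_pow Nat.card_pos (by
            rw [← Units.val_pow_eq_pow_val, ← map_pow, pow_card_eq_one', map_one, Units.val_one]
            exact isIntegral_one)
        have := CfsgLib.Blocks.memLocalIdeal_add hM (CfsgLib.Blocks.memLocalIdeal_mul_left hM
          (CfsgLib.Blocks.memLocalRing_of_isIntegral hM hint) (hb.2 g)) (ha.2 g)
        convert this using 1
        rw [MonoidHom.mul_apply, Units.val_mul]; ring
      inv_mem' := by
        intro a ha
        refine ⟨fun x hx => by rw [MonoidHom.inv_apply, ha.1 x hx, inv_one], fun g => ?_⟩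
        have hint : IsIntegral ℤ (((a g)⁻¹ : ℂˣ) : ℂ) :=
          IsIntegral.of_pow Nat.card_pos (by
            rw [← Units.val_pow_eq_pow_val, inv_pow, ← map_pow, pow_card_eq_one', map_one, inv_one, Units.val_one]
            exact isIntegral_one)
        have := CfsgLib.Blocks.memLocalIdeal_neg (CfsgLib.Blocks.memLocalIdeal_mul_left hM
          (CfsgLib.Blocks.memLocalRing_of_isIntegral hM hint) (ha.2 g))
        convert this using 1
        rw [MonoidHom.inv_apply]
        have h1 : (((a g)⁻¹ : ℂˣ) : ℂ) * ((a g : ℂˣ) : ℂ) = 1 := Units.inv_mul (a g)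
        linear_combination ((Subgroup.centralizer ({g} : Set G)).index : ℂ) * h1 }
  have hsame : ∀ χ : Cfsg.IrrCharacter G, Cfsg.charDegree (χ : G → ℂ) = 1 → (χ ∈ B ↔ ∀ g : G,
      Cfsg.MemLocalIdeal M (((Subgroup.centralizer ({g} : Set G)).index : ℂ) * ((χ : G → ℂ) g - 1))) := by
    intro χ h1
    rw [hB]
    show (∀ g : G, Cfsg.MemLocalIdeal M (Cfsg.centralChar (fun _ : G => (1 : ℂ)) g - Cfsg.centralChar (χ : G → ℂ) g)) ↔ _
    refine forall_congr' fun g => ?_
    have e : Cfsg.centralChar (fun _ : G => (1 : ℂ)) g - Cfsg.centralChar (χ : G → ℂ) g =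
        -(((Subgroup.centralizer ({g} : Set G)).index : ℂ) * ((χ : G → ℂ) g - 1)) := by
      rw [Cfsg.centralChar, Cfsg.centralChar, CfsgLib.CharBasics.apply_one (CfsgLib.CharBasics.isCharacter_of_irr χ.2),
        h1, Nat.cast_one]
      ring
    rw [e]
    exact ⟨fun h => by simpa using CfsgLib.Blocks.memLocalIdeal_neg h, CfsgLib.Blocks.memLocalIdeal_neg⟩
  haveI : Finite (G →* ℂˣ) := Finite.of_injective (fun f : G →* ℂˣ =>
      (⟨fun g => ((f g : ℂˣ) : ℂ), CfsgLib.Clifford.isIrrCharacter_of_hom ((Units.coeHom ℂ).comp f)⟩ : Cfsg.IrrCharacter G))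
    fun a b h => MonoidHom.ext fun g => Units.ext (congrFun (congrArg Subtype.val h) g)
  have hH : Nat.card Hs = (lins 1).card := by
    rw [← Fintype.card_coe, ← Nat.card_eq_fintype_card]
    refine Nat.card_eq_of_bijective (fun f => ⟨⟨fun g => ((f.1 g : ℂˣ) : ℂ),
      CfsgLib.Clifford.isIrrCharacter_of_hom ((Units.coeHom ℂ).comp f.1)⟩, ?_⟩) ⟨?_, ?_⟩
    · have h1 : Cfsg.charDegree (fun g => ((f.1 g : ℂˣ) : ℂ)) = 1 := by simp [Cfsg.charDegree]
      refine Finset.mem_filter.2 ⟨Finset.mem_filter.2 ⟨Finset.mem_univ _, (hsame _ h1).2 f.2.2⟩, h1, fun x => ?_⟩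
      show ((f.1 x : ℂˣ) : ℂ) = 1
      rw [f.2.1 x x.2, Units.val_one]
    · intro a b h
      exact Subtype.ext (MonoidHom.ext fun g => Units.ext (congrFun (congrArg Subtype.val (congrArg Subtype.val h)) g))
    · rintro ⟨χ, hχ⟩
      obtain ⟨hχS, h1, htriv⟩ := Finset.mem_filter.1 hχ
      refine ⟨⟨(CfsgLib.CharBasics.linHomOf χ h1).toHomUnits, fun x hx => Units.ext (htriv ⟨x, hx⟩),
        (hsame χ h1).1 (Finset.mem_filter.1 hχS).2⟩, Subtype.ext (Subtype.ext rfl)⟩
  have hHp : ¬ p ∣ Nat.card Hs := by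
    intro hdvd
    obtain ⟨f, hf⟩ := exists_prime_orderOf_dvd_card' p hdvd
    have hfp : ∀ g : G, (f.1 g) ^ p = 1 := fun g => by
      have := pow_orderOf_eq_one f
      rw [hf] at this
      rw [← MonoidHom.pow_apply, ← SubmonoidClass.coe_pow, this]; rfl
    have : f = 1 := by
      refine Subtype.ext (MonoidHom.ext fun g => ?_)
      obtain ⟨x, y, hxy, -, hx, hy⟩ : ∃ x y : G, x * y = g ∧ Commute x y ∧ (∃ k, orderOf x = p ^ k) ∧ ¬ p ∣ orderOf y := by
        obtain ⟨a, b, h1, h2, h3, h4, -, -⟩ := CfsgLib.Transfer.exists_pPart_mul (p := p) g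
        exact ⟨a, b, h1.symm, h2, h3, hp.coprime_iff_not_dvd.1 h4.symm⟩
      have hy1 : f.1 y = 1 := by
        have h1 : orderOf (f.1 y) ∣ p := orderOf_dvd_of_pow_eq_one (hfp y)
        have h2 : orderOf (f.1 y) ∣ orderOf y := orderOf_map_dvd f.1 y
        exact orderOf_eq_one_iff.1 (Nat.eq_one_of_dvd_coprimes (hp.coprime_iff_not_dvd.2 hy) h1 h2)
      have hx1 : f.1 x = 1 := by
        obtain ⟨k, hk⟩ := hx
        obtain ⟨Q, hQ⟩ := (IsPGroup.of_card (n := k) (by rw [Nat.card_zpowers, hk]) :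
          IsPGroup p (Subgroup.zpowers x)).exists_le_sylow
        obtain ⟨c, rfl⟩ := MulAction.exists_smul_eq G P Q
        obtain ⟨z, hz, rfl⟩ := hQ (Subgroup.mem_zpowers x)
        show f.1 (c * z * c⁻¹) = 1
        rw [map_mul, map_mul, f.2.1 z hz, mul_one, map_inv, mul_inv_cancel]
      rw [← hxy, map_mul, hx1, hy1, one_mul]; rfl
    rw [this, orderOf_one] at hf
    exact hp.ne_one hf.symm
  -- every linear character of `P` extends
  have hext : ∀ μ : (P : Subgroup G) →* ℂ, ∃ f : G →* ℂ, ∀ x : (P : Subgroup G), f x = μ x := by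
    intro μ
    have h := ((hmod μ).symm.trans (by rw [hconst μ])).trans (hmod 1)
    have hne : (lins μ).Nonempty := by
      rw [Finset.nonempty_iff_ne_empty]
      intro h0
      rw [h0, Finset.card_empty, ← hH] at h
      exact hHp (Nat.modEq_zero_iff_dvd.1 h.symm)
    obtain ⟨χ, hχ⟩ := hne
    obtain ⟨-, h1, hv⟩ := Finset.mem_filter.1 hχ
    exact ⟨CfsgLib.CharBasics.linHomOf χ h1, hv⟩
  refine CfsgLib.Transfer.tate_residual P fun x hx => ?_
  have hxc : x ∈ commutator (P : Subgroup G) := by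
    by_contra hxc
    have hne : Abelianization.of x ≠ 1 := fun h => hxc ((QuotientGroup.eq_one_iff x).1 h)
    obtain ⟨φ, hφ⟩ := CommGroup.exists_apply_ne_one_of_hasEnoughRootsOfUnity (Abelianization (P : Subgroup G)) ℂ hne
    obtain ⟨f, hf⟩ := hext ((Units.coeHom ℂ).comp (φ.comp Abelianization.of))
    apply hφ
    apply Units.ext
    refine (hf x).symm.trans ?_
    have hcop : (Nat.card (P : Subgroup G)).Coprime (P : Subgroup G).index := P.card_coprime_index
    obtain ⟨m, hm1, hm0⟩ := Nat.chineseRemainder hcop 1 0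
    have hxm : (x : G) ^ m = x := by
      rw [← pow_one (x : G), ← pow_mul, one_mul, pow_eq_pow_iff_modEq]
      exact hm1.of_dvd (by rw [Subgroup.orderOf_coe]; exact orderOf_dvd_natCard x)
    have hker : ∀ g ∈ Cfsg.pResidual p G, f g ^ m = 1 := by
      intro g hg
      induction hg using Subgroup.closure_induction with
      | mem g hg =>
        rw [← map_pow]
        have : orderOf g ∣ m := by
          have h1 : orderOf g ∣ Nat.card (P : Subgroup G) * (P : Subgroup G).index := by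
            rw [Subgroup.card_mul_index]; exact orderOf_dvd_natCard g
          obtain ⟨k, hk⟩ := IsPGroup.iff_card.1 P.isPGroup'
          rw [hk] at h1
          exact ((Nat.Coprime.pow_right k hg).dvd_of_dvd_mul_left h1).trans (Nat.modEq_zero_iff_dvd.1 hm0)
        rw [orderOf_dvd_iff_pow_eq_one.1 this, map_one]
      | one => rw [map_one, one_pow]
      | mul a b _ _ ha hb => rw [map_mul, mul_pow, ha, hb, one_mul]
      | inv a _ ha =>
        have : f a⁻¹ ^ m * f a ^ m = 1 := by rw [← mul_pow, ← map_mul, inv_mul_cancel, map_one, one_pow]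
        rwa [ha, mul_one] at this
    calc f (x : G) = f ((x : G) ^ m) := by rw [hxm]
      _ = 1 := by rw [map_pow]; exact hker _ hx
  refine (le_iInf₂ fun K hK => ?_ : commutator (P : Subgroup G) ≤ frattini (P : Subgroup G)) hxc
  obtain ⟨hKn, hKc⟩ := CfsgLib.Transfer.coatom_spec P.isPGroup' hK
  haveI := hKn
  have hcard : Nat.card ((P : Subgroup G) ⧸ K) = p := by
    have := Subgroup.card_eq_card_quotient_mul_card_subgroup K
    rw [← hKc, mul_comm (Nat.card K)] at this
    exact (Nat.eq_of_mul_eq_mul_right Nat.card_pos this).symm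
  haveI := isCyclic_of_prime_card hcard
  letI := IsCyclic.commGroup (α := (P : Subgroup G) ⧸ K)
  intro z hz
  rw [← QuotientGroup.ker_mk' K]
  exact Abelianization.commutator_subset_ker (QuotientGroup.mk' K) hz

end Cfsg.Agent.S4888
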