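import Cfsg.Statements.S4912
import Cfsg.Agent.CharBasics.LinearOver
import Cfsg.Agent.CharBasics.IndSub

set_option autoImplicit false
open Cfsg CfsgLib.CharBasics CfsgLib.BrauerInd
open scoped ComplexConjugate

namespace Cfsg.Agent.S4912

/-- Let G be a finite group with a non-abelian minimal normal subgroup N, and let φ be an irreducible complex character of N with stabilizer I in G such that φ extends to an irreducible character of I with Frobenius–Schur indicator +1. Put d = φ(1)·[G : I]. Then the number of linear characters of G with Frobenius–Schur indicator +1 is at most [G : I] times the number of irreducible characters of G of degree d with Frobenius–Schur indicator +1. -/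
theorem result {G : Type*} [Group G] [Finite G] (N : Subgroup G) (hN : N.Normal) (hN1 : N ≠ ⊥) (hmin : ∀ M : Subgroup G, M.Normal → M ≤ N → M = ⊥ ∨ M = N) (hna : ¬ IsMulCommutative ↥N) (φ : Cfsg.IrrCharacter ↥N) (I : Subgroup G) (hI : ∀ g : G, g ∈ I ↔ ∀ n n' : ↥N, (n' : G) = g * (n : G) * g⁻¹ → (φ : ↥N → ℂ) n' = (φ : ↥N → ℂ) n) (hNI : N ≤ I) (hext : ∃ ψ : Cfsg.IrrCharacter ↥I, (Nat.card ↥I : ℂ)⁻¹ * ∑ᶠ g : ↥I, (ψ : ↥I → ℂ) (g * g) = 1 ∧ ∀ n : ↥N, (ψ : ↥I → ℂ) (Subgroup.inclusion hNI n) = (φ : ↥N → ℂ) n) : Nat.card {χ : Cfsg.IrrCharacter G // Cfsg.charDegree (χ : G → ℂ) = 1 ∧ (Nat.card G : ℂ)⁻¹ * ∑ᶠ g : G, (χ : G → ℂ) (g * g) = 1} ≤ I.index * Nat.card {χ : Cfsg.IrrCharacter G // Cfsg.charDegree (χ : G → ℂ) = Cfsg.charDegree (φ : ↥N → ℂ) * I.index ∧ (Nat.card G : ℂ)⁻¹ * ∑ᶠ g : G, (χ : G → ℂ) (g * g) = 1} := by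
  classical
  haveI : Fintype G := Fintype.ofFinite G
  haveI : Fintype N := Fintype.ofFinite N
  haveI : Fintype I := Fintype.ofFinite I
  obtain ⟨ψ, hψν, hψ⟩ := hext
  simp only [finsum_eq_sum_of_fintype] at hψν ⊢
  refine card_linear_le N hmin hna φ I hI hNI ψ hψ (fun f => ind f = 1) (fun f => ind f = 1) ?_
  intro χ h hP hirr
  set θ : I → ℂ := fun i => (χ : G → ℂ) i * (ψ : I → ℂ) i with hθ
  have hθirr : IsIrrCharacter I θ := CfsgLib.Clifford.isIrrCharacter_linear_mul ψ.2 ((linHomOf χ h).comp I.subtype)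
  have hsq : ∀ g : G, (χ : G → ℂ) (g * g) = 1 := by
    intro g
    have hr : ((χ : G → ℂ) g).im = 0 := by
      by_contra hg
      rw [ind_nonreal χ.2 ⟨g, hg⟩] at hP
      exact zero_ne_one hP
    rw [Cfsg.Agent.S4811.apply_mul_of_degree_one (isCharacter_of_irr χ.2) h]
    nth_rw 2 [← Complex.conj_eq_iff_im.2 hr]
    rw [← apply_inv (isCharacter_of_irr χ.2), ← Cfsg.Agent.S4811.apply_mul_of_degree_one (isCharacter_of_irr χ.2) h,
      mul_inv_cancel, apply_one (isCharacter_of_irr χ.2), h, Nat.cast_one]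
  have hθν : ind θ = 1 := by
    rw [ind, ← hψν]
    congr 1
    refine Finset.sum_congr rfl fun i _ => ?_
    show (χ : G → ℂ) ((i * i : I) : G) * (ψ : I → ℂ) (i * i) = _
    rw [Subgroup.coe_mul, hsq, one_mul]
  have hθr : ∀ i, (θ i).im = 0 := fun i => by
    by_contra hi
    rw [ind_nonreal hθirr ⟨i, hi⟩] at hθν
    exact zero_ne_one hθν
  have hindr : ∀ g, (indFun I θ g).im = 0 := fun g => by
    rw [indFun, Finset.mul_sum, Complex.im_sum]
    refine Finset.sum_eq_zero fun x _ => ?_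
    by_cases hx : x⁻¹ * g * x ∈ I
    · rw [show extendByZero I θ (x⁻¹ * g * x) = θ ⟨_, hx⟩ from extendByZero_coe I θ ⟨_, hx⟩]
      simp [hθr]
    · rw [extendByZero_of_not_mem I θ hx]; simp
  have h1 : classInner (fun i : I => indFun I θ i) θ = 1 := by
    rw [classInner_comm θ, ← classInner_indFun I θ (isClassFunction (isCharacter_of_irr hirr)),
      classInner_self hirr, map_one]
  exact (ind_eq_of_mult_one I ⟨_, hirr⟩ ⟨θ, hθirr⟩ hindr hθr h1).trans hθν

end Cfsg.Agent.S4912
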