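import Cfsg.Statements.S4923
import Cfsg.Agent.Hall.Taussky
import Cfsg.Agent.CoprimeAction.Frattini
import Cfsg.Agent.CharBasics.Ortho
import Cfsg.Agent.CharBasics.Basic
import Mathlib.RingTheory.Polynomial.Cyclotomic.Roots

set_option autoImplicit false
set_option linter.style.haveILetI false
open Cfsg CfsgLib CfsgLib.CharBasics
open scoped commutatorElement ComplexConjugate IntermediateField

namespace Cfsg.Agent.S4923

theorem pow_add_pow_mem (K : IntermediateField ℚ ℂ) {a b : ℂ} (hs : a + b ∈ K) (hp : a * b ∈ K) :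
    ∀ e : ℕ, a ^ e + b ^ e ∈ K := by
  intro e
  induction e using Nat.strong_induction_on with
  | _ e ih =>
    rcases e with _ | _ | e
    · simpa using K.add_mem K.one_mem K.one_mem
    · simpa using hs
    · rw [show a ^ (e + 2) + b ^ (e + 2) = (a + b) * (a ^ (e + 1) + b ^ (e + 1)) - a * b * (a ^ e + b ^ e) by ring]
      exact K.sub_mem (K.mul_mem hs (ih (e + 1) (by omega))) (K.mul_mem hp (ih e (by omega)))

/-- A primitive root of order at least `8` does not come from the square. -/
theorem not_mem_adjoin_sq {ζ : ℂ} {j : ℕ} (hζ : IsPrimitiveRoot ζ (2 ^ (j + 3))) :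
    ζ + ζ⁻¹ ∉ ℚ⟮ζ ^ 2⟯ ∧ ζ - ζ⁻¹ ∉ ℚ⟮ζ ^ 2⟯ := by
  have hm : 0 < 2 ^ (j + 3) := by positivity
  have hζ0 : ζ ≠ 0 := hζ.ne_zero hm.ne'
  have hη : IsPrimitiveRoot (ζ ^ 2) (2 ^ (j + 2)) := hζ.pow hm (by ring)
  have hne : ζ ∉ ℚ⟮ζ ^ 2⟯ := by
    intro h
    have hle : ℚ⟮ζ⟯ ≤ ℚ⟮ζ ^ 2⟯ := IntermediateField.adjoin_simple_le_iff.2 h
    have h1 : IsIntegral ℚ ζ := (hζ.isIntegral hm).tower_top
    have h2 : IsIntegral ℚ (ζ ^ 2) := h1.pow 2
    haveI := IntermediateField.adjoin.finiteDimensional h2
    have hdeg : Module.finrank ℚ ℚ⟮ζ⟯ ≤ Module.finrank ℚ ℚ⟮ζ ^ 2⟯ :=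
      LinearMap.finrank_le_finrank_of_injective (f := (IntermediateField.inclusion hle).toLinearMap)
        (IntermediateField.inclusion hle).injective
    rw [IntermediateField.adjoin.finrank h1, IntermediateField.adjoin.finrank h2,
      ← Polynomial.cyclotomic_eq_minpoly_rat hζ hm, ← Polynomial.cyclotomic_eq_minpoly_rat hη (by positivity),
      Polynomial.natDegree_cyclotomic, Polynomial.natDegree_cyclotomic,
      Nat.totient_prime_pow_succ Nat.prime_two, Nat.totient_prime_pow_succ Nat.prime_two] at hdeg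
    simp [pow_succ] at hdeg
  have hsq : (ζ ^ 2) ^ 2 ≠ 1 := fun h => by
    have hd := hη.dvd_of_pow_eq_one 2 h
    have h4 : 2 ^ 2 ≤ 2 ^ (j + 2) := Nat.pow_le_pow_right (by norm_num) (by omega)
    have := Nat.le_of_dvd (by norm_num) hd
    omega
  have key : ∀ s : ℂ, s ≠ 0 → s ∈ ℚ⟮ζ ^ 2⟯ → s * ζ ∈ ℚ⟮ζ ^ 2⟯ → False := fun s hs h h' => hne (by
    have h2 := IntermediateField.div_mem _ h' h
    rwa [mul_div_cancel_left₀ ζ hs] at h2)
  have hη' := IntermediateField.mem_adjoin_simple_self ℚ (ζ ^ 2)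
  refine ⟨fun h => key _ (fun h0 => hsq ?_) h ?_, fun h => key _ (fun h0 => hsq ?_) h ?_⟩
  · have : ζ ^ 2 = -1 := by field_simp at h0; linear_combination h0
    rw [this]; ring
  · rw [show (ζ + ζ⁻¹) * ζ = ζ ^ 2 + 1 by field_simp]
    exact IntermediateField.add_mem _ hη' (IntermediateField.one_mem _)
  · have : ζ ^ 2 = 1 := by field_simp at h0; linear_combination h0
    rw [this]; ring
  · rw [show (ζ - ζ⁻¹) * ζ = ζ ^ 2 - 1 by field_simp]
    exact IntermediateField.sub_mem _ hη' (IntermediateField.one_mem _)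

variable {G : Type*} [Group G] [Finite G]

/-- A value invariant under `r` lies in the field of `ζ ^ e + ζ ^ (r e)`. -/
theorem value_mem {g : G} {ζ : ℂ} (hζ : IsPrimitiveRoot ζ (orderOf g)) (r : ℕ) (hr : IsConj g (g ^ r))
    (K : IntermediateField ℚ ℂ) (hK : ∀ e : ℕ, ζ ^ e + (ζ ^ r) ^ e ∈ K) (χ : IrrCharacter G) :
    (χ : G → ℂ) g ∈ K := by
  obtain ⟨lam, hl, hv⟩ := exists_eigen (isCharacter_of_irr χ.2) g
  haveI : NeZero (orderOf g) := ⟨(orderOf_pos g).ne'⟩
  choose e he hev using fun i => hζ.eq_pow_of_pow_eq_one (hl i)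
  have h1 : (χ : G → ℂ) g = ∑ i, lam i := by simpa using hv 1
  have h2 : (χ : G → ℂ) (g ^ r) = (χ : G → ℂ) g := by
    obtain ⟨c, hc⟩ := isConj_iff.1 hr
    rw [← hc]
    exact isClassFunction (isCharacter_of_irr χ.2) g c
  rw [hv r, h1] at h2
  have h3 : (χ : G → ℂ) g = (∑ i, (ζ ^ e i + (ζ ^ r) ^ e i)) / 2 := by
    have e' : ∀ i, (ζ ^ r) ^ e i = lam i ^ r := fun i => by rw [← hev i, ← pow_mul, ← pow_mul, mul_comm]
    rw [Finset.sum_add_distrib]
    simp only [e', hev]
    rw [h2, h1]; ring
  rw [h3]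
  exact K.div_mem (K.sum_mem fun i _ => hK (e i)) (IntermediateField.natCast_mem K 2)

/-- When `g` is conjugate to exactly two of its powers, their root sum is in the field of values. -/
theorem root_sum_mem {g : G} {ζ : ℂ} (hζ : IsPrimitiveRoot ζ (orderOf g)) {r : ℕ} (hr1 : r ≠ 1) (hrm : r < orderOf g)
    (h1m : 1 < orderOf g) (hr : IsConj g (g ^ r))
    (honly : ∀ j, j < orderOf g → IsConj g (g ^ j) → j = 1 ∨ j = r)
    (F : IntermediateField ℚ ℂ) (hF : ∀ χ : IrrCharacter G, (χ : G → ℂ) g ∈ F) : ζ + ζ ^ r ∈ F := by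
  classical
  letI : Fintype G := Fintype.ofFinite G
  haveI := finite_irrCharacter (G := G)
  letI : Fintype (IrrCharacter G) := Fintype.ofFinite _
  set m := orderOf g with hm
  have hm0 : 0 < m := orderOf_pos g
  set c : ℂ := (Nat.card (Subgroup.centralizer ({g} : Set G)) : ℂ)
  have hnat : ∀ χ : IrrCharacter G, ∃ k : ℕ, ∑ j ∈ Finset.range m, conj ((χ : G → ℂ) (g ^ j)) * ζ ^ j = k := by
    intro χ
    obtain ⟨lam, hl, hv⟩ := exists_eigen (isCharacter_of_irr χ.2) g
    have key : ∀ x : ℂ, x ^ m = 1 → ∃ k : ℕ, ∑ j ∈ Finset.range m, x ^ j = k := fun x hx => by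
      by_cases h1 : x = 1
      · exact ⟨m, by simp [h1]⟩
      · refine ⟨0, ?_⟩
        rw [geom_sum_eq h1, hx]; simp
    choose k hk using fun i => key (conj (lam i) * ζ) (by rw [mul_pow, ← map_pow, hl i, map_one, one_mul, hζ.pow_eq_one])
    refine ⟨∑ i, k i, ?_⟩
    push_cast
    simp only [hv, map_sum, Finset.sum_mul]
    rw [Finset.sum_comm]
    refine Finset.sum_congr rfl fun i _ => ?_
    rw [← hk i]
    exact Finset.sum_congr rfl fun j _ => by rw [map_pow, mul_pow]
  choose k hk using hnat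
  have h1 : ∑ χ : IrrCharacter G, (χ : G → ℂ) g * (k χ : ℂ) = c * (ζ + ζ ^ r) := by
    simp only [← hk, Finset.mul_sum]
    rw [Finset.sum_comm]
    simp only [← mul_assoc, ← Finset.sum_mul, sum_col, ite_mul, zero_mul]
    rw [← Finset.sum_filter, show (Finset.range m).filter (fun j => IsConj g (g ^ j)) = {1, r} from by
      ext j
      simp only [Finset.mem_filter, Finset.mem_range, Finset.mem_insert, Finset.mem_singleton]
      refine ⟨fun h => honly j h.1 h.2, ?_⟩
      rintro (rfl | rfl)
      · exact ⟨h1m, by rw [pow_one]⟩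
      · exact ⟨hrm, hr⟩, Finset.sum_pair (Ne.symm hr1), pow_one]
    ring
  have h2 : ∑ χ : IrrCharacter G, (χ : G → ℂ) g * (k χ : ℂ) ∈ F :=
    F.sum_mem fun χ _ => F.mul_mem (hF χ) (IntermediateField.natCast_mem F _)
  have hc0 : c ≠ 0 := Nat.cast_ne_zero.2 Nat.card_pos.ne'
  rw [h1] at h2
  rw [show ζ + ζ ^ r = c * (ζ + ζ ^ r) / c by field_simp]
  exact F.div_mem h2 (IntermediateField.natCast_mem F _)

/-- An element with class of even size has no abelian Sylow `2`-subgroup around it. -/
theorem not_comm {P : Sylow 2 G} {g : G} (hg : g ∈ (P : Subgroup G))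
    (h : 2 ∣ (Subgroup.centralizer ({g} : Set G)).index) : ¬ ∀ z : G, z ∈ (P : Subgroup G) → z * g = g * z :=
  fun hall => P.not_dvd_index (h.trans (Subgroup.index_dvd_of_le fun z hz =>
    Subgroup.mem_centralizer_singleton_iff.2 (hall z hz)))

/-- The structure used in both directions. -/
theorem fusion_of_index_two (P : Sylow 2 G) {k : ℕ} (hP : Nat.card P = 2 ^ (k + 3)) {g y : G}
    (hg : g ∈ (P : Subgroup G)) (hgo : orderOf g = 2 ^ (k + 2)) (hy : y ∈ (P : Subgroup G)) {r : ℕ}
    (hyr : y * g * y⁻¹ = g ^ r) (hr : r < 2 ^ (k + 2)) (hr1 : r ≠ 1) (j : ℕ) (hj : j < orderOf g) (hc : IsConj g (g ^ j)) :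
    j = 1 ∨ j = r := by
  classical
  haveI : Fact (Nat.Prime 2) := ⟨Nat.prime_two⟩
  set X := Subgroup.zpowers g with hX
  set N := Subgroup.normalizer (X : Set G)
  obtain ⟨x, hx⟩ := isConj_iff.1 hc
  have hgen : ∀ {a b : G}, (∀ z, z ∈ X → a * z * a⁻¹ ∈ X) → a ∈ N := fun {a b} h => by
    refine Subgroup.mem_normalizer_iff.2 fun z => ⟨h z, fun hz => ?_⟩
    -- a finite power of `a` undoes it
    have hs : Function.Surjective (fun u : X => (⟨a * u * a⁻¹, h u u.2⟩ : X)) :=
      Finite.injective_iff_surjective.1 fun u v huv => Subtype.ext (by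
        have := congrArg Subtype.val huv
        simpa using this)
    obtain ⟨u, hu⟩ := hs ⟨_, hz⟩
    have := congrArg Subtype.val hu
    have e : (u : G) = z := by simpa using this
    exact e ▸ u.2
  have hmemN : ∀ {a : G} {i : ℕ}, a * g * a⁻¹ = g ^ i → a ∈ N := fun {a i} ha => hgen (b := a) fun z hz => by
    obtain ⟨q, rfl⟩ := Subgroup.mem_zpowers_iff.1 hz
    rw [← conj_zpow, ha]
    exact Subgroup.zpow_mem _ (Subgroup.pow_mem _ (Subgroup.mem_zpowers g) i) q
  let f : N →* MulAut (X.subgroupOf N) := MulAut.conjNormal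
  have hfker : ∀ a : N, f a = 1 ↔ (a : G) * g * (a : G)⁻¹ = g := by
    intro a
    refine ⟨fun h => ?_, fun h => ?_⟩
    · have := DFunLike.congr_fun h (⟨⟨g, Subgroup.le_normalizer (Subgroup.mem_zpowers g)⟩, Subgroup.mem_zpowers g⟩ : X.subgroupOf N)
      exact congrArg (fun u : X.subgroupOf N => ((u : N) : G)) this
    · ext u
      have hu : ((u : N) : G) ∈ X := u.2
      obtain ⟨q, hq⟩ := Subgroup.mem_zpowers_iff.1 hu
      show (a : G) * ((u : N) : G) * (a : G)⁻¹ = ((u : N) : G)
      rw [← hq, ← conj_zpow, h]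
  let A : N := ⟨x, hmemN hx⟩
  let B : N := ⟨y, hmemN hyr⟩
  have hcyc : IsCyclic (X.subgroupOf N) :=
    isCyclic_of_surjective (Subgroup.subgroupOfEquivOfLe Subgroup.le_normalizer).symm
      (Subgroup.subgroupOfEquivOfLe Subgroup.le_normalizer).symm.surjective
  have hXcard : Nat.card (X.subgroupOf N) = 2 ^ (k + 2) := by
    rw [Nat.card_congr (Subgroup.subgroupOfEquivOfLe Subgroup.le_normalizer).toEquiv, Nat.card_zpowers, hgo]
  have hrange : Nat.card f.range ∣ 2 := by
    obtain ⟨i, -, hi⟩ : ∃ i ≤ k + 1, Nat.card f.range = 2 ^ i := by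
      refine (Nat.dvd_prime_pow Nat.prime_two).1 ((Subgroup.card_subgroup_dvd_card f.range).trans ?_)
      haveI := hcyc
      rw [IsCyclic.card_mulAut, hXcard, Nat.totient_prime_pow_succ Nat.prime_two]
      simp
    have hXker : X.subgroupOf N ≤ f.ker := fun a ha => (hfker a).2 (by
      have ha' : (a : G) ∈ X := ha
      obtain ⟨q, hq⟩ := Subgroup.mem_zpowers_iff.1 ha'
      rw [← hq]; group)
    have h1 : 2 ^ (k + 2) * 2 ^ i ∣ Nat.card G := by
      rw [← hXcard, ← hi, ← Subgroup.index_ker, mul_comm]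
      exact ((mul_dvd_mul_left _ (Subgroup.card_dvd_of_le hXker)).trans f.ker.index_mul_card.dvd).trans
        N.card_subgroup_dvd_card
    rw [← pow_add] at h1
    have h2 := Sylow.pow_dvd_card_of_pow_dvd_card P h1
    rw [show Nat.card (P : Subgroup G) = 2 ^ (k + 3) from hP, Nat.pow_dvd_pow_iff_le_right (by norm_num)] at h2
    rw [hi]
    exact (pow_dvd_pow 2 (show i ≤ 1 by omega)).trans (by norm_num)
  have hB : f B ≠ 1 := fun h => hr1 (by
    have h' : y * g * y⁻¹ = g := (hfker B).1 h
    rw [hyr] at h'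
    have := (pow_inj_mod (x := g) (n := r) (m := 1)).1 (by rw [h', pow_one])
    rwa [hgo, Nat.mod_eq_of_lt hr, Nat.mod_eq_of_lt (Nat.one_lt_two_pow (by omega))] at this)
  have hA : f A = 1 ∨ f A = f B := by
    by_cases h1 : f A = 1
    · exact Or.inl h1
    refine Or.inr (by_contra fun hne => ?_)
    have h3 : 2 < Nat.card f.range := by
      have hinj : Function.Injective (![⟨1, one_mem _⟩, ⟨f A, A, rfl⟩, ⟨f B, B, rfl⟩] : Fin 3 → f.range) := by
        intro a b hab
        have hab' := congrArg Subtype.val hab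
        fin_cases a <;> fin_cases b <;> first
          | rfl
          | exact absurd hab'.symm h1
          | exact absurd hab' h1
          | exact absurd hab'.symm hB
          | exact absurd hab' hB
          | exact absurd hab' hne
          | exact absurd hab'.symm hne
      have := Nat.card_le_card_of_injective _ hinj
      rw [Nat.card_fin] at this
      omega
    exact absurd (Nat.le_of_dvd (by norm_num) hrange) (by omega)
  have hm : 1 < orderOf g := by rw [hgo]; exact Nat.one_lt_two_pow (by omega)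
  rcases hA with h | h
  · left
    have h' : x * g * x⁻¹ = g := (hfker A).1 h
    rw [hx] at h'
    have := (pow_inj_mod (x := g) (n := j) (m := 1)).1 (by rw [h', pow_one])
    rwa [Nat.mod_eq_of_lt hj, Nat.mod_eq_of_lt hm] at this
  · right
    have h' : (B⁻¹ * A : N) ∈ f.ker := by rw [MonoidHom.mem_ker, map_mul, map_inv, h, inv_mul_cancel]
    have h'' : (y⁻¹ * x) * g * (y⁻¹ * x)⁻¹ = g := (hfker _).1 h'
    have e : g ^ j = g ^ r := by
      rw [← hx, ← hyr]
      conv_rhs => rw [← h'']
      group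
    have := (pow_inj_mod (x := g) (n := j) (m := r)).1 e
    rwa [Nat.mod_eq_of_lt hj, hgo, Nat.mod_eq_of_lt hr] at this

/-- Square roots of `1` modulo a power of `2`. -/
theorem sq_dichotomy {e r : ℕ} (he : 1 ≤ e) (h1 : 1 ≤ r) (hr : r * r ≡ 1 [MOD 2 ^ (e + 1)]) :
    2 ^ e ∣ r - 1 ∨ 2 ^ e ∣ r + 1 := by
  obtain ⟨d, rfl⟩ : ∃ d, r = d + 1 := ⟨r - 1, by omega⟩
  have hd : 2 ^ (e + 1) ∣ d * (d + 2) := by
    have h := (Nat.modEq_iff_dvd' (by nlinarith)).1 hr.symm
    rwa [show (d + 1) * (d + 1) - 1 = d * (d + 2) by rw [Nat.sub_eq_iff_eq_add (by nlinarith)]; ring] at h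
  have heven : 2 ∣ d := by
    have h2 : 2 ∣ d * (d + 2) := (dvd_pow_self 2 (by omega : e + 1 ≠ 0)).trans hd
    rcases (Nat.Prime.dvd_mul Nat.prime_two).1 h2 with h | h
    · exact h
    · omega
  obtain ⟨c, rfl⟩ := heven
  rw [show 2 * c * (2 * c + 2) = 4 * (c * (c + 1)) by ring] at hd
  obtain ⟨e', rfl⟩ : ∃ e', e = e' + 1 := ⟨e - 1, by omega⟩
  rw [show 2 ^ (e' + 1 + 1) = 4 * 2 ^ e' by ring, Nat.mul_dvd_mul_iff_left (by norm_num : 0 < 4)] at hd
  rcases Nat.even_or_odd c with hc | hc
  · left
    have hco : Nat.Coprime (2 ^ e') (c + 1) := Nat.Coprime.pow_left _ (Nat.coprime_two_left.2 hc.add_one)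
    simp only [Nat.add_sub_cancel]
    rw [pow_succ, mul_comm (2 ^ e') 2]
    exact mul_dvd_mul_left 2 (hco.dvd_of_dvd_mul_right hd)
  · right
    have hco : Nat.Coprime (2 ^ e') c := Nat.Coprime.pow_left _ (Nat.coprime_two_left.2 hc)
    rw [show 2 * c + 1 + 1 = 2 * (c + 1) by ring, pow_succ, mul_comm (2 ^ e') 2]
    exact mul_dvd_mul_left 2 (hco.dvd_of_dvd_mul_left hd)

/-- Let G be a finite group with Sylow 2-subgroup P of order 2^n ≥ 8, and let ζ be a primitive 2^(n−1)-th root of unity in ℂ. Then the commutator subgroup of P has index 4 in P if and only if there is an element g of P whose conjugacy class in G has even size and such that the field generated over ℚ by the values at g of all irreducible complex characters of G equals ℚ(ζ + ζ⁻¹) or ℚ(ζ − ζ⁻¹). -/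
theorem result {G : Type*} [Group G] [Finite G] (P : Sylow 2 G) (n : ℕ) (hn : 3 ≤ n) (hP : Nat.card P = 2 ^ n) (ζ : ℂ) (hζ : IsPrimitiveRoot ζ (2 ^ (n - 1))) :
    (commutator ↥P).index = 4 ↔
      ∃ g : G, g ∈ (P : Subgroup G) ∧ 2 ∣ (Subgroup.centralizer ({g} : Set G)).index ∧
        (IntermediateField.adjoin ℚ {z : ℂ | ∃ χ : Cfsg.IrrCharacter G, (χ : G → ℂ) g = z} = IntermediateField.adjoin ℚ ({ζ + ζ⁻¹} : Set ℂ) ∨
          IntermediateField.adjoin ℚ {z : ℂ | ∃ χ : Cfsg.IrrCharacter G, (χ : G → ℂ) g = z} = IntermediateField.adjoin ℚ ({ζ - ζ⁻¹} : Set ℂ)) := by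
  classical
  haveI : Fact (Nat.Prime 2) := ⟨Nat.prime_two⟩
  obtain ⟨k, rfl⟩ : ∃ k, n = k + 3 := ⟨n - 3, by omega⟩
  rw [show k + 3 - 1 = k + 2 by omega] at hζ
  have hPc : Nat.card (P : Subgroup G) = 2 ^ (k + 3) := hP
  constructor
  · intro hi
    obtain ⟨a, b, ha, hb, hidx, hrel⟩ := CfsgLib.Hall.Taussky.struct (k + 3) (by omega) hPc hi
    rw [show k + 3 - 1 = k + 2 by omega] at ha
    rw [show k + 3 - 2 = k + 1 by omega] at hrel
    set g : G := (a : G)
    have hgo : orderOf g = 2 ^ (k + 2) := by rw [← ha]; exact Subgroup.orderOf_coe a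
    have hmpos : 1 < 2 ^ (k + 2) := Nat.one_lt_two_pow (by omega)
    obtain ⟨r, hr, hr1, hbr, hw⟩ : ∃ r, r < 2 ^ (k + 2) ∧ r ≠ 1 ∧ b * a * b⁻¹ = a ^ r ∧
        (ζ ^ r = ζ⁻¹ ∨ ζ ^ r = -ζ⁻¹) := by
      have hζ0 : ζ ≠ 0 := hζ.ne_zero (by positivity)
      have hhalf : ζ ^ 2 ^ (k + 1) = -1 := by
        have h2 : IsPrimitiveRoot (ζ ^ 2 ^ (k + 1)) 2 := hζ.pow (by positivity) (by ring)
        exact h2.eq_neg_one_of_two_right
      have h4 : 4 ≤ 2 ^ (k + 2) := by
        calc 4 = 2 ^ 2 := by norm_num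
          _ ≤ _ := Nat.pow_le_pow_right (by norm_num) (by omega)
      rcases hrel with ⟨-, h⟩ | ⟨-, h⟩ | ⟨hk4, -, h⟩
      · refine ⟨2 ^ (k + 2) - 1, by omega, by omega, ?_, Or.inl ?_⟩
        · rw [h, eq_comm, eq_inv_iff_mul_eq_one, ← pow_succ, Nat.sub_add_cancel (by omega), ← ha, pow_orderOf_eq_one]
        · refine eq_inv_of_mul_eq_one_left ?_
          rw [← pow_succ, Nat.sub_add_cancel (by omega), hζ.pow_eq_one]
      · refine ⟨2 ^ (k + 2) - 1, by omega, by omega, ?_, Or.inl ?_⟩
        · rw [h, eq_comm, eq_inv_iff_mul_eq_one, ← pow_succ, Nat.sub_add_cancel (by omega), ← ha, pow_orderOf_eq_one]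
        · refine eq_inv_of_mul_eq_one_left ?_
          rw [← pow_succ, Nat.sub_add_cancel (by omega), hζ.pow_eq_one]
      · have h5 : 4 ≤ 2 ^ (k + 1) := by
          calc 4 = 2 ^ 2 := by norm_num
            _ ≤ _ := Nat.pow_le_pow_right (by norm_num) (by omega)
        refine ⟨2 ^ (k + 1) - 1, ?_, by omega, h, Or.inr ?_⟩
        · have : 2 ^ (k + 1) ≤ 2 ^ (k + 2) := Nat.pow_le_pow_right (by norm_num) (by omega)
          omega
        · rw [← inv_neg]
          refine eq_inv_of_mul_eq_one_left ?_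
          rw [mul_neg, ← pow_succ, Nat.sub_add_cancel (by omega), hhalf, neg_neg]
    have hbr' : (b : G) * g * (b : G)⁻¹ = g ^ r := by simpa [g] using congrArg Subtype.val hbr
    have hgb : (b : G) * g * (b : G)⁻¹ ≠ g := fun h => hr1 (by
      rw [hbr'] at h
      have := (pow_inj_mod (x := g) (n := r) (m := 1)).1 (by rw [h, pow_one])
      rwa [hgo, Nat.mod_eq_of_lt hr, Nat.mod_eq_of_lt hmpos] at this)
    have heven : 2 ∣ (Subgroup.centralizer ({g} : Set G)).index := by
      by_contra hodd
      -- then the centralizer contains a full Sylow subgroup, cyclic by its central part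
      obtain ⟨T⟩ : Nonempty (Sylow 2 (Subgroup.centralizer ({g} : Set G))) := inferInstance
      have hTc : Nat.card T = 2 ^ (k + 3) := by
        have h1 := (Subgroup.centralizer ({g} : Set G)).index_mul_card
        have h2 : 2 ^ (k + 3) ∣ Nat.card (Subgroup.centralizer ({g} : Set G)) :=
          (((Nat.coprime_two_left.2 (Nat.odd_iff.2 (Nat.two_dvd_ne_zero.1 hodd))).pow_left _)).dvd_of_dvd_mul_left
            (h1.symm ▸ (hPc ▸ Subgroup.card_subgroup_dvd_card (P : Subgroup G)))
        refine Nat.dvd_antisymm ?_ (Sylow.pow_dvd_card_of_pow_dvd_card T h2)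
        obtain ⟨i, hi'⟩ := T.isPGroup'.exists_card_eq
        have h3 : Nat.card T ∣ Nat.card G :=
          (Subgroup.card_subgroup_dvd_card _).trans (Subgroup.card_subgroup_dvd_card _)
        rw [show Nat.card T = 2 ^ i from hi'] at h3 ⊢
        exact hPc ▸ Sylow.pow_dvd_card_of_pow_dvd_card P h3
      set R := (T : Subgroup (Subgroup.centralizer ({g} : Set G))).map (Subgroup.centralizer ({g} : Set G)).subtype
      have hRc : Nat.card R = 2 ^ (k + 3) := by
        rw [Subgroup.card_map_of_injective (Subgroup.subtype_injective _)]; exact hTc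
      obtain ⟨Q, hQ⟩ := (T.isPGroup'.map (Subgroup.centralizer ({g} : Set G)).subtype).exists_le_sylow
      have hQR : R = (Q : Subgroup G) := Subgroup.eq_of_le_of_card_ge hQ (by
        rw [hRc, Nat.card_congr (Sylow.equiv Q P).toEquiv, hPc])
      have hgR : g ∈ R := by
        have hgC : g ∈ Subgroup.centralizer ({g} : Set G) := Subgroup.mem_centralizer_singleton_iff.2 rfl
        have hz : IsPGroup 2 (Subgroup.zpowers (⟨g, hgC⟩ : Subgroup.centralizer ({g} : Set G))) :=
          IsPGroup.of_card (n := k + 2) (by rw [Nat.card_zpowers, Subgroup.orderOf_mk, hgo])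
        haveI : (Subgroup.zpowers (⟨g, hgC⟩ : Subgroup.centralizer ({g} : Set G))).Normal := ⟨fun z hz' c => by
          obtain ⟨q, rfl⟩ := Subgroup.mem_zpowers_iff.1 hz'
          have hcc : Commute c ⟨g, hgC⟩ := Subtype.ext (Subgroup.mem_centralizer_singleton_iff.1 c.2)
          rw [(hcc.zpow_right q).eq, mul_inv_cancel_right]
          exact ⟨q, rfl⟩⟩
        have := T.is_maximal' (T.isPGroup'.to_sup_of_normal_right hz) le_sup_left
        exact ⟨⟨g, hgC⟩, this ▸ Subgroup.mem_sup_right (Subgroup.mem_zpowers _), rfl⟩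
      have hcentral : ∀ z : (Q : Subgroup G), (z : G) * g = g * z := fun z => by
        obtain ⟨c, -, hc⟩ := (hQR.ge z.2 : (z : G) ∈ R)
        rw [← hc]
        exact Subgroup.mem_centralizer_singleton_iff.1 c.2
      -- `Q` is abelian, being generated by a central element and one further element
      set g' : (Q : Subgroup G) := ⟨g, hQR ▸ hgR⟩
      have hQi : (commutator (Q : Subgroup G)).index = 4 := by
        have e : (commutator (Q : Subgroup G)).map (Sylow.equiv Q P).toMonoidHom = commutator (P : Subgroup G) := by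
          rw [_root_.commutator_def, _root_.commutator_def, Subgroup.map_commutator,
            Subgroup.map_top_of_surjective _ (Sylow.equiv Q P).surjective]
        rw [← show (commutator (P : Subgroup G)).index = 4 from hi, ← e]
        exact (Subgroup.index_map_equiv (commutator (Q : Subgroup G)) (Sylow.equiv Q P)).symm
      have hQc : Nat.card (Q : Subgroup G) = 2 ^ (k + 3) := by rw [← hQR, hRc]
      obtain ⟨u, v, huv⟩ := CfsgLib.Hall.Taussky.nonabelian_of_index (n := k + 3) (by omega) hQc hQi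
      set Z := Subgroup.center (Q : Subgroup G)
      have hZ : Z.index ≤ 2 := by
        have hle : Subgroup.zpowers g' ≤ Z := Subgroup.zpowers_le.2 (Subgroup.mem_center_iff.2 fun z => Subtype.ext (hcentral z))
        have hd := Subgroup.index_dvd_of_le hle
        have hzi : (Subgroup.zpowers g').index = 2 := by
          have h := (Subgroup.zpowers g').card_mul_index
          rw [Nat.card_zpowers, Subgroup.orderOf_mk, hgo, hQc, pow_succ] at h
          exact Nat.eq_of_mul_eq_mul_left (by positivity) h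
        exact Nat.le_of_dvd (by norm_num) (by rwa [hzi] at hd)
      haveI : IsCyclic ((Q : Subgroup G) ⧸ Z) := by
        rw [Subgroup.index_eq_card] at hZ
        rcases hZ.lt_or_eq with h | h
        · have h1 : Nat.card ((Q : Subgroup G) ⧸ Z) = 1 := le_antisymm (Nat.lt_succ_iff.1 h) Nat.card_pos
          haveI := (Nat.card_eq_one_iff_unique.1 h1).1
          exact isCyclic_of_subsingleton
        · exact isCyclic_of_prime_card (p := 2) h
      exact huv ((MonoidHom.isMulCommutative_of_isCyclic_of_ker_le_center (QuotientGroup.mk' Z)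
        (QuotientGroup.ker_mk' Z).le).is_comm.comm u v)
    have honly := fusion_of_index_two P hPc a.2 hgo b.2 hbr' hr hr1
    have hconj : IsConj g (g ^ r) := isConj_iff.2 ⟨b, hbr'⟩
    have hζg : IsPrimitiveRoot ζ (orderOf g) := by rwa [hgo]
    refine ⟨g, a.2, heven, ?_⟩
    set F := IntermediateField.adjoin ℚ {z : ℂ | ∃ χ : Cfsg.IrrCharacter G, (χ : G → ℂ) g = z}
    have hF : F = IntermediateField.adjoin ℚ ({ζ + ζ ^ r} : Set ℂ) := by
      refine le_antisymm (IntermediateField.adjoin_le_iff.2 ?_) (IntermediateField.adjoin_simple_le_iff.2 ?_)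
      · rintro z ⟨χ, rfl⟩
        refine value_mem hζg r hconj _ (pow_add_pow_mem _ (IntermediateField.mem_adjoin_simple_self ℚ _) ?_) χ
        rcases hw with h | h <;> rw [h]
        · rw [mul_inv_cancel₀ (hζ.ne_zero (by positivity))]; exact IntermediateField.one_mem _
        · rw [mul_neg, mul_inv_cancel₀ (hζ.ne_zero (by positivity))]; exact IntermediateField.neg_mem _ (IntermediateField.one_mem _)
      · exact root_sum_mem hζg hr1 (by rwa [hgo]) (by rwa [hgo]) hconj honly F
          fun χ => IntermediateField.subset_adjoin ℚ _ ⟨χ, rfl⟩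
    rcases hw with h | h
    · left; rw [hF, h]
    · right; rw [hF, h, ← sub_eq_add_neg]
  · rintro ⟨g, hg, heven, hfield⟩
    have hnc := not_comm hg heven
    set a : (P : Subgroup G) := ⟨g, hg⟩
    have hnab : ¬ ∀ u v : (P : Subgroup G), u * v = v * u := fun h => hnc fun z hz => congrArg Subtype.val (h ⟨z, hz⟩ a)
    have hP2 : IsPGroup 2 (P : Subgroup G) := P.isPGroup'
    -- upper bound on the derived subgroup from the centre
    rcases Nat.eq_zero_or_pos k with rfl | hk
    · have h2 : 4 ≤ (commutator (P : Subgroup G)).index ∧ (commutator (P : Subgroup G)).index ≠ 2 ^ 3 := by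
        constructor
        · by_contra h
          obtain ⟨i, hi⟩ := hP2.index (commutator (P : Subgroup G))
          refine hnab fun u v => ?_
          haveI : IsCyclic ((P : Subgroup G) ⧸ commutator (P : Subgroup G)) := by
            rw [Subgroup.index_eq_card] at hi h
            have hi1 : i ≤ 1 := by
              by_contra hc
              exact h (hi ▸ (show 4 = 2 ^ 2 by norm_num) ▸ Nat.pow_le_pow_right (by norm_num) (by omega))
            rcases Nat.le_one_iff_eq_zero_or_eq_one.1 hi1 with rfl | rfl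
            · haveI := (Nat.card_eq_one_iff_unique.1 hi).1; exact isCyclic_of_subsingleton
            · exact isCyclic_of_prime_card (p := 2) (by rw [hi, pow_one])
          obtain ⟨q, hq⟩ := IsCyclic.exists_generator (α := (P : Subgroup G) ⧸ commutator (P : Subgroup G))
          obtain ⟨q, rfl⟩ := QuotientGroup.mk_surjective q
          have htop : Subgroup.zpowers q = ⊤ := by
            haveI := hP2.isNilpotent
            refine frattini_nongenerating (top_le_iff.1 fun x _ => ?_)
            obtain ⟨j, hj⟩ := Subgroup.mem_zpowers_iff.1 (hq x)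
            rw [← QuotientGroup.mk_zpow, QuotientGroup.eq] at hj
            rw [show x = q ^ j * ((q ^ j)⁻¹ * x) by group]
            exact Subgroup.mul_mem _ (Subgroup.mem_sup_left (Subgroup.zpow_mem _ (Subgroup.mem_zpowers q) j))
              (Subgroup.mem_sup_right (CfsgLib.CoprimeAction.commutator_le_frattini' hP2 hj))
          obtain ⟨i, rfl⟩ := Subgroup.mem_zpowers_iff.1 (htop ▸ Subgroup.mem_top u)
          obtain ⟨j, rfl⟩ := Subgroup.mem_zpowers_iff.1 (htop ▸ Subgroup.mem_top v)
          exact (Commute.refl q).zpow_zpow i j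
        · intro h
          refine hnab fun u v => ?_
          have hbot : commutator (P : Subgroup G) = ⊥ := by
            have := (commutator (P : Subgroup G)).index_mul_card
            rw [h, hPc] at this
            exact Subgroup.card_eq_one.1 (Nat.eq_of_mul_eq_mul_left (by norm_num) (this.trans (mul_one _).symm))
          have hmem : ⁅u, v⁆ ∈ (⊥ : Subgroup (P : Subgroup G)) := hbot ▸
            Subgroup.commutator_mem_commutator (Subgroup.mem_top u) (Subgroup.mem_top v)
          exact commutatorElement_eq_one_iff_mul_comm.1 (Subgroup.mem_bot.1 hmem)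
      obtain ⟨i, hi⟩ := hP2.index (commutator (P : Subgroup G))
      have hd : (commutator (P : Subgroup G)).index ∣ 2 ^ 3 := by rw [← hPc]; exact Subgroup.index_dvd_card _
      rw [hi, Nat.pow_dvd_pow_iff_le_right (by norm_num)] at hd
      show (commutator (P : Subgroup G)).index = 4
      rw [hi] at h2 ⊢
      rcases (show i ≤ 1 ∨ i = 2 ∨ i = 3 by omega) with h | rfl | rfl
      · have : 2 ^ i ≤ 2 := (Nat.pow_le_pow_right (by norm_num) h).trans (by norm_num)
        omega
      · norm_num
      · exact absurd rfl h2.2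
    obtain ⟨k, rfl⟩ : ∃ k', k = k' + 1 := ⟨k - 1, by omega⟩
    obtain ⟨hnp, hnm⟩ := not_mem_adjoin_sq (j := k) hζ
    set F := IntermediateField.adjoin ℚ {z : ℂ | ∃ χ : Cfsg.IrrCharacter G, (χ : G → ℂ) g = z} with hFdef
    have hsmall : ¬ F ≤ ℚ⟮ζ ^ 2⟯ := fun h => by
      rcases hfield with hf | hf
      · exact hnp (h (hf ▸ IntermediateField.mem_adjoin_simple_self ℚ _))
      · exact hnm (h (hf ▸ IntermediateField.mem_adjoin_simple_self ℚ _))
    obtain ⟨i, hik, hgo⟩ : ∃ i ≤ k + 1 + 3, orderOf a = 2 ^ i :=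
      (Nat.dvd_prime_pow Nat.prime_two).1 (hPc ▸ orderOf_dvd_natCard a)
    have hi_top : i ≠ k + 1 + 3 := fun h => by
      subst h
      refine hnab fun u v => ?_
      have htop : Subgroup.zpowers a = ⊤ := Subgroup.eq_top_of_card_eq _ (by rw [Nat.card_zpowers, hgo, hPc])
      obtain ⟨i, rfl⟩ := Subgroup.mem_zpowers_iff.1 (htop ▸ Subgroup.mem_top u)
      obtain ⟨j, rfl⟩ := Subgroup.mem_zpowers_iff.1 (htop ▸ Subgroup.mem_top v)
      exact (Commute.refl a).zpow_zpow i j
    have hgo' : orderOf g = 2 ^ i := by rw [← hgo]; exact (Subgroup.orderOf_coe a)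
    have hi : i = k + 3 := by
      by_contra hne
      refine hsmall (IntermediateField.adjoin_le_iff.2 ?_)
      rintro z ⟨χ, rfl⟩
      have hpr : IsPrimitiveRoot (ζ ^ 2 ^ (k + 3 - i)) (orderOf g) := by
        rw [hgo']
        refine hζ.pow (by positivity) ?_
        rw [← pow_add]; congr 1; omega
      refine value_mem hpr 1 (by rw [pow_one]) _ (fun e => ?_) χ
      rw [pow_one, show (ζ ^ 2 ^ (k + 3 - i)) ^ e = (ζ ^ 2) ^ (2 ^ (k + 3 - i - 1) * e) by
        rw [← pow_mul, ← pow_mul, ← mul_assoc, ← pow_succ', Nat.sub_add_cancel (by omega)]]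
      have := IntermediateField.pow_mem _ (IntermediateField.mem_adjoin_simple_self ℚ (ζ ^ 2)) (2 ^ (k + 3 - i - 1) * e)
      exact IntermediateField.add_mem _ this this
    subst hi
    have hidx : (Subgroup.zpowers a).index = 2 := by
      have h := (Subgroup.zpowers a).card_mul_index
      rw [Nat.card_zpowers, hgo, hPc, show k + 1 + 3 = (k + 3) + 1 by omega, pow_succ] at h
      exact Nat.eq_of_mul_eq_mul_left (by positivity) h
    haveI hAn : (Subgroup.zpowers a).Normal := Subgroup.normal_of_index_eq_minFac_card (by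
      rw [hidx, hPc, Nat.pow_minFac (by omega), Nat.prime_two.minFac_eq])
    obtain ⟨b, hb⟩ : ∃ b, b ∉ Subgroup.zpowers a := by
      by_contra h
      push Not at h
      rw [show Subgroup.zpowers a = ⊤ from eq_top_iff.2 fun z _ => h z, Subgroup.index_top] at hidx
      omega
    have hm : 1 < orderOf a := by rw [hgo]; exact Nat.one_lt_two_pow (by omega)
    obtain ⟨r, hr, hbr⟩ : ∃ r, r < orderOf a ∧ a ^ r = b * a * b⁻¹ := by
      have h := (isOfFinOrder_of_finite a).mem_zpowers_iff_mem_range_orderOf.1 (hAn.conj_mem a (Subgroup.mem_zpowers a) b)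
      simpa using h
    have hr0 : 1 ≤ r := by
      rcases Nat.eq_zero_or_pos r with rfl | h
      · exfalso
        rw [pow_zero, eq_comm, mul_inv_eq_one, mul_eq_left] at hbr
        rw [hbr, orderOf_one] at hm
        omega
      · exact h
    have hb2 : b * b ∈ Subgroup.zpowers a := Subgroup.mul_self_mem_of_index_two hidx b
    have hrr : r * r ≡ 1 [MOD 2 ^ (k + 2 + 1)] := by
      rw [show k + 2 + 1 = k + 3 by omega, ← hgo]
      refine (pow_eq_pow_iff_modEq (x := a)).1 ?_
      obtain ⟨q, hq⟩ := Subgroup.mem_zpowers_iff.1 hb2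
      rw [pow_mul, hbr, pow_one, conj_pow, hbr, show b * (b * a * b⁻¹) * b⁻¹ = (b * b) * a * (b * b)⁻¹ by group, ← hq]
      group
    rcases sq_dichotomy (by omega) hr0 hrr with hd | hd
    · exfalso
      -- the values are invariant under `r ≡ 1 mod h`
      obtain ⟨c, hc⟩ := hd
      have hr1 : r ≠ 1 := fun h => by
        subst h
        rw [pow_one, eq_comm, mul_inv_eq_iff_eq_mul] at hbr
        refine hnab fun u v => ?_
        have hgen : ∀ z, z ∈ Subgroup.centralizer ({a} : Set (P : Subgroup G)) := fun z => by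
          by_cases hz : z ∈ Subgroup.zpowers a
          · obtain ⟨q, rfl⟩ := Subgroup.mem_zpowers_iff.1 hz
            exact Subgroup.mem_centralizer_singleton_iff.2 ((Commute.refl a).zpow_left q).eq
          · have h' : b⁻¹ * z ∈ Subgroup.zpowers a := by
              rw [Subgroup.mul_mem_iff_of_index_two hidx, inv_mem_iff]
              exact iff_of_false hb hz
            obtain ⟨q, hq⟩ := Subgroup.mem_zpowers_iff.1 h'
            refine Subgroup.mem_centralizer_singleton_iff.2 ?_
            have hc' : Commute b a := hbr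
            rw [show z = b * a ^ q by rw [hq, mul_inv_cancel_left]]
            exact (hc'.mul_left ((Commute.refl a).zpow_left q)).eq
        haveI : IsCyclic ((P : Subgroup G) ⧸ Subgroup.zpowers a) :=
          isCyclic_of_prime_card (p := 2) (by rw [← Subgroup.index_eq_card, hidx])
        exact ((QuotientGroup.mk' (Subgroup.zpowers a)).isMulCommutative_of_isCyclic_of_ker_le_center
          (by rw [QuotientGroup.ker_mk', Subgroup.zpowers_le]
              exact Subgroup.mem_center_iff.2 fun z => Subgroup.mem_centralizer_singleton_iff.1 (hgen z))).is_comm.comm u v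
      have hc1 : c = 1 := by
        have h1 : 2 ^ (k + 2) * c < 2 ^ (k + 2) * 2 := by
          rw [← hc, ← pow_succ, show k + 2 + 1 = k + 3 by omega, ← hgo]; omega
        have h2 : c ≠ 0 := by rintro rfl; omega
        have := Nat.lt_of_mul_lt_mul_left h1
        omega
      subst hc1
      have hre : r = 2 ^ (k + 2) + 1 := by omega
      have hbr' : g ^ r = (b : G) * g * (b : G)⁻¹ := by simpa [a] using congrArg Subtype.val hbr
      have hhalf : ζ ^ 2 ^ (k + 2) = -1 :=
        (hζ.pow (a := 2 ^ (k + 2)) (by positivity) (by ring) : IsPrimitiveRoot (ζ ^ 2 ^ (k + 2)) 2).eq_neg_one_of_two_right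
      refine hsmall (IntermediateField.adjoin_le_iff.2 ?_)
      rintro z ⟨χ, rfl⟩
      refine value_mem (g := g) (by rw [hgo']; exact hζ) r (isConj_iff.2 ⟨b, hbr'.symm⟩) _ (fun e => ?_) χ
      rw [hre, pow_succ ζ (2 ^ (k + 2)), hhalf, neg_one_mul]
      rcases Nat.even_or_odd e with he | he
      · rw [he.neg_pow]
        obtain ⟨f, rfl⟩ := he
        rw [show f + f = 2 * f by ring, pow_mul]
        have := IntermediateField.pow_mem _ (IntermediateField.mem_adjoin_simple_self ℚ (ζ ^ 2)) f
        exact IntermediateField.add_mem _ this this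
      · rw [he.neg_pow, add_neg_cancel]
        exact IntermediateField.zero_mem _
    · -- the derived subgroup is the subgroup of squares
      obtain ⟨c, hc⟩ := hd
      have hr2 : 2 ∣ r - 1 := by
        have : 2 ∣ r + 1 := hc ▸ dvd_mul_of_dvd_left (dvd_pow_self 2 (by omega)) c
        omega
      obtain ⟨d, hd⟩ := hr2
      have hdodd : Nat.Coprime d 2 := by
        rw [Nat.coprime_comm, Nat.coprime_two_left, Nat.odd_iff]
        have h4 : 4 ∣ r + 1 := hc ▸ dvd_mul_of_dvd_left (dvd_trans (by norm_num : 4 ∣ 2 ^ 2) (pow_dvd_pow 2 (show 2 ≤ k + 2 by omega))) c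
        omega
      set S := Subgroup.zpowers (a ^ 2)
      have hS : S ≤ commutator (P : Subgroup G) := by
        have hmem : (a ^ 2) ^ d ∈ commutator (P : Subgroup G) := by
          rw [← pow_mul, ← hd, pow_sub a hr0, pow_one, hbr]
          exact Subgroup.commutator_mem_commutator (Subgroup.mem_top b) (Subgroup.mem_top a)
        obtain ⟨e, he⟩ := exists_pow_eq_self_of_coprime (n := d) (x := a ^ 2) (by
          rw [orderOf_pow' a (by norm_num : 2 ≠ 0), hgo]
          exact (hdodd.pow_right (k + 3)).coprime_dvd_right (Nat.div_dvd_of_dvd (Nat.gcd_dvd_left _ _)))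
        exact Subgroup.zpowers_le.2 (he ▸ Subgroup.pow_mem _ hmem e)
      have hScard : Nat.card S = 2 ^ (k + 2) := by
        rw [Nat.card_zpowers, orderOf_pow' a (by norm_num : 2 ≠ 0), hgo,
          Nat.gcd_eq_right (dvd_pow_self 2 (by omega)), pow_succ, Nat.mul_div_cancel _ (by norm_num)]
      have hSi : S.index = 4 := by
        have h := S.card_mul_index
        rw [hScard, hPc, show 2 ^ (k + 1 + 3) = 2 ^ (k + 2) * 4 by ring] at h
        exact Nat.eq_of_mul_eq_mul_left (by positivity) h
      haveI hSn : S.Normal := ⟨fun z hz u => by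
        obtain ⟨q, rfl⟩ := Subgroup.mem_zpowers_iff.1 hz
        obtain ⟨t, ht⟩ := Subgroup.mem_zpowers_iff.1 (hAn.conj_mem a (Subgroup.mem_zpowers a) u)
        refine Subgroup.mem_zpowers_iff.2 ⟨t * q, ?_⟩
        rw [← conj_zpow, ← conj_pow, ← ht, ← zpow_natCast, ← zpow_natCast, ← zpow_mul, ← zpow_mul, ← zpow_mul]
        congr 1; ring⟩
      have hcomm : commutator (P : Subgroup G) ≤ S := by
        have hq : ∀ u v : (P : Subgroup G) ⧸ S, u * v = v * u := fun u v =>
          (IsPGroup.commutative_of_card_eq_prime_sq (p := 2) (by rw [← Subgroup.index_eq_card, hSi]; norm_num)) u v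
        rw [_root_.commutator_def, Subgroup.commutator_le]
        intro u _ v _
        rw [← QuotientGroup.eq_one_iff, ← QuotientGroup.mk'_apply, map_commutatorElement, commutatorElement_eq_one_iff_mul_comm]
        exact hq _ _
      show (commutator (P : Subgroup G)).index = 4
      rw [le_antisymm hcomm hS, hSi]

end Cfsg.Agent.S4923
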