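import Cfsg.Statements.S4997
import Cfsg.Agent.VanishClass.Main

set_option autoImplicit false
open Cfsg

namespace Cfsg.Agent.S4997

/-- Let p be an odd prime and G a finite solvable group with exactly one conjugacy class consisting of vanishing elements (elements at which some irreducible complex character is zero) of order divisible by p. Let P be a Sylow p-subgroup of G. Then the order of P is at most p times the order of the largest normal p-subgroup of G. -/
theorem result {G : Type*} [Group G] [Finite G] (hsolv : Group.IsSolvable G) (p : ℕ) [Fact p.Prime] (hp : p ≠ 2) (h1 : Set.ncard {C : ConjClasses G | (∀ g ∈ C.carrier, ∃ χ : Cfsg.IrrCharacter G, (χ : G → ℂ) g = 0) ∧ ∃ g ∈ C.carrier, p ∣ orderOf g} = 1) (P : Sylow p G) : Nat.card ↥(P : Subgroup G) ≤ p * Nat.card ↥(Cfsg.pCore p G) := by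
  haveI := hsolv
  refine CfsgLib.VanishClass.sylow_bound ?_ P
  intro a b ha hb
  obtain ⟨C, hC⟩ := Set.ncard_eq_one.1 h1
  have hmem : ∀ x : G, CfsgLib.VanishClass.Van p x → ConjClasses.mk x = C := fun x hx => by
    have : ConjClasses.mk x ∈ ({C} : Set (ConjClasses G)) := by
      rw [← hC]
      refine ⟨fun g hg => ?_, x, ConjClasses.mem_carrier_mk, hx.1⟩
      obtain ⟨hd, χ, hχ⟩ := hx
      refine ⟨χ, ?_⟩
      rw [CfsgLib.CharBasics.apply_isConj (CfsgLib.CharBasics.isCharacter_of_irr χ.2)
        (ConjClasses.mk_eq_mk_iff_isConj.1 (ConjClasses.mem_carrier_iff_mk_eq.1 hg))]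
      exact hχ
    exact this
  exact ConjClasses.mk_eq_mk_iff_isConj.1 ((hmem a ha).trans (hmem b hb).symm)

end Cfsg.Agent.S4997
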