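import Cfsg.Statements.S5179
import Cfsg.Agent.Fusion.EssentialPair
import Cfsg.Agent.PGroup.ExtraspecialIndex

set_option autoImplicit false
set_option linter.style.haveILetI false
open Cfsg
open scoped commutatorElement

universe u

namespace Cfsg.Agent.S5179

open Cfsg.FusionSystem CfsgLib.Fusion

/-- The automorphisms of `E` preserving `Z`. -/
def Pres {Ω : Type u} [Group Ω] {E : Subgroup Ω} (Z : Subgroup Ω) (a : MulAut E) : Prop :=
  ∀ y : E, (y : Ω) ∈ Z → ((a y : E) : Ω) ∈ Z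

theorem pres_mul {Ω : Type u} [Group Ω] {E : Subgroup Ω} {Z : Subgroup Ω} {a b : MulAut E} (ha : Pres Z a)
    (hb : Pres Z b) : Pres Z (a * b) := fun y hy => ha _ (hb y hy)

theorem pres_inv {Ω : Type u} [Group Ω] {E : Subgroup Ω} [Finite E] {Z : Subgroup Ω} {a : MulAut E} (ha : Pres Z a) :
    Pres Z a⁻¹ := by
  haveI : Finite (MulAut E) := Finite.of_injective (fun α : MulAut E => (α : E → E)) DFunLike.coe_injective
  have hp : ∀ n : ℕ, Pres Z (a ^ n) := fun n => by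
    induction n with
    | zero => exact fun y hy => hy
    | succ n ih => rw [pow_succ]; exact pres_mul ih ha
  have e : a⁻¹ = a ^ (orderOf a - 1) := by
    rw [inv_eq_iff_mul_eq_one, ← pow_succ', Nat.sub_add_cancel (orderOf_pos a), pow_orderOf_eq_one]
  rw [e]
  exact hp _

/-- Let p be an odd prime, S a finite p-group of order at least p⁶ containing an extraspecial subgroup Q of index p, and F a saturated fusion system over S whose largest subgroup normal in F is trivial. Then no proper subgroup of Q is essential in F: an essential subgroup of F contained in Q equals Q. -/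
theorem result {Ω : Type u} [Group Ω] {S : Subgroup Ω} [Finite S] (p : ℕ) [Fact p.Prime] (hp : Odd p) (hS : IsPGroup p S)
    (Q : Subgroup Ω) (hQS : Q ≤ S) (hQ : Cfsg.IsExtraspecial p ↥Q) (hQi : (Q.subgroupOf S).index = p)
    (h6 : p ^ 6 ≤ Nat.card S)
    (F : Cfsg.FusionSystem S) (hF : F.IsSaturated p) (hO : F.core = ⊥)
    (E : Subgroup Ω) (hEQ : E ≤ Q) (hE : F.IsEssential p E) : E = Q := by
  classical
  have hpp : p.Prime := Fact.out
  by_contra hEne
  haveI := finite_of_le (hEQ.trans hQS)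
  haveI := finite_of_le hQS
  haveI := finite_mulAut (S := S) (hEQ.trans hQS)
  have hcQ : Nat.card Q * p = Nat.card S := by
    have := (Q.subgroupOf S).card_mul_index
    rwa [hQi, Nat.card_congr (Subgroup.subgroupOfEquivOfLe hQS).toEquiv] at this
  have hQ5 : p ^ 5 ≤ Nat.card Q := by
    refine Nat.le_of_mul_le_mul_right ?_ hpp.pos
    rw [hcQ, ← pow_succ]; exact h6
  have hcent : centralizerIn S E ≤ E := hE.1.2 E (CfsgLib.Fusion.IsConj.refl (hEQ.trans hQS))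
  -- the centre of `Q`
  set Z := (Subgroup.center Q).map Q.subtype with hZdef
  have hZcard : Nat.card Z = p := by rw [hZdef, Subgroup.card_map_of_injective Q.subtype_injective, hQ.2]
  have hZE : Z ≤ E := by
    rintro _ ⟨z, hz, rfl⟩
    refine hcent ⟨hQS z.2, Subgroup.mem_centralizer_iff.2 fun e he => ?_⟩
    exact congrArg Subtype.val (Subgroup.mem_center_iff.1 hz ⟨e, hEQ he⟩)
  have hcomm : ∀ a ∈ Q, ∀ b ∈ Q, ⁅a, b⁆ ∈ Z := fun a ha b hb =>
    ⟨⁅(⟨a, ha⟩ : Q), ⟨b, hb⟩⁆, CfsgLib.Extraspecial.commutator_mem_center hQ _ _, rfl⟩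
  have hnorm : ∀ q ∈ Q, q ∈ normalizerIn S E := fun q hq => by
    refine ⟨hQS hq, Subgroup.mem_normalizer_iff.2 fun e => ?_⟩
    have key : ∀ g ∈ Q, ∀ e ∈ E, g * e * g⁻¹ ∈ E := fun g hg e he => by
      rw [show g * e * g⁻¹ = ⁅g, e⁆ * e by simp [commutatorElement_def, mul_assoc]]
      exact E.mul_mem (hZE (hcomm g hg e (hEQ he))) he
    refine ⟨key q hq e, fun h => ?_⟩
    have := key q⁻¹ (Q.inv_mem hq) _ h
    simpa [mul_assoc] using this
  obtain ⟨q₀, hq₀, hq₀E⟩ := SetLike.exists_of_lt (lt_of_le_of_ne hEQ hEne)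
  let c : ∀ q ∈ Q, MulAut E := fun q hq => conjAut E S ⟨q, hnorm q hq⟩
  have hcapp : ∀ q (hq : q ∈ Q) (y : E), ((c q hq y : E) : Ω) = q * y * q⁻¹ := fun q hq y => rfl
  have hcS : ∀ q (hq : q ∈ Q), c q hq ∈ autInducedBy S E := fun q hq => by
    rw [← range_conjAut]; exact ⟨_, rfl⟩
  have hcne : ∀ q (hq : q ∈ Q), q ∉ E → c q hq ∉ Cfsg.Inn E := by
    rintro q hq hqE ⟨e, he⟩
    refine hqE ?_
    have h1 : (e : Ω)⁻¹ * q ∈ centralizerIn S E := by
      refine ⟨S.mul_mem (S.inv_mem (hQS (hEQ e.2))) (hQS hq), Subgroup.mem_centralizer_iff.2 fun y hy => ?_⟩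
      have h2 : (e : Ω) * y * (e : Ω)⁻¹ = q * y * q⁻¹ := by
        rw [← hcapp q hq ⟨y, hy⟩, ← he]; rfl
      calc y * ((e : Ω)⁻¹ * q) = (e : Ω)⁻¹ * ((e : Ω) * y * (e : Ω)⁻¹) * q := by group
        _ = (e : Ω)⁻¹ * q * y := by rw [h2]; group
    have := E.mul_mem e.2 (hcent h1)
    simpa using this
  have hmoveZ : ∀ q (hq : q ∈ Q) (y : E), ((c q hq y : E) : Ω) * (y : Ω)⁻¹ ∈ Z := fun q hq y => by
    rw [hcapp q hq]
    simpa [commutatorElement_def] using hcomm q hq y (hEQ y.2)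
  have hfixZ : ∀ q (hq : q ∈ Q) (y : E), (y : Ω) ∈ Z → c q hq y = y := fun q hq y hy => by
    obtain ⟨z, hz, hzy⟩ := hy
    refine Subtype.ext ?_
    rw [hcapp q hq, ← hzy]
    have h1 : q * (z : Ω) = (z : Ω) * q := congrArg Subtype.val (Subgroup.mem_center_iff.1 hz ⟨q, hq⟩)
    show q * (z : Ω) * q⁻¹ = z
    rw [h1, mul_inv_cancel_right]
  -- some automorphism moves the centre of `Q`
  obtain ⟨d, hdA, hd⟩ : ∃ d ∈ F.autGroup E, ¬ Pres Z d := by
    by_contra h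
    push_neg at h
    refine hcne q₀ hq₀ hq₀E (mem_inn_of_stabilizes hS hF hE hZE (fun a ha y hy => h a ha y hy) (hcS q₀ hq₀)
      (hfixZ q₀ hq₀) fun y => ?_)
    have h1 := hcomm (y : Ω)⁻¹ (Q.inv_mem (hEQ y.2)) q₀ hq₀
    show (y : Ω)⁻¹ * ((c q₀ hq₀ y : E) : Ω) ∈ Z
    rw [hcapp q₀ hq₀]
    simpa [commutatorElement_def, mul_assoc] using h1
  have hab : ∀ e f : E, e * f = f * e := by
    intro e f
    by_contra hef
    refine hd fun y hy => ?_
    have hne : ⁅(e : Ω), (f : Ω)⁆ ≠ 1 := fun h1 =>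
      hef (Subtype.ext (commutatorElement_eq_one_iff_mul_comm.1 h1))
    have hgen : Subgroup.zpowers ⁅(e : Ω), (f : Ω)⁆ = Z := by
      haveI := finite_of_le (hZE.trans (hEQ.trans hQS))
      have hmem := hcomm e (hEQ e.2) f (hEQ f.2)
      have hz := zpowers_eq_top_of_prime_card (G := Z) hZcard (g := ⟨_, hmem⟩)
        (fun h2 => hne (congrArg Subtype.val h2))
      refine le_antisymm (Subgroup.zpowers_le.2 hmem) fun w hw => ?_
      obtain ⟨k, hk⟩ := Subgroup.mem_zpowers_iff.1 (hz ▸ Subgroup.mem_top (⟨w, hw⟩ : Z))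
      exact Subgroup.mem_zpowers_iff.2 ⟨k, congrArg Subtype.val hk⟩
    rw [← hgen, Subgroup.mem_zpowers_iff] at hy
    obtain ⟨k, hk⟩ := hy
    have hye : y = ⁅e, f⁆ ^ k := Subtype.ext (by rw [← hk]; rfl)
    rw [hye, map_zpow, map_commutatorElement]
    show (⁅((d e : E) : Ω), ((d f : E) : Ω)⁆ ^ k) ∈ Z
    exact zpow_mem (hcomm _ (hEQ (d e).2) _ (hEQ (d f).2)) k
  obtain ⟨hc', hn, hI, Y, hdvd, hYne, R, hR⟩ := hE
  haveI := hI
  set A := F.autGroup E
  have hInn : ∀ α ∈ Cfsg.Inn E, α = 1 := by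
    rintro _ ⟨g, rfl⟩
    refine MulEquiv.ext fun x => ?_
    show g * x * g⁻¹ = x
    rw [hab g x, mul_inv_cancel_right]
  let π := QuotientGroup.mk' ((Cfsg.Inn E).subgroupOf A)
  have hπ : Function.Surjective π := QuotientGroup.mk'_surjective _
  have hπinj : Function.Injective π := (MonoidHom.ker_eq_bot_iff π).1 (by
    rw [QuotientGroup.ker_mk', eq_bot_iff]
    exact fun a ha => Subgroup.mem_bot.2 (Subtype.ext (hInn _ ha)))
  obtain ⟨-, T, hT⟩ := fullyAutomized_of_fullyNormalized hS hF hn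
  obtain ⟨g, hg⟩ := MulAction.exists_smul_eq (↥A ⧸ (Cfsg.Inn E).subgroupOf A) (T.mapSurjective hπ) R
  obtain ⟨a₀, rfl⟩ := hπ g
  let cA : ∀ q ∈ Q, A := fun q hq => ⟨c q hq, autInducedBy_le_autGroup (hEQ.trans hQS) (hcS q hq)⟩
  have hcR : ∀ q (hq : q ∈ Q), π (a₀ * cA q hq * a₀⁻¹) ∈ (R : Subgroup (↥A ⧸ (Cfsg.Inn E).subgroupOf A)) := fun q hq => by
    rw [← hg, Sylow.coe_subgroup_smul, map_mul, map_mul, map_inv]
    refine Subgroup.smul_mem_pointwise_smul (π (cA q hq)) (MulAut.conj (π a₀)) _ ?_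
    rw [Sylow.coe_mapSurjective]
    exact ⟨cA q hq, hT ▸ Subgroup.mem_subgroupOf.2 (hcS q hq), rfl⟩
  have hcA1 : ∀ q (hq : q ∈ Q), q ∉ E → ∀ a : A, π (a * cA q hq * a⁻¹) ≠ 1 := fun q hq hqE a h => by
    have h1 : a * cA q hq * a⁻¹ = 1 := hπinj (h.trans (map_one π).symm)
    rw [mul_inv_eq_one, mul_eq_left] at h1
    have h2 : c q hq = 1 := congrArg Subtype.val h1
    exact hcne q hq hqE (h2 ▸ one_mem _)
  -- an element outside `E` centralising a given element of `E`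
  have hfind : ∀ w : E, ∃ q ∈ Q, q ∉ E ∧ q * (w : Ω) = (w : Ω) * q := by
    intro w
    by_contra h
    push_neg at h
    set w' : Q := ⟨w, hEQ w.2⟩
    have hle : (Subgroup.centralizer ({w'} : Set Q)).map Q.subtype ≤ E := by
      rintro _ ⟨q, hq, rfl⟩
      by_contra hqE
      exact h q q.2 hqE (congrArg Subtype.val (Subgroup.mem_centralizer_singleton_iff.1 hq))
    have h1 : Nat.card (Subgroup.centralizer ({w'} : Set Q)) ≤ Nat.card E := by
      rw [← Subgroup.card_map_of_injective Q.subtype_injective]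
      exact Subgroup.card_le_of_le hle
    have h2 : (Subgroup.centralizer ({w'} : Set Q)).index ≤ p :=
      (CfsgLib.PGroup.index_centralizer_le fun g => CfsgLib.Extraspecial.commutator_mem_center hQ g w').trans hQ.2.le
    have h3 := (Subgroup.centralizer ({w'} : Set Q)).card_mul_index
    have h4 : Nat.card (E.subgroupOf Q) * Nat.card (E.subgroupOf Q) ≤ p * Nat.card Q :=
      CfsgLib.Extraspecial.card_abelian_sq_le hQ ⟨⟨fun a b => Subtype.ext (Subtype.ext (by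
        have h := congrArg Subtype.val (hab ⟨(a : Q), a.2⟩ ⟨(b : Q), b.2⟩)
        exact h))⟩⟩
    rw [Nat.card_congr (Subgroup.subgroupOfEquivOfLe hEQ).toEquiv] at h4
    have h5 : Nat.card Q ≤ Nat.card E * p := h3 ▸ Nat.mul_le_mul h1 h2
    have h6 : Nat.card Q * Nat.card Q ≤ p ^ 3 * Nat.card Q :=
      calc Nat.card Q * Nat.card Q ≤ (Nat.card E * p) * (Nat.card E * p) := Nat.mul_le_mul h5 h5
        _ = (Nat.card E * Nat.card E) * (p * p) := by ring
        _ ≤ (p * Nat.card Q) * (p * p) := Nat.mul_le_mul_right _ h4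
        _ = p ^ 3 * Nat.card Q := by ring
    have h7 := Nat.le_of_mul_le_mul_right h6 Nat.card_pos
    exact absurd (hQ5.trans h7) (not_le.2 (Nat.pow_lt_pow_right hpp.one_lt (by norm_num)))
  -- a generator of the centre inside `E`
  obtain ⟨z, hzZ, hz1⟩ := Z.bot_or_exists_ne_one.resolve_left (fun h => by
    rw [h, Subgroup.card_bot] at hZcard; exact hpp.one_lt.ne hZcard)
  set z' : E := ⟨z, hZE hzZ⟩
  have hZz : ∀ y : E, (y : Ω) ∈ Z → ∃ k : ℤ, y = z' ^ k := fun y hy => by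
    have hz2 := zpowers_eq_top_of_prime_card (G := Z) hZcard (g := ⟨z, hzZ⟩) (fun h2 => hz1 (congrArg Subtype.val h2))
    obtain ⟨k, hk⟩ := Subgroup.mem_zpowers_iff.1 (hz2 ▸ Subgroup.mem_top (⟨(y : Ω), hy⟩ : Z))
    refine ⟨k, Subtype.ext ?_⟩
    have := congrArg Subtype.val hk
    simpa [z'] using this.symm
  -- commuting conjugates
  have hpair : ∀ b : A, ∃ q, ∃ hq : q ∈ Q, q ∉ E ∧ ∃ r, ∃ hr : r ∈ Q, r ∉ E ∧
      Commute (cA q hq) (b * cA r hr * b⁻¹) := by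
    intro b
    obtain ⟨q, hq, hqE, hqw⟩ := hfind ((b : MulAut E) z')
    obtain ⟨r, hr, hrE, hrw⟩ := hfind ((b : MulAut E)⁻¹ z')
    refine ⟨q, hq, hqE, r, hr, hrE, Subtype.ext (MulEquiv.ext fun y => ?_)⟩
    show c q hq ((b : MulAut E) (c r hr ((b : MulAut E)⁻¹ y))) =
      (b : MulAut E) (c r hr ((b : MulAut E)⁻¹ (c q hq y)))
    obtain ⟨i, hi⟩ := hZz (c q hq y * y⁻¹) (by simpa using hmoveZ q hq y)
    obtain ⟨j, hj⟩ := hZz (c r hr ((b : MulAut E)⁻¹ y) * ((b : MulAut E)⁻¹ y)⁻¹) (by simpa using hmoveZ r hr _)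
    rw [mul_inv_eq_iff_eq_mul] at hi hj
    have hfix1 : c q hq ((b : MulAut E) z') = (b : MulAut E) z' := Subtype.ext (by rw [hcapp q hq, hqw, mul_inv_cancel_right])
    have hfix2 : c r hr ((b : MulAut E)⁻¹ z') = (b : MulAut E)⁻¹ z' :=
      Subtype.ext (by rw [hcapp r hr, hrw, mul_inv_cancel_right])
    rw [hj, map_mul, MulAut.apply_inv_self, map_zpow, map_mul, map_zpow, hfix1, hi, map_mul, map_zpow, map_mul,
      map_zpow, hfix2, map_mul, map_zpow, MulAut.apply_inv_self, hj, map_mul, MulAut.apply_inv_self, map_zpow]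
    rw [← mul_assoc, ← mul_assoc, hab (z' ^ i)]
  have hRne : (R : Subgroup (↥A ⧸ (Cfsg.Inn E).subgroupOf A)) ≠ ⊥ := R.ne_bot_of_dvd_card hdvd
  have hRY : (R : Subgroup (↥A ⧸ (Cfsg.Inn E).subgroupOf A)) ≤ Y := Subgroup.le_normalizer.trans (normalizer_le_of_core_le hR le_rfl hRne)
  -- conjugates moving the centre lie in `Y`
  set M₀ : Subgroup A := Y.comap (π.comp (MulAut.conj a₀).toMonoidHom)
  have hmove : ∀ b : A, ¬ Pres Z (b : MulAut E) → b ∈ M₀ := by
    intro b _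
    obtain ⟨q, hq, hqE, r, hr, hrE, hqr⟩ := hpair b
    set x := π (a₀ * cA q hq * a₀⁻¹) with hxdef
    set x' := π (a₀ * (b * cA r hr * b⁻¹) * a₀⁻¹) with hx'def
    have hxx : x' * x * x'⁻¹ = x := by
      rw [mul_inv_eq_iff_eq_mul, hxdef, hx'def, ← map_mul, ← map_mul]
      congr 1
      calc a₀ * (b * cA r hr * b⁻¹) * a₀⁻¹ * (a₀ * cA q hq * a₀⁻¹)
          = a₀ * ((b * cA r hr * b⁻¹) * cA q hq) * a₀⁻¹ := by group
        _ = a₀ * cA q hq * a₀⁻¹ * (a₀ * (b * cA r hr * b⁻¹) * a₀⁻¹) := by rw [← hqr.eq]; group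
    have hx'Y : x' ∈ Y := mem_of_conj_mem hR (hcR q hq) (hcA1 q hq hqE a₀) (hxx.symm ▸ hcR q hq)
    set g := π (a₀ * b * a₀⁻¹) with hgdef
    set x₀ := π (a₀ * cA r hr * a₀⁻¹) with hx₀
    have hx0 : x' = g * x₀ * g⁻¹ := by
      rw [hx'def, hgdef, hx₀, ← map_inv, ← map_mul, ← map_mul]; congr 1; group
    obtain ⟨n, hn'⟩ := R.isPGroup' ⟨x₀, hcR r hr⟩
    have hpow : x₀ ^ p ^ n = 1 := congrArg Subtype.val hn'
    obtain ⟨T', hT'⟩ := (IsPGroup.of_card_dvd_pow (p := p) (n := n) (G := Subgroup.zpowers (⟨x', hx'Y⟩ : Y)) (by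
      rw [Nat.card_zpowers]
      refine orderOf_dvd_of_pow_eq_one (Subtype.ext ?_)
      show x' ^ p ^ n = 1
      rw [hx0, conj_pow, hpow, mul_one, mul_inv_cancel])).exists_le_sylow
    obtain ⟨e, he⟩ := MulAction.exists_smul_eq Y T' (R.subtype hRY)
    have hmem : (e : _) * x' * (e : _)⁻¹ ∈ (R : Subgroup (↥A ⧸ (Cfsg.Inn E).subgroupOf A)) := by
      have h1 := Subgroup.smul_mem_pointwise_smul _ (MulAut.conj e) _ (hT' (Subgroup.mem_zpowers _))
      rw [← Sylow.coe_subgroup_smul, he, Sylow.coe_subtype, Subgroup.mem_subgroupOf] at h1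
      exact h1
    have heg := mem_of_conj_mem hR (hcR r hr) (hcA1 r hr hrE a₀) (g := (e : _) * g) (by
      rw [show (e : _) * g * x₀ * ((e : _) * g)⁻¹ = (e : _) * (g * x₀ * g⁻¹) * (e : _)⁻¹ by simp [mul_assoc], ← hx0]
      exact hmem)
    exact (Subgroup.mul_mem_cancel_left _ e.2).1 heg
  have htop : M₀ = ⊤ := eq_top_iff.2 fun b _ => by
    by_cases hb : Pres Z (b : MulAut E)
    · have hd' := hmove ⟨d, hdA⟩ hd
      refine (Subgroup.mul_mem_cancel_right _ hd').1 (hmove _ fun hbd => hd ?_)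
      have := pres_mul (pres_inv hb) hbd
      simpa using this
    · exact hmove b hb
  refine hYne (eq_top_iff.2 fun y _ => ?_)
  obtain ⟨a, rfl⟩ := hπ y
  have := (htop ▸ Subgroup.mem_top (a₀⁻¹ * a * a₀) : a₀⁻¹ * a * a₀ ∈ M₀)
  simpa [M₀, mul_assoc] using this

end Cfsg.Agent.S5179
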