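import Cfsg.Statements.S5187
import Cfsg.Agent.RankTwoEssential.Core
import Cfsg.Agent.S5080
import Cfsg.Agent.PGroup.Critical

set_option autoImplicit false
universe u
open Cfsg

namespace Cfsg.Agent.S5187

/-- Let F be a saturated fusion system over a finite p-group S and H an abelian essential subgroup that can be generated by two elements (its Frattini quotient has order at most p²). Then H is elementary abelian of order p², or p ≤ 3 and H is homocyclic of rank two, that is isomorphic to C_{pᵏ} × C_{pᵏ} for some k. -/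
theorem result {Ω : Type u} [Group Ω] {S : Subgroup Ω} [Finite S] (p : ℕ) [Fact p.Prime] (hS : IsPGroup p S)
    (F : Cfsg.FusionSystem S) (hF : F.IsSaturated p) (H : Subgroup Ω) (hH : F.IsEssential p H) (hab : IsMulCommutative ↥H) (hrk : (frattini ↥H).index ≤ p ^ 2) :
    (Cfsg.IsElementaryAbelian p H ∧ Nat.card H = p ^ 2) ∨
      (p ≤ 3 ∧ ∃ k : ℕ, Nonempty (↥H ≃* Multiplicative (ZMod (p ^ k) × ZMod (p ^ k)))) := by
  classical
  obtain ⟨hc, -, hn, E, hE⟩ := hH
  haveI := CfsgLib.Fusion.finite_of_le hc.1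
  haveI := CfsgLib.Fusion.finite_mulAut (S := S) hc.1
  letI : CommGroup ↥H := { (inferInstance : Group ↥H) with mul_comm := hab.is_comm.comm }
  have hHp : IsPGroup p ↥H := hS.to_le hc.1
  have hInn : ∀ α ∈ Cfsg.Inn H, α = 1 := by
    rintro _ ⟨g, rfl⟩
    refine MulEquiv.ext fun x => ?_
    show g * x * g⁻¹ = x
    rw [mul_comm g x, mul_inv_cancel_right]
  haveI := hn
  have hI : (Cfsg.Inn H).subgroupOf (F.autGroup H) = ⊥ :=
    eq_bot_iff.2 fun a ha => Subgroup.mem_bot.2 (Subtype.ext (hInn _ ha))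
  have hker : ∀ N : Subgroup (F.autGroup H), N.Normal → IsPGroup p N → N = ⊥ := fun N hN hNp => by
    have h := Cfsg.Agent.S5080.eq_bot_of_stronglyPEmbedded hE
      (hN.map (QuotientGroup.mk' ((Cfsg.Inn H).subgroupOf (F.autGroup H))) (QuotientGroup.mk'_surjective _))
      (hNp.map _)
    rw [Subgroup.map_eq_bot_iff, QuotientGroup.ker_mk', hI] at h
    exact le_bot_iff.1 h
  have hle : frattini ↥H ≤ CfsgLib.RankTwo.P p ↥H 1 :=
    CfsgLib.PGroup.frattini_le_of_elementary (p := p)
      (fun a b => by rw [commutatorElement_eq_one_iff_mul_comm.2 (mul_comm a b)]; exact one_mem _)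
      (fun a => CfsgLib.RankTwo.mem_P.2 ⟨a, by rw [pow_one]⟩)
  rcases CfsgLib.RankTwo.structure_theorem hHp ((Subgroup.index_antitone hle).trans hrk) _ hker
      (hE.1.trans (Subgroup.card_quotient_dvd_card _)) with ⟨h1, h2⟩ | h
  · exact Or.inl ⟨⟨hab, fun a ha => congrArg Subtype.val (h1 ⟨a, ha⟩)⟩, h2⟩
  · exact Or.inr h

end Cfsg.Agent.S5187
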