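import Cfsg.Statements.S5191
import Cfsg.Agent.PCore.Basic
-- import your own Cfsg.Agent.* helpers here

set_option autoImplicit false
open Cfsg

namespace Cfsg.Agent.S5191

/-- Fusion in a finite group G and in its quotient by O_{p'}(G) agree. Let S be a Sylow p-subgroup of G, N = O_{p'}(G) and P ≤ S. If an element of G/N conjugates the image of P into the image of S, then some element g of G conjugates P into S and induces the same map on P modulo N. (Together with the injectivity of S → G/N this says that g ↦ gN induces an isomorphism of the fusion system of G on S with that of G/N on SN/N.) -/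
theorem result {G : Type*} [Group G] [Finite G] {p : ℕ} [Fact p.Prime]
    [hN : (Cfsg.pPrimeCore p G).Normal] (S : Sylow p G) (P : Subgroup G) (hP : P ≤ (S : Subgroup G))
    (γ : G ⧸ Cfsg.pPrimeCore p G)
    (hγ : ∀ x ∈ P, γ * QuotientGroup.mk x * γ⁻¹ ∈ ((S : Subgroup G).map (QuotientGroup.mk' (Cfsg.pPrimeCore p G)))) :
    ∃ g : G, ∀ x ∈ P, g * x * g⁻¹ ∈ S ∧
      (QuotientGroup.mk (g * x * g⁻¹) : G ⧸ Cfsg.pPrimeCore p G) = γ * QuotientGroup.mk x * γ⁻¹ := by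
    obtain ⟨γ₀, hγ₀⟩ := QuotientGroup.mk'_surjective (Cfsg.pPrimeCore p G) γ
    subst hγ₀
    set N := Cfsg.pPrimeCore p G
    set π := QuotientGroup.mk' N
    have hdis : ∀ D : Subgroup G, IsPGroup p D → ∀ a ∈ D, ∀ b ∈ D, π a = π b → a = b := by
      intro D hD a ha b hb h
      have h1 : a⁻¹ * b ∈ D ⊓ N := ⟨D.mul_mem (D.inv_mem ha) hb, QuotientGroup.eq.1 h⟩
      have h2 : D ⊓ N = ⊥ := by
        obtain ⟨k, hk⟩ := IsPGroup.iff_card.1 (hD.to_le (inf_le_left : D ⊓ N ≤ D))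
        apply Subgroup.eq_bot_of_card_eq
        rcases k with _ | k
        · rwa [pow_zero] at hk
        · exact absurd ((hk ▸ dvd_pow_self p k.succ_ne_zero : p ∣ Nat.card ↥(D ⊓ N)).trans
            (Subgroup.card_dvd_of_le inf_le_right)) (CfsgLib.PCore.not_dvd_card_pPrimeCore p G)
      rwa [h2, Subgroup.mem_bot, inv_mul_eq_one] at h1
    set X₂ := P.map (MulAut.conj γ₀).toMonoidHom
    set X₁ := (S : Subgroup G) ⊓ (X₂.map π).comap π
    have hX₂ : IsPGroup p X₂ := (S.isPGroup'.to_le hP).map _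
    have hX₁ : IsPGroup p X₁ := S.isPGroup'.to_le inf_le_left
    set M := X₁ ⊔ N
    have hγ' : ∀ x ∈ P, ∃ s ∈ (S : Subgroup G), π s = π (γ₀ * x * γ₀⁻¹) := fun x hx => by
      obtain ⟨s, hs, e⟩ := hγ x hx
      exact ⟨s, hs, e.trans (by rw [map_mul, map_mul, map_inv]; rfl)⟩
    have hlift : ∀ x ∈ P, ∃ s ∈ X₁, π s = π (γ₀ * x * γ₀⁻¹) := fun x hx => by
      obtain ⟨s, hs, e⟩ := hγ' x hx
      exact ⟨s, ⟨hs, show π s ∈ X₂.map π from e ▸ ⟨_, ⟨x, hx, rfl⟩, rfl⟩⟩, e⟩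
    have hX₂M : X₂ ≤ M := by
      rintro _ ⟨x, hx, rfl⟩
      obtain ⟨s, hs, e⟩ := hlift x hx
      obtain ⟨n, hn, e'⟩ := (QuotientGroup.mk'_eq_mk' N).1 e
      show γ₀ * x * γ₀⁻¹ ∈ M
      rw [← e']
      exact Subgroup.mul_mem_sup hs hn
    have hker : N.map π = ⊥ := (Subgroup.map_eq_bot_iff N).2 (QuotientGroup.ker_mk' N).ge
    have hsub : ∀ D : Subgroup G, IsPGroup p D → D ≤ M → Nat.card D ≤ Nat.card (X₁.map π) := fun D hD hDM =>
      (le_of_eq (Nat.card_congr (Equiv.ofBijective (fun d : D => (⟨π d, d, d.2, rfl⟩ : D.map π))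
        ⟨fun a b h => Subtype.ext (hdis D hD _ a.2 _ b.2 (congrArg Subtype.val h)),
          fun ⟨_, d, hd, rfl⟩ => ⟨⟨d, hd⟩, rfl⟩⟩))).trans
        (Subgroup.card_le_of_le ((Subgroup.map_mono hDM).trans (le_of_eq (by rw [Subgroup.map_sup, hker, sup_bot_eq]))))
    have hsyl : ∀ D : Subgroup G, IsPGroup p D → D ≤ M → Nat.card (X₁.map π) ≤ Nat.card D →
        ∃ R : Sylow p M, (R : Subgroup M).map M.subtype = D := by
      intro D hD hDM hDc
      obtain ⟨R, hR'⟩ := (hD.of_equiv (Subgroup.subgroupOfEquivOfLe hDM).symm).exists_le_sylow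
      exact ⟨R, (Subgroup.eq_of_le_of_card_ge ((Subgroup.map_subgroupOf_eq_of_le hDM).ge.trans (Subgroup.map_mono hR'))
        ((hsub _ (R.isPGroup'.map _) (Subgroup.map_subtype_le _)).trans hDc)).symm⟩
    have hsurj : ∀ D : Subgroup G, Nat.card (D.map π) ≤ Nat.card D := fun D => Nat.card_le_card_of_surjective
      (fun d : D => (⟨π d, d, d.2, rfl⟩ : D.map π)) fun ⟨_, d, hd, rfl⟩ => ⟨⟨d, hd⟩, rfl⟩
    obtain ⟨R₁, hR₁⟩ := hsyl X₁ hX₁ le_sup_left (hsurj _)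
    obtain ⟨R₂, hR₂⟩ := hsyl X₂ hX₂ hX₂M ((Subgroup.card_le_of_le (fun y hy => by
      obtain ⟨s, hs, rfl⟩ := hy
      exact (Subgroup.mem_comap.1 hs.2))).trans (hsurj _))
    obtain ⟨l, hl⟩ := MulAction.exists_smul_eq M R₂ R₁
    obtain ⟨y, hy, n, hn, e⟩ := Subgroup.mem_sup_of_normal_right.1 l.2
    refine ⟨n * γ₀, fun x hx => ?_⟩
    obtain ⟨z, hz, ez⟩ := hR₂.ge (show γ₀ * x * γ₀⁻¹ ∈ X₂ from ⟨x, hx, rfl⟩)
    have h3 : (l : G) * (γ₀ * x * γ₀⁻¹) * (l : G)⁻¹ ∈ X₁ := by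
      refine hR₁.le ⟨MulAut.conj l z, ?_, ?_⟩
      · rw [← hl, Sylow.coe_subgroup_smul]
        exact ⟨z, hz, rfl⟩
      · rw [← ez]; rfl
    have h4 : n * γ₀ * x * (n * γ₀)⁻¹ ∈ X₁ := by
      have := X₁.mul_mem (X₁.mul_mem (X₁.inv_mem hy) h3) hy
      rwa [← e, show y⁻¹ * (y * n * (γ₀ * x * γ₀⁻¹) * (y * n)⁻¹) * y = n * γ₀ * x * (n * γ₀)⁻¹ by group] at this
    refine ⟨h4.1, ?_⟩
    show π _ = π γ₀ * π x * (π γ₀)⁻¹
    rw [map_mul, map_mul, map_inv, map_mul, show π n = 1 from (QuotientGroup.eq_one_iff n).2 hn, one_mul]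

end Cfsg.Agent.S5191
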