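import Cfsg.Statements.S5192
import Cfsg.Agent.Fusion.Biset.ThompsonTransfer

set_option autoImplicit false
open Cfsg

namespace Cfsg.Agent.S5192

/-- A Thompson-type transfer for saturated fusion systems. Let F be a saturated fusion system on a finite 2-group S, T a subgroup of S of index 2, and i an involution of S such that every fully normalized F-conjugate of i lies in S but outside T. Then i does not lie in the hyperfocal subgroup of F (the Sylow group of the 2-residual subsystem). -/
theorem result {Ω : Type*} [Group Ω] [Finite Ω] {S : Subgroup Ω}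
    (hS : IsPGroup 2 ↥S) (F : Cfsg.FusionSystem S) (hF : F.IsSaturated 2)
    (T : Subgroup Ω) (hTS : T ≤ S) (hT : T.relIndex S = 2)
    (i : Ω) (hi : i ∈ S) (hi2 : orderOf i = 2)
    (h : ∀ j : Ω, F.IsConjElt i j → F.IsFullyNormalized (Subgroup.zpowers j) → j ∉ T) :
    i ∉ F.hyperfocalSubgroup 2 := by
  haveI : (T.subgroupOf S).Normal := Subgroup.normal_of_index_eq_two hT
  have hle : F.hyperfocalSubgroup 2 ≤ F.focalSubgroup := (Subgroup.closure_le _).2 (by
    rintro _ ⟨P, α, x, hP, -, rfl⟩
    exact Subgroup.subset_closure ⟨P, P.subtype.comp (α : MulAut P).toMonoidHom, x,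
      (CfsgLib.Fusion.mem_autGroup hP).1 α.2, rfl⟩)
  intro hyp
  refine CfsgLib.Biset.not_mem_focal_of_thompson hS hF (T.subgroupOf S) hT ⟨i, hi⟩
    (by rwa [Subgroup.orderOf_mk]) (fun y hy hfn hyT => h y hy hfn hyT) (hle hyp)

end Cfsg.Agent.S5192
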