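import Cfsg.Statements.S5193
import Cfsg.Agent.Fusion.GlaubermanCenter
import Cfsg.Agent.Fusion.Control

set_option autoImplicit false
open Cfsg

namespace Cfsg.Agent.S5193

/-- Glauberman's Theorem for fusion systems. Let F be a saturated fusion system over a finite p-group S, let J(S) be the subgroup generated by the abelian subgroups of S of largest order, and let N be the normalizer fusion system of J(S) in F (a fusion system over N_S(J(S)) = S). Then every p-th power of an element of Z(S) that lies in the centre of N lies in the centre of F; and if p is odd, or if the symmetric group of degree 4 is not involved in any model of the normalizer system of a fully normalized F-centric subgroup (F is S₄-free), then the centre of N equals the centre of F. -/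
theorem result {Ω : Type*} [Group Ω] {S : Subgroup Ω} [Finite S] (p : ℕ) [Fact p.Prime] (hS : IsPGroup p S) (F : Cfsg.FusionSystem S) (hF : F.IsSaturated p) (N : Cfsg.FusionSystem (Cfsg.FusionSystem.normalizerIn S (Cfsg.thompsonSubgroupAOf S))) (hN : F.IsNormalizerSystem (Cfsg.thompsonSubgroupAOf S) N) : Subgroup.closure ((fun z : Ω => z ^ p) '' ((S ⊓ Subgroup.centralizer (S : Set Ω) : Subgroup Ω) : Set Ω)) ⊓ N.center ≤ F.center ∧ (p ≠ 2 ∨ F.IsSectionFree p (Equiv.Perm (Fin 4)) → N.center = F.center) := by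
  classical
  have hJ := CfsgLib.ZJ.thompsonSubgroupAOf_eq p S
  have hW₀ : Cfsg.thompsonSubgroupAOf S = (CfsgLib.ZJ.J p false (⊤ : Subgroup S)).map S.subtype := by
    rw [hJ, CfsgLib.ZJ.J_eq_map_top]
  have hWZ : ∀ (Q : Type _) [Group Q] [Finite Q], IsPGroup p Q → Subgroup.center Q ≤
      CfsgLib.ZJ.J p false (⊤ : Subgroup Q) := by
    intro Q _ _ _ z hz
    obtain ⟨A, hA⟩ := CfsgLib.ZJ.maxGood_nonempty p false (⊤ : Subgroup Q)
    exact CfsgLib.ZJ.maxGood_le_J hA (CfsgLib.ZJ.mem_of_maxGood hA (Subgroup.mem_top z)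
      (fun a _ => Subgroup.mem_center_iff.1 hz a) (by simp))
  constructor
  · refine CfsgLib.Fusion.powers_center_le_of_functor hS hF CfsgLib.Fusion.J_hom_top hWZ p ?_ hW₀ N hN
    intro G _ _ P hc _ w hw hwP hfix
    rw [CfsgLib.Fusion.J_map_top] at hfix
    exact CfsgLib.Fusion.pow_mem_center_of_thompson P hc hw hwP hfix
  intro hp
  have hJS : Cfsg.thompsonSubgroupAOf S ≤ S := hJ ▸ CfsgLib.ZJ.J_le S
  have hTS : Cfsg.FusionSystem.normalizerIn S (Cfsg.thompsonSubgroupAOf S) = S := by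
    refine le_antisymm inf_le_left (le_inf le_rfl fun g hg => ?_)
    rw [hJ]
    exact CfsgLib.ZJ.normalizer_le_normalizer_J S (Subgroup.le_normalizer hg)
  refine le_antisymm ?_ ?_
  · have h1 := CfsgLib.Fusion.powers_center_le_of_functor hS hF CfsgLib.Fusion.J_hom_top hWZ 1 ?_ hW₀ N hN
    · intro z hz
      refine h1 ⟨Subgroup.subset_closure ⟨z, ⟨?_, ?_⟩, pow_one z⟩, hz⟩
      · exact ((sSup_le fun K hK => hK.1.trans hTS.le : N.center ≤ S)) hz
      · exact Subgroup.mem_centralizer_iff.2 fun s hs => N.center_le_centralizer hz s (hTS.ge hs)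
    intro G _ _ P hc hG w hw hwP hfix
    simp only [pow_one] at hfix ⊢
    rw [CfsgLib.Fusion.J_map_top] at hfix
    refine CfsgLib.Fusion.mem_center_of_thompson P hc (hp.imp_right fun hf hi => ?_) hw hwP hfix
    obtain ⟨Q, hQ, ι, hQc, hι⟩ := hG
    exact hf Q hQ hQc _ (CfsgLib.Fusion.isNormalizerSystem_normalizerSystem F hQ.1) G ι hι hi
  · refine sSup_le fun K hK => le_sSup ⟨hK.1.trans hTS.ge, fun P φ hφ => ?_⟩
    rw [hN P] at hφ
    obtain ⟨hφF, hP, hv, ψ, hψ, hag, hψJ⟩ := hφ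
    obtain ⟨χ, hχ, hag', hfix⟩ := hK.2 _ ψ hψ
    have hle : P ⊔ K ≤ (P ⊔ Cfsg.thompsonSubgroupAOf S) ⊔ K := sup_le_sup_right le_sup_left K
    refine ⟨χ.comp (Subgroup.inclusion hle), ?_, fun x => (hag' (Subgroup.inclusion le_sup_left x)).trans (hag x),
      fun x => hfix x⟩
    rw [hN (P ⊔ K)]
    have hle2 : (P ⊔ K) ⊔ Cfsg.thompsonSubgroupAOf S ≤ (P ⊔ Cfsg.thompsonSubgroupAOf S) ⊔ K :=
      sup_le hle (le_sup_right.trans le_sup_left)
    refine ⟨CfsgLib.Fusion.restrict hχ hle, sup_le hP (hK.1.trans hTS.ge),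
      fun x => hTS.ge (CfsgLib.Fusion.val_mem hχ _), χ.comp (Subgroup.inclusion hle2),
      CfsgLib.Fusion.restrict hχ hle2, fun x => rfl, le_antisymm ?_ ?_⟩
    · rintro _ ⟨x, hx, rfl⟩
      refine hψJ.le ⟨⟨x, Subgroup.mem_sup_right hx⟩, hx, ?_⟩
      exact (hag' ⟨x, Subgroup.mem_sup_right hx⟩).symm
    · intro y hy
      obtain ⟨⟨x, hxm⟩, hx, rfl⟩ := hψJ.ge hy
      exact ⟨⟨x, Subgroup.mem_sup_right hx⟩, hx, hag' ⟨x, hxm⟩⟩

end Cfsg.Agent.S5193
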