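import Cfsg.Statements.S5246
import Cfsg.Agent.Fusion.Group
import Cfsg.Agent.PCore.Basic
-- import your own Cfsg.Agent.* helpers here

set_option autoImplicit false
open Cfsg

namespace Cfsg.Agent.S5246

open CfsgLib.Fusion Cfsg.FusionSystem
open scoped commutatorElement

/-- The image of the p-core of a subgroup in the ambient group. -/
def pc {M : Type*} [Group M] (p : ℕ) (A : Subgroup M) : Subgroup M :=
  (Cfsg.pCore p A).map A.subtype

theorem pc_map {M M' : Type*} [Group M] [Group M'] (p : ℕ) (A : Subgroup M) (f : M ≃* M') :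
    pc p (A.map f.toMonoidHom) = (pc p A).map f.toMonoidHom := by
  have h : (Cfsg.pCore p A).map (f.subgroupMap A).toMonoidHom = Cfsg.pCore p ↥(A.map f.toMonoidHom) :=
    CfsgLib.PCore.map_pCore_equiv _
  rw [pc, pc, ← h, Subgroup.map_map]
  exact (Subgroup.map_map _ _ _).trans rfl

theorem congr_at {A B : Type*} [Group A] [Group B] (e : A ≃* B) (f : MulAut A) (x : A) :
    MulAut.congr e f (e x) = e (f x) := by
  show e (f (e.symm (e x))) = _
  rw [e.symm_apply_apply]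

theorem congr_symm_at {A B : Type*} [Group A] [Group B] (e : A ≃* B) (f : MulAut B) (x : A) :
    (MulAut.congr e).symm f x = e.symm (f (e x)) := rfl

variable {G : Type*} [Group G]

/-- The action of the normalizer on a subgroup. -/
def act (Q : Subgroup G) : ↥(Subgroup.normalizer (Q : Set G)) →* MulAut Q :=
  (conjAut Q ⊤).comp (Subgroup.inclusion (le_inf le_top le_rfl))

theorem act_apply (Q : Subgroup G) (g : ↥(Subgroup.normalizer (Q : Set G))) (x : Q) :
    ((act Q g x : Q) : G) = g * x * (g : G)⁻¹ := rfl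

theorem range_act (Q : Subgroup G) : (act Q).range = Cfsg.autInducedBy ⊤ Q := by
  rw [← range_conjAut (P := Q)]
  refine le_antisymm ?_ ?_
  · rintro _ ⟨g, rfl⟩; exact ⟨_, rfl⟩
  · rintro _ ⟨g, rfl⟩; exact ⟨⟨g, g.2.2⟩, rfl⟩

theorem ker_act (Q : Subgroup G) : (act Q).ker =
    (Subgroup.centralizer (Q : Set G)).subgroupOf (Subgroup.normalizer (Q : Set G)) := by
  ext g
  rw [act, ← MonoidHom.comap_ker, ker_conjAut]
  exact ⟨fun h => h.2, fun h => ⟨trivial, h⟩⟩

theorem mk_mem_pCore_iff (p : ℕ) (Q : Subgroup G) (g : ↥(Subgroup.normalizer (Q : Set G))) :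
    QuotientGroup.mk (s := (Subgroup.centralizer (Q : Set G)).subgroupOf (Subgroup.normalizer (Q : Set G))) g ∈
      Cfsg.pCore p _ ↔ act Q g ∈ pc p (Cfsg.autInducedBy ⊤ Q) := by
  let e := ((QuotientGroup.quotientMulEquivOfEq (ker_act Q)).symm.trans
    (QuotientGroup.quotientKerEquivRange (act Q))).trans (MulEquiv.subgroupCongr (range_act Q))
  have he : act Q g = (Cfsg.autInducedBy ⊤ Q).subtype (e (QuotientGroup.mk g)) := rfl
  rw [pc, ← CfsgLib.PCore.map_pCore_equiv e, he, Subgroup.mem_map_iff_mem (Subgroup.subtype_injective _)]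
  exact (Subgroup.mem_map_iff_mem (K := Cfsg.pCore p _) (f := e.toMonoidHom) e.injective).symm

theorem quadratic_iff (Q : Subgroup G) (g : ↥(Subgroup.normalizer (Q : Set G))) :
    ⁅⁅Q, Subgroup.zpowers (g : G)⁆, Subgroup.zpowers (g : G)⁆ = ⊥ ↔
      ∀ a : Q, (act Q g a⁻¹) * a * (act Q g a⁻¹) * (act Q g (act Q g a)) = 1 := by
  have conv : ∀ a : Q, ((act Q g a⁻¹) * a * (act Q g a⁻¹) * (act Q g (act Q g a)) = 1) ↔
      Commute (g : G) ⁅(a : G)⁻¹, (g : G)⁆ := by
    intro a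
    rw [Subtype.ext_iff, Commute, SemiconjBy, commutatorElement_def]
    simp only [Subgroup.coe_mul, Subgroup.coe_inv, Subgroup.coe_one, act_apply, map_inv]
    set x := (a : G)
    set t := (g : G)
    constructor
    · intro h
      calc t * (x⁻¹ * t * x⁻¹⁻¹ * t⁻¹)
          = (t * x⁻¹ * t⁻¹ * x)⁻¹ *
              ((t * x * t⁻¹)⁻¹ * x * (t * x * t⁻¹)⁻¹ * (t * (t * x * t⁻¹) * t⁻¹)) * t := by group
        _ = x⁻¹ * t * x⁻¹⁻¹ * t⁻¹ * t := by rw [h]; group
    · intro h
      calc (t * x * t⁻¹)⁻¹ * x * (t * x * t⁻¹)⁻¹ * (t * (t * x * t⁻¹) * t⁻¹)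
          = (t * x * t⁻¹)⁻¹ * x * (t * (x⁻¹ * t * x⁻¹⁻¹ * t⁻¹)) * t⁻¹ := by group
        _ = (t * x * t⁻¹)⁻¹ * x * ((x⁻¹ * t * x⁻¹⁻¹ * t⁻¹) * t) * t⁻¹ := by rw [h]
        _ = 1 := by group
  simp only [conv]
  rw [Subgroup.commutator_eq_bot_iff_le_centralizer, Subgroup.zpowers_eq_closure (g : G),
    Subgroup.centralizer_closure, ← Subgroup.zpowers_eq_closure]
  constructor
  · intro h a
    exact Subgroup.mem_centralizer_singleton_iff.1
      (h (Subgroup.commutator_mem_commutator (Q.inv_mem a.2) (Subgroup.mem_zpowers _))) |>.symm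
  · intro h
    rw [Subgroup.commutator_le]
    intro q hq s hs
    obtain ⟨k, rfl⟩ := Subgroup.mem_zpowers_iff.1 hs
    have hv : Commute (g : G) ⁅q, (g : G)⁆ := by
      have := h ⟨q⁻¹, Q.inv_mem hq⟩
      simpa using this
    have key : ⁅q, (g : G) ^ k⁆ = ⁅q, (g : G)⁆ ^ k := by
      rw [commutatorElement_def, ← conj_zpow,
        show q * (g : G) * q⁻¹ = ⁅q, (g : G)⁆ * g by rw [commutatorElement_def]; group,
        hv.symm.mul_zpow, mul_inv_cancel_right]
    rw [key, Subgroup.mem_centralizer_singleton_iff]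
    exact (hv.zpow_right k).symm.eq


/-- Let p be an odd prime, G a finite group and P a Sylow p-subgroup. Call a fusion system F p-stable when, for every fully normalized subgroup Q and every χ ∈ Aut_F(Q) acting quadratically on Q (that is, χ fixes a⁻¹χ(a) for every a ∈ Q; equivalently χ(a⁻¹)·a·χ(a⁻¹)·χ(χ(a)) = 1), χ lies in O_p(Aut_F(Q)). Then G is p-stable in the normalizer form (for every p-subgroup Q and x ∈ N_G(Q) with [Q, x, x] = 1, the image of x lies in O_p(N_G(Q)/C_G(Q))) if and only if the fusion system of G on P is p-stable. -/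
theorem result {Ω : Type*} [Group Ω] [Finite Ω] {p : ℕ} [Fact p.Prime] (hp : p ≠ 2) (P : Sylow p Ω) : Cfsg.IsNormalizerPStable p Ω ↔ (∀ Q : Subgroup Ω, (Cfsg.groupFusionSystem (P : Subgroup Ω)).IsFullyNormalized Q → ∀ χ : MulAut ↥Q, χ ∈ (Cfsg.groupFusionSystem (P : Subgroup Ω)).autGroup Q → (∀ a : ↥Q, (χ a⁻¹) * a * (χ a⁻¹) * (χ (χ a)) = 1) → χ ∈ ((Cfsg.pCore p ↥((Cfsg.groupFusionSystem (P : Subgroup Ω)).autGroup Q)).map ((Cfsg.groupFusionSystem (P : Subgroup Ω)).autGroup Q).subtype : Subgroup (MulAut ↥Q))) := by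
  constructor
  · intro h Q hQ χ hχ hquad
    rw [autGroup_group hQ.1] at hχ ⊢
    obtain ⟨g, rfl⟩ := (range_act Q).ge hχ
    exact (mk_mem_pCore_iff p Q g).1
      (h Q (P.isPGroup'.to_le hQ.1) g g.2 ((quadratic_iff Q g).2 hquad))
  · intro h Q₀ hQ₀ g₀ hg₀ hquad
    rw [mk_mem_pCore_iff p Q₀ ⟨g₀, hg₀⟩]
    obtain ⟨c, hc⟩ := exists_conj_le P hQ₀
    obtain ⟨Q, hconj, hQ⟩ :=
      exists_fullyNormalized (F := Cfsg.groupFusionSystem (P : Subgroup Ω)) hc
    obtain ⟨-, -, d, hd⟩ := isConj_group_iff.1 hconj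
    obtain ⟨k, hk⟩ : ∃ k : Ω, Q₀.map (MulAut.conj k).toMonoidHom = Q := by
      refine ⟨d * c, ?_⟩
      rw [← hd, Subgroup.map_map]
      congr 1
      ext x
      simp [mul_assoc]
    subst hk
    obtain ⟨e, he'⟩ : ∃ e : Q₀ ≃* ↥(Q₀.map (MulAut.conj k).toMonoidHom),
      ∀ x, (e x : Ω) = k * (x : Ω) * k⁻¹ := ⟨(MulAut.conj k).subgroupMap Q₀, fun x => rfl⟩
    have hmap : (Cfsg.autInducedBy ⊤ Q₀).map (MulAut.congr e).toMonoidHom
        = Cfsg.autInducedBy ⊤ (Q₀.map (MulAut.conj k).toMonoidHom) := by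
      ext α
      constructor
      · rintro ⟨β, hβ, rfl⟩
        obtain ⟨t, -, ht⟩ := mem_autInducedBy.1 hβ
        refine mem_autInducedBy.2 ⟨k * t * k⁻¹, trivial, fun y => ?_⟩
        obtain ⟨x, rfl⟩ := e.surjective y
        have : MulAut.congr e β (e x) = e (β x) := congr_at e β x
        show ((MulAut.congr e β (e x) : _) : Ω) = _
        rw [this, he', he', ht]
        group
      · intro hα
        obtain ⟨t, -, ht⟩ := mem_autInducedBy.1 hα
        refine ⟨(MulAut.congr e).symm α, mem_autInducedBy.2 ⟨k⁻¹ * t * k, trivial, fun x => ?_⟩, (MulAut.congr e).apply_symm_apply α⟩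
        have h1 : (MulAut.congr e).symm α x = e.symm (α (e x)) := congr_symm_at e α x
        have h2 := he' (e.symm (α (e x)))
        rw [e.apply_symm_apply, ht, he'] at h2
        rw [h1]
        calc ((e.symm (α (e x)) : Q₀) : Ω) = k⁻¹ * (k * (e.symm (α (e x)) : Q₀) * k⁻¹) * k := by group
          _ = k⁻¹ * t * k * x * (k⁻¹ * t * k)⁻¹ := by rw [← h2]; group
    set χ := MulAut.congr e (act Q₀ ⟨g₀, hg₀⟩) with hχdef
    have hχ : χ ∈ Cfsg.autInducedBy ⊤ (Q₀.map (MulAut.conj k).toMonoidHom) :=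
      hmap ▸ ⟨_, (range_act Q₀) ▸ ⟨_, rfl⟩, rfl⟩
    have := h _ hQ χ ((autGroup_group hQ.1).symm ▸ hχ) fun a => by
      obtain ⟨a, rfl⟩ := e.surjective a
      have := congrArg e ((quadratic_iff Q₀ ⟨g₀, hg₀⟩).1 hquad a)
      simpa only [hχdef, congr_at, map_mul, map_one, ← map_inv e] using this
    rw [autGroup_group hQ.1] at this
    change χ ∈ pc p _ at this
    rw [← hmap, pc_map, hχdef] at this
    exact (Subgroup.mem_map_iff_mem (f := (MulAut.congr e).toMonoidHom) (MulAut.congr e).injective).1 this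

end Cfsg.Agent.S5246
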