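import Cfsg.Statements.S5270
import Cfsg.Agent.Fusion.SecondCenterEssential

set_option autoImplicit false
open Cfsg
open scoped commutatorElement

namespace Cfsg.Agent.S5270

/-- Let p ≥ 5 be a prime, S a finite p-group of maximal class of order p^n with n ≥ 4, and F a saturated fusion system over S. If some map of F defined on the second centre Z₂(S) with image Z₂(S) does not carry Z(S) into itself, then the centralizer C_S(Z₂(S)) is an F-essential subgroup. -/
theorem result {Ω : Type*} [Group Ω] {S : Subgroup Ω} [Finite S] (p : ℕ) [Fact p.Prime] (hS : IsPGroup p ↥S) (n : ℕ) (hn : Nat.card S = p ^ n) (h4 : 4 ≤ n) (hmax : Subgroup.lowerCentralSeries S (n - 2) ≠ ⊥) (F : Cfsg.FusionSystem S) (hF : F.IsSaturated p) (hp : 5 ≤ p) (φ : ↥((Subgroup.upperCentralSeries ↥S 2).map S.subtype) →* Ω) (hφ : φ ∈ F.Hom ((Subgroup.upperCentralSeries ↥S 2).map S.subtype)) (hφZ : φ.range = ((Subgroup.upperCentralSeries ↥S 2).map S.subtype)) (hmove : ∃ (z : Ω) (hz : z ∈ ((Subgroup.upperCentralSeries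 ↥S 2).map S.subtype)), z ∈ ((Subgroup.center ↥S).map S.subtype) ∧ φ ⟨z, hz⟩ ∉ ((Subgroup.center ↥S).map S.subtype)) : F.IsEssential p (S ⊓ Subgroup.centralizer (((Subgroup.upperCentralSeries ↥S 2).map S.subtype) : Set Ω)) := by
  have hmax' : (⊤ : Subgroup S).lowerCentralSeries (n - 2) ≠ ⊥ := fun e => hmax (by
    rw [← Subgroup.top_subtype_lowerCentralSeries, e, Subgroup.map_bot])
  obtain ⟨h1, h2⟩ := CfsgLib.Fusion.card_ucs_of_maximalClass hn h4 hmax'
  rw [Subgroup.upperCentralSeries_one] at h1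
  have hZS : ((Subgroup.upperCentralSeries ↥S 2).map S.subtype) ≤ S := Subgroup.map_subtype_le _
  haveI : Finite ↥((Subgroup.upperCentralSeries ↥S 2).map S.subtype) := CfsgLib.Fusion.finite_of_le hZS
  have hval : ∀ x, φ x ∈ ((Subgroup.upperCentralSeries ↥S 2).map S.subtype) := fun x => hφZ.le ⟨x, rfl⟩
  let α : MulAut ↥((Subgroup.upperCentralSeries ↥S 2).map S.subtype) := MulEquiv.ofBijective (φ.codRestrict ((Subgroup.upperCentralSeries ↥S 2).map S.subtype) hval) (Finite.injective_iff_bijective.1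
    fun a b h => F.injective_of_mem hφ (congrArg Subtype.val h :))
  obtain ⟨z, hz, hzC, hzm⟩ := hmove
  refine CfsgLib.Fusion.isEssential_centralizerIn_of_moves (C := ((Subgroup.center ↥S).map S.subtype)) (α := α) hS hF hZS ?_ ?_ ?_ ?_ ?_ ?_
    (CfsgLib.Fusion.mem_autGroup_of_eq hφ fun _ => rfl) ⟨⟨z, hz⟩, hzC, hzm⟩
  · refine Subgroup.map_mono ?_
    rw [← Subgroup.upperCentralSeries_one]
    exact Subgroup.upperCentralSeries_mono _ (by omega)
  · rw [Subgroup.card_map_of_injective S.subtype_injective, h1]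
  · rw [Subgroup.card_map_of_injective S.subtype_injective, h2]
  · rintro s hs _ ⟨x, hx, rfl⟩
    exact congrArg Subtype.val (Subgroup.mem_center_iff.1 hx ⟨s, hs⟩)
  · intro x hx h
    exact ⟨⟨x, hx⟩, Subgroup.mem_center_iff.2 fun s => Subtype.ext (h s s.2), rfl⟩
  · rintro s hs _ ⟨x, hx, rfl⟩
    have hc := Subgroup.mem_upperCentralSeries_succ_iff.1 hx ⟨s, hs⟩
    rw [Subgroup.upperCentralSeries_one] at hc
    refine ⟨_, inv_mem hc, ?_⟩
    simp [commutatorElement_def, mul_assoc]

end Cfsg.Agent.S5270
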