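import Cfsg.Statements.S5284
import Cfsg.Agent.S5283
import Cfsg.Agent.Fusion.Abelian
import Mathlib.GroupTheory.FiniteAbelian.Basic
import Mathlib.Logic.Relation
import Mathlib.Tactic.LinearCombination
-- import your own Cfsg.Agent.* helpers here

set_option autoImplicit false
open Cfsg

namespace Cfsg.Agent.S5284

open CfsgLib.Fusion Cfsg.FusionSystem

/-- A `p`-torsion residue modulo `p ^ a` is a multiple of `p ^ (a - 1)`. -/
theorem torsion {p a : ℕ} [hp : Fact p.Prime] (ha : 1 ≤ a) (z : ZMod (p ^ a)) (hz : p • z = 0) :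
    ∃ c : ℕ, z = ((c * p ^ (a - 1) : ℕ) : ZMod (p ^ a)) := by
  haveI : NeZero (p ^ a) := ⟨pow_ne_zero _ hp.out.ne_zero⟩
  have h : p ^ (a - 1) ∣ z.val := by
    have hd : p ^ a ∣ p * z.val := by
      rw [← ZMod.natCast_eq_zero_iff, Nat.cast_mul, ZMod.natCast_zmod_val, ← nsmul_eq_mul]
      exact hz
    obtain ⟨b, rfl⟩ : ∃ b, a = b + 1 := ⟨a - 1, by omega⟩
    generalize z.val = w at hd ⊢
    rw [pow_succ'] at hd
    simpa using (Nat.mul_dvd_mul_iff_left hp.out.pos).1 hd
  obtain ⟨c, hc⟩ := h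
  exact ⟨c, by rw [mul_comm, ← hc, ZMod.natCast_zmod_val]⟩

section chain

variable {M : Type*} [CommGroup M] {p : ℕ} [hp : Fact p.Prime]

/-- With distinct exponents each layer of the socle is at most one dimensional. -/
theorem layer {ι : Type*} (a : ι → ℕ) (ha : Function.Injective a) (ha1 : ∀ i, 1 ≤ a i)
    (e : M ≃* ((i : ι) → Multiplicative (ZMod (p ^ a i)))) (k : ℕ) (y z : M) (hy : y ^ p = 1) (hz : z ^ p = 1)
    (hyk : ∃ u, u ^ p ^ k = y) (hzk : ∃ u, u ^ p ^ k = z) (hny : ¬ ∃ u, u ^ p ^ (k + 1) = y) :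
    ∃ c : ℕ, ∃ u, u ^ p ^ (k + 1) = z * (y ^ c)⁻¹ := by
  classical
  let v : M → (i : ι) → ZMod (p ^ a i) := fun x i => (e x i).toAdd
  have hvpow : ∀ (x : M) (m : ℕ) i, v (x ^ m) i = m • v x i := fun x m i => by simp [v, map_pow]
  have hvmul : ∀ x x' i, v (x * x') i = v x i + v x' i := fun x x' i => by simp [v, map_mul]
  have hvinv : ∀ x i, v x⁻¹ i = - v x i := fun x i => by simp [v, map_inv]
  have htor : ∀ x : M, x ^ p = 1 → ∀ i, p • v x i = 0 := fun x hx i => by
    rw [← hvpow, hx]; simp [v]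
  have hlow : ∀ x : M, (∃ u, u ^ p ^ k = x) → ∀ i, a i ≤ k → v x i = 0 := by
    rintro _ ⟨u, rfl⟩ i hi
    rw [hvpow, nsmul_eq_mul, (ZMod.natCast_eq_zero_iff _ _).2 (pow_dvd_pow p hi), zero_mul]
  -- criterion for membership in the next layer
  have crit : ∀ x : M, x ^ p = 1 → (∀ i, a i ≤ k + 1 → v x i = 0) → ∃ u, u ^ p ^ (k + 1) = x := by
    intro x hx h
    have hu : ∀ i, ∃ w : ZMod (p ^ a i), (p ^ (k + 1)) • w = v x i := fun i => by
      rcases le_or_gt (a i) (k + 1) with hi | hi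
      · exact ⟨0, by rw [h i hi, smul_zero]⟩
      · obtain ⟨c, hc⟩ := torsion (ha1 i) _ (htor x hx i)
        refine ⟨((c * p ^ (a i - 1 - (k + 1)) : ℕ) : ZMod (p ^ a i)), ?_⟩
        rw [hc, nsmul_eq_mul, ← Nat.cast_mul, mul_left_comm, ← pow_add, Nat.add_sub_cancel' (by omega)]
    choose w hw using hu
    refine ⟨e.symm fun i => Multiplicative.ofAdd (w i), e.injective (funext fun i => ?_)⟩
    apply Multiplicative.toAdd.injective
    show v _ i = v x i
    rw [hvpow, ← hw i]
    simp [v]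
  obtain ⟨i₀, hi₀, hne⟩ : ∃ i, a i ≤ k + 1 ∧ v y i ≠ 0 := by
    by_contra h
    push Not at h
    exact hny (crit y hy h)
  have hai : a i₀ = k + 1 := le_antisymm hi₀ (not_le.1 fun h => hne (hlow y hyk i₀ (by omega)))
  obtain ⟨c₁, hc₁⟩ := torsion (ha1 i₀) _ (htor y hy i₀)
  obtain ⟨c₂, hc₂⟩ := torsion (ha1 i₀) _ (htor z hz i₀)
  have hc₁p : ((c₁ : ℕ) : ZMod p) ≠ 0 := by
    intro h
    obtain ⟨d, rfl⟩ := (ZMod.natCast_eq_zero_iff _ _).1 h
    refine hne (hc₁.trans ?_)
    rw [ZMod.natCast_eq_zero_iff, hai, Nat.add_sub_cancel, pow_succ', mul_right_comm]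
    exact Dvd.intro d rfl
  set c := ((c₂ : ZMod p) * (c₁ : ZMod p)⁻¹).val
  refine ⟨c, crit _ ?_ fun i hi => ?_⟩
  · rw [mul_pow, inv_pow, ← pow_mul, mul_comm c p, pow_mul, hy, hz, one_pow, inv_one, one_mul]
  rw [hvmul, hvinv, hvpow]
  rcases Nat.lt_or_ge (a i) (k + 1) with hlt | hge
  · rw [hlow y hyk i (by omega), hlow z hzk i (by omega), smul_zero, neg_zero, add_zero]
  obtain rfl : i = i₀ := ha (by omega)
  rw [← sub_eq_add_neg, sub_eq_zero, hc₁, hc₂, nsmul_eq_mul, ← Nat.cast_mul, ZMod.natCast_eq_natCast_iff, ← mul_assoc]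
  have hmod : c₂ ≡ c * c₁ [MOD p] := by
    rw [← ZMod.natCast_eq_natCast_iff, Nat.cast_mul, ZMod.natCast_zmod_val, inv_mul_cancel_right₀ hc₁p]
  have := hmod.mul_right' (p ^ (a i - 1))
  rwa [← pow_succ', Nat.sub_add_cancel (ha1 i)] at this

/-- A characteristic step with cyclic factor. -/
def Step (A B : Subgroup M) : Prop :=
  (∀ α : MulAut M, ∀ y ∈ B, α y ∈ B) ∧ ∃ x, B = A ⊔ Subgroup.zpowers x

/-- A characteristic chain with cyclic factors. -/
theorem exists_chain [Finite M] (hM : IsPGroup p M) {ι : Type*} (a : ι → ℕ) (ha : Function.Injective a)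
    (ha1 : ∀ i, 1 ≤ a i) (e : M ≃* ((i : ι) → Multiplicative (ZMod (p ^ a i)))) :
    ∃ (m : ℕ) (L : ℕ → Subgroup M), L 0 = ⊥ ∧ L m = ⊤ ∧ (∀ i, L i ≤ L (i + 1)) ∧
      (∀ i (α : MulAut M), ∀ y ∈ L i, α y ∈ L i) ∧ ∀ i < m, ∃ x, L (i + 1) = L i ⊔ Subgroup.zpowers x := by
  obtain ⟨E, hE⟩ := IsPGroup.iff_card.1 hM
  let Ωj : ℕ → Subgroup M := fun j => (powMonoidHom (p ^ j)).ker
  let W : ℕ → ℕ → Subgroup M := fun j k =>
    ((powMonoidHom p).ker ⊓ (powMonoidHom (p ^ k)).range).comap (powMonoidHom (p ^ j))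
  have hW : ∀ j k x, x ∈ W j k ↔ (x ^ p ^ j) ^ p = 1 ∧ ∃ u : M, u ^ p ^ k = x ^ p ^ j := fun j k x => Iff.rfl
  have hinv : ∀ j k (α : MulAut M), ∀ y ∈ W j k, α y ∈ W j k := by
    intro j k α y hy
    obtain ⟨h1, u, hu⟩ := (hW j k y).1 hy
    exact (hW j k _).2 ⟨by rw [← map_pow, ← map_pow, h1, map_one], α u, by rw [← map_pow, ← map_pow, hu]⟩
  have hbot : ∀ j, W j E = Ωj j := fun j => by
    ext x
    rw [hW]
    refine ⟨?_, fun (h : x ^ p ^ j = 1) => ⟨by rw [h, one_pow], 1, by rw [h, one_pow]⟩⟩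
    rintro ⟨-, u, hu⟩
    show x ^ p ^ j = 1
    rw [← hu, ← hE, pow_card_eq_one']
  have htop : ∀ j, W j 0 = Ωj (j + 1) := fun j => by
    ext x
    rw [hW]
    refine ⟨fun h => ?_, fun (h : x ^ p ^ (j + 1) = 1) => ⟨by rw [← pow_mul, ← pow_succ, h], _, pow_one _⟩⟩
    show x ^ p ^ (j + 1) = 1
    rw [pow_succ, pow_mul, h.1]
  have hstep : ∀ j k, Relation.ReflGen Step (W j (k + 1)) (W j k) := by
    intro j k
    have hle : W j (k + 1) ≤ W j k := fun x hx => by
      obtain ⟨h1, u, hu⟩ := (hW _ _ _).1 hx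
      exact (hW _ _ _).2 ⟨h1, u ^ p, by rw [← pow_mul, ← pow_succ', hu]⟩
    by_cases hcase : W j k ≤ W j (k + 1)
    · rw [le_antisymm hle hcase]
    obtain ⟨x, hx, hx'⟩ := SetLike.not_le_iff_exists.1 hcase
    refine Relation.ReflGen.single ⟨hinv j k, x, le_antisymm (fun w hw => ?_) (sup_le hle (Subgroup.zpowers_le.2 hx))⟩
    obtain ⟨h1, h2⟩ := (hW _ _ _).1 hx
    obtain ⟨h3, h4⟩ := (hW _ _ _).1 hw
    obtain ⟨c, u, hu⟩ := layer a ha ha1 e k _ _ h1 h3 h2 h4 fun h => hx' ((hW _ _ _).2 ⟨h1, h⟩)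
    have : w * (x ^ c)⁻¹ ∈ W j (k + 1) := by
      have e' : (w * (x ^ c)⁻¹) ^ p ^ j = w ^ p ^ j * ((x ^ p ^ j) ^ c)⁻¹ := by
        rw [mul_pow, inv_pow, ← pow_mul, ← pow_mul, mul_comm c]
      refine (hW _ _ _).2 ⟨?_, u, by rw [e', hu]⟩
      rw [e', mul_pow, inv_pow, ← pow_mul (x ^ p ^ j), mul_comm c p, pow_mul (x ^ p ^ j), h1, h3, one_pow, inv_one, one_mul]
    have h := Subgroup.mul_mem_sup this (pow_mem (Subgroup.mem_zpowers x) c)
    rwa [inv_mul_cancel_right] at h
  have hreach : ∀ j, Relation.ReflTransGen Step (⊥ : Subgroup M) (Ωj j) := by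
    intro j
    induction j with
    | zero =>
      rw [show Ωj 0 = ⊥ from (Subgroup.eq_bot_iff_forall _).2 fun x (hx : x ^ p ^ 0 = 1) => by simpa using hx]
    | succ j ih =>
      rw [← htop]
      refine ih.trans ?_
      rw [← hbot]
      have : ∀ r, r ≤ E → Relation.ReflTransGen Step (W j E) (W j (E - r)) := by
        intro r
        induction r with
        | zero => intro _; rfl
        | succ r ihr =>
          intro hr
          refine (ihr (by omega)).trans ?_
          rw [show E - r = E - (r + 1) + 1 by omega]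
          exact (hstep j _).to_reflTransGen
      simpa using this E le_rfl
  have hfull : Relation.ReflTransGen Step (⊥ : Subgroup M) ⊤ := by
    convert hreach E
    exact ((Subgroup.eq_top_iff' (Ωj E)).2 fun x => show x ^ p ^ E = 1 by rw [← hE, pow_card_eq_one']).symm
  suffices H : ∀ A : Subgroup M, Relation.ReflTransGen Step A ⊤ → (∀ α : MulAut M, ∀ y ∈ A, α y ∈ A) →
      ∃ (m : ℕ) (L : ℕ → Subgroup M), L 0 = A ∧ L m = ⊤ ∧ (∀ i, L i ≤ L (i + 1)) ∧
        (∀ i (α : MulAut M), ∀ y ∈ L i, α y ∈ L i) ∧ ∀ i < m, ∃ x, L (i + 1) = L i ⊔ Subgroup.zpowers x from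
    H ⊥ hfull fun α y hy => by rw [Subgroup.mem_bot] at hy ⊢; rw [hy, map_one]
  intro A hA
  induction hA using Relation.ReflTransGen.head_induction_on with
  | refl => exact fun h => ⟨0, fun _ => ⊤, rfl, rfl, fun _ => le_rfl, fun _ => h, fun i hi => absurd hi i.not_lt_zero⟩
  | @head A B hAB _ ih =>
    intro hA
    obtain ⟨hB, x, hx⟩ := hAB
    obtain ⟨m, L, h0, hm, hle, hinv, hst⟩ := ih hB
    refine ⟨m + 1, fun i => Nat.rec A (fun j _ => L j) i, rfl, hm, ?_, ?_, ?_⟩
    · rintro (_ | i)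
      · exact le_sup_left.trans (hx.symm.trans h0.symm).le
      · exact hle i
    · rintro (_ | i)
      · exact hA
      · exact hinv i
    · rintro (_ | i) hi
      · exact ⟨x, h0.trans hx⟩
      · exact hst i (by omega)

end chain

/-- With a repeated invariant some automorphism group of order prime to `p` is not abelian of exponent dividing
`p - 1`. -/
theorem exists_bad {M : Type*} [Group M] {p n : ℕ} [hp : Fact p.Prime] (hn : 0 < n) {K : Type*} [CommGroup K]
    (e : M ≃* (Multiplicative (ZMod (p ^ n)) × Multiplicative (ZMod (p ^ n))) × K) :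
    ∃ H : Subgroup (MulAut M), (Nat.card H).Coprime p ∧
      ¬ (IsMulCommutative H ∧ ∀ h ∈ H, h ^ (p - 1) = 1) := by
  let up : MulAut ((Multiplicative (ZMod (p ^ n))) × (Multiplicative (ZMod (p ^ n)))) →* MulAut M :=
    { toFun := fun β => e.trans ((β.prodCongr (MulEquiv.refl K)).trans e.symm)
      map_one' := MulEquiv.ext fun x => e.injective (by simp; rfl)
      map_mul' := fun β γ => MulEquiv.ext fun x => e.injective (by simp [MulAut.mul_apply]; rfl) }
  have hup : Function.Injective up := fun β γ h => MulEquiv.ext fun x => by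
    have := congrArg (fun f : MulAut M => (e (f (e.symm (x, 1)))).1) h
    simp [up] at this
    exact this
  haveI : Fact (1 < p ^ n) := ⟨Nat.one_lt_pow hn.ne' hp.out.one_lt⟩
  set g : (Multiplicative (ZMod (p ^ n))) := Multiplicative.ofAdd 1 with hg
  haveI : NeZero (p ^ n) := ⟨pow_ne_zero _ hp.out.ne_zero⟩
  haveI : Finite (MulAut (Multiplicative (ZMod (p ^ n)) × Multiplicative (ZMod (p ^ n)))) :=
    Finite.of_injective (fun α => ⇑α) DFunLike.coe_injective
  have hg1 : g ≠ 1 := fun h => one_ne_zero (α := ZMod (p ^ n)) (congrArg Multiplicative.toAdd h)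
  by_cases hp2 : p = 2
  · let t : MulAut ((Multiplicative (ZMod (p ^ n))) × (Multiplicative (ZMod (p ^ n)))) :=
      { toFun := fun x => (x.2⁻¹, x.1 * x.2⁻¹)
        invFun := fun x => (x.2 * x.1⁻¹, x.1⁻¹)
        left_inv := fun x => by simp
        right_inv := fun x => by simp
        map_mul' := fun x y => by
          refine Prod.ext ?_ ?_
          · simp [mul_comm]
          · simp [mul_mul_mul_comm, mul_comm] }
    have ht : t ^ 3 = 1 := MulEquiv.ext fun x => by
      simp [t, pow_succ, MulAut.mul_apply]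
    refine ⟨Subgroup.zpowers (up t), ?_, fun h => ?_⟩
    · rw [Nat.card_zpowers]
      refine Nat.Coprime.coprime_dvd_left (orderOf_dvd_of_pow_eq_one (n := 3) (by rw [← map_pow, ht, map_one])) ?_
      rw [hp2]
      decide
    · have h1 := h.2 _ (Subgroup.mem_zpowers _)
      rw [show p - 1 = 1 by omega, pow_one, map_eq_one_iff up hup] at h1
      have := congrArg (fun f : MulAut ((Multiplicative (ZMod (p ^ n))) × (Multiplicative (ZMod (p ^ n)))) => (f (g, 1)).2) h1
      exact hg1 (by simpa [t] using this)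
  · let s : MulAut ((Multiplicative (ZMod (p ^ n))) × (Multiplicative (ZMod (p ^ n)))) := MulEquiv.prodComm
    let r : MulAut ((Multiplicative (ZMod (p ^ n))) × (Multiplicative (ZMod (p ^ n)))) :=
      { toFun := fun x => (x.2⁻¹, x.1)
        invFun := fun x => (x.2, x.1⁻¹)
        left_inv := fun x => by simp
        right_inv := fun x => by simp
        map_mul' := fun x y => by
          refine Prod.ext ?_ rfl
          simp [mul_comm] }
    have hs : s ^ 2 = 1 := MulEquiv.ext fun x => by simp [s, pow_succ, MulAut.mul_apply]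
    have hr : r ^ 4 = 1 := MulEquiv.ext fun x => by simp [r, pow_succ, MulAut.mul_apply]
    have hsr : s * r * s⁻¹ = r⁻¹ := by
      rw [eq_inv_iff_mul_eq_one]
      refine MulEquiv.ext fun x => ?_
      simp [s, r, MulAut.mul_apply, MulAut.inv_def]
    have hs' : IsPGroup 2 (Subgroup.zpowers s) := IsPGroup.iff_orderOf.2 fun x => by
      obtain ⟨k, -, hk⟩ := (Nat.dvd_prime_pow Nat.prime_two).1
        ((orderOf_dvd_natCard x).trans ((Nat.card_zpowers s).symm ▸ orderOf_dvd_of_pow_eq_one (n := 2 ^ 1) hs))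
      exact ⟨k, hk⟩
    have hr' : IsPGroup 2 (Subgroup.zpowers r) := IsPGroup.iff_orderOf.2 fun x => by
      obtain ⟨k, -, hk⟩ := (Nat.dvd_prime_pow Nat.prime_two).1
        ((orderOf_dvd_natCard x).trans ((Nat.card_zpowers r).symm ▸ orderOf_dvd_of_pow_eq_one (n := 2 ^ 2) hr))
      exact ⟨k, hk⟩
    have hnorm : Subgroup.zpowers s ≤ Subgroup.normalizer (Subgroup.zpowers r : Set (MulAut ((Multiplicative (ZMod (p ^ n))) × (Multiplicative (ZMod (p ^ n)))))) := by
      rw [Subgroup.zpowers_le]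
      apply Subgroup.mem_normalizer_iff_map_conj_eq.2
      rw [MonoidHom.map_zpowers]
      show Subgroup.zpowers (s * r * s⁻¹) = _
      rw [hsr, Subgroup.zpowers_inv]
    obtain ⟨k, hk⟩ := IsPGroup.iff_card.1 (hs'.to_sup_of_normal_right' hr' hnorm)
    rw [← Subgroup.card_map_of_injective hup] at hk
    refine ⟨_, hk ▸ Nat.Coprime.pow_left k ((Nat.coprime_primes Nat.prime_two hp.out).2 (Ne.symm hp2)), fun h => ?_⟩
    have hcomm := congrArg Subtype.val (h.1.is_comm.comm
      ⟨up s, Subgroup.mem_map_of_mem _ (Subgroup.mem_sup_left (Subgroup.mem_zpowers s))⟩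
      ⟨up r, Subgroup.mem_map_of_mem _ (Subgroup.mem_sup_right (Subgroup.mem_zpowers r))⟩)
    simp only [Subgroup.coe_mul, ← map_mul] at hcomm
    have h2 := congrArg (fun f : MulAut ((Multiplicative (ZMod (p ^ n))) × (Multiplicative (ZMod (p ^ n)))) => (f (g, 1)).1) (hup hcomm)
    simp [s, r, MulAut.mul_apply] at h2
    have h4 : (1 : ZMod (p ^ n)) = -1 := congrArg Multiplicative.toAdd h2
    have h3 : ((2 : ℕ) : ZMod (p ^ n)) = 0 := by
      push_cast
      linear_combination h4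
    rw [ZMod.natCast_eq_zero_iff] at h3
    exact hp2 (((Nat.prime_dvd_prime_iff_eq hp.out Nat.prime_two).1 ((dvd_pow_self p hn.ne').trans h3)))


/-- Let S be a finite abelian p-group. Every saturated fusion system over S is supersoluble (S has a chain of F-strongly closed subgroups from 1 to S with cyclic steps) if and only if the invariants of S are pairwise distinct, that is, S is not isomorphic to a direct product (Z/p^n × Z/p^n) × H with n ≥ 1. -/
theorem result {Ω : Type*} [Group Ω] {S : Subgroup Ω} [Finite S] (p : ℕ) [Fact p.Prime] (hS : IsPGroup p ↥S) (hab : IsMulCommutative ↥S) : (∀ F : Cfsg.FusionSystem S, F.IsSaturated p → (∃ (m : ℕ) (c : Fin (m + 1) → Subgroup Ω), c 0 = ⊥ ∧ c (Fin.last m) = S ∧ (∀ i : Fin (m + 1), F.StronglyClosed (c i)) ∧ ∀ i : Fin m, c i.castSucc ≤ c i.succ ∧ ∃ x ∈ S, c i.succ = c i.castSucc ⊔ Subgroup.zpowers x)) ↔ ¬ ∃ (n : ℕ) (H : Type) (_ : CommGroup H), 0 < n ∧ Nonempty (↥S ≃* (Multiplicative (ZMod (p ^ n)) × Multiplicative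 (ZMod (p ^ n))) × H) := by
    have hab' : ∀ x ∈ S, ∀ y ∈ S, x * y = y * x := fun x hx y hy =>
      congrArg Subtype.val (hab.is_comm.comm ⟨x, hx⟩ ⟨y, hy⟩)
    haveI := finite_mulAut (S := S) le_rfl
    constructor
    · rintro h ⟨n, K, _, hn, ⟨e⟩⟩
      obtain ⟨H, hH, hbad⟩ := exists_bad hn e
      exact hbad (((Cfsg.Agent.S5283.result p hS).1 h).2 H hH)
    intro hrep F hF
    refine exists_cyclic_chain hS hF ?_ fun H hH => ?_
    · refine isNormal_of_aut_extends hS hF ⟨le_rfl, fun R hR φ hφ x => range_le hφ ⟨x, rfl⟩⟩ fun R hR φ hφ => ?_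
      obtain ⟨α, -, h⟩ := exists_aut_of_hom hS hF hab' hφ
      exact ⟨α, fun x => (h x).symm⟩
    letI : CommGroup ↥S :=
      { (inferInstance : Group ↥S) with mul_comm := fun a b => hab.is_comm.comm a b }
    obtain ⟨ι, _, q, hq, ⟨e⟩⟩ := CommGroup.equiv_prod_multiplicative_zmod_of_finite ↥S
    obtain ⟨N, hN⟩ := IsPGroup.iff_card.1 hS
    have hpow : ∀ i, ∃ a, 1 ≤ a ∧ q i = p ^ a := by
      intro i
      have hd : q i ∣ p ^ N := by
        rw [← hN, Nat.card_congr e.toEquiv, Nat.card_pi]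
        refine dvd_trans (dvd_of_eq ?_) (Finset.dvd_prod_of_mem _ (Finset.mem_univ i))
        rw [Nat.card_congr Multiplicative.toAdd, Nat.card_zmod]
      obtain ⟨a, -, ha⟩ := (Nat.dvd_prime_pow (Fact.out : p.Prime)).1 hd
      exact ⟨a, Nat.one_le_iff_ne_zero.2 fun h => (hq i).ne' (by rw [ha, h, pow_zero]), ha⟩
    choose a ha1 ha using hpow
    obtain rfl : q = fun i => p ^ a i := funext ha
    have hinj : Function.Injective a := by
      classical
      intro i j hij
      by_contra hne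
      apply hrep
      refine ⟨a i, (k : {k // ¬(k = i ∨ k = j)}) → Multiplicative (ZMod (p ^ a k)), inferInstance, ha1 i, ⟨e.trans ?_⟩⟩
      let c : Multiplicative (ZMod (p ^ a i)) ≃* Multiplicative (ZMod (p ^ a j)) :=
        AddEquiv.toMultiplicative (ZMod.ringEquivCongr (by rw [hij])).toAddEquiv
      refine
        { toFun := fun f => ((f i, c.symm (f j)), fun k => f k)
          invFun := fun f k => if hi : k = i then hi ▸ f.1.1 else
            if hj : k = j then hj ▸ c f.1.2 else f.2 ⟨k, by simp [hi, hj]⟩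
          left_inv := fun f => funext fun k => ?_
          right_inv := fun f => ?_
          map_mul' := fun f g => Prod.ext (Prod.ext rfl (map_mul c.symm _ _)) rfl }
      · by_cases hi : k = i
        · subst hi; simp
        · by_cases hj : k = j
          · subst hj; simp [hi]
          · simp [hi, hj]
      · refine Prod.ext (Prod.ext ?_ ?_) (funext fun k => ?_)
        · simp
        · simp [Ne.symm hne]
        · have h1 : (k : ι) ≠ i := fun h => k.2 (Or.inl h)
          have h2 : (k : ι) ≠ j := fun h => k.2 (Or.inr h)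
          simp [h1, h2]
    obtain ⟨m, L, h0, hm, hle, hinv, hst⟩ := exists_chain hS a hinj ha1 e
    refine abelian_of_cyclic_chain hS (m := m) (fun i => (L i).map S.subtype)
      (monotone_nat_of_le_succ fun i => Subgroup.map_mono (hle i)) (by rw [h0, Subgroup.map_bot]) ?_
      (fun i _ => Subgroup.map_subtype_le _) (fun i _ => ?_) (fun i hi => ?_) H hH fun α _ i _ x hx => ?_
    · rw [hm, ← MonoidHom.range_eq_map, Subgroup.range_subtype]
    · intro g hg
      refine Subgroup.mem_normalizer_iff.2 fun y => ⟨fun hy => ?_, fun hy => ?_⟩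
      · rw [hab' g hg y (Subgroup.map_subtype_le _ hy), mul_inv_cancel_right]
        exact hy
      · have hyS : y ∈ S := by
          have := S.mul_mem (S.mul_mem (S.inv_mem hg) (Subgroup.map_subtype_le _ hy)) hg
          simpa [mul_assoc] using this
        rwa [hab' g hg y hyS, mul_inv_cancel_right] at hy
    · obtain ⟨x, hx⟩ := hst i hi
      refine ⟨x, x.2, ?_⟩
      rw [hx, Subgroup.map_sup, MonoidHom.map_zpowers]
      rfl
    · obtain ⟨y, hy, e'⟩ := hx
      obtain rfl : y = x := Subtype.ext e'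
      exact ⟨α y, hinv i α y hy, rfl⟩

end Cfsg.Agent.S5284
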