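import Cfsg.Statements.S5291
import Cfsg.Agent.Fusion.SeriesNormal
-- import your own Cfsg.Agent.* helpers here

set_option autoImplicit false
open Cfsg

namespace Cfsg.Agent.S5291

open CfsgLib.Fusion Cfsg.FusionSystem

/-- Two normal subgroups generate a normal subgroup. -/
theorem isNormal_sup {Ω : Type*} [Group Ω] {T : Subgroup Ω} [Finite T] {E : Cfsg.FusionSystem T}
    {A B : Subgroup Ω} (hA : E.IsNormal A) (hB : E.IsNormal B) : E.IsNormal (A ⊔ B) := by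
  refine isNormal_of_extends (sup_le hA.1 hB.1) fun P φ hφ => ?_
  obtain ⟨ψ₁, hψ₁, h1, hA1⟩ := extendsOver_of_isNormal hA hφ
  obtain ⟨ψ₂, hψ₂, h2, hB2⟩ := extendsOver_of_isNormal hB hψ₁
  have hle : P ⊔ (A ⊔ B) ≤ P ⊔ A ⊔ B := (sup_assoc P A B).ge
  refine ⟨_, restrict hψ₂ hle, fun x => ?_, fun q hq => ?_⟩
  · show ψ₂ ⟨x, _⟩ = _
    rw [← h1 x]
    exact h2 ⟨x, Subgroup.mem_sup_left x.2⟩
  · have hsub : A ⊔ B ≤ ((A ⊔ B).comap ψ₂).map (P ⊔ A ⊔ B).subtype :=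
      sup_le (fun a ha => ⟨⟨a, Subgroup.mem_sup_left (Subgroup.mem_sup_right ha)⟩,
          Subgroup.mem_sup_left ((h2 ⟨a, Subgroup.mem_sup_right ha⟩).symm ▸ hA1 a ha), rfl⟩)
        (fun b hb => ⟨⟨b, Subgroup.mem_sup_right hb⟩, Subgroup.mem_sup_right (hB2 b hb), rfl⟩)
    obtain ⟨y, hy, e⟩ := hsub hq
    obtain rfl : y = ⟨q, hle (Subgroup.mem_sup_right hq)⟩ := Subtype.ext e
    exact hy

/-- A subgroup generated by elements of normal subgroups it contains is normal. -/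
theorem isNormal_of_union {Ω : Type*} [Group Ω] {T : Subgroup Ω} [Finite T] {E : Cfsg.FusionSystem T}
    {K : Subgroup Ω} (hK : K ≤ T) (X : Set Ω) (hKX : K = Subgroup.closure X)
    (h : ∀ x ∈ X, ∃ A, A ≤ K ∧ E.IsNormal A ∧ x ∈ A) : E.IsNormal K := by
  have hbot : E.IsNormal ⊥ := isNormal_of_extends bot_le fun P φ hφ =>
    ⟨_, restrict hφ (sup_le le_rfl bot_le), fun x => rfl, fun q hq => by
      rw [Subgroup.mem_bot] at hq ⊢
      subst hq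
      exact map_one _⟩
  have hbdd : BddAbove {n : ℕ | ∃ M, (M ≤ K ∧ E.IsNormal M) ∧ Nat.card M = n} :=
    ⟨Nat.card T, by rintro n ⟨M, ⟨-, hM⟩, rfl⟩; exact Subgroup.card_le_of_le hM.1⟩
  obtain ⟨M, ⟨hMK, hM⟩, hcard⟩ := Nat.sSup_mem
    (⟨_, ⊥, ⟨bot_le, hbot⟩, rfl⟩ : {n : ℕ | ∃ M, (M ≤ K ∧ E.IsNormal M) ∧ Nat.card M = n}.Nonempty) hbdd
  suffices hle : K ≤ M by rw [le_antisymm hle hMK]; exact hM
  rw [hKX, Subgroup.closure_le]
  intro x hx
  obtain ⟨A, hAK, hA, hxA⟩ := h x hx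
  haveI := finite_of_le (sup_le hM.1 hA.1 : M ⊔ A ≤ T)
  have : M = M ⊔ A := Subgroup.eq_of_le_of_card_ge le_sup_left
    (hcard ▸ le_csSup hbdd ⟨_, ⟨sup_le hMK hAK, isNormal_sup hM hA⟩, rfl⟩)
  exact this.ge (Subgroup.mem_sup_right hxA)


/-- Let F be a saturated fusion system over a finite p-group S and E a weakly normal subsystem of F over a subgroup T. Suppose a subgroup R of T is normal in E (E = N_E(R)), and let R* be the subgroup of T generated by the images of R under all maps of F with source R. Then R* is normal in F (F = N_F(R*)). -/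
theorem result {Ω : Type*} [Group Ω] {S : Subgroup Ω} [Finite S] (p : ℕ) [Fact p.Prime] (hS : IsPGroup p S)
    (F : Cfsg.FusionSystem S) (hF : F.IsSaturated p)
    {T : Subgroup Ω} (E : Cfsg.FusionSystem T) (hE : E.IsWeaklyNormalIn F p)
    (R : Subgroup Ω) (hR : E.IsNormal R) :
    F.IsNormal (Subgroup.closure {x : Ω | ∃ φ ∈ F.Hom R, ∃ r : R, x = φ r}) := by
  obtain ⟨-, -, hsub, hsc, hinvar, hfr⟩ := hE
  haveI := finite_of_le hsc.1
  have hRT : R ≤ T := hR.1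
  set X : Set Ω := {x : Ω | ∃ φ ∈ F.Hom R, ∃ r : R, x = φ r} with hX
  set K := Subgroup.closure X with hKdef
  have hKT : K ≤ T := (Subgroup.closure_le _).2 fun x ⟨φ, hφ, r, hr⟩ => hr ▸ hsc.2 R hRT φ hφ r
  have hαK : ∀ α ∈ F.autGroup T, ∀ y : T, (y : Ω) ∈ K → ((α y : T) : Ω) ∈ K := by
    intro α hα
    suffices h : K ≤ (K.comap (T.subtype.comp α.toMonoidHom)).map T.subtype by
      intro y hy
      obtain ⟨z, hz, e⟩ := h hy
      exact (Subtype.ext e : z = y) ▸ hz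
    rw [hKdef, Subgroup.closure_le]
    rintro x ⟨φ, hφ, r, rfl⟩
    refine ⟨⟨φ r, hsc.2 R hRT φ hφ r⟩, Subgroup.subset_closure ?_, rfl⟩
    exact ⟨_, F.comp_mem hφ ((mem_autGroup hsc.1).1 hα) fun z => hsc.2 R hRT φ hφ z, r, rfl⟩
  have hNK : E.IsNormal K := by
    refine isNormal_of_union hKT X rfl ?_
    rintro x ⟨φ, hφ, r, rfl⟩
    obtain ⟨α, hα, φ₀, hφ₀, hcomp⟩ := hfr R hRT φ hφ
    have hφ₀R : ∀ z, φ₀ z ∈ R := fun z =>
      (stronglyClosed_of_isNormal hR).2 R le_rfl φ₀ hφ₀ z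
    set A := (R.subgroupOf T).map (T.subtype.comp α.toMonoidHom) with hA
    refine ⟨A, ?_, ?_, ⟨⟨φ₀ r, hRT (hφ₀R r)⟩, hφ₀R r, (hcomp r (hRT (hφ₀R r))).symm⟩⟩
    · rintro _ ⟨z, hz, rfl⟩
      exact hαK α hα z (Subgroup.subset_closure ⟨_, subtype_mem (F := F) (hRT.trans hsc.1), ⟨z, hz⟩, rfl⟩)
    · refine isNormal_of_extends (Subgroup.map_le_iff_le_comap.2 fun z _ => (α z).2) fun P θ hθ => ?_
      have hP := le_of_hom hθ
      obtain ⟨θ', hθ', hθ'x⟩ := hinvar P hP θ hθ α⁻¹ (inv_mem hα)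
      set P' := (P.subgroupOf T).map (T.subtype.comp (α⁻¹ : MulAut T).toMonoidHom)
      obtain ⟨ψ, hψ, hψag, hψR⟩ := extendsOver_of_isNormal hR hθ'
      have hP'T : P' ⊔ R ≤ T := le_of_hom hψ
      obtain ⟨χ, hχ, hχx⟩ := hinvar (P' ⊔ R) hP'T ψ hψ α hα
      have hle : P ⊔ A ≤ ((P' ⊔ R).subgroupOf T).map (T.subtype.comp α.toMonoidHom) := by
        refine sup_le (fun z hz => ⟨α⁻¹ ⟨z, hP hz⟩, Subgroup.mem_sup_left ⟨⟨z, hP hz⟩, hz, rfl⟩, ?_⟩)
          (Subgroup.map_mono fun z hz => Subgroup.mem_sup_right hz)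
        show ((α (α⁻¹ ⟨z, hP hz⟩) : T) : Ω) = z
        rw [MulAut.apply_inv_self]
      refine ⟨_, restrict hχ hle, fun z => ?_, fun q hq => ?_⟩
      · have hz' : ((α⁻¹ ⟨z, hP z.2⟩ : T) : Ω) ∈ P' := ⟨⟨z, hP z.2⟩, z.2, rfl⟩
        have h1 := hθ'x z (val_mem hθ z) hz'
        have h2 := hψag ⟨_, hz'⟩
        have hψT := val_mem hψ ⟨_, Subgroup.mem_sup_left hz'⟩
        have h3 := hχx ⟨_, Subgroup.mem_sup_left hz'⟩ hψT (hle (Subgroup.mem_sup_left (by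
          show ((α (α⁻¹ ⟨z, hP z.2⟩) : T) : Ω) ∈ P
          rw [MulAut.apply_inv_self]; exact z.2)))
        show χ ⟨z, _⟩ = θ z
        refine Eq.trans (congrArg χ (Subtype.ext ?_)) (h3.trans ?_)
        · show (z : Ω) = ((α (α⁻¹ ⟨z, hP z.2⟩) : T) : Ω)
          rw [MulAut.apply_inv_self]
        · rw [show (⟨ψ ⟨_, Subgroup.mem_sup_left hz'⟩, hψT⟩ : T) = α⁻¹ ⟨θ z, val_mem hθ z⟩ from
            Subtype.ext (h2.trans h1), MulAut.apply_inv_self]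
      · obtain ⟨w, hw, rfl⟩ := hq
        have hwP : (w : Ω) ∈ P' ⊔ R := Subgroup.mem_sup_right hw
        have hm := hψR w hw
        have h3 := hχx ⟨w, hwP⟩ (hRT hm) (hle (Subgroup.mem_sup_right ⟨w, hw, rfl⟩))
        exact ⟨⟨_, hRT hm⟩, hm, h3.symm⟩
  have hscK : F.StronglyClosed K := by
    refine ⟨hKT.trans hsc.1, fun U hU φ hφ x => ?_⟩
    obtain ⟨α, hα, φ₀, hφ₀, hcomp⟩ := hfr U (hU.trans hKT) φ hφ
    have hm : φ₀ x ∈ K := (stronglyClosed_of_isNormal hNK).2 U hU φ₀ hφ₀ x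
    rw [hcomp x (hKT hm)]
    exact hαK α hα _ hm
  refine isNormal_of_aut_extends hS hF hscK fun U hU φ hφ => ?_
  obtain ⟨α, hα, φ₀, hφ₀, hcomp⟩ := hfr U (hU.trans hKT) φ hφ
  obtain ⟨β, -, hβ⟩ := exists_aut_of_isNormal hNK hU hφ₀
  haveI := finite_of_le hKT
  let a : K →* K := ((T.subtype.comp α.toMonoidHom).comp (Subgroup.inclusion hKT)).codRestrict K
    fun y => hαK α hα ⟨y, hKT y.2⟩ y.2
  have ha : Function.Bijective a := Finite.injective_iff_bijective.1 fun y y' h => by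
    have h' : α (Subgroup.inclusion hKT y) = α (Subgroup.inclusion hKT y') :=
      Subtype.ext (Subtype.ext_iff.1 h :)
    exact Subgroup.inclusion_injective hKT (α.injective h')
  refine ⟨β.trans (MulEquiv.ofBijective a ha), fun x => ?_⟩
  have hm : φ₀ x ∈ T := val_mem hφ₀ x
  rw [hcomp x hm]
  show ((α ⟨φ₀ x, hm⟩ : T) : Ω) = ((α ⟨((β ⟨x, hU x.2⟩ : K) : Ω), _⟩ : T) : Ω)
  congr 2
  exact Subtype.ext (hβ x)

end Cfsg.Agent.S5291
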