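import Cfsg.Statements.S5343
import Cfsg.Agent.Fusion.RealizedNormal
-- import your own Cfsg.Agent.* helpers here

set_option autoImplicit false
universe u
open Cfsg

namespace Cfsg.Agent.S5343

open CfsgLib.Fusion Cfsg.FusionSystem

/-- A normal subgroup meeting the Sylow subgroup trivially may be factored out. -/
theorem quotient_realizes {Ω : Type u} [Group Ω] {S : Subgroup Ω} {p : ℕ} [Fact p.Prime] {F : Cfsg.FusionSystem S}
    {G : Type u} [Group G] [Finite G] {ι : S →* G} (hR : F.IsRealizedBy ι) (T : Sylow p G)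
    (hT : (T : Subgroup G) = ι.range) (N : Subgroup G) [N.Normal] (hN : ¬ p ∣ Nat.card N) :
    F.IsRealizedBy ((QuotientGroup.mk' N).comp ι) ∧
      ∃ T' : Sylow p (G ⧸ N), (T' : Subgroup (G ⧸ N)) = ((QuotientGroup.mk' N).comp ι).range := by
  set π := QuotientGroup.mk' N
  have htriv : ∀ D : Subgroup G, IsPGroup p D → D ⊓ N = ⊥ := by
    intro D hD
    obtain ⟨k, hk⟩ := IsPGroup.iff_card.1 (hD.to_le (inf_le_left : D ⊓ N ≤ D))
    apply Subgroup.eq_bot_of_card_eq
    rcases k with _ | k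
    · rwa [pow_zero] at hk
    · exact absurd ((hk ▸ dvd_pow_self p k.succ_ne_zero : p ∣ Nat.card ↥(D ⊓ N)).trans
        (Subgroup.card_dvd_of_le inf_le_right)) hN
  have hinj : ∀ D : Subgroup G, IsPGroup p D → ∀ a ∈ D, ∀ b ∈ D, π a = π b → a = b := by
    intro D hD a ha b hb h
    have h1 : a⁻¹ * b ∈ D ⊓ N := ⟨D.mul_mem (D.inv_mem ha) hb, QuotientGroup.eq.1 h⟩
    rwa [htriv D hD, Subgroup.mem_bot, inv_mul_eq_one] at h1
  have hpι : IsPGroup p ι.range := hT ▸ T.isPGroup'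
  refine ⟨⟨fun x y h => hR.1 (hinj ι.range hpι _ ⟨x, rfl⟩ _ ⟨y, rfl⟩ h), fun P hP φ hφ => ⟨fun h => ?_, ?_⟩⟩,
    T.mapSurjective (QuotientGroup.mk'_surjective N), ?_⟩
  · obtain ⟨g, hg⟩ := exists_of_hom hR h
    refine ⟨π g, fun x => ?_⟩
    show π (ι _) = π g * π (ι _) * (π g)⁻¹
    rw [hg, map_mul, map_mul, map_inv]
  · rintro ⟨q, hq⟩
    obtain ⟨g, rfl⟩ := QuotientGroup.mk'_surjective N q
    let f₁ : P →* G := ι.comp (φ.codRestrict S hφ)
    let f₂ : P →* G := (MulAut.conj g).toMonoidHom.comp (ι.comp (Subgroup.inclusion hP))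
    have hπ : ∀ x, π (f₁ x) = π (f₂ x) := fun x => (hq x).trans (by
      show π g * π (ι _) * (π g)⁻¹ = π (g * ι _ * g⁻¹)
      rw [map_mul, map_mul, map_inv]
      rfl)
    set X₁ := f₁.range
    set X₂ := f₂.range
    have hX₁ : IsPGroup p X₁ := hpι.to_le (by rintro _ ⟨x, rfl⟩; exact ⟨_, rfl⟩)
    have hX₂ : IsPGroup p X₂ := (hpι.map (MulAut.conj g).toMonoidHom).to_le (by
      rintro _ ⟨x, rfl⟩; exact ⟨_, ⟨_, rfl⟩, rfl⟩)
    set M := X₁ ⊔ N
    have hmax : ∀ D : Subgroup G, IsPGroup p D → D ≤ M → Nat.card D ≤ Nat.card X₁ := fun D hD hDM => by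
      calc Nat.card D = Nat.card (D.map π) := Nat.card_congr (Equiv.ofBijective
            (fun d : D => (⟨π d, d, d.2, rfl⟩ : D.map π))
            ⟨fun a b h => Subtype.ext (hinj D hD _ a.2 _ b.2 (congrArg Subtype.val h)),
              fun ⟨_, d, hd, rfl⟩ => ⟨⟨d, hd⟩, rfl⟩⟩)
        _ ≤ Nat.card (X₁.map π) := Subgroup.card_le_of_le ((Subgroup.map_mono hDM).trans (le_of_eq (by
            rw [Subgroup.map_sup, (Subgroup.map_eq_bot_iff N).2 (QuotientGroup.ker_mk' N).ge, sup_bot_eq])))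
        _ ≤ Nat.card X₁ := Nat.card_le_card_of_surjective (fun d : X₁ => (⟨π d, d, d.2, rfl⟩ : X₁.map π))
            fun ⟨_, d, hd, rfl⟩ => ⟨⟨d, hd⟩, rfl⟩
    have hsyl : ∀ D : Subgroup G, IsPGroup p D → D ≤ M → Nat.card X₁ ≤ Nat.card D →
        ∃ R : Sylow p M, (R : Subgroup M).map M.subtype = D := by
      intro D hD hDM hDc
      obtain ⟨R, hR'⟩ := (hD.of_equiv (Subgroup.subgroupOfEquivOfLe hDM).symm).exists_le_sylow
      have hle : D ≤ (R : Subgroup M).map M.subtype :=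
        (Subgroup.map_subgroupOf_eq_of_le hDM).ge.trans (Subgroup.map_mono hR')
      exact ⟨R, (Subgroup.eq_of_le_of_card_ge hle
        ((hmax _ (R.isPGroup'.map _) (Subgroup.map_subtype_le _)).trans hDc)).symm⟩
    have hX₂M : X₂ ≤ M := by
      rintro _ ⟨x, rfl⟩
      obtain ⟨n, hn, e⟩ := (QuotientGroup.mk'_eq_mk' N).1 (hπ x)
      rw [← e]
      exact Subgroup.mul_mem_sup ⟨x, rfl⟩ hn
    have hcard : Nat.card X₁ ≤ Nat.card X₂ := by
      refine le_of_eq ?_
      rw [← Nat.card_congr (MonoidHom.ofInjective (f := f₁) ?_).toEquiv,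
        ← Nat.card_congr (MonoidHom.ofInjective (f := f₂) ?_).toEquiv]
      · exact (MulAut.conj g).injective.comp (hR.1.comp (Subgroup.inclusion_injective hP))
      · intro a b h
        have h' := (hπ a).symm.trans ((congrArg π h).trans (hπ b))
        have := hinj _ (hpι.map (MulAut.conj g).toMonoidHom) _ ⟨_, ⟨_, rfl⟩, rfl⟩ _ ⟨_, ⟨_, rfl⟩, rfl⟩ h'
        exact Subgroup.inclusion_injective hP (hR.1 ((MulAut.conj g).injective this))
    obtain ⟨R₁, hR₁⟩ := hsyl X₁ hX₁ le_sup_left le_rfl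
    obtain ⟨R₂, hR₂⟩ := hsyl X₂ hX₂ hX₂M hcard
    obtain ⟨l, hl⟩ := MulAction.exists_smul_eq M R₂ R₁
    obtain ⟨y, hy, n, hn, e⟩ := Subgroup.mem_sup_of_normal_right.1 l.2
    refine hom_of_realized hR hP hφ (n * g) fun x => ?_
    have h2 : f₂ x ∈ (R₂ : Subgroup M).map M.subtype := hR₂.ge ⟨x, rfl⟩
    obtain ⟨z, hz, ez⟩ := h2
    have h3 : (l : G) * f₂ x * (l : G)⁻¹ ∈ X₁ := by
      refine hR₁.le ⟨MulAut.conj l z, ?_, ?_⟩
      · rw [← hl, Sylow.coe_subgroup_smul]
        exact ⟨z, hz, rfl⟩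
      · rw [← ez]; rfl
    have h4 : n * f₂ x * n⁻¹ ∈ X₁ := by
      have := X₁.mul_mem (X₁.mul_mem (X₁.inv_mem hy) h3) hy
      rwa [← e, show y⁻¹ * (y * n * f₂ x * (y * n)⁻¹) * y = n * f₂ x * n⁻¹ by group] at this
    have h5 : n * f₂ x * n⁻¹ = f₁ x := hinj X₁ hX₁ _ h4 _ ⟨x, rfl⟩ (by
      rw [map_mul, map_mul, map_inv, show π n = 1 from (QuotientGroup.eq_one_iff n).2 hn, one_mul, inv_one,
        mul_one, hπ])
    refine h5.symm.trans ?_
    show n * (g * ι _ * g⁻¹) * n⁻¹ = _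
    group
    rfl
  · rw [MonoidHom.range_comp, ← hT]
    rfl


/-- Let F be a simple saturated fusion system over a finite p-group S that is realized by some finite group on a Sylow p-subgroup. Then F is realized by a finite simple group on a Sylow p-subgroup. -/
theorem result {Ω : Type u} [Group Ω] {S : Subgroup Ω} [Finite S] (p : ℕ) [Fact p.Prime] (hS : IsPGroup p S) (F : Cfsg.FusionSystem S) (hsimple : F.IsSimple p) (hreal : F.IsRealizable p) : ∃ (G : Type u) (_ : Group G) (_ : Finite G) (_ : IsSimpleGroup G) (ι : ↥S →* G), F.IsRealizedBy ι ∧ ∃ T : Sylow p G, (T : Subgroup G) = ι.range := by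
    classical
    let good : ℕ → Prop := fun n => ∃ (G : Type u) (_ : Group G) (_ : Finite G) (ι : ↥S →* G),
      F.IsRealizedBy ι ∧ (∃ T : Sylow p G, (T : Subgroup G) = ι.range) ∧ Nat.card G = n
    have hex : ∃ n, good n := by
      obtain ⟨G, i1, i2, ι, h1, h2⟩ := hreal
      exact ⟨_, G, i1, i2, ι, h1, h2, rfl⟩
    obtain ⟨G, _, _, ι, hR, ⟨T, hT⟩, hcard⟩ := Nat.find_spec hex
    have hmin : ∀ (G' : Type u) (_ : Group G') (_ : Finite G') (ι' : ↥S →* G'), F.IsRealizedBy ι' →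
        (∃ T' : Sylow p G', (T' : Subgroup G') = ι'.range) → Nat.card G ≤ Nat.card G' := fun G' i1 i2 ι' h1 h2 =>
      hcard ▸ Nat.find_min' hex ⟨G', i1, i2, ι', h1, h2, rfl⟩
    obtain ⟨-, hS1, hmax⟩ := hsimple
    haveI : Nontrivial G := by
      obtain ⟨x, hx, hx1⟩ := (S.bot_or_exists_ne_one).resolve_left hS1
      exact ⟨⟨ι ⟨x, hx⟩, 1, fun h => hx1 (congrArg Subtype.val (hR.1 (h.trans ι.map_one.symm)))⟩⟩
    refine ⟨G, inferInstance, inferInstance, ⟨fun N hN => ?_⟩, ι, hR, T, hT⟩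
    by_contra hne
    push Not at hne
    haveI := hN
    obtain ⟨T₀, hT₀⟩ := CfsgLib.PReduced.exists_sylow_inf T N
    rcases hmax _ _ (isNormalIn_subgroupSystem hR T hT N) with hQ | ⟨hQ, hE⟩
    · have hd : ¬ p ∣ Nat.card N := by
        intro hd
        refine T₀.ne_bot_of_dvd_card hd ?_
        rw [hT₀, Subgroup.subgroupOf_eq_bot, disjoint_iff, inf_assoc, inf_idem, eq_bot_iff]
        rintro y ⟨hyT, hyN⟩
        rw [hT] at hyT
        obtain ⟨s, rfl⟩ := hyT
        have : (s : Ω) ∈ preimageAlong ι N := mem_preimageAlong.2 ⟨s.2, hyN⟩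
        rw [hQ, Subgroup.mem_bot] at this
        rw [show s = 1 from Subtype.ext this, map_one]
        exact Subgroup.one_mem _
      obtain ⟨h1, h2⟩ := quotient_realizes hR T hT N hd
      have h3 := hmin _ _ inferInstance _ h1 h2
      have h4 := Subgroup.card_eq_card_quotient_mul_card_subgroup N
      have h5 : 1 < Nat.card N := N.one_lt_card_iff_ne_bot.2 hne.1
      have h6 : 0 < Nat.card (G ⧸ N) := Nat.card_pos
      have h7 := Nat.mul_le_mul_left (Nat.card (G ⧸ N)) (show 2 ≤ Nat.card N from h5)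
      omega
    · have hmem : ∀ x : S, ι x ∈ N := fun x => (mem_preimageAlong.1 (hQ.ge x.2)).2
      have h1 : F.IsRealizedBy (ι.codRestrict N hmem) := by
        refine ⟨fun x y h => hR.1 (congrArg Subtype.val h), fun P hP φ hφ => ?_⟩
        rw [← hE P]
        constructor
        · rintro ⟨_, _, -, g, hg, h⟩
          exact ⟨⟨g, hg⟩, fun x => Subtype.ext (h x)⟩
        · rintro ⟨g, h⟩
          have hF' : φ ∈ F.Hom P := hom_of_realized hR hP hφ g fun x => congrArg Subtype.val (h x)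
          exact ⟨hP.trans hQ.ge, fun x => hQ.ge (hφ x), F.injective_of_mem hF', g, g.2,
            fun x => congrArg Subtype.val (h x)⟩
      have hTN : (T : Subgroup G) ≤ N := by
        rw [hT]; rintro _ ⟨x, rfl⟩; exact hmem x
      have h2 : ∃ T' : Sylow p N, (T' : Subgroup N) = (ι.codRestrict N hmem).range := by
        refine ⟨T.subtype hTN, ?_⟩
        rw [Sylow.coe_subtype, hT]
        ext y
        constructor
        · rintro ⟨x, hx⟩
          exact ⟨x, Subtype.ext hx⟩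
        · rintro ⟨x, rfl⟩
          exact ⟨x, rfl⟩
      have h3 := hmin _ _ inferInstance _ h1 h2
      exact hne.2 (Subgroup.eq_top_of_le_card N h3)

end Cfsg.Agent.S5343
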