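import Cfsg.Statements.S5292
import Cfsg.Agent.S5343
import Cfsg.Agent.S5145
import Cfsg.Agent.Fusion.Model
import Cfsg.Agent.Fusion.Realized
import Cfsg.Agent.PCore.PSolvable
import Cfsg.Agent.PCore.PConstrained

set_option autoImplicit false
universe u
open Cfsg

namespace Cfsg.Agent.S5292

open CfsgLib.Fusion Cfsg.FusionSystem

/-- The automizer of a subgroup in the system of a `p`-soluble group is `p`-soluble. -/
theorem autGroup_pSolvable {Ω : Type u} [Group Ω] {S : Subgroup Ω} {p : ℕ} [Fact p.Prime]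
    {F : Cfsg.FusionSystem S} {G : Type u} [Group G] {ι : S →* G} (hR : F.IsRealizedBy ι)
    (hG : Cfsg.IsPSolvable p G) {P : Subgroup Ω} (hP : P ≤ S) :
    Cfsg.IsPSolvable p (F.autGroup P) := by
  let K : Subgroup (G × F.autGroup P) :=
    { carrier := {a | ∀ x : P, ι (Subgroup.inclusion hP ((a.2 : MulAut P) x)) =
        a.1 * ι (Subgroup.inclusion hP x) * a.1⁻¹}
      one_mem' := fun x => by simp
      mul_mem' := fun {a b} ha hb x => by
        show ι (Subgroup.inclusion hP (((a.2 * b.2 : F.autGroup P) : MulAut P) x)) =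
          a.1 * b.1 * ι (Subgroup.inclusion hP x) * (a.1 * b.1)⁻¹
        rw [Subgroup.coe_mul, MulAut.mul_apply, ha, hb]
        group
      inv_mem' := fun {a} ha x => by
        show ι (Subgroup.inclusion hP (((a.2⁻¹ : F.autGroup P) : MulAut P) x)) =
          a.1⁻¹ * ι (Subgroup.inclusion hP x) * a.1⁻¹⁻¹
        have h1 := ha ((a.2 : MulAut P)⁻¹ x)
        rw [MulAut.apply_inv_self] at h1
        rw [Subgroup.coe_inv, h1]
        group }
  let f : K →* G := (MonoidHom.fst G (F.autGroup P)).comp K.subtype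
  have hf : Function.Injective f := by
    rintro ⟨⟨g, α⟩, ha⟩ ⟨⟨g', β⟩, hb⟩ (h : g = g')
    subst h
    have he : α = β := Subtype.ext (MulEquiv.ext fun x =>
      Subgroup.inclusion_injective hP (hR.1 ((ha x).trans (hb x).symm)))
    subst he
    rfl
  have hK : Cfsg.IsPSolvable p K := CfsgLib.PCore.isPSolvable_of_equiv (MonoidHom.ofInjective hf).symm
    (CfsgLib.PCore.isPSolvable_subgroup hG f.range)
  refine CfsgLib.PCore.isPSolvable_map hK ((MonoidHom.snd G (F.autGroup P)).comp K.subtype) ?_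
  intro α
  obtain ⟨g, hg⟩ := (mem_autGroup_realized hR hP).1 α.2
  exact ⟨⟨(g, α), hg⟩, rfl⟩

/-- Let F be a saturated fusion system over a finite p-group S. Then F is the fusion system of some finite p-solvable group on a Sylow p-subgroup if and only if F is constrained (some subgroup normal in F is centric in F) and the group of automorphisms that F induces on its largest normal subgroup O_p(F) is p-solvable. -/
theorem result {Ω : Type u} [Group Ω] {S : Subgroup Ω} [Finite S] (p : ℕ) [Fact p.Prime] (hS : IsPGroup p S)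
    (F : Cfsg.FusionSystem S) (hF : F.IsSaturated p) :
    (∃ (G : Type u) (_ : Group G) (_ : Finite G) (ι : S →* G), Cfsg.IsPSolvable p G ∧ F.IsRealizedBy ι ∧
        ∃ T : Sylow p G, (T : Subgroup G) = ι.range) ↔
      (F.IsConstrained p ∧ Cfsg.IsPSolvable p ↥(F.autGroup F.core)) := by
  refine ⟨?_, ?_⟩
  · rintro ⟨G, _, _, ι, hsol, hR, T, hT⟩
    refine ⟨?_, autGroup_pSolvable hR hsol (Cfsg.Agent.S5145.result F).1⟩
    set N := Cfsg.pPrimeCore p G
    haveI : N.Normal := Cfsg.pPrimeCore_normal p G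
    have hN : ¬ p ∣ Nat.card N := fun h => (Fact.out : p.Prime).not_dvd_one
      ((Nat.coprime_iff_gcd_eq_one.1 (CfsgLib.PCore.pPrimeCore_coprime p G)) ▸ Nat.dvd_gcd h dvd_rfl)
    obtain ⟨hR', T', hT'⟩ := Cfsg.Agent.S5343.quotient_realizes hR T hT N hN
    exact isConstrained_of_model (G := G ⧸ N)
      ⟨inferInstance, hR', ⟨T', hT'⟩, CfsgLib.PCore.hall_higman (CfsgLib.PCore.isPSolvable_quotient hsol N)
        CfsgLib.PCore.pPrimeCore_quotient⟩
  · rintro ⟨⟨-, Q, hQ, hQc⟩, hL⟩
    have hn := Cfsg.Agent.S5145.result F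
    have h : ModelData F p F.core := ⟨hS, hF, hn, centric_of_le hQc (le_sSup hQ) hn.1⟩
    haveI := h.finiteG
    haveI : Finite h.L := Finite.of_surjective h.π h.π_surjective
    refine ⟨h.G, inferInstance, inferInstance, h.ι, ?_, h.realized, h.isModel.2.2.1⟩
    refine CfsgLib.PCore.isPSolvable_of_normal h.π.ker ?_
      (CfsgLib.PCore.isPSolvable_of_equiv (QuotientGroup.quotientKerEquivOfSurjective _ h.π_surjective).symm hL)
    refine CfsgLib.PCore.isPSolvable_of_isPGroup ?_
    refine (h.pgroup.of_surjective h.ι.rangeRestrict (MonoidHom.rangeRestrict_surjective _)).to_le ?_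
    intro g hg
    obtain ⟨z, hz⟩ := h.exists_of_π_eq_one hg
    exact ⟨_, hz⟩

end Cfsg.Agent.S5292
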