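import Cfsg.Statements.S5294
import Cfsg.Agent.S5291
-- import your own Cfsg.Agent.* helpers here

set_option autoImplicit false
universe u
open Cfsg

namespace Cfsg.Agent.S5294

open CfsgLib.Fusion Cfsg.FusionSystem

theorem exists_complement {M : Type*} [CommGroup M] [Finite M] (W Y : Subgroup M) (τ : M →* M)
    (n : ℕ) (hn : ∀ x : M, n.Coprime (orderOf x)) (hYW : Y ≤ W)
    (hτW : ∀ w ∈ W, τ w ∈ Y) (hτY : ∀ y ∈ Y, τ y = y ^ n) :
    Y ⊓ (W ⊓ τ.ker) = ⊥ ∧ Y ⊔ (W ⊓ τ.ker) = W := by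
  constructor
  · rw [eq_bot_iff]
    rintro y ⟨hy, -, hk⟩
    obtain ⟨m, hm⟩ := exists_pow_eq_self_of_coprime (hn y)
    rw [Subgroup.mem_bot, ← hm, ← hτY y hy, MonoidHom.mem_ker.1 hk, one_pow]
  · refine le_antisymm (sup_le hYW inf_le_left) fun w hw => ?_
    obtain ⟨m, hm⟩ := exists_pow_eq_self_of_coprime (hn (τ w))
    set y := (τ w) ^ m
    have hy : y ∈ Y := Y.pow_mem (hτW w hw) m
    have h1 : τ y = τ w := by
      rw [hτY y hy]
      exact (pow_right_comm _ _ _).trans hm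
    rw [show w = y * (y⁻¹ * w) by rw [mul_inv_cancel_left]]
    refine Subgroup.mul_mem_sup hy ⟨W.mul_mem (W.inv_mem (hYW hy)) hw, ?_⟩
    show τ (y⁻¹ * w) = 1
    rw [map_mul, map_inv, h1, inv_mul_cancel]


/-- Let F be a saturated fusion system over a finite p-group S whose centre Z(S) lies in the largest subgroup O_p(F) normal in F. Then the centre Z(F) of F is a direct factor of Z(S): there is a subgroup K of Z(S) with Z(F) ∩ K = 1 and Z(F)K = Z(S). -/
theorem result {Ω : Type u} [Group Ω] {S : Subgroup Ω} [Finite S] (p : ℕ) [Fact p.Prime] (hS : IsPGroup p S)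
    (F : Cfsg.FusionSystem S) (hF : F.IsSaturated p) (hZ : (S ⊓ Subgroup.centralizer (S : Set Ω)) ≤ F.core) :
    ∃ K : Subgroup Ω, K ≤ (S ⊓ Subgroup.centralizer (S : Set Ω)) ∧ F.center ⊓ K = ⊥ ∧ F.center ⊔ K = (S ⊓ Subgroup.centralizer (S : Set Ω)) := by
  set Z := S ⊓ Subgroup.centralizer (S : Set Ω) with hZdef
  have hcore : F.IsNormal F.core := by
    refine Cfsg.Agent.S5291.isNormal_of_union (sSup_le fun Q hQ => hQ.1)
      {x | ∃ Q, F.IsNormal Q ∧ x ∈ Q} ?_ fun x ⟨Q, hQ, hx⟩ => ⟨Q, le_sSup hQ, hQ, hx⟩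
    refine le_antisymm (sSup_le fun Q hQ x hx => Subgroup.subset_closure ⟨Q, hQ, hx⟩)
      ((Subgroup.closure_le _).2 fun x ⟨Q, hQ, hx⟩ => (le_sSup hQ : Q ≤ F.core) hx)
  set Q := F.core with hQdef
  have hQS : Q ≤ S := hcore.1
  have hSN := le_normalizer_of_isNormal hcore
  haveI := finite_of_le hQS
  haveI := finite_mulAut (S := S) hQS
  set A := F.autGroup Q
  have hnS : normalizerIn S Q = S := inf_eq_left.2 hSN
  have hfn : F.IsFullyNormalized Q := ⟨hQS, fun R _ => by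
    rw [hnS]; exact Subgroup.card_le_of_le inf_le_left⟩
  obtain ⟨-, T, hT⟩ := fullyAutomized_of_fullyNormalized hS hF hfn
  set B := (Cfsg.autInducedBy S Q).subgroupOf A
  letI : CommGroup (Subgroup.center Q) :=
    { (inferInstance : Group (Subgroup.center Q)) with
      mul_comm := fun a b => Subtype.ext (Subgroup.mem_center_iff.1 b.2 a) }
  classical
  let act : A → Subgroup.center Q →* Subgroup.center Q := fun a =>
    { toFun := fun z => ⟨(a : MulAut Q) z, Subgroup.mem_center_iff.2 fun g => by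
        have h := congrArg (a : MulAut Q) (Subgroup.mem_center_iff.1 z.2 ((a : MulAut Q)⁻¹ g))
        simpa using h⟩
      map_one' := Subtype.ext (map_one (a : MulAut Q))
      map_mul' := fun x y => Subtype.ext (map_mul (a : MulAut Q) (x : Q) y) }
  letI : Fintype (A ⧸ B) := Fintype.ofFinite _
  let τ : Subgroup.center Q →* Subgroup.center Q := ∏ q : A ⧸ B, act q.out
  have hτ : ∀ z, τ z = ∏ q : A ⧸ B, act q.out z := fun z => MonoidHom.finset_prod_apply _ _ _
  set W : Subgroup (Subgroup.center Q) := (Z.subgroupOf Q).subgroupOf (Subgroup.center Q)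
  set Y : Subgroup (Subgroup.center Q) := ((F.center).subgroupOf Q).subgroupOf (Subgroup.center Q)
  have hCZ : F.center ≤ Z := sSup_le fun R hR r hr => by
    refine ⟨hR.1 hr, Subgroup.mem_centralizer_iff.2 fun s hs => ?_⟩
    obtain ⟨ψ, hψ, h1, h2⟩ := hR.2 S (Cfsg.conjHom S s) (F.conj_mem le_rfl hs)
    have e : s * r * s⁻¹ = r := (h1 ⟨r, hR.1 hr⟩).symm.trans (h2 ⟨r, hr⟩)
    exact mul_inv_eq_iff_eq_mul.1 e
  have hBfix : ∀ b : A, b ∈ B → ∀ z ∈ W, act b z = z := by
    intro b hb z hz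
    obtain ⟨s, hs, hsx⟩ := mem_autInducedBy.1 (Subgroup.mem_subgroupOf.1 hb)
    refine Subtype.ext (Subtype.ext ?_)
    show (((b : MulAut Q) (z : Q) : Q) : Ω) = _
    rw [hsx, Subgroup.mem_centralizer_iff.1 (show ((z : Q) : Ω) ∈ Z from hz).2 s hs, mul_inv_cancel_right]
  -- elements fixed by `A` in `Z(S)` are central in `F`
  have hcentral : ∀ z ∈ W, (∀ a : A, act a z = z) → z ∈ Y := by
    intro z hz hfix
    refine (le_sSup (show F.IsCentral (Subgroup.zpowers ((z : Q) : Ω)) from ?_) :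
      Subgroup.zpowers ((z : Q) : Ω) ≤ F.center) (Subgroup.mem_zpowers _)
    have hzQ : ((z : Q) : Ω) ∈ Q := (z : Q).2
    refine ⟨Subgroup.zpowers_le.2 (hQS hzQ), fun P φ hφ => ?_⟩
    obtain ⟨ψ, hψ, hag, hq⟩ := extendsOver_of_isNormal hcore hφ
    have hle : P ⊔ Subgroup.zpowers ((z : Q) : Ω) ≤ P ⊔ Q := sup_le_sup_left (Subgroup.zpowers_le.2 hzQ) P
    refine ⟨_, restrict hψ hle, fun x => hag x, fun x => ?_⟩
    have hres := restrict hψ (le_sup_right : Q ≤ P ⊔ Q)
    have hr : (ψ.comp (Subgroup.inclusion le_sup_right)).range = Q :=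
      (range_restrict le_sup_right).trans (map_eq_of_invariant hQS le_sup_right hψ hq)
    let a : A := ⟨isoOfHom (F.injective_of_mem hres) hr, mem_autGroup_of_eq hres fun _ => rfl⟩
    obtain ⟨k, hk⟩ := Subgroup.mem_zpowers_iff.1 x.2
    have hxz : (x : Ω) = (((z : Q) ^ k : Q) : Ω) := by rw [SubgroupClass.coe_zpow]; exact hk.symm
    have hz' : (a : MulAut Q) ((z : Q) ^ k) = (z : Q) ^ k := by
      rw [map_zpow]; exact congrArg (fun u : Subgroup.center Q => (u : Q) ^ k) (hfix a)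
    show ψ ⟨x, _⟩ = x
    refine Eq.trans (congrArg ψ (Subtype.ext hxz) : _ = ψ (Subgroup.inclusion le_sup_right ((z : Q) ^ k))) ?_
    rw [hxz]
    exact congrArg Subtype.val hz'
  have hcoset : ∀ z ∈ W, ∀ a : A, act (QuotientGroup.mk a : A ⧸ B).out z = act a z := by
    intro z hz a
    obtain ⟨b, hb⟩ := QuotientGroup.mk_out_eq_mul B a
    rw [hb]
    show _ = act a z
    refine Eq.trans ?_ (congrArg (act a) (hBfix b b.2 z hz))
    rfl
  have hτfix : ∀ z ∈ W, ∀ a : A, act a (τ z) = τ z := by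
    intro z hz a
    rw [hτ, map_prod]
    refine Fintype.prod_equiv (MulAction.toPerm a) _ _ fun q => ?_
    have hq : (QuotientGroup.mk (a * q.out) : A ⧸ B) = a • q := by
      conv_rhs => rw [← q.out_eq]
      rfl
    show act a (act q.out z) = act (a • q).out z
    rw [← hq, hcoset z hz]
    rfl
  have hτW : ∀ z ∈ W, τ z ∈ Y := by
    intro z hz
    refine hcentral _ ?_ (hτfix z hz)
    refine ⟨hQS ((τ z : Q)).2, Subgroup.mem_centralizer_iff.2 fun s hs => ?_⟩
    have hsA : conjAut Q S ⟨s, hs, hSN hs⟩ ∈ A :=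
      autInducedBy_le_autGroup hQS (range_conjAut (P := Q) S ▸ ⟨_, rfl⟩)
    have e : s * ((τ z : Q) : Ω) * s⁻¹ = ((τ z : Q) : Ω) :=
      congrArg (fun u : Subgroup.center Q => ((u : Q) : Ω)) (hτfix z hz ⟨_, hsA⟩)
    exact mul_inv_eq_iff_eq_mul.1 e
  have hτY : ∀ y ∈ Y, τ y = y ^ Fintype.card (A ⧸ B) := by
    intro y hy
    rw [hτ, Finset.prod_congr rfl (g := fun _ => y) fun q _ => ?_, Finset.prod_const, Finset.card_univ]
    -- central elements are fixed
    obtain ⟨y0, hyY⟩ : ∃ y0 : Ω, y0 = ((y : Q) : Ω) := ⟨_, rfl⟩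
    have hfixall : F.center ≤ (MonoidHom.eqLocus (Q.subtype.comp ((q.out : A) : MulAut Q).toMonoidHom) Q.subtype).map Q.subtype := by
      refine sSup_le fun R hR r hr => ?_
      have hrQ : r ∈ Q := hZ (hCZ ((le_sSup hR : R ≤ F.center) hr))
      refine ⟨⟨r, hrQ⟩, ?_, rfl⟩
      obtain ⟨ψ, -, h1, h2⟩ := hR.2 Q _ ((mem_autGroup hQS).1 (q.out : A).2)
      exact (h1 ⟨r, hrQ⟩).symm.trans (h2 ⟨r, hr⟩)
    obtain ⟨w, hw, e⟩ := hfixall hy
    obtain rfl : w = (y : Q) := Subtype.ext e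
    exact Subtype.ext (Subtype.ext hw)
  have hcop : ∀ x : Subgroup.center Q, (Fintype.card (A ⧸ B)).Coprime (orderOf x) := by
    intro x
    obtain ⟨k, hk⟩ := IsPGroup.iff_orderOf.1 ((hS.to_le hQS).to_subgroup (Subgroup.center Q)) x
    rw [hk, ← Nat.card_eq_fintype_card]
    refine Nat.Coprime.pow_right k ((Nat.Prime.coprime_iff_not_dvd Fact.out).2 ?_).symm
    have h := T.not_dvd_index
    rw [hT] at h
    exact h
  have hYW : Y ≤ W := fun y hy => hCZ hy
  obtain ⟨h1, h2⟩ := exists_complement W Y τ _ hcop hYW hτW hτY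
  let ι := Q.subtype.comp (Subgroup.center Q).subtype
  have hι : Function.Injective ι := Q.subtype_injective.comp (Subgroup.center Q).subtype_injective
  have hmap : ∀ U : Subgroup Ω, U ≤ Z → ((U.subgroupOf Q).subgroupOf (Subgroup.center Q)).map ι = U := by
    intro U hU
    refine le_antisymm (Subgroup.map_le_iff_le_comap.2 fun _ h => h) fun u hu => ?_
    exact ⟨⟨⟨u, hZ (hU hu)⟩, Subgroup.mem_center_iff.2 fun g => Subtype.ext
      (Subgroup.mem_centralizer_iff.1 (hU hu).2 g (hQS g.2))⟩, hu, rfl⟩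
  refine ⟨(W ⊓ τ.ker).map ι, (Subgroup.map_mono inf_le_left).trans (hmap Z le_rfl).le, ?_, ?_⟩
  · conv_lhs => rw [← hmap F.center hCZ]
    rw [← Subgroup.map_inf _ _ _ hι, h1, Subgroup.map_bot]
  · conv_lhs => rw [← hmap F.center hCZ]
    rw [← Subgroup.map_sup, h2, hmap Z le_rfl]

end Cfsg.Agent.S5294
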