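import Cfsg.Statements.S5295
import Cfsg.Agent.S5193
import Cfsg.Agent.S5294
import Cfsg.Agent.Fusion.AxiomaticThompson

set_option autoImplicit false
universe u
open Cfsg

namespace Cfsg.Agent.S5295

/-- Let F be a saturated fusion system over a finite p-group S with p odd. Then the centre Z(F) of F is a direct factor of Z(S): there is a subgroup K of Z(S) with Z(F) ∩ K = 1 and Z(F)K = Z(S). (At the prime 2 this can fail.) -/
theorem result {Ω : Type u} [Group Ω] {S : Subgroup Ω} [Finite S] (p : ℕ) [Fact p.Prime] (hp : p ≠ 2) (hS : IsPGroup p S)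
    (F : Cfsg.FusionSystem S) (hF : F.IsSaturated p) :
    ∃ K : Subgroup Ω, K ≤ (S ⊓ Subgroup.centralizer (S : Set Ω)) ∧ F.center ⊓ K = ⊥ ∧ F.center ⊔ K = (S ⊓ Subgroup.centralizer (S : Set Ω)) := by
  classical
  have hJ := CfsgLib.ZJ.thompsonSubgroupAOf_eq p S
  set J := Cfsg.thompsonSubgroupAOf S with hJdef
  have hJS : J ≤ S := hJ ▸ CfsgLib.ZJ.J_le S
  have hZJ : S ⊓ Subgroup.centralizer (S : Set Ω) ≤ J := by
    intro z hz
    rw [hJ, CfsgLib.ZJ.J_eq_map_top]
    obtain ⟨A, hA⟩ := CfsgLib.ZJ.maxGood_nonempty p false (⊤ : Subgroup S)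
    refine ⟨⟨z, hz.1⟩, CfsgLib.ZJ.maxGood_le_J hA (CfsgLib.ZJ.mem_of_maxGood hA (Subgroup.mem_top _)
      (fun a _ => Subtype.ext (Subgroup.mem_centralizer_iff.1 hz.2 a a.2)) (by simp)), rfl⟩
  have e : Cfsg.FusionSystem.normalizerIn S J = S := by
    refine le_antisymm inf_le_left (le_inf le_rfl fun g hg => ?_)
    rw [hJ]
    exact CfsgLib.ZJ.normalizer_le_normalizer_J S (Subgroup.le_normalizer hg)
  set N := CfsgLib.Fusion.normalizerSystem F hJS with hNdef
  have hc := (Cfsg.Agent.S5193.result p hS F hF N (CfsgLib.Fusion.isNormalizerSystem_normalizerSystem F hJS)).2 (Or.inl hp)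
  set E := CfsgLib.Fusion.retarget N e with hEdef
  have hEsat : E.IsSaturated p := CfsgLib.Fusion.isSaturated_retarget _ e (CfsgLib.Fusion.isSaturated_normalizerSystem hS hF
    (CfsgLib.Fusion.isFullyNormalized_of_le_normalizer hJS (e.ge.trans inf_le_right)))
  have hJE : E.IsNormal J := by
    have h := CfsgLib.Fusion.isNormal_self_normalizerSystem (M := F) hJS
    exact ⟨hJS, h.2⟩
  obtain ⟨K, hK⟩ := Cfsg.Agent.S5294.result p hS E hEsat (hZJ.trans (le_sSup hJE))
  have hEc : E.center = F.center := by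
    rw [← hc]
    refine congrArg sSup (Set.ext fun Q => ?_)
    exact ⟨fun h => ⟨h.1.trans e.ge, h.2⟩, fun h => ⟨h.1.trans e.le, h.2⟩⟩
  rw [hEc] at hK
  exact ⟨K, hK⟩

end Cfsg.Agent.S5295
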