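import Cfsg.Statements.S5296
import Cfsg.Agent.SmallControl.Relative
import Cfsg.Agent.S5124

set_option autoImplicit false
universe u
open Cfsg

namespace Cfsg.Agent.S5296

/-- Small-exponent abelian subgroups of the hyperfocal subgroup control fusion. Let E and F be saturated fusion systems over the same finite p-group S with E contained in F. Suppose that E and F have the same maps between A and B for all subgroups A, B of the hyperfocal subgroup of F that are elementary abelian when p is odd, respectively abelian of exponent dividing 4 when p = 2. Then E = F. -/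
theorem result {Ω : Type u} [Group Ω] {S : Subgroup Ω} [Finite S] (p : ℕ) [Fact p.Prime] (hS : IsPGroup p S)
    (E F : Cfsg.FusionSystem S) (hE : E.IsSaturated p) (hF : F.IsSaturated p) (hEF : E.IsSubsystemOf F)
    (hodd : p ≠ 2 → ∀ A B : Subgroup Ω, A ≤ (F.hyperfocalSubgroup p) → B ≤ (F.hyperfocalSubgroup p) →
      Cfsg.IsElementaryAbelian p A → Cfsg.IsElementaryAbelian p B → E.homSet A B = F.homSet A B)
    (htwo : p = 2 → ∀ A B : Subgroup Ω, A ≤ (F.hyperfocalSubgroup p) → B ≤ (F.hyperfocalSubgroup p) →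
      IsMulCommutative ↥A → IsMulCommutative ↥B → (∀ a ∈ A, a ^ 4 = 1) → (∀ b ∈ B, b ^ 4 = 1) → E.homSet A B = F.homSet A B) :
    ∀ P : Subgroup Ω, E.Hom P = F.Hom P := by
  refine CfsgLib.SmallControlRel.RelData.eq (H := F.hyperfocalSubgroup p)
    ⟨hS, hE, hF, hEF, Cfsg.Agent.S5124.result p hS F hF, le_rfl, fun A hA hs φ hφ => ?_⟩
  have hH := Cfsg.Agent.S5124.result p hS F hF
  have himg : φ.range ≤ F.hyperfocalSubgroup p := by
    rintro _ ⟨x, rfl⟩
    exact hH.2 A hA φ hφ x
  have hs' := CfsgLib.SmallControl.small_of_iso hs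
    (CfsgLib.Fusion.isoOfHom (F.injective_of_mem hφ) (rfl : φ.range = φ.range))
  have hmem : φ ∈ F.homSet A φ.range := ⟨hφ, fun x => ⟨x, rfl⟩⟩
  have key : E.homSet A φ.range = F.homSet A φ.range := by
    by_cases h2 : p = 2
    · exact htwo h2 A φ.range hA himg ⟨⟨fun a b => Subtype.ext (hs.1 a a.2 b b.2)⟩⟩
        ⟨⟨fun a b => Subtype.ext (hs'.1 a a.2 b b.2)⟩⟩
        (fun a ha => by simpa [CfsgLib.PGroup.smallExp, h2] using hs.2 a ha)
        (fun a ha => by simpa [CfsgLib.PGroup.smallExp, h2] using hs'.2 a ha)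
    · exact hodd h2 A φ.range hA himg
        ⟨⟨⟨fun a b => Subtype.ext (hs.1 a a.2 b b.2)⟩⟩, fun a ha => by
          simpa [CfsgLib.PGroup.smallExp, h2] using hs.2 a ha⟩
        ⟨⟨⟨fun a b => Subtype.ext (hs'.1 a a.2 b b.2)⟩⟩, fun a ha => by
          simpa [CfsgLib.PGroup.smallExp, h2] using hs'.2 a ha⟩
  exact (key.symm ▸ hmem : φ ∈ E.homSet A φ.range).1

end Cfsg.Agent.S5296
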