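import Cfsg.Statements.S5299
import Cfsg.Agent.Fusion.Basic
-- import your own Cfsg.Agent.* helpers here

set_option autoImplicit false
universe u
open Cfsg

namespace Cfsg.Agent.S5299

theorem involves_of_surjective {H G : Type*} [Group H] [Group G] {K : Subgroup G} (h : ↥K →* H)
    (hh : Function.Surjective h) : Cfsg.Involves H G := by
  have e : (h.ker.map K.subtype).subgroupOf K = h.ker :=
    Subgroup.comap_map_eq_self_of_injective K.subtype_injective _
  haveI hn : ((h.ker.map K.subtype).subgroupOf K).Normal := e.symm ▸ h.normal_ker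
  refine ⟨K, h.ker.map K.subtype, hn, ⟨?_⟩⟩
  exact (QuotientGroup.quotientMulEquivOfEq e).trans (QuotientGroup.quotientKerEquivOfSurjective h hh)

theorem involves_of_hom {H G A : Type*} [Group H] [Group G] [Group A] (j : A →* G)
    (hj : Function.Injective j) (f : A →* H) (hf : Function.Surjective f) : Cfsg.Involves H G :=
  involves_of_surjective (f.comp (MonoidHom.ofInjective hj).symm.toMonoidHom)
    (hf.comp (MonoidHom.ofInjective hj).symm.surjective)


/-- Let F be a saturated fusion system over a finite p-group S, H a finite group and Q a p-subgroup of H. If Q is not involved in S (no section of S is isomorphic to Q), then F is H-free: H is involved in no model of the normalizer system of a fully normalized centric subgroup. -/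
theorem result {Ω : Type u} [Group Ω] {S : Subgroup Ω} [Finite S] (p : ℕ) [Fact p.Prime] (hS : IsPGroup p S)
    (F : Cfsg.FusionSystem S) (hF : F.IsSaturated p) (H : Type*) [Group H] [Finite H] (Q : Subgroup H) (hQ : IsPGroup p Q)
    (hfree : ¬ Cfsg.Involves (↥Q) (↥S)) : F.IsSectionFree p H := by
  intro R hR _ N _ L _ ι hmod hinv
  obtain ⟨K, R', hn, ⟨e⟩⟩ := hinv
  obtain ⟨hLfin, hreal, ⟨T, hT⟩, -⟩ := hmod
  apply hfree
  let f : ↥K →* H := e.toMonoidHom.comp (QuotientGroup.mk' _)
  have hf : Function.Surjective f := e.surjective.comp (QuotientGroup.mk'_surjective _)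
  let g : ↥(Q.comap f) →* Q := (f.comp (Q.comap f).subtype).codRestrict Q fun x => x.2
  have hg : Function.Surjective g := fun q => by
    obtain ⟨k, hk⟩ := hf q
    exact ⟨⟨k, show f k ∈ Q from hk.symm ▸ q.2⟩, Subtype.ext hk⟩
  obtain ⟨T0⟩ : Nonempty (Sylow p ↥(Q.comap f)) := inferInstance
  have htop : ((T0.mapSurjective hg : Sylow p Q) : Subgroup Q) = ⊤ :=
    ((T0.mapSurjective hg).3 (hQ.of_equiv Subgroup.topEquiv.symm) le_top).symm
  rw [Sylow.coe_mapSurjective] at htop
  let j0 : ↥(T0 : Subgroup ↥(Q.comap f)) →* L :=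
    (K.subtype.comp (Q.comap f).subtype).comp (T0 : Subgroup ↥(Q.comap f)).subtype
  have hj0 : Function.Injective j0 :=
    (K.subtype_injective.comp (Q.comap f).subtype_injective).comp (Subgroup.subtype_injective _)
  obtain ⟨T1, hT1⟩ := ((T0.isPGroup').of_surjective j0.rangeRestrict
    j0.rangeRestrict_surjective).exists_le_sylow
  obtain ⟨c, hc⟩ := MulAction.exists_smul_eq L T1 T
  have hmem : ∀ x, c * j0 x * c⁻¹ ∈ ι.range := fun x => by
    rw [← hT, ← hc, Sylow.coe_subgroup_smul]
    exact ⟨j0 x, hT1 ⟨x, rfl⟩, rfl⟩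
  let j1 : ↥(T0 : Subgroup ↥(Q.comap f)) →* ι.range :=
    ((MulAut.conj c).toMonoidHom.comp j0).codRestrict _ hmem
  have hj1 : Function.Injective j1 := fun a b h =>
    hj0 ((MulAut.conj c).injective (congrArg Subtype.val h))
  refine involves_of_hom
    (((Subgroup.inclusion (inf_le_left : Cfsg.FusionSystem.normalizerIn S R ≤ S)).comp
      (MonoidHom.ofInjective hreal.1).symm.toMonoidHom).comp j1)
    (((Subgroup.inclusion_injective (inf_le_left : Cfsg.FusionSystem.normalizerIn S R ≤ S)).comp (MonoidHom.ofInjective hreal.1).symm.injective).comp hj1)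
    (g.comp (T0 : Subgroup ↥(Q.comap f)).subtype) fun q => ?_
  obtain ⟨x, hx, hxq⟩ := (htop.ge (Subgroup.mem_top q))
  exact ⟨⟨x, hx⟩, hxq⟩

end Cfsg.Agent.S5299
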