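import Cfsg.Statements.S5300
import Cfsg.Agent.Fusion.SeriesNormal
import Cfsg.Agent.S1949
-- import your own Cfsg.Agent.* helpers here

set_option autoImplicit false
universe u
open Cfsg

namespace Cfsg.Agent.S5300

open CfsgLib.Fusion Cfsg.FusionSystem
open scoped commutatorElement

theorem pow_fixes_chain {Ω : Type*} [Group Ω] {P : Subgroup Ω} [Finite P] {p : ℕ} [Fact p.Prime]
    (hP : IsPGroup p P) {L : ℕ → Subgroup Ω} {m : ℕ} (hL : Monotone L) (h0 : L 0 = ⊥) {α : MulAut P}
    (hα : StabilizesChain L m α) :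
    ∃ e, ∀ x : P, (x : Ω) ∈ L m → (α ^ p ^ e) x = x := by
  obtain ⟨k, hk⟩ := IsPGroup.iff_card.1 hP
  refine ⟨m * k, ?_⟩
  have key : ∀ i, i ≤ m → ∀ x : P, (x : Ω) ∈ L i → (α ^ p ^ (i * k)) x = x := by
    intro i
    induction i with
    | zero =>
      intro _ x hx
      rw [h0, Subgroup.mem_bot] at hx
      rw [show x = 1 from Subtype.ext hx, map_one]
    | succ i ih =>
      intro hi x hx
      set β := α ^ p ^ (i * k)
      have hfix : β (x⁻¹ * β x) = x⁻¹ * β x :=
        ih (by omega) _ (hα.pow hL (p ^ (i * k)) i (Nat.lt_of_succ_le hi) x hx)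
      set d := x⁻¹ * β x with hddef
      have hx' : β x = x * d := by rw [hddef, mul_inv_cancel_left]
      have hpow : ∀ n : ℕ, (β ^ n) x = x * d ^ n := by
        intro n
        induction n with
        | zero => simp
        | succ n ihn => rw [pow_succ', MulAut.mul_apply, ihn, map_mul, map_pow, hfix, hx', mul_assoc, ← pow_succ']
      have hpk : d ^ p ^ k = 1 := by rw [← hk]; exact pow_card_eq_one'
      rw [show (i + 1) * k = i * k + k by ring, pow_add, pow_mul, hpow, hpk, mul_one]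
  exact key m le_rfl


/-- Let F be a saturated fusion system over a finite p-group S. If every cyclic subgroup of the focal subgroup of F of order p (of order 2 or 4 when p = 2) is normal in S, then S is normal in F. -/
theorem result {Ω : Type u} [Group Ω] {S : Subgroup Ω} [Finite S] (p : ℕ) [Fact p.Prime] (hS : IsPGroup p S)
    (F : Cfsg.FusionSystem S) (hF : F.IsSaturated p)
    (hnorm : ∀ x ∈ F.focalSubgroup, (x ^ p = 1 ∨ (p = 2 ∧ x ^ 4 = 1)) → ∀ s ∈ S, s * x * s⁻¹ ∈ Subgroup.zpowers x) :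
    F.IsNormal S := by
  refine isNormal_of_centricRadical hS hF le_rfl Subgroup.le_normalizer fun P hn hc hr => ?_
  suffices hPS : S ≤ P from ⟨hPS, fun α _ q _ => hn.1 (α q).2⟩
  haveI := finite_of_le hn.1
  haveI := finite_mulAut (S := S) hn.1
  set A := F.autGroup P
  obtain ⟨D, hDinv, hDK, hDexp, -, hDfix, -⟩ :=
    Cfsg.Agent.S1949.result (hS.to_le hn.1) A (inn_le_autGroup hn.1)
  have hDF : ∀ y ∈ D, ((y : P) : Ω) ∈ F.focalSubgroup := by
    intro y hy
    have : D ≤ F.focalSubgroup.subgroupOf P := hDK.trans ((Subgroup.closure_le _).2 (by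
      rintro z ⟨α, -, x, rfl⟩
      exact Subgroup.subset_closure ⟨P, P.subtype.comp (α : MulAut P).toMonoidHom, x,
        (mem_autGroup hn.1).1 α.2, rfl⟩))
    exact this hy
  have hDA : ∀ α ∈ A, ∀ y ∈ D, α y ∈ D := fun α hα y hy => (hDinv α hα).le ⟨y, hy, rfl⟩
  let L1 : Subgroup P := Subgroup.closure {y : P | y ∈ D ∧ y ^ p = 1}
  have hL1D : L1 ≤ D := (Subgroup.closure_le _).2 fun y hy => hy.1
  let L : ℕ → Subgroup Ω := fun i => if i = 0 then ⊥ else if i = 1 then L1.map P.subtype else D.map P.subtype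
  have hL : Monotone L := monotone_nat_of_le_succ fun i => by
    rcases i with _ | _ | i
    · simp [L]
    · simpa [L] using Subgroup.map_mono (f := P.subtype) hL1D
    · simp [L]
  have hmem : ∀ {K : Subgroup P} {x : P}, (x : Ω) ∈ K.map P.subtype → x ∈ K := fun {K x} hx =>
    (Subgroup.mem_map_iff_mem P.subtype_injective).1 hx
  have hpres : ∀ γ ∈ A, PreservesChain L γ := by
    intro γ hγ i x hx
    rcases i with _ | _ | i
    · simp only [L, if_true, Subgroup.mem_bot] at hx ⊢
      rw [show x = 1 from Subtype.ext hx, map_one, Subgroup.coe_one]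
    · simp only [L, Nat.succ_ne_zero, if_false, if_true, zero_add] at hx ⊢
      refine Subgroup.mem_map_of_mem _ ((?_ : L1 ≤ L1.comap γ.toMonoidHom) (hmem hx))
      refine (Subgroup.closure_le _).2 fun y hy => Subgroup.subset_closure ?_
      exact ⟨hDA γ hγ y hy.1, by rw [← map_pow]; show γ (y ^ p) = 1; rw [hy.2, map_one]⟩
    · simp only [L, Nat.succ_ne_zero, if_false, add_eq_right] at hx ⊢
      exact Subgroup.mem_map_of_mem _ (hDA γ hγ x (hmem hx))
  let W : Subgroup A := (chainStab L 2 hL).subgroupOf A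
  have hWn : W.Normal := ⟨fun β hβ γ i hi x hx => by
    have hy := hpres _ (inv_mem γ.2) (i + 1) x hx
    have h1 := hpres _ γ.2 i _ ((mem_chainStab (hL := hL).1 hβ) i hi _ hy)
    simp only [map_mul, map_inv, MulAut.apply_inv_self] at h1
    exact h1⟩
  have hWp : IsPGroup p W := by
    rintro ⟨β, hβ⟩
    obtain ⟨e, he⟩ := pow_fixes_chain (hS.to_le hn.1) hL (by simp [L]) (mem_chainStab (hL := hL).1 hβ)
    set δ := β ^ p ^ e
    have hfixD : ∀ d ∈ D, (δ : MulAut P) d = d := fun d hd =>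
      he d (by simpa [L] using hd)
    obtain ⟨m, hm, hcop⟩ : ∃ m, orderOf δ = p ^ (orderOf δ).factorization p * m ∧ m.Coprime p :=
      ⟨_, (Nat.ordProj_mul_ordCompl_eq_self _ p).symm,
        (Nat.coprime_ordCompl Fact.out (orderOf_pos δ).ne').symm⟩
    set f := (orderOf δ).factorization p
    refine ⟨e + f, Subtype.ext ?_⟩
    show β ^ p ^ (e + f) = 1
    rw [pow_add, pow_mul]
    apply Subtype.ext
    refine hDfix _ (δ ^ p ^ f).2 ?_ fun d hd => ?_
    · rw [Subgroup.orderOf_coe]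
      refine Nat.Coprime.coprime_dvd_left (orderOf_dvd_of_pow_eq_one ?_) hcop
      rw [← pow_mul, ← hm, pow_orderOf_eq_one]
    · rw [SubgroupClass.coe_pow]
      exact MulAction.mem_stabilizer_iff.1
        (pow_mem (MulAction.mem_stabilizer_iff.2 (hfixD d hd) : (δ : MulAut P) ∈ MulAction.stabilizer (MulAut P) d) _)
  by_contra hnot
  obtain ⟨g, hgS, hgN, hgP⟩ := exists_normalizer_not_mem hS (lt_of_le_not_ge hn.1 hnot)
  refine hgP (mem_self_of_inn hc hgS (α := conjAut P S ⟨g, hgS, hgN⟩) (fun x => rfl) (hr.2.le ?_))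
  have hgA : conjAut P S ⟨g, hgS, hgN⟩ ∈ A :=
    autInducedBy_le_autGroup hn.1 (range_conjAut (P := P) S ▸ ⟨_, rfl⟩)
  refine ⟨⟨_, hgA⟩, (le_sSup ⟨hWn, hWp⟩ : W ≤ Cfsg.pCore p A) ?_, rfl⟩
  set α := conjAut P S ⟨g, hgS, hgN⟩ with hα
  -- elements of order `p` are centralized
  have hsmall : ∀ y ∈ D, y ^ p = 1 → α y = y := by
    intro y hy hy1
    by_cases h1 : y = 1
    · rw [h1, map_one]
    obtain ⟨k, hk⟩ := Subgroup.mem_zpowers_iff.1 (hnorm y (hDF y hy)
      (Or.inl (by rw [← SubgroupClass.coe_pow, hy1, Subgroup.coe_one])) g hgS)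
    have hαy : α y = y ^ k := Subtype.ext (by rw [SubgroupClass.coe_zpow, hk]; rfl)
    -- `α` has `p`-power order
    obtain ⟨a, ha⟩ := (isPGroup_autInducedBy p hS P) ⟨α, range_conjAut (P := P) S ▸ ⟨_, rfl⟩⟩
    have ha' : α ^ p ^ a = 1 := congrArg Subtype.val ha
    have hpow : ∀ n : ℕ, (α ^ n) y = y ^ (k ^ n) := by
      intro n
      induction n with
      | zero => simp
      | succ n ih => rw [pow_succ', MulAut.mul_apply, ih, map_zpow, hαy, ← zpow_mul, pow_succ']
    have h2 := hpow (p ^ a)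
    rw [ha', MulAut.one_apply] at h2
    have hord : orderOf y = p := orderOf_eq_prime hy1 h1
    have h3 : (p : ℤ) ∣ k ^ (p ^ a) - 1 := by
      have h := orderOf_dvd_iff_zpow_eq_one.2
        (show y ^ (k ^ (p ^ a) - 1) = 1 by rw [zpow_sub, zpow_one, ← h2, mul_inv_cancel])
      rwa [hord] at h
    have h4 : ((k : ℤ) : ZMod p) = 1 := by
      have := (ZMod.intCast_zmod_eq_zero_iff_dvd _ p).2 h3
      rw [Int.cast_sub, Int.cast_pow, ZMod.pow_card_pow, Int.cast_one, sub_eq_zero] at this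
      exact this
    have h5 : (orderOf y : ℤ) ∣ k - 1 := by
      rw [hord, ← ZMod.intCast_zmod_eq_zero_iff_dvd, Int.cast_sub, h4, Int.cast_one, sub_self]
    have h6 := orderOf_dvd_iff_zpow_eq_one.1 h5
    rw [zpow_sub, zpow_one, mul_inv_eq_one] at h6
    rw [hαy, h6]
  intro i hi x hx
  rcases i with _ | _ | i
  · simp only [L, Nat.succ_ne_zero, if_false, if_true, zero_add] at hx ⊢
    rw [Subgroup.mem_bot]
    have hfix : L1 ≤ MonoidHom.eqLocus α.toMonoidHom (MonoidHom.id P) :=
      (Subgroup.closure_le _).2 fun y hy => hsmall y hy.1 hy.2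
    show ((x⁻¹ * α x : P) : Ω) = 1
    rw [show α x = x from hfix (hmem hx), inv_mul_cancel, Subgroup.coe_one]
  · simp only [L, Nat.succ_ne_zero, if_false, add_eq_right, zero_add, if_true] at hx ⊢
    have hxD := hmem hx
    have hd : x⁻¹ * α x ∈ D := D.mul_mem (D.inv_mem hxD) (hDA _ hgA x hxD)
    refine Subgroup.mem_map_of_mem P.subtype (Subgroup.subset_closure (show x⁻¹ * α x ∈ {y : P | y ∈ D ∧ y ^ p = 1} from ⟨hd, ?_⟩))
    rcases hDexp x hxD with hxp | ⟨h2, h4⟩
    · rw [hsmall x hxD hxp, inv_mul_cancel, one_pow]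
    · subst h2
      obtain ⟨k, hk⟩ := Subgroup.mem_zpowers_iff.1 (hnorm x (hDF x hxD)
        (Or.inr ⟨rfl, by rw [← SubgroupClass.coe_pow, h4, Subgroup.coe_one]⟩) g hgS)
      have hαy : α x = x ^ k := Subtype.ext (by rw [SubgroupClass.coe_zpow, hk]; rfl)
      by_cases hx2 : x ^ 2 = 1
      · rw [hsmall x hxD hx2, inv_mul_cancel, one_pow]
      have hodd : Odd k := by
        rcases Int.even_or_odd k with ⟨j, rfl⟩ | h
        · exfalso
          apply hx2
          have : α (x ^ 2) = 1 := by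
            rw [map_pow, hαy, ← zpow_natCast, ← zpow_mul, show (j + j) * ((2 : ℕ) : ℤ) = ((4 : ℕ) : ℤ) * j by
              push_cast; ring, zpow_mul, zpow_natCast, h4, one_zpow]
          exact α.injective (this.trans (map_one α).symm)
        · exact h
      obtain ⟨j, rfl⟩ := hodd
      rw [hαy, zpow_add, zpow_one, ((Commute.self_zpow x (2 * j)).eq).symm, inv_mul_cancel_left,
        ← zpow_natCast, ← zpow_mul, show 2 * j * ((2 : ℕ) : ℤ) = ((4 : ℕ) : ℤ) * j by push_cast; ring,
        zpow_mul, zpow_natCast, h4, one_zpow]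
  · omega

end Cfsg.Agent.S5300
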