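import Cfsg.Statements.S5522
import Cfsg.Agent.MathieuOut.Cards
import Cfsg.Agent.MathieuMisc.Sylow11

set_option autoImplicit false
open Cfsg

namespace Cfsg.Agent.S5522

open CfsgLib.Golay CfsgLib.MathieuTwo
open scoped Pointwise

/-- Elements of order `r` in the listed group fix a point outside the dodecad. -/
def fixOk (T : STree) (r : ℕ) : Bool :=
  (tabs T).all fun l => eqTab l idT || !(eqTab ((List.range r).foldl (fun t _ => mulTab l t) (List.range 24)) idT) ||
    (List.range 24).any fun q => !(DodStab.sqD.testBit q) && Nat.beq (l.getD q 0) q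

theorem of_sylow {gens : List (List ℕ)} {T : STree} {r n : ℕ} (hr : r.Prime)
    (h : groupOk [1, 340831] gens T n = true) (hfix : fixOk T r = true)
    (hn : n = r ^ (7920 : ℕ).factorization r)
    {g : Equiv.Perm Cfsg.GolayPt} (hg : g ∈ Cfsg.Spor.M11) (ho : orderOf g = r) :
    ∃ x : Cfsg.GolayPt, x ∉ Cfsg.Spor.squareDodecad ∧ g x = x := by
  haveI := Fact.mk hr
  have hK : fixGroup [1, 340831] = Cfsg.Spor.M11 := K11_eq
  have hle : grp gens ≤ Cfsg.Spor.M11 := hK ▸ grp_le h
  let S0 : Sylow r Cfsg.Spor.M11 := Sylow.ofCard ((grp gens).subgroupOf Cfsg.Spor.M11) (by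
    rw [Nat.card_congr (Subgroup.subgroupOfEquivOfLe hle).toEquiv, card_grp h,
      CfsgLib.MathieuOut.card_M11, hn])
  have hp : IsPGroup r (Subgroup.zpowers (⟨g, hg⟩ : Cfsg.Spor.M11)) := by
    refine IsPGroup.of_card (n := 1) ?_
    rw [Nat.card_zpowers, Subgroup.orderOf_mk, ho, pow_one]
  obtain ⟨P, hP⟩ := hp.exists_le_sylow
  obtain ⟨c, hc⟩ := MulAction.exists_smul_eq Cfsg.Spor.M11 S0 P
  have hgP : (⟨g, hg⟩ : Cfsg.Spor.M11) ∈ MulAut.conj c • (S0 : Subgroup Cfsg.Spor.M11) := by
    rw [← hc] at hP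
    exact hP (Subgroup.mem_zpowers _)
  rw [Subgroup.mem_pointwise_smul_iff_inv_smul_mem, MulAut.smul_def, MulAut.conj_inv_apply] at hgP
  have hs : (c : Equiv.Perm Cfsg.GolayPt)⁻¹ * g * c ∈ grp gens := hgP
  obtain ⟨l, hl, hle'⟩ := (mem_grp h).1 hs
  have hlv := tab_valid h hl
  simp only [fixOk, List.all_eq_true, Bool.or_eq_true, eqTab_iff, Bool.not_eq_true',
    List.any_eq_true, Bool.and_eq_true, List.mem_range, Nat.beq_eq] at hfix
  have hol : orderOf (permOf l) = r := by
    rw [hle', ← ho]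
    simpa [mul_assoc] using (orderOf_injective (MulAut.conj (c : Equiv.Perm Cfsg.GolayPt)⁻¹).toMonoidHom
      (MulAut.conj _).injective g)
  rcases hfix l hl with (h1 | h1) | ⟨q, hq, hD, hfx⟩
  · rw [h1, permOf_idT, orderOf_one] at hol
    exact absurd hol hr.one_lt.ne
  · exfalso
    obtain ⟨v, e⟩ := Norm.foldl_mulTab hlv r
    have h2 : (List.range r).foldl (fun t _ => mulTab l t) (List.range 24) = idT :=
      permOf_inj v validTab_idT (by rw [e, permOf_idT, ← hol, pow_orderOf_eq_one])
    rw [← eqTab_iff, h1] at h2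
    simp at h2
  · have hcD : (c : Equiv.Perm Cfsg.GolayPt) • DodStab.D = DodStab.D := by
      have h3 : (c : Equiv.Perm Cfsg.GolayPt) ∈ fixGroup [1, 340831] := by rw [hK]; exact c.2
      exact (mem_fixGroup.1 h3).2 340831 (by simp)
    refine ⟨(c : Equiv.Perm Cfsg.GolayPt) (ptN q), ?_, ?_⟩
    · rw [Cfsg.Spor.squareDodecad, DodStab.squareDodecad_eq]
      intro hm
      rw [← hcD] at hm
      have hm' : ptN q ∈ DodStab.D := (Finset.smul_mem_smul_finset_iff (a := (c : Equiv.Perm Cfsg.GolayPt))).1 hm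
      rw [DodStab.D, mem_toSet, idx_ptN hq] at hm'
      rw [hm'] at hD
      simp at hD
    · have h4 : ((c : Equiv.Perm Cfsg.GolayPt)⁻¹ * g * c) (ptN q) = ptN q := by
        rw [← hle']
        exact im_fix hq (by rw [im_permOf hlv hq]; exact hfx)
      simp only [Equiv.Perm.mul_apply] at h4
      rw [Equiv.Perm.inv_eq_iff_eq] at h4
      exact h4


/-- The Mathieu group M₁₁, realised as the stabiliser of one point of the dodecad of squares inside the stabiliser M₁₂ of that dodecad in M₂₄, acts on the twelve coordinate positions outside the dodecad of squares (its 3-transitive action of degree 12); in this action every element of prime order fixes a point, i.e. the action is elusive. -/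
theorem result (g : Equiv.Perm Cfsg.GolayPt) (hg : g ∈ Cfsg.Spor.M11) (hord : (orderOf g).Prime) :
    ∃ x : Cfsg.GolayPt, x ∉ Cfsg.Spor.squareDodecad ∧ g x = x := by
  have hdvd : orderOf g ∣ 7920 := by
    rw [← CfsgLib.MathieuOut.card_M11, ← Subgroup.orderOf_mk g hg]
    exact orderOf_dvd_natCard _
  have h4 : orderOf g = 2 ∨ orderOf g = 3 ∨ orderOf g = 5 ∨ orderOf g = 11 := by
    have h1 : orderOf g ∣ 2 ^ 4 * 3 ^ 2 * 5 * 11 := hdvd
    have hp2 := (Nat.prime_dvd_prime_iff_eq hord Nat.prime_two)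
    have hp3 := (Nat.prime_dvd_prime_iff_eq hord Nat.prime_three)
    rcases (Nat.Prime.dvd_mul hord).1 h1 with h1 | h1
    · rcases (Nat.Prime.dvd_mul hord).1 h1 with h1 | h1
      · rcases (Nat.Prime.dvd_mul hord).1 h1 with h1 | h1
        · exact Or.inl (hp2.1 (hord.dvd_of_dvd_pow h1))
        · exact Or.inr (Or.inl (hp3.1 (hord.dvd_of_dvd_pow h1)))
      · exact Or.inr (Or.inr (Or.inl ((Nat.prime_dvd_prime_iff_eq hord (by norm_num)).1 h1)))
    · exact Or.inr (Or.inr (Or.inr ((Nat.prime_dvd_prime_iff_eq hord (by norm_num)).1 h1)))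
  have f : ∀ {p e : ℕ}, p.Prime → p ^ e ∣ 7920 → ¬ p ^ (e + 1) ∣ 7920 →
      (7920 : ℕ).factorization p = e := by
    intro p e hp h1 h2
    refine le_antisymm ?_ ((hp.pow_dvd_iff_le_factorization (by norm_num)).1 h1)
    by_contra h
    exact h2 ((hp.pow_dvd_iff_le_factorization (by norm_num)).2 (by omega))
  rcases h4 with h | h | h | h
  · exact of_sylow Nat.prime_two CfsgLib.MathieuTwo.D11.group_ok (by decide +kernel)
      (by rw [f (e := 4) Nat.prime_two (by norm_num) (by norm_num)]) hg h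
  · exact of_sylow Nat.prime_three CfsgLib.MathieuMisc.ok3 (by decide +kernel)
      (by rw [f (e := 2) Nat.prime_three (by norm_num) (by norm_num)]; norm_num) hg h
  · exact of_sylow (by norm_num) CfsgLib.MathieuMisc.ok5 (by decide +kernel)
      (by rw [f (e := 1) (by norm_num) (by norm_num) (by norm_num)]; norm_num) hg h
  · exact of_sylow (by norm_num) CfsgLib.MathieuMisc.ok11 (by decide +kernel)
      (by rw [f (e := 1) (by norm_num) (by norm_num) (by norm_num)]; norm_num) hg h

end Cfsg.Agent.S5522
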