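import Cfsg.Statements.S5728
-- import your own Cfsg.Agent.* helpers here

set_option autoImplicit false
open Cfsg

namespace Cfsg.Agent.S5728

/-- An elusive transitive action. Let p = 2^s − 1 be a prime and let F be the field with p² elements. Inside the group of affine maps x ↦ a·x + b of F (a ≠ 0), consider the subgroup of maps with both coefficients in the prime field. Then every element of prime order of the affine group is conjugate, within the affine group, to an element of that subgroup; equivalently, in the transitive action of the affine group on the cosets of that subgroup (of degree p(p + 1)) every element of prime order fixes a point. -/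
theorem result (p s : ℕ) [Fact p.Prime] (hs : p = 2 ^ s - 1)
    (g : Equiv.Perm (GaloisField p 2)) (hg : g ∈ Cfsg.affineGroup (GaloisField p 2)) (hord : (orderOf g).Prime) :
    ∃ x ∈ Cfsg.affineGroup (GaloisField p 2), ∃ a b : ZMod p, a ≠ 0 ∧
      ∀ y : GaloisField p 2, (x * g * x⁻¹) y = algebraMap (ZMod p) (GaloisField p 2) a * y + algebraMap (ZMod p) (GaloisField p 2) b := by
  obtain ⟨A, b, hgy⟩ := hg
  have hp := (Fact.out : p.Prime)
  have hmul : ∀ u : (GaloisField p 2)ˣ, ∀ v : GaloisField p 2, ∃ x ∈ Cfsg.affineGroup (GaloisField p 2),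
      (∀ y, x y = (u : GaloisField p 2) * y + v) ∧ ∀ y, x⁻¹ y = ((u⁻¹ : (GaloisField p 2)ˣ) : GaloisField p 2) * (y - v) := by
    intro u v
    let x : Equiv.Perm (GaloisField p 2) :=
      { toFun := fun y => (u : GaloisField p 2) * y + v
        invFun := fun y => ((u⁻¹ : (GaloisField p 2)ˣ) : GaloisField p 2) * (y - v)
        left_inv := fun y => by simp
        right_inv := fun y => by simp }
    exact ⟨x, ⟨u, v, fun y => rfl⟩, fun y => rfl, fun y => rfl⟩
  by_cases ha : (A : GaloisField p 2) = 1
  · have hb : b ≠ 0 := by
      intro hb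
      have : g = 1 := Equiv.ext fun y => by rw [hgy, ha, hb, one_mul, add_zero, Equiv.Perm.one_apply]
      rw [this, orderOf_one] at hord
      exact Nat.not_prime_one hord
    obtain ⟨x, hx, hxy, hxi⟩ := hmul (Units.mk0 b hb)⁻¹ 0
    refine ⟨x, hx, 1, 1, one_ne_zero, fun y => ?_⟩
    simp only [Equiv.Perm.mul_apply, hxy, hxi, hgy, ha, map_one, one_mul, inv_inv, Units.val_mk0, sub_zero, add_zero,
      Units.val_inv_eq_inv_val, mul_add, ← mul_assoc, inv_mul_cancel₀ hb]
  · set r := orderOf g with hr
    set a : GaloisField p 2 := (A : GaloisField p 2) with haA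
    set c : GaloisField p 2 := b / (1 - a) with hc
    have h1a : (1 : GaloisField p 2) - a ≠ 0 := sub_ne_zero.mpr (Ne.symm ha)
    have hcfix : a * c + b = c := by
      rw [hc]; field_simp; ring
    have hpow : ∀ (k : ℕ) (y : GaloisField p 2), (g ^ k) y = a ^ k * (y - c) + c := by
      intro k
      induction k with
      | zero => intro y; simp
      | succ k ih =>
        intro y
        rw [pow_succ', Equiv.Perm.mul_apply, ih, hgy, pow_succ']
        linear_combination hcfix
    have har : a ^ r = 1 := by
      have h := hpow r (c + 1)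
      rw [hr, pow_orderOf_eq_one, Equiv.Perm.one_apply, add_sub_cancel_left, mul_one] at h
      linear_combination -h
    have hA0 : a ≠ 0 := A.ne_zero
    have : Fintype (GaloisField p 2) := Fintype.ofFinite _
    have hcard : Fintype.card (GaloisField p 2) = p ^ 2 := by
      rw [← Nat.card_eq_fintype_card, GaloisField.card p 2 (by norm_num)]
    have haQ : a ^ (p ^ 2 - 1) = 1 := by rw [← hcard]; exact FiniteField.pow_card_sub_one_eq_one a hA0
    have hra : orderOf a = r := orderOf_eq_prime_iff (hp := ⟨hord⟩) |>.mpr ⟨har, ha⟩
    have hdvd : r ∣ p ^ 2 - 1 := hra ▸ orderOf_dvd_of_pow_eq_one haQ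
    have hp1 : r ∣ p - 1 := by
      have e : p ^ 2 - 1 = (p + 1) * (p - 1) := by
        have := Nat.sq_sub_sq p 1
        simpa using this
      rw [e] at hdvd
      rcases hord.dvd_mul.mp hdvd with h | h
      · have e2 : p + 1 = 2 ^ s := by
          have := Nat.one_le_two_pow (n := s)
          omega
        rw [e2] at h
        have hr2 : r = 2 := (Nat.prime_dvd_prime_iff_eq hord Nat.prime_two).mp (hord.dvd_of_dvd_pow h)
        rw [hr2]
        have hpo : p % 2 = 1 := by
          rcases Nat.eq_zero_or_pos s with h0 | h0
          · rw [h0] at hs; simp at hs; exact absurd hs hp.ne_zero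
          · obtain ⟨t, rfl⟩ := Nat.exists_eq_succ_of_ne_zero (Nat.pos_iff_ne_zero.mp h0)
            rw [Nat.succ_eq_add_one, pow_succ] at e2
            omega
        omega
      · exact h
    have hap : a ^ p = a := by
      obtain ⟨k, hk⟩ := hp1
      have hp2 := hp.two_le
      calc a ^ p = a ^ (r * k + 1) := by rw [← hk, Nat.sub_add_cancel (by omega)]
        _ = a := by rw [pow_succ, pow_mul, har, one_pow, one_mul]
    have hbot : a ∈ (⊥ : Subfield (GaloisField p 2)) := (Subfield.mem_bot_iff_pow_eq_self _ p).mpr hap
    obtain ⟨k, hk⟩ := (mem_bot_iff_intCast p (GaloisField p 2)).mp hbot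
    obtain ⟨x, hx, hxy, hxi⟩ := hmul 1 (-c)
    have hk' : algebraMap (ZMod p) (GaloisField p 2) (k : ZMod p) = a := by rw [map_intCast]; exact hk
    refine ⟨x, hx, (k : ZMod p), 0, ?_, fun y => ?_⟩
    · intro h0
      rw [h0, map_zero] at hk'
      exact hA0 hk'.symm
    · rw [hk', map_zero, add_zero]
      simp only [Equiv.Perm.mul_apply, hxy, hxi, hgy, inv_one, Units.val_one, one_mul]
      linear_combination hcfix

end Cfsg.Agent.S5728
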