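import Cfsg.Statements.S5904
-- no helpers

set_option autoImplicit false
open scoped Pointwise
open Cfsg

namespace Cfsg.Agent.S5904

/-- Let Ω be a finite set with more than two elements and O ⊆ Ω a subset with exactly as many elements as its complement. Then the setwise stabilizer of O in the symmetric group on Ω is not a maximal subgroup (it is properly contained in the stabilizer of the partition {O, Ω ∖ O}, which is proper). -/
theorem result {Ω : Type*} [Fintype Ω] [DecidableEq Ω] (hΩ : 2 < Fintype.card Ω)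
    (O : Set Ω) (hO : Nat.card O = Nat.card ↥Oᶜ) :
    ¬ IsCoatom (MulAction.stabilizer (Equiv.Perm Ω) O) := by
  classical
  intro hco
  have hOc : Nat.card O + Nat.card ↥Oᶜ = Fintype.card Ω := by
    rw [← Nat.card_eq_fintype_card, ← Nat.card_sum]
    exact Nat.card_congr (Equiv.Set.sumCompl O)
  have e : ↥O ≃ ↥Oᶜ := (Finite.card_eq.mp hO).some
  let W : Subgroup (Equiv.Perm Ω) := MulAction.stabilizer (Equiv.Perm Ω) ({O, Oᶜ} : Set (Set Ω))
  have hle : MulAction.stabilizer (Equiv.Perm Ω) O ≤ W := by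
    intro g hg
    rw [MulAction.mem_stabilizer_iff] at hg
    have hg' : g • Oᶜ = Oᶜ := by rw [Set.smul_set_compl, hg]
    simp [W, MulAction.mem_stabilizer_iff, Set.smul_set_insert, Set.smul_set_singleton, hg, hg']
  let σ : Equiv.Perm Ω :=
    (Equiv.Set.sumCompl O).symm.trans
      (((Equiv.sumComm _ _).trans (Equiv.sumCongr e.symm e)).trans (Equiv.Set.sumCompl O))
  have hσO : ∀ x, x ∈ O → σ x ∉ O := by
    intro x hx
    simp only [σ, Equiv.trans_apply, Equiv.Set.sumCompl_symm_apply_of_mem hx]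
    exact (e ⟨x, hx⟩).2
  have hσOc : ∀ x, x ∉ O → σ x ∈ O := by
    intro x hx
    simp only [σ, Equiv.trans_apply, Equiv.Set.sumCompl_symm_apply_of_notMem hx]
    exact (e.symm ⟨x, hx⟩).2
  have hsO : σ • O = Oᶜ := by
    ext y
    constructor
    · rintro ⟨x, hx, rfl⟩
      exact hσO x hx
    · intro hy
      refine ⟨σ⁻¹ y, ?_, by simp⟩
      by_contra h
      exact hy (by simpa using hσOc _ h)
  obtain ⟨⟨a, ha⟩, ⟨b, hb⟩, hab⟩ : ∃ x y : ↥O, x ≠ y := by
    have : 1 < Nat.card O := by omega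
    exact (Finite.one_lt_card_iff_nontrivial.mp this).exists_pair_ne
  obtain ⟨⟨c, hc⟩⟩ : Nonempty ↥Oᶜ := ⟨e ⟨a, ha⟩⟩
  have hσW : σ ∈ W := by
    have h2 : σ • Oᶜ = O := by rw [Set.smul_set_compl, hsO, compl_compl]
    simp [W, MulAction.mem_stabilizer_iff, Set.smul_set_insert, Set.smul_set_singleton, hsO, h2,
      Set.pair_comm]
  rcases hco.le_iff.mp hle with h | h
  · have : Equiv.swap a c ∈ W := h ▸ Subgroup.mem_top _
    simp only [W, MulAction.mem_stabilizer_iff] at this
    have hm : Equiv.swap a c • O ∈ ({O, Oᶜ} : Set (Set Ω)) := by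
      rw [← this]
      exact Set.smul_mem_smul_set (by simp)
    have h1 : c ∈ Equiv.swap a c • O := ⟨a, ha, by simp⟩
    have h2 : b ∈ Equiv.swap a c • O := by
      refine ⟨b, hb, ?_⟩
      apply Equiv.swap_apply_of_ne_of_ne
      · exact fun hh => hab (Subtype.ext hh.symm)
      · exact fun hh => hc (hh ▸ hb)
    rcases hm with hm | hm
    · exact hc (hm ▸ h1)
    · exact (hm ▸ h2 : b ∈ Oᶜ) hb
  · rw [h, MulAction.mem_stabilizer_iff, hsO] at hσW
    exact (hσW.symm ▸ ha : a ∈ Oᶜ) ha

end Cfsg.Agent.S5904
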