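import Cfsg.Statements.S5894
import Cfsg.Agent.S5904

set_option autoImplicit false
open Cfsg

namespace Cfsg.Agent.S5894

open scoped Pointwise

/-- For every m ≥ 2 the symmetric group on 2m letters has a maximal subgroup M of index 2m together with a maximal subgroup H of M that is not second maximal: some maximal subgroup K of the symmetric group contains H without H being maximal in K. (One may take M the stabiliser of a letter, H ≅ S_m × S_{m−1} inside it, and K ≅ S_m ≀ S₂ the stabiliser of a partition into two m-sets, with H < S_m × S_m < K.) So the prime-index hypothesis in the second-maximality criterion cannot be relaxed to any even index ≥ 4. -/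
theorem result (m : ℕ) (hm : 2 ≤ m) :
    ∃ M H K : Subgroup (Equiv.Perm (Fin (2 * m))), IsCoatom M ∧ M.index = 2 * m ∧ H ≤ M ∧ IsCoatom (H.subgroupOf M) ∧
      IsCoatom K ∧ H ≤ K ∧ ¬ IsCoatom (H.subgroupOf K) := by
  classical
  let a : Fin (2 * m) := ⟨0, by omega⟩
  let β := {x : Fin (2 * m) // x ≠ a}
  let M : Subgroup (Equiv.Perm (Fin (2 * m))) := MulAction.stabilizer (Equiv.Perm (Fin (2 * m))) a
  let O : Set (Fin (2 * m)) := {x | (x : ℕ) < m}
  have haO : a ∈ O := show 0 < m by omega
  have hO : O.ncard = m := by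
    have : O = Set.range (Fin.castLE (by omega : m ≤ 2 * m)) := by
      ext x; simp [O, Fin.range_castLE]
    rw [this, Set.ncard_range_of_injective (Fin.castLE_injective _)]
    simp
  have hMcoatom : IsCoatom M := by
    have := Equiv.Perm.isCoatom_stabilizer (α := Fin (2 * m)) (s := {a}) (Set.singleton_nonempty a)
      ⟨⟨1, by omega⟩, by simp [a]⟩ (by simp; omega)
    simpa [MulAction.stabilizer_singleton] using this
  have hMindex : M.index = 2 * m := by
    rw [MulAction.index_stabilizer, MulAction.orbit_eq_univ, Set.ncard_univ]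
    simp
  let S : Subgroup (Equiv.Perm (Fin (2 * m))) := MulAction.stabilizer (Equiv.Perm (Fin (2 * m))) O
  have hStop : S ≠ ⊤ :=
    Equiv.Perm.stabilizer_ne_top_of_nonempty_of_nonempty_compl ⟨a, haO⟩
      ⟨⟨m, by omega⟩, by simp [O]⟩
  have hSnot : ¬ IsCoatom S := Cfsg.Agent.S5904.result (by simp; omega) O (by
    rw [Nat.card_coe_set_eq, Nat.card_coe_set_eq]
    have := Set.ncard_add_ncard_compl O
    simp at this
    omega)
  obtain ⟨K, hK, hSK⟩ := (eq_top_or_exists_le_coatom S).resolve_left hStop
  have hSKne : S ≠ K := fun h => hSnot (h ▸ hK)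
  refine ⟨M, M ⊓ S, K, hMcoatom, hMindex, inf_le_left, ?_, hK, inf_le_right.trans hSK, ?_⟩
  · let φ : Equiv.Perm β →* Equiv.Perm (Fin (2 * m)) := Equiv.Perm.ofSubtype
    have hφ : ∀ g : Equiv.Perm β, φ g ∈ M := fun g =>
      Equiv.Perm.ofSubtype_apply_of_not_mem g (by simp)
    let φ' : Equiv.Perm β →* M := φ.codRestrict M hφ
    have hbij : Function.Bijective φ' := by
      refine ⟨fun g g' h => Equiv.Perm.ofSubtype_injective (congrArg Subtype.val h), ?_⟩
      rintro ⟨g, hg⟩
      have hga : g a = a := hg
      have hiff : ∀ x, g x ≠ a ↔ x ≠ a := fun x => by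
        rw [not_iff_not]
        exact ⟨fun h => g.injective (h.trans hga.symm), fun h => by rw [h, hga]⟩
      exact ⟨g.subtypePerm hiff, Subtype.ext (Equiv.Perm.ofSubtype_subtypePerm hiff
        (fun x hx h => hx (by rw [h, hga])))⟩
    let ψ : Equiv.Perm β ≃* M := MulEquiv.ofBijective φ' hbij
    let O' : Set β := {x | (x : Fin (2 * m)) ∈ O}
    have hO' : O'.ncard + 1 = m := by
      have h1 : O'.ncard = (O \ {a}).ncard := by
        rw [← Set.ncard_image_of_injective O' Subtype.val_injective]
        congr 1
        ext x; simp [O', β, and_comm]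
      rw [h1, Set.ncard_diff_singleton_add_one haO, hO]
    have hco : IsCoatom (MulAction.stabilizer (Equiv.Perm β) O') := by
      refine Equiv.Perm.isCoatom_stabilizer (Set.nonempty_of_ncard_ne_zero (by omega))
        ⟨⟨⟨m, by omega⟩, by simp [a, Fin.ext_iff]; omega⟩, by simp [O', O]⟩ ?_
      simp [β]
      omega
    have heq : (M ⊓ S).subgroupOf M = ψ.mapSubgroup (MulAction.stabilizer (Equiv.Perm β) O') := by
      ext x
      obtain ⟨g, rfl⟩ := ψ.surjective x
      simp only [MulEquiv.mapSubgroup_apply, Subgroup.mem_subgroupOf, Subgroup.mem_inf]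
      rw [show ψ g ∈ Subgroup.map (ψ : Equiv.Perm β →* M) (MulAction.stabilizer (Equiv.Perm β) O') ↔
          g ∈ MulAction.stabilizer (Equiv.Perm β) O' from
          Subgroup.mem_map_iff_mem ψ.injective]
      simp only [S, MulAction.mem_stabilizer_set, Equiv.Perm.smul_def, O', Set.mem_setOf_eq]
      constructor
      · intro h y
        have := h.2 (y : Fin (2 * m))
        rwa [show ((ψ g : M) : Equiv.Perm (Fin (2 * m))) y = (g y : Fin (2 * m)) from
          Equiv.Perm.ofSubtype_apply_coe g y] at this
      · intro h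
        refine ⟨(ψ g).2, fun y => ?_⟩
        by_cases hy : y = a
        · subst hy
          rw [show ((ψ g : M) : Equiv.Perm (Fin (2 * m))) a = a from (ψ g).2]
        · rw [show ((ψ g : M) : Equiv.Perm (Fin (2 * m))) y = (g ⟨y, hy⟩ : Fin (2 * m)) from
            Equiv.Perm.ofSubtype_apply_of_mem g hy]
          exact h ⟨y, hy⟩
    rw [heq]
    exact (OrderIso.isCoatom_iff _ _).mpr hco
  · intro hc
    have h1 : M ⊓ S ≤ S := inf_le_right
    rcases hc.le_iff.mp (Subgroup.comap_mono (f := K.subtype) h1) with h | h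
    · exact hSKne (le_antisymm hSK (Subgroup.subgroupOf_eq_top.mp h))
    · have hS : S = M ⊓ S := by
        have h' : S.subgroupOf K = (M ⊓ S).subgroupOf K := h
        have := congrArg (Subgroup.map K.subtype) h'
        rwa [Subgroup.map_subgroupOf_eq_of_le hSK,
          Subgroup.map_subgroupOf_eq_of_le (h1.trans hSK)] at this
      have hsw : Equiv.swap a ⟨1, by omega⟩ ∈ S :=
        Equiv.Perm.swap_mem_stabilizer haO (show 1 < m by omega)
      rw [hS] at hsw
      have : Equiv.swap a ⟨1, by omega⟩ • a = a := hsw.1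
      simp [a, Equiv.Perm.smul_def, Fin.ext_iff] at this

end Cfsg.Agent.S5894
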