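import Cfsg.Statements.S5967
import Cfsg.Agent.SubElusive.Cases
import Cfsg.Agent.H29.SemisimpleCount
import Cfsg.Agent.NilType.Gen
import Cfsg.Agent.Forms.SympEmbed
import Cfsg.Prelude.Def_GeometricClasses

set_option autoImplicit false
open scoped MatrixGroups
open Cfsg

namespace Cfsg.Agent.S5967

open scoped Matrix

variable {F : Type*} [Field F]

theorem no_neg_one_pow [Fintype F] (h2 : (2 : F) ≠ 0) {n : ℕ} (hn : n ≠ 0)
    (hv : padicValNat 2 (Fintype.card F - 1) ≤ padicValNat 2 n) (s : F) : s ^ n ≠ -1 := by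
  classical
  haveI : Fact (Nat.Prime 2) := ⟨Nat.prime_two⟩
  obtain ⟨a, ha⟩ : ∃ a, a = padicValNat 2 n := ⟨_, rfl⟩
  obtain ⟨o, ho⟩ : 2 ^ a ∣ n := ha ▸ pow_padicValNat_dvd
  intro hs
  have hs0 : s ≠ 0 := fun h0 => by
    rw [h0, zero_pow hn] at hs
    simp at hs
  have hw : (s ^ o) ^ 2 ^ a = -1 := by rw [← pow_mul, mul_comm, ← ho, hs]
  have hord : orderOf (s ^ o) = 2 ^ (a + 1) := by
    refine orderOf_eq_prime_pow ?_ ?_
    · rw [hw]
      intro h
      exact h2 (by linear_combination -h)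
    · rw [pow_succ, pow_mul, hw, neg_one_sq]
  have hd : 2 ^ (a + 1) ∣ Fintype.card F - 1 := by
    rw [← hord]
    exact orderOf_dvd_of_pow_eq_one (FiniteField.pow_card_sub_one_eq_one _ (pow_ne_zero _ hs0))
  have := (padicValNat_dvd_iff_le (Nat.sub_ne_zero_of_lt Fintype.one_lt_card)).mp hd
  omega

theorem neg_one_pow [Fintype F] {n : ℕ} (hn : n ≠ 0)
    (hv : padicValNat 2 n < padicValNat 2 (Fintype.card F - 1)) : (2 : F) ≠ 0 ∧ ∃ s : F, s ^ n = -1 := by
  classical
  haveI : Fact (Nat.Prime 2) := ⟨Nat.prime_two⟩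
  obtain ⟨a, ha⟩ : ∃ a, a = padicValNat 2 n := ⟨_, rfl⟩
  obtain ⟨o, ho⟩ : 2 ^ a ∣ n := ha ▸ pow_padicValNat_dvd
  have hoo : Odd o := by
    rw [← Nat.not_even_iff_odd, even_iff_two_dvd]
    intro h
    have h1 : 2 ^ (a + 1) ∣ n := by rw [ho, pow_succ]; exact mul_dvd_mul_left _ h
    have := (padicValNat_dvd_iff_le hn).mp h1
    omega
  obtain ⟨g, hg⟩ := IsCyclic.exists_ofOrder_eq_natCard (α := Fˣ)
  rw [Nat.card_units, Nat.card_eq_fintype_card] at hg
  have hd : 2 ^ (a + 1) ∣ orderOf g := by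
    rw [hg]
    exact (Nat.pow_dvd_pow 2 (by omega)).trans pow_padicValNat_dvd
  have hw := orderOf_pow_orderOf_div (orderOf_pos g).ne' hd
  generalize g ^ (orderOf g / 2 ^ (a + 1)) = w at hw
  have h1 : w ^ 2 ^ a ≠ 1 := fun h => by
    have := Nat.le_of_dvd (by positivity) (orderOf_dvd_of_pow_eq_one h)
    rw [hw, pow_succ] at this
    have : 0 < 2 ^ a := by positivity
    omega
  have h1' : ((w : F)) ^ 2 ^ a ≠ 1 := fun h => h1 (Units.ext (by rw [Units.val_pow_eq_pow_val, h, Units.val_one]))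
  have h3 : ((w : F) ^ 2 ^ a) ^ 2 = 1 := by
    rw [← pow_mul, ← pow_succ, ← hw, ← Units.val_pow_eq_pow_val, pow_orderOf_eq_one, Units.val_one]
  have h4 := (sq_eq_one_iff.mp h3).resolve_left h1'
  refine ⟨fun h2 => h1' (h4.trans ?_), w, ?_⟩
  · linear_combination -h2
  · rw [ho, pow_mul, h4, hoo.neg_one_pow]

theorem no_fix {n : ℕ} (h2 : (2 : F) ≠ 0) {s : F} (hs : s ≠ 0) (hn : 4 ≤ n) (f : (Fin n → F) → (Fin n → F) → F)
    (hf : Cfsg.Geo.IsSymplecticForm f) (P : Matrix.SpecialLinearGroup (Fin n) F) (i0 : Fin n) {μ : F}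
    (Ds : Matrix.SpecialLinearGroup (Fin n) F)
    (hDs : (Ds : Matrix (Fin n) (Fin n) F) = Matrix.diagonal (fun j => if j = i0 then -s else s))
    (hμ : ∀ u v, f (((P⁻¹ * Ds * P : Matrix.SpecialLinearGroup (Fin n) F) : Matrix (Fin n) (Fin n) F) *ᵥ u)
      (((P⁻¹ * Ds * P : Matrix.SpecialLinearGroup (Fin n) F) : Matrix (Fin n) (Fin n) F) *ᵥ v) = μ * f u v) :
    False := by
  classical
  obtain ⟨D, hD⟩ : ∃ D : Matrix (Fin n) (Fin n) F, D = Matrix.diagonal (fun j => if j = i0 then -s else s) := ⟨_, rfl⟩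
  obtain ⟨R, hR⟩ : ∃ R : Matrix (Fin n) (Fin n) F, R = (P⁻¹ : Matrix.SpecialLinearGroup (Fin n) F) := ⟨_, rfl⟩
  obtain ⟨g, hgdef⟩ : ∃ g : (Fin n → F) → (Fin n → F) → F, g = fun u v => f (R *ᵥ u) (R *ᵥ v) := ⟨_, rfl⟩
  have hRP : (P : Matrix (Fin n) (Fin n) F) * R = 1 := by
    rw [hR, ← Matrix.SpecialLinearGroup.coe_mul, mul_inv_cancel, Matrix.SpecialLinearGroup.coe_one]
  have hg : ∀ u v, g (D *ᵥ u) (D *ᵥ v) = μ * g u v := by
    intro u v
    have := hμ (R *ᵥ u) (R *ᵥ v)
    rw [Matrix.SpecialLinearGroup.coe_mul, Matrix.SpecialLinearGroup.coe_mul, ← hR, Matrix.mulVec_mulVec,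
      Matrix.mulVec_mulVec, Matrix.mul_assoc _ _ R, hRP, Matrix.mul_one] at this
    simp only [hgdef, Matrix.mulVec_mulVec]
    rw [hD, ← hDs]
    exact this
  have gsmul : ∀ (a b : F) u v, g (a • u) (b • v) = a * b * g u v := by
    intro a b u v
    simp only [hgdef, Matrix.mulVec_smul, hf.bilinear.smul_left, hf.bilinear.smul_right, mul_assoc]
  obtain ⟨ep, hep⟩ : ∃ ep : Fin n → (Fin n → F), ep = fun i => Pi.single i 1 := ⟨_, rfl⟩
  have hDe : ∀ i, D *ᵥ ep i = (if i = i0 then -s else s) • ep i := by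
    intro i
    simp only [hep, hD]
    funext j
    rw [Matrix.diagonal_mulVec_single, Pi.smul_apply, Pi.single_apply, Pi.single_apply, smul_eq_mul]
    by_cases hj : j = i <;> simp [hj]
  have galt : ∀ u, g u u = 0 := fun u => by simp only [hgdef]; exact hf.alternating _
  have gskew : ∀ u v, g u v = -g v u := fun u v => by simp only [hgdef]; exact hf.skew _ _
  have rad : ∀ u, (∀ i, g u (ep i) = 0) → u = 0 := by
    intro u hu
    have hall : ∀ v, g u v = 0 := by
      intro v
      let φ : (Fin n → F) →ₗ[F] F :=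
        { toFun := fun v => g u v
          map_add' := fun a b => by simp only [hgdef, Matrix.mulVec_add, hf.bilinear.add_right]
          map_smul' := fun a b => by simp only [hgdef, Matrix.mulVec_smul, hf.bilinear.smul_right]; rfl }
      have : φ = 0 := by
        refine (Pi.basisFun F (Fin n)).ext fun i => ?_
        rw [Pi.basisFun_apply, LinearMap.zero_apply]
        have := hu i
        rw [hep] at this
        exact this
      exact LinearMap.congr_fun this v
    by_contra hu0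
    have hRu : R *ᵥ u ≠ 0 := fun h0 => hu0 (by
      rw [← Matrix.one_mulVec u, ← hRP, ← Matrix.mulVec_mulVec, h0, Matrix.mulVec_zero])
    obtain ⟨-, w, hw⟩ := hf.nondegenerate _ hRu
    refine hw ?_
    have := hall ((P : Matrix (Fin n) (Fin n) F) *ᵥ w)
    have hPR : R * (P : Matrix (Fin n) (Fin n) F) = 1 := by
      rw [hR, ← Matrix.SpecialLinearGroup.coe_mul, inv_mul_cancel, Matrix.SpecialLinearGroup.coe_one]
    simp only [hgdef, Matrix.mulVec_mulVec w R, hPR, Matrix.one_mulVec] at this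
    exact this
  have key : ∀ i j, (if i = i0 then -s else s) * (if j = i0 then -s else s) * g (ep i) (ep j) = μ * g (ep i) (ep j) := by
    intro i j
    rw [← gsmul, ← hDe, ← hDe, hg]
  obtain ⟨i1, i2, h1, h2', h12⟩ : ∃ i1 i2 : Fin n, i1 ≠ i0 ∧ i2 ≠ i0 ∧ i1 ≠ i2 := by
    have : 2 < (Finset.univ : Finset (Fin n)).card := by simp; omega
    obtain ⟨a, ha⟩ : ((Finset.univ : Finset (Fin n)).erase i0).Nonempty := by
      rw [← Finset.card_pos, Finset.card_erase_of_mem (Finset.mem_univ _)]; omega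
    obtain ⟨b, hb⟩ : (((Finset.univ : Finset (Fin n)).erase i0).erase a).Nonempty := by
      rw [← Finset.card_pos, Finset.card_erase_of_mem ha, Finset.card_erase_of_mem (Finset.mem_univ _)]; omega
    exact ⟨a, b, Finset.ne_of_mem_erase ha, Finset.ne_of_mem_erase (Finset.mem_of_mem_erase hb),
      (Finset.ne_of_mem_erase hb).symm⟩
  have he1 : ∀ i, ep i ≠ 0 := fun i h0 => by
    have := congrFun h0 i
    rw [hep] at this
    simp at this
  by_cases hμs : μ = s * s
  · refine he1 i0 (rad _ fun i => ?_)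
    by_cases hi : i = i0
    · rw [hi]; exact galt _
    · have := key i0 i
      rw [if_pos rfl, if_neg hi, hμs] at this
      have : (2 : F) * s * s * g (ep i0) (ep i) = 0 := by linear_combination -this
      simpa [mul_assoc, h2, hs] using this
  · have hzero : ∀ i j, i ≠ i0 → j ≠ i0 → g (ep i) (ep j) = 0 := by
      intro i j hi hj
      have := key i j
      rw [if_neg hi, if_neg hj] at this
      rcases mul_eq_zero.mp (show (s * s - μ) * g (ep i) (ep j) = 0 by linear_combination this) with h' | h'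
      · exact absurd (sub_eq_zero.mp h').symm hμs
      · exact h'
    obtain ⟨a1, ha1⟩ : ∃ a1, a1 = g (ep i1) (ep i0) := ⟨_, rfl⟩
    obtain ⟨a2, ha2⟩ : ∃ a2, a2 = g (ep i2) (ep i0) := ⟨_, rfl⟩
    have hlin : ∀ v, g (a2 • ep i1 + (-a1) • ep i2) v = a2 * g (ep i1) v - a1 * g (ep i2) v := by
      intro v
      simp only [hgdef, Matrix.mulVec_add, Matrix.mulVec_smul, hf.bilinear.add_left, hf.bilinear.smul_left]
      ring
    have hu := rad (a2 • ep i1 + (-a1) • ep i2) fun i => by
      rw [hlin]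
      by_cases hi : i = i0
      · rw [hi, ← ha1, ← ha2]; ring
      · rw [hzero _ _ h1 hi, hzero _ _ h2' hi]; ring
    have ha : a1 = 0 := by
      have := congrFun hu i2
      simp [hep, h12.symm] at this
      exact this
    refine he1 i1 (rad _ fun i => ?_)
    by_cases hi : i = i0
    · rw [hi, ← ha1, ha]
    · exact hzero _ _ h1 hi

variable {m : ℕ}

/-- The matrix sending the first coordinate of each pair to a multiple of the second. -/
noncomputable def upN {n : ℕ} (e : Fin m ⊕ Fin m ≃ Fin n) (E : Fin m → F) : Matrix (Fin n) (Fin n) F :=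
  ((Matrix.diagonal (Sum.elim E 0)).submatrix (Equiv.sumComm (Fin m) (Fin m)) id).submatrix e.symm e.symm

theorem upN_inl {n : ℕ} (e : Fin m ⊕ Fin m ≃ Fin n) (E : Fin m → F) (u : Fin n → F) (i : Fin m) :
    (upN e E *ᵥ u) (e (Sum.inl i)) = 0 := by
  classical
  rw [upN, Matrix.submatrix_mulVec_equiv]
  simp [Matrix.mulVec, dotProduct, Matrix.diagonal_apply]

theorem upN_inr {n : ℕ} (e : Fin m ⊕ Fin m ≃ Fin n) (E : Fin m → F) (u : Fin n → F) (i : Fin m) :
    (upN e E *ᵥ u) (e (Sum.inr i)) = E i * u (e (Sum.inl i)) := by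
  classical
  rw [upN, Matrix.submatrix_mulVec_equiv]
  simp [Matrix.mulVec, dotProduct, Matrix.diagonal_apply]

/-- The standard square root of a scalar. -/
noncomputable def swapY {n : ℕ} (e : Fin m ⊕ Fin m ≃ Fin n) (c : F) : Matrix (Fin n) (Fin n) F :=
  ((Matrix.diagonal (Sum.elim (fun _ => 1) (fun _ => c))).submatrix (Equiv.sumComm (Fin m) (Fin m)) id).submatrix
    e.symm e.symm

theorem swapY_inl {n : ℕ} (e : Fin m ⊕ Fin m ≃ Fin n) (c : F) (u : Fin n → F) (i : Fin m) :
    (swapY e c *ᵥ u) (e (Sum.inl i)) = c * u (e (Sum.inr i)) := by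
  classical
  rw [swapY, Matrix.submatrix_mulVec_equiv]
  simp [Matrix.mulVec, dotProduct, Matrix.diagonal_apply]

theorem swapY_inr {n : ℕ} (e : Fin m ⊕ Fin m ≃ Fin n) (c : F) (u : Fin n → F) (i : Fin m) :
    (swapY e c *ᵥ u) (e (Sum.inr i)) = u (e (Sum.inl i)) := by
  classical
  rw [swapY, Matrix.submatrix_mulVec_equiv]
  simp [Matrix.mulVec, dotProduct, Matrix.diagonal_apply]

theorem swapY_sq {n : ℕ} (e : Fin m ⊕ Fin m ≃ Fin n) (c : F) :
    swapY e c ^ 2 = c • (1 : Matrix (Fin n) (Fin n) F) := by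
  refine Matrix.ext_of_mulVec_single fun j => ?_
  funext z
  obtain ⟨z, rfl⟩ := e.surjective z
  rw [pow_two, ← Matrix.mulVec_mulVec, Matrix.smul_mulVec, Matrix.one_mulVec, Pi.smul_apply, smul_eq_mul]
  rcases z with i | i <;> simp only [swapY_inl, swapY_inr]

theorem scale_pair {n : ℕ} (e : Fin m ⊕ Fin m ≃ Fin n) (E : Fin m → F) (k₀ : Fin m) (w : F) :
    ∃ C : Matrix (Fin n) (Fin n) F, C.det = w * w ∧ C * upN e E = upN e E * C := by
  classical
  obtain ⟨γ, hγ⟩ : ∃ γ, γ = Function.update (1 : Fin m → F) k₀ w := ⟨_, rfl⟩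
  refine ⟨Matrix.diagonal (Sum.elim γ γ ∘ e.symm), ?_, ?_⟩
  · rw [Matrix.det_diagonal, ← Equiv.prod_comp e]
    simp only [Function.comp_apply, Equiv.symm_apply_apply]
    rw [Fintype.prod_sum_type]
    simp [hγ, Finset.prod_update_of_mem]
  · refine Matrix.ext_of_mulVec_single fun j => ?_
    funext z
    obtain ⟨z, rfl⟩ := e.surjective z
    rw [← Matrix.mulVec_mulVec, ← Matrix.mulVec_mulVec]
    generalize (Pi.single j (1 : F) : Fin n → F) = u
    rw [Matrix.mulVec_diagonal]
    rcases z with i | i <;> simp [upN_inl, upN_inr, Matrix.mulVec_diagonal, mul_left_comm]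

theorem char_two_form {n : ℕ} (e : Fin m ⊕ Fin m ≃ Fin n) (A : Matrix (Fin n) (Fin n) F) (hA : A ^ 2 = 0) :
    ∃ (Q : Matrix (Fin n) (Fin n) F) (E : Fin m → F), IsUnit Q.det ∧ A * Q = Q * upN e E := by
  classical
  have hn : n = m + m := by simpa using (Fintype.card_congr e).symm
  have hr : A.rank + A.rank ≤ n := by
    have h1 := LinearMap.finrank_range_add_finrank_ker (Matrix.toLin' A)
    rw [Module.finrank_fin_fun] at h1
    have h2 : LinearMap.range (Matrix.toLin' A) ≤ LinearMap.ker (Matrix.toLin' A) := by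
      rintro _ ⟨v, rfl⟩
      rw [LinearMap.mem_ker, Matrix.toLin'_apply, Matrix.toLin'_apply, Matrix.mulVec_mulVec, ← pow_two, hA,
        Matrix.zero_mulVec]
    have h3 := Submodule.finrank_mono h2
    have h4 : A.rank = Module.finrank F (LinearMap.range (Matrix.toLin' A)) := rfl
    omega
  obtain ⟨E, hE⟩ : ∃ E : Fin m → F, E = fun i : Fin m => if (i : ℕ) < A.rank then (1 : F) else 0 := ⟨_, rfl⟩
  have hN : (upN e E).rank = A.rank := by
    rw [upN, Matrix.rank_submatrix, ← Equiv.coe_refl, Matrix.rank_submatrix, Matrix.rank_diagonal,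
      Fintype.card_subtype, Finset.card_filter, Fintype.sum_sum_type]
    rw [hE]
    simp [Finset.sum_boole, Fin.card_filter_val_lt]
    omega
  have hN2 : upN e E ^ 2 = 0 := by
    refine Matrix.ext_of_mulVec_single fun j => ?_
    funext z
    obtain ⟨z, rfl⟩ := e.surjective z
    rw [pow_two, ← Matrix.mulVec_mulVec, Matrix.zero_mulVec, Pi.zero_apply]
    generalize (Pi.single j (1 : F) : Fin n → F) = u
    rcases z with i | i <;> simp [upN_inl, upN_inr]
  obtain ⟨U, hU⟩ := CfsgLib.NilType.isConj_of_rank (A := upN e E) (B := A) ⟨2, hN2⟩ ⟨2, hA⟩ fun k => by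
    rcases k with _ | _ | k
    · rw [pow_zero, pow_zero]
    · rw [pow_one, pow_one, hN]
    · rw [pow_eq_zero_of_le (by omega) hN2, pow_eq_zero_of_le (by omega) hA]
  exact ⟨U, E, (Matrix.isUnit_iff_isUnit_det _).mp U.isUnit, hU.symm⟩

theorem align {n : ℕ} (d : Fin n → Bool) (k : ℕ) (hn : n = m + m)
    (hd : (Finset.univ.filter fun j => d j = false).card = k + k) :
    ∃ e : Fin m ⊕ Fin m ≃ Fin n, ∀ z, d (e z) = Sum.elim (fun i : Fin m => decide (k ≤ (i : ℕ)))
      (fun i : Fin m => decide (k ≤ (i : ℕ))) z := by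
  classical
  obtain ⟨δ, hδ⟩ : ∃ δ : Fin m ⊕ Fin m → Bool, δ = Sum.elim (fun i : Fin m => decide (k ≤ (i : ℕ)))
    (fun i : Fin m => decide (k ≤ (i : ℕ))) := ⟨_, rfl⟩
  have hk : k ≤ m := by
    have := hd ▸ Finset.card_le_univ (Finset.univ.filter fun j => d j = false)
    simp at this
    omega
  have hf : Fintype.card {z // δ z = false} = k + k := by
    rw [Fintype.card_subtype, Finset.card_filter, Fintype.sum_sum_type, hδ]
    simp only [Sum.elim_inl, Sum.elim_inr, decide_eq_false_iff_not, not_le]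
    rw [← Finset.card_filter, Fin.card_filter_val_lt, min_eq_right hk]
  have hcf : Fintype.card {z // δ z = false} = Fintype.card {j // d j = false} := by
    rw [hf, Fintype.card_subtype, hd]
  have hct : Fintype.card {z // δ z = true} = Fintype.card {j // d j = true} := by
    have h1 := Fintype.card_subtype_compl (fun z => δ z = false)
    have h2 := Fintype.card_subtype_compl (fun j => d j = false)
    simp only [Bool.not_eq_false] at h1 h2
    rw [h1, h2, hcf]
    simp [hn]
  rw [← hδ]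
  refine ⟨Equiv.ofFiberEquiv (f := δ) (g := d) fun b => Fintype.equivOfCardEq ?_, fun z => ?_⟩
  · cases b
    · exact hcf
    · exact hct
  · exact Equiv.ofFiberEquiv_map _ z

theorem conj_into {n : ℕ} (e : Fin m ⊕ Fin m ≃ Fin n) (f : (Fin n → F) → (Fin n → F) → F)
    (hf : Cfsg.Geo.IsSymplecticForm f) (x : Matrix.SpecialLinearGroup (Fin n) F) (Q Y : Matrix (Fin n) (Fin n) F)
    (hQ : IsUnit Q.det) (hxQ : (x : Matrix (Fin n) (Fin n) F) * Q = Q * Y) {μ : F} (hμ : μ ≠ 0)
    (hY : ∀ u v, Cfsg.sympForm m F ((Y *ᵥ u) ∘ e) ((Y *ᵥ v) ∘ e) = μ * Cfsg.sympForm m F (u ∘ e) (v ∘ e))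
    (hC : ∀ δ : F, δ ≠ 0 → ∃ C : Matrix (Fin n) (Fin n) F, C.det = δ ∧ C * Y = Y * C) :
    ∃ P : Matrix.SpecialLinearGroup (Fin n) F, P⁻¹ * x * P ∈ ((Cfsg.Geo.similarityGroup f).comap
      (Matrix.SpecialLinearGroup.toGL : Matrix.SpecialLinearGroup (Fin n) F →* GL (Fin n) F)) := by
  classical
  let B : LinearMap.BilinForm F (Fin n → F) := LinearMap.mk₂ F f hf.bilinear.add_left
    (fun c x v => hf.bilinear.smul_left c x v) hf.bilinear.add_right (fun c v x => hf.bilinear.smul_right c v x)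
  have hB : ∀ u v, B u v = f u v := fun u v => rfl
  have hn : Module.finrank F (Fin n → F) = 2 * m := by
    rw [Module.finrank_fin_fun]
    have := Fintype.card_congr e
    simp at this
    omega
  obtain ⟨g, hg⟩ := CfsgLib.Forms.exists_symp_coord hn B hf.alternating fun v hv => by
    by_contra h0
    obtain ⟨-, w, hw⟩ := hf.nondegenerate v h0
    exact hw (hv w)
  obtain ⟨g', hg'⟩ : ∃ g' : (Fin n → F) ≃ₗ[F] (Fin n → F), g' = g.trans (LinearEquiv.funCongrLeft F F e.symm) := ⟨_, rfl⟩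
  obtain ⟨G, hGdef⟩ : ∃ G, G = LinearMap.toMatrix' (g' : (Fin n → F) →ₗ[F] (Fin n → F)) := ⟨_, rfl⟩
  have hG : ∀ v, (G *ᵥ v) ∘ e = g v := fun v => by
    rw [hGdef, LinearMap.toMatrix'_mulVec, hg']
    funext z
    simp
  have hf' : ∀ u v, f u v = Cfsg.sympForm m F ((G *ᵥ u) ∘ e) ((G *ᵥ v) ∘ e) := fun u v => by rw [hG, hG, hg, hB]
  have hGu : IsUnit G.det := by rw [hGdef, LinearMap.det_toMatrix']; exact LinearEquiv.isUnit_det' g'
  obtain ⟨C, hCd, hCY⟩ := hC (Q.det * G.det)⁻¹ (inv_ne_zero (hQ.mul hGu).ne_zero)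
  have hdet : (Q * C * G).det = 1 := by
    rw [Matrix.det_mul, Matrix.det_mul, hCd]
    field_simp [hQ.ne_zero, hGu.ne_zero]
  obtain ⟨P, hP⟩ : ∃ P : Matrix.SpecialLinearGroup (Fin n) F, P = ⟨Q * C * G, hdet⟩ := ⟨_, rfl⟩
  have hP' : (P : Matrix (Fin n) (Fin n) F) = Q * C * G := by rw [hP]
  obtain ⟨y, hy⟩ : ∃ y, y = P⁻¹ * x * P := ⟨_, rfl⟩
  have hGy : G * (y : Matrix (Fin n) (Fin n) F) = Y * G := by
    have hQC : IsUnit (Q * C).det := by
      rw [Matrix.det_mul, hCd]
      exact hQ.mul (isUnit_iff_ne_zero.mpr (inv_ne_zero (hQ.mul hGu).ne_zero))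
    have h1 : (P : Matrix (Fin n) (Fin n) F) * (y : Matrix (Fin n) (Fin n) F) = (x : Matrix (Fin n) (Fin n) F) * P := by
      rw [← Matrix.SpecialLinearGroup.coe_mul, ← Matrix.SpecialLinearGroup.coe_mul, hy, mul_assoc, mul_inv_cancel_left]
    rw [hP', Matrix.mul_assoc (Q * C), ← Matrix.mul_assoc _ (Q * C), ← Matrix.mul_assoc _ Q C, hxQ,
      Matrix.mul_assoc Q Y C, ← hCY, ← Matrix.mul_assoc Q C Y, Matrix.mul_assoc (Q * C) Y] at h1
    rw [← Matrix.nonsing_inv_mul_cancel_left (Q * C) (G * (y : Matrix (Fin n) (Fin n) F)) hQC, h1,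
      Matrix.nonsing_inv_mul_cancel_left (Q * C) (Y * G) hQC]
  refine ⟨P, Units.mk0 μ hμ, fun u v => ?_⟩
  show f (((P⁻¹ * x * P : Matrix.SpecialLinearGroup (Fin n) F) : Matrix (Fin n) (Fin n) F) *ᵥ u) (((P⁻¹ * x * P : Matrix.SpecialLinearGroup (Fin n) F) : Matrix (Fin n) (Fin n) F) *ᵥ v) = μ * f u v
  rw [← hy, hf', hf' u v, Matrix.mulVec_mulVec, Matrix.mulVec_mulVec, hGy, ← Matrix.mulVec_mulVec,
    ← Matrix.mulVec_mulVec, hY]

theorem exists_sign_basis {F : Type*} [Field F] {n : ℕ} (h2 : (2 : F) ≠ 0) (M : Matrix (Fin n) (Fin n) F) (hM : M * M = 1) :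
    ∃ (P : Matrix (Fin n) (Fin n) F) (d : Fin n → Bool), IsUnit P.det ∧
      M * P = P * Matrix.diagonal fun j => if d j then (1 : F) else -1 := by
  classical
  obtain ⟨f, hf⟩ : ∃ f : Module.End F (Fin n → F), f = Matrix.toLin' M := ⟨_, rfl⟩
  have hff : ∀ v, f (f v) = v := fun v => by
    rw [hf, Matrix.toLin'_apply, Matrix.toLin'_apply, Matrix.mulVec_mulVec, hM, Matrix.one_mulVec]
  obtain ⟨U, hU⟩ : ∃ U, U = LinearMap.ker (f - 1) := ⟨_, rfl⟩
  obtain ⟨W, hW⟩ : ∃ W, W = LinearMap.ker (f + 1) := ⟨_, rfl⟩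
  have hUf : ∀ v ∈ U, f v = v := fun v hv => by
    rw [hU, LinearMap.mem_ker, LinearMap.sub_apply, sub_eq_zero] at hv; exact hv
  have hWf : ∀ v ∈ W, f v = -v := fun v hv => by
    rw [hW, LinearMap.mem_ker, LinearMap.add_apply, add_eq_zero_iff_eq_neg] at hv; exact hv
  have hc : IsCompl U W := by
    constructor
    · rw [Submodule.disjoint_def]
      intro v h1 h3
      have := (hUf v h1).symm.trans (hWf v h3)
      have h4 : (2 : F) • v = 0 := by rw [two_smul]; exact add_eq_zero_iff_eq_neg.mpr this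
      exact (smul_eq_zero.mp h4).resolve_left h2
    · rw [codisjoint_iff, eq_top_iff]
      intro v _
      refine Submodule.mem_sup.mpr ⟨(2 : F)⁻¹ • (v + f v), ?_, (2 : F)⁻¹ • (v - f v), ?_, ?_⟩
      · rw [hU, LinearMap.mem_ker, LinearMap.sub_apply, Module.End.one_apply, map_smul, map_add, hff]; abel
      · rw [hW, LinearMap.mem_ker, LinearMap.add_apply, Module.End.one_apply, map_smul, map_sub, hff]
        rw [← smul_add]; simp
      · rw [← smul_add, show v + f v + (v - f v) = (2 : F) • v by rw [two_smul]; abel, smul_smul, inv_mul_cancel₀ h2, one_smul]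
  let b0 := ((Module.finBasis F U).prod (Module.finBasis F W)).map (Submodule.prodEquivOfIsCompl U W hc)
  let e : Fin (Module.finrank F U) ⊕ Fin (Module.finrank F W) ≃ Fin n :=
    finSumFinEquiv.trans (finCongr (by rw [Submodule.finrank_add_eq_of_isCompl hc, Module.finrank_fin_fun]))
  let b := b0.reindex e
  refine ⟨Matrix.of fun i j => b j i, fun j => (e.symm j).isLeft, ?_, ?_⟩
  · rw [← Matrix.isUnit_iff_isUnit_det, ← Matrix.linearIndependent_cols_iff_isUnit]
    exact b.linearIndependent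
  · refine Matrix.ext_of_mulVec_single fun j => ?_
    have hcol : ∀ j, (Matrix.of fun i j => b j i) *ᵥ Pi.single j 1 = b j := fun j => by
      rw [Matrix.mulVec_single_one]; rfl
    rw [← Matrix.mulVec_mulVec, ← Matrix.mulVec_mulVec, hcol, Matrix.diagonal_mulVec_single, mul_one,
      ← Matrix.toLin'_apply, ← hf]
    have hsingle : ∀ c : F, (Pi.single j c : Fin n → F) = c • Pi.single j 1 := fun c => by
      rw [← Pi.single_smul', smul_eq_mul, mul_one]
    rw [hsingle, Matrix.mulVec_smul, hcol]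
    show f (b0.reindex e j) = _ • b0.reindex e j
    rw [Module.Basis.reindex_apply]
    rcases hj : e.symm j with i | i
    · have e1 : b0 (Sum.inl i) = (Module.finBasis F U i : Fin n → F) := by simp [b0]
      rw [e1, hUf _ (Module.finBasis F U i).2]
      simp [hj]
    · have e1 : b0 (Sum.inr i) = (Module.finBasis F W i : Fin n → F) := by simp [b0]
      rw [e1, hWf _ (Module.finBasis F W i).2]
      simp [hj]


/-- Involutions of PSL_n(q) and the symplectic-type subgroups. Here `T = PSL_n(F)` for a field `F` with `q` elements, `n ≥ 4` even, `f` is a nondegenerate alternating form on `F^n`, and `H` is the subgroup of matrices of determinant 1 preserving `f` up to a scalar — a maximal subgroup of type Sp_n(q); Ω is the set of `T`-conjugates of `H` (cosets of `H`), so an element of `T` of prime order `r` (a matrix `x` of determinant 1 with `x^r` scalar, `x` not scalar) fixes a point of Ω when some conjugate of `x` by a matrix of determinant 1 preserves `f` up to a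 scalar. Suppose the index of `H` is even. Then every involution of `T` is conjugate in `T` into `H` if and only if `(q − 1)_2 ≤ (n)_2`. -/
theorem result {F : Type*} [Field F] [Fintype F] {p : ℕ} [Fact p.Prime] [CharP F p] {q : ℕ} (hq : Fintype.card F = q)
    (n : ℕ) (hn : 4 ≤ n) (he : Even n) (f : (Fin n → F) → (Fin n → F) → F) (hf : Cfsg.Geo.IsSymplecticForm f)
    (hΩ : 2 ∣ ((Cfsg.Geo.similarityGroup f).comap (Matrix.SpecialLinearGroup.toGL : Matrix.SpecialLinearGroup (Fin n) F →* GL (Fin n) F)).index) :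
    (∀ x : Matrix.SpecialLinearGroup (Fin n) F,
      (∃ z : F, ((x ^ 2 : Matrix.SpecialLinearGroup (Fin n) F) : Matrix (Fin n) (Fin n) F) = z • (1 : Matrix (Fin n) (Fin n) F)) →
      (∀ z : F, (x : Matrix (Fin n) (Fin n) F) ≠ z • (1 : Matrix (Fin n) (Fin n) F)) →
      ∃ P : Matrix.SpecialLinearGroup (Fin n) F, P⁻¹ * x * P ∈ ((Cfsg.Geo.similarityGroup f).comap (Matrix.SpecialLinearGroup.toGL : Matrix.SpecialLinearGroup (Fin n) F →* GL (Fin n) F))) ↔
    padicValNat 2 (q - 1) ≤ padicValNat 2 n := by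
  classical
  subst hq
  haveI : Nonempty (Fin n) := ⟨⟨0, by omega⟩⟩
  simp only [Matrix.SpecialLinearGroup.coe_pow]
  obtain ⟨m, rfl⟩ := he
  obtain ⟨k₀, hk₀⟩ : ∃ k₀ : Fin m, k₀ = ⟨0, by omega⟩ := ⟨_, rfl⟩
  constructor
  · intro h
    by_contra hv
    push Not at hv
    obtain ⟨h2, s, hs⟩ := neg_one_pow (F := F) (show m + m ≠ 0 by omega) hv
    obtain ⟨i0, hi0⟩ : ∃ i0 : Fin (m + m), i0 = ⟨0, by omega⟩ := ⟨_, rfl⟩
    obtain ⟨D, hD⟩ : ∃ D, D = Matrix.diagonal (fun j : Fin (m + m) => if j = i0 then -s else s) := ⟨_, rfl⟩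
    have hs0 : s ≠ 0 := fun h0 => by
      rw [h0, zero_pow (by omega)] at hs
      simp at hs
    have hdet : D.det = 1 := by
      rw [hD, Matrix.det_diagonal, ← Finset.mul_prod_erase _ _ (Finset.mem_univ i0), if_pos rfl,
        Finset.prod_congr rfl (g := fun _ => s) (fun j hj => if_neg (Finset.ne_of_mem_erase hj)),
        Finset.prod_const, Finset.card_erase_of_mem (Finset.mem_univ _), Finset.card_univ, Fintype.card_fin,
        neg_mul, ← pow_succ', Nat.sub_add_cancel (by omega), hs, neg_neg]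
    have hne : ∀ z : F, D ≠ z • (1 : Matrix (Fin (m + m)) (Fin (m + m)) F) := by
      intro z hz
      obtain ⟨i1, hi1⟩ : ∃ i1 : Fin (m + m), i1 ≠ i0 := ⟨⟨1, by omega⟩, by rw [hi0]; simp⟩
      have e0 := congrFun (congrFun hz i0) i0
      have e1 := congrFun (congrFun hz i1) i1
      simp [hD, hi1] at e0 e1
      have : (2 : F) * s = 0 := by rw [two_mul]; linear_combination e1 - e0
      rcases mul_eq_zero.mp this with h' | h'
      exacts [h2 h', hs0 h']
    obtain ⟨P, c, hc⟩ := h ⟨D, hdet⟩ ⟨s ^ 2, by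
      show D ^ 2 = _
      rw [hD, Matrix.diagonal_pow, Matrix.smul_one_eq_diagonal]
      congr 1; funext j
      simp only [Pi.pow_apply]
      split_ifs <;> ring⟩ hne
    refine no_fix h2 hs0 (by omega) f hf P i0 (μ := (c : F)) ⟨D, hdet⟩ hD fun u v => ?_
    exact hc u v
  · intro hR x ⟨c, hx⟩ hx'
    obtain ⟨e⟩ : Nonempty (Fin m ⊕ Fin m ≃ Fin (m + m)) := ⟨finSumFinEquiv⟩
    have hdetx : (x : Matrix (Fin (m + m)) (Fin (m + m)) F).det = 1 := x.det_coe
    haveI : Fact (Nat.Prime 2) := ⟨Nat.prime_two⟩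
    have hc0 := CfsgLib.SubElusive.scalar_data (r := 2) hdetx (by omega) hx
    by_cases hsq : ∃ s : F, s ^ 2 = c
    · obtain ⟨s, hs⟩ := hsq
      have hs0 : s ≠ 0 := fun h0 => hc0 (by rw [← hs, h0, zero_pow two_ne_zero])
      obtain ⟨M, hMdef⟩ : ∃ M, M = s⁻¹ • (x : Matrix (Fin (m + m)) (Fin (m + m)) F) := ⟨_, rfl⟩
      have hM : M * M = 1 := by
        rw [← pow_two, hMdef, _root_.smul_pow, hx, smul_smul, ← hs, ← mul_pow, inv_mul_cancel₀ hs0, one_pow, one_smul]
      have hxM : (x : Matrix (Fin (m + m)) (Fin (m + m)) F) = s • M := by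
        rw [hMdef, smul_smul, mul_inv_cancel₀ hs0, one_smul]
      by_cases h2 : (2 : F) = 0
      · haveI : CharP F 2 := CharTwo.of_one_ne_zero_of_two_eq_zero one_ne_zero h2
        obtain ⟨A, hA⟩ : ∃ A, A = M - 1 := ⟨_, rfl⟩
        have hA2 : A ^ 2 = 0 := by rw [hA, sub_pow_char_of_commute _ (Commute.one_right M), one_pow, pow_two, hM, sub_self]
        obtain ⟨Q, E, hQ, hAQ⟩ := char_two_form e A hA2
        refine conj_into e f hf x Q (s • (1 + upN e E)) hQ ?_ (μ := s * s) (mul_ne_zero hs0 hs0) ?_ ?_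
        · rw [hxM, show M = 1 + A by rw [hA, add_sub_cancel], Matrix.smul_mul, Matrix.mul_smul, Matrix.add_mul,
            Matrix.mul_add, Matrix.one_mul, Matrix.mul_one, hAQ]
        · intro u v
          simp only [Matrix.smul_mulVec, Matrix.add_mulVec, Matrix.one_mulVec, CfsgLib.SpGeom.form_def, Finset.mul_sum]
          refine Finset.sum_congr rfl fun i _ => ?_
          simp only [Function.comp_apply, Pi.smul_apply, Pi.add_apply, smul_eq_mul, upN_inl, upN_inr]
          ring
        · intro δ hδ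
          obtain ⟨w, hw⟩ := FiniteField.isSquare_of_char_two (ringChar.eq F 2) δ
          obtain ⟨C, hC, hCN⟩ := scale_pair e E k₀ w
          refine ⟨C, by rw [hC, hw], ?_⟩
          rw [Matrix.mul_smul, Matrix.smul_mul, Matrix.mul_add, Matrix.add_mul, Matrix.mul_one, Matrix.one_mul, hCN]
      · obtain ⟨P, d, hP, hMP⟩ := exists_sign_basis h2 M hM
        obtain ⟨a, ha⟩ : ∃ a, a = (Finset.univ.filter fun j => d j = false).card := ⟨_, rfl⟩
        have hsn : s ^ (m + m) * (-1) ^ a = 1 := by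
          have h1 : M.det = (-1) ^ a := by
            have := congrArg Matrix.det hMP
            rw [Matrix.det_mul, Matrix.det_mul, mul_comm] at this
            rw [mul_left_cancel₀ hP.ne_zero this, Matrix.det_diagonal, Finset.prod_ite, Finset.prod_const_one, one_mul,
              Finset.prod_const, ha]
            simp
          rw [← h1, ← hdetx, hxM, Matrix.det_smul, Fintype.card_fin]
        have hae : Even a := by
          by_contra hne
          rw [(Nat.not_even_iff_odd.mp hne).neg_one_pow] at hsn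
          exact no_neg_one_pow h2 (show m + m ≠ 0 by omega) hR s (by linear_combination -hsn)
        obtain ⟨k, hk⟩ := hae
        have hale : a ≤ m + m := by rw [ha]; exact le_trans (Finset.card_le_univ _) (by simp)
        obtain ⟨e', he'⟩ := align (m := m) d k rfl (ha.symm.trans hk)
        refine conj_into e' f hf x P (Matrix.diagonal fun j => if d j then s else -s) hP ?_ (μ := s * s)
          (mul_ne_zero hs0 hs0) ?_ ?_
        · rw [hxM, Matrix.smul_mul, hMP, ← Matrix.mul_smul, ← Matrix.diagonal_smul]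
          congr 2; funext j
          simp only [Pi.smul_apply, smul_eq_mul]
          split_ifs <;> ring
        · intro u v
          simp only [CfsgLib.SpGeom.form_def, Finset.mul_sum]
          refine Finset.sum_congr rfl fun i _ => ?_
          simp only [Function.comp_apply, Matrix.mulVec_diagonal, he', Sum.elim_inl, Sum.elim_inr]
          split_ifs <;> ring
        · intro δ hδ
          refine ⟨Matrix.diagonal (Function.update (1 : Fin (m + m) → F) (e' (Sum.inl k₀)) δ), ?_, ?_⟩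
          · rw [Matrix.det_diagonal, Finset.prod_update_of_mem (Finset.mem_univ _)]
            simp
          · rw [Matrix.diagonal_mul_diagonal, Matrix.diagonal_mul_diagonal]
            congr 1; funext j; ring
    · push Not at hsq
      have hodd : Fintype.card F % 2 = 1 := by
        rcases Nat.even_or_odd (Fintype.card F) with hev | hodd
        · obtain ⟨s, hs⟩ := FiniteField.isSquare_of_char_two (FiniteField.even_card_iff_char_two.mpr (Nat.even_iff.mp hev)) c
          exact absurd (by rw [pow_two, hs]) (hsq s)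
        · exact Nat.odd_iff.mp hodd
      have h2 : (2 : F) ≠ 0 := by
        refine Ring.two_ne_zero fun h => ?_
        have := FiniteField.even_card_iff_char_two.mp h
        omega
      have hm2 : ((2 * (Fintype.card F - 1) : ℕ) : F) ≠ 0 := by
        rw [Nat.cast_mul, Nat.cast_sub Fintype.card_pos, FiniteField.cast_card_eq_zero, Nat.cast_ofNat, Nat.cast_one,
          zero_sub]
        exact mul_ne_zero h2 (neg_ne_zero.mpr one_ne_zero)
      obtain ⟨Y, hY⟩ : ∃ Y, Y = swapY e c := ⟨_, rfl⟩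
      have hY2 : Y ^ 2 = c • (1 : Matrix (Fin (m + m)) (Fin (m + m)) F) := by rw [hY]; exact swapY_sq e c
      have hord : ∀ Z : Matrix (Fin (m + m)) (Fin (m + m)) F, Z ^ 2 = c • (1 : Matrix (Fin (m + m)) (Fin (m + m)) F) →
          (Matrix.toLinAlgEquiv' Z) ^ (2 * (Fintype.card F - 1)) = 1 := by
        intro Z hZ
        rw [← map_pow, pow_mul, hZ, _root_.smul_pow, one_pow, FiniteField.pow_card_sub_one_eq_one c hc0, one_smul, map_one]
      have hch : LinearMap.charpoly (Matrix.toLinAlgEquiv' (x : Matrix (Fin (m + m)) (Fin (m + m)) F)) =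
          LinearMap.charpoly (Matrix.toLinAlgEquiv' Y) := by
        show LinearMap.charpoly (Matrix.toLin' (x : Matrix (Fin (m + m)) (Fin (m + m)) F)) =
          LinearMap.charpoly (Matrix.toLin' Y)
        rw [Matrix.charpoly_toLin', Matrix.charpoly_toLin',
          (CfsgLib.SubElusive.nonsplit (r := 2) _ hsq hx).2.1, (CfsgLib.SubElusive.nonsplit (r := 2) _ hsq hY2).2.1]
      obtain ⟨E, hE⟩ := Cfsg.Agent.H29.Semisimple.similar (m + m) (Matrix.toLinAlgEquiv' Y)
        (Matrix.toLinAlgEquiv' (x : Matrix (Fin (m + m)) (Fin (m + m)) F)) hm2 (hord _ hY2) (hord _ hx)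
        (Module.finrank_fin_fun F) hch.symm
      obtain ⟨Q, hQdef⟩ : ∃ Q, Q = LinearMap.toMatrix' (E : (Fin (m + m) → F) →ₗ[F] (Fin (m + m) → F)) := ⟨_, rfl⟩
      have hQ : ∀ v, Q *ᵥ v = E v := fun v => by rw [hQdef, LinearMap.toMatrix'_mulVec]; rfl
      refine conj_into e f hf x Q Y ?_ ?_ (μ := -c) (neg_ne_zero.mpr hc0) ?_ ?_
      · rw [hQdef, LinearMap.det_toMatrix']
        exact LinearEquiv.isUnit_det' E
      · refine Matrix.ext_of_mulVec_single fun j => ?_
        rw [← Matrix.mulVec_mulVec, ← Matrix.mulVec_mulVec, hQ, hQ, ← Matrix.toLinAlgEquiv'_apply, ← hE,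
          Matrix.toLinAlgEquiv'_apply]
      · intro u v
        rw [hY]
        simp only [CfsgLib.SpGeom.form_def, Finset.mul_sum]
        refine Finset.sum_congr rfl fun i _ => ?_
        simp only [Function.comp_apply, swapY_inl, swapY_inr]
        ring
      · intro δ hδ
        obtain ⟨g, hg, hgdet⟩ := Cfsg.Agent.H29.Semisimple.exists_commute_det (Matrix.toLinAlgEquiv' Y) hm2 (hord _ hY2)
          (by rw [Module.finrank_fin_fun]; omega) hδ
        refine ⟨LinearMap.toMatrix' g, by rw [LinearMap.det_toMatrix', hgdet], ?_⟩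
        apply Matrix.toLinAlgEquiv'.injective
        rw [map_mul, map_mul]
        have : Matrix.toLinAlgEquiv' (LinearMap.toMatrix' g) = g := Matrix.toLin'_toMatrix' g
        rw [this]
        exact hg

end Cfsg.Agent.S5967
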