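import Cfsg.Statements.S5981
import Cfsg.Agent.SubElusive.Pairing
import Cfsg.Agent.SubElusive.Orth
import Cfsg.Agent.S5967

set_option autoImplicit false
open scoped MatrixGroups
open Cfsg

namespace Cfsg.Agent.S5981

open QuadraticMap CfsgLib.SubElusive CfsgLib.Forms Polynomial
open scoped Matrix

theorem gramSim_pow {F : Type*} [Field F] {n : ℕ} {G x : Matrix (Fin n) (Fin n) F} {μ : F}
    (h : GramSim (RingHom.id F) G x μ) : ∀ j : ℕ, GramSim (RingHom.id F) G (x ^ j) (μ ^ j) := by
  intro j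
  unfold GramSim at h ⊢
  simp only [RingHom.coe_id, Matrix.map_id] at h ⊢
  induction j with
  | zero => simp
  | succ j ih =>
    rw [show (x ^ (j + 1))ᵀ = xᵀ * (x ^ j)ᵀ by rw [pow_succ, Matrix.transpose_mul]]
    calc xᵀ * (x ^ j)ᵀ * G * (x ^ (j + 1)) = xᵀ * ((x ^ j)ᵀ * G * x ^ j) * x := by
          simp only [Matrix.mul_assoc, pow_succ]
      _ = μ ^ (j + 1) • G := by rw [ih, Matrix.mul_smul, Matrix.smul_mul, h, smul_smul, ← pow_succ]

theorem eq_of_smul_eq {F : Type*} [Field F] {n : ℕ} (hn : 0 < n) {G : Matrix (Fin n) (Fin n) F} (hG : IsUnit G.det)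
    {a b : F} (h : a • G = b • G) : a = b := by
  haveI : Nonempty (Fin n) := ⟨⟨0, hn⟩⟩
  have h0 : G ≠ 0 := fun h0 => hG.ne_zero (by rw [h0, Matrix.det_zero])
  exact smul_left_injective F h0 h

/-- Symmetric invertible matrices of square-related determinant are congruent. -/
theorem congr_of_isSquare {F : Type*} [Field F] [Fintype F] {n : ℕ} (h2 : (2 : F) ≠ 0) (Q : QuadraticForm F (Fin n → F))
    (hQ : (polarBilin Q).Nondegenerate) {G G' : Matrix (Fin n) (Fin n) F}
    (hG : ∀ u v, u ⬝ᵥ (G *ᵥ v) = polar Q u v) (hG't : G'ᵀ = G') (hG'u : IsUnit G'.det) (hsq : IsSquare (G.det * G'.det)) :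
    ∃ R : Matrix (Fin n) (Fin n) F, IsUnit R.det ∧ G = Rᵀ * G' * R := by
  classical
  let Q₁ : QuadraticForm F (Fin n → F) := LinearMap.BilinMap.toQuadraticMap (Matrix.toBilin' ((2 : F)⁻¹ • G'))
  have hQ₁ : ∀ u v, polar Q₁ u v = u ⬝ᵥ (G' *ᵥ v) := fun u v => by
    rw [LinearMap.BilinMap.polar_toQuadraticMap, Matrix.toBilin'_apply', Matrix.toBilin'_apply', Matrix.smul_mulVec,
      Matrix.smul_mulVec, dotProduct_smul, dotProduct_smul, smul_eq_mul, smul_eq_mul,
      Matrix.dotProduct_mulVec v, ← Matrix.mulVec_transpose, hG't, dotProduct_comm (G' *ᵥ v)]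
    field_simp
    ring
  have hgram : ∀ (P : QuadraticForm F (Fin n → F)) (A : Matrix (Fin n) (Fin n) F), (∀ u v, polar P u v = u ⬝ᵥ (A *ᵥ v)) →
      gram ⇑P ⇑(Pi.basisFun F (Fin n)) = A := fun P A h => by
    ext i j
    simp [gram, h]
  have hQ₁n : (polarBilin Q₁).Nondegenerate := nondegenerate_iff.2 fun v hv => by
    by_contra hv0
    refine hG'u.ne_zero (Matrix.exists_mulVec_eq_zero_iff.mp ⟨v, hv0, funext fun i => ?_⟩)
    have := hv (Pi.single i 1)
    rw [polar_comm, hQ₁] at this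
    simpa using this
  obtain ⟨g, hg⟩ := exists_isometry_of_isSquare h2 hQ hQ₁n (Pi.basisFun F (Fin n)) (by
    rw [hgram Q G (fun u v => (hG u v).symm), hgram Q₁ G' hQ₁]
    exact hsq)
  obtain ⟨R, hR⟩ : ∃ R, R = LinearMap.toMatrix' (g : (Fin n → F) →ₗ[F] (Fin n → F)) := ⟨_, rfl⟩
  have hRv : ∀ v, R *ᵥ v = g v := fun v => by rw [hR, LinearMap.toMatrix'_mulVec]; rfl
  refine ⟨R, by rw [hR, LinearMap.det_toMatrix']; exact LinearEquiv.isUnit_det' g, ?_⟩
  ext i j
  have h1 : polar Q₁ (g (Pi.single i 1)) (g (Pi.single j 1)) = polar Q (Pi.single i 1) (Pi.single j 1) := by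
    simp only [polar, ← map_add, hg]
  rw [hQ₁, ← hG, ← hRv, ← hRv, ← Matrix.vecMul_transpose, ← Matrix.dotProduct_mulVec, Matrix.mulVec_mulVec,
    Matrix.mulVec_mulVec] at h1
  simpa [Matrix.mul_assoc] using h1.symm

/-- Block similitudes squaring to a given scalar. -/
theorem exists_pairs {F : Type*} [Field F] [Fintype F] {n : ℕ} (hF : Fintype.card F % 2 = 1) (h2n : 2 ∣ n)
    (a : Fin n → F) (ha : ∀ j, a j ≠ 0) (c : F) :
    ∃ Y : Matrix (Fin n) (Fin n) F, Y ^ 2 = c • 1 ∧ GramSim (RingHom.id F) (Matrix.diagonal a) Y c := by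
  classical
  obtain ⟨m, rfl⟩ := h2n
  let e : Fin 2 × Fin m ≃ Fin (2 * m) := finProdFinEquiv
  have hex : ∀ k : Fin m, ∃ u v : F, u ^ 2 + a (e (0, k)) / a (e (1, k)) * v ^ 2 = c := fun k => by
    have h0 : a (e (0, k)) / a (e (1, k)) ≠ 0 := div_ne_zero (ha _) (ha _)
    obtain ⟨u, v, huv⟩ := FiniteField.exists_root_sum_quadratic (f := X ^ 2 - C c)
      (g := C (a (e (0, k)) / a (e (1, k))) * X ^ 2) (degree_X_pow_sub_C (by norm_num) _) (degree_C_mul_X_pow 2 h0) hF
    refine ⟨u, v, ?_⟩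
    rw [eval_sub, eval_pow, eval_X, eval_C, eval_mul, eval_C, eval_pow, eval_X] at huv
    linear_combination huv
  choose u v huv using hex
  obtain ⟨B, hB⟩ : ∃ B : Fin m → Matrix (Fin 2) (Fin 2) F,
      B = fun k => !![u k, v k; a (e (0, k)) / a (e (1, k)) * v k, -u k] := ⟨_, rfl⟩
  obtain ⟨D, hD⟩ : ∃ D : Fin m → Matrix (Fin 2) (Fin 2) F,
      D = fun k => Matrix.diagonal fun i => a (e (i, k)) := ⟨_, rfl⟩
  have h1 : (fun k => B k * B k) = c • (1 : Fin m → Matrix (Fin 2) (Fin 2) F) := funext fun k => by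
    rw [Pi.smul_apply, Pi.one_apply, hB]; ext i j
    fin_cases i <;> fin_cases j <;> simp [Matrix.mul_apply, Fin.sum_univ_two]
    all_goals first
      | ring1
      | linear_combination huv k
      | linear_combination -(huv k)
  have h2' : (fun k => (B k)ᵀ * D k * B k) = c • D := funext fun k => by
    have hb : a (e (1, k)) * (a (e (0, k)) / a (e (1, k))) = a (e (0, k)) := mul_div_cancel₀ _ (ha _)
    rw [Pi.smul_apply, hB, hD]; ext i j
    fin_cases i <;> fin_cases j <;> simp [Matrix.mul_apply, Fin.sum_univ_two]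
    · linear_combination a (e (0, k)) * huv k + (a (e (0, k)) / a (e (1, k)) * v k ^ 2) * hb
    · linear_combination -(u k * v k) * hb
    · linear_combination -(u k * v k) * hb
    · linear_combination a (e (1, k)) * huv k - v k ^ 2 * hb
  refine ⟨Matrix.reindexAlgEquiv F F e (Matrix.blockDiagonal B), ?_, ?_⟩
  · rw [← map_pow, pow_two, ← Matrix.blockDiagonal_mul, h1, Matrix.blockDiagonal_smul, Matrix.blockDiagonal_one,
      map_smul, map_one]
  · have hdiag : Matrix.diagonal a = Matrix.reindexAlgEquiv F F e (Matrix.blockDiagonal D) := by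
      rw [hD, Matrix.blockDiagonal_diagonal, Matrix.reindexAlgEquiv_apply, Matrix.reindex_apply,
        Matrix.submatrix_diagonal_equiv]
      congr 1; funext j
      simp
    unfold GramSim
    rw [RingHom.coe_id, Matrix.map_id, hdiag,
      show (Matrix.reindexAlgEquiv F F e (Matrix.blockDiagonal B))ᵀ = Matrix.reindexAlgEquiv F F e (Matrix.blockDiagonal B)ᵀ from rfl,
      ← map_mul, ← map_mul, Matrix.blockDiagonal_transpose, ← Matrix.blockDiagonal_mul, ← Matrix.blockDiagonal_mul,
      h2', Matrix.blockDiagonal_smul, map_smul]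

/-- Elements of prime order of PSL_n(q), q odd, and the subgroups of orthogonal type. Here `T = PSL_n(F)` for a field `F` with `q` elements, `q` odd, `n ≥ 3`; `Q` is a non-degenerate quadratic form on `F^n` (of either type when `n` is even) and `H` is the subgroup of matrices of determinant 1 that preserve `Q` up to a scalar — a subgroup of type O^ε_n(q) (maximality is not assumed); Ω is the set of cosets of `H` in `T`, so an element of `T` of prime order `r` (a matrix `x` of determinant 1 with `x^r` scalar, `x` not scalar) fixes a point of Ω exactly when some conjugate of `x` by a matrix of determinant 1 preserves `Q` up to a scalar. Let `r` be a prime dividing the index of `H`, with `(n, r) ≠ (6, 3)`. Then every element of `T` of order `r` fixes a point of Ω if and only if `r = 2`, or `r ∈ {3, 5}`, `n = r` and `(q − 1)_r = r` (the `r`-part of `q − 1` is exactly `r`). The case `(n, r) = (6, 3)` is not covered by this statement. -/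
theorem result {F : Type*} [Field F] [Fintype F] {p : ℕ} [Fact p.Prime] [CharP F p] {q : ℕ} (hq : Fintype.card F = q)
    (hodd : Odd q) (n : ℕ) (hn : 3 ≤ n) (Q : (Fin n → F) → F) (hQ : Cfsg.Geo.IsNondegenerateQuadraticForm Q)
    (r : ℕ) [Fact r.Prime] (hgap : ¬ (n = 6 ∧ r = 3))
    (hΩ : r ∣ (Cfsg.Geo.quadSimilarityGroup Q).relIndex (Cfsg.Geo.specialLinear (Fin n) F)) :
    (∀ x ∈ Cfsg.Geo.specialLinear (Fin n) F, (∃ z : F, ((x ^ r : GL (Fin n) F) : Matrix (Fin n) (Fin n) F) = z • (1 : Matrix (Fin n) (Fin n) F)) →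
      (∀ z : F, (x : Matrix (Fin n) (Fin n) F) ≠ z • (1 : Matrix (Fin n) (Fin n) F)) →
      ∃ g ∈ Cfsg.Geo.specialLinear (Fin n) F, g⁻¹ * x * g ∈ Cfsg.Geo.quadSimilarityGroup Q) ↔
    (r = 2 ∨ ((r = 3 ∨ r = 5) ∧ n = r ∧ padicValNat r (q - 1) = 1)) := by
  classical
  subst hq
  have h2 : (2 : F) ≠ 0 := Ring.two_ne_zero fun h => by
    have := FiniteField.even_card_iff_char_two.mp h
    have := Nat.odd_iff.mp hodd
    omega
  obtain ⟨Qf, rfl, hnd⟩ := exists_quadForm hQ
  obtain ⟨G, hGu, hGt, hGp, -⟩ := CfsgLib.SemiClasses.gram_spec Qf hnd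
  haveI : Nonempty (Fin n) := ⟨⟨0, by omega⟩⟩
  have hmem : ∀ g : GL (Fin n) F, g ∈ Cfsg.Geo.quadSimilarityGroup ⇑Qf ↔
      ∃ μ : Fˣ, GramSim (RingHom.id F) G (g : Matrix (Fin n) (Fin n) F) (μ : F) := fun g =>
    exists_congr fun μ => sim_iff h2 Qf G hGp _ _
  have hid : ∀ M : Matrix (Fin n) (Fin n) F, M.map (RingHom.id F) = M := fun M => by
    rw [RingHom.coe_id, Matrix.map_id]
  have conjd : ∀ (x g : GL (Fin n) F), (((g⁻¹ * x * g : GL (Fin n) F)) : Matrix (Fin n) (Fin n) F) =
      ((g⁻¹ : GL (Fin n) F) : Matrix (Fin n) (Fin n) F) * x * g := fun x g => by rw [Units.val_mul, Units.val_mul]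
  -- conjugating into the subgroup
  have into : ∀ (x : GL (Fin n) F) (R Y G' : Matrix (Fin n) (Fin n) F) (μ : F), μ ≠ 0 → IsUnit R.det →
      G = Rᵀ * G' * R → GramSim (RingHom.id F) G' Y μ → (∃ P' : Matrix (Fin n) (Fin n) F,
        P'.det = 1 ∧ (x : Matrix (Fin n) (Fin n) F) * P' = P' * (R⁻¹ * Y * R)) →
      ∃ g ∈ Cfsg.Geo.specialLinear (Fin n) F, g⁻¹ * x * g ∈ Cfsg.Geo.quadSimilarityGroup ⇑Qf := by
    rintro x R Y G' μ hμ hR hGR hsim ⟨P', hP', hxP⟩
    refine ⟨Matrix.GeneralLinearGroup.mkOfDetNeZero P' (by rw [hP']; exact one_ne_zero), Units.ext hP', (hmem _).mpr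
      ⟨Units.mk0 μ hμ, ?_⟩⟩
    obtain ⟨g, hg⟩ : ∃ g : GL (Fin n) F, g = Matrix.GeneralLinearGroup.mkOfDetNeZero P' (by rw [hP']; exact one_ne_zero) :=
      ⟨_, rfl⟩
    rw [← hg]
    have hgP : (g : Matrix (Fin n) (Fin n) F) = P' := by rw [hg]; rfl
    have he : ((g⁻¹ * x * g : GL (Fin n) F) : Matrix (Fin n) (Fin n) F) = R⁻¹ * Y * R := by
      rw [conjd, Matrix.mul_assoc, hgP, hxP, ← hgP, ← Matrix.mul_assoc, ← Units.val_mul,
        inv_mul_cancel, Units.val_one, Matrix.one_mul]
    rw [he, hGR, Units.val_mk0]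
    have h := gramSim_pull hsim (x := R⁻¹ * Y * R) (R := R)
      (by rw [Matrix.mul_assoc R⁻¹, ← Matrix.mul_assoc R, Matrix.mul_nonsing_inv _ hR, Matrix.one_mul])
    rwa [hid] at h
  -- a conjugate in the subgroup
  have outof : ∀ (x g : GL (Fin n) F), g⁻¹ * x * g ∈ Cfsg.Geo.quadSimilarityGroup ⇑Qf →
      ∃ (G' : Matrix (Fin n) (Fin n) F) (μ : F), μ ≠ 0 ∧ G'ᵀ = G' ∧ IsUnit G'.det ∧
        GramSim (RingHom.id F) G' (x : Matrix (Fin n) (Fin n) F) μ := by
    intro x g h
    obtain ⟨μ, hμ⟩ := (hmem _).mp h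
    obtain ⟨R, hRdef⟩ : ∃ R, R = ((g⁻¹ : GL (Fin n) F) : Matrix (Fin n) (Fin n) F) := ⟨_, rfl⟩
    refine ⟨Rᵀ * G * R.map (RingHom.id F), μ, μ.ne_zero, ?_, ?_, gramSim_pull hμ ?_⟩
    · rw [hid, Matrix.transpose_mul, Matrix.transpose_mul, Matrix.transpose_transpose, hGt, Matrix.mul_assoc]
    · rw [hid, Matrix.det_mul, Matrix.det_mul, Matrix.det_transpose]
      have hRu : IsUnit R.det := by rw [hRdef]; exact (Matrix.isUnit_iff_isUnit_det _).mp (g⁻¹).isUnit
      exact (hRu.mul hGu).mul hRu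
    · rw [hRdef, ← Units.val_mul, ← Units.val_mul, show g⁻¹ * x * g * g⁻¹ = g⁻¹ * x by group]
  simp only [Units.val_pow_eq_pow_val]
  have hrprime := (Fact.out : r.Prime)
  have hq2 : 2 ≤ Fintype.card F := Fintype.one_lt_card
  by_cases hr2 : r = 2
  · subst hr2
    refine iff_of_true (fun x hxSL hz hx' => ?_) (Or.inl rfl)
    obtain ⟨c, hx⟩ := hz
    have hdetx : (x : Matrix (Fin n) (Fin n) F).det = 1 := congrArg Units.val hxSL
    have hc0 := scalar_data (r := 2) hdetx (by omega) hx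
    obtain ⟨b, hb⟩ := orth_basis h2 Qf
    obtain ⟨eb, -⟩ : ∃ eb : Fin (Module.finrank F (Fin n → F)) ≃ Fin n, eb = finCongr (Module.finrank_fin_fun F) := ⟨_, rfl⟩
    let b' := b.reindex eb
    obtain ⟨R₀, hR₀⟩ : ∃ R₀ : Matrix (Fin n) (Fin n) F, R₀ = Matrix.of fun i j => b' j i := ⟨_, rfl⟩
    obtain ⟨a, ha⟩ : ∃ a : Fin n → F, a = fun j => polar Qf (b' j) (b' j) := ⟨_, rfl⟩
    have hR₀G : R₀ᵀ * G * R₀ = Matrix.diagonal a := by
      ext i j
      have h1 : (R₀ᵀ * G * R₀) i j = polar Qf (b' i) (b' j) := by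
        rw [← hGp, Matrix.mul_assoc, Matrix.mul_apply]
        simp only [dotProduct, Matrix.mulVec, Matrix.mul_apply, Matrix.transpose_apply, hR₀, Matrix.of_apply]
      rw [h1]
      by_cases hij : i = j
      · subst hij; rw [Matrix.diagonal_apply_eq, ha]
      · rw [Matrix.diagonal_apply_ne _ hij]
        simp only [b', Module.Basis.reindex_apply]
        exact hb _ _ fun h => hij (eb.symm.injective h)
    have hR₀u : IsUnit R₀.det := by
      rw [← Matrix.isUnit_iff_isUnit_det, ← Matrix.linearIndependent_cols_iff_isUnit]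
      rw [hR₀]
      exact b'.linearIndependent
    have ha0 : ∀ j, a j ≠ 0 := fun j h0 => by
      have h1 := congrArg Matrix.det hR₀G
      rw [Matrix.det_mul, Matrix.det_mul, Matrix.det_transpose, Matrix.det_diagonal,
        Finset.prod_eq_zero (Finset.mem_univ j) h0] at h1
      exact ((hR₀u.mul hGu).mul hR₀u).ne_zero h1
    obtain ⟨R, hRdef⟩ : ∃ R, R = R₀⁻¹ := ⟨_, rfl⟩
    have hRu : IsUnit R.det := hRdef ▸ Matrix.isUnit_nonsing_inv_det _ hR₀u
    have hGR : G = Rᵀ * Matrix.diagonal a * R := by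
      rw [hRdef, ← hR₀G, Matrix.transpose_nonsing_inv, ← Matrix.mul_assoc, ← Matrix.mul_assoc,
        Matrix.nonsing_inv_mul _ (by rwa [Matrix.det_transpose]), Matrix.one_mul, Matrix.mul_assoc,
        Matrix.mul_nonsing_inv _ hR₀u, Matrix.mul_one]
    have hcancel : ∀ P Z : Matrix (Fin n) (Fin n) F, P * R * (R⁻¹ * Z * R) = P * Z * R := fun P Z => by
      simp only [Matrix.mul_assoc, Matrix.mul_nonsing_inv_cancel_left _ _ hRu]
    by_cases hs : ∃ s : F, s ^ 2 = c
    · obtain ⟨s, hs⟩ := hs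
      have hs0 : s ≠ 0 := fun h0 => hc0 (by rw [← hs, h0, zero_pow two_ne_zero])
      obtain ⟨M, hMdef⟩ : ∃ M, M = s⁻¹ • (x : Matrix (Fin n) (Fin n) F) := ⟨_, rfl⟩
      have hM : M * M = 1 := by
        rw [← pow_two, hMdef, _root_.smul_pow, hx, smul_smul, ← hs, ← mul_pow, inv_mul_cancel₀ hs0, one_pow, one_smul]
      obtain ⟨P, d, hP, hMP⟩ := Cfsg.Agent.S5967.exists_sign_basis h2 M hM
      have hxP : (x : Matrix (Fin n) (Fin n) F) * P = P * Matrix.diagonal (fun j => if d j then s else -s) := by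
        have hxM : (x : Matrix (Fin n) (Fin n) F) = s • M := by rw [hMdef, smul_smul, mul_inv_cancel₀ hs0, one_smul]
        rw [hxM, Matrix.smul_mul, hMP, ← Matrix.mul_smul, ← Matrix.diagonal_smul]
        congr 2; funext j
        simp only [Pi.smul_apply, smul_eq_mul]
        split_ifs <;> ring
      refine into x R (Matrix.diagonal fun j => if d j then s else -s) (Matrix.diagonal a) (s * s)
        (mul_ne_zero hs0 hs0) hRu hGR ?_ ⟨P * Matrix.diagonal (Function.update (1 : Fin n → F) ⟨0, by omega⟩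
          (P.det * R.det)⁻¹) * R, ?_, ?_⟩
      · show (Matrix.diagonal _)ᵀ * Matrix.diagonal a * (Matrix.diagonal _).map (RingHom.id F) = _
        rw [hid, Matrix.diagonal_transpose, Matrix.diagonal_mul_diagonal, Matrix.diagonal_mul_diagonal,
          ← Matrix.diagonal_smul]
        congr 1; funext j
        simp only [Pi.smul_apply, smul_eq_mul]
        split_ifs <;> ring
      · rw [Matrix.det_mul, Matrix.det_mul, Matrix.det_diagonal, Finset.prod_update_of_mem (Finset.mem_univ _)]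
        simp only [Pi.one_apply, Finset.prod_const_one, mul_one]
        field_simp [hP.ne_zero, hRu.ne_zero]
      · rw [hcancel, ← Matrix.mul_assoc, ← Matrix.mul_assoc, hxP,
          Matrix.mul_assoc P, Matrix.mul_assoc P (Matrix.diagonal _) (Matrix.diagonal _), Matrix.diagonal_mul_diagonal,
          Matrix.diagonal_mul_diagonal]
        congr 3; funext j; ring
    · push Not at hs
      obtain ⟨h2n, hcp, -⟩ := nonsplit (r := 2) _ hs hx
      obtain ⟨Y, hY, hYsim⟩ := exists_pairs (Nat.odd_iff.mp hodd) h2n a ha0 c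
      obtain ⟨Z, hZ⟩ : ∃ Z, Z = R⁻¹ * Y * R := ⟨_, rfl⟩
      have hZ2 : Z ^ 2 = c • 1 := by
        have e : Z * Z = R⁻¹ * (Y * Y) * R := by
          rw [hZ]; simp only [Matrix.mul_assoc, Matrix.mul_nonsing_inv_cancel_left _ _ hRu]
        rw [pow_two, e, ← pow_two, hY, Matrix.mul_smul, Matrix.mul_one, Matrix.smul_mul, Matrix.nonsing_inv_mul _ hRu]
      have hm : ((2 * (Fintype.card F - 1) : ℕ) : F) ≠ 0 := by
        rw [Nat.cast_mul, Nat.cast_sub (by omega), FiniteField.cast_card_eq_zero]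
        simpa using h2
      have hpow : ∀ W : Matrix (Fin n) (Fin n) F, W ^ 2 = c • 1 → W ^ (2 * (Fintype.card F - 1)) = 1 := fun W hW => by
        rw [pow_mul, hW, _root_.smul_pow, one_pow, FiniteField.pow_card_sub_one_eq_one c hc0, one_smul]
      obtain ⟨P', hP', hxP'⟩ := conj_core (show 0 < n by omega) hm (hpow _ hx) (hpow _ hZ2)
        (hcp.trans (nonsplit (r := 2) _ hs hZ2).2.1.symm)
      exact into x R Y (Matrix.diagonal a) c hc0 hRu hGR hYsim ⟨P', hP', hZ ▸ hxP'⟩
  by_cases hrp : r = p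
  · subst hrp
    refine iff_of_false (fun h => ?_) ?_
    · obtain ⟨i, j, hij⟩ : ∃ i j : Fin n, i ≠ j := ⟨⟨0, by omega⟩, ⟨1, by omega⟩, by simp⟩
      have hdet : (Matrix.transvection i j (1 : F)).det = 1 := Matrix.det_transvection_of_ne _ _ hij _
      have hpow : ∀ k : ℕ, Matrix.transvection i j (1 : F) ^ k = Matrix.transvection i j (k : F) := fun k => by
        induction k with
        | zero => simp
        | succ k ih => rw [pow_succ, ih, Matrix.transvection_mul_transvection_same _ _ hij, Nat.cast_succ]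
      obtain ⟨g, -, hg⟩ := h (Matrix.GeneralLinearGroup.mkOfDetNeZero (Matrix.transvection i j (1 : F))
          (by rw [hdet]; exact one_ne_zero)) (Units.ext hdet) ⟨1, by
            show Matrix.transvection i j (1 : F) ^ r = _
            rw [hpow, CharP.cast_eq_zero, Matrix.transvection_zero, one_smul]⟩ (fun z hz => by
            have h1 := congrFun (congrFun hz i) j
            replace h1 : Matrix.transvection i j (1 : F) i j = (z • (1 : Matrix (Fin n) (Fin n) F)) i j := h1
            simp [Matrix.transvection, hij] at h1)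
      obtain ⟨G', μ, hμ, hGt', hGu', hsim⟩ := outof _ g hg
      have hsim' : GramSim (RingHom.id F) G' (Matrix.transvection i j 1) μ := hsim
      have h2' := gramSim_pow hsim' r
      rw [hpow, CharP.cast_eq_zero, Matrix.transvection_zero] at h2'
      have h3 : μ ^ r = 1 := eq_of_smul_eq (show 0 < n by omega) hGu' (by rw [← h2', one_smul]; simp)
      have h4 : μ = 1 := frobenius_inj F r (by rw [frobenius_def, frobenius_def, one_pow, h3])
      exact transvection_not_sim h2 hGt' hGu' hij (h4 ▸ hsim')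
    · rintro (h | ⟨-, -, h⟩)
      · exact hr2 h
      · have h1 : r ∣ Fintype.card F - 1 := dvd_of_one_le_padicValNat h.ge
        have h2 : r ∣ Fintype.card F := by
          rw [← ZMod.natCast_eq_zero_iff]
          obtain ⟨k, -, hk⟩ := FiniteField.card F r
          rw [hk, Nat.cast_pow, ZMod.natCast_self, zero_pow k.ne_zero]
        have := Nat.dvd_sub h2 h1
        rw [show Fintype.card F - (Fintype.card F - 1) = 1 by omega] at this
        exact hrprime.ne_one (Nat.dvd_one.mp this)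
  have hrF : (r : F) ≠ 0 := r_ne_zero hrp
  have hrq0 : ¬ r ∣ Fintype.card F := by
    obtain ⟨k, hp, hk⟩ := FiniteField.card F p
    rw [hk]
    exact fun h => hrp ((Nat.prime_dvd_prime_iff_eq hrprime hp).mp (hrprime.dvd_of_dvd_pow h))
  have hidx := orth_index hr2 hrq0 hodd (by omega) Qf hnd (Cfsg.Geo.quadSimilarityGroup ⇑Qf)
    (fun g hg => ⟨1, fun v => by rw [Units.val_one, one_mul]; exact mem_isometryGroup.mp hg v⟩) hΩ
  have hne1 : (1 : ZMod r) ≠ -1 := fun h => hr2 ((Nat.prime_dvd_prime_iff_eq hrprime Nat.prime_two).mp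
    ((ZMod.natCast_eq_zero_iff _ _).mp (by push_cast; linear_combination h)))
  obtain ⟨i, hidef⟩ : ∃ i, i = orderOf (Fintype.card F : ZMod r) := ⟨_, rfl⟩
  have hqz : (Fintype.card F : ZMod r) ≠ 0 := fun h => hrq0 ((ZMod.natCast_eq_zero_iff _ _).mp h)
  have hi0 : i ≠ 0 := by
    rw [hidef]
    refine Nat.pos_iff_ne_zero.mp ((isOfFinOrder_iff_pow_eq_one.mpr ⟨r - 1, by have := hrprime.two_le; omega,
      ZMod.pow_card_sub_one_eq_one hqz⟩).orderOf_pos)
  have hin : ∀ m, n = 2 * m →
      ((CfsgLib.SemiClasses.HasHalf Qf ∧ (Fintype.card F : ZMod r) ^ m = -1) ∨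
        (¬ CfsgLib.SemiClasses.HasHalf Qf ∧ (Fintype.card F : ZMod r) ^ m = 1)) → i ∣ n := by
    intro m hnm hm
    rw [hnm, hidef]
    refine orderOf_dvd_of_pow_eq_one ?_
    rcases hm with ⟨-, e⟩ | ⟨-, e⟩ <;> rw [mul_comm, pow_mul, e] <;> simp
  simp only [hr2, false_or]
  by_cases hi1 : i = 1
  swap
  · have hi2 : 2 ≤ orderOf (Fintype.card F : ZMod r) := by omega
    have hμ1 : ∀ (G' X : Matrix (Fin n) (Fin n) F) (μ : F), IsUnit G'.det → μ ≠ 0 → X ^ r = 1 →
        GramSim (RingHom.id F) G' X μ → μ = 1 := by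
      intro G' X μ hGu' hμ hXr hsim'
      have h1 := gramSim_pow hsim' r
      rw [hXr] at h1
      have h2 : μ ^ r = 1 := eq_of_smul_eq (show 0 < n by omega) hGu' (by rw [← h1, one_smul]; simp)
      have h3 : orderOf (Units.mk0 μ hμ) ∣ r := orderOf_dvd_of_pow_eq_one (Units.ext (by simpa using h2))
      rcases (Nat.dvd_prime hrprime).mp h3 with h | h
      · simpa [orderOf_eq_one_iff, Units.ext_iff] using h
      · have h4 := orderOf_dvd_natCard (Units.mk0 μ hμ)
        rw [h, Nat.card_units, Nat.card_eq_fintype_card] at h4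
        exact absurd (hidef.trans (r_dvd_sub_iff.mp h4)) hi1
    refine iff_of_false (fun h => ?_) ?_
    swap
    · rintro ⟨-, -, hv⟩
      exact hi1 (hidef.trans (r_dvd_sub_iff.mp (dvd_of_one_le_padicValNat hv.ge)))
    rcases Nat.even_or_odd i with hev | hio
    · rcases hidx with ⟨j, hj, hjn, hj1⟩ | ⟨m, hnm, hm⟩
      · exact Nat.not_even_iff_odd.mpr hj (even_iff_two_dvd.mpr ((even_iff_two_dvd.mp hev).trans
          (hidef ▸ orderOf_dvd_of_pow_eq_one hj1)))
      have hin' := hin m hnm hm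
      obtain ⟨X, hXdet, hXr, hXne, hXev⟩ := exists_fpf (n := n) hrp hi2 (by omega) (hidef ▸ hin')
      obtain ⟨x, hxX⟩ : ∃ x : GL (Fin n) F, (x : Matrix (Fin n) (Fin n) F) = X :=
        ⟨Matrix.GeneralLinearGroup.mkOfDetNeZero X (by rw [hXdet]; exact one_ne_zero), rfl⟩
      subst hxX
      obtain ⟨g, -, hg⟩ := h x (Units.ext hXdet) ⟨1, by rw [one_smul]; exact hXr⟩ hXne
      obtain ⟨μ, hμ⟩ := hg
      obtain ⟨y, hy⟩ : ∃ y : GL (Fin n) F, y = g⁻¹ * x * g := ⟨_, rfl⟩
      rw [← hy] at hμ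
      have hyr : (y : Matrix (Fin n) (Fin n) F) ^ r = 1 := by
        have hxr : x ^ r = 1 := Units.ext (by rw [Units.val_pow_eq_pow_val, Units.val_one]; exact hXr)
        have h5 := conj_pow (i := r) (a := g⁻¹) (b := x)
        rw [inv_inv] at h5
        rw [← Units.val_pow_eq_pow_val, hy, h5, hxr, mul_one, inv_mul_cancel, Units.val_one]
      have hμe := hμ1 G _ (μ : F) hGu μ.ne_zero hyr ((sim_iff h2 Qf G hGp _ _).mp hμ)
      have hyQ : ∀ v, Qf ((y : Matrix (Fin n) (Fin n) F) *ᵥ v) = Qf v := fun v => by rw [hμ, hμe, one_mul]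
      obtain ⟨P, hPf, hLfin, hζ⟩ := CfsgLib.SemiClasses.exists_root_field F hrprime hrF
      have := hPf
      have := hLfin
      have hcp : (y : Matrix (Fin n) (Fin n) F).charpoly = (x : Matrix (Fin n) (Fin n) F).charpoly := by
        rw [hy, conjd, Matrix.charpoly_mul_comm, ← Matrix.mul_assoc, ← Units.val_mul, mul_inv_cancel, Units.val_one,
          Matrix.one_mul]
      have h0 : CfsgLib.SemiClasses.mult (AdjoinRoot.root P) (y : Matrix (Fin n) (Fin n) F) (0 : ZMod r) = 0 := by
        rw [CfsgLib.SemiClasses.mult, hcp, ZMod.val_zero, pow_zero]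
        refine rootMultiplicity_eq_zero fun h1 => hXev ?_
        rw [IsRoot.def, ← map_one (algebraMap F (AdjoinRoot P)), eval_map, eval₂_hom, ← map_zero (algebraMap F _)] at h1
        exact (algebraMap F (AdjoinRoot P)).injective h1
      have hu : ((Units.mk0 _ hqz : (ZMod r)ˣ) : ZMod r) = (Fintype.card F : ℕ) := rfl
      have hT := CfsgLib.SemiClasses.hasHalf_of_moving hζ hrp hu hr2 hnd hyr hyQ h0
      rw [← orderOf_units, Units.val_mk0, ← hidef, Fintype.card_fin] at hT
      obtain ⟨s, hs⟩ := hev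
      have hs0 : 0 < s := by omega
      have hqs : (Fintype.card F : ZMod r) ^ s = -1 := by
        have h1 : ((Fintype.card F : ZMod r) ^ s) ^ 2 = 1 := by
          rw [← pow_mul, mul_two, ← hs, hidef, pow_orderOf_eq_one]
        refine (sq_eq_one_iff.mp h1).resolve_left fun h2 => ?_
        have := Nat.le_of_dvd hs0 (hidef ▸ orderOf_dvd_of_pow_eq_one h2)
        omega
      have hsm : s ∣ m := by
        rw [hnm, hs, ← two_mul] at hin'
        exact Nat.dvd_of_mul_dvd_mul_left two_pos hin'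
      obtain ⟨k, rfl⟩ := hsm
      have hno : ¬ Odd i := Nat.not_odd_iff_even.mpr ⟨s, hs⟩
      rw [show n / i = k by rw [hnm, hs, ← two_mul, ← mul_assoc, Nat.mul_div_cancel_left _ (by omega)],
        or_iff_right hno] at hT
      rcases hm with ⟨hh, he⟩ | ⟨hh, he⟩
      · rw [pow_mul, hqs, (hT.mp hh).neg_one_pow] at he
        exact hne1 he
      · rw [pow_mul, hqs, (Nat.not_even_iff_odd.mp fun h => hh (hT.mpr h)).neg_one_pow] at he
        exact hne1 he.symm
    · have hin' : i ≤ n := by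
        rcases hidx with ⟨j, hj, hjn, hj1⟩ | ⟨m, hnm, hm⟩
        · exact (Nat.le_of_dvd hj.pos (hidef ▸ orderOf_dvd_of_pow_eq_one hj1)).trans hjn
        · exact Nat.le_of_dvd (by omega) (hin m hnm hm)
      obtain ⟨X, hXdet, hXr, hXne, P, hPf, hα, hroot, hkey⟩ := exists_orbit_witness (n := n) hrp hi2 (hidef ▸ hin')
      obtain ⟨g, -, hg⟩ := h (Matrix.GeneralLinearGroup.mkOfDetNeZero X (by rw [hXdet]; exact one_ne_zero))
        (Units.ext hXdet) ⟨1, by rw [one_smul]; exact hXr⟩ hXne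
      obtain ⟨G', μ, hμ, hGt', hGu', hsim⟩ := outof _ g hg
      have hsim' : GramSim (RingHom.id F) G' X μ := hsim
      obtain rfl := hμ1 G' X μ hGu' hμ hXr hsim'
      have hr1 : X * X ^ (r - 1) = 1 := by rw [← pow_succ', Nat.sub_add_cancel hrprime.one_le, hXr]
      have hconj : X = G'⁻¹ * (X ^ (r - 1))ᵀ * G' := by
        have h1 : (X ^ (r - 1))ᵀ * (Xᵀ * G' * X) = (X ^ (r - 1))ᵀ * G' := by
          unfold GramSim at hsim'
          rw [hid, one_smul] at hsim'
          rw [hsim']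
        rw [← Matrix.mul_assoc, ← Matrix.mul_assoc, ← Matrix.transpose_mul, hr1, Matrix.transpose_one, Matrix.one_mul] at h1
        rw [Matrix.mul_assoc, ← h1, Matrix.nonsing_inv_mul_cancel_left _ _ hGu']
      have hcp : X.charpoly = (X ^ (r - 1)).charpoly := by
        have hu : (G'⁻¹ * (X ^ (r - 1))ᵀ * G').charpoly = ((X ^ (r - 1))ᵀ).charpoly := by
          rw [Matrix.charpoly_mul_comm, ← Matrix.mul_assoc, Matrix.mul_nonsing_inv _ hGu', Matrix.one_mul]
        calc X.charpoly = (G'⁻¹ * (X ^ (r - 1))ᵀ * G').charpoly := by rw [← hconj]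
          _ = _ := by rw [hu, Matrix.charpoly_transpose]
      have hmem' := spectrum.pow_mem_pow (X.map (AdjoinRoot.of P)) (r - 1)
        (Matrix.mem_spectrum_iff_isRoot_charpoly.mpr hroot)
      rw [← Matrix.map_pow, Matrix.mem_spectrum_iff_isRoot_charpoly, Matrix.charpoly_map, ← hcp,
        ← Matrix.charpoly_map] at hmem'
      have hcast : ((r - 1 : ℕ) : ZMod r) = -1 := by
        rw [Nat.cast_sub hrprime.one_le, ZMod.natCast_self, Nat.cast_one, zero_sub]
      obtain ⟨j, hj⟩ := hkey (r - 1) (by rw [hcast]; exact neg_ne_zero.mpr one_ne_zero) hmem'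
      rw [hcast] at hj
      have h1 : (Fintype.card F : ZMod r) ^ (2 * j) = 1 := by rw [mul_comm, pow_mul, ← hj, neg_one_sq]
      obtain ⟨k, hk⟩ := (Nat.coprime_two_right.mpr hio).dvd_of_dvd_mul_left (hidef ▸ orderOf_dvd_of_pow_eq_one h1)
      rw [hk, pow_mul, hidef, pow_orderOf_eq_one, one_pow] at hj
      exact hne1 hj.symm
  · have hrq : r ∣ Fintype.card F - 1 := r_dvd_sub_iff.mpr (hidef ▸ hi1)
    have hu1 : (-1 : ZMod r) ≠ 1 := Ne.symm hne1
    obtain ⟨ζ, hζ⟩ := exists_char (F := F) hrq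
    have hζr : ∀ (ξ : AddChar (ZMod r) F) b, ξ b ^ r = 1 := fun ξ b => by
      rw [← ξ.map_nsmul_eq_pow, nsmul_eq_mul, ZMod.natCast_self, zero_mul, ξ.map_zero_eq_one]
    have hξ0 : ∀ (ξ : AddChar (ZMod r) F) b, ξ b ≠ 0 := fun ξ b h0 => by
      have h1 := hζr ξ b
      rw [h0, zero_pow hrprime.ne_zero] at h1
      exact zero_ne_one h1
    -- a diagonal witness
    have diag : ∀ (s : F) (ξ : AddChar (ZMod r) F) (a : Fin n → ZMod r), s ≠ 0 → Function.Injective ξ →
        (¬ ∃ e, ∀ b, (Finset.univ.filter fun j => a j = b).card = (Finset.univ.filter fun j => a j = -1 * b + e).card) →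
        ∏ j, s * ξ (a j) = 1 →
        ¬ ∀ x ∈ Cfsg.Geo.specialLinear (Fin n) F,
          (∃ z : F, (x : Matrix (Fin n) (Fin n) F) ^ r = z • (1 : Matrix (Fin n) (Fin n) F)) →
          (∀ z : F, (x : Matrix (Fin n) (Fin n) F) ≠ z • (1 : Matrix (Fin n) (Fin n) F)) →
          ∃ g ∈ Cfsg.Geo.specialLinear (Fin n) F, g⁻¹ * x * g ∈ Cfsg.Geo.quadSimilarityGroup ⇑Qf := by
      intro s ξ a hs hξ hninv hprod h
      obtain ⟨D, hD⟩ : ∃ D, D = Matrix.diagonal (fun j => s * ξ (a j)) := ⟨_, rfl⟩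
      have hDdet : D.det = 1 := by rw [hD, Matrix.det_diagonal, hprod]
      obtain ⟨g, -, hg⟩ := h (Matrix.GeneralLinearGroup.mkOfDetNeZero D (by rw [hDdet]; exact one_ne_zero))
        (Units.ext hDdet) ⟨s ^ r, by
          show D ^ r = _
          rw [hD, Matrix.diagonal_pow, Matrix.smul_one_eq_diagonal]
          congr 1; funext j
          rw [Pi.pow_apply, mul_pow, hζr, mul_one]⟩ (fun z hz => hninv ⟨a ⟨0, by omega⟩ + a ⟨0, by omega⟩, fun b => by
            have hall : ∀ j, a j = a ⟨0, by omega⟩ := fun j => by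
              have e1 := congrFun (congrFun hz j) j
              have e2 := congrFun (congrFun hz ⟨0, by omega⟩) ⟨0, by omega⟩
              replace e1 : D j j = z := by simpa using e1
              replace e2 : D ⟨0, by omega⟩ ⟨0, by omega⟩ = z := by simpa using e2
              rw [hD, Matrix.diagonal_apply_eq] at e1 e2
              exact hξ (mul_left_cancel₀ hs (e1.trans e2.symm))
            refine congrArg Finset.card (Finset.filter_congr fun j _ => ?_)
            rw [hall j]
            constructor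
            · rintro rfl; ring
            · intro e; linear_combination -e⟩)
      obtain ⟨G', μ, hμ, hGt', hGu', hsim⟩ := outof _ g hg
      refine hninv (exponent_invariant hξ (by omega) hs a (-1) (μ / s) fun b => ?_)
      have := diag_invariant (σ := RingHom.id F) (fun _ => rfl) hGu' hμ (d := fun j => s * ξ (a j))
        (fun j => mul_ne_zero hs (hξ0 _ _)) (by rw [← hD]; exact hsim) (t := s * ξ b) (mul_ne_zero hs (hξ0 _ b))
      rw [RingHom.id_apply, show μ / (s * ξ b) = μ / s * ξ (-1 * b) by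
        have h1 : ξ (-1 * b) = (ξ b)⁻¹ := eq_inv_of_mul_eq_one_left (by
          rw [← ξ.map_add_eq_mul, show -1 * b + b = 0 by ring, ξ.map_zero_eq_one])
        rw [h1, div_mul_eq_div_div, div_eq_mul_inv _ (ξ b)]] at this
      exact this
    by_cases hnr : (r = 3 ∨ r = 5) ∧ n = r
    · obtain ⟨hr35, hnr⟩ := hnr
      have hval : padicValNat r (Fintype.card F - 1) = 1 ↔ ¬ r ^ 2 ∣ Fintype.card F - 1 := by
        have h0 : Fintype.card F - 1 ≠ 0 := by omega
        rw [padicValNat_dvd_iff_le h0]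
        have := one_le_padicValNat_of_dvd h0 hrq
        omega
      rw [hval]
      simp only [hr35, hnr, true_and]
      subst hnr
      by_cases hv : n ^ 2 ∣ Fintype.card F - 1
      · refine iff_of_false ?_ (not_not_intro hv)
        obtain ⟨g, hg⟩ := IsCyclic.exists_ofOrder_eq_natCard (α := Fˣ)
        rw [Nat.card_units, Nat.card_eq_fintype_card] at hg
        have hs := orderOf_pow_orderOf_div (orderOf_pos g).ne' (hg ▸ hv)
        generalize g ^ (orderOf g / n ^ 2) = s at hs
        obtain ⟨w, hw⟩ : ∃ w : F, w = ((s : F) ^ n)⁻¹ := ⟨_, rfl⟩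
        have hwn : w ^ n = 1 := by
          rw [hw, inv_pow, ← pow_mul, ← pow_two, ← Units.val_pow_eq_pow_val, ← hs, pow_orderOf_eq_one, Units.val_one, inv_one]
        have hwinj : Function.Injective (AddChar.zmodChar n hwn) := by
          intro a b hab
          rw [AddChar.zmodChar_apply, AddChar.zmodChar_apply] at hab
          have hw1 : orderOf w = n := by
            refine orderOf_eq_prime hwn fun h1 => ?_
            rw [hw, inv_eq_one, ← Units.val_pow_eq_pow_val, Units.val_eq_one] at h1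
            have := Nat.le_of_dvd (NeZero.pos n) (orderOf_dvd_of_pow_eq_one h1)
            rw [hs] at this
            nlinarith [hrprime.two_le]
          exact ZMod.val_injective n (pow_injOn_Iio_orderOf (by rw [hw1]; exact ZMod.val_lt a)
            (by rw [hw1]; exact ZMod.val_lt b) hab)
        refine diag (s : F) (AddChar.zmodChar n hwn) (Pi.single ⟨0, by omega⟩ 1) s.ne_zero hwinj
          (single_not_invariant hn _ hu1) ?_
        rw [Finset.prod_mul_distrib, Finset.prod_const, Finset.card_univ, Fintype.card_fin,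
          Finset.prod_eq_single ⟨0, by omega⟩ (fun j _ hj => by rw [Pi.single_eq_of_ne hj, AddChar.map_zero_eq_one]) (by simp),
          Pi.single_eq_same, AddChar.zmodChar_apply, ZMod.val_one, pow_one, hw, mul_inv_cancel₀ (pow_ne_zero _ s.ne_zero)]
      · refine iff_of_true ?_ hv
        intro x hxSL hz hx'
        obtain ⟨c, hx⟩ := hz
        obtain ⟨hx1, a, hca, hsum, hne⟩ := split_data hr2 rfl hrq hv hζ hrF (congrArg Units.val hxSL) hx hx'
        obtain ⟨π, e, hπ, hπa⟩ := exists_pairing hr35 rfl a hsum hne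
        obtain ⟨G₀, hGt₀, hGu₀, -, hGsim⟩ := pairing_gram (F := F) π hπ
        obtain ⟨l, hl⟩ : ∃ l : F, l = G.det / G₀.det := ⟨_, rfl⟩
        have hl0 : l ≠ 0 := hl ▸ div_ne_zero hGu.ne_zero hGu₀.ne_zero
        obtain ⟨R, hR, hGR⟩ := congr_of_isSquare h2 Qf hnd hGp (G' := l • G₀) (by rw [Matrix.transpose_smul, hGt₀])
          (by rw [Matrix.det_smul]; exact ((Ne.isUnit hl0).pow _).mul hGu₀) (by
            obtain ⟨k, hk⟩ := hrprime.odd_of_ne_two hr2
            have he : l ^ n = l ^ (2 * k + 1) := congrArg (fun t => l ^ t) hk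
            rw [Matrix.det_smul, Fintype.card_fin, he]
            refine ⟨G.det * l ^ k, ?_⟩
            have : G.det = l * G₀.det := by rw [hl, div_mul_cancel₀ _ hGu₀.ne_zero]
            rw [this]; ring)
        refine into x R (Matrix.diagonal fun j => ζ (a j)) (l • G₀) (ζ e) (hξ0 _ e) hR hGR ?_ ?_
        · have h1 := hGsim (RingHom.id F) (fun j => ζ (a j)) (ζ e) fun j => by
            rw [RingHom.id_apply, ← ζ.map_add_eq_mul, hπa, add_sub_cancel]
          unfold GramSim at h1 ⊢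
          rw [Matrix.mul_smul, Matrix.smul_mul, h1, smul_comm]
        · have hY1 : (Matrix.diagonal fun j => ζ (a j)) ^ n = 1 := by
            rw [Matrix.diagonal_pow, ← Matrix.diagonal_one]
            congr 1; funext j
            exact hζr ζ _
          obtain ⟨P', hP', hxP'⟩ := conj_core (show 0 < n by omega) hrF hx1 (Y := R⁻¹ * (Matrix.diagonal fun j => ζ (a j)) * R) (by
            have hpw : ∀ k : ℕ, (R⁻¹ * (Matrix.diagonal fun j => ζ (a j)) * R) ^ k =
                R⁻¹ * (Matrix.diagonal fun j => ζ (a j)) ^ k * R := by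
              intro k
              induction k with
              | zero => rw [pow_zero, pow_zero, Matrix.mul_one, Matrix.nonsing_inv_mul _ hR]
              | succ k ih =>
                rw [pow_succ, ih, pow_succ]
                simp only [Matrix.mul_assoc, Matrix.mul_nonsing_inv_cancel_left _ _ hR]
            rw [hpw, hY1, Matrix.mul_one, Matrix.nonsing_inv_mul _ hR]) (by
            rw [Matrix.charpoly_mul_comm, ← Matrix.mul_assoc, Matrix.mul_nonsing_inv _ hR, Matrix.one_mul,
              Matrix.charpoly_diagonal, hca])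
          exact ⟨P', hP', hxP'⟩
    · refine iff_of_false ?_ fun hh => hnr ⟨hh.1, hh.2.1⟩
      obtain ⟨k, rfl⟩ : ∃ k, n = 3 + k := ⟨n - 3, by omega⟩
      refine diag 1 ζ (wvec r k) one_ne_zero hζ (wvec_not_invariant hr2 ⟨?_, ?_, ?_⟩ (neg_ne_zero.mpr one_ne_zero) hu1) ?_
      · intro hk h3; exact hnr ⟨Or.inl h3, by omega⟩
      · intro hk h3; exact hgap ⟨by omega, h3⟩
      · intro hk h5; exact hnr ⟨Or.inr h5, by omega⟩
      · simp only [one_mul]
        have h1 : ∀ t : Finset (Fin (3 + k)), ∏ j ∈ t, ζ (wvec r k j) = ζ (∑ j ∈ t, wvec r k j) := by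
          intro t
          induction t using Finset.induction_on with
          | empty => simp
          | insert j t hj ih => rw [Finset.sum_insert hj, Finset.prod_insert hj, ζ.map_add_eq_mul, ih]
        rw [h1, wvec_sum, ζ.map_zero_eq_one]

end Cfsg.Agent.S5981
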